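import Cfsg.Agent.Helper17.ONS1TC.Lemmas

set_option autoImplicit false
set_option linter.all false

noncomputable section

namespace Cfsg.Agent.Helper17.ONS1TC

theorem F1 : act 0 n0 = n0 := d16_0 B0 
theorem F2 : act 1 n0 = n0 := d17_0 B1 
theorem F3 : act 2 n0 = n0 := d18_0 B2 
theorem F4 : act 4 n0 = n0 := d19_0 B3 
theorem F5 : act 5 n0 = n0 := d20_0 B4 
def n1 : Q := act 3 n0
theorem D1 : act 3 n0 = n1 := rfl
theorem F6 : act 0 n1 = n1 := d2_1 D1 (iv D1) F1
theorem F7 : act 1 n1 = n1 := d6_1 D1 (iv D1) F2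
theorem F8 : act 5 n1 = n1 := d13_2 F5 D1 (iv D1)
def n2 : Q := act 2 n1
theorem D2 : act 2 n1 = n2 := rfl
theorem F9 : act 0 n2 = n2 := d1_1 D2 (iv D2) F6
theorem F10 : act 5 n2 = n2 := d11_2 F8 D2 (iv D2)
def n3 : Q := act 4 n1
theorem D3 : act 4 n1 = n3 := rfl
theorem F11 : act 0 n3 = n3 := d3_1 D3 (iv D3) F6
theorem F12 : act 1 n3 = n3 := d7_1 D3 (iv D3) F7
theorem F13 : act 3 n3 = n3 := d12_1 D3 (iv D3) (iv D1) F4 D1
def n4 : Q := act 1 n2
theorem D4 : act 1 n2 = n4 := rfl
theorem F14 : act 2 n4 = n4 := d5_2 D2 D4 (iv D4) (iv D2) F7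
theorem F15 : act 5 n4 = n4 := d8_2 F10 D4 (iv D4)
def n5 : Q := act 3 n2
theorem D5 : act 3 n2 = n5 := rfl
theorem F16 : act 0 n5 = n5 := d2_1 D5 (iv D5) F9
theorem F17 : act 5 n5 = n5 := d13_2 F10 D5 (iv D5)
theorem F18 : act 2 n5 = n5 := d15_2 D2 D5 (iv D5) (iv D2) (iv D1) F3 D1 F8 F6
def n6 : Q := act 4 n2
theorem D6 : act 4 n2 = n6 := rfl
theorem F19 : act 0 n6 = n6 := d3_1 D6 (iv D6) F9
theorem F20 : act 2 n6 = n3 := d10_1 D6 (iv D3) D2
def n7 : Q := act 5 n3
theorem D7 : act 5 n3 = n7 := rfl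
theorem F21 : act 0 n7 = n7 := d4_1 D7 (iv D7) F11
theorem F22 : act 1 n7 = n7 := d8_1 D7 (iv D7) F12
theorem F23 : act 3 n7 = n7 := d13_1 D7 (iv D7) F13
theorem F24 : act 4 n7 = n7 := d14_1 D7 (iv D7) (iv D3) F8 D3
def n8 : Q := act 0 n4
theorem D8 : act 0 n4 = n8 := rfl
theorem F25 : act 1 n8 = n8 := d0_2 D4 D8 (iv D8) (iv D4) F9
theorem F26 : act 2 n8 = n8 := d1_2 F14 D8 (iv D8)
theorem F27 : act 5 n8 = n8 := d4_2 F15 D8 (iv D8)
def n9 : Q := act 3 n4
theorem D9 : act 3 n4 = n9 := rfl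
theorem F28 : act 1 n9 = n5 := d6_1 D9 (iv D5) D4
theorem F29 : act 5 n9 = n9 := d13_2 F15 D9 (iv D9)
def n10 : Q := act 4 n4
theorem D10 : act 4 n4 = n10 := rfl
theorem F30 : act 1 n10 = n6 := d7_1 D10 (iv D6) D4
theorem F31 : act 2 n10 = n10 := d10_1 D10 (iv D10) F14
def n11 : Q := act 4 n5
theorem D11 : act 4 n5 = n11 := rfl
theorem F32 : act 0 n11 = n11 := d3_1 D11 (iv D11) F16
theorem F33 : act 2 n11 = n11 := d10_1 D11 (iv D11) F18
def n12 : Q := act 3 n6
theorem D12 : act 3 n6 = n12 := rfl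
theorem F34 : act 0 n12 = n12 := d2_1 D12 (iv D12) F19
def n13 : Q := act 5 n6
theorem D13 : act 5 n6 = n13 := rfl
theorem F35 : act 0 n13 = n13 := d4_1 D13 (iv D13) F19
theorem F36 : act 2 n13 = n7 := d11_1 D13 (iv D7) (iv F20)
theorem F37 : act 4 n13 = n13 := d14_1 D13 (iv D13) (iv D6) F10 D6
def n14 : Q := act 3 n8
theorem D14 : act 3 n8 = n14 := rfl
theorem F38 : act 0 n14 = n9 := d2_1 D14 (iv D9) D8
theorem F39 : act 1 n14 = n14 := d6_1 D14 (iv D14) F25
theorem F40 : act 5 n14 = n14 := d13_2 F27 D14 (iv D14)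
def n15 : Q := act 4 n8
theorem D15 : act 4 n8 = n15 := rfl
theorem F41 : act 0 n15 = n10 := d3_1 D15 (iv D10) D8
theorem F42 : act 1 n15 = n15 := d7_1 D15 (iv D15) F25
theorem F43 : act 2 n15 = n15 := d10_1 D15 (iv D15) F26
def n16 : Q := act 2 n9
theorem D16 : act 2 n9 = n16 := rfl
theorem F44 : act 1 n16 = n16 := d5_1 D16 (iv D16) F28 F18 (iv F28)
theorem F45 : act 5 n16 = n16 := d11_2 F29 D16 (iv D16)
def n17 : Q := act 4 n9
theorem D17 : act 4 n9 = n17 := rfl
theorem F46 : act 1 n17 = n11 := d7_1 D17 (iv D11) (iv F28)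
def n18 : Q := act 3 n10
theorem D18 : act 3 n10 = n18 := rfl
theorem F47 : act 1 n18 = n12 := d6_1 D18 (iv D12) (iv F30)
def n19 : Q := act 5 n10
theorem D19 : act 5 n10 = n19 := rfl
theorem F48 : act 1 n19 = n13 := d8_1 D19 (iv D13) (iv F30)
theorem F49 : act 2 n19 = n19 := d11_1 D19 (iv D19) F31
theorem F50 : act 4 n19 = n19 := d14_1 D19 (iv D19) (iv D10) F15 D10
def n20 : Q := act 3 n11
theorem D20 : act 3 n11 = n20 := rfl
theorem F51 : act 0 n20 = n20 := d2_1 D20 (iv D20) F32
theorem F52 : act 4 n20 = n12 := d12_2 D11 D20 (iv D12) (iv D6) D5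
def n21 : Q := act 5 n11
theorem D21 : act 5 n11 = n21 := rfl
theorem F53 : act 0 n21 = n21 := d4_1 D21 (iv D21) F32
theorem F54 : act 2 n21 = n21 := d11_1 D21 (iv D21) F33
theorem F55 : act 4 n21 = n21 := d14_1 D21 (iv D21) (iv D11) F17 D11
def n22 : Q := act 2 n12
theorem D22 : act 2 n12 = n22 := rfl
theorem F56 : act 0 n22 = n22 := d1_1 D22 (iv D22) F34
def n23 : Q := act 5 n12
theorem D23 : act 5 n12 = n23 := rfl
theorem F57 : act 0 n23 = n23 := d4_1 D23 (iv D23) F34
theorem F58 : act 3 n23 = n13 := d13_1 D23 (iv D13) D12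
def n24 : Q := act 2 n14
theorem D24 : act 2 n14 = n24 := rfl
theorem F59 : act 0 n24 = n16 := d1_1 D24 (iv D16) (iv F38)
theorem F60 : act 5 n24 = n24 := d11_2 F40 D24 (iv D24)
def n25 : Q := act 4 n14
theorem D25 : act 4 n14 = n25 := rfl
theorem F61 : act 0 n25 = n17 := d3_1 D25 (iv D17) (iv F38)
theorem F62 : act 1 n25 = n25 := d7_1 D25 (iv D25) F39
def n26 : Q := act 3 n15
theorem D26 : act 3 n15 = n26 := rfl
theorem F63 : act 0 n26 = n18 := d2_1 D26 (iv D18) (iv F41)
theorem F64 : act 1 n26 = n26 := d6_1 D26 (iv D26) F42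
def n27 : Q := act 5 n15
theorem D27 : act 5 n15 = n27 := rfl
theorem F65 : act 0 n27 = n19 := d4_1 D27 (iv D19) (iv F41)
theorem F66 : act 1 n27 = n27 := d8_1 D27 (iv D27) F42
theorem F67 : act 2 n27 = n27 := d11_1 D27 (iv D27) F43
theorem F68 : act 4 n27 = n27 := d14_1 D27 (iv D27) (iv D15) F27 D15
def n28 : Q := act 3 n16
theorem D28 : act 3 n16 = n28 := rfl
theorem F69 : act 1 n28 = n28 := d6_1 D28 (iv D28) F44
theorem F70 : act 5 n28 = n28 := d13_2 F45 D28 (iv D28)
def n29 : Q := act 4 n16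
theorem D29 : act 4 n16 = n29 := rfl
theorem F71 : act 1 n29 = n29 := d7_1 D29 (iv D29) F44
theorem F72 : act 2 n29 = n17 := d10_1 D29 (iv D17) D16
def n30 : Q := act 3 n17
theorem D30 : act 3 n17 = n30 := rfl
theorem F73 : act 1 n30 = n20 := d6_1 D30 (iv D20) (iv F46)
theorem F74 : act 4 n30 = n18 := d12_2 D17 D30 (iv D18) (iv D10) D9
def n31 : Q := act 5 n17
theorem D31 : act 5 n17 = n31 := rfl
theorem F75 : act 1 n31 = n21 := d8_1 D31 (iv D21) (iv F46)
theorem F76 : act 4 n31 = n31 := d14_1 D31 (iv D31) (iv D17) F29 D17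
def n32 : Q := act 2 n18
theorem D32 : act 2 n18 = n32 := rfl
def n33 : Q := act 5 n18
theorem D33 : act 5 n18 = n33 := rfl
theorem F77 : act 1 n33 = n23 := d8_1 D33 (iv D23) (iv F47)
theorem F78 : act 3 n33 = n19 := d13_1 D33 (iv D19) D18
def n34 : Q := act 2 n20
theorem D34 : act 2 n20 = n34 := rfl
theorem F79 : act 0 n34 = n34 := d1_1 D34 (iv D34) F51
theorem F80 : act 4 n34 = n22 := d10_2 (iv F52) D34 (iv D22)
def n35 : Q := act 5 n20
theorem D35 : act 5 n20 = n35 := rfl
theorem F81 : act 0 n35 = n35 := d4_1 D35 (iv D35) F51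
theorem F82 : act 3 n35 = n21 := d13_1 D35 (iv D21) D20
def n36 : Q := act 1 n22
theorem D36 : act 1 n22 = n36 := rfl
def n37 : Q := act 3 n22
theorem D37 : act 3 n22 = n37 := rfl
theorem F83 : act 0 n37 = n37 := d2_1 D37 (iv D37) F56
theorem F84 : act 2 n37 = n23 := d15_2 D22 D37 F58 F36 F23 (iv F36) (iv F58) (iv D23) F34
theorem F85 : act 5 n37 = n22 := d15_8 (iv D22) (iv D12) F20 F13 (iv F20) D12 D22 D37 F56
def n38 : Q := act 4 n23
theorem D38 : act 4 n23 = n38 := rfl
theorem F86 : act 0 n38 = n38 := d3_1 D38 (iv D38) F57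
theorem F87 : act 3 n38 = n38 := d12_1 D38 (iv D38) F58 F37 (iv F58)
def n39 : Q := act 1 n24
theorem D39 : act 1 n24 = n39 := rfl
theorem F88 : act 0 n39 = n39 := d0_1 D39 (iv D39) F59 F44 (iv F59)
theorem F89 : act 2 n39 = n39 := d5_2 D24 D39 (iv D39) (iv D24) F39
theorem F90 : act 5 n39 = n39 := d8_2 F60 D39 (iv D39)
def n40 : Q := act 3 n24
theorem D40 : act 3 n24 = n40 := rfl
theorem F91 : act 0 n40 = n28 := d2_1 D40 (iv D28) (iv F59)
theorem F92 : act 5 n40 = n40 := d13_2 F60 D40 (iv D40)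
theorem F93 : act 2 n40 = n28 := d15_2 D24 D40 (iv D28) (iv D16) (iv D9) F14 D9 F29 (iv F38)
def n41 : Q := act 4 n24
theorem D41 : act 4 n24 = n41 := rfl
theorem F94 : act 0 n41 = n29 := d3_1 D41 (iv D29) (iv F59)
theorem F95 : act 2 n41 = n25 := d10_1 D41 (iv D25) D24
def n42 : Q := act 3 n25
theorem D42 : act 3 n25 = n42 := rfl
theorem F96 : act 0 n42 = n30 := d2_1 D42 (iv D30) (iv F61)
theorem F97 : act 1 n42 = n42 := d6_1 D42 (iv D42) F62
theorem F98 : act 4 n42 = n26 := d12_2 D25 D42 (iv D26) (iv D15) D14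
def n43 : Q := act 5 n25
theorem D43 : act 5 n25 = n43 := rfl
theorem F99 : act 0 n43 = n31 := d4_1 D43 (iv D31) (iv F61)
theorem F100 : act 1 n43 = n43 := d8_1 D43 (iv D43) F62
theorem F101 : act 4 n43 = n43 := d14_1 D43 (iv D43) (iv D25) F40 D25
def n44 : Q := act 2 n26
theorem D44 : act 2 n26 = n44 := rfl
theorem F102 : act 0 n44 = n32 := d1_1 D44 (iv D32) (iv F63)
def n45 : Q := act 5 n26
theorem D45 : act 5 n26 = n45 := rfl
theorem F103 : act 0 n45 = n33 := d4_1 D45 (iv D33) (iv F63)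
theorem F104 : act 1 n45 = n45 := d8_1 D45 (iv D45) F64
theorem F105 : act 3 n45 = n27 := d13_1 D45 (iv D27) D26
def n46 : Q := act 4 n28
theorem D46 : act 4 n28 = n46 := rfl
theorem F106 : act 1 n46 = n46 := d7_1 D46 (iv D46) F69
def n47 : Q := act 3 n29
theorem D47 : act 3 n29 = n47 := rfl
theorem F107 : act 1 n47 = n47 := d6_1 D47 (iv D47) F71
def n48 : Q := act 5 n29
theorem D48 : act 5 n29 = n48 := rfl
theorem F108 : act 1 n48 = n48 := d8_1 D48 (iv D48) F71
theorem F109 : act 2 n48 = n31 := d11_1 D48 (iv D31) (iv F72)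
theorem F110 : act 4 n48 = n48 := d14_1 D48 (iv D48) (iv D29) F45 D29
def n49 : Q := act 2 n30
theorem D49 : act 2 n30 = n49 := rfl
theorem F111 : act 4 n49 = n32 := d10_2 (iv F74) D49 (iv D32)
def n50 : Q := act 5 n30
theorem D50 : act 5 n30 = n50 := rfl
theorem F112 : act 1 n50 = n35 := d8_1 D50 (iv D35) (iv F73)
theorem F113 : act 3 n50 = n31 := d13_1 D50 (iv D31) D30
def n51 : Q := act 1 n32
theorem D51 : act 1 n32 = n51 := rfl
theorem F114 : act 2 n51 = n36 := d5_2 D32 D51 (iv D36) (iv D22) (iv F47)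
def n52 : Q := act 3 n32
theorem D52 : act 3 n32 = n52 := rfl
def n53 : Q := act 5 n32
theorem D53 : act 5 n32 = n53 := rfl
theorem F115 : act 2 n53 = n33 := d11_1 D53 (iv D33) D32
def n54 : Q := act 4 n33
theorem D54 : act 4 n33 = n54 := rfl
theorem F116 : act 1 n54 = n38 := d7_1 D54 (iv D38) (iv F77)
theorem F117 : act 3 n54 = n54 := d12_1 D54 (iv D54) F78 F50 (iv F78)
def n55 : Q := act 1 n34
theorem D55 : act 1 n34 = n55 := rfl
theorem F118 : act 4 n55 = n36 := d7_2 (iv F80) D55 (iv D36)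
def n56 : Q := act 3 n34
theorem D56 : act 3 n34 = n56 := rfl
theorem F119 : act 0 n56 = n56 := d2_1 D56 (iv D56) F79
def n57 : Q := act 5 n34
theorem D57 : act 5 n34 = n57 := rfl
theorem F120 : act 0 n57 = n57 := d4_1 D57 (iv D57) F79
theorem F121 : act 2 n57 = n35 := d11_1 D57 (iv D35) D34
def n58 : Q := act 4 n35
theorem D58 : act 4 n35 = n58 := rfl
theorem F122 : act 0 n58 = n58 := d3_1 D58 (iv D58) F81
theorem F123 : act 3 n58 = n58 := d12_1 D58 (iv D58) F82 F55 (iv F82)
theorem F124 : act 5 n58 = n38 := d14_2 D35 D58 (iv D38) (iv D23) (iv F52)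
def n59 : Q := act 0 n36
theorem D59 : act 0 n36 = n59 := rfl
theorem F125 : act 1 n59 = n59 := d0_2 D36 D59 (iv D59) (iv D36) F56
def n60 : Q := act 3 n36
theorem D60 : act 3 n36 = n60 := rfl
theorem F126 : act 1 n60 = n37 := d6_1 D60 (iv D37) D36
theorem F127 : act 5 n36 = n60 := d8_0 F126 F85 D36
def n61 : Q := act 4 n37
theorem D61 : act 4 n37 = n61 := rfl
theorem F128 : act 0 n61 = n61 := d3_1 D61 (iv D61) F83
theorem F129 : act 2 n61 = n38 := d10_1 D61 (iv D38) (iv F84)
def n62 : Q := act 3 n39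
theorem D62 : act 3 n39 = n62 := rfl
theorem F130 : act 0 n62 = n62 := d2_1 D62 (iv D62) F88
theorem F131 : act 1 n62 = n40 := d6_1 D62 (iv D40) D39
theorem F132 : act 5 n62 = n62 := d13_2 F90 D62 (iv D62)
theorem F133 : act 2 n62 = n62 := d5_0 F131 F93 F69 (iv F93) (iv F131)
def n63 : Q := act 4 n39
theorem D63 : act 4 n39 = n63 := rfl
theorem F134 : act 0 n63 = n63 := d3_1 D63 (iv D63) F88
theorem F135 : act 1 n63 = n41 := d7_1 D63 (iv D41) D39
theorem F136 : act 2 n63 = n63 := d10_1 D63 (iv D63) F89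
def n64 : Q := act 4 n40
theorem D64 : act 4 n40 = n64 := rfl
theorem F137 : act 0 n64 = n46 := d3_1 D64 (iv D46) (iv F91)
theorem F138 : act 2 n64 = n46 := d10_1 D64 (iv D46) (iv F93)
def n65 : Q := act 3 n41
theorem D65 : act 3 n41 = n65 := rfl
theorem F139 : act 0 n65 = n47 := d2_1 D65 (iv D47) (iv F94)
def n66 : Q := act 5 n41
theorem D66 : act 5 n41 = n66 := rfl
theorem F140 : act 0 n66 = n48 := d4_1 D66 (iv D48) (iv F94)
theorem F141 : act 2 n66 = n43 := d11_1 D66 (iv D43) (iv F95)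
theorem F142 : act 4 n66 = n66 := d14_1 D66 (iv D66) (iv D41) F60 D41
def n67 : Q := act 2 n42
theorem D67 : act 2 n42 = n67 := rfl
theorem F143 : act 0 n67 = n49 := d1_1 D67 (iv D49) (iv F96)
theorem F144 : act 4 n67 = n44 := d10_2 (iv F98) D67 (iv D44)
def n68 : Q := act 5 n42
theorem D68 : act 5 n42 = n68 := rfl
theorem F145 : act 0 n68 = n50 := d4_1 D68 (iv D50) (iv F96)
theorem F146 : act 1 n68 = n68 := d8_1 D68 (iv D68) F97
theorem F147 : act 3 n68 = n43 := d13_1 D68 (iv D43) D42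
def n69 : Q := act 1 n44
theorem D69 : act 1 n44 = n69 := rfl
theorem F148 : act 2 n69 = n69 := d5_2 D44 D69 (iv D69) (iv D44) F64
def n70 : Q := act 3 n44
theorem D70 : act 3 n44 = n70 := rfl
theorem F149 : act 0 n70 = n52 := d2_1 D70 (iv D52) (iv F102)
def n71 : Q := act 5 n44
theorem D71 : act 5 n44 = n71 := rfl
theorem F150 : act 0 n71 = n53 := d4_1 D71 (iv D53) (iv F102)
theorem F151 : act 2 n71 = n45 := d11_1 D71 (iv D45) D44
def n72 : Q := act 4 n45
theorem D72 : act 4 n45 = n72 := rfl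
theorem F152 : act 0 n72 = n54 := d3_1 D72 (iv D54) (iv F103)
theorem F153 : act 1 n72 = n72 := d7_1 D72 (iv D72) F104
theorem F154 : act 3 n72 = n72 := d12_1 D72 (iv D72) F105 F68 (iv F105)
def n73 : Q := act 3 n46
theorem D73 : act 3 n46 = n73 := rfl
theorem F155 : act 1 n73 = n73 := d6_1 D73 (iv D73) F106
theorem F156 : act 4 n73 = n47 := d12_2 D46 D73 (iv D47) (iv D29) D28
def n74 : Q := act 5 n46
theorem D74 : act 5 n46 = n74 := rfl
theorem F157 : act 1 n74 = n74 := d8_1 D74 (iv D74) F106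
theorem F158 : act 4 n74 = n74 := d14_1 D74 (iv D74) (iv D46) F70 D46
def n75 : Q := act 2 n47
theorem D75 : act 2 n47 = n75 := rfl
def n76 : Q := act 5 n47
theorem D76 : act 5 n47 = n76 := rfl
theorem F159 : act 1 n76 = n76 := d8_1 D76 (iv D76) F107
theorem F160 : act 3 n76 = n48 := d13_1 D76 (iv D48) D47
def n77 : Q := act 1 n49
theorem D77 : act 1 n49 = n77 := rfl
theorem F161 : act 2 n77 = n55 := d5_2 D49 D77 (iv D55) (iv D34) (iv F73)
theorem F162 : act 4 n77 = n51 := d7_2 (iv F111) D77 (iv D51)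
def n78 : Q := act 3 n49
theorem D78 : act 3 n49 = n78 := rfl
def n79 : Q := act 5 n49
theorem D79 : act 5 n49 = n79 := rfl
theorem F163 : act 2 n79 = n50 := d11_1 D79 (iv D50) D49
def n80 : Q := act 4 n50
theorem D80 : act 4 n50 = n80 := rfl
theorem F164 : act 1 n80 = n58 := d7_1 D80 (iv D58) (iv F112)
theorem F165 : act 3 n80 = n80 := d12_1 D80 (iv D80) F113 F76 (iv F113)
theorem F166 : act 5 n80 = n54 := d14_2 D50 D80 (iv D54) (iv D33) (iv F74)
def n81 : Q := act 0 n51
theorem D81 : act 0 n51 = n81 := rfl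
theorem F167 : act 2 n81 = n59 := d1_2 (iv F114) D81 (iv D59)
def n82 : Q := act 3 n51
theorem D82 : act 3 n51 = n82 := rfl
theorem F168 : act 1 n82 = n52 := d6_1 D82 (iv D52) D51
def n83 : Q := act 5 n51
theorem D83 : act 5 n51 = n83 := rfl
theorem F169 : act 1 n83 = n53 := d8_1 D83 (iv D53) D51
theorem F170 : act 2 n83 = n60 := d11_1 D83 (iv F127) (iv F114)
def n84 : Q := act 2 n52
theorem D84 : act 2 n52 = n84 := rfl
theorem F171 : act 3 n84 = n71 := d15_3 D32 D52 D84 F151 F105 F67 (iv F105) (iv D45) F63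
theorem F172 : act 5 n70 = n84 := d13_0 F171 (iv D71) D70
def n85 : Q := act 4 n52
theorem D85 : act 4 n52 = n85 := rfl
def n86 : Q := act 5 n52
theorem D86 : act 5 n52 = n86 := rfl
theorem F173 : act 0 n86 = n84 := d4_1 D86 (iv F172) F149
theorem F174 : act 2 n86 = n70 := d11_1 D86 F172 (iv D84)
theorem F175 : act 3 n86 = n53 := d13_1 D86 (iv D53) D52
def n87 : Q := act 4 n53
theorem D87 : act 4 n53 = n87 := rfl
theorem F176 : act 2 n87 = n54 := d10_1 D87 (iv D54) (iv F115)
def n88 : Q := act 0 n55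
theorem D88 : act 0 n55 = n88 := rfl
theorem F177 : act 1 n88 = n88 := d0_2 D55 D88 (iv D88) (iv D55) F79
theorem F178 : act 4 n88 = n59 := d3_2 (iv F118) D88 (iv D59)
def n89 : Q := act 3 n55
theorem D89 : act 3 n55 = n89 := rfl
theorem F179 : act 1 n89 = n56 := d6_1 D89 (iv D56) D55
def n90 : Q := act 5 n55
theorem D90 : act 5 n55 = n90 := rfl
theorem F180 : act 1 n90 = n57 := d8_1 D90 (iv D57) D55
def n91 : Q := act 2 n56
theorem D91 : act 2 n56 = n91 := rfl
theorem F181 : act 0 n91 = n91 := d1_1 D91 (iv D91) F119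
theorem F182 : act 3 n91 = n57 := d15_3 D34 D56 D91 F121 F82 F54 (iv F82) (iv D35) F51
theorem F183 : act 5 n56 = n91 := d15_8 (iv D91) (iv D56) (iv D34) (iv D20) F33 D20 D34 D56 F181
def n92 : Q := act 4 n56
theorem D92 : act 4 n56 = n92 := rfl
theorem F184 : act 0 n92 = n92 := d3_1 D92 (iv D92) F119
theorem F185 : act 3 n92 = n61 := d12_1 D92 (iv D61) (iv D37) (iv F80) D56
def n93 : Q := act 4 n57
theorem D93 : act 4 n57 = n93 := rfl
theorem F186 : act 0 n93 = n93 := d3_1 D93 (iv D93) F120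
theorem F187 : act 2 n93 = n58 := d10_1 D93 (iv D58) (iv F121)
theorem F188 : act 5 n93 = n61 := d14_2 D57 D93 (iv D61) F85 (iv F80)
def n94 : Q := act 3 n59
theorem D94 : act 3 n59 = n94 := rfl
theorem F189 : act 0 n94 = n60 := d2_1 D94 (iv D60) D59
theorem F190 : act 1 n94 = n94 := d6_1 D94 (iv D94) F125
theorem F191 : act 5 n59 = n94 := d4_0 F189 (iv F127) D59
def n95 : Q := act 4 n60
theorem D95 : act 4 n60 = n95 := rfl
theorem F192 : act 1 n95 = n61 := d7_1 D95 (iv D61) (iv F126)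
def n96 : Q := act 4 n62
theorem D96 : act 4 n62 = n96 := rfl
theorem F193 : act 0 n96 = n96 := d3_1 D96 (iv D96) F130
theorem F194 : act 1 n96 = n64 := d7_1 D96 (iv D64) (iv F131)
theorem F195 : act 2 n96 = n96 := d10_1 D96 (iv D96) F133
def n97 : Q := act 3 n63
theorem D97 : act 3 n63 = n97 := rfl
theorem F196 : act 0 n97 = n97 := d2_1 D97 (iv D97) F134
theorem F197 : act 1 n97 = n65 := d6_1 D97 (iv D65) (iv F135)
def n98 : Q := act 5 n63
theorem D98 : act 5 n63 = n98 := rfl
theorem F198 : act 0 n98 = n98 := d4_1 D98 (iv D98) F134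
theorem F199 : act 1 n98 = n66 := d8_1 D98 (iv D66) (iv F135)
theorem F200 : act 2 n98 = n98 := d11_1 D98 (iv D98) F136
theorem F201 : act 4 n98 = n98 := d14_1 D98 (iv D98) (iv D63) F90 D63
def n99 : Q := act 3 n64
theorem D99 : act 3 n64 = n99 := rfl
theorem F202 : act 0 n99 = n73 := d2_1 D99 (iv D73) (iv F137)
theorem F203 : act 4 n99 = n65 := d12_2 D64 D99 (iv D65) (iv D41) D40
def n100 : Q := act 5 n64
theorem D100 : act 5 n64 = n100 := rfl
theorem F204 : act 0 n100 = n74 := d4_1 D100 (iv D74) (iv F137)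
theorem F205 : act 2 n100 = n74 := d11_1 D100 (iv D74) (iv F138)
theorem F206 : act 4 n100 = n100 := d14_1 D100 (iv D100) (iv D64) F92 D64
def n101 : Q := act 2 n65
theorem D101 : act 2 n65 = n101 := rfl
theorem F207 : act 0 n101 = n75 := d1_1 D101 (iv D75) (iv F139)
def n102 : Q := act 5 n65
theorem D102 : act 5 n65 = n102 := rfl
theorem F208 : act 0 n102 = n76 := d4_1 D102 (iv D76) (iv F139)
theorem F209 : act 3 n102 = n66 := d13_1 D102 (iv D66) D65
def n103 : Q := act 1 n67
theorem D103 : act 1 n67 = n103 := rfl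
theorem F210 : act 2 n103 = n103 := d5_2 D67 D103 (iv D103) (iv D67) F97
theorem F211 : act 4 n103 = n69 := d7_2 (iv F144) D103 (iv D69)
def n104 : Q := act 3 n67
theorem D104 : act 3 n67 = n104 := rfl
theorem F212 : act 0 n104 = n78 := d2_1 D104 (iv D78) (iv F143)
def n105 : Q := act 5 n67
theorem D105 : act 5 n67 = n105 := rfl
theorem F213 : act 0 n105 = n79 := d4_1 D105 (iv D79) (iv F143)
theorem F214 : act 2 n105 = n68 := d11_1 D105 (iv D68) D67
def n106 : Q := act 4 n68
theorem D106 : act 4 n68 = n106 := rfl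
theorem F215 : act 0 n106 = n80 := d3_1 D106 (iv D80) (iv F145)
theorem F216 : act 1 n106 = n106 := d7_1 D106 (iv D106) F146
theorem F217 : act 3 n106 = n106 := d12_1 D106 (iv D106) F147 F101 (iv F147)
theorem F218 : act 5 n106 = n72 := d14_2 D68 D106 (iv D72) (iv D45) (iv F98)
def n107 : Q := act 0 n69
theorem D107 : act 0 n69 = n107 := rfl
theorem F219 : act 1 n107 = n81 := d0_2 D69 D107 (iv D81) (iv D51) (iv F102)
theorem F220 : act 2 n107 = n107 := d1_2 F148 D107 (iv D107)
def n108 : Q := act 3 n69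
theorem D108 : act 3 n69 = n108 := rfl
theorem F221 : act 1 n108 = n70 := d6_1 D108 (iv D70) D69
def n109 : Q := act 5 n69
theorem D109 : act 5 n69 = n109 := rfl
theorem F222 : act 1 n109 = n71 := d8_1 D109 (iv D71) D69
theorem F223 : act 2 n109 = n109 := d11_1 D109 (iv D109) F148
def n110 : Q := act 4 n70
theorem D110 : act 4 n70 = n110 := rfl
theorem F224 : act 0 n110 = n85 := d3_1 D110 (iv D85) (iv F149)
def n111 : Q := act 4 n71
theorem D111 : act 4 n71 = n111 := rfl
theorem F225 : act 0 n111 = n87 := d3_1 D111 (iv D87) (iv F150)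
theorem F226 : act 2 n111 = n72 := d10_1 D111 (iv D72) (iv F151)
def n112 : Q := act 2 n73
theorem D112 : act 2 n73 = n112 := rfl
theorem F227 : act 4 n112 = n75 := d10_2 (iv F156) D112 (iv D75)
def n113 : Q := act 5 n73
theorem D113 : act 5 n73 = n113 := rfl
theorem F228 : act 1 n113 = n113 := d8_1 D113 (iv D113) F155
theorem F229 : act 3 n113 = n74 := d13_1 D113 (iv D74) D73
def n114 : Q := act 1 n75
theorem D114 : act 1 n75 = n114 := rfl
theorem F230 : act 2 n114 = n114 := d5_2 D75 D114 (iv D114) (iv D75) F107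
def n115 : Q := act 3 n75
theorem D115 : act 3 n75 = n115 := rfl
def n116 : Q := act 5 n75
theorem D116 : act 5 n75 = n116 := rfl
theorem F231 : act 2 n116 = n76 := d11_1 D116 (iv D76) D75
def n117 : Q := act 4 n76
theorem D117 : act 4 n76 = n117 := rfl
theorem F232 : act 1 n117 = n117 := d7_1 D117 (iv D117) F159
theorem F233 : act 3 n117 = n117 := d12_1 D117 (iv D117) F160 F110 (iv F160)
def n118 : Q := act 0 n77
theorem D118 : act 0 n77 = n118 := rfl
theorem F234 : act 2 n118 = n88 := d1_2 (iv F161) D118 (iv D88)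
theorem F235 : act 4 n118 = n81 := d3_2 (iv F162) D118 (iv D81)
def n119 : Q := act 3 n77
theorem D119 : act 3 n77 = n119 := rfl
theorem F236 : act 1 n119 = n78 := d6_1 D119 (iv D78) D77
def n120 : Q := act 5 n77
theorem D120 : act 5 n77 = n120 := rfl
theorem F237 : act 1 n120 = n79 := d8_1 D120 (iv D79) D77
theorem F238 : act 2 n120 = n90 := d11_1 D120 (iv D90) (iv F161)
def n121 : Q := act 2 n78
theorem D121 : act 2 n78 = n121 := rfl
def n122 : Q := act 4 n78
theorem D122 : act 4 n78 = n122 := rfl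
theorem F239 : act 3 n122 = n85 := d12_1 D122 (iv D85) (iv D52) (iv F111) D78
def n123 : Q := act 5 n78
theorem D123 : act 5 n78 = n123 := rfl
theorem F240 : act 3 n123 = n79 := d13_1 D123 (iv D79) D78
def n124 : Q := act 4 n79
theorem D124 : act 4 n79 = n124 := rfl
theorem F241 : act 2 n124 = n80 := d10_1 D124 (iv D80) (iv F163)
theorem F242 : act 5 n124 = n87 := d14_2 D79 D124 (iv D87) (iv D53) (iv F111)
def n125 : Q := act 3 n81
theorem D125 : act 3 n81 = n125 := rfl
theorem F243 : act 0 n125 = n82 := d2_1 D125 (iv D82) D81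
def n126 : Q := act 5 n81
theorem D126 : act 5 n81 = n126 := rfl
theorem F244 : act 0 n126 = n83 := d4_1 D126 (iv D83) D81
theorem F245 : act 2 n126 = n94 := d11_1 D126 (iv F191) (iv F167)
def n127 : Q := act 2 n82
theorem D127 : act 2 n82 = n127 := rfl
def n128 : Q := act 4 n82
theorem D128 : act 4 n82 = n128 := rfl
theorem F246 : act 1 n128 = n85 := d7_1 D128 (iv D85) (iv F168)
def n129 : Q := act 5 n82
theorem D129 : act 5 n82 = n129 := rfl
theorem F247 : act 1 n129 = n86 := d8_1 D129 (iv D86) (iv F168)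
theorem F248 : act 3 n129 = n83 := d13_1 D129 (iv D83) D82
def n130 : Q := act 4 n83
theorem D130 : act 4 n83 = n130 := rfl
theorem F249 : act 1 n130 = n87 := d7_1 D130 (iv D87) (iv F169)
theorem F250 : act 2 n130 = n95 := d10_1 D130 (iv D95) (iv F170)
def n131 : Q := act 1 n84
theorem D131 : act 1 n84 = n131 := rfl
theorem F251 : act 3 n131 = n109 := d6_2 (iv F171) D131 F222
theorem F252 : act 5 n131 = n108 := d8_2 F172 D131 F221
def n132 : Q := act 4 n84
theorem D132 : act 4 n84 = n132 := rfl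
theorem F253 : act 2 n132 = n85 := d10_1 D132 (iv D85) D84
def n133 : Q := act 5 n85
theorem D133 : act 5 n85 = n133 := rfl
def n134 : Q := act 4 n86
theorem D134 : act 4 n86 = n134 := rfl
theorem F254 : act 0 n134 = n132 := d3_1 D134 (iv D132) (iv F173)
theorem F255 : act 2 n134 = n110 := d10_1 D134 (iv D110) (iv F174)
def n135 : Q := act 3 n87
theorem D135 : act 3 n87 = n135 := rfl
def n136 : Q := act 3 n88
theorem D136 : act 3 n88 = n136 := rfl
theorem F256 : act 0 n136 = n89 := d2_1 D136 (iv D89) D88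
theorem F257 : act 1 n136 = n136 := d6_1 D136 (iv D136) F177
def n137 : Q := act 5 n88
theorem D137 : act 5 n88 = n137 := rfl
theorem F258 : act 0 n137 = n90 := d4_1 D137 (iv D90) D88
theorem F259 : act 1 n137 = n137 := d8_1 D137 (iv D137) F177
def n138 : Q := act 2 n89
theorem D138 : act 2 n89 = n138 := rfl
def n139 : Q := act 4 n89
theorem D139 : act 4 n89 = n139 := rfl
theorem F260 : act 1 n139 = n92 := d7_1 D139 (iv D92) (iv F179)
theorem F261 : act 3 n139 = n95 := d12_1 D139 (iv D95) (iv D60) (iv F118) D89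
def n140 : Q := act 5 n89
theorem D140 : act 5 n89 = n140 := rfl
theorem F262 : act 1 n140 = n91 := d8_1 D140 (iv F183) (iv F179)
theorem F263 : act 3 n140 = n90 := d13_1 D140 (iv D90) D89
def n141 : Q := act 4 n90
theorem D141 : act 4 n90 = n141 := rfl
theorem F264 : act 1 n141 = n93 := d7_1 D141 (iv D93) (iv F180)
theorem F265 : act 5 n141 = n95 := d14_2 D90 D141 (iv D95) (iv F127) (iv F118)
def n142 : Q := act 4 n91
theorem D142 : act 4 n91 = n142 := rfl
theorem F266 : act 0 n142 = n142 := d3_1 D142 (iv D142) F181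
theorem F267 : act 2 n142 = n92 := d10_1 D142 (iv D92) D91
def n143 : Q := act 5 n92
theorem D143 : act 5 n92 = n143 := rfl
theorem F268 : act 0 n143 = n143 := d4_1 D143 (iv D143) F184
theorem F269 : act 3 n143 = n93 := d13_1 D143 F188 (iv F185)
def n144 : Q := act 4 n94
theorem D144 : act 4 n94 = n144 := rfl
theorem F270 : act 0 n144 = n95 := d3_1 D144 (iv D95) (iv F189)
theorem F271 : act 1 n144 = n144 := d7_1 D144 (iv D144) F190
def n145 : Q := act 3 n96
theorem D145 : act 3 n96 = n145 := rfl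
theorem F272 : act 0 n145 = n145 := d2_1 D145 (iv D145) F193
theorem F273 : act 1 n145 = n99 := d6_1 D145 (iv D99) (iv F194)
theorem F274 : act 4 n145 = n97 := d12_2 D96 D145 (iv D97) (iv D63) D62
def n146 : Q := act 5 n96
theorem D146 : act 5 n96 = n146 := rfl
theorem F275 : act 0 n146 = n146 := d4_1 D146 (iv D146) F193
theorem F276 : act 1 n146 = n100 := d8_1 D146 (iv D100) (iv F194)
theorem F277 : act 2 n146 = n146 := d11_1 D146 (iv D146) F195
theorem F278 : act 4 n146 = n146 := d14_1 D146 (iv D146) (iv D96) F132 D96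
def n147 : Q := act 2 n97
theorem D147 : act 2 n97 = n147 := rfl
theorem F279 : act 0 n147 = n147 := d1_1 D147 (iv D147) F196
def n148 : Q := act 5 n97
theorem D148 : act 5 n97 = n148 := rfl
theorem F280 : act 0 n148 = n148 := d4_1 D148 (iv D148) F196
theorem F281 : act 1 n148 = n102 := d8_1 D148 (iv D102) (iv F197)
theorem F282 : act 3 n148 = n98 := d13_1 D148 (iv D98) D97
def n149 : Q := act 2 n99
theorem D149 : act 2 n99 = n149 := rfl
theorem F283 : act 0 n149 = n112 := d1_1 D149 (iv D112) (iv F202)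
theorem F284 : act 4 n149 = n101 := d10_2 (iv F203) D149 (iv D101)
def n150 : Q := act 5 n99
theorem D150 : act 5 n99 = n150 := rfl
theorem F285 : act 0 n150 = n113 := d4_1 D150 (iv D113) (iv F202)
theorem F286 : act 3 n150 = n100 := d13_1 D150 (iv D100) D99
def n151 : Q := act 1 n101
theorem D151 : act 1 n101 = n151 := rfl
def n152 : Q := act 3 n101
theorem D152 : act 3 n101 = n152 := rfl
theorem F287 : act 0 n152 = n115 := d2_1 D152 (iv D115) (iv F207)
theorem F288 : act 2 n152 = n123 := d15_2 D101 D152 F240 F163 F113 (iv F109) (iv F160) (iv D76) (iv F139)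
theorem F289 : act 5 n121 = n152 := d11_0 F288 (iv D123) D121
def n153 : Q := act 5 n101
theorem D153 : act 5 n101 = n153 := rfl
theorem F290 : act 0 n153 = n116 := d4_1 D153 (iv D116) (iv F207)
theorem F291 : act 2 n153 = n102 := d11_1 D153 (iv D102) D101
theorem F292 : act 3 n153 = n121 := d13_1 D153 F289 (iv D152)
def n154 : Q := act 4 n102
theorem D154 : act 4 n102 = n154 := rfl
theorem F293 : act 0 n154 = n117 := d3_1 D154 (iv D117) (iv F208)
theorem F294 : act 3 n154 = n154 := d12_1 D154 (iv D154) F209 F142 (iv F209)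
def n155 : Q := act 0 n103
theorem D155 : act 0 n103 = n155 := rfl
theorem F295 : act 1 n155 = n118 := d0_2 D103 D155 (iv D118) (iv D77) (iv F143)
theorem F296 : act 2 n155 = n155 := d1_2 F210 D155 (iv D155)
theorem F297 : act 4 n155 = n107 := d3_2 (iv F211) D155 (iv D107)
def n156 : Q := act 3 n103
theorem D156 : act 3 n103 = n156 := rfl
theorem F298 : act 1 n156 = n104 := d6_1 D156 (iv D104) D103
def n157 : Q := act 5 n103
theorem D157 : act 5 n103 = n157 := rfl
theorem F299 : act 1 n157 = n105 := d8_1 D157 (iv D105) D103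
theorem F300 : act 2 n157 = n157 := d11_1 D157 (iv D157) F210
def n158 : Q := act 2 n104
theorem D158 : act 2 n104 = n158 := rfl
theorem F301 : act 0 n158 = n121 := d1_1 D158 (iv D121) (iv F212)
theorem F302 : act 3 n158 = n116 := d9_2 D104 D158 F231 F160 F109 (iv F113) (iv F163) (iv F240) (iv F288) (iv D152) (iv D101) (iv D65) F95 D42 D67
theorem F303 : act 5 n115 = n158 := d13_0 F302 (iv D116) D115
def n159 : Q := act 4 n104
theorem D159 : act 4 n104 = n159 := rfl
theorem F304 : act 0 n159 = n122 := d3_1 D159 (iv D122) (iv F212)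
theorem F305 : act 3 n159 = n110 := d12_1 D159 (iv D110) (iv D70) (iv F144) D104
def n160 : Q := act 5 n104
theorem D160 : act 5 n104 = n160 := rfl
theorem F306 : act 0 n160 = n123 := d4_1 D160 (iv D123) (iv F212)
theorem F307 : act 2 n160 = n115 := d11_1 D160 F303 (iv D158)
theorem F308 : act 3 n160 = n105 := d13_1 D160 (iv D105) D104
def n161 : Q := act 4 n105
theorem D161 : act 4 n105 = n161 := rfl
theorem F309 : act 0 n161 = n124 := d3_1 D161 (iv D124) (iv F213)
theorem F310 : act 2 n161 = n106 := d10_1 D161 (iv D106) (iv F214)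
theorem F311 : act 5 n161 = n111 := d14_2 D105 D161 (iv D111) (iv D71) (iv F144)
def n162 : Q := act 3 n107
theorem D162 : act 3 n107 = n162 := rfl
theorem F312 : act 0 n162 = n108 := d2_1 D162 (iv D108) D107
theorem F313 : act 1 n162 = n125 := d6_1 D162 (iv D125) (iv F219)
def n163 : Q := act 5 n107
theorem D163 : act 5 n107 = n163 := rfl
theorem F314 : act 0 n163 = n109 := d4_1 D163 (iv D109) D107
theorem F315 : act 1 n163 = n126 := d8_1 D163 (iv D126) (iv F219)
theorem F316 : act 2 n163 = n163 := d11_1 D163 (iv D163) F220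
def n164 : Q := act 2 n108
theorem D164 : act 2 n108 = n164 := rfl
def n165 : Q := act 4 n108
theorem D165 : act 4 n108 = n165 := rfl
theorem F317 : act 1 n165 = n110 := d7_1 D165 (iv D110) (iv F221)
def n166 : Q := act 4 n109
theorem D166 : act 4 n109 = n166 := rfl
theorem F318 : act 1 n166 = n111 := d7_1 D166 (iv D111) (iv F222)
theorem F319 : act 2 n166 = n166 := d10_1 D166 (iv D166) F223
def n167 : Q := act 5 n110
theorem D167 : act 5 n110 = n167 := rfl
theorem F320 : act 0 n167 = n133 := d4_1 D167 (iv D133) (iv F224)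
def n168 : Q := act 3 n111
theorem D168 : act 3 n111 = n168 := rfl
theorem F321 : act 0 n168 = n135 := d2_1 D168 (iv D135) (iv F225)
def n169 : Q := act 1 n112
theorem D169 : act 1 n112 = n169 := rfl
theorem F322 : act 2 n169 = n169 := d5_2 D112 D169 (iv D169) (iv D112) F155
theorem F323 : act 4 n169 = n114 := d7_2 (iv F227) D169 (iv D114)
def n170 : Q := act 3 n112
theorem D170 : act 3 n112 = n170 := rfl
def n171 : Q := act 5 n112
theorem D171 : act 5 n112 = n171 := rfl
theorem F324 : act 2 n171 = n113 := d11_1 D171 (iv D113) D112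
def n172 : Q := act 4 n113
theorem D172 : act 4 n113 = n172 := rfl
theorem F325 : act 1 n172 = n172 := d7_1 D172 (iv D172) F228
theorem F326 : act 3 n172 = n172 := d12_1 D172 (iv D172) F229 F158 (iv F229)
theorem F327 : act 5 n172 = n117 := d14_2 D113 D172 (iv D117) (iv D76) (iv F156)
def n173 : Q := act 0 n114
theorem D173 : act 0 n114 = n173 := rfl
theorem F328 : act 2 n173 = n173 := d1_2 F230 D173 (iv D173)
def n174 : Q := act 3 n114
theorem D174 : act 3 n114 = n174 := rfl
theorem F329 : act 1 n174 = n115 := d6_1 D174 (iv D115) D114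
def n175 : Q := act 5 n114
theorem D175 : act 5 n114 = n175 := rfl
theorem F330 : act 1 n175 = n116 := d8_1 D175 (iv D116) D114
theorem F331 : act 2 n175 = n175 := d11_1 D175 (iv D175) F230
def n176 : Q := act 4 n115
theorem D176 : act 4 n115 = n176 := rfl
def n177 : Q := act 4 n116
theorem D177 : act 4 n116 = n177 := rfl
theorem F332 : act 2 n177 = n117 := d10_1 D177 (iv D117) (iv F231)
def n178 : Q := act 3 n118
theorem D178 : act 3 n118 = n178 := rfl
theorem F333 : act 0 n178 = n119 := d2_1 D178 (iv D119) D118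
def n179 : Q := act 5 n118
theorem D179 : act 5 n118 = n179 := rfl
theorem F334 : act 0 n179 = n120 := d4_1 D179 (iv D120) D118
theorem F335 : act 2 n179 = n137 := d11_1 D179 (iv D137) (iv F234)
def n180 : Q := act 2 n119
theorem D180 : act 2 n119 = n180 := rfl
def n181 : Q := act 4 n119
theorem D181 : act 4 n119 = n181 := rfl
theorem F336 : act 1 n181 = n122 := d7_1 D181 (iv D122) (iv F236)
theorem F337 : act 3 n181 = n128 := d12_1 D181 (iv D128) (iv D82) (iv F162) D119
def n182 : Q := act 5 n119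
theorem D182 : act 5 n119 = n182 := rfl
theorem F338 : act 1 n182 = n123 := d8_1 D182 (iv D123) (iv F236)
theorem F339 : act 3 n182 = n120 := d13_1 D182 (iv D120) D119
def n183 : Q := act 4 n120
theorem D183 : act 4 n120 = n183 := rfl
theorem F340 : act 1 n183 = n124 := d7_1 D183 (iv D124) (iv F237)
theorem F341 : act 2 n183 = n141 := d10_1 D183 (iv D141) (iv F238)
theorem F342 : act 5 n183 = n130 := d14_2 D120 D183 (iv D130) (iv D83) (iv F162)
def n184 : Q := act 1 n121
theorem D184 : act 1 n121 = n184 := rfl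
def n185 : Q := act 4 n121
theorem D185 : act 4 n121 = n185 := rfl
theorem F343 : act 2 n185 = n122 := d10_1 D185 (iv D122) D121
def n186 : Q := act 5 n122
theorem D186 : act 5 n122 = n186 := rfl
theorem F344 : act 3 n186 = n133 := d13_1 D186 (iv D133) (iv F239)
def n187 : Q := act 4 n123
theorem D187 : act 4 n123 = n187 := rfl
def n188 : Q := act 3 n124
theorem D188 : act 3 n124 = n188 := rfl
theorem F345 : act 5 n188 = n135 := d13_2 (iv F242) D188 (iv D135)
def n189 : Q := act 2 n125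
theorem D189 : act 2 n125 = n189 := rfl
theorem F346 : act 0 n189 = n127 := d1_1 D189 (iv D127) (iv F243)
theorem F347 : act 3 n189 = n127 := d15_1 D189 (iv D127) (iv D82) F114 D60 (iv F170) (iv F248) (iv D129) (iv F243)
def n190 : Q := act 4 n125
theorem D190 : act 4 n125 = n190 := rfl
theorem F348 : act 0 n190 = n128 := d3_1 D190 (iv D128) (iv F243)
def n191 : Q := act 5 n125
theorem D191 : act 5 n125 = n191 := rfl
theorem F349 : act 0 n191 = n129 := d4_1 D191 (iv D129) (iv F243)
theorem F350 : act 3 n191 = n126 := d13_1 D191 (iv D126) D125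
def n192 : Q := act 4 n126
theorem D192 : act 4 n126 = n192 := rfl
theorem F351 : act 0 n192 = n130 := d3_1 D192 (iv D130) (iv F244)
theorem F352 : act 2 n192 = n144 := d10_1 D192 (iv D144) (iv F245)
def n193 : Q := act 1 n127
theorem D193 : act 1 n127 = n193 := rfl
theorem F353 : act 2 n193 = n131 := d5_2 D127 D193 (iv D131) (iv D84) (iv F168)
theorem F354 : act 5 n164 = n193 := d11_0 F353 F252 D164
def n194 : Q := act 4 n127
theorem D194 : act 4 n127 = n194 := rfl
theorem F355 : act 2 n194 = n128 := d10_1 D194 (iv D128) D127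
def n195 : Q := act 5 n127
theorem D195 : act 5 n127 = n195 := rfl
theorem F356 : act 1 n195 = n164 := d8_1 D195 F354 (iv D193)
theorem F357 : act 2 n195 = n129 := d11_1 D195 (iv D129) D127
def n196 : Q := act 5 n128
theorem D196 : act 5 n128 = n196 := rfl
theorem F358 : act 1 n196 = n133 := d8_1 D196 (iv D133) (iv F246)
def n197 : Q := act 4 n129
theorem D197 : act 4 n129 = n197 := rfl
theorem F359 : act 1 n197 = n134 := d7_1 D197 (iv D134) (iv F247)
def n198 : Q := act 3 n130
theorem D198 : act 3 n130 = n198 := rfl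
theorem F360 : act 1 n198 = n135 := d6_1 D198 (iv D135) (iv F249)
def n199 : Q := act 0 n131
theorem D199 : act 0 n131 = n199 := rfl
theorem F361 : act 1 n199 = n191 := d0_2 D131 D199 F349 F247 F173
theorem F362 : act 3 n199 = n163 := d2_2 (iv F251) D199 F314
theorem F363 : act 5 n199 = n162 := d4_2 (iv F252) D199 F312
def n200 : Q := act 4 n131
theorem D200 : act 4 n131 = n200 := rfl
theorem F364 : act 1 n200 = n132 := d7_1 D200 (iv D132) D131
def n201 : Q := act 3 n132
theorem D201 : act 3 n132 = n201 := rfl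
theorem F365 : act 4 n201 = n168 := d12_2 D132 D201 (iv D168) (iv D111) (iv F171)
def n202 : Q := act 5 n132
theorem D202 : act 5 n132 = n202 := rfl
theorem F366 : act 2 n202 = n133 := d11_1 D202 (iv D133) (iv F253)
theorem F367 : act 4 n202 = n167 := d14_1 D202 (iv D167) (iv D110) F172 D132
def n203 : Q := act 4 n133
theorem D203 : act 4 n133 = n203 := rfl
theorem F368 : act 0 n203 = n202 := d3_1 D203 F367 F320
theorem F369 : act 2 n203 = n167 := d10_1 D203 (iv F367) F366
theorem F370 : act 5 n203 = n134 := d14_2 D133 D203 (iv D134) (iv D86) D85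
def n204 : Q := act 3 n134
theorem D204 : act 3 n134 = n204 := rfl
theorem F371 : act 0 n204 = n201 := d2_1 D204 (iv D201) (iv F254)
theorem F372 : act 4 n204 = n135 := d12_2 D134 D204 (iv D135) (iv D87) (iv F175)
def n205 : Q := act 2 n135
theorem D205 : act 2 n135 = n205 := rfl
def n206 : Q := act 2 n136
theorem D206 : act 2 n136 = n206 := rfl
theorem F373 : act 0 n206 = n138 := d1_1 D206 (iv D138) (iv F256)
def n207 : Q := act 4 n136
theorem D207 : act 4 n136 = n207 := rfl
theorem F374 : act 0 n207 = n139 := d3_1 D207 (iv D139) (iv F256)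
theorem F375 : act 1 n207 = n207 := d7_1 D207 (iv D207) F257
theorem F376 : act 3 n207 = n144 := d12_1 D207 (iv D144) (iv D94) (iv F178) D136
def n208 : Q := act 5 n136
theorem D208 : act 5 n136 = n208 := rfl
theorem F377 : act 0 n208 = n140 := d4_1 D208 (iv D140) (iv F256)
theorem F378 : act 1 n208 = n208 := d8_1 D208 (iv D208) F257
theorem F379 : act 3 n208 = n137 := d13_1 D208 (iv D137) D136
def n209 : Q := act 4 n137
theorem D209 : act 4 n137 = n209 := rfl
theorem F380 : act 0 n209 = n141 := d3_1 D209 (iv D141) (iv F258)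
theorem F381 : act 1 n209 = n209 := d7_1 D209 (iv D209) F259
theorem F382 : act 5 n209 = n144 := d14_2 D137 D209 (iv D144) (iv F191) (iv F178)
def n210 : Q := act 1 n138
theorem D210 : act 1 n138 = n210 := rfl
theorem F383 : act 2 n210 = n140 := d5_2 D138 D210 F262 (iv D91) (iv F179)
theorem F384 : act 5 n138 = n210 := d11_0 F383 (iv D140) D138
def n211 : Q := act 3 n138
theorem D211 : act 3 n138 = n211 := rfl
def n212 : Q := act 4 n138
theorem D212 : act 4 n138 = n212 := rfl
theorem F385 : act 2 n212 = n139 := d10_1 D212 (iv D139) D138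
def n213 : Q := act 5 n139
theorem D213 : act 5 n139 = n213 := rfl
theorem F386 : act 1 n213 = n143 := d8_1 D213 (iv D143) (iv F260)
theorem F387 : act 3 n213 = n141 := d13_1 D213 F265 (iv F261)
def n214 : Q := act 4 n140
theorem D214 : act 4 n140 = n214 := rfl
theorem F388 : act 1 n214 = n142 := d7_1 D214 (iv D142) (iv F262)
def n215 : Q := act 3 n142
theorem D215 : act 3 n142 = n215 := rfl
theorem F389 : act 0 n215 = n215 := d2_1 D215 (iv D215) F266
theorem F390 : act 4 n215 = n143 := d12_2 D142 D215 F269 (iv D93) (iv F182)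
theorem F391 : act 2 n215 = n143 := d15_2 (iv F267) D215 F269 F187 F123 (iv F187) (iv F269) (iv D143) F184
theorem F392 : act 5 n215 = n142 := d15_8 F267 F185 F129 F87 (iv F129) (iv F185) (iv F267) D215 F266
def n216 : Q := act 2 n145
theorem D216 : act 2 n145 = n216 := rfl
theorem F393 : act 0 n216 = n216 := d1_1 D216 (iv D216) F272
theorem F394 : act 4 n216 = n147 := d10_2 (iv F274) D216 (iv D147)
def n217 : Q := act 5 n145
theorem D217 : act 5 n145 = n217 := rfl
theorem F395 : act 0 n217 = n217 := d4_1 D217 (iv D217) F272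
theorem F396 : act 1 n217 = n150 := d8_1 D217 (iv D150) (iv F273)
theorem F397 : act 3 n217 = n146 := d13_1 D217 (iv D146) D145
def n218 : Q := act 1 n147
theorem D218 : act 1 n147 = n218 := rfl
theorem F398 : act 2 n218 = n151 := d5_2 D147 D218 (iv D151) (iv D101) (iv F197)
def n219 : Q := act 3 n147
theorem D219 : act 3 n147 = n219 := rfl
theorem F399 : act 0 n219 = n219 := d2_1 D219 (iv D219) F279
def n220 : Q := act 5 n147
theorem D220 : act 5 n147 = n220 := rfl
theorem F400 : act 0 n220 = n220 := d4_1 D220 (iv D220) F279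
theorem F401 : act 2 n220 = n148 := d11_1 D220 (iv D148) D147
def n221 : Q := act 4 n148
theorem D221 : act 4 n148 = n221 := rfl
theorem F402 : act 0 n221 = n221 := d3_1 D221 (iv D221) F280
theorem F403 : act 1 n221 = n154 := d7_1 D221 (iv D154) (iv F281)
theorem F404 : act 3 n221 = n221 := d12_1 D221 (iv D221) F282 F201 (iv F282)
def n222 : Q := act 1 n149
theorem D222 : act 1 n149 = n222 := rfl
theorem F405 : act 4 n222 = n151 := d7_2 (iv F284) D222 (iv D151)
def n223 : Q := act 3 n149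
theorem D223 : act 3 n149 = n223 := rfl
theorem F406 : act 0 n223 = n170 := d2_1 D223 (iv D170) (iv F283)
def n224 : Q := act 5 n149
theorem D224 : act 5 n149 = n224 := rfl
theorem F407 : act 0 n224 = n171 := d4_1 D224 (iv D171) (iv F283)
theorem F408 : act 2 n224 = n150 := d11_1 D224 (iv D150) D149
def n225 : Q := act 4 n150
theorem D225 : act 4 n150 = n225 := rfl
theorem F409 : act 0 n225 = n172 := d3_1 D225 (iv D172) (iv F285)
theorem F410 : act 3 n225 = n225 := d12_1 D225 (iv D225) F286 F206 (iv F286)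
theorem F411 : act 5 n225 = n154 := d14_2 D150 D225 (iv D154) (iv D102) (iv F203)
def n226 : Q := act 0 n151
theorem D226 : act 0 n151 = n226 := rfl
theorem F412 : act 1 n226 = n173 := d0_2 D151 D226 (iv D173) (iv D114) (iv F207)
def n227 : Q := act 3 n151
theorem D227 : act 3 n151 = n227 := rfl
theorem F413 : act 1 n227 = n152 := d6_1 D227 (iv D152) D151
theorem F414 : act 5 n184 = n227 := d8_0 F413 (iv F289) D184
def n228 : Q := act 5 n151
theorem D228 : act 5 n151 = n228 := rfl
theorem F415 : act 1 n228 = n153 := d8_1 D228 (iv D153) D151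
theorem F416 : act 3 n228 = n184 := d13_1 D228 F414 (iv D227)
def n229 : Q := act 4 n152
theorem D229 : act 4 n152 = n229 := rfl
theorem F417 : act 0 n229 = n176 := d3_1 D229 (iv D176) (iv F287)
theorem F418 : act 2 n229 = n187 := d10_1 D229 (iv D187) (iv F288)
def n230 : Q := act 4 n153
theorem D230 : act 4 n153 = n230 := rfl
theorem F419 : act 0 n230 = n177 := d3_1 D230 (iv D177) (iv F290)
theorem F420 : act 2 n230 = n154 := d10_1 D230 (iv D154) (iv F291)
def n231 : Q := act 3 n155
theorem D231 : act 3 n155 = n231 := rfl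
theorem F421 : act 0 n231 = n156 := d2_1 D231 (iv D156) D155
theorem F422 : act 1 n231 = n178 := d6_1 D231 (iv D178) (iv F295)
def n232 : Q := act 5 n155
theorem D232 : act 5 n155 = n232 := rfl
theorem F423 : act 0 n232 = n157 := d4_1 D232 (iv D157) D155
theorem F424 : act 1 n232 = n179 := d8_1 D232 (iv D179) (iv F295)
theorem F425 : act 2 n232 = n232 := d11_1 D232 (iv D232) F296
def n233 : Q := act 2 n156
theorem D233 : act 2 n156 = n233 := rfl
def n234 : Q := act 4 n156
theorem D234 : act 4 n156 = n234 := rfl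
theorem F426 : act 1 n234 = n159 := d7_1 D234 (iv D159) (iv F298)
theorem F427 : act 3 n234 = n165 := d12_1 D234 (iv D165) (iv D108) (iv F211) D156
def n235 : Q := act 5 n156
theorem D235 : act 5 n156 = n235 := rfl
theorem F428 : act 1 n235 = n160 := d8_1 D235 (iv D160) (iv F298)
theorem F429 : act 3 n235 = n157 := d13_1 D235 (iv D157) D156
def n236 : Q := act 4 n157
theorem D236 : act 4 n157 = n236 := rfl
theorem F430 : act 1 n236 = n161 := d7_1 D236 (iv D161) (iv F299)
theorem F431 : act 2 n236 = n236 := d10_1 D236 (iv D236) F300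
theorem F432 : act 5 n236 = n166 := d14_2 D157 D236 (iv D166) (iv D109) (iv F211)
def n237 : Q := act 1 n158
theorem D237 : act 1 n158 = n237 := rfl
theorem F433 : act 3 n237 = n175 := d6_2 (iv F302) D237 F330
theorem F434 : act 5 n237 = n174 := d8_2 F303 D237 F329
def n238 : Q := act 4 n158
theorem D238 : act 4 n158 = n238 := rfl
theorem F435 : act 0 n238 = n185 := d3_1 D238 (iv D185) (iv F301)
theorem F436 : act 2 n238 = n159 := d10_1 D238 (iv D159) D158
def n239 : Q := act 5 n159
theorem D239 : act 5 n159 = n239 := rfl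
theorem F437 : act 0 n239 = n186 := d4_1 D239 (iv D186) (iv F304)
theorem F438 : act 3 n239 = n167 := d13_1 D239 (iv D167) (iv F305)
def n240 : Q := act 4 n160
theorem D240 : act 4 n160 = n240 := rfl
theorem F439 : act 0 n240 = n187 := d3_1 D240 (iv D187) (iv F306)
theorem F440 : act 2 n240 = n176 := d10_1 D240 (iv D176) (iv F307)
def n241 : Q := act 3 n161
theorem D241 : act 3 n161 = n241 := rfl
theorem F441 : act 0 n241 = n188 := d2_1 D241 (iv D188) (iv F309)
theorem F442 : act 5 n241 = n168 := d13_2 (iv F311) D241 (iv D168)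
def n242 : Q := act 2 n162
theorem D242 : act 2 n162 = n242 := rfl
theorem F443 : act 0 n242 = n164 := d1_1 D242 (iv D164) (iv F312)
def n243 : Q := act 4 n162
theorem D243 : act 4 n162 = n243 := rfl
theorem F444 : act 0 n243 = n165 := d3_1 D243 (iv D165) (iv F312)
theorem F445 : act 1 n243 = n190 := d7_1 D243 (iv D190) (iv F313)
def n244 : Q := act 4 n163
theorem D244 : act 4 n163 = n244 := rfl
theorem F446 : act 0 n244 = n166 := d3_1 D244 (iv D166) (iv F314)
theorem F447 : act 1 n244 = n192 := d7_1 D244 (iv D192) (iv F315)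
theorem F448 : act 2 n244 = n244 := d10_1 D244 (iv D244) F316
def n245 : Q := act 3 n164
theorem D245 : act 3 n164 = n245 := rfl
def n246 : Q := act 4 n164
theorem D246 : act 4 n164 = n246 := rfl
theorem F449 : act 2 n246 = n165 := d10_1 D246 (iv D165) D164
def n247 : Q := act 5 n165
theorem D247 : act 5 n165 = n247 := rfl
theorem F450 : act 1 n247 = n167 := d8_1 D247 (iv D167) (iv F317)
def n248 : Q := act 3 n166
theorem D248 : act 3 n166 = n248 := rfl
theorem F451 : act 1 n248 = n168 := d6_1 D248 (iv D168) (iv F318)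
def n249 : Q := act 2 n168
theorem D249 : act 2 n168 = n249 := rfl
theorem F452 : act 0 n249 = n205 := d1_1 D249 (iv D205) (iv F321)
def n250 : Q := act 0 n169
theorem D250 : act 0 n169 = n250 := rfl
theorem F453 : act 2 n250 = n250 := d1_2 F322 D250 (iv D250)
theorem F454 : act 4 n250 = n173 := d3_2 (iv F323) D250 (iv D173)
def n251 : Q := act 3 n169
theorem D251 : act 3 n169 = n251 := rfl
theorem F455 : act 1 n251 = n170 := d6_1 D251 (iv D170) D169
def n252 : Q := act 5 n169
theorem D252 : act 5 n169 = n252 := rfl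
theorem F456 : act 1 n252 = n171 := d8_1 D252 (iv D171) D169
theorem F457 : act 2 n252 = n252 := d11_1 D252 (iv D252) F322
def n253 : Q := act 2 n170
theorem D253 : act 2 n170 = n253 := rfl
theorem F458 : act 3 n253 = n171 := d15_3 D112 D170 D253 F324 F229 (iv F205) (iv F286) (iv D150) F202
theorem F459 : act 5 n170 = n253 := d13_0 F458 (iv D171) D170
def n254 : Q := act 4 n170
theorem D254 : act 4 n170 = n254 := rfl
theorem F460 : act 3 n254 = n176 := d12_1 D254 (iv D176) (iv D115) (iv F227) D170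
def n255 : Q := act 4 n171
theorem D255 : act 4 n171 = n255 := rfl
theorem F461 : act 2 n255 = n172 := d10_1 D255 (iv D172) (iv F324)
theorem F462 : act 5 n255 = n177 := d14_2 D171 D255 (iv D177) (iv D116) (iv F227)
def n256 : Q := act 3 n173
theorem D256 : act 3 n173 = n256 := rfl
theorem F463 : act 0 n256 = n174 := d2_1 D256 (iv D174) D173
def n257 : Q := act 5 n173
theorem D257 : act 5 n173 = n257 := rfl
theorem F464 : act 0 n257 = n175 := d4_1 D257 (iv D175) D173
theorem F465 : act 2 n257 = n257 := d11_1 D257 (iv D257) F328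
def n258 : Q := act 2 n174
theorem D258 : act 2 n174 = n258 := rfl
def n259 : Q := act 4 n174
theorem D259 : act 4 n174 = n259 := rfl
theorem F466 : act 1 n259 = n176 := d7_1 D259 (iv D176) (iv F329)
def n260 : Q := act 4 n175
theorem D260 : act 4 n175 = n260 := rfl
theorem F467 : act 1 n260 = n177 := d7_1 D260 (iv D177) (iv F330)
theorem F468 : act 2 n260 = n260 := d10_1 D260 (iv D260) F331
def n261 : Q := act 5 n176
theorem D261 : act 5 n176 = n261 := rfl
def n262 : Q := act 3 n177
theorem D262 : act 3 n177 = n262 := rfl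
def n263 : Q := act 2 n178
theorem D263 : act 2 n178 = n263 := rfl
theorem F469 : act 0 n263 = n180 := d1_1 D263 (iv D180) (iv F333)
def n264 : Q := act 4 n178
theorem D264 : act 4 n178 = n264 := rfl
theorem F470 : act 0 n264 = n181 := d3_1 D264 (iv D181) (iv F333)
theorem F471 : act 3 n264 = n190 := d12_1 D264 (iv D190) (iv D125) (iv F235) D178
def n265 : Q := act 5 n178
theorem D265 : act 5 n178 = n265 := rfl
theorem F472 : act 0 n265 = n182 := d4_1 D265 (iv D182) (iv F333)
theorem F473 : act 3 n265 = n179 := d13_1 D265 (iv D179) D178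
def n266 : Q := act 4 n179
theorem D266 : act 4 n179 = n266 := rfl
theorem F474 : act 0 n266 = n183 := d3_1 D266 (iv D183) (iv F334)
theorem F475 : act 2 n266 = n209 := d10_1 D266 (iv D209) (iv F335)
theorem F476 : act 5 n266 = n192 := d14_2 D179 D266 (iv D192) (iv D126) (iv F235)
def n267 : Q := act 1 n180
theorem D267 : act 1 n180 = n267 := rfl
theorem F477 : act 2 n267 = n184 := d5_2 D180 D267 (iv D184) (iv D121) (iv F236)
def n268 : Q := act 3 n180
theorem D268 : act 3 n180 = n268 := rfl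
def n269 : Q := act 4 n180
theorem D269 : act 4 n180 = n269 := rfl
theorem F478 : act 2 n269 = n181 := d10_1 D269 (iv D181) D180
def n270 : Q := act 5 n180
theorem D270 : act 5 n180 = n270 := rfl
theorem F479 : act 2 n270 = n182 := d11_1 D270 (iv D182) D180
def n271 : Q := act 5 n181
theorem D271 : act 5 n181 = n271 := rfl
theorem F480 : act 1 n271 = n186 := d8_1 D271 (iv D186) (iv F336)
theorem F481 : act 3 n271 = n196 := d13_1 D271 (iv D196) (iv F337)
def n272 : Q := act 4 n182
theorem D272 : act 4 n182 = n272 := rfl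
theorem F482 : act 1 n272 = n187 := d7_1 D272 (iv D187) (iv F338)
def n273 : Q := act 3 n183
theorem D273 : act 3 n183 = n273 := rfl
theorem F483 : act 1 n273 = n188 := d6_1 D273 (iv D188) (iv F340)
theorem F484 : act 5 n273 = n198 := d13_2 (iv F342) D273 (iv D198)
def n274 : Q := act 0 n184
theorem D274 : act 0 n184 = n274 := rfl
def n275 : Q := act 4 n184
theorem D275 : act 4 n184 = n275 := rfl
theorem F485 : act 1 n275 = n185 := d7_1 D275 (iv D185) D184
def n276 : Q := act 3 n185
theorem D276 : act 3 n185 = n276 := rfl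
def n277 : Q := act 5 n185
theorem D277 : act 5 n185 = n277 := rfl
theorem F486 : act 2 n277 = n186 := d11_1 D277 (iv D186) (iv F343)
def n278 : Q := act 4 n186
theorem D278 : act 4 n186 = n278 := rfl
theorem F487 : act 5 n278 = n187 := d14_2 D186 D278 (iv D187) (iv D123) D122
def n279 : Q := act 3 n187
theorem D279 : act 3 n187 = n279 := rfl
theorem F488 : act 4 n279 = n188 := d12_2 D187 D279 (iv D188) (iv D124) (iv F240)
def n280 : Q := act 2 n188
theorem D280 : act 2 n188 = n280 := rfl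
theorem F489 : act 5 n280 = n205 := d11_2 (iv F345) D280 (iv D205)
theorem F490 : act 3 n280 = n249 := d15_1 D280 (iv D249) (iv D168) F226 F154 (iv F226) D168 (iv F442) F441
def n281 : Q := act 1 n189
theorem D281 : act 1 n189 = n281 := rfl
theorem F491 : act 3 n281 = n193 := d6_2 (iv F347) D281 (iv D193)
theorem F492 : act 5 n245 = n281 := d13_0 F491 (iv F354) D245
def n282 : Q := act 4 n189
theorem D282 : act 4 n189 = n282 := rfl
theorem F493 : act 0 n282 = n194 := d3_1 D282 (iv D194) (iv F346)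
theorem F494 : act 2 n282 = n190 := d10_1 D282 (iv D190) D189
def n283 : Q := act 5 n189
theorem D283 : act 5 n189 = n283 := rfl
theorem F495 : act 0 n283 = n195 := d4_1 D283 (iv D195) (iv F346)
theorem F496 : act 1 n283 = n245 := d8_1 D283 F492 (iv D281)
theorem F497 : act 2 n283 = n191 := d11_1 D283 (iv D191) D189
theorem F498 : act 3 n283 = n195 := d13_1 D283 (iv D195) (iv F347)
def n284 : Q := act 5 n190
theorem D284 : act 5 n190 = n284 := rfl
theorem F499 : act 0 n284 = n196 := d4_1 D284 (iv D196) (iv F348)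
def n285 : Q := act 4 n191
theorem D285 : act 4 n191 = n285 := rfl
theorem F500 : act 0 n285 = n197 := d3_1 D285 (iv D197) (iv F349)
def n286 : Q := act 3 n192
theorem D286 : act 3 n192 = n286 := rfl
theorem F501 : act 0 n286 = n198 := d2_1 D286 (iv D198) (iv F351)
def n287 : Q := act 0 n193
theorem D287 : act 0 n193 = n287 := rfl
theorem F502 : act 2 n287 = n199 := d1_2 (iv F353) D287 (iv D199)
theorem F503 : act 5 n287 = n242 := d4_2 F354 D287 F443
def n288 : Q := act 4 n193
theorem D288 : act 4 n193 = n288 := rfl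
theorem F504 : act 1 n288 = n194 := d7_1 D288 (iv D194) D193
theorem F505 : act 2 n288 = n200 := d10_1 D288 (iv D200) (iv F353)
def n289 : Q := act 3 n194
theorem D289 : act 3 n194 = n289 := rfl
def n290 : Q := act 5 n194
theorem D290 : act 5 n194 = n290 := rfl
theorem F506 : act 2 n290 = n196 := d11_1 D290 (iv D196) (iv F355)
def n291 : Q := act 4 n195
theorem D291 : act 4 n195 = n291 := rfl
theorem F507 : act 1 n291 = n246 := d7_1 D291 (iv D246) (iv F356)
theorem F508 : act 2 n291 = n197 := d10_1 D291 (iv D197) (iv F357)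
def n292 : Q := act 4 n196
theorem D292 : act 4 n196 = n292 := rfl
theorem F509 : act 1 n292 = n203 := d7_1 D292 (iv D203) (iv F358)
theorem F510 : act 5 n292 = n197 := d14_2 D196 D292 (iv D197) (iv D129) D128
def n293 : Q := act 3 n197
theorem D293 : act 3 n197 = n293 := rfl
theorem F511 : act 1 n293 = n204 := d6_1 D293 (iv D204) (iv F359)
theorem F512 : act 4 n293 = n198 := d12_2 D197 D293 (iv D198) (iv D130) (iv F248)
def n294 : Q := act 2 n198
theorem D294 : act 2 n198 = n294 := rfl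
def n295 : Q := act 4 n199
theorem D295 : act 4 n199 = n295 := rfl
theorem F513 : act 0 n295 = n200 := d3_1 D295 (iv D200) D199
theorem F514 : act 1 n295 = n285 := d7_1 D295 (iv D285) (iv F361)
def n296 : Q := act 3 n200
theorem D296 : act 3 n200 = n296 := rfl
theorem F515 : act 1 n296 = n201 := d6_1 D296 (iv D201) (iv F364)
theorem F516 : act 4 n296 = n248 := d12_2 D200 D296 (iv D248) (iv D166) (iv F251)
def n297 : Q := act 5 n200
theorem D297 : act 5 n200 = n297 := rfl
theorem F517 : act 1 n297 = n202 := d8_1 D297 (iv D202) (iv F364)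
theorem F518 : act 4 n297 = n247 := d14_1 D297 (iv D247) (iv D165) (iv F252) D200
def n298 : Q := act 2 n201
theorem D298 : act 2 n201 = n298 := rfl
theorem F519 : act 4 n298 = n249 := d10_2 (iv F365) D298 (iv D249)
def n299 : Q := act 5 n201
theorem D299 : act 5 n201 = n299 := rfl
theorem F520 : act 3 n299 = n202 := d13_1 D299 (iv D202) D201
def n300 : Q := act 3 n203
theorem D300 : act 3 n203 = n300 := rfl
theorem F521 : act 0 n300 = n299 := d2_1 D300 F520 (iv F368)
theorem F522 : act 5 n300 = n204 := d13_2 (iv F370) D300 (iv D204)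
def n301 : Q := act 2 n204
theorem D301 : act 2 n204 = n301 := rfl
theorem F523 : act 0 n301 = n298 := d1_1 D301 (iv D298) (iv F371)
theorem F524 : act 4 n301 = n205 := d10_2 (iv F372) D301 (iv D205)
def n302 : Q := act 1 n205
theorem D302 : act 1 n205 = n302 := rfl
def n303 : Q := act 3 n205
theorem D303 : act 3 n205 = n303 := rfl
theorem F525 : act 0 n303 = n280 := d2_1 D303 F490 F452
theorem F526 : act 5 n303 = n249 := d13_2 F489 D303 (iv F490)
theorem F527 : act 2 n303 = n241 := d15_2 D205 D303 (iv D241) F310 F217 (iv F310) D241 F442 F321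
def n304 : Q := act 1 n206
theorem D304 : act 1 n206 = n304 := rfl
theorem F528 : act 2 n304 = n304 := d5_2 D206 D304 (iv D304) (iv D206) F257
def n305 : Q := act 3 n206
theorem D305 : act 3 n206 = n305 := rfl
theorem F529 : act 0 n305 = n211 := d2_1 D305 (iv D211) (iv F373)
def n306 : Q := act 4 n206
theorem D306 : act 4 n206 = n306 := rfl
theorem F530 : act 0 n306 = n212 := d3_1 D306 (iv D212) (iv F373)
theorem F531 : act 2 n306 = n207 := d10_1 D306 (iv D207) D206
def n307 : Q := act 5 n206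
theorem D307 : act 5 n206 = n307 := rfl
theorem F532 : act 0 n307 = n210 := d4_1 D307 (iv F384) (iv F373)
theorem F533 : act 2 n307 = n208 := d11_1 D307 (iv D208) D206
def n308 : Q := act 5 n207
theorem D308 : act 5 n207 = n308 := rfl
theorem F534 : act 0 n308 = n213 := d4_1 D308 (iv D213) (iv F374)
theorem F535 : act 1 n308 = n308 := d8_1 D308 (iv D308) F375
theorem F536 : act 3 n308 = n209 := d13_1 D308 F382 (iv F376)
def n309 : Q := act 4 n208
theorem D309 : act 4 n208 = n309 := rfl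
theorem F537 : act 0 n309 = n214 := d3_1 D309 (iv D214) (iv F377)
theorem F538 : act 1 n309 = n309 := d7_1 D309 (iv D309) F378
def n310 : Q := act 3 n210
theorem D310 : act 3 n210 = n310 := rfl
theorem F539 : act 1 n310 = n211 := d6_1 D310 (iv D211) D210
theorem F540 : act 5 n310 = n211 := d13_2 F384 D310 (iv D211)
def n311 : Q := act 4 n210
theorem D311 : act 4 n210 = n311 := rfl
theorem F541 : act 1 n311 = n212 := d7_1 D311 (iv D212) D210
theorem F542 : act 2 n311 = n214 := d10_1 D311 (iv D214) (iv F383)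
def n312 : Q := act 2 n211
theorem D312 : act 2 n211 = n312 := rfl
def n313 : Q := act 4 n211
theorem D313 : act 4 n211 = n313 := rfl
def n314 : Q := act 3 n212
theorem D314 : act 3 n212 = n314 := rfl
def n315 : Q := act 5 n212
theorem D315 : act 5 n212 = n315 := rfl
theorem F543 : act 2 n315 = n213 := d11_1 D315 (iv D213) (iv F385)
def n316 : Q := act 4 n213
theorem D316 : act 4 n213 = n316 := rfl
theorem F544 : act 1 n316 = n215 := d7_1 D316 F390 (iv F386)
theorem F545 : act 3 n316 = n214 := d12_1 D316 (iv D214) F263 D141 (iv F387)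
theorem F546 : act 5 n316 = n214 := d14_2 D213 D316 (iv D214) (iv D140) D139
def n317 : Q := act 1 n216
theorem D317 : act 1 n216 = n317 := rfl
theorem F547 : act 2 n317 = n222 := d5_2 D216 D317 (iv D222) (iv D149) (iv F273)
theorem F548 : act 4 n317 = n218 := d7_2 (iv F394) D317 (iv D218)
def n318 : Q := act 3 n216
theorem D318 : act 3 n216 = n318 := rfl
theorem F549 : act 0 n318 = n318 := d2_1 D318 (iv D318) F393
def n319 : Q := act 5 n216
theorem D319 : act 5 n216 = n319 := rfl
theorem F550 : act 0 n319 = n319 := d4_1 D319 (iv D319) F393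
theorem F551 : act 2 n319 = n217 := d11_1 D319 (iv D217) D216
def n320 : Q := act 4 n217
theorem D320 : act 4 n217 = n320 := rfl
theorem F552 : act 0 n320 = n320 := d3_1 D320 (iv D320) F395
theorem F553 : act 1 n320 = n225 := d7_1 D320 (iv D225) (iv F396)
theorem F554 : act 3 n320 = n320 := d12_1 D320 (iv D320) F397 F278 (iv F397)
theorem F555 : act 5 n320 = n221 := d14_2 D217 D320 (iv D221) (iv D148) (iv F274)
def n321 : Q := act 0 n218
theorem D321 : act 0 n218 = n321 := rfl
theorem F556 : act 1 n321 = n321 := d0_2 D218 D321 (iv D321) (iv D218) F279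
theorem F557 : act 2 n321 = n226 := d1_2 (iv F398) D321 (iv D226)
def n322 : Q := act 3 n218
theorem D322 : act 3 n218 = n322 := rfl
theorem F558 : act 1 n322 = n219 := d6_1 D322 (iv D219) D218
def n323 : Q := act 5 n218
theorem D323 : act 5 n218 = n323 := rfl
theorem F559 : act 1 n323 = n220 := d8_1 D323 (iv D220) D218
theorem F560 : act 2 n323 = n228 := d11_1 D323 (iv D228) (iv F398)
def n324 : Q := act 2 n219
theorem D324 : act 2 n219 = n324 := rfl
theorem F561 : act 0 n324 = n324 := d1_1 D324 (iv D324) F399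
theorem F562 : act 3 n324 = n220 := d15_3 D147 D219 D324 F401 F282 F200 (iv F282) (iv D148) F196
theorem F563 : act 5 n219 = n324 := d15_8 (iv D324) (iv D219) (iv D147) (iv D97) F136 D97 D147 D219 F561
def n325 : Q := act 4 n219
theorem D325 : act 4 n219 = n325 := rfl
theorem F564 : act 0 n325 = n325 := d3_1 D325 (iv D325) F399
def n326 : Q := act 4 n220
theorem D326 : act 4 n220 = n326 := rfl
theorem F565 : act 0 n326 = n326 := d3_1 D326 (iv D326) F400
theorem F566 : act 2 n326 = n221 := d10_1 D326 (iv D221) (iv F401)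
def n327 : Q := act 0 n222
theorem D327 : act 0 n222 = n327 := rfl
theorem F567 : act 1 n327 = n250 := d0_2 D222 D327 (iv D250) (iv D169) (iv F283)
theorem F568 : act 4 n327 = n226 := d3_2 (iv F405) D327 (iv D226)
def n328 : Q := act 3 n222
theorem D328 : act 3 n222 = n328 := rfl
theorem F569 : act 1 n328 = n223 := d6_1 D328 (iv D223) D222
def n329 : Q := act 5 n222
theorem D329 : act 5 n222 = n329 := rfl
theorem F570 : act 1 n329 = n224 := d8_1 D329 (iv D224) D222
def n330 : Q := act 2 n223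
theorem D330 : act 2 n223 = n330 := rfl
theorem F571 : act 0 n330 = n253 := d1_1 D330 (iv D253) (iv F406)
theorem F572 : act 3 n330 = n224 := d9_2 D223 D330 F408 F286 F205 (iv F229) (iv F324) (iv F458) (iv D253) (iv D170) (iv D112) (iv D73) (iv F138) D99 D149
theorem F573 : act 5 n223 = n330 := d13_0 F572 (iv D224) D223
def n331 : Q := act 4 n223
theorem D331 : act 4 n223 = n331 := rfl
theorem F574 : act 0 n331 = n254 := d3_1 D331 (iv D254) (iv F406)
theorem F575 : act 3 n331 = n229 := d12_1 D331 (iv D229) (iv D152) (iv F284) D223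
def n332 : Q := act 4 n224
theorem D332 : act 4 n224 = n332 := rfl
theorem F576 : act 0 n332 = n255 := d3_1 D332 (iv D255) (iv F407)
theorem F577 : act 2 n332 = n225 := d10_1 D332 (iv D225) (iv F408)
theorem F578 : act 5 n332 = n230 := d14_2 D224 D332 (iv D230) (iv D153) (iv F284)
def n333 : Q := act 3 n226
theorem D333 : act 3 n226 = n333 := rfl
theorem F579 : act 0 n333 = n227 := d2_1 D333 (iv D227) D226
theorem F580 : act 1 n333 = n256 := d6_1 D333 (iv D256) (iv F412)
theorem F581 : act 5 n274 = n333 := d4_0 F579 (iv F414) D274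
def n334 : Q := act 5 n226
theorem D334 : act 5 n226 = n334 := rfl
theorem F582 : act 0 n334 = n228 := d4_1 D334 (iv D228) D226
theorem F583 : act 1 n334 = n257 := d8_1 D334 (iv D257) (iv F412)
theorem F584 : act 3 n334 = n274 := d13_1 D334 F581 (iv D333)
def n335 : Q := act 2 n227
theorem D335 : act 2 n227 = n335 := rfl
theorem F585 : act 1 n335 = n270 := d5_1 D335 F479 F338 (iv F288) (iv F413)
theorem F586 : act 5 n335 = n267 := d11_2 F414 D335 F477
def n336 : Q := act 4 n227
theorem D336 : act 4 n227 = n336 := rfl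
theorem F587 : act 1 n336 = n229 := d7_1 D336 (iv D229) (iv F413)
def n337 : Q := act 4 n228
theorem D337 : act 4 n228 = n337 := rfl
theorem F588 : act 1 n337 = n230 := d7_1 D337 (iv D230) (iv F415)
def n338 : Q := act 5 n229
theorem D338 : act 5 n229 = n338 := rfl
theorem F589 : act 0 n338 = n261 := d4_1 D338 (iv D261) (iv F417)
theorem F590 : act 2 n338 = n278 := d11_1 D338 F487 (iv F418)
theorem F591 : act 4 n338 = n277 := d14_1 D338 (iv D277) (iv D185) F289 D229
def n339 : Q := act 3 n230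
theorem D339 : act 3 n230 = n339 := rfl
theorem F592 : act 0 n339 = n262 := d2_1 D339 (iv D262) (iv F419)
theorem F593 : act 4 n339 = n276 := d12_2 D230 D339 (iv D276) (iv D185) (iv F292)
def n340 : Q := act 2 n231
theorem D340 : act 2 n231 = n340 := rfl
theorem F594 : act 0 n340 = n233 := d1_1 D340 (iv D233) (iv F421)
def n341 : Q := act 4 n231
theorem D341 : act 4 n231 = n341 := rfl
theorem F595 : act 0 n341 = n234 := d3_1 D341 (iv D234) (iv F421)
theorem F596 : act 1 n341 = n264 := d7_1 D341 (iv D264) (iv F422)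
theorem F597 : act 3 n341 = n243 := d12_1 D341 (iv D243) (iv D162) (iv F297) D231
def n342 : Q := act 5 n231
theorem D342 : act 5 n231 = n342 := rfl
theorem F598 : act 0 n342 = n235 := d4_1 D342 (iv D235) (iv F421)
theorem F599 : act 1 n342 = n265 := d8_1 D342 (iv D265) (iv F422)
theorem F600 : act 3 n342 = n232 := d13_1 D342 (iv D232) D231
def n343 : Q := act 4 n232
theorem D343 : act 4 n232 = n343 := rfl
theorem F601 : act 0 n343 = n236 := d3_1 D343 (iv D236) (iv F423)
theorem F602 : act 1 n343 = n266 := d7_1 D343 (iv D266) (iv F424)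
theorem F603 : act 2 n343 = n343 := d10_1 D343 (iv D343) F425
theorem F604 : act 5 n343 = n244 := d14_2 D232 D343 (iv D244) (iv D163) (iv F297)
def n344 : Q := act 1 n233
theorem D344 : act 1 n233 = n344 := rfl
theorem F605 : act 2 n344 = n237 := d5_2 D233 D344 (iv D237) (iv D158) (iv F298)
theorem F606 : act 5 n258 = n344 := d11_0 F605 F434 D258
def n345 : Q := act 3 n233
theorem D345 : act 3 n233 = n345 := rfl
def n346 : Q := act 4 n233
theorem D346 : act 4 n233 = n346 := rfl
theorem F607 : act 2 n346 = n234 := d10_1 D346 (iv D234) D233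
def n347 : Q := act 5 n233
theorem D347 : act 5 n233 = n347 := rfl
theorem F608 : act 1 n347 = n258 := d8_1 D347 F606 (iv D344)
theorem F609 : act 2 n347 = n235 := d11_1 D347 (iv D235) D233
def n348 : Q := act 5 n234
theorem D348 : act 5 n234 = n348 := rfl
theorem F610 : act 1 n348 = n239 := d8_1 D348 (iv D239) (iv F426)
theorem F611 : act 3 n348 = n247 := d13_1 D348 (iv D247) (iv F427)
def n349 : Q := act 4 n235
theorem D349 : act 4 n235 = n349 := rfl
theorem F612 : act 1 n349 = n240 := d7_1 D349 (iv D240) (iv F428)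
def n350 : Q := act 3 n236
theorem D350 : act 3 n236 = n350 := rfl
theorem F613 : act 1 n350 = n241 := d6_1 D350 (iv D241) (iv F430)
theorem F614 : act 5 n350 = n248 := d13_2 (iv F432) D350 (iv D248)
def n351 : Q := act 0 n237
theorem D351 : act 0 n237 = n351 := rfl
theorem F615 : act 1 n351 = n274 := d0_2 D237 D351 (iv D274) (iv D184) (iv F301)
theorem F616 : act 3 n351 = n257 := d2_2 (iv F433) D351 F464
theorem F617 : act 5 n351 = n256 := d4_2 (iv F434) D351 F463
def n352 : Q := act 4 n237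
theorem D352 : act 4 n237 = n352 := rfl
theorem F618 : act 1 n352 = n238 := d7_1 D352 (iv D238) D237
def n353 : Q := act 3 n238
theorem D353 : act 3 n238 = n353 := rfl
theorem F619 : act 0 n353 = n276 := d2_1 D353 (iv D276) (iv F435)
theorem F620 : act 4 n353 = n262 := d12_2 D238 D353 (iv D262) (iv D177) (iv F302)
def n354 : Q := act 5 n238
theorem D354 : act 5 n238 = n354 := rfl
theorem F621 : act 0 n354 = n277 := d4_1 D354 (iv D277) (iv F435)
theorem F622 : act 2 n354 = n239 := d11_1 D354 (iv D239) (iv F436)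
theorem F623 : act 4 n354 = n261 := d14_1 D354 (iv D261) (iv D176) F303 D238
def n355 : Q := act 4 n239
theorem D355 : act 4 n239 = n355 := rfl
theorem F624 : act 0 n355 = n278 := d3_1 D355 (iv D278) (iv F437)
theorem F625 : act 2 n355 = n261 := d10_1 D355 (iv F623) F622
theorem F626 : act 5 n355 = n240 := d14_2 D239 D355 (iv D240) (iv D160) D159
def n356 : Q := act 3 n240
theorem D356 : act 3 n240 = n356 := rfl
theorem F627 : act 0 n356 = n279 := d2_1 D356 (iv D279) (iv F439)
theorem F628 : act 4 n356 = n241 := d12_2 D240 D356 (iv D241) (iv D161) (iv F308)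
def n357 : Q := act 1 n242
theorem D357 : act 1 n242 = n357 := rfl
theorem F629 : act 0 n357 = n245 := d0_1 D357 (iv F496) F495 F356 (iv F443)
theorem F630 : act 2 n357 = n281 := d5_2 D242 D357 (iv D281) (iv D189) (iv F313)
theorem F631 : act 3 n242 = n357 := d15_1 D242 F630 F491 F353 F251 F223 (iv F251) F252 (iv F312)
def n358 : Q := act 4 n242
theorem D358 : act 4 n242 = n358 := rfl
theorem F632 : act 0 n358 = n246 := d3_1 D358 (iv D246) (iv F443)
theorem F633 : act 2 n358 = n243 := d10_1 D358 (iv D243) D242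
def n359 : Q := act 5 n243
theorem D359 : act 5 n243 = n359 := rfl
theorem F634 : act 0 n359 = n247 := d4_1 D359 (iv D247) (iv F444)
theorem F635 : act 1 n359 = n284 := d8_1 D359 (iv D284) (iv F445)
def n360 : Q := act 3 n244
theorem D360 : act 3 n244 = n360 := rfl
theorem F636 : act 0 n360 = n248 := d2_1 D360 (iv D248) (iv F446)
theorem F637 : act 1 n360 = n286 := d6_1 D360 (iv D286) (iv F447)
def n361 : Q := act 2 n245
theorem D361 : act 2 n245 = n361 := rfl
theorem F638 : act 0 n361 = n281 := d1_1 D361 (iv F630) F629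
theorem F639 : act 1 n361 = n287 := d5_1 D361 F502 F361 (iv F497) F496
theorem F640 : act 5 n361 = n357 := d11_2 (iv F492) D361 F630
theorem F641 : act 3 n361 = n287 := d15_3 D164 D245 D361 F502 F362 F316 (iv F362) F363 F312
def n362 : Q := act 4 n245
theorem D362 : act 4 n245 = n362 := rfl
def n363 : Q := act 3 n246
theorem D363 : act 3 n246 = n363 := rfl
def n364 : Q := act 5 n246
theorem D364 : act 5 n246 = n364 := rfl
theorem F642 : act 2 n364 = n247 := d11_1 D364 (iv D247) (iv F449)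
def n365 : Q := act 2 n248
theorem D365 : act 2 n248 = n365 := rfl
def n366 : Q := act 1 n249
theorem D366 : act 1 n249 = n366 := rfl
def n367 : Q := act 3 n250
theorem D367 : act 3 n250 = n367 := rfl
theorem F643 : act 0 n367 = n251 := d2_1 D367 (iv D251) D250
def n368 : Q := act 5 n250
theorem D368 : act 5 n250 = n368 := rfl
theorem F644 : act 0 n368 = n252 := d4_1 D368 (iv D252) D250
theorem F645 : act 2 n368 = n368 := d11_1 D368 (iv D368) F453
def n369 : Q := act 2 n251
theorem D369 : act 2 n251 = n369 := rfl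
def n370 : Q := act 4 n251
theorem D370 : act 4 n251 = n370 := rfl
theorem F646 : act 1 n370 = n254 := d7_1 D370 (iv D254) (iv F455)
theorem F647 : act 3 n370 = n259 := d12_1 D370 (iv D259) (iv D174) (iv F323) D251
def n371 : Q := act 5 n251
theorem D371 : act 5 n251 = n371 := rfl
theorem F648 : act 1 n371 = n253 := d8_1 D371 (iv F459) (iv F455)
theorem F649 : act 3 n371 = n252 := d13_1 D371 (iv D252) D251
def n372 : Q := act 4 n252
theorem D372 : act 4 n252 = n372 := rfl
theorem F650 : act 1 n372 = n255 := d7_1 D372 (iv D255) (iv F456)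
theorem F651 : act 2 n372 = n372 := d10_1 D372 (iv D372) F457
theorem F652 : act 5 n372 = n260 := d14_2 D252 D372 (iv D260) (iv D175) (iv F323)
def n373 : Q := act 4 n253
theorem D373 : act 4 n253 = n373 := rfl
theorem F653 : act 2 n373 = n254 := d10_1 D373 (iv D254) D253
def n374 : Q := act 5 n254
theorem D374 : act 5 n254 = n374 := rfl
theorem F654 : act 3 n374 = n261 := d13_1 D374 (iv D261) (iv F460)
def n375 : Q := act 3 n255
theorem D375 : act 3 n255 = n375 := rfl
theorem F655 : act 5 n375 = n262 := d13_2 (iv F462) D375 (iv D262)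
def n376 : Q := act 2 n256
theorem D376 : act 2 n256 = n376 := rfl
theorem F656 : act 0 n376 = n258 := d1_1 D376 (iv D258) (iv F463)
def n377 : Q := act 4 n256
theorem D377 : act 4 n256 = n377 := rfl
theorem F657 : act 0 n377 = n259 := d3_1 D377 (iv D259) (iv F463)
def n378 : Q := act 4 n257
theorem D378 : act 4 n257 = n378 := rfl
theorem F658 : act 0 n378 = n260 := d3_1 D378 (iv D260) (iv F464)
theorem F659 : act 2 n378 = n378 := d10_1 D378 (iv D378) F465
def n379 : Q := act 3 n258
theorem D379 : act 3 n258 = n379 := rfl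
def n380 : Q := act 4 n258
theorem D380 : act 4 n258 = n380 := rfl
theorem F660 : act 2 n380 = n259 := d10_1 D380 (iv D259) D258
def n381 : Q := act 5 n259
theorem D381 : act 5 n259 = n381 := rfl
theorem F661 : act 1 n381 = n261 := d8_1 D381 (iv D261) (iv F466)
def n382 : Q := act 3 n260
theorem D382 : act 3 n260 = n382 := rfl
theorem F662 : act 1 n382 = n262 := d6_1 D382 (iv D262) (iv F467)
def n383 : Q := act 2 n262
theorem D383 : act 2 n262 = n383 := rfl
def n384 : Q := act 1 n263
theorem D384 : act 1 n263 = n384 := rfl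
def n385 : Q := act 3 n263
theorem D385 : act 3 n263 = n385 := rfl
theorem F663 : act 0 n385 = n268 := d2_1 D385 (iv D268) (iv F469)
theorem F664 : act 2 n385 = n310 := d15_2 D263 D385 (iv D310) F383 F263 (iv F238) (iv F339) (iv D182) (iv F333)
theorem F665 : act 5 n312 = n385 := d11_0 F664 F540 D312
def n386 : Q := act 4 n263
theorem D386 : act 4 n263 = n386 := rfl
theorem F666 : act 0 n386 = n269 := d3_1 D386 (iv D269) (iv F469)
theorem F667 : act 2 n386 = n264 := d10_1 D386 (iv D264) D263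
def n387 : Q := act 5 n263
theorem D387 : act 5 n263 = n387 := rfl
theorem F668 : act 0 n387 = n270 := d4_1 D387 (iv D270) (iv F469)
theorem F669 : act 2 n387 = n265 := d11_1 D387 (iv D265) D263
theorem F670 : act 3 n387 = n312 := d13_1 D387 F665 (iv D385)
def n388 : Q := act 5 n264
theorem D388 : act 5 n264 = n388 := rfl
theorem F671 : act 0 n388 = n271 := d4_1 D388 (iv D271) (iv F470)
theorem F672 : act 3 n388 = n284 := d13_1 D388 (iv D284) (iv F471)
def n389 : Q := act 4 n265
theorem D389 : act 4 n265 = n389 := rfl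
theorem F673 : act 0 n389 = n272 := d3_1 D389 (iv D272) (iv F472)
def n390 : Q := act 3 n266
theorem D390 : act 3 n266 = n390 := rfl
theorem F674 : act 0 n390 = n273 := d2_1 D390 (iv D273) (iv F474)
theorem F675 : act 5 n390 = n286 := d13_2 (iv F476) D390 (iv D286)
def n391 : Q := act 0 n267
theorem D391 : act 0 n267 = n391 := rfl
theorem F676 : act 2 n391 = n274 := d1_2 (iv F477) D391 (iv D274)
def n392 : Q := act 3 n267
theorem D392 : act 3 n267 = n392 := rfl
theorem F677 : act 1 n392 = n268 := d6_1 D392 (iv D268) D267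
def n393 : Q := act 4 n267
theorem D393 : act 4 n267 = n393 := rfl
theorem F678 : act 1 n393 = n269 := d7_1 D393 (iv D269) D267
theorem F679 : act 2 n393 = n275 := d10_1 D393 (iv D275) (iv F477)
def n394 : Q := act 2 n268
theorem D394 : act 2 n268 = n394 := rfl
theorem F680 : act 0 n394 = n310 := d1_1 D394 (iv F664) F663
theorem F681 : act 3 n394 = n307 := d9_2 D268 D394 F533 F379 (iv F335) (iv F473) (iv F669) F670 (iv D312) (iv D211) (iv D138) (iv D89) (iv F161) D119 D180
theorem F682 : act 5 n305 = n394 := d13_0 F681 (iv D307) D305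
def n395 : Q := act 4 n268
theorem D395 : act 4 n268 = n395 := rfl
def n396 : Q := act 5 n268
theorem D396 : act 5 n268 = n396 := rfl
theorem F683 : act 0 n396 = n312 := d4_1 D396 F665 F663
theorem F684 : act 2 n396 = n305 := d11_1 D396 F682 (iv D394)
theorem F685 : act 3 n396 = n270 := d13_1 D396 (iv D270) D268
def n397 : Q := act 3 n269
theorem D397 : act 3 n269 = n397 := rfl
def n398 : Q := act 5 n269
theorem D398 : act 5 n269 = n398 := rfl
theorem F686 : act 2 n398 = n271 := d11_1 D398 (iv D271) (iv F478)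
def n399 : Q := act 4 n270
theorem D399 : act 4 n270 = n399 := rfl
theorem F687 : act 2 n399 = n272 := d10_1 D399 (iv D272) (iv F479)
def n400 : Q := act 4 n271
theorem D400 : act 4 n271 = n400 := rfl
theorem F688 : act 1 n400 = n278 := d7_1 D400 (iv D278) (iv F480)
theorem F689 : act 5 n400 = n272 := d14_2 D271 D400 (iv D272) (iv D182) D181
def n401 : Q := act 3 n272
theorem D401 : act 3 n272 = n401 := rfl
theorem F690 : act 1 n401 = n279 := d6_1 D401 (iv D279) (iv F482)
theorem F691 : act 4 n401 = n273 := d12_2 D272 D401 (iv D273) (iv D183) (iv F339)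
def n402 : Q := act 2 n273
theorem D402 : act 2 n273 = n402 := rfl
theorem F692 : act 5 n402 = n294 := d11_2 (iv F484) D402 (iv D294)
def n403 : Q := act 4 n274
theorem D403 : act 4 n274 = n403 := rfl
theorem F693 : act 0 n403 = n275 := d3_1 D403 (iv D275) D274
def n404 : Q := act 3 n275
theorem D404 : act 3 n275 = n404 := rfl
theorem F694 : act 1 n404 = n276 := d6_1 D404 (iv D276) (iv F485)
def n405 : Q := act 5 n275
theorem D405 : act 5 n275 = n405 := rfl
theorem F695 : act 1 n405 = n277 := d8_1 D405 (iv D277) (iv F485)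
def n406 : Q := act 2 n276
theorem D406 : act 2 n276 = n406 := rfl
def n407 : Q := act 5 n276
theorem D407 : act 5 n276 = n407 := rfl
theorem F696 : act 3 n407 = n277 := d13_1 D407 (iv D277) D276
def n408 : Q := act 3 n278
theorem D408 : act 3 n278 = n408 := rfl
theorem F697 : act 4 n408 = n300 := d12_2 D278 D408 (iv D300) (iv D203) (iv F344)
theorem F698 : act 5 n408 = n279 := d13_2 (iv F487) D408 (iv D279)
def n409 : Q := act 2 n279
theorem D409 : act 2 n279 = n409 := rfl
theorem F699 : act 4 n409 = n280 := d10_2 (iv F488) D409 (iv D280)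
def n410 : Q := act 1 n280
theorem D410 : act 1 n280 = n410 := rfl
theorem F700 : act 3 n410 = n366 := d6_2 (iv F490) D410 (iv D366)
theorem F701 : act 5 n410 = n302 := d8_2 (iv F489) D410 (iv D302)
def n411 : Q := act 4 n281
theorem D411 : act 4 n281 = n411 := rfl
theorem F702 : act 1 n411 = n282 := d7_1 D411 (iv D282) D281
def n412 : Q := act 3 n282
theorem D412 : act 3 n282 = n412 := rfl
theorem F703 : act 0 n412 = n289 := d2_1 D412 (iv D289) (iv F493)
theorem F704 : act 4 n412 = n289 := d12_2 D282 D412 (iv D289) (iv D194) (iv F347)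
def n413 : Q := act 5 n282
theorem D413 : act 5 n282 = n413 := rfl
theorem F705 : act 0 n413 = n290 := d4_1 D413 (iv D290) (iv F493)
theorem F706 : act 2 n413 = n284 := d11_1 D413 (iv D284) (iv F494)
def n414 : Q := act 4 n283
theorem D414 : act 4 n283 = n414 := rfl
theorem F707 : act 0 n414 = n291 := d3_1 D414 (iv D291) (iv F495)
theorem F708 : act 1 n414 = n362 := d7_1 D414 (iv D362) (iv F496)
theorem F709 : act 2 n414 = n285 := d10_1 D414 (iv D285) (iv F497)
def n415 : Q := act 4 n284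
theorem D415 : act 4 n284 = n415 := rfl
theorem F710 : act 0 n415 = n292 := d3_1 D415 (iv D292) (iv F499)
theorem F711 : act 5 n415 = n285 := d14_2 D284 D415 (iv D285) (iv D191) D190
def n416 : Q := act 3 n285
theorem D416 : act 3 n285 = n416 := rfl
theorem F712 : act 0 n416 = n293 := d2_1 D416 (iv D293) (iv F500)
theorem F713 : act 4 n416 = n286 := d12_2 D285 D416 (iv D286) (iv D192) (iv F350)
def n417 : Q := act 2 n286
theorem D417 : act 2 n286 = n417 := rfl
theorem F714 : act 0 n417 = n294 := d1_1 D417 (iv D294) (iv F501)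
def n418 : Q := act 4 n287
theorem D418 : act 4 n287 = n418 := rfl
theorem F715 : act 0 n418 = n288 := d3_1 D418 (iv D288) D287
theorem F716 : act 2 n418 = n295 := d10_1 D418 (iv D295) (iv F502)
def n419 : Q := act 3 n288
theorem D419 : act 3 n288 = n419 := rfl
theorem F717 : act 1 n419 = n289 := d6_1 D419 (iv D289) (iv F504)
def n420 : Q := act 5 n288
theorem D420 : act 5 n288 = n420 := rfl
theorem F718 : act 1 n420 = n290 := d8_1 D420 (iv D290) (iv F504)
theorem F719 : act 2 n420 = n297 := d11_1 D420 (iv D297) (iv F505)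
theorem F720 : act 4 n420 = n364 := d14_1 D420 (iv D364) (iv D246) F354 D288
def n421 : Q := act 2 n289
theorem D421 : act 2 n289 = n421 := rfl
def n422 : Q := act 5 n289
theorem D422 : act 5 n289 = n422 := rfl
theorem F721 : act 3 n422 = n290 := d13_1 D422 (iv D290) D289
def n423 : Q := act 4 n290
theorem D423 : act 4 n290 = n423 := rfl
theorem F722 : act 1 n423 = n364 := d7_1 D423 (iv F720) F718
theorem F723 : act 2 n423 = n292 := d10_1 D423 (iv D292) (iv F506)
theorem F724 : act 5 n423 = n291 := d14_2 D290 D423 (iv D291) (iv D195) D194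
def n424 : Q := act 3 n291
theorem D424 : act 3 n291 = n424 := rfl
theorem F725 : act 1 n424 = n363 := d6_1 D424 (iv D363) (iv F507)
def n425 : Q := act 3 n292
theorem D425 : act 3 n292 = n425 := rfl
theorem F726 : act 1 n425 = n300 := d6_1 D425 (iv D300) (iv F509)
theorem F727 : act 5 n425 = n293 := d13_2 (iv F510) D425 (iv D293)
def n426 : Q := act 2 n293
theorem D426 : act 2 n293 = n426 := rfl
theorem F728 : act 4 n426 = n294 := d10_2 (iv F512) D426 (iv D294)
def n427 : Q := act 1 n294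
theorem D427 : act 1 n294 = n427 := rfl
theorem F729 : act 2 n427 = n302 := d5_2 D294 D427 (iv D302) (iv D205) (iv F360)
def n428 : Q := act 3 n294
theorem D428 : act 3 n294 = n428 := rfl
def n429 : Q := act 3 n295
theorem D429 : act 3 n295 = n429 := rfl
theorem F730 : act 0 n429 = n296 := d2_1 D429 (iv D296) (iv F513)
theorem F731 : act 1 n429 = n416 := d6_1 D429 (iv D416) (iv F514)
theorem F732 : act 4 n429 = n360 := d12_2 D295 D429 (iv D360) (iv D244) (iv F362)
def n430 : Q := act 5 n295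
theorem D430 : act 5 n295 = n430 := rfl
theorem F733 : act 0 n430 = n297 := d4_1 D430 (iv D297) (iv F513)
theorem F734 : act 1 n430 = n415 := d8_1 D430 F711 (iv F514)
theorem F735 : act 4 n430 = n359 := d14_1 D430 (iv D359) (iv D243) (iv F363) D295
def n431 : Q := act 2 n296
theorem D431 : act 2 n296 = n431 := rfl
theorem F736 : act 4 n431 = n365 := d10_2 (iv F516) D431 (iv D365)
def n432 : Q := act 5 n296
theorem D432 : act 5 n296 = n432 := rfl
theorem F737 : act 1 n432 = n299 := d8_1 D432 (iv D299) (iv F515)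
theorem F738 : act 3 n432 = n297 := d13_1 D432 (iv D297) D296
def n433 : Q := act 1 n298
theorem D433 : act 1 n298 = n433 := rfl
theorem F739 : act 4 n433 = n366 := d7_2 (iv F519) D433 (iv D366)
def n434 : Q := act 3 n298
theorem D434 : act 3 n298 = n434 := rfl
def n435 : Q := act 5 n298
theorem D435 : act 5 n298 = n435 := rfl
theorem F740 : act 2 n435 = n299 := d11_1 D435 (iv D299) D298
def n436 : Q := act 4 n299
theorem D436 : act 4 n299 = n436 := rfl
theorem F741 : act 0 n436 = n408 := d3_1 D436 F697 F521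
theorem F742 : act 3 n436 = n355 := d12_1 D436 (iv D355) F438 (iv F367) (iv F520)
theorem F743 : act 5 n436 = n356 := d14_2 D299 D436 F628 F442 (iv F365)
def n437 : Q := act 2 n300
theorem D437 : act 2 n300 = n437 := rfl
theorem F744 : act 0 n437 = n435 := d1_1 D437 F740 (iv F521)
theorem F745 : act 5 n437 = n301 := d11_2 (iv F522) D437 (iv D301)
theorem F746 : act 3 n437 = n406 := d15_1 D437 (iv D406) (iv D276) F343 F239 (iv F253) D201 D299 (iv F521)
def n438 : Q := act 1 n301
theorem D438 : act 1 n301 = n438 := rfl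
theorem F747 : act 4 n438 = n302 := d7_2 (iv F524) D438 (iv D302)
def n439 : Q := act 3 n301
theorem D439 : act 3 n301 = n439 := rfl
theorem F748 : act 0 n439 = n434 := d2_1 D439 (iv D434) (iv F523)
theorem F749 : act 5 n439 = n406 := d13_2 F745 D439 (iv F746)
theorem F750 : act 2 n439 = n407 := d15_2 D301 D439 F696 F486 F344 (iv F366) (iv F520) (iv D299) (iv F371)
def n440 : Q := act 0 n302
theorem D440 : act 0 n302 = n440 := rfl
def n441 : Q := act 3 n302
theorem D441 : act 3 n302 = n441 := rfl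
theorem F751 : act 1 n441 = n303 := d6_1 D441 (iv D303) D302
theorem F752 : act 5 n441 = n366 := d13_2 F701 D441 (iv F700)
def n442 : Q := act 4 n303
theorem D442 : act 4 n303 = n442 := rfl
theorem F753 : act 0 n442 = n409 := d3_1 D442 F699 (iv F525)
theorem F754 : act 2 n442 = n356 := d10_1 D442 F628 (iv F527)
def n443 : Q := act 0 n304
theorem D443 : act 0 n304 = n443 := rfl
theorem F755 : act 1 n443 = n307 := d0_2 D304 D443 F532 (iv D210) (iv F373)
theorem F756 : act 2 n443 = n443 := d1_2 F528 D443 (iv D443)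
theorem F757 : act 5 n304 = n443 := d8_0 F755 (iv D307) D304
def n444 : Q := act 3 n304
theorem D444 : act 3 n304 = n444 := rfl
theorem F758 : act 1 n444 = n305 := d6_1 D444 (iv D305) D304
def n445 : Q := act 4 n304
theorem D445 : act 4 n304 = n445 := rfl
theorem F759 : act 1 n445 = n306 := d7_1 D445 (iv D306) D304
theorem F760 : act 2 n445 = n445 := d10_1 D445 (iv D445) F528
def n446 : Q := act 4 n305
theorem D446 : act 4 n305 = n446 := rfl
theorem F761 : act 0 n446 = n313 := d3_1 D446 (iv D313) (iv F529)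
def n447 : Q := act 3 n306
theorem D447 : act 3 n306 = n447 := rfl
theorem F762 : act 0 n447 = n314 := d2_1 D447 (iv D314) (iv F530)
def n448 : Q := act 5 n306
theorem D448 : act 5 n306 = n448 := rfl
theorem F763 : act 0 n448 = n315 := d4_1 D448 (iv D315) (iv F530)
theorem F764 : act 2 n448 = n308 := d11_1 D448 (iv D308) (iv F531)
def n449 : Q := act 4 n307
theorem D449 : act 4 n307 = n449 := rfl
theorem F765 : act 0 n449 = n311 := d3_1 D449 (iv D311) (iv F532)
theorem F766 : act 2 n449 = n309 := d10_1 D449 (iv D309) (iv F533)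
def n450 : Q := act 4 n308
theorem D450 : act 4 n308 = n450 := rfl
theorem F767 : act 0 n450 = n316 := d3_1 D450 (iv D316) (iv F534)
theorem F768 : act 1 n450 = n450 := d7_1 D450 (iv D450) F535
theorem F769 : act 3 n450 = n309 := d12_1 D450 (iv D309) F379 D209 (iv F536)
theorem F770 : act 5 n450 = n309 := d14_2 D308 D450 (iv D309) (iv D208) D207
def n451 : Q := act 4 n310
theorem D451 : act 4 n310 = n451 := rfl
theorem F771 : act 1 n451 = n313 := d7_1 D451 (iv D313) (iv F539)
def n452 : Q := act 3 n311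
theorem D452 : act 3 n311 = n452 := rfl
theorem F772 : act 1 n452 = n314 := d6_1 D452 (iv D314) (iv F541)
def n453 : Q := act 5 n311
theorem D453 : act 5 n311 = n453 := rfl
theorem F773 : act 1 n453 = n315 := d8_1 D453 (iv D315) (iv F541)
theorem F774 : act 2 n453 = n316 := d11_1 D453 F546 (iv F542)
theorem F775 : act 4 n453 = n315 := d14_1 D453 (iv D315) (iv D212) F384 D311
def n454 : Q := act 1 n312
theorem D454 : act 1 n312 = n454 := rfl
def n455 : Q := act 4 n312
theorem D455 : act 4 n312 = n455 := rfl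
theorem F776 : act 2 n455 = n313 := d10_1 D455 (iv D313) D312
def n456 : Q := act 3 n313
theorem D456 : act 3 n313 = n456 := rfl
theorem F777 : act 4 n456 = n314 := d12_2 D313 D456 (iv D314) (iv D212) D211
def n457 : Q := act 5 n313
theorem D457 : act 5 n313 = n457 := rfl
def n458 : Q := act 2 n314
theorem D458 : act 2 n314 = n458 := rfl
def n459 : Q := act 5 n314
theorem D459 : act 5 n314 = n459 := rfl
theorem F778 : act 3 n459 = n315 := d13_1 D459 (iv D315) D314
def n460 : Q := act 0 n317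
theorem D460 : act 0 n317 = n460 := rfl
theorem F779 : act 1 n460 = n460 := d0_2 D317 D460 (iv D460) (iv D317) F393
theorem F780 : act 2 n460 = n327 := d1_2 (iv F547) D460 (iv D327)
theorem F781 : act 4 n460 = n321 := d3_2 (iv F548) D460 (iv D321)
def n461 : Q := act 3 n317
theorem D461 : act 3 n317 = n461 := rfl
theorem F782 : act 1 n461 = n318 := d6_1 D461 (iv D318) D317
def n462 : Q := act 5 n317
theorem D462 : act 5 n317 = n462 := rfl
theorem F783 : act 1 n462 = n319 := d8_1 D462 (iv D319) D317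
theorem F784 : act 2 n462 = n329 := d11_1 D462 (iv D329) (iv F547)
def n463 : Q := act 2 n318
theorem D463 : act 2 n318 = n463 := rfl
theorem F785 : act 0 n463 = n463 := d1_1 D463 (iv D463) F549
theorem F786 : act 3 n463 = n319 := d15_3 D216 D318 D463 F551 F397 F277 (iv F397) (iv D217) F272
theorem F787 : act 5 n318 = n463 := d15_8 (iv D463) (iv D318) (iv D216) (iv D145) F195 D145 D216 D318 F785
def n464 : Q := act 4 n318
theorem D464 : act 4 n318 = n464 := rfl
theorem F788 : act 0 n464 = n464 := d3_1 D464 (iv D464) F549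
theorem F789 : act 3 n464 = n325 := d12_1 D464 (iv D325) (iv D219) (iv F394) D318
def n465 : Q := act 4 n319
theorem D465 : act 4 n319 = n465 := rfl
theorem F790 : act 0 n465 = n465 := d3_1 D465 (iv D465) F550
theorem F791 : act 2 n465 = n320 := d10_1 D465 (iv D320) (iv F551)
theorem F792 : act 5 n465 = n326 := d14_2 D319 D465 (iv D326) (iv D220) (iv F394)
def n466 : Q := act 3 n321
theorem D466 : act 3 n321 = n466 := rfl
theorem F793 : act 0 n466 = n322 := d2_1 D466 (iv D322) D321
theorem F794 : act 1 n466 = n466 := d6_1 D466 (iv D466) F556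
def n467 : Q := act 5 n321
theorem D467 : act 5 n321 = n467 := rfl
theorem F795 : act 0 n467 = n323 := d4_1 D467 (iv D323) D321
theorem F796 : act 1 n467 = n467 := d8_1 D467 (iv D467) F556
theorem F797 : act 2 n467 = n334 := d11_1 D467 (iv D334) (iv F557)
def n468 : Q := act 2 n322
theorem D468 : act 2 n322 = n468 := rfl
def n469 : Q := act 4 n322
theorem D469 : act 4 n322 = n469 := rfl
theorem F798 : act 1 n469 = n325 := d7_1 D469 (iv D325) (iv F558)
def n470 : Q := act 5 n322
theorem D470 : act 5 n322 = n470 := rfl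
theorem F799 : act 1 n470 = n324 := d8_1 D470 (iv F563) (iv F558)
theorem F800 : act 3 n470 = n323 := d13_1 D470 (iv D323) D322
def n471 : Q := act 4 n323
theorem D471 : act 4 n323 = n471 := rfl
theorem F801 : act 1 n471 = n326 := d7_1 D471 (iv D326) (iv F559)
theorem F802 : act 2 n471 = n337 := d10_1 D471 (iv D337) (iv F560)
def n472 : Q := act 4 n324
theorem D472 : act 4 n324 = n472 := rfl
theorem F803 : act 0 n472 = n472 := d3_1 D472 (iv D472) F561
theorem F804 : act 2 n472 = n325 := d10_1 D472 (iv D325) D324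
def n473 : Q := act 5 n325
theorem D473 : act 5 n325 = n473 := rfl
theorem F805 : act 0 n473 = n473 := d4_1 D473 (iv D473) F564
def n474 : Q := act 3 n326
theorem D474 : act 3 n326 = n474 := rfl
theorem F806 : act 0 n474 = n474 := d2_1 D474 (iv D474) F565
def n475 : Q := act 3 n327
theorem D475 : act 3 n327 = n475 := rfl
theorem F807 : act 0 n475 = n328 := d2_1 D475 (iv D328) D327
theorem F808 : act 1 n475 = n367 := d6_1 D475 (iv D367) (iv F567)
def n476 : Q := act 5 n327
theorem D476 : act 5 n327 = n476 := rfl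
theorem F809 : act 0 n476 = n329 := d4_1 D476 (iv D329) D327
theorem F810 : act 1 n476 = n368 := d8_1 D476 (iv D368) (iv F567)
def n477 : Q := act 2 n328
theorem D477 : act 2 n328 = n477 := rfl
def n478 : Q := act 4 n328
theorem D478 : act 4 n328 = n478 := rfl
theorem F811 : act 1 n478 = n331 := d7_1 D478 (iv D331) (iv F569)
theorem F812 : act 3 n478 = n336 := d12_1 D478 (iv D336) (iv D227) (iv F405) D328
def n479 : Q := act 5 n328
theorem D479 : act 5 n328 = n479 := rfl
theorem F813 : act 1 n479 = n330 := d8_1 D479 (iv F573) (iv F569)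
theorem F814 : act 3 n479 = n329 := d13_1 D479 (iv D329) D328
def n480 : Q := act 4 n329
theorem D480 : act 4 n329 = n480 := rfl
theorem F815 : act 1 n480 = n332 := d7_1 D480 (iv D332) (iv F570)
theorem F816 : act 5 n480 = n337 := d14_2 D329 D480 (iv D337) (iv D228) (iv F405)
def n481 : Q := act 4 n330
theorem D481 : act 4 n330 = n481 := rfl
theorem F817 : act 0 n481 = n373 := d3_1 D481 (iv D373) (iv F571)
theorem F818 : act 2 n481 = n331 := d10_1 D481 (iv D331) D330
def n482 : Q := act 5 n331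
theorem D482 : act 5 n331 = n482 := rfl
theorem F819 : act 0 n482 = n374 := d4_1 D482 (iv D374) (iv F574)
theorem F820 : act 3 n482 = n338 := d13_1 D482 (iv D338) (iv F575)
def n483 : Q := act 3 n332
theorem D483 : act 3 n332 = n483 := rfl
theorem F821 : act 0 n483 = n375 := d2_1 D483 (iv D375) (iv F576)
theorem F822 : act 5 n483 = n339 := d13_2 (iv F578) D483 (iv D339)
def n484 : Q := act 2 n333
theorem D484 : act 2 n333 = n484 := rfl
theorem F823 : act 0 n484 = n335 := d1_1 D484 (iv D335) (iv F579)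
theorem F824 : act 5 n484 = n391 := d11_2 F581 D484 F676
def n485 : Q := act 4 n333
theorem D485 : act 4 n333 = n485 := rfl
theorem F825 : act 0 n485 = n336 := d3_1 D485 (iv D336) (iv F579)
theorem F826 : act 1 n485 = n377 := d7_1 D485 (iv D377) (iv F580)
def n486 : Q := act 4 n334
theorem D486 : act 4 n334 = n486 := rfl
theorem F827 : act 0 n486 = n337 := d3_1 D486 (iv D337) (iv F582)
theorem F828 : act 1 n486 = n378 := d7_1 D486 (iv D378) (iv F583)
def n487 : Q := act 3 n335
theorem D487 : act 3 n335 = n487 := rfl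
theorem F829 : act 1 n487 = n396 := d6_1 D487 F685 (iv F585)
theorem F830 : act 5 n487 = n392 := d13_2 (iv F586) D487 (iv D392)
def n488 : Q := act 4 n335
theorem D488 : act 4 n335 = n488 := rfl
theorem F831 : act 1 n488 = n399 := d7_1 D488 (iv D399) (iv F585)
theorem F832 : act 2 n488 = n336 := d10_1 D488 (iv D336) D335
def n489 : Q := act 5 n336
theorem D489 : act 5 n336 = n489 := rfl
theorem F833 : act 1 n489 = n338 := d8_1 D489 (iv D338) (iv F587)
theorem F834 : act 4 n489 = n405 := d14_1 D489 (iv D405) (iv D275) F414 D336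
def n490 : Q := act 3 n337
theorem D490 : act 3 n337 = n490 := rfl
theorem F835 : act 1 n490 = n339 := d6_1 D490 (iv D339) (iv F588)
theorem F836 : act 4 n490 = n404 := d12_2 D337 D490 (iv D404) (iv D275) (iv F416)
def n491 : Q := act 2 n339
theorem D491 : act 2 n339 = n491 := rfl
theorem F837 : act 0 n491 = n383 := d1_1 D491 (iv D383) (iv F592)
theorem F838 : act 4 n491 = n406 := d10_2 (iv F593) D491 (iv D406)
def n492 : Q := act 1 n340
theorem D492 : act 1 n340 = n492 := rfl
theorem F839 : act 2 n492 = n384 := d5_2 D340 D492 (iv D384) (iv D263) (iv F422)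
def n493 : Q := act 3 n340
theorem D493 : act 3 n340 = n493 := rfl
theorem F840 : act 0 n493 = n345 := d2_1 D493 (iv D345) (iv F594)
def n494 : Q := act 4 n340
theorem D494 : act 4 n340 = n494 := rfl
theorem F841 : act 0 n494 = n346 := d3_1 D494 (iv D346) (iv F594)
theorem F842 : act 2 n494 = n341 := d10_1 D494 (iv D341) D340
def n495 : Q := act 5 n340
theorem D495 : act 5 n340 = n495 := rfl
theorem F843 : act 0 n495 = n347 := d4_1 D495 (iv D347) (iv F594)
theorem F844 : act 2 n495 = n342 := d11_1 D495 (iv D342) D340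
def n496 : Q := act 5 n341
theorem D496 : act 5 n341 = n496 := rfl
theorem F845 : act 0 n496 = n348 := d4_1 D496 (iv D348) (iv F595)
theorem F846 : act 1 n496 = n388 := d8_1 D496 (iv D388) (iv F596)
theorem F847 : act 3 n496 = n359 := d13_1 D496 (iv D359) (iv F597)
def n497 : Q := act 4 n342
theorem D497 : act 4 n342 = n497 := rfl
theorem F848 : act 0 n497 = n349 := d3_1 D497 (iv D349) (iv F598)
theorem F849 : act 1 n497 = n389 := d7_1 D497 (iv D389) (iv F599)
def n498 : Q := act 3 n343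
theorem D498 : act 3 n343 = n498 := rfl
theorem F850 : act 0 n498 = n350 := d2_1 D498 (iv D350) (iv F601)
theorem F851 : act 1 n498 = n390 := d6_1 D498 (iv D390) (iv F602)
theorem F852 : act 5 n498 = n360 := d13_2 (iv F604) D498 (iv D360)
def n499 : Q := act 0 n344
theorem D499 : act 0 n344 = n499 := rfl
theorem F853 : act 2 n499 = n351 := d1_2 (iv F605) D499 (iv D351)
theorem F854 : act 5 n499 = n376 := d4_2 F606 D499 F656
def n500 : Q := act 3 n344
theorem D500 : act 3 n344 = n500 := rfl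
theorem F855 : act 1 n500 = n345 := d6_1 D500 (iv D345) D344
theorem F856 : act 5 n500 = n379 := d13_2 F606 D500 (iv D379)
def n501 : Q := act 4 n344
theorem D501 : act 4 n344 = n501 := rfl
theorem F857 : act 1 n501 = n346 := d7_1 D501 (iv D346) D344
theorem F858 : act 2 n501 = n352 := d10_1 D501 (iv D352) (iv F605)
def n502 : Q := act 2 n345
theorem D502 : act 2 n345 = n502 := rfl
theorem F859 : act 3 n502 = n495 := d15_3 D233 D345 D502 F844 F600 F425 (iv F600) (iv D342) F421
theorem F860 : act 5 n493 = n502 := d13_0 F859 (iv D495) D493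
def n503 : Q := act 4 n345
theorem D503 : act 4 n345 = n503 := rfl
def n504 : Q := act 5 n345
theorem D504 : act 5 n345 = n504 := rfl
theorem F861 : act 0 n504 = n502 := d4_1 D504 (iv F860) F840
theorem F862 : act 1 n504 = n379 := d8_1 D504 (iv F856) F855
theorem F863 : act 2 n504 = n493 := d11_1 D504 F860 (iv D502)
theorem F864 : act 3 n504 = n347 := d13_1 D504 (iv D347) D345
def n505 : Q := act 3 n346
theorem D505 : act 3 n346 = n505 := rfl
def n506 : Q := act 5 n346
theorem D506 : act 5 n346 = n506 := rfl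
theorem F865 : act 2 n506 = n348 := d11_1 D506 (iv D348) (iv F607)
def n507 : Q := act 4 n347
theorem D507 : act 4 n347 = n507 := rfl
theorem F866 : act 1 n507 = n380 := d7_1 D507 (iv D380) (iv F608)
theorem F867 : act 2 n507 = n349 := d10_1 D507 (iv D349) (iv F609)
def n508 : Q := act 4 n348
theorem D508 : act 4 n348 = n508 := rfl
theorem F868 : act 1 n508 = n355 := d7_1 D508 (iv D355) (iv F610)
theorem F869 : act 5 n508 = n349 := d14_2 D348 D508 (iv D349) (iv D235) D234
def n509 : Q := act 3 n349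
theorem D509 : act 3 n349 = n509 := rfl
theorem F870 : act 1 n509 = n356 := d6_1 D509 (iv D356) (iv F612)
theorem F871 : act 4 n509 = n350 := d12_2 D349 D509 (iv D350) (iv D236) (iv F429)
def n510 : Q := act 2 n350
theorem D510 : act 2 n350 = n510 := rfl
theorem F872 : act 5 n510 = n365 := d11_2 (iv F614) D510 (iv D365)
def n511 : Q := act 4 n351
theorem D511 : act 4 n351 = n511 := rfl
theorem F873 : act 0 n511 = n352 := d3_1 D511 (iv D352) D351
theorem F874 : act 1 n511 = n403 := d7_1 D511 (iv D403) (iv F615)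
def n512 : Q := act 3 n352
theorem D512 : act 3 n352 = n512 := rfl
theorem F875 : act 1 n512 = n353 := d6_1 D512 (iv D353) (iv F618)
theorem F876 : act 4 n512 = n382 := d12_2 D352 D512 (iv D382) (iv D260) (iv F433)
def n513 : Q := act 5 n352
theorem D513 : act 5 n352 = n513 := rfl
theorem F877 : act 1 n513 = n354 := d8_1 D513 (iv D354) (iv F618)
theorem F878 : act 4 n513 = n381 := d14_1 D513 (iv D381) (iv D259) (iv F434) D352
def n514 : Q := act 2 n353
theorem D514 : act 2 n353 = n514 := rfl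
theorem F879 : act 0 n514 = n406 := d1_1 D514 (iv D406) (iv F619)
theorem F880 : act 3 n514 = n435 := d9_2 D353 D514 F740 F520 F366 (iv F344) (iv F486) (iv F696) (iv F750) (iv D439) (iv D301) (iv D204) F255 (iv F305) (iv F436)
theorem F881 : act 4 n514 = n383 := d10_2 (iv F620) D514 (iv D383)
theorem F882 : act 5 n434 = n514 := d13_0 F880 (iv D435) D434
def n515 : Q := act 5 n353
theorem D515 : act 5 n353 = n515 := rfl
theorem F883 : act 0 n515 = n407 := d4_1 D515 (iv D407) (iv F619)
theorem F884 : act 2 n515 = n434 := d11_1 D515 F882 (iv D514)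
theorem F885 : act 3 n515 = n354 := d13_1 D515 (iv D354) D353
def n516 : Q := act 4 n357
theorem D516 : act 4 n357 = n516 := rfl
theorem F886 : act 0 n516 = n362 := d3_1 D516 (iv D362) (iv F629)
theorem F887 : act 1 n516 = n358 := d7_1 D516 (iv D358) D357
theorem F888 : act 2 n516 = n411 := d10_1 D516 (iv D411) (iv F630)
def n517 : Q := act 3 n358
theorem D517 : act 3 n358 = n517 := rfl
theorem F889 : act 0 n517 = n363 := d2_1 D517 (iv D363) (iv F632)
def n518 : Q := act 5 n358
theorem D518 : act 5 n358 = n518 := rfl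
theorem F890 : act 0 n518 = n364 := d4_1 D518 (iv D364) (iv F632)
theorem F891 : act 2 n518 = n359 := d11_1 D518 (iv D359) (iv F633)
def n519 : Q := act 2 n360
theorem D519 : act 2 n360 = n519 := rfl
theorem F892 : act 0 n519 = n365 := d1_1 D519 (iv D365) (iv F636)
def n520 : Q := act 4 n361
theorem D520 : act 4 n361 = n520 := rfl
theorem F893 : act 0 n520 = n411 := d3_1 D520 (iv D411) (iv F638)
theorem F894 : act 1 n520 = n418 := d7_1 D520 (iv D418) (iv F639)
theorem F895 : act 2 n520 = n362 := d10_1 D520 (iv D362) D361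
def n521 : Q := act 3 n362
theorem D521 : act 3 n362 = n521 := rfl
theorem F896 : act 4 n521 = n363 := d12_2 D362 D521 (iv D363) (iv D246) D245
def n522 : Q := act 5 n362
theorem D522 : act 5 n362 = n522 := rfl
def n523 : Q := act 2 n363
theorem D523 : act 2 n363 = n523 := rfl
def n524 : Q := act 5 n363
theorem D524 : act 5 n363 = n524 := rfl
theorem F897 : act 3 n524 = n364 := d13_1 D524 (iv D364) D363
def n525 : Q := act 1 n365
theorem D525 : act 1 n365 = n525 := rfl
theorem F898 : act 2 n525 = n366 := d5_2 D365 D525 (iv D366) (iv D249) (iv F451)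
def n526 : Q := act 3 n365
theorem D526 : act 3 n365 = n526 := rfl
def n527 : Q := act 0 n366
theorem D527 : act 0 n366 = n527 := rfl
theorem F899 : act 1 n527 = n440 := d0_2 D366 D527 (iv D440) (iv D302) (iv F452)
def n528 : Q := act 2 n367
theorem D528 : act 2 n367 = n528 := rfl
theorem F900 : act 0 n528 = n369 := d1_1 D528 (iv D369) (iv F643)
def n529 : Q := act 4 n367
theorem D529 : act 4 n367 = n529 := rfl
theorem F901 : act 0 n529 = n370 := d3_1 D529 (iv D370) (iv F643)
theorem F902 : act 3 n529 = n377 := d12_1 D529 (iv D377) (iv D256) (iv F454) D367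
def n530 : Q := act 5 n367
theorem D530 : act 5 n367 = n530 := rfl
theorem F903 : act 0 n530 = n371 := d4_1 D530 (iv D371) (iv F643)
theorem F904 : act 3 n530 = n368 := d13_1 D530 (iv D368) D367
def n531 : Q := act 4 n368
theorem D531 : act 4 n368 = n531 := rfl
theorem F905 : act 0 n531 = n372 := d3_1 D531 (iv D372) (iv F644)
theorem F906 : act 2 n531 = n531 := d10_1 D531 (iv D531) F645
theorem F907 : act 5 n531 = n378 := d14_2 D368 D531 (iv D378) (iv D257) (iv F454)
def n532 : Q := act 1 n369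
theorem D532 : act 1 n369 = n532 := rfl
theorem F908 : act 2 n532 = n371 := d5_2 D369 D532 F648 (iv D253) (iv F455)
theorem F909 : act 5 n369 = n532 := d11_0 F908 (iv D371) D369
def n533 : Q := act 3 n369
theorem D533 : act 3 n369 = n533 := rfl
def n534 : Q := act 4 n369
theorem D534 : act 4 n369 = n534 := rfl
theorem F910 : act 2 n534 = n370 := d10_1 D534 (iv D370) D369
def n535 : Q := act 5 n370
theorem D535 : act 5 n370 = n535 := rfl
theorem F911 : act 1 n535 = n374 := d8_1 D535 (iv D374) (iv F646)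
theorem F912 : act 3 n535 = n381 := d13_1 D535 (iv D381) (iv F647)
def n536 : Q := act 4 n371
theorem D536 : act 4 n371 = n536 := rfl
theorem F913 : act 1 n536 = n373 := d7_1 D536 (iv D373) (iv F648)
def n537 : Q := act 3 n372
theorem D537 : act 3 n372 = n537 := rfl
theorem F914 : act 1 n537 = n375 := d6_1 D537 (iv D375) (iv F650)
theorem F915 : act 5 n537 = n382 := d13_2 (iv F652) D537 (iv D382)
def n538 : Q := act 3 n373
theorem D538 : act 3 n373 = n538 := rfl
theorem F916 : act 4 n538 = n375 := d12_2 D373 D538 (iv D375) (iv D255) (iv F458)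
def n539 : Q := act 5 n373
theorem D539 : act 5 n373 = n539 := rfl
theorem F917 : act 2 n539 = n374 := d11_1 D539 (iv D374) (iv F653)
theorem F918 : act 4 n539 = n374 := d14_1 D539 (iv D374) (iv D254) F459 D373
def n540 : Q := act 2 n375
theorem D540 : act 2 n375 = n540 := rfl
theorem F919 : act 5 n540 = n383 := d11_2 (iv F655) D540 (iv D383)
theorem F920 : act 3 n540 = n491 := d15_1 D540 (iv D491) (iv D339) F420 F294 (iv F420) D339 (iv F822) F821
def n541 : Q := act 1 n376
theorem D541 : act 1 n376 = n541 := rfl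
def n542 : Q := act 3 n376
theorem D542 : act 3 n376 = n542 := rfl
theorem F921 : act 0 n542 = n379 := d2_1 D542 (iv D379) (iv F656)
theorem F922 : act 2 n542 = n500 := d15_2 D376 D542 (iv D500) F605 F433 F331 (iv F433) F434 (iv F463)
def n543 : Q := act 4 n376
theorem D543 : act 4 n376 = n543 := rfl
theorem F923 : act 0 n543 = n380 := d3_1 D543 (iv D380) (iv F656)
theorem F924 : act 2 n543 = n377 := d10_1 D543 (iv D377) D376
def n544 : Q := act 5 n377
theorem D544 : act 5 n377 = n544 := rfl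
theorem F925 : act 0 n544 = n381 := d4_1 D544 (iv D381) (iv F657)
def n545 : Q := act 3 n378
theorem D545 : act 3 n378 = n545 := rfl
theorem F926 : act 0 n545 = n382 := d2_1 D545 (iv D382) (iv F658)
def n546 : Q := act 2 n379
theorem D546 : act 2 n379 = n546 := rfl
theorem F927 : act 0 n546 = n500 := d1_1 D546 (iv F922) F921
theorem F928 : act 5 n546 = n542 := d11_2 F856 D546 F922
theorem F929 : act 3 n546 = n499 := d15_3 D258 D379 D546 F853 F616 F465 (iv F616) F617 F463
def n547 : Q := act 4 n379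
theorem D547 : act 4 n379 = n547 := rfl
def n548 : Q := act 3 n380
theorem D548 : act 3 n380 = n548 := rfl
def n549 : Q := act 5 n380
theorem D549 : act 5 n380 = n549 := rfl
theorem F930 : act 2 n549 = n381 := d11_1 D549 (iv D381) (iv F660)
def n550 : Q := act 2 n382
theorem D550 : act 2 n382 = n550 := rfl
def n551 : Q := act 1 n383
theorem D551 : act 1 n383 = n551 := rfl
def n552 : Q := act 3 n383
theorem D552 : act 3 n383 = n552 := rfl
theorem F931 : act 0 n552 = n540 := d2_1 D552 F920 F837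
theorem F932 : act 5 n552 = n491 := d13_2 F919 D552 (iv F920)
theorem F933 : act 2 n552 = n483 := d15_2 D383 D552 (iv D483) F577 F410 (iv F577) D483 F822 F592
def n553 : Q := act 0 n384
theorem D553 : act 0 n384 = n553 := rfl
theorem F934 : act 1 n553 = n391 := d0_2 D384 D553 (iv D391) (iv D267) (iv F469)
def n554 : Q := act 3 n384
theorem D554 : act 3 n384 = n554 := rfl
theorem F935 : act 1 n554 = n385 := d6_1 D554 (iv D385) D384
theorem F936 : act 2 n454 = n554 := d5_0 F935 F664 F539 D312 D454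
theorem F937 : act 5 n454 = n554 := d8_0 F935 (iv F665) D454
def n555 : Q := act 4 n384
theorem D555 : act 4 n384 = n555 := rfl
theorem F938 : act 1 n555 = n386 := d7_1 D555 (iv D386) D384
def n556 : Q := act 5 n384
theorem D556 : act 5 n384 = n556 := rfl
theorem F939 : act 1 n556 = n387 := d8_1 D556 (iv D387) D384
theorem F940 : act 3 n556 = n454 := d13_1 D556 F937 (iv D554)
def n557 : Q := act 4 n385
theorem D557 : act 4 n385 = n557 := rfl
theorem F941 : act 0 n557 = n395 := d3_1 D557 (iv D395) (iv F663)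
theorem F942 : act 2 n557 = n451 := d10_1 D557 (iv D451) (iv F664)
def n558 : Q := act 3 n386
theorem D558 : act 3 n386 = n558 := rfl
theorem F943 : act 0 n558 = n397 := d2_1 D558 (iv D397) (iv F666)
def n559 : Q := act 5 n386
theorem D559 : act 5 n386 = n559 := rfl
theorem F944 : act 0 n559 = n398 := d4_1 D559 (iv D398) (iv F666)
theorem F945 : act 2 n559 = n388 := d11_1 D559 (iv D388) (iv F667)
def n560 : Q := act 4 n387
theorem D560 : act 4 n387 = n560 := rfl
theorem F946 : act 0 n560 = n399 := d3_1 D560 (iv D399) (iv F668)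
theorem F947 : act 2 n560 = n389 := d10_1 D560 (iv D389) (iv F669)
def n561 : Q := act 4 n388
theorem D561 : act 4 n388 = n561 := rfl
theorem F948 : act 0 n561 = n400 := d3_1 D561 (iv D400) (iv F671)
theorem F949 : act 5 n561 = n389 := d14_2 D388 D561 (iv D389) (iv D265) D264
def n562 : Q := act 3 n389
theorem D562 : act 3 n389 = n562 := rfl
theorem F950 : act 0 n562 = n401 := d2_1 D562 (iv D401) (iv F673)
theorem F951 : act 4 n562 = n390 := d12_2 D389 D562 (iv D390) (iv D266) (iv F473)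
def n563 : Q := act 2 n390
theorem D563 : act 2 n390 = n563 := rfl
theorem F952 : act 0 n563 = n402 := d1_1 D563 (iv D402) (iv F674)
theorem F953 : act 5 n563 = n417 := d11_2 (iv F675) D563 (iv D417)
theorem F954 : act 3 n563 = n458 := d15_1 D563 (iv D458) (iv D314) F385 F261 (iv F250) D198 (iv F484) (iv F674)
def n564 : Q := act 3 n391
theorem D564 : act 3 n391 = n564 := rfl
theorem F955 : act 0 n564 = n392 := d2_1 D564 (iv D392) D391
def n565 : Q := act 4 n391
theorem D565 : act 4 n391 = n565 := rfl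
theorem F956 : act 0 n565 = n393 := d3_1 D565 (iv D393) D391
theorem F957 : act 2 n565 = n403 := d10_1 D565 (iv D403) (iv F676)
def n566 : Q := act 2 n392
theorem D566 : act 2 n392 = n566 := rfl
def n567 : Q := act 4 n392
theorem D567 : act 4 n392 = n567 := rfl
theorem F958 : act 1 n567 = n395 := d7_1 D567 (iv D395) (iv F677)
def n568 : Q := act 3 n393
theorem D568 : act 3 n393 = n568 := rfl
theorem F959 : act 1 n568 = n397 := d6_1 D568 (iv D397) (iv F678)
def n569 : Q := act 5 n393
theorem D569 : act 5 n393 = n569 := rfl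
theorem F960 : act 1 n569 = n398 := d8_1 D569 (iv D398) (iv F678)
theorem F961 : act 2 n569 = n405 := d11_1 D569 (iv D405) (iv F679)
def n570 : Q := act 1 n394
theorem D570 : act 1 n394 = n570 := rfl
theorem F962 : act 0 n570 = n444 := d0_1 D570 F758 F529 (iv F539) (iv F680)
theorem F963 : act 3 n570 = n443 := d6_2 (iv F681) D570 F755
theorem F964 : act 5 n570 = n444 := d8_2 F682 D570 F758
def n571 : Q := act 4 n394
theorem D571 : act 4 n394 = n571 := rfl
theorem F965 : act 0 n571 = n451 := d3_1 D571 (iv D451) (iv F680)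
theorem F966 : act 2 n571 = n395 := d10_1 D571 (iv D395) D394
def n572 : Q := act 3 n395
theorem D572 : act 3 n395 = n572 := rfl
theorem F967 : act 4 n572 = n397 := d12_2 D395 D572 (iv D397) (iv D269) D268
def n573 : Q := act 5 n395
theorem D573 : act 5 n395 = n573 := rfl
def n574 : Q := act 4 n396
theorem D574 : act 4 n396 = n574 := rfl
theorem F968 : act 0 n574 = n455 := d3_1 D574 (iv D455) (iv F683)
theorem F969 : act 2 n574 = n446 := d10_1 D574 (iv D446) (iv F684)
def n575 : Q := act 2 n397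
theorem D575 : act 2 n397 = n575 := rfl
def n576 : Q := act 5 n397
theorem D576 : act 5 n397 = n576 := rfl
theorem F970 : act 3 n576 = n398 := d13_1 D576 (iv D398) D397
def n577 : Q := act 4 n398
theorem D577 : act 4 n398 = n577 := rfl
theorem F971 : act 2 n577 = n400 := d10_1 D577 (iv D400) (iv F686)
theorem F972 : act 5 n577 = n399 := d14_2 D398 D577 (iv D399) (iv D270) D269
def n578 : Q := act 3 n399
theorem D578 : act 3 n399 = n578 := rfl
def n579 : Q := act 3 n400
theorem D579 : act 3 n400 = n579 := rfl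
theorem F973 : act 1 n579 = n408 := d6_1 D579 (iv D408) (iv F688)
theorem F974 : act 4 n579 = n425 := d12_2 D400 D579 (iv D425) (iv D292) (iv F481)
theorem F975 : act 5 n579 = n401 := d13_2 (iv F689) D579 (iv D401)
def n580 : Q := act 2 n401
theorem D580 : act 2 n401 = n580 := rfl
theorem F976 : act 4 n580 = n402 := d10_2 (iv F691) D580 (iv D402)
def n581 : Q := act 1 n402
theorem D581 : act 1 n402 = n581 := rfl
theorem F977 : act 2 n581 = n410 := d5_2 D402 D581 (iv D410) (iv D280) (iv F483)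
theorem F978 : act 5 n581 = n427 := d8_2 (iv F692) D581 (iv D427)
def n582 : Q := act 3 n402
theorem D582 : act 3 n402 = n582 := rfl
theorem F979 : act 0 n582 = n458 := d2_1 D582 (iv F954) F952
theorem F980 : act 5 n582 = n428 := d13_2 (iv F692) D582 (iv D428)
theorem F981 : act 2 n582 = n447 := d15_2 D402 D582 (iv D447) F531 F376 (iv F352) D286 (iv F675) F674
def n583 : Q := act 3 n403
theorem D583 : act 3 n403 = n583 := rfl
theorem F982 : act 0 n583 = n404 := d2_1 D583 (iv D404) (iv F693)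
def n584 : Q := act 5 n403
theorem D584 : act 5 n403 = n584 := rfl
theorem F983 : act 0 n584 = n405 := d4_1 D584 (iv D405) (iv F693)
def n585 : Q := act 2 n404
theorem D585 : act 2 n404 = n585 := rfl
def n586 : Q := act 5 n404
theorem D586 : act 5 n404 = n586 := rfl
theorem F984 : act 1 n586 = n407 := d8_1 D586 (iv D407) (iv F694)
theorem F985 : act 3 n586 = n405 := d13_1 D586 (iv D405) D404
def n587 : Q := act 1 n406
theorem D587 : act 1 n406 = n587 := rfl
def n588 : Q := act 4 n407
theorem D588 : act 4 n407 = n588 := rfl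
def n589 : Q := act 2 n408
theorem D589 : act 2 n408 = n589 := rfl
theorem F986 : act 4 n589 = n437 := d10_2 (iv F697) D589 (iv D437)
theorem F987 : act 5 n589 = n409 := d11_2 (iv F698) D589 (iv D409)
def n590 : Q := act 1 n409
theorem D590 : act 1 n409 = n590 := rfl
theorem F988 : act 4 n590 = n410 := d7_2 (iv F699) D590 (iv D410)
def n591 : Q := act 3 n409
theorem D591 : act 3 n409 = n591 := rfl
theorem F989 : act 4 n591 = n434 := d12_2 (iv F699) D591 (iv D434) F519 (iv F490)
def n592 : Q := act 0 n410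
theorem D592 : act 0 n410 = n592 := rfl
theorem F990 : act 3 n592 = n527 := d2_2 (iv F700) D592 (iv D527)
theorem F991 : act 5 n592 = n440 := d4_2 (iv F701) D592 (iv D440)
def n593 : Q := act 3 n411
theorem D593 : act 3 n411 = n593 := rfl
theorem F992 : act 1 n593 = n412 := d6_1 D593 (iv D412) (iv F702)
theorem F993 : act 4 n593 = n419 := d12_2 D411 D593 (iv D419) (iv D288) (iv F491)
def n594 : Q := act 5 n411
theorem D594 : act 5 n411 = n594 := rfl
theorem F994 : act 1 n594 = n413 := d8_1 D594 (iv D413) (iv F702)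
theorem F995 : act 4 n594 = n522 := d14_1 D594 (iv D522) (iv D362) F492 D411
def n595 : Q := act 2 n412
theorem D595 : act 2 n412 = n595 := rfl
theorem F996 : act 0 n595 = n421 := d1_1 D595 (iv D421) (iv F703)
theorem F997 : act 4 n595 = n421 := d10_2 (iv F704) D595 (iv D421)
def n596 : Q := act 5 n412
theorem D596 : act 5 n412 = n596 := rfl
theorem F998 : act 0 n596 = n422 := d4_1 D596 (iv D422) (iv F703)
theorem F999 : act 3 n596 = n413 := d13_1 D596 (iv D413) D412
def n597 : Q := act 4 n413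
theorem D597 : act 4 n413 = n597 := rfl
theorem F1000 : act 0 n597 = n423 := d3_1 D597 (iv D423) (iv F705)
theorem F1001 : act 1 n597 = n522 := d7_1 D597 (iv F995) F994
theorem F1002 : act 2 n597 = n415 := d10_1 D597 (iv D415) (iv F706)
theorem F1003 : act 5 n597 = n414 := d14_2 D413 D597 (iv D414) (iv D283) D282
def n598 : Q := act 3 n414
theorem D598 : act 3 n414 = n598 := rfl
theorem F1004 : act 0 n598 = n424 := d2_1 D598 (iv D424) (iv F707)
theorem F1005 : act 1 n598 = n521 := d6_1 D598 (iv D521) (iv F708)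
theorem F1006 : act 4 n598 = n424 := d12_2 D414 D598 (iv D424) (iv D291) (iv F498)
def n599 : Q := act 3 n415
theorem D599 : act 3 n415 = n599 := rfl
theorem F1007 : act 0 n599 = n425 := d2_1 D599 (iv D425) (iv F710)
theorem F1008 : act 5 n599 = n416 := d13_2 (iv F711) D599 (iv D416)
def n600 : Q := act 2 n416
theorem D600 : act 2 n416 = n600 := rfl
theorem F1009 : act 0 n600 = n426 := d1_1 D600 (iv D426) (iv F712)
theorem F1010 : act 4 n600 = n417 := d10_2 (iv F713) D600 (iv D417)
def n601 : Q := act 1 n417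
theorem D601 : act 1 n417 = n601 := rfl
def n602 : Q := act 3 n417
theorem D602 : act 3 n417 = n602 := rfl
theorem F1011 : act 0 n602 = n428 := d2_1 D602 (iv D428) (iv F714)
theorem F1012 : act 2 n602 = n459 := d9_1 D602 F778 F543 F387 (iv F341) D273 D402 D582 F981 (iv D447) F531 F376 (iv F352) D286 D417
theorem F1013 : act 5 n602 = n458 := d13_2 F953 D602 (iv F954)
def n603 : Q := act 3 n418
theorem D603 : act 3 n418 = n603 := rfl
theorem F1014 : act 0 n603 = n419 := d2_1 D603 (iv D419) (iv F715)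
def n604 : Q := act 5 n418
theorem D604 : act 5 n418 = n604 := rfl
theorem F1015 : act 0 n604 = n420 := d4_1 D604 (iv D420) (iv F715)
theorem F1016 : act 2 n604 = n430 := d11_1 D604 (iv D430) (iv F716)
theorem F1017 : act 4 n604 = n518 := d14_1 D604 (iv D518) (iv D358) (iv F503) D418
def n605 : Q := act 2 n419
theorem D605 : act 2 n419 = n605 := rfl
def n606 : Q := act 5 n419
theorem D606 : act 5 n419 = n606 := rfl
theorem F1018 : act 1 n606 = n422 := d8_1 D606 (iv D422) (iv F717)
theorem F1019 : act 3 n606 = n420 := d13_1 D606 (iv D420) D419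
def n607 : Q := act 1 n421
theorem D607 : act 1 n421 = n607 := rfl
def n608 : Q := act 3 n421
theorem D608 : act 3 n421 = n608 := rfl
def n609 : Q := act 5 n421
theorem D609 : act 5 n421 = n609 := rfl
theorem F1020 : act 2 n609 = n422 := d11_1 D609 (iv D422) D421
def n610 : Q := act 4 n422
theorem D610 : act 4 n422 = n610 := rfl
def n611 : Q := act 3 n423
theorem D611 : act 3 n423 = n611 := rfl
theorem F1021 : act 1 n611 = n524 := d6_1 D611 F897 (iv F722)
theorem F1022 : act 5 n611 = n424 := d13_2 (iv F724) D611 (iv D424)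
def n612 : Q := act 2 n424
theorem D612 : act 2 n424 = n612 := rfl
def n613 : Q := act 2 n425
theorem D613 : act 2 n425 = n613 := rfl
theorem F1023 : act 5 n613 = n426 := d11_2 (iv F727) D613 (iv D426)
def n614 : Q := act 1 n426
theorem D614 : act 1 n426 = n614 := rfl
theorem F1024 : act 2 n614 = n438 := d5_2 D426 D614 (iv D438) (iv D301) (iv F511)
theorem F1025 : act 4 n614 = n427 := d7_2 (iv F728) D614 (iv D427)
def n615 : Q := act 3 n426
theorem D615 : act 3 n426 = n615 := rfl
def n616 : Q := act 0 n427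
theorem D616 : act 0 n427 = n616 := rfl
theorem F1026 : act 2 n616 = n440 := d1_2 (iv F729) D616 (iv D440)
def n617 : Q := act 3 n427
theorem D617 : act 3 n427 = n617 := rfl
theorem F1027 : act 1 n617 = n428 := d6_1 D617 (iv D428) D427
def n618 : Q := act 2 n428
theorem D618 : act 2 n428 = n618 := rfl
theorem F1028 : act 0 n618 = n459 := d1_1 D618 (iv F1012) F1011
theorem F1029 : act 3 n618 = n448 := d9_2 D428 D618 F764 F536 (iv F475) D390 D563 F954 (iv D458) (iv D314) F385 F261 (iv F250) D198 D294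
theorem F1030 : act 5 n618 = n447 := d11_2 F980 D618 (iv F981)
def n619 : Q := act 4 n428
theorem D619 : act 4 n428 = n619 := rfl
def n620 : Q := act 2 n429
theorem D620 : act 2 n429 = n620 := rfl
theorem F1031 : act 0 n620 = n431 := d1_1 D620 (iv D431) (iv F730)
theorem F1032 : act 4 n620 = n519 := d10_2 (iv F732) D620 (iv D519)
def n621 : Q := act 5 n429
theorem D621 : act 5 n429 = n621 := rfl
theorem F1033 : act 0 n621 = n432 := d4_1 D621 (iv D432) (iv F730)
theorem F1034 : act 1 n621 = n599 := d8_1 D621 F1008 (iv F731)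
theorem F1035 : act 3 n621 = n430 := d13_1 D621 (iv D430) D429
def n622 : Q := act 1 n431
theorem D622 : act 1 n431 = n622 := rfl
theorem F1036 : act 2 n622 = n433 := d5_2 D431 D622 (iv D433) (iv D298) (iv F515)
theorem F1037 : act 4 n622 = n525 := d7_2 (iv F736) D622 (iv D525)
def n623 : Q := act 3 n431
theorem D623 : act 3 n431 = n623 := rfl
def n624 : Q := act 5 n431
theorem D624 : act 5 n431 = n624 := rfl
theorem F1038 : act 2 n624 = n432 := d11_1 D624 (iv D432) D431
def n625 : Q := act 4 n432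
theorem D625 : act 4 n432 = n625 := rfl
theorem F1039 : act 1 n625 = n436 := d7_1 D625 (iv D436) (iv F737)
theorem F1040 : act 3 n625 = n508 := d12_1 D625 (iv D508) F611 (iv F518) (iv F738)
theorem F1041 : act 5 n625 = n509 := d14_2 D432 D625 F871 F614 (iv F516)
def n626 : Q := act 0 n433
theorem D626 : act 0 n433 = n626 := rfl
theorem F1042 : act 4 n626 = n527 := d3_2 (iv F739) D626 (iv D527)
def n627 : Q := act 3 n433
theorem D627 : act 3 n433 = n627 := rfl
theorem F1043 : act 1 n627 = n434 := d6_1 D627 (iv D434) D433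
def n628 : Q := act 5 n433
theorem D628 : act 5 n433 = n628 := rfl
theorem F1044 : act 1 n628 = n435 := d8_1 D628 (iv D435) D433
def n629 : Q := act 4 n435
theorem D629 : act 4 n435 = n629 := rfl
theorem F1045 : act 0 n629 = n589 := d3_1 D629 F986 F744
theorem F1046 : act 2 n629 = n436 := d10_1 D629 (iv D436) (iv F740)
theorem F1047 : act 5 n629 = n442 := d14_2 D435 D629 (iv D442) F526 (iv F519)
def n630 : Q := act 1 n437
theorem D630 : act 1 n437 = n630 := rfl
theorem F1048 : act 3 n630 = n587 := d6_2 (iv F746) D630 (iv D587)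
theorem F1049 : act 5 n630 = n438 := d8_2 (iv F745) D630 (iv D438)
def n631 : Q := act 0 n438
theorem D631 : act 0 n438 = n631 := rfl
theorem F1050 : act 1 n631 = n626 := d0_2 D438 D631 (iv D626) (iv D433) (iv F523)
theorem F1051 : act 4 n631 = n440 := d3_2 (iv F747) D631 (iv D440)
def n632 : Q := act 3 n438
theorem D632 : act 3 n438 = n632 := rfl
theorem F1052 : act 1 n632 = n439 := d6_1 D632 (iv D439) D438
theorem F1053 : act 5 n632 = n587 := d13_2 F1049 D632 (iv F1048)
def n633 : Q := act 4 n439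
theorem D633 : act 4 n439 = n633 := rfl
theorem F1054 : act 0 n633 = n591 := d3_1 D633 F989 (iv F748)
theorem F1055 : act 2 n633 = n588 := d10_1 D633 (iv D588) (iv F750)
theorem F1056 : act 3 n633 = n442 := d12_1 D633 (iv D442) (iv D303) (iv F524) D439
def n634 : Q := act 3 n440
theorem D634 : act 3 n440 = n634 := rfl
theorem F1057 : act 0 n634 = n441 := d2_1 D634 (iv D441) D440
theorem F1058 : act 1 n634 = n592 := d6_1 D634 F990 F899
theorem F1059 : act 5 n634 = n527 := d13_2 F991 D634 (iv F990)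
def n635 : Q := act 2 n441
theorem D635 : act 2 n441 = n635 := rfl
theorem F1060 : act 1 n635 = n510 := d5_1 D635 (iv D510) F613 (iv F527) (iv F751)
theorem F1061 : act 5 n635 = n525 := d11_2 (iv F752) D635 F898
def n636 : Q := act 4 n441
theorem D636 : act 4 n441 = n636 := rfl
theorem F1062 : act 1 n636 = n442 := d7_1 D636 (iv D442) (iv F751)
def n637 : Q := act 4 n443
theorem D637 : act 4 n443 = n637 := rfl
theorem F1063 : act 0 n637 = n445 := d3_1 D637 (iv D445) D443
theorem F1064 : act 1 n637 = n449 := d7_1 D637 (iv D449) (iv F755)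
theorem F1065 : act 2 n637 = n637 := d10_1 D637 (iv D637) F756
def n638 : Q := act 2 n444
theorem D638 : act 2 n444 = n638 := rfl
def n639 : Q := act 4 n444
theorem D639 : act 4 n444 = n639 := rfl
theorem F1066 : act 1 n639 = n446 := d7_1 D639 (iv D446) (iv F758)
def n640 : Q := act 3 n445
theorem D640 : act 3 n445 = n640 := rfl
theorem F1067 : act 1 n640 = n447 := d6_1 D640 (iv D447) (iv F759)
def n641 : Q := act 5 n445
theorem D641 : act 5 n445 = n641 := rfl
theorem F1068 : act 1 n641 = n448 := d8_1 D641 (iv D448) (iv F759)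
theorem F1069 : act 2 n641 = n641 := d11_1 D641 (iv D641) F760
def n642 : Q := act 3 n446
theorem D642 : act 3 n446 = n642 := rfl
theorem F1070 : act 0 n642 = n456 := d2_1 D642 (iv D456) (iv F761)
theorem F1071 : act 4 n642 = n447 := d12_2 D446 D642 (iv D447) (iv D306) D305
def n643 : Q := act 5 n446
theorem D643 : act 5 n446 = n643 := rfl
theorem F1072 : act 0 n643 = n457 := d4_1 D643 (iv D457) (iv F761)
def n644 : Q := act 4 n448
theorem D644 : act 4 n448 = n644 := rfl
theorem F1073 : act 0 n644 = n453 := d3_1 D644 F775 (iv F763)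
theorem F1074 : act 2 n644 = n450 := d10_1 D644 (iv D450) (iv F764)
theorem F1075 : act 5 n644 = n449 := d14_2 D448 D644 (iv D449) (iv D307) D306
def n645 : Q := act 3 n449
theorem D645 : act 3 n449 = n645 := rfl
theorem F1076 : act 0 n645 = n452 := d2_1 D645 (iv D452) (iv F765)
def n646 : Q := act 3 n451
theorem D646 : act 3 n451 = n646 := rfl
theorem F1077 : act 1 n646 = n456 := d6_1 D646 (iv D456) (iv F771)
theorem F1078 : act 4 n646 = n452 := d12_2 D451 D646 (iv D452) (iv D311) D310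
def n647 : Q := act 5 n451
theorem D647 : act 5 n451 = n647 := rfl
theorem F1079 : act 1 n647 = n457 := d8_1 D647 (iv D457) (iv F771)
theorem F1080 : act 4 n647 = n457 := d14_1 D647 (iv D457) (iv D313) (iv F540) D451
def n648 : Q := act 2 n452
theorem D648 : act 2 n452 = n648 := rfl
def n649 : Q := act 5 n452
theorem D649 : act 5 n452 = n649 := rfl
theorem F1081 : act 1 n649 = n459 := d8_1 D649 (iv D459) (iv F772)
theorem F1082 : act 3 n649 = n453 := d13_1 D649 (iv D453) D452
def n650 : Q := act 0 n454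
theorem D650 : act 0 n454 = n650 := rfl
def n651 : Q := act 4 n454
theorem D651 : act 4 n454 = n651 := rfl
theorem F1083 : act 1 n651 = n455 := d7_1 D651 (iv D455) D454
def n652 : Q := act 3 n455
theorem D652 : act 3 n455 = n652 := rfl
def n653 : Q := act 5 n455
theorem D653 : act 5 n455 = n653 := rfl
theorem F1084 : act 2 n653 = n457 := d11_1 D653 (iv D457) (iv F776)
def n654 : Q := act 2 n456
theorem D654 : act 2 n456 = n654 := rfl
theorem F1085 : act 4 n654 = n458 := d10_2 (iv F777) D654 (iv D458)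
def n655 : Q := act 5 n456
theorem D655 : act 5 n456 = n655 := rfl
theorem F1086 : act 3 n655 = n457 := d13_1 D655 (iv D457) D456
def n656 : Q := act 1 n458
theorem D656 : act 1 n458 = n656 := rfl
def n657 : Q := act 4 n459
theorem D657 : act 4 n459 = n657 := rfl
def n658 : Q := act 3 n460
theorem D658 : act 3 n460 = n658 := rfl
theorem F1087 : act 0 n658 = n461 := d2_1 D658 (iv D461) D460
theorem F1088 : act 1 n658 = n658 := d6_1 D658 (iv D658) F779
def n659 : Q := act 5 n460
theorem D659 : act 5 n460 = n659 := rfl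
theorem F1089 : act 0 n659 = n462 := d4_1 D659 (iv D462) D460
theorem F1090 : act 1 n659 = n659 := d8_1 D659 (iv D659) F779
theorem F1091 : act 2 n659 = n476 := d11_1 D659 (iv D476) (iv F780)
def n660 : Q := act 2 n461
theorem D660 : act 2 n461 = n660 := rfl
def n661 : Q := act 4 n461
theorem D661 : act 4 n461 = n661 := rfl
theorem F1092 : act 1 n661 = n464 := d7_1 D661 (iv D464) (iv F782)
theorem F1093 : act 3 n661 = n469 := d12_1 D661 (iv D469) (iv D322) (iv F548) D461
def n662 : Q := act 5 n461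
theorem D662 : act 5 n461 = n662 := rfl
theorem F1094 : act 1 n662 = n463 := d8_1 D662 (iv F787) (iv F782)
theorem F1095 : act 3 n662 = n462 := d13_1 D662 (iv D462) D461
def n663 : Q := act 4 n462
theorem D663 : act 4 n462 = n663 := rfl
theorem F1096 : act 1 n663 = n465 := d7_1 D663 (iv D465) (iv F783)
theorem F1097 : act 2 n663 = n480 := d10_1 D663 (iv D480) (iv F784)
theorem F1098 : act 5 n663 = n471 := d14_2 D462 D663 (iv D471) (iv D323) (iv F548)
def n664 : Q := act 4 n463
theorem D664 : act 4 n463 = n664 := rfl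
theorem F1099 : act 0 n664 = n664 := d3_1 D664 (iv D664) F785
theorem F1100 : act 2 n664 = n464 := d10_1 D664 (iv D464) D463
def n665 : Q := act 5 n464
theorem D665 : act 5 n464 = n665 := rfl
theorem F1101 : act 0 n665 = n665 := d4_1 D665 (iv D665) F788
theorem F1102 : act 3 n665 = n473 := d13_1 D665 (iv D473) (iv F789)
def n666 : Q := act 3 n465
theorem D666 : act 3 n465 = n666 := rfl
theorem F1103 : act 0 n666 = n666 := d2_1 D666 (iv D666) F790
theorem F1104 : act 5 n666 = n474 := d13_2 (iv F792) D666 (iv D474)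
def n667 : Q := act 2 n466
theorem D667 : act 2 n466 = n667 := rfl
theorem F1105 : act 0 n667 = n468 := d1_1 D667 (iv D468) (iv F793)
theorem F1106 : act 3 n667 = n566 := d15_1 D667 (iv D566) (iv D392) F477 (iv F416) (iv F560) (iv F800) (iv D470) (iv F793)
def n668 : Q := act 4 n466
theorem D668 : act 4 n466 = n668 := rfl
theorem F1107 : act 0 n668 = n469 := d3_1 D668 (iv D469) (iv F793)
theorem F1108 : act 1 n668 = n668 := d7_1 D668 (iv D668) F794
def n669 : Q := act 5 n466
theorem D669 : act 5 n466 = n669 := rfl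
theorem F1109 : act 0 n669 = n470 := d4_1 D669 (iv D470) (iv F793)
theorem F1110 : act 1 n669 = n669 := d8_1 D669 (iv D669) F794
theorem F1111 : act 3 n669 = n467 := d13_1 D669 (iv D467) D466
def n670 : Q := act 4 n467
theorem D670 : act 4 n467 = n670 := rfl
theorem F1112 : act 0 n670 = n471 := d3_1 D670 (iv D471) (iv F795)
theorem F1113 : act 1 n670 = n670 := d7_1 D670 (iv D670) F796
theorem F1114 : act 2 n670 = n486 := d10_1 D670 (iv D486) (iv F797)
def n671 : Q := act 1 n468
theorem D671 : act 1 n468 = n671 := rfl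
theorem F1115 : act 2 n671 = n470 := d5_2 D468 D671 F799 (iv D324) (iv F558)
theorem F1116 : act 5 n468 = n671 := d11_0 F1115 (iv D470) D468
def n672 : Q := act 3 n468
theorem D672 : act 3 n468 = n672 := rfl
theorem F1117 : act 0 n672 = n566 := d2_1 D672 (iv F1106) F1105
theorem F1118 : act 2 n672 = n564 := d15_2 D468 D672 (iv D564) F676 (iv F584) (iv F797) (iv F1111) (iv D669) F793
def n673 : Q := act 4 n468
theorem D673 : act 4 n468 = n673 := rfl
theorem F1119 : act 2 n673 = n469 := d10_1 D673 (iv D469) D468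
def n674 : Q := act 5 n469
theorem D674 : act 5 n469 = n674 := rfl
theorem F1120 : act 1 n674 = n473 := d8_1 D674 (iv D473) (iv F798)
def n675 : Q := act 4 n470
theorem D675 : act 4 n470 = n675 := rfl
theorem F1121 : act 1 n675 = n472 := d7_1 D675 (iv D472) (iv F799)
def n676 : Q := act 3 n471
theorem D676 : act 3 n471 = n676 := rfl
theorem F1122 : act 1 n676 = n474 := d6_1 D676 (iv D474) (iv F801)
def n677 : Q := act 3 n472
theorem D677 : act 3 n472 = n677 := rfl
theorem F1123 : act 0 n677 = n677 := d2_1 D677 (iv D677) F803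
theorem F1124 : act 4 n677 = n474 := d12_2 D472 D677 (iv D474) (iv D326) (iv F562)
def n678 : Q := act 5 n472
theorem D678 : act 5 n472 = n678 := rfl
theorem F1125 : act 0 n678 = n678 := d4_1 D678 (iv D678) F803
theorem F1126 : act 2 n678 = n473 := d11_1 D678 (iv D473) (iv F804)
theorem F1127 : act 4 n678 = n473 := d14_1 D678 (iv D473) (iv D325) F563 D472
def n679 : Q := act 2 n474
theorem D679 : act 2 n474 = n679 := rfl
theorem F1128 : act 0 n679 = n679 := d1_1 D679 (iv D679) F806
def n680 : Q := act 2 n475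
theorem D680 : act 2 n475 = n680 := rfl
theorem F1129 : act 0 n680 = n477 := d1_1 D680 (iv D477) (iv F807)
def n681 : Q := act 4 n475
theorem D681 : act 4 n475 = n681 := rfl
theorem F1130 : act 0 n681 = n478 := d3_1 D681 (iv D478) (iv F807)
theorem F1131 : act 1 n681 = n529 := d7_1 D681 (iv D529) (iv F808)
theorem F1132 : act 3 n681 = n485 := d12_1 D681 (iv D485) (iv D333) (iv F568) D475
def n682 : Q := act 5 n475
theorem D682 : act 5 n475 = n682 := rfl
theorem F1133 : act 0 n682 = n479 := d4_1 D682 (iv D479) (iv F807)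
theorem F1134 : act 1 n682 = n530 := d8_1 D682 (iv D530) (iv F808)
theorem F1135 : act 3 n682 = n476 := d13_1 D682 (iv D476) D475
def n683 : Q := act 4 n476
theorem D683 : act 4 n476 = n683 := rfl
theorem F1136 : act 0 n683 = n480 := d3_1 D683 (iv D480) (iv F809)
theorem F1137 : act 1 n683 = n531 := d7_1 D683 (iv D531) (iv F810)
theorem F1138 : act 5 n683 = n486 := d14_2 D476 D683 (iv D486) (iv D334) (iv F568)
def n684 : Q := act 1 n477
theorem D684 : act 1 n477 = n684 := rfl
theorem F1139 : act 2 n684 = n479 := d5_2 D477 D684 F813 (iv D330) (iv F569)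
theorem F1140 : act 5 n477 = n684 := d11_0 F1139 (iv D479) D477
def n685 : Q := act 3 n477
theorem D685 : act 3 n477 = n685 := rfl
def n686 : Q := act 4 n477
theorem D686 : act 4 n477 = n686 := rfl
theorem F1141 : act 2 n686 = n478 := d10_1 D686 (iv D478) D477
def n687 : Q := act 5 n478
theorem D687 : act 5 n478 = n687 := rfl
theorem F1142 : act 1 n687 = n482 := d8_1 D687 (iv D482) (iv F811)
theorem F1143 : act 3 n687 = n489 := d13_1 D687 (iv D489) (iv F812)
def n688 : Q := act 4 n479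
theorem D688 : act 4 n479 = n688 := rfl
theorem F1144 : act 1 n688 = n481 := d7_1 D688 (iv D481) (iv F813)
def n689 : Q := act 3 n480
theorem D689 : act 3 n480 = n689 := rfl
theorem F1145 : act 1 n689 = n483 := d6_1 D689 (iv D483) (iv F815)
theorem F1146 : act 5 n689 = n490 := d13_2 (iv F816) D689 (iv D490)
def n690 : Q := act 3 n481
theorem D690 : act 3 n481 = n690 := rfl
theorem F1147 : act 0 n690 = n538 := d2_1 D690 (iv D538) (iv F817)
theorem F1148 : act 4 n690 = n483 := d12_2 D481 D690 (iv D483) (iv D332) (iv F572)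
theorem F1149 : act 5 n588 = n690 := d14_0 F1148 F822 F593 D407 D588
def n691 : Q := act 5 n481
theorem D691 : act 5 n481 = n691 := rfl
theorem F1150 : act 0 n691 = n539 := d4_1 D691 (iv D539) (iv F817)
theorem F1151 : act 2 n691 = n482 := d11_1 D691 (iv D482) (iv F818)
theorem F1152 : act 3 n691 = n588 := d13_1 D691 F1149 (iv D690)
theorem F1153 : act 4 n691 = n482 := d14_1 D691 (iv D482) (iv D331) F573 D481
def n692 : Q := act 1 n484
theorem D692 : act 1 n484 = n692 := rfl
theorem F1154 : act 0 n692 = n556 := d0_1 D692 F939 F668 (iv F585) (iv F823)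
theorem F1155 : act 2 n692 = n541 := d5_2 D484 D692 (iv D541) (iv D376) (iv F580)
theorem F1156 : act 5 n692 = n553 := d8_2 (iv F824) D692 F934
theorem F1157 : act 3 n650 = n692 := d2_0 F1154 F940 D650
def n693 : Q := act 3 n484
theorem D693 : act 3 n484 = n693 := rfl
theorem F1158 : act 0 n693 = n487 := d2_1 D693 (iv D487) (iv F823)
theorem F1159 : act 1 n693 = n650 := d6_1 D693 F1157 (iv D692)
theorem F1160 : act 5 n693 = n564 := d13_2 (iv F824) D693 (iv D564)
def n694 : Q := act 4 n484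
theorem D694 : act 4 n484 = n694 := rfl
theorem F1161 : act 0 n694 = n488 := d3_1 D694 (iv D488) (iv F823)
theorem F1162 : act 2 n694 = n485 := d10_1 D694 (iv D485) D484
def n695 : Q := act 5 n485
theorem D695 : act 5 n485 = n695 := rfl
theorem F1163 : act 0 n695 = n489 := d4_1 D695 (iv D489) (iv F825)
theorem F1164 : act 1 n695 = n544 := d8_1 D695 (iv D544) (iv F826)
theorem F1165 : act 4 n695 = n584 := d14_1 D695 (iv D584) (iv D403) F581 D485
def n696 : Q := act 3 n486
theorem D696 : act 3 n486 = n696 := rfl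
theorem F1166 : act 0 n696 = n490 := d2_1 D696 (iv D490) (iv F827)
theorem F1167 : act 1 n696 = n545 := d6_1 D696 (iv D545) (iv F828)
theorem F1168 : act 4 n696 = n583 := d12_2 D486 D696 (iv D583) (iv D403) (iv F584)
def n697 : Q := act 2 n487
theorem D697 : act 2 n487 = n697 := rfl
theorem F1169 : act 1 n697 = n638 := d5_1 D697 (iv D638) F758 (iv F684) (iv F829)
theorem F1170 : act 5 n697 = n566 := d11_2 (iv F830) D697 (iv D566)
def n698 : Q := act 4 n487
theorem D698 : act 4 n487 = n698 := rfl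
theorem F1171 : act 1 n698 = n574 := d7_1 D698 (iv D574) (iv F829)
def n699 : Q := act 3 n488
theorem D699 : act 3 n488 = n699 := rfl
theorem F1172 : act 1 n699 = n578 := d6_1 D699 (iv D578) (iv F831)
def n700 : Q := act 5 n488
theorem D700 : act 5 n488 = n700 := rfl
theorem F1173 : act 1 n700 = n577 := d8_1 D700 F972 (iv F831)
theorem F1174 : act 2 n700 = n489 := d11_1 D700 (iv D489) (iv F832)
theorem F1175 : act 4 n700 = n569 := d14_1 D700 (iv D569) (iv D393) (iv F586) D488
def n701 : Q := act 2 n490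
theorem D701 : act 2 n490 = n701 := rfl
theorem F1176 : act 4 n701 = n585 := d10_2 (iv F836) D701 (iv D585)
def n702 : Q := act 1 n491
theorem D702 : act 1 n491 = n702 := rfl
theorem F1177 : act 4 n702 = n587 := d7_2 (iv F838) D702 (iv D587)
def n703 : Q := act 0 n492
theorem D703 : act 0 n492 = n703 := rfl
theorem F1178 : act 1 n703 = n499 := d0_2 D492 D703 (iv D499) (iv D344) (iv F594)
theorem F1179 : act 2 n703 = n553 := d1_2 (iv F839) D703 (iv D553)
theorem F1180 : act 5 n541 = n703 := d11_0 F1179 (iv F1156) F1155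
def n704 : Q := act 3 n492
theorem D704 : act 3 n492 = n704 := rfl
theorem F1181 : act 1 n704 = n493 := d6_1 D704 (iv D493) D492
def n705 : Q := act 4 n492
theorem D705 : act 4 n492 = n705 := rfl
theorem F1182 : act 1 n705 = n494 := d7_1 D705 (iv D494) D492
theorem F1183 : act 2 n705 = n555 := d10_1 D705 (iv D555) (iv F839)
def n706 : Q := act 5 n492
theorem D706 : act 5 n492 = n706 := rfl
theorem F1184 : act 0 n706 = n541 := d4_1 D706 F1180 (iv D703)
theorem F1185 : act 1 n706 = n495 := d8_1 D706 (iv D495) D492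
theorem F1186 : act 2 n706 = n556 := d11_1 D706 (iv D556) (iv F839)
def n707 : Q := act 4 n493
theorem D707 : act 4 n493 = n707 := rfl
theorem F1187 : act 0 n707 = n503 := d3_1 D707 (iv D503) (iv F840)
def n708 : Q := act 3 n494
theorem D708 : act 3 n494 = n708 := rfl
theorem F1188 : act 0 n708 = n505 := d2_1 D708 (iv D505) (iv F841)
def n709 : Q := act 5 n494
theorem D709 : act 5 n494 = n709 := rfl
theorem F1189 : act 0 n709 = n506 := d4_1 D709 (iv D506) (iv F841)
theorem F1190 : act 2 n709 = n496 := d11_1 D709 (iv D496) (iv F842)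
def n710 : Q := act 4 n495
theorem D710 : act 4 n495 = n710 := rfl
theorem F1191 : act 0 n710 = n507 := d3_1 D710 (iv D507) (iv F843)
theorem F1192 : act 2 n710 = n497 := d10_1 D710 (iv D497) (iv F844)
def n711 : Q := act 4 n496
theorem D711 : act 4 n496 = n711 := rfl
theorem F1193 : act 0 n711 = n508 := d3_1 D711 (iv D508) (iv F845)
theorem F1194 : act 1 n711 = n561 := d7_1 D711 (iv D561) (iv F846)
theorem F1195 : act 5 n711 = n497 := d14_2 D496 D711 (iv D497) (iv D342) D341
def n712 : Q := act 3 n497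
theorem D712 : act 3 n497 = n712 := rfl
theorem F1196 : act 0 n712 = n509 := d2_1 D712 (iv D509) (iv F848)
theorem F1197 : act 1 n712 = n562 := d6_1 D712 (iv D562) (iv F849)
theorem F1198 : act 4 n712 = n498 := d12_2 D497 D712 (iv D498) (iv D343) (iv F600)
def n713 : Q := act 2 n498
theorem D713 : act 2 n498 = n713 := rfl
theorem F1199 : act 0 n713 = n510 := d1_1 D713 (iv D510) (iv F850)
theorem F1200 : act 5 n713 = n519 := d11_2 (iv F852) D713 (iv D519)
def n714 : Q := act 4 n499
theorem D714 : act 4 n499 = n714 := rfl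
theorem F1201 : act 0 n714 = n501 := d3_1 D714 (iv D501) D499
theorem F1202 : act 2 n714 = n511 := d10_1 D714 (iv D511) (iv F853)
def n715 : Q := act 4 n500
theorem D715 : act 4 n500 = n715 := rfl
theorem F1203 : act 1 n715 = n503 := d7_1 D715 (iv D503) (iv F855)
def n716 : Q := act 3 n501
theorem D716 : act 3 n501 = n716 := rfl
theorem F1204 : act 1 n716 = n505 := d6_1 D716 (iv D505) (iv F857)
def n717 : Q := act 5 n501
theorem D717 : act 5 n501 = n717 := rfl
theorem F1205 : act 1 n717 = n506 := d8_1 D717 (iv D506) (iv F857)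
theorem F1206 : act 2 n717 = n513 := d11_1 D717 (iv D513) (iv F858)
theorem F1207 : act 4 n717 = n549 := d14_1 D717 (iv D549) (iv D380) F606 D501
def n718 : Q := act 1 n502
theorem D718 : act 1 n502 = n718 := rfl
theorem F1208 : act 3 n718 = n706 := d6_2 (iv F859) D718 F1185
theorem F1209 : act 5 n718 = n704 := d8_2 F860 D718 F1181
def n719 : Q := act 4 n502
theorem D719 : act 4 n502 = n719 := rfl
theorem F1210 : act 2 n719 = n503 := d10_1 D719 (iv D503) D502
def n720 : Q := act 3 n503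
theorem D720 : act 3 n503 = n720 := rfl
theorem F1211 : act 4 n720 = n505 := d12_2 D503 D720 (iv D505) (iv D346) D345
def n721 : Q := act 5 n503
theorem D721 : act 5 n503 = n721 := rfl
def n722 : Q := act 4 n504
theorem D722 : act 4 n504 = n722 := rfl
theorem F1212 : act 0 n722 = n719 := d3_1 D722 (iv D719) (iv F861)
theorem F1213 : act 1 n722 = n547 := d7_1 D722 (iv D547) (iv F862)
theorem F1214 : act 2 n722 = n707 := d10_1 D722 (iv D707) (iv F863)
def n723 : Q := act 2 n505
theorem D723 : act 2 n505 = n723 := rfl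
def n724 : Q := act 5 n505
theorem D724 : act 5 n505 = n724 := rfl
theorem F1215 : act 3 n724 = n506 := d13_1 D724 (iv D506) D505
def n725 : Q := act 4 n506
theorem D725 : act 4 n506 = n725 := rfl
theorem F1216 : act 1 n725 = n549 := d7_1 D725 (iv F1207) F1205
theorem F1217 : act 2 n725 = n508 := d10_1 D725 (iv D508) (iv F865)
theorem F1218 : act 5 n725 = n507 := d14_2 D506 D725 (iv D507) (iv D347) D346
def n726 : Q := act 3 n507
theorem D726 : act 3 n507 = n726 := rfl
theorem F1219 : act 1 n726 = n548 := d6_1 D726 (iv D548) (iv F866)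
def n727 : Q := act 2 n509
theorem D727 : act 2 n509 = n727 := rfl
theorem F1220 : act 4 n727 = n510 := d10_2 (iv F871) D727 (iv D510)
def n728 : Q := act 3 n510
theorem D728 : act 3 n510 = n728 := rfl
theorem F1221 : act 5 n728 = n526 := d13_2 (iv F872) D728 (iv D526)
def n729 : Q := act 3 n511
theorem D729 : act 3 n511 = n729 := rfl
theorem F1222 : act 0 n729 = n512 := d2_1 D729 (iv D512) (iv F873)
theorem F1223 : act 1 n729 = n583 := d6_1 D729 (iv D583) (iv F874)
theorem F1224 : act 4 n729 = n545 := d12_2 D511 D729 (iv D545) (iv D378) (iv F616)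
def n730 : Q := act 5 n511
theorem D730 : act 5 n511 = n730 := rfl
theorem F1225 : act 0 n730 = n513 := d4_1 D730 (iv D513) (iv F873)
theorem F1226 : act 1 n730 = n584 := d8_1 D730 (iv D584) (iv F874)
theorem F1227 : act 4 n730 = n544 := d14_1 D730 (iv D544) (iv D377) (iv F617) D511
def n731 : Q := act 2 n512
theorem D731 : act 2 n512 = n731 := rfl
theorem F1228 : act 4 n731 = n550 := d10_2 (iv F876) D731 (iv D550)
def n732 : Q := act 5 n512
theorem D732 : act 5 n512 = n732 := rfl
theorem F1229 : act 1 n732 = n515 := d8_1 D732 (iv D515) (iv F875)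
theorem F1230 : act 3 n732 = n513 := d13_1 D732 (iv D513) D512
def n733 : Q := act 1 n514
theorem D733 : act 1 n514 = n733 := rfl
theorem F1231 : act 3 n733 = n628 := d6_2 (iv F880) D733 F1044
theorem F1232 : act 4 n733 = n551 := d7_2 (iv F881) D733 (iv D551)
theorem F1233 : act 5 n733 = n627 := d8_2 F882 D733 F1043
def n734 : Q := act 4 n515
theorem D734 : act 4 n515 = n734 := rfl
theorem F1234 : act 0 n734 = n588 := d3_1 D734 (iv D588) (iv F883)
theorem F1235 : act 2 n734 = n591 := d10_1 D734 F989 (iv F884)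
theorem F1236 : act 3 n734 = n539 := d12_1 D734 F918 F654 (iv F623) (iv F885)
theorem F1237 : act 5 n734 = n538 := d14_2 D515 D734 F916 F655 (iv F620)
def n735 : Q := act 3 n516
theorem D735 : act 3 n516 = n735 := rfl
theorem F1238 : act 0 n735 = n521 := d2_1 D735 (iv D521) (iv F886)
theorem F1239 : act 1 n735 = n517 := d6_1 D735 (iv D517) (iv F887)
theorem F1240 : act 4 n735 = n517 := d12_2 D516 D735 (iv D517) (iv D358) F631
def n736 : Q := act 5 n516
theorem D736 : act 5 n516 = n736 := rfl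
theorem F1241 : act 0 n736 = n522 := d4_1 D736 (iv D522) (iv F886)
theorem F1242 : act 1 n736 = n518 := d8_1 D736 (iv D518) (iv F887)
theorem F1243 : act 2 n736 = n594 := d11_1 D736 (iv D594) (iv F888)
def n737 : Q := act 2 n517
theorem D737 : act 2 n517 = n737 := rfl
theorem F1244 : act 0 n737 = n523 := d1_1 D737 (iv D523) (iv F889)
def n738 : Q := act 5 n517
theorem D738 : act 5 n517 = n738 := rfl
theorem F1245 : act 0 n738 = n524 := d4_1 D738 (iv D524) (iv F889)
theorem F1246 : act 3 n738 = n518 := d13_1 D738 (iv D518) D517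
def n739 : Q := act 1 n519
theorem D739 : act 1 n519 = n739 := rfl
theorem F1247 : act 2 n739 = n601 := d5_2 D519 D739 (iv D601) (iv D417) (iv F637)
def n740 : Q := act 3 n519
theorem D740 : act 3 n519 = n740 := rfl
theorem F1248 : act 0 n740 = n526 := d2_1 D740 (iv D526) (iv F892)
theorem F1249 : act 2 n740 = n728 := d15_2 D519 D740 (iv D728) (iv D510) (iv D350) F431 D350 F614 (iv F636)
def n741 : Q := act 3 n520
theorem D741 : act 3 n520 = n741 := rfl
theorem F1250 : act 0 n741 = n593 := d2_1 D741 (iv D593) (iv F893)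
theorem F1251 : act 1 n741 = n603 := d6_1 D741 (iv D603) (iv F894)
theorem F1252 : act 4 n741 = n603 := d12_2 D520 D741 (iv D603) (iv D418) (iv F641)
def n742 : Q := act 5 n520
theorem D742 : act 5 n520 = n742 := rfl
theorem F1253 : act 0 n742 = n594 := d4_1 D742 (iv D594) (iv F893)
theorem F1254 : act 1 n742 = n604 := d8_1 D742 (iv D604) (iv F894)
theorem F1255 : act 2 n742 = n522 := d11_1 D742 (iv D522) (iv F895)
theorem F1256 : act 4 n742 = n736 := d14_1 D742 (iv D736) (iv D516) (iv F640) D520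
def n743 : Q := act 2 n521
theorem D743 : act 2 n521 = n743 := rfl
theorem F1257 : act 4 n743 = n523 := d10_2 (iv F896) D743 (iv D523)
def n744 : Q := act 5 n521
theorem D744 : act 5 n521 = n744 := rfl
theorem F1258 : act 3 n744 = n522 := d13_1 D744 (iv D522) D521
def n745 : Q := act 1 n523
theorem D745 : act 1 n523 = n745 := rfl
def n746 : Q := act 3 n523
theorem D746 : act 3 n523 = n746 := rfl
def n747 : Q := act 5 n523
theorem D747 : act 5 n523 = n747 := rfl
theorem F1259 : act 2 n747 = n524 := d11_1 D747 (iv D524) D523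
def n748 : Q := act 4 n524
theorem D748 : act 4 n524 = n748 := rfl
def n749 : Q := act 0 n525
theorem D749 : act 0 n525 = n749 := rfl
theorem F1260 : act 2 n749 = n527 := d1_2 (iv F898) D749 (iv D527)
def n750 : Q := act 3 n525
theorem D750 : act 3 n525 = n750 := rfl
theorem F1261 : act 1 n750 = n526 := d6_1 D750 (iv D526) D525
def n751 : Q := act 2 n526
theorem D751 : act 2 n526 = n751 := rfl
theorem F1262 : act 0 n751 = n728 := d1_1 D751 (iv F1249) F1248
theorem F1263 : act 5 n751 = n740 := d11_2 F1221 D751 F1249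
theorem F1264 : act 3 n751 = n713 := d15_3 D365 D526 D751 (iv D713) (iv D498) F603 D498 F852 F636
def n752 : Q := act 4 n526
theorem D752 : act 4 n526 = n752 := rfl
def n753 : Q := act 1 n528
theorem D753 : act 1 n528 = n753 := rfl
def n754 : Q := act 3 n528
theorem D754 : act 3 n528 = n754 := rfl
theorem F1265 : act 0 n754 = n533 := d2_1 D754 (iv D533) (iv F900)
def n755 : Q := act 4 n528
theorem D755 : act 4 n528 = n755 := rfl
theorem F1266 : act 0 n755 = n534 := d3_1 D755 (iv D534) (iv F900)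
theorem F1267 : act 2 n755 = n529 := d10_1 D755 (iv D529) D528
def n756 : Q := act 5 n528
theorem D756 : act 5 n528 = n756 := rfl
theorem F1268 : act 0 n756 = n532 := d4_1 D756 (iv F909) (iv F900)
theorem F1269 : act 2 n756 = n530 := d11_1 D756 (iv D530) D528
def n757 : Q := act 5 n529
theorem D757 : act 5 n529 = n757 := rfl
theorem F1270 : act 0 n757 = n535 := d4_1 D757 (iv D535) (iv F901)
theorem F1271 : act 3 n757 = n544 := d13_1 D757 (iv D544) (iv F902)
def n758 : Q := act 4 n530
theorem D758 : act 4 n530 = n758 := rfl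
theorem F1272 : act 0 n758 = n536 := d3_1 D758 (iv D536) (iv F903)
def n759 : Q := act 3 n531
theorem D759 : act 3 n531 = n759 := rfl
theorem F1273 : act 0 n759 = n537 := d2_1 D759 (iv D537) (iv F905)
theorem F1274 : act 5 n759 = n545 := d13_2 (iv F907) D759 (iv D545)
def n760 : Q := act 3 n532
theorem D760 : act 3 n532 = n760 := rfl
theorem F1275 : act 1 n760 = n533 := d6_1 D760 (iv D533) D532
theorem F1276 : act 5 n760 = n533 := d13_2 F909 D760 (iv D533)
theorem F1277 : act 2 n760 = n754 := d15_2 (iv F908) D760 (iv D754) (iv D528) (iv D367) F453 D367 D530 F903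
def n761 : Q := act 4 n532
theorem D761 : act 4 n532 = n761 := rfl
theorem F1278 : act 1 n761 = n534 := d7_1 D761 (iv D534) D532
theorem F1279 : act 2 n761 = n536 := d10_1 D761 (iv D536) (iv F908)
def n762 : Q := act 2 n533
theorem D762 : act 2 n533 = n762 := rfl
theorem F1280 : act 0 n762 = n760 := d1_1 D762 F1277 F1265
theorem F1281 : act 5 n762 = n754 := d11_2 F1276 D762 (iv F1277)
theorem F1282 : act 3 n762 = n756 := d15_3 D369 D533 D762 F1269 F904 F645 (iv F904) (iv D530) F643
def n763 : Q := act 4 n533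
theorem D763 : act 4 n533 = n763 := rfl
def n764 : Q := act 3 n534
theorem D764 : act 3 n534 = n764 := rfl
def n765 : Q := act 5 n534
theorem D765 : act 5 n534 = n765 := rfl
theorem F1283 : act 2 n765 = n535 := d11_1 D765 (iv D535) (iv F910)
def n766 : Q := act 4 n535
theorem D766 : act 4 n535 = n766 := rfl
theorem F1284 : act 1 n766 = n539 := d7_1 D766 F918 (iv F911)
theorem F1285 : act 5 n766 = n536 := d14_2 D535 D766 (iv D536) (iv D371) D370
def n767 : Q := act 3 n536
theorem D767 : act 3 n536 = n767 := rfl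
theorem F1286 : act 1 n767 = n538 := d6_1 D767 (iv D538) (iv F913)
theorem F1287 : act 4 n767 = n537 := d12_2 D536 D767 (iv D537) (iv D372) (iv F649)
def n768 : Q := act 2 n537
theorem D768 : act 2 n537 = n768 := rfl
theorem F1288 : act 5 n768 = n550 := d11_2 (iv F915) D768 (iv D550)
def n769 : Q := act 2 n538
theorem D769 : act 2 n538 = n769 := rfl
theorem F1289 : act 3 n769 = n589 := d9_2 D538 D769 (iv D589) (iv D408) (iv F590) (iv F820) (iv F1151) F1152 (iv F1055) F1056 F754 (iv D356) F440 (iv F460) (iv F653)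
theorem F1290 : act 4 n769 = n540 := d10_2 (iv F916) D769 (iv D540)
theorem F1291 : act 5 n769 = n591 := d11_2 F1237 D769 (iv F1235)
def n770 : Q := act 1 n540
theorem D770 : act 1 n540 = n770 := rfl
theorem F1292 : act 3 n770 = n702 := d6_2 (iv F920) D770 (iv D702)
theorem F1293 : act 5 n770 = n551 := d8_2 (iv F919) D770 (iv D551)
def n771 : Q := act 3 n541
theorem D771 : act 3 n541 = n771 := rfl
theorem F1294 : act 0 n771 = n718 := d2_1 D771 F1208 F1184
theorem F1295 : act 1 n771 = n542 := d6_1 D771 (iv D542) D541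
theorem F1296 : act 2 n771 = n718 := d15_2 F1155 D771 F1208 F1186 F940 F936 (iv D554) D556 (iv F1154)
def n772 : Q := act 4 n541
theorem D772 : act 4 n541 = n772 := rfl
theorem F1297 : act 1 n772 = n543 := d7_1 D772 (iv D543) D541
def n773 : Q := act 4 n542
theorem D773 : act 4 n542 = n773 := rfl
theorem F1298 : act 0 n773 = n547 := d3_1 D773 (iv D547) (iv F921)
theorem F1299 : act 2 n773 = n715 := d10_1 D773 (iv D715) (iv F922)
def n774 : Q := act 3 n543
theorem D774 : act 3 n543 = n774 := rfl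
theorem F1300 : act 0 n774 = n548 := d2_1 D774 (iv D548) (iv F923)
def n775 : Q := act 5 n543
theorem D775 : act 5 n543 = n775 := rfl
theorem F1301 : act 0 n775 = n549 := d4_1 D775 (iv D549) (iv F923)
theorem F1302 : act 2 n775 = n544 := d11_1 D775 (iv D544) (iv F924)
def n776 : Q := act 2 n545
theorem D776 : act 2 n545 = n776 := rfl
theorem F1303 : act 0 n776 = n550 := d1_1 D776 (iv D550) (iv F926)
def n777 : Q := act 1 n546
theorem D777 : act 1 n546 = n777 := rfl
theorem F1304 : act 0 n777 = n704 := d0_1 D777 F1181 F840 (iv F855) (iv F927)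
theorem F1305 : act 2 n777 = n704 := d5_2 D546 D777 F1181 (iv F863) F862
theorem F1306 : act 3 n777 = n703 := d6_2 (iv F929) D777 F1178
theorem F1307 : act 5 n777 = n771 := d8_2 (iv F928) D777 F1295
def n778 : Q := act 4 n546
theorem D778 : act 4 n546 = n778 := rfl
theorem F1308 : act 0 n778 = n715 := d3_1 D778 (iv D715) (iv F927)
theorem F1309 : act 2 n778 = n547 := d10_1 D778 (iv D547) D546
def n779 : Q := act 3 n547
theorem D779 : act 3 n547 = n779 := rfl
theorem F1310 : act 4 n779 = n548 := d12_2 D547 D779 (iv D548) (iv D380) D379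
def n780 : Q := act 5 n547
theorem D780 : act 5 n547 = n780 := rfl
def n781 : Q := act 2 n548
theorem D781 : act 2 n548 = n781 := rfl
def n782 : Q := act 5 n548
theorem D782 : act 5 n548 = n782 := rfl
theorem F1311 : act 3 n782 = n549 := d13_1 D782 (iv D549) D548
def n783 : Q := act 1 n550
theorem D783 : act 1 n550 = n783 := rfl
theorem F1312 : act 2 n783 = n551 := d5_2 D550 D783 (iv D551) (iv D383) (iv F662)
def n784 : Q := act 3 n550
theorem D784 : act 3 n550 = n784 := rfl
def n785 : Q := act 0 n551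
theorem D785 : act 0 n551 = n785 := rfl
def n786 : Q := act 3 n551
theorem D786 : act 3 n551 = n786 := rfl
theorem F1313 : act 1 n786 = n552 := d6_1 D786 (iv D552) D551
theorem F1314 : act 5 n786 = n702 := d13_2 F1293 D786 (iv F1292)
def n787 : Q := act 4 n552
theorem D787 : act 4 n552 = n787 := rfl
theorem F1315 : act 0 n787 = n769 := d3_1 D787 F1290 (iv F931)
theorem F1316 : act 2 n787 = n690 := d10_1 D787 F1148 (iv F933)
theorem F1317 : act 3 n787 = n629 := d12_1 D787 (iv D629) (iv F880) F881 D552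
theorem F1318 : act 5 n787 = n633 := d14_2 (iv F932) D787 (iv D633) F749 (iv F838)
def n788 : Q := act 3 n553
theorem D788 : act 3 n553 = n788 := rfl
theorem F1319 : act 0 n788 = n554 := d2_1 D788 (iv D554) D553
theorem F1320 : act 1 n788 = n564 := d6_1 D788 (iv D564) (iv F934)
theorem F1321 : act 2 n788 = n650 := d9_1 D788 F1157 F1155 D771 F1296 F1208 F1186 F940 F936 (iv D554) (iv F839) D704 (iv F1305) F1306 F1179
theorem F1322 : act 5 n788 = n650 := d13_2 F1156 D788 F1157
def n789 : Q := act 4 n553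
theorem D789 : act 4 n553 = n789 := rfl
theorem F1323 : act 0 n789 = n555 := d3_1 D789 (iv D555) D553
theorem F1324 : act 1 n789 = n565 := d7_1 D789 (iv D565) (iv F934)
def n790 : Q := act 4 n554
theorem D790 : act 4 n554 = n790 := rfl
theorem F1325 : act 1 n790 = n557 := d7_1 D790 (iv D557) (iv F935)
theorem F1326 : act 2 n790 = n651 := d10_1 D790 (iv D651) F936
def n791 : Q := act 3 n555
theorem D791 : act 3 n555 = n791 := rfl
theorem F1327 : act 1 n791 = n558 := d6_1 D791 (iv D558) (iv F938)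
def n792 : Q := act 5 n555
theorem D792 : act 5 n555 = n792 := rfl
theorem F1328 : act 1 n792 = n559 := d8_1 D792 (iv D559) (iv F938)
def n793 : Q := act 4 n556
theorem D793 : act 4 n556 = n793 := rfl
theorem F1329 : act 1 n793 = n560 := d7_1 D793 (iv D560) (iv F939)
def n794 : Q := act 3 n557
theorem D794 : act 3 n557 = n794 := rfl
theorem F1330 : act 0 n794 = n572 := d2_1 D794 (iv D572) (iv F941)
theorem F1331 : act 4 n794 = n558 := d12_2 D557 D794 (iv D558) (iv D386) D385
def n795 : Q := act 5 n557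
theorem D795 : act 5 n557 = n795 := rfl
theorem F1332 : act 0 n795 = n573 := d4_1 D795 (iv D573) (iv F941)
theorem F1333 : act 2 n795 = n647 := d11_1 D795 (iv D647) (iv F942)
theorem F1334 : act 4 n795 = n653 := d14_1 D795 (iv D653) (iv D455) F665 D557
def n796 : Q := act 2 n558
theorem D796 : act 2 n558 = n796 := rfl
theorem F1335 : act 0 n796 = n575 := d1_1 D796 (iv D575) (iv F943)
theorem F1336 : act 3 n796 = n609 := d15_1 D796 F1020 F721 F506 (iv F481) (iv F686) (iv F970) (iv D576) (iv F943)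
theorem F1337 : act 5 n608 = n796 := d13_0 F1336 (iv D609) D608
def n797 : Q := act 5 n558
theorem D797 : act 5 n558 = n797 := rfl
theorem F1338 : act 0 n797 = n576 := d4_1 D797 (iv D576) (iv F943)
theorem F1339 : act 2 n797 = n608 := d11_1 D797 F1337 (iv D796)
theorem F1340 : act 3 n797 = n559 := d13_1 D797 (iv D559) D558
def n798 : Q := act 4 n559
theorem D798 : act 4 n559 = n798 := rfl
theorem F1341 : act 0 n798 = n577 := d3_1 D798 (iv D577) (iv F944)
theorem F1342 : act 2 n798 = n561 := d10_1 D798 (iv D561) (iv F945)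
theorem F1343 : act 5 n798 = n560 := d14_2 D559 D798 (iv D560) (iv D387) D386
def n799 : Q := act 3 n560
theorem D799 : act 3 n560 = n799 := rfl
theorem F1344 : act 0 n799 = n578 := d2_1 D799 (iv D578) (iv F946)
theorem F1345 : act 4 n799 = n652 := d12_2 D560 D799 (iv D652) (iv D455) (iv F670)
def n800 : Q := act 3 n561
theorem D800 : act 3 n561 = n800 := rfl
theorem F1346 : act 0 n800 = n579 := d2_1 D800 (iv D579) (iv F948)
theorem F1347 : act 4 n800 = n599 := d12_2 D561 D800 (iv D599) (iv D415) (iv F672)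
theorem F1348 : act 5 n800 = n562 := d13_2 (iv F949) D800 (iv D562)
def n801 : Q := act 2 n562
theorem D801 : act 2 n562 = n801 := rfl
theorem F1349 : act 0 n801 = n580 := d1_1 D801 (iv D580) (iv F950)
theorem F1350 : act 4 n801 = n563 := d10_2 (iv F951) D801 (iv D563)
def n802 : Q := act 1 n563
theorem D802 : act 1 n563 = n802 := rfl
theorem F1351 : act 3 n802 = n656 := d6_2 (iv F954) D802 (iv D656)
theorem F1352 : act 5 n802 = n601 := d8_2 (iv F953) D802 (iv D601)
def n803 : Q := act 4 n564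
theorem D803 : act 4 n564 = n803 := rfl
theorem F1353 : act 0 n803 = n567 := d3_1 D803 (iv D567) (iv F955)
def n804 : Q := act 3 n565
theorem D804 : act 3 n565 = n804 := rfl
theorem F1354 : act 0 n804 = n568 := d2_1 D804 (iv D568) (iv F956)
def n805 : Q := act 5 n565
theorem D805 : act 5 n565 = n805 := rfl
theorem F1355 : act 0 n805 = n569 := d4_1 D805 (iv D569) (iv F956)
theorem F1356 : act 2 n805 = n584 := d11_1 D805 (iv D584) (iv F957)
def n806 : Q := act 1 n566
theorem D806 : act 1 n566 = n806 := rfl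
theorem F1357 : act 2 n806 = n570 := d5_2 D566 D806 (iv D570) (iv D394) (iv F677)
theorem F1358 : act 5 n806 = n638 := d8_2 F1170 D806 (iv F1169)
theorem F1359 : act 0 n638 = n806 := d1_3 F1357 F962 D638
def n807 : Q := act 4 n566
theorem D807 : act 4 n566 = n807 := rfl
theorem F1360 : act 2 n807 = n567 := d10_1 D807 (iv D567) D566
def n808 : Q := act 3 n567
theorem D808 : act 3 n567 = n808 := rfl
theorem F1361 : act 1 n808 = n572 := d6_1 D808 (iv D572) (iv F958)
theorem F1362 : act 4 n808 = n568 := d12_2 D567 D808 (iv D568) (iv D393) D392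
def n809 : Q := act 5 n567
theorem D809 : act 5 n567 = n809 := rfl
theorem F1363 : act 1 n809 = n573 := d8_1 D809 (iv D573) (iv F958)
def n810 : Q := act 2 n568
theorem D810 : act 2 n568 = n810 := rfl
def n811 : Q := act 5 n568
theorem D811 : act 5 n568 = n811 := rfl
theorem F1364 : act 1 n811 = n576 := d8_1 D811 (iv D576) (iv F959)
theorem F1365 : act 3 n811 = n569 := d13_1 D811 (iv D569) D568
def n812 : Q := act 4 n570
theorem D812 : act 4 n570 = n812 := rfl
theorem F1366 : act 0 n812 = n639 := d3_1 D812 (iv D639) (iv F962)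
theorem F1367 : act 1 n812 = n571 := d7_1 D812 (iv D571) D570
def n813 : Q := act 3 n571
theorem D813 : act 3 n571 = n813 := rfl
theorem F1368 : act 0 n813 = n646 := d2_1 D813 (iv D646) (iv F965)
theorem F1369 : act 4 n813 = n645 := d12_2 D571 D813 (iv D645) (iv D449) (iv F681)
def n814 : Q := act 5 n571
theorem D814 : act 5 n571 = n814 := rfl
theorem F1370 : act 0 n814 = n647 := d4_1 D814 (iv D647) (iv F965)
theorem F1371 : act 2 n814 = n573 := d11_1 D814 (iv D573) (iv F966)
theorem F1372 : act 4 n814 = n643 := d14_1 D814 (iv D643) (iv D446) F682 D571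
def n815 : Q := act 2 n572
theorem D815 : act 2 n572 = n815 := rfl
theorem F1373 : act 4 n815 = n575 := d10_2 (iv F967) D815 (iv D575)
def n816 : Q := act 5 n572
theorem D816 : act 5 n572 = n816 := rfl
theorem F1374 : act 3 n816 = n573 := d13_1 D816 (iv D573) D572
def n817 : Q := act 4 n573
theorem D817 : act 4 n573 = n817 := rfl
theorem F1375 : act 0 n817 = n653 := d3_1 D817 (iv F1334) F1332
theorem F1376 : act 2 n817 = n643 := d10_1 D817 (iv F1372) F1371
theorem F1377 : act 5 n817 = n574 := d14_2 D573 D817 (iv D574) (iv D396) D395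
def n818 : Q := act 3 n574
theorem D818 : act 3 n574 = n818 := rfl
theorem F1378 : act 0 n818 = n652 := d2_1 D818 (iv D652) (iv F968)
theorem F1379 : act 4 n818 = n578 := d12_2 D574 D818 (iv D578) (iv D399) (iv F685)
def n819 : Q := act 1 n575
theorem D819 : act 1 n575 = n819 := rfl
def n820 : Q := act 3 n575
theorem D820 : act 3 n575 = n820 := rfl
theorem F1380 : act 0 n820 = n609 := d2_1 D820 (iv F1336) F1335
theorem F1381 : act 2 n820 = n596 := d9_1 D820 F999 F706 (iv F672) (iv F945) (iv F1340) F1339 (iv D608) (iv D421) (iv D289) F355 (iv F337) (iv F478) D397 D575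
theorem F1382 : act 5 n820 = n595 := d15_8 (iv D421) (iv D289) F355 (iv F337) (iv F478) D397 D575 D820 F996
def n821 : Q := act 5 n575
theorem D821 : act 5 n575 = n821 := rfl
theorem F1383 : act 0 n821 = n608 := d4_1 D821 F1337 F1335
theorem F1384 : act 2 n821 = n576 := d11_1 D821 (iv D576) D575
theorem F1385 : act 3 n821 = n595 := d13_1 D821 (iv F1382) (iv D820)
def n822 : Q := act 4 n576
theorem D822 : act 4 n576 = n822 := rfl
def n823 : Q := act 3 n577
theorem D823 : act 3 n577 = n823 := rfl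
theorem F1386 : act 5 n823 = n578 := d13_2 (iv F972) D823 (iv D578)
def n824 : Q := act 2 n578
theorem D824 : act 2 n578 = n824 := rfl
def n825 : Q := act 2 n579
theorem D825 : act 2 n579 = n825 := rfl
theorem F1387 : act 4 n825 = n613 := d10_2 (iv F974) D825 (iv D613)
theorem F1388 : act 5 n825 = n580 := d11_2 (iv F975) D825 (iv D580)
def n826 : Q := act 1 n580
theorem D826 : act 1 n580 = n826 := rfl
theorem F1389 : act 2 n826 = n590 := d5_2 D580 D826 (iv D590) (iv D409) (iv F690)
theorem F1390 : act 4 n826 = n581 := d7_2 (iv F976) D826 (iv D581)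
def n827 : Q := act 3 n580
theorem D827 : act 3 n580 = n827 := rfl
def n828 : Q := act 0 n581
theorem D828 : act 0 n581 = n828 := rfl
theorem F1391 : act 2 n828 = n592 := d1_2 (iv F977) D828 (iv D592)
theorem F1392 : act 5 n828 = n616 := d4_2 (iv F978) D828 (iv D616)
def n829 : Q := act 3 n581
theorem D829 : act 3 n581 = n829 := rfl
theorem F1393 : act 1 n829 = n582 := d6_1 D829 (iv D582) D581
theorem F1394 : act 5 n829 = n617 := d13_2 (iv F978) D829 (iv D617)
def n830 : Q := act 4 n582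
theorem D830 : act 4 n582 = n830 := rfl
theorem F1395 : act 0 n830 = n654 := d3_1 D830 F1085 (iv F979)
theorem F1396 : act 2 n830 = n642 := d10_1 D830 F1071 (iv F981)
def n831 : Q := act 2 n583
theorem D831 : act 2 n583 = n831 := rfl
theorem F1397 : act 0 n831 = n585 := d1_1 D831 (iv D585) (iv F982)
def n832 : Q := act 5 n583
theorem D832 : act 5 n583 = n832 := rfl
theorem F1398 : act 0 n832 = n586 := d4_1 D832 (iv D586) (iv F982)
theorem F1399 : act 3 n832 = n584 := d13_1 D832 (iv D584) D583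
def n833 : Q := act 1 n585
theorem D833 : act 1 n585 = n833 := rfl
theorem F1400 : act 2 n833 = n587 := d5_2 D585 D833 (iv D587) (iv D406) (iv F694)
def n834 : Q := act 3 n585
theorem D834 : act 3 n585 = n834 := rfl
def n835 : Q := act 5 n585
theorem D835 : act 5 n585 = n835 := rfl
theorem F1401 : act 2 n835 = n586 := d11_1 D835 (iv D586) D585
def n836 : Q := act 4 n586
theorem D836 : act 4 n586 = n836 := rfl
theorem F1402 : act 1 n836 = n588 := d7_1 D836 (iv D588) (iv F984)
def n837 : Q := act 0 n587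
theorem D837 : act 0 n587 = n837 := rfl
def n838 : Q := act 1 n589
theorem D838 : act 1 n589 = n838 := rfl
theorem F1403 : act 4 n838 = n630 := d7_2 (iv F986) D838 (iv D630)
theorem F1404 : act 5 n838 = n590 := d8_2 (iv F987) D838 (iv D590)
def n839 : Q := act 0 n590
theorem D839 : act 0 n590 = n839 := rfl
theorem F1405 : act 4 n839 = n592 := d3_2 (iv F988) D839 (iv D592)
def n840 : Q := act 3 n590
theorem D840 : act 3 n590 = n840 := rfl
theorem F1406 : act 1 n840 = n591 := d6_1 D840 (iv D591) D590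
theorem F1407 : act 4 n840 = n627 := d12_2 (iv F988) D840 (iv D627) F739 (iv F700)
def n841 : Q := act 2 n593
theorem D841 : act 2 n593 = n841 := rfl
theorem F1408 : act 4 n841 = n605 := d10_2 (iv F993) D841 (iv D605)
def n842 : Q := act 5 n593
theorem D842 : act 5 n593 = n842 := rfl
theorem F1409 : act 1 n842 = n596 := d8_1 D842 (iv D596) (iv F992)
theorem F1410 : act 3 n842 = n594 := d13_1 D842 (iv D594) D593
def n843 : Q := act 1 n595
theorem D843 : act 1 n595 = n843 := rfl
theorem F1411 : act 4 n843 = n607 := d7_2 (iv F997) D843 (iv D607)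
def n844 : Q := act 4 n596
theorem D844 : act 4 n596 = n844 := rfl
theorem F1412 : act 0 n844 = n610 := d3_1 D844 (iv D610) (iv F998)
theorem F1413 : act 5 n844 = n610 := d14_2 D596 D844 (iv D610) (iv D422) (iv F704)
def n845 : Q := act 3 n597
theorem D845 : act 3 n597 = n845 := rfl
theorem F1414 : act 0 n845 = n611 := d2_1 D845 (iv D611) (iv F1000)
theorem F1415 : act 1 n845 = n744 := d6_1 D845 F1258 (iv F1001)
theorem F1416 : act 5 n845 = n598 := d13_2 (iv F1003) D845 (iv D598)
def n846 : Q := act 2 n598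
theorem D846 : act 2 n598 = n846 := rfl
theorem F1417 : act 0 n846 = n612 := d1_1 D846 (iv D612) (iv F1004)
theorem F1418 : act 4 n846 = n612 := d10_2 (iv F1006) D846 (iv D612)
def n847 : Q := act 2 n599
theorem D847 : act 2 n599 = n847 := rfl
theorem F1419 : act 0 n847 = n613 := d1_1 D847 (iv D613) (iv F1007)
theorem F1420 : act 5 n847 = n600 := d11_2 (iv F1008) D847 (iv D600)
def n848 : Q := act 1 n600
theorem D848 : act 1 n600 = n848 := rfl
theorem F1421 : act 4 n848 = n601 := d7_2 (iv F1010) D848 (iv D601)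
def n849 : Q := act 3 n600
theorem D849 : act 3 n600 = n849 := rfl
theorem F1422 : act 0 n849 = n615 := d2_1 D849 (iv D615) (iv F1009)
def n850 : Q := act 0 n601
theorem D850 : act 0 n601 = n850 := rfl
theorem F1423 : act 1 n850 = n616 := d0_2 D601 D850 (iv D616) (iv D427) (iv F714)
def n851 : Q := act 3 n601
theorem D851 : act 3 n601 = n851 := rfl
theorem F1424 : act 1 n851 = n602 := d6_1 D851 (iv D602) D601
theorem F1425 : act 5 n851 = n656 := d13_2 F1352 D851 (iv F1351)
def n852 : Q := act 4 n602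
theorem D852 : act 4 n602 = n852 := rfl
theorem F1426 : act 0 n852 = n619 := d3_1 D852 (iv D619) (iv F1011)
theorem F1427 : act 2 n852 = n657 := d10_1 D852 (iv D657) (iv F1012)
def n853 : Q := act 2 n603
theorem D853 : act 2 n603 = n853 := rfl
theorem F1428 : act 0 n853 = n605 := d1_1 D853 (iv D605) (iv F1014)
def n854 : Q := act 5 n603
theorem D854 : act 5 n603 = n854 := rfl
theorem F1429 : act 0 n854 = n606 := d4_1 D854 (iv D606) (iv F1014)
theorem F1430 : act 3 n854 = n604 := d13_1 D854 (iv D604) D603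
def n855 : Q := act 1 n605
theorem D855 : act 1 n605 = n855 := rfl
theorem F1431 : act 2 n855 = n607 := d5_2 D605 D855 (iv D607) (iv D421) (iv F717)
def n856 : Q := act 3 n605
theorem D856 : act 3 n605 = n856 := rfl
def n857 : Q := act 5 n605
theorem D857 : act 5 n605 = n857 := rfl
theorem F1432 : act 2 n857 = n606 := d11_1 D857 (iv D606) D605
def n858 : Q := act 4 n606
theorem D858 : act 4 n606 = n858 := rfl
theorem F1433 : act 1 n858 = n610 := d7_1 D858 (iv D610) (iv F1018)
theorem F1434 : act 3 n858 = n748 := d12_1 D858 (iv D748) F897 (iv F720) (iv F1019)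
def n859 : Q := act 0 n607
theorem D859 : act 0 n607 = n859 := rfl
def n860 : Q := act 3 n607
theorem D860 : act 3 n607 = n860 := rfl
theorem F1435 : act 1 n860 = n608 := d6_1 D860 (iv D608) D607
def n861 : Q := act 5 n607
theorem D861 : act 5 n607 = n861 := rfl
theorem F1436 : act 1 n861 = n609 := d8_1 D861 (iv D609) D607
def n862 : Q := act 4 n608
theorem D862 : act 4 n608 = n862 := rfl
def n863 : Q := act 4 n609
theorem D863 : act 4 n609 = n863 := rfl
theorem F1437 : act 2 n863 = n610 := d10_1 D863 (iv D610) (iv F1020)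
def n864 : Q := act 3 n610
theorem D864 : act 3 n610 = n864 := rfl
theorem F1438 : act 1 n864 = n748 := d6_1 D864 (iv F1434) F1433
theorem F1439 : act 4 n864 = n611 := d12_2 D610 D864 (iv D611) (iv D423) (iv F721)
def n865 : Q := act 2 n611
theorem D865 : act 2 n611 = n865 := rfl
theorem F1440 : act 5 n865 = n612 := d11_2 (iv F1022) D865 (iv D612)
def n866 : Q := act 1 n612
theorem D866 : act 1 n612 = n866 := rfl
theorem F1441 : act 2 n866 = n745 := d5_2 D612 D866 (iv D745) (iv D523) (iv F725)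
def n867 : Q := act 3 n612
theorem D867 : act 3 n612 = n867 := rfl
def n868 : Q := act 1 n613
theorem D868 : act 1 n613 = n868 := rfl
theorem F1442 : act 2 n868 = n630 := d5_2 D613 D868 (iv D630) (iv D437) (iv F726)
theorem F1443 : act 5 n868 = n614 := d8_2 (iv F1023) D868 (iv D614)
def n869 : Q := act 3 n613
theorem D869 : act 3 n613 = n869 := rfl
theorem F1444 : act 5 n869 = n615 := d13_2 (iv F1023) D869 (iv D615)
def n870 : Q := act 0 n614
theorem D870 : act 0 n614 = n870 := rfl
theorem F1445 : act 2 n870 = n631 := d1_2 (iv F1024) D870 (iv D631)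
theorem F1446 : act 4 n870 = n616 := d3_2 (iv F1025) D870 (iv D616)
def n871 : Q := act 3 n614
theorem D871 : act 3 n614 = n871 := rfl
theorem F1447 : act 1 n871 = n615 := d6_1 D871 (iv D615) D614
def n872 : Q := act 2 n615
theorem D872 : act 2 n615 = n872 := rfl
def n873 : Q := act 4 n615
theorem D873 : act 4 n615 = n873 := rfl
theorem F1448 : act 3 n873 = n619 := d12_1 D873 (iv D619) (iv D428) (iv F728) D615
def n874 : Q := act 3 n616
theorem D874 : act 3 n616 = n874 := rfl
theorem F1449 : act 0 n874 = n617 := d2_1 D874 (iv D617) D616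
def n875 : Q := act 2 n617
theorem D875 : act 2 n617 = n875 := rfl
def n876 : Q := act 4 n617
theorem D876 : act 4 n617 = n876 := rfl
theorem F1450 : act 1 n876 = n619 := d7_1 D876 (iv D619) (iv F1027)
def n877 : Q := act 1 n618
theorem D877 : act 1 n618 = n877 := rfl
theorem F1451 : act 3 n877 = n641 := d6_2 (iv F1029) D877 F1068
theorem F1452 : act 5 n877 = n640 := d8_2 (iv F1030) D877 F1067
def n878 : Q := act 4 n618
theorem D878 : act 4 n618 = n878 := rfl
theorem F1453 : act 0 n878 = n657 := d3_1 D878 (iv D657) (iv F1028)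
theorem F1454 : act 2 n878 = n619 := d10_1 D878 (iv D619) D618
def n879 : Q := act 5 n619
theorem D879 : act 5 n619 = n879 := rfl
def n880 : Q := act 1 n620
theorem D880 : act 1 n620 = n880 := rfl
theorem F1455 : act 2 n880 = n848 := d5_2 D620 D880 (iv D848) (iv D600) (iv F731)
theorem F1456 : act 4 n880 = n739 := d7_2 (iv F1032) D880 (iv D739)
def n881 : Q := act 3 n620
theorem D881 : act 3 n620 = n881 := rfl
theorem F1457 : act 0 n881 = n623 := d2_1 D881 (iv D623) (iv F1031)
def n882 : Q := act 5 n620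
theorem D882 : act 5 n620 = n882 := rfl
theorem F1458 : act 0 n882 = n624 := d4_1 D882 (iv D624) (iv F1031)
theorem F1459 : act 2 n882 = n621 := d11_1 D882 (iv D621) D620
def n883 : Q := act 4 n621
theorem D883 : act 4 n621 = n883 := rfl
theorem F1460 : act 0 n883 = n625 := d3_1 D883 (iv D625) (iv F1033)
theorem F1461 : act 1 n883 = n800 := d7_1 D883 F1347 (iv F1034)
theorem F1462 : act 3 n883 = n711 := d12_1 D883 (iv D711) F847 (iv F735) (iv F1035)
theorem F1463 : act 5 n883 = n712 := d14_2 D621 D883 F1198 F852 (iv F732)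
def n884 : Q := act 0 n622
theorem D884 : act 0 n622 = n884 := rfl
theorem F1464 : act 2 n884 = n626 := d1_2 (iv F1036) D884 (iv D626)
theorem F1465 : act 4 n884 = n749 := d3_2 (iv F1037) D884 (iv D749)
def n885 : Q := act 3 n622
theorem D885 : act 3 n622 = n885 := rfl
theorem F1466 : act 1 n885 = n623 := d6_1 D885 (iv D623) D622
def n886 : Q := act 5 n622
theorem D886 : act 5 n622 = n886 := rfl
theorem F1467 : act 1 n886 = n624 := d8_1 D886 (iv D624) D622
theorem F1468 : act 2 n886 = n628 := d11_1 D886 (iv D628) (iv F1036)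
def n887 : Q := act 2 n623
theorem D887 : act 2 n623 = n887 := rfl
def n888 : Q := act 4 n623
theorem D888 : act 4 n623 = n888 := rfl
theorem F1469 : act 3 n888 = n752 := d12_1 D888 (iv D752) (iv D526) (iv F736) D623
def n889 : Q := act 5 n623
theorem D889 : act 5 n623 = n889 := rfl
theorem F1470 : act 3 n889 = n624 := d13_1 D889 (iv D624) D623
def n890 : Q := act 4 n624
theorem D890 : act 4 n624 = n890 := rfl
theorem F1471 : act 2 n890 = n625 := d10_1 D890 (iv D625) (iv F1038)
theorem F1472 : act 5 n890 = n727 := d14_2 D624 D890 F1220 F872 (iv F736)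
def n891 : Q := act 3 n626
theorem D891 : act 3 n626 = n891 := rfl
theorem F1473 : act 0 n891 = n627 := d2_1 D891 (iv D627) D626
def n892 : Q := act 5 n626
theorem D892 : act 5 n626 = n892 := rfl
theorem F1474 : act 0 n892 = n628 := d4_1 D892 (iv D628) D626
def n893 : Q := act 2 n627
theorem D893 : act 2 n627 = n893 := rfl
def n894 : Q := act 4 n628
theorem D894 : act 4 n628 = n894 := rfl
theorem F1475 : act 1 n894 = n629 := d7_1 D894 (iv D629) (iv F1044)
theorem F1476 : act 5 n894 = n636 := d14_2 D628 D894 (iv D636) F752 (iv F739)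
def n895 : Q := act 0 n630
theorem D895 : act 0 n630 = n895 := rfl
theorem F1477 : act 1 n895 = n892 := d0_2 D630 D895 F1474 F1044 (iv F744)
theorem F1478 : act 3 n895 = n837 := d2_2 (iv F1048) D895 (iv D837)
theorem F1479 : act 5 n895 = n631 := d4_2 (iv F1049) D895 (iv D631)
def n896 : Q := act 3 n631
theorem D896 : act 3 n631 = n896 := rfl
theorem F1480 : act 0 n896 = n632 := d2_1 D896 (iv D632) D631
theorem F1481 : act 1 n896 = n891 := d6_1 D896 (iv D891) (iv F1050)
theorem F1482 : act 5 n896 = n837 := d13_2 F1479 D896 (iv F1478)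
def n897 : Q := act 2 n632
theorem D897 : act 2 n632 = n897 := rfl
theorem F1483 : act 1 n897 = n835 := d5_1 D897 F1401 F984 (iv F750) (iv F1052)
theorem F1484 : act 5 n897 = n833 := d11_2 (iv F1053) D897 F1400
def n898 : Q := act 4 n632
theorem D898 : act 4 n632 = n898 := rfl
theorem F1485 : act 1 n898 = n633 := d7_1 D898 (iv D633) (iv F1052)
theorem F1486 : act 3 n898 = n636 := d12_1 D898 (iv D636) (iv D441) (iv F747) D632
def n899 : Q := act 2 n634
theorem D899 : act 2 n634 = n899 := rfl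
theorem F1487 : act 0 n899 = n635 := d1_1 D899 (iv D635) (iv F1057)
theorem F1488 : act 5 n899 = n749 := d11_2 (iv F1059) D899 F1260
def n900 : Q := act 4 n634
theorem D900 : act 4 n634 = n900 := rfl
theorem F1489 : act 0 n900 = n636 := d3_1 D900 (iv D636) (iv F1057)
theorem F1490 : act 1 n900 = n839 := d7_1 D900 F1405 (iv F1058)
def n901 : Q := act 3 n635
theorem D901 : act 3 n635 = n901 := rfl
theorem F1491 : act 1 n901 = n728 := d6_1 D901 (iv D728) (iv F1060)
theorem F1492 : act 5 n901 = n750 := d13_2 (iv F1061) D901 (iv D750)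
def n902 : Q := act 4 n635
theorem D902 : act 4 n635 = n902 := rfl
theorem F1493 : act 1 n902 = n727 := d7_1 D902 F1220 (iv F1060)
theorem F1494 : act 2 n902 = n636 := d10_1 D902 (iv D636) D635
def n903 : Q := act 3 n637
theorem D903 : act 3 n637 = n903 := rfl
theorem F1495 : act 0 n903 = n640 := d2_1 D903 (iv D640) (iv F1063)
theorem F1496 : act 1 n903 = n645 := d6_1 D903 (iv D645) (iv F1064)
def n904 : Q := act 5 n637
theorem D904 : act 5 n637 = n904 := rfl
theorem F1497 : act 0 n904 = n641 := d4_1 D904 (iv D641) (iv F1063)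
theorem F1498 : act 1 n904 = n644 := d8_1 D904 F1075 (iv F1064)
theorem F1499 : act 2 n904 = n904 := d11_1 D904 (iv D904) F1065
theorem F1500 : act 4 n904 = n641 := d14_1 D904 (iv D641) (iv D445) F757 D637
def n905 : Q := act 3 n638
theorem D905 : act 3 n638 = n905 := rfl
theorem F1501 : act 2 n905 = n905 := d15_2 D638 D905 (iv D905) (iv D638) (iv D444) F528 D444 (iv F964) F962
def n906 : Q := act 4 n638
theorem D906 : act 4 n638 = n906 := rfl
theorem F1502 : act 2 n906 = n639 := d10_1 D906 (iv D639) D638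
def n907 : Q := act 3 n639
theorem D907 : act 3 n639 = n907 := rfl
theorem F1503 : act 1 n907 = n642 := d6_1 D907 (iv D642) (iv F1066)
theorem F1504 : act 4 n907 = n640 := d12_2 D639 D907 (iv D640) (iv D445) D444
def n908 : Q := act 5 n639
theorem D908 : act 5 n639 = n908 := rfl
theorem F1505 : act 1 n908 = n643 := d8_1 D908 (iv D643) (iv F1066)
def n909 : Q := act 2 n640
theorem D909 : act 2 n640 = n909 := rfl
def n910 : Q := act 5 n642
theorem D910 : act 5 n642 = n910 := rfl
theorem F1506 : act 0 n910 = n655 := d4_1 D910 (iv D655) (iv F1070)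
theorem F1507 : act 3 n910 = n643 := d13_1 D910 (iv D643) D642
def n911 : Q := act 3 n644
theorem D911 : act 3 n644 = n911 := rfl
theorem F1508 : act 0 n911 = n649 := d2_1 D911 F1082 (iv F1073)
theorem F1509 : act 5 n911 = n645 := d13_2 (iv F1075) D911 (iv D645)
def n912 : Q := act 2 n645
theorem D912 : act 2 n645 = n912 := rfl
theorem F1510 : act 0 n912 = n648 := d1_1 D912 (iv D648) (iv F1076)
theorem F1511 : act 3 n912 = n648 := d15_1 D912 (iv D648) (iv D452) F542 (iv F545) (iv F774) (iv F1082) (iv D649) (iv F1076)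
def n913 : Q := act 2 n646
theorem D913 : act 2 n646 = n913 := rfl
theorem F1512 : act 4 n913 = n648 := d10_2 (iv F1078) D913 (iv D648)
def n914 : Q := act 5 n646
theorem D914 : act 5 n646 = n914 := rfl
theorem F1513 : act 1 n914 = n655 := d8_1 D914 (iv D655) (iv F1077)
theorem F1514 : act 3 n914 = n647 := d13_1 D914 (iv D647) D646
def n915 : Q := act 1 n648
theorem D915 : act 1 n648 = n915 := rfl
theorem F1515 : act 2 n915 = n656 := d5_2 D648 D915 (iv D656) (iv D458) (iv F772)
def n916 : Q := act 5 n648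
theorem D916 : act 5 n648 = n916 := rfl
theorem F1516 : act 2 n916 = n649 := d11_1 D916 (iv D649) D648
def n917 : Q := act 4 n649
theorem D917 : act 4 n649 = n917 := rfl
theorem F1517 : act 1 n917 = n657 := d7_1 D917 (iv D657) (iv F1081)
theorem F1518 : act 3 n917 = n657 := d12_1 D917 (iv D657) F778 (iv F775) (iv F1082)
def n918 : Q := act 4 n650
theorem D918 : act 4 n650 = n918 := rfl
theorem F1519 : act 0 n918 = n651 := d3_1 D918 (iv D651) D650
def n919 : Q := act 3 n651
theorem D919 : act 3 n651 = n919 := rfl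
theorem F1520 : act 1 n919 = n652 := d6_1 D919 (iv D652) (iv F1083)
def n920 : Q := act 5 n651
theorem D920 : act 5 n651 = n920 := rfl
theorem F1521 : act 1 n920 = n653 := d8_1 D920 (iv D653) (iv F1083)
def n921 : Q := act 2 n652
theorem D921 : act 2 n652 = n921 := rfl
def n922 : Q := act 5 n652
theorem D922 : act 5 n652 = n922 := rfl
theorem F1522 : act 3 n922 = n653 := d13_1 D922 (iv D653) D652
def n923 : Q := act 1 n654
theorem D923 : act 1 n654 = n923 := rfl
theorem F1523 : act 4 n923 = n656 := d7_2 (iv F1085) D923 (iv D656)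
def n924 : Q := act 3 n654
theorem D924 : act 3 n654 = n924 := rfl
def n925 : Q := act 5 n654
theorem D925 : act 5 n654 = n925 := rfl
theorem F1524 : act 2 n925 = n655 := d11_1 D925 (iv D655) D654
def n926 : Q := act 4 n655
theorem D926 : act 4 n655 = n926 := rfl
theorem F1525 : act 5 n926 = n657 := d14_2 D655 D926 (iv D657) (iv D459) (iv F777)
def n927 : Q := act 0 n656
theorem D927 : act 0 n656 = n927 := rfl
def n928 : Q := act 2 n658
theorem D928 : act 2 n658 = n928 := rfl
theorem F1526 : act 0 n928 = n660 := d1_1 D928 (iv D660) (iv F1087)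
def n929 : Q := act 4 n658
theorem D929 : act 4 n658 = n929 := rfl
theorem F1527 : act 0 n929 = n661 := d3_1 D929 (iv D661) (iv F1087)
theorem F1528 : act 1 n929 = n929 := d7_1 D929 (iv D929) F1088
theorem F1529 : act 3 n929 = n668 := d12_1 D929 (iv D668) (iv D466) (iv F781) D658
def n930 : Q := act 5 n658
theorem D930 : act 5 n658 = n930 := rfl
theorem F1530 : act 0 n930 = n662 := d4_1 D930 (iv D662) (iv F1087)
theorem F1531 : act 1 n930 = n930 := d8_1 D930 (iv D930) F1088
theorem F1532 : act 3 n930 = n659 := d13_1 D930 (iv D659) D658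
def n931 : Q := act 4 n659
theorem D931 : act 4 n659 = n931 := rfl
theorem F1533 : act 0 n931 = n663 := d3_1 D931 (iv D663) (iv F1089)
theorem F1534 : act 1 n931 = n931 := d7_1 D931 (iv D931) F1090
theorem F1535 : act 2 n931 = n683 := d10_1 D931 (iv D683) (iv F1091)
theorem F1536 : act 5 n931 = n670 := d14_2 D659 D931 (iv D670) (iv D467) (iv F781)
def n932 : Q := act 1 n660
theorem D932 : act 1 n660 = n932 := rfl
theorem F1537 : act 2 n932 = n662 := d5_2 D660 D932 F1094 (iv D463) (iv F782)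
theorem F1538 : act 5 n660 = n932 := d11_0 F1537 (iv D662) D660
def n933 : Q := act 3 n660
theorem D933 : act 3 n660 = n933 := rfl
def n934 : Q := act 4 n660
theorem D934 : act 4 n660 = n934 := rfl
theorem F1539 : act 2 n934 = n661 := d10_1 D934 (iv D661) D660
def n935 : Q := act 5 n661
theorem D935 : act 5 n661 = n935 := rfl
theorem F1540 : act 1 n935 = n665 := d8_1 D935 (iv D665) (iv F1092)
theorem F1541 : act 3 n935 = n674 := d13_1 D935 (iv D674) (iv F1093)
def n936 : Q := act 4 n662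
theorem D936 : act 4 n662 = n936 := rfl
theorem F1542 : act 1 n936 = n664 := d7_1 D936 (iv D664) (iv F1094)
def n937 : Q := act 3 n663
theorem D937 : act 3 n663 = n937 := rfl
theorem F1543 : act 1 n937 = n666 := d6_1 D937 (iv D666) (iv F1096)
theorem F1544 : act 5 n937 = n676 := d13_2 (iv F1098) D937 (iv D676)
def n938 : Q := act 3 n664
theorem D938 : act 3 n664 = n938 := rfl
theorem F1545 : act 0 n938 = n938 := d2_1 D938 (iv D938) F1099
theorem F1546 : act 4 n938 = n666 := d12_2 D664 D938 (iv D666) (iv D465) (iv F786)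
def n939 : Q := act 5 n664
theorem D939 : act 5 n664 = n939 := rfl
theorem F1547 : act 0 n939 = n939 := d4_1 D939 (iv D939) F1099
theorem F1548 : act 2 n939 = n665 := d11_1 D939 (iv D665) (iv F1100)
theorem F1549 : act 4 n939 = n665 := d14_1 D939 (iv D665) (iv D464) F787 D664
def n940 : Q := act 2 n666
theorem D940 : act 2 n666 = n940 := rfl
theorem F1550 : act 0 n940 = n940 := d1_1 D940 (iv D940) F1103
theorem F1551 : act 5 n940 = n679 := d11_2 (iv F1104) D940 (iv D679)
theorem F1552 : act 3 n940 = n679 := d15_1 D940 (iv D679) (iv D474) F566 F404 (iv F566) D474 (iv F1104) F1103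
def n941 : Q := act 1 n667
theorem D941 : act 1 n667 = n941 := rfl
theorem F1553 : act 2 n941 = n941 := d5_2 D667 D941 (iv D941) (iv D667) F794
theorem F1554 : act 3 n941 = n806 := d6_2 (iv F1106) D941 (iv D806)
theorem F1555 : act 0 n905 = n941 := d2_3 F1554 (iv F1359) D905
theorem F1556 : act 5 n905 = n941 := d13_0 F1554 F1358 D905
def n942 : Q := act 4 n667
theorem D942 : act 4 n667 = n942 := rfl
theorem F1557 : act 0 n942 = n673 := d3_1 D942 (iv D673) (iv F1105)
theorem F1558 : act 2 n942 = n668 := d10_1 D942 (iv D668) D667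
def n943 : Q := act 5 n667
theorem D943 : act 5 n667 = n943 := rfl
theorem F1559 : act 0 n943 = n671 := d4_1 D943 (iv F1116) (iv F1105)
theorem F1560 : act 1 n943 = n905 := d8_1 D943 F1556 (iv D941)
theorem F1561 : act 2 n943 = n669 := d11_1 D943 (iv D669) D667
theorem F1562 : act 3 n943 = n697 := d13_1 D943 F1170 (iv F1106)
def n944 : Q := act 5 n668
theorem D944 : act 5 n668 = n944 := rfl
theorem F1563 : act 0 n944 = n674 := d4_1 D944 (iv D674) (iv F1107)
theorem F1564 : act 1 n944 = n944 := d8_1 D944 (iv D944) F1108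
def n945 : Q := act 4 n669
theorem D945 : act 4 n669 = n945 := rfl
theorem F1565 : act 0 n945 = n675 := d3_1 D945 (iv D675) (iv F1109)
theorem F1566 : act 1 n945 = n945 := d7_1 D945 (iv D945) F1110
def n946 : Q := act 3 n670
theorem D946 : act 3 n670 = n946 := rfl
theorem F1567 : act 0 n946 = n676 := d2_1 D946 (iv D676) (iv F1112)
theorem F1568 : act 1 n946 = n946 := d6_1 D946 (iv D946) F1113
def n947 : Q := act 3 n671
theorem D947 : act 3 n671 = n947 := rfl
theorem F1569 : act 0 n947 = n697 := d2_1 D947 (iv F1562) F1559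
theorem F1570 : act 1 n947 = n672 := d6_1 D947 (iv D672) D671
theorem F1571 : act 2 n947 = n693 := d9_1 D947 (iv D693) (iv D484) (iv D333) (iv F557) D466 D667 F1106 (iv D566) (iv D392) F477 (iv F416) (iv F560) (iv F800) (iv F1115)
theorem F1572 : act 5 n947 = n672 := d13_2 F1116 D947 (iv D672)
def n948 : Q := act 4 n671
theorem D948 : act 4 n671 = n948 := rfl
theorem F1573 : act 1 n948 = n673 := d7_1 D948 (iv D673) D671
theorem F1574 : act 2 n948 = n675 := d10_1 D948 (iv D675) (iv F1115)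
def n949 : Q := act 4 n672
theorem D949 : act 4 n672 = n949 := rfl
theorem F1575 : act 0 n949 = n807 := d3_1 D949 (iv D807) (iv F1117)
theorem F1576 : act 2 n949 = n803 := d10_1 D949 (iv D803) (iv F1118)
def n950 : Q := act 3 n673
theorem D950 : act 3 n673 = n950 := rfl
def n951 : Q := act 5 n673
theorem D951 : act 5 n673 = n951 := rfl
theorem F1577 : act 2 n951 = n674 := d11_1 D951 (iv D674) (iv F1119)
def n952 : Q := act 4 n674
theorem D952 : act 4 n674 = n952 := rfl
theorem F1578 : act 1 n952 = n678 := d7_1 D952 F1127 (iv F1120)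
theorem F1579 : act 5 n952 = n675 := d14_2 D674 D952 (iv D675) (iv D470) D469
def n953 : Q := act 3 n675
theorem D953 : act 3 n675 = n953 := rfl
theorem F1580 : act 1 n953 = n677 := d6_1 D953 (iv D677) (iv F1121)
theorem F1581 : act 4 n953 = n676 := d12_2 D675 D953 (iv D676) (iv D471) (iv F800)
def n954 : Q := act 2 n676
theorem D954 : act 2 n676 = n954 := rfl
def n955 : Q := act 2 n677
theorem D955 : act 2 n677 = n955 := rfl
theorem F1582 : act 0 n955 = n955 := d1_1 D955 (iv D955) F1123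
theorem F1583 : act 4 n955 = n679 := d10_2 (iv F1124) D955 (iv D679)
def n956 : Q := act 5 n677
theorem D956 : act 5 n677 = n956 := rfl
theorem F1584 : act 0 n956 = n956 := d4_1 D956 (iv D956) F1123
theorem F1585 : act 3 n956 = n678 := d13_1 D956 (iv D678) D677
def n957 : Q := act 1 n679
theorem D957 : act 1 n679 = n957 := rfl
def n958 : Q := act 1 n680
theorem D958 : act 1 n680 = n958 := rfl
theorem F1586 : act 2 n958 = n753 := d5_2 D680 D958 (iv D753) (iv D528) (iv F808)
def n959 : Q := act 3 n680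
theorem D959 : act 3 n680 = n959 := rfl
theorem F1587 : act 0 n959 = n685 := d2_1 D959 (iv D685) (iv F1129)
def n960 : Q := act 4 n680
theorem D960 : act 4 n680 = n960 := rfl
theorem F1588 : act 0 n960 = n686 := d3_1 D960 (iv D686) (iv F1129)
theorem F1589 : act 2 n960 = n681 := d10_1 D960 (iv D681) D680
def n961 : Q := act 5 n680
theorem D961 : act 5 n680 = n961 := rfl
theorem F1590 : act 0 n961 = n684 := d4_1 D961 (iv F1140) (iv F1129)
theorem F1591 : act 2 n961 = n682 := d11_1 D961 (iv D682) D680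
def n962 : Q := act 5 n681
theorem D962 : act 5 n681 = n962 := rfl
theorem F1592 : act 0 n962 = n687 := d4_1 D962 (iv D687) (iv F1130)
theorem F1593 : act 1 n962 = n757 := d8_1 D962 (iv D757) (iv F1131)
theorem F1594 : act 3 n962 = n695 := d13_1 D962 (iv D695) (iv F1132)
def n963 : Q := act 4 n682
theorem D963 : act 4 n682 = n963 := rfl
theorem F1595 : act 0 n963 = n688 := d3_1 D963 (iv D688) (iv F1133)
theorem F1596 : act 1 n963 = n758 := d7_1 D963 (iv D758) (iv F1134)
def n964 : Q := act 3 n683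
theorem D964 : act 3 n683 = n964 := rfl
theorem F1597 : act 0 n964 = n689 := d2_1 D964 (iv D689) (iv F1136)
theorem F1598 : act 1 n964 = n759 := d6_1 D964 (iv D759) (iv F1137)
theorem F1599 : act 5 n964 = n696 := d13_2 (iv F1138) D964 (iv D696)
def n965 : Q := act 3 n684
theorem D965 : act 3 n684 = n965 := rfl
theorem F1600 : act 1 n965 = n685 := d6_1 D965 (iv D685) D684
theorem F1601 : act 5 n965 = n685 := d13_2 F1140 D965 (iv D685)
def n966 : Q := act 4 n684
theorem D966 : act 4 n684 = n966 := rfl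
theorem F1602 : act 1 n966 = n686 := d7_1 D966 (iv D686) D684
theorem F1603 : act 2 n966 = n688 := d10_1 D966 (iv D688) (iv F1139)
def n967 : Q := act 2 n685
theorem D967 : act 2 n685 = n967 := rfl
def n968 : Q := act 4 n685
theorem D968 : act 4 n685 = n968 := rfl
def n969 : Q := act 3 n686
theorem D969 : act 3 n686 = n969 := rfl
def n970 : Q := act 5 n686
theorem D970 : act 5 n686 = n970 := rfl
theorem F1604 : act 2 n970 = n687 := d11_1 D970 (iv D687) (iv F1141)
def n971 : Q := act 4 n687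
theorem D971 : act 4 n687 = n971 := rfl
theorem F1605 : act 1 n971 = n691 := d7_1 D971 F1153 (iv F1142)
theorem F1606 : act 3 n971 = n836 := d12_1 D971 (iv D836) F985 (iv F834) (iv F1143)
theorem F1607 : act 5 n971 = n688 := d14_2 D687 D971 (iv D688) (iv D479) D478
def n972 : Q := act 3 n688
theorem D972 : act 3 n688 = n972 := rfl
theorem F1608 : act 1 n972 = n690 := d6_1 D972 (iv D690) (iv F1144)
theorem F1609 : act 4 n972 = n689 := d12_2 D688 D972 (iv D689) (iv D480) (iv F814)
theorem F1610 : act 5 n972 = n836 := d13_2 F1607 D972 (iv F1606)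
def n973 : Q := act 2 n689
theorem D973 : act 2 n689 = n973 := rfl
theorem F1611 : act 5 n973 = n701 := d11_2 (iv F1146) D973 (iv D701)
def n974 : Q := act 4 n692
theorem D974 : act 4 n692 = n974 := rfl
theorem F1612 : act 0 n974 = n793 := d3_1 D974 (iv D793) (iv F1154)
theorem F1613 : act 1 n974 = n694 := d7_1 D974 (iv D694) D692
theorem F1614 : act 2 n974 = n772 := d10_1 D974 (iv D772) (iv F1155)
def n975 : Q := act 4 n693
theorem D975 : act 4 n693 = n975 := rfl
theorem F1615 : act 0 n975 = n698 := d3_1 D975 (iv D698) (iv F1158)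
theorem F1616 : act 1 n975 = n918 := d7_1 D975 (iv D918) (iv F1159)
def n976 : Q := act 3 n694
theorem D976 : act 3 n694 = n976 := rfl
theorem F1617 : act 0 n976 = n699 := d2_1 D976 (iv D699) (iv F1161)
def n977 : Q := act 5 n694
theorem D977 : act 5 n694 = n977 := rfl
theorem F1618 : act 0 n977 = n700 := d4_1 D977 (iv D700) (iv F1161)
theorem F1619 : act 2 n977 = n695 := d11_1 D977 (iv D695) (iv F1162)
theorem F1620 : act 4 n977 = n805 := d14_1 D977 (iv D805) (iv D565) (iv F824) D694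
def n978 : Q := act 2 n696
theorem D978 : act 2 n696 = n978 := rfl
theorem F1621 : act 0 n978 = n701 := d1_1 D978 (iv D701) (iv F1166)
theorem F1622 : act 4 n978 = n831 := d10_2 (iv F1168) D978 (iv D831)
def n979 : Q := act 4 n697
theorem D979 : act 4 n697 = n979 := rfl
theorem F1623 : act 1 n979 = n906 := d7_1 D979 (iv D906) (iv F1169)
theorem F1624 : act 2 n979 = n698 := d10_1 D979 (iv D698) D697
def n980 : Q := act 3 n698
theorem D980 : act 3 n698 = n980 := rfl
theorem F1625 : act 1 n980 = n818 := d6_1 D980 (iv D818) (iv F1171)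
theorem F1626 : act 4 n980 = n699 := d12_2 D698 D980 (iv D699) (iv D488) D487
def n981 : Q := act 5 n698
theorem D981 : act 5 n698 = n981 := rfl
theorem F1627 : act 1 n981 = n817 := d8_1 D981 F1377 (iv F1171)
theorem F1628 : act 4 n981 = n809 := d14_1 D981 (iv D809) (iv D567) (iv F830) D698
def n982 : Q := act 2 n699
theorem D982 : act 2 n699 = n982 := rfl
def n983 : Q := act 5 n699
theorem D983 : act 5 n699 = n983 := rfl
theorem F1629 : act 1 n983 = n823 := d8_1 D983 F1386 (iv F1172)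
theorem F1630 : act 3 n983 = n700 := d13_1 D983 (iv D700) D699
def n984 : Q := act 1 n701
theorem D984 : act 1 n701 = n984 := rfl
theorem F1631 : act 2 n984 = n702 := d5_2 D701 D984 (iv D702) (iv D491) (iv F835)
theorem F1632 : act 4 n984 = n833 := d7_2 (iv F1176) D984 (iv D833)
def n985 : Q := act 3 n701
theorem D985 : act 3 n701 = n985 := rfl
def n986 : Q := act 0 n702
theorem D986 : act 0 n702 = n986 := rfl
theorem F1633 : act 1 n986 = n785 := d0_2 D702 D986 (iv D785) (iv D551) (iv F837)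
theorem F1634 : act 4 n986 = n837 := d3_2 (iv F1177) D986 (iv D837)
def n987 : Q := act 4 n703
theorem D987 : act 4 n703 = n987 := rfl
theorem F1635 : act 0 n987 = n705 := d3_1 D987 (iv D705) D703
theorem F1636 : act 1 n987 = n714 := d7_1 D987 (iv D714) (iv F1178)
theorem F1637 : act 2 n987 = n789 := d10_1 D987 (iv D789) (iv F1179)
def n988 : Q := act 4 n704
theorem D988 : act 4 n704 = n988 := rfl
theorem F1638 : act 1 n988 = n707 := d7_1 D988 (iv D707) (iv F1181)
def n989 : Q := act 3 n705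
theorem D989 : act 3 n705 = n989 := rfl
theorem F1639 : act 1 n989 = n708 := d6_1 D989 (iv D708) (iv F1182)
def n990 : Q := act 5 n705
theorem D990 : act 5 n705 = n990 := rfl
theorem F1640 : act 1 n990 = n709 := d8_1 D990 (iv D709) (iv F1182)
theorem F1641 : act 2 n990 = n792 := d11_1 D990 (iv D792) (iv F1183)
def n991 : Q := act 4 n706
theorem D991 : act 4 n706 = n991 := rfl
theorem F1642 : act 0 n991 = n772 := d3_1 D991 (iv D772) (iv F1184)
theorem F1643 : act 1 n991 = n710 := d7_1 D991 (iv D710) (iv F1185)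
theorem F1644 : act 2 n991 = n793 := d10_1 D991 (iv D793) (iv F1186)
def n992 : Q := act 3 n707
theorem D992 : act 3 n707 = n992 := rfl
theorem F1645 : act 0 n992 = n720 := d2_1 D992 (iv D720) (iv F1187)
theorem F1646 : act 4 n992 = n708 := d12_2 D707 D992 (iv D708) (iv D494) D493
def n993 : Q := act 5 n707
theorem D993 : act 5 n707 = n993 := rfl
theorem F1647 : act 0 n993 = n721 := d4_1 D993 (iv D721) (iv F1187)
def n994 : Q := act 2 n708
theorem D994 : act 2 n708 = n994 := rfl
theorem F1648 : act 0 n994 = n723 := d1_1 D994 (iv D723) (iv F1188)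
theorem F1649 : act 3 n994 = n747 := d15_1 D994 F1259 F897 F642 (iv F611) (iv F865) (iv F1215) (iv D724) (iv F1188)
theorem F1650 : act 5 n746 = n994 := d13_0 F1649 (iv D747) D746
def n995 : Q := act 5 n708
theorem D995 : act 5 n708 = n995 := rfl
theorem F1651 : act 0 n995 = n724 := d4_1 D995 (iv D724) (iv F1188)
theorem F1652 : act 2 n995 = n746 := d11_1 D995 F1650 (iv D994)
theorem F1653 : act 3 n995 = n709 := d13_1 D995 (iv D709) D708
def n996 : Q := act 4 n709
theorem D996 : act 4 n709 = n996 := rfl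
theorem F1654 : act 0 n996 = n725 := d3_1 D996 (iv D725) (iv F1189)
theorem F1655 : act 2 n996 = n711 := d10_1 D996 (iv D711) (iv F1190)
theorem F1656 : act 5 n996 = n710 := d14_2 D709 D996 (iv D710) (iv D495) D494
def n997 : Q := act 3 n710
theorem D997 : act 3 n710 = n997 := rfl
theorem F1657 : act 0 n997 = n726 := d2_1 D997 (iv D726) (iv F1191)
def n998 : Q := act 2 n712
theorem D998 : act 2 n712 = n998 := rfl
theorem F1658 : act 0 n998 = n727 := d1_1 D998 (iv D727) (iv F1196)
theorem F1659 : act 4 n998 = n713 := d10_2 (iv F1198) D998 (iv D713)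
def n999 : Q := act 1 n713
theorem D999 : act 1 n713 = n999 := rfl
theorem F1660 : act 2 n999 = n802 := d5_2 D713 D999 (iv D802) (iv D563) (iv F851)
theorem F1661 : act 5 n999 = n739 := d8_2 (iv F1200) D999 (iv D739)
def n1000 : Q := act 3 n714
theorem D1000 : act 3 n714 = n1000 := rfl
theorem F1662 : act 0 n1000 = n716 := d2_1 D1000 (iv D716) (iv F1201)
def n1001 : Q := act 5 n714
theorem D1001 : act 5 n714 = n1001 := rfl
theorem F1663 : act 0 n1001 = n717 := d4_1 D1001 (iv D717) (iv F1201)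
theorem F1664 : act 2 n1001 = n730 := d11_1 D1001 (iv D730) (iv F1202)
theorem F1665 : act 4 n1001 = n775 := d14_1 D1001 (iv D775) (iv D543) (iv F854) D714
def n1002 : Q := act 3 n715
theorem D1002 : act 3 n715 = n1002 := rfl
theorem F1666 : act 1 n1002 = n720 := d6_1 D1002 (iv D720) (iv F1203)
theorem F1667 : act 4 n1002 = n716 := d12_2 D715 D1002 (iv D716) (iv D501) D500
def n1003 : Q := act 5 n715
theorem D1003 : act 5 n715 = n1003 := rfl
theorem F1668 : act 1 n1003 = n721 := d8_1 D1003 (iv D721) (iv F1203)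
theorem F1669 : act 4 n1003 = n780 := d14_1 D1003 (iv D780) (iv D547) (iv F856) D715
def n1004 : Q := act 2 n716
theorem D1004 : act 2 n716 = n1004 := rfl
def n1005 : Q := act 5 n716
theorem D1005 : act 5 n716 = n1005 := rfl
theorem F1670 : act 1 n1005 = n724 := d8_1 D1005 (iv D724) (iv F1204)
theorem F1671 : act 3 n1005 = n717 := d13_1 D1005 (iv D717) D716
def n1006 : Q := act 4 n718
theorem D1006 : act 4 n718 = n1006 := rfl
theorem F1672 : act 1 n1006 = n719 := d7_1 D1006 (iv D719) D718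
def n1007 : Q := act 3 n719
theorem D1007 : act 3 n719 = n1007 := rfl
theorem F1673 : act 4 n1007 = n997 := d12_2 D719 D1007 (iv D997) (iv D710) (iv F859)
def n1008 : Q := act 5 n719
theorem D1008 : act 5 n719 = n1008 := rfl
theorem F1674 : act 2 n1008 = n721 := d11_1 D1008 (iv D721) (iv F1210)
theorem F1675 : act 4 n1008 = n993 := d14_1 D1008 (iv D993) (iv D707) F860 D719
def n1009 : Q := act 2 n720
theorem D1009 : act 2 n720 = n1009 := rfl
theorem F1676 : act 4 n1009 = n723 := d10_2 (iv F1211) D1009 (iv D723)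
def n1010 : Q := act 5 n720
theorem D1010 : act 5 n720 = n1010 := rfl
theorem F1677 : act 3 n1010 = n721 := d13_1 D1010 (iv D721) D720
def n1011 : Q := act 4 n721
theorem D1011 : act 4 n721 = n1011 := rfl
theorem F1678 : act 0 n1011 = n1008 := d3_1 D1011 F1675 F1647
theorem F1679 : act 1 n1011 = n780 := d7_1 D1011 (iv F1669) F1668
theorem F1680 : act 2 n1011 = n993 := d10_1 D1011 (iv F1675) F1674
theorem F1681 : act 5 n1011 = n722 := d14_2 D721 D1011 (iv D722) (iv D504) D503
def n1012 : Q := act 3 n722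
theorem D1012 : act 3 n722 = n1012 := rfl
theorem F1682 : act 0 n1012 = n1007 := d2_1 D1012 (iv D1007) (iv F1212)
theorem F1683 : act 1 n1012 = n779 := d6_1 D1012 (iv D779) (iv F1213)
theorem F1684 : act 4 n1012 = n726 := d12_2 D722 D1012 (iv D726) (iv D507) (iv F864)
def n1013 : Q := act 1 n723
theorem D1013 : act 1 n723 = n1013 := rfl
def n1014 : Q := act 3 n723
theorem D1014 : act 3 n723 = n1014 := rfl
theorem F1685 : act 0 n1014 = n747 := d2_1 D1014 (iv F1649) F1648
theorem F1686 : act 2 n1014 = n738 := d9_1 D1014 F1246 F891 (iv F847) (iv F1190) (iv F1653) F1652 (iv D746) (iv D523) (iv D363) F449 (iv F427) (iv F607) D505 D723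
theorem F1687 : act 5 n1014 = n737 := d15_8 (iv D523) (iv D363) F449 (iv F427) (iv F607) D505 D723 D1014 F1244
def n1015 : Q := act 5 n723
theorem D1015 : act 5 n723 = n1015 := rfl
theorem F1688 : act 0 n1015 = n746 := d4_1 D1015 F1650 F1648
theorem F1689 : act 2 n1015 = n724 := d11_1 D1015 (iv D724) D723
theorem F1690 : act 3 n1015 = n737 := d13_1 D1015 (iv F1687) (iv D1014)
def n1016 : Q := act 4 n724
theorem D1016 : act 4 n724 = n1016 := rfl
def n1017 : Q := act 3 n725
theorem D1017 : act 3 n725 = n1017 := rfl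
theorem F1691 : act 1 n1017 = n782 := d6_1 D1017 F1311 (iv F1216)
theorem F1692 : act 5 n1017 = n726 := d13_2 (iv F1218) D1017 (iv D726)
def n1018 : Q := act 2 n726
theorem D1018 : act 2 n726 = n1018 := rfl
def n1019 : Q := act 3 n727
theorem D1019 : act 3 n727 = n1019 := rfl
def n1020 : Q := act 4 n728
theorem D1020 : act 4 n728 = n1020 := rfl
def n1021 : Q := act 2 n729
theorem D1021 : act 2 n729 = n1021 := rfl
theorem F1693 : act 0 n1021 = n731 := d1_1 D1021 (iv D731) (iv F1222)
theorem F1694 : act 4 n1021 = n776 := d10_2 (iv F1224) D1021 (iv D776)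
def n1022 : Q := act 5 n729
theorem D1022 : act 5 n729 = n1022 := rfl
theorem F1695 : act 0 n1022 = n732 := d4_1 D1022 (iv D732) (iv F1222)
theorem F1696 : act 1 n1022 = n832 := d8_1 D1022 (iv D832) (iv F1223)
theorem F1697 : act 3 n1022 = n730 := d13_1 D1022 (iv D730) D729
def n1023 : Q := act 1 n731
theorem D1023 : act 1 n731 = n1023 := rfl
theorem F1698 : act 2 n1023 = n733 := d5_2 D731 D1023 (iv D733) (iv D514) (iv F875)
theorem F1699 : act 4 n1023 = n783 := d7_2 (iv F1228) D1023 (iv D783)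
theorem F1700 : act 5 n893 = n1023 := d11_0 F1698 F1233 D893
def n1024 : Q := act 3 n731
theorem D1024 : act 3 n731 = n1024 := rfl
def n1025 : Q := act 5 n731
theorem D1025 : act 5 n731 = n1025 := rfl
theorem F1701 : act 1 n1025 = n893 := d8_1 D1025 F1700 (iv D1023)
theorem F1702 : act 2 n1025 = n732 := d11_1 D1025 (iv D732) D731
def n1026 : Q := act 4 n732
theorem D1026 : act 4 n732 = n1026 := rfl
theorem F1703 : act 1 n1026 = n734 := d7_1 D1026 (iv D734) (iv F1229)
theorem F1704 : act 3 n1026 = n766 := d12_1 D1026 (iv D766) F912 (iv F878) (iv F1230)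
theorem F1705 : act 5 n1026 = n767 := d14_2 D732 D1026 F1287 F915 (iv F876)
def n1027 : Q := act 0 n733
theorem D1027 : act 0 n733 = n1027 := rfl
theorem F1706 : act 1 n1027 = n837 := d0_2 D733 D1027 (iv D837) (iv D587) (iv F879)
theorem F1707 : act 3 n1027 = n892 := d2_2 (iv F1231) D1027 F1474
theorem F1708 : act 4 n1027 = n785 := d3_2 (iv F1232) D1027 (iv D785)
theorem F1709 : act 5 n1027 = n891 := d4_2 (iv F1233) D1027 F1473
def n1028 : Q := act 2 n735
theorem D1028 : act 2 n735 = n1028 := rfl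
theorem F1710 : act 0 n1028 = n743 := d1_1 D1028 (iv D743) (iv F1238)
theorem F1711 : act 4 n1028 = n737 := d10_2 (iv F1240) D1028 (iv D737)
def n1029 : Q := act 5 n735
theorem D1029 : act 5 n735 = n1029 := rfl
theorem F1712 : act 0 n1029 = n744 := d4_1 D1029 (iv D744) (iv F1238)
theorem F1713 : act 1 n1029 = n738 := d8_1 D1029 (iv D738) (iv F1239)
theorem F1714 : act 3 n1029 = n736 := d13_1 D1029 (iv D736) D735
def n1030 : Q := act 1 n737
theorem D1030 : act 1 n737 = n1030 := rfl
def n1031 : Q := act 4 n738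
theorem D1031 : act 4 n738 = n1031 := rfl
theorem F1715 : act 0 n1031 = n748 := d3_1 D1031 (iv D748) (iv F1245)
def n1032 : Q := act 0 n739
theorem D1032 : act 0 n739 = n1032 := rfl
theorem F1716 : act 1 n1032 = n749 := d0_2 D739 D1032 (iv D749) (iv D525) (iv F892)
theorem F1717 : act 2 n1032 = n850 := d1_2 (iv F1247) D1032 (iv D850)
def n1033 : Q := act 3 n739
theorem D1033 : act 3 n739 = n1033 := rfl
theorem F1718 : act 1 n1033 = n740 := d6_1 D1033 (iv D740) D739
def n1034 : Q := act 4 n740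
theorem D1034 : act 4 n740 = n1034 := rfl
theorem F1719 : act 0 n1034 = n752 := d3_1 D1034 (iv D752) (iv F1248)
theorem F1720 : act 2 n1034 = n1020 := d10_1 D1034 (iv D1020) (iv F1249)
def n1035 : Q := act 2 n741
theorem D1035 : act 2 n741 = n1035 := rfl
theorem F1721 : act 0 n1035 = n841 := d1_1 D1035 (iv D841) (iv F1250)
theorem F1722 : act 4 n1035 = n853 := d10_2 (iv F1252) D1035 (iv D853)
def n1036 : Q := act 5 n741
theorem D1036 : act 5 n741 = n1036 := rfl
theorem F1723 : act 0 n1036 = n842 := d4_1 D1036 (iv D842) (iv F1250)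
theorem F1724 : act 1 n1036 = n854 := d8_1 D1036 (iv D854) (iv F1251)
theorem F1725 : act 3 n1036 = n742 := d13_1 D1036 (iv D742) D741
def n1037 : Q := act 1 n743
theorem D1037 : act 1 n743 = n1037 := rfl
theorem F1726 : act 4 n1037 = n745 := d7_2 (iv F1257) D1037 (iv D745)
def n1038 : Q := act 3 n743
theorem D1038 : act 3 n743 = n1038 := rfl
def n1039 : Q := act 5 n743
theorem D1039 : act 5 n743 = n1039 := rfl
theorem F1727 : act 2 n1039 = n744 := d11_1 D1039 (iv D744) D743
def n1040 : Q := act 4 n744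
theorem D1040 : act 4 n744 = n1040 := rfl
theorem F1728 : act 5 n1040 = n748 := d14_2 D744 D1040 (iv D748) (iv D524) (iv F896)
def n1041 : Q := act 0 n745
theorem D1041 : act 0 n745 = n1041 := rfl
def n1042 : Q := act 3 n745
theorem D1042 : act 3 n745 = n1042 := rfl
theorem F1729 : act 1 n1042 = n746 := d6_1 D1042 (iv D746) D745
def n1043 : Q := act 5 n745
theorem D1043 : act 5 n745 = n1043 := rfl
theorem F1730 : act 1 n1043 = n747 := d8_1 D1043 (iv D747) D745
def n1044 : Q := act 4 n746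
theorem D1044 : act 4 n746 = n1044 := rfl
def n1045 : Q := act 4 n747
theorem D1045 : act 4 n747 = n1045 := rfl
theorem F1731 : act 2 n1045 = n748 := d10_1 D1045 (iv D748) (iv F1259)
def n1046 : Q := act 3 n749
theorem D1046 : act 3 n749 = n1046 := rfl
theorem F1732 : act 0 n1046 = n750 := d2_1 D1046 (iv D750) D749
def n1047 : Q := act 2 n750
theorem D1047 : act 2 n750 = n1047 := rfl
def n1048 : Q := act 4 n750
theorem D1048 : act 4 n750 = n1048 := rfl
theorem F1733 : act 1 n1048 = n752 := d7_1 D1048 (iv D752) (iv F1261)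
def n1049 : Q := act 1 n751
theorem D1049 : act 1 n751 = n1049 := rfl
theorem F1734 : act 3 n1049 = n999 := d6_2 (iv F1264) D1049 (iv D999)
theorem F1735 : act 5 n1049 = n1033 := d8_2 (iv F1263) D1049 F1718
def n1050 : Q := act 4 n751
theorem D1050 : act 4 n751 = n1050 := rfl
theorem F1736 : act 0 n1050 = n1020 := d3_1 D1050 (iv D1020) (iv F1262)
theorem F1737 : act 2 n1050 = n752 := d10_1 D1050 (iv D752) D751
def n1051 : Q := act 5 n752
theorem D1051 : act 5 n752 = n1051 := rfl
def n1052 : Q := act 0 n753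
theorem D1052 : act 0 n753 = n1052 := rfl
theorem F1738 : act 1 n1052 = n756 := d0_2 D753 D1052 F1268 (iv D532) (iv F900)
theorem F1739 : act 5 n753 = n1052 := d8_0 F1738 (iv D756) D753
def n1053 : Q := act 3 n753
theorem D1053 : act 3 n753 = n1053 := rfl
theorem F1740 : act 1 n1053 = n754 := d6_1 D1053 (iv D754) D753
def n1054 : Q := act 4 n753
theorem D1054 : act 4 n753 = n1054 := rfl
theorem F1741 : act 1 n1054 = n755 := d7_1 D1054 (iv D755) D753
def n1055 : Q := act 4 n754
theorem D1055 : act 4 n754 = n1055 := rfl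
theorem F1742 : act 0 n1055 = n763 := d3_1 D1055 (iv D763) (iv F1265)
def n1056 : Q := act 3 n755
theorem D1056 : act 3 n755 = n1056 := rfl
theorem F1743 : act 0 n1056 = n764 := d2_1 D1056 (iv D764) (iv F1266)
def n1057 : Q := act 5 n755
theorem D1057 : act 5 n755 = n1057 := rfl
theorem F1744 : act 0 n1057 = n765 := d4_1 D1057 (iv D765) (iv F1266)
theorem F1745 : act 2 n1057 = n757 := d11_1 D1057 (iv D757) (iv F1267)
def n1058 : Q := act 4 n756
theorem D1058 : act 4 n756 = n1058 := rfl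
theorem F1746 : act 0 n1058 = n761 := d3_1 D1058 (iv D761) (iv F1268)
theorem F1747 : act 2 n1058 = n758 := d10_1 D1058 (iv D758) (iv F1269)
def n1059 : Q := act 4 n757
theorem D1059 : act 4 n757 = n1059 := rfl
theorem F1748 : act 0 n1059 = n766 := d3_1 D1059 (iv D766) (iv F1270)
theorem F1749 : act 5 n1059 = n758 := d14_2 D757 D1059 (iv D758) (iv D530) D529
def n1060 : Q := act 3 n758
theorem D1060 : act 3 n758 = n1060 := rfl
theorem F1750 : act 0 n1060 = n767 := d2_1 D1060 (iv D767) (iv F1272)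
theorem F1751 : act 4 n1060 = n759 := d12_2 D758 D1060 (iv D759) (iv D531) (iv F904)
def n1061 : Q := act 2 n759
theorem D1061 : act 2 n759 = n1061 := rfl
theorem F1752 : act 0 n1061 = n768 := d1_1 D1061 (iv D768) (iv F1273)
theorem F1753 : act 5 n1061 = n776 := d11_2 (iv F1274) D1061 (iv D776)
def n1062 : Q := act 4 n760
theorem D1062 : act 4 n760 = n1062 := rfl
theorem F1754 : act 1 n1062 = n763 := d7_1 D1062 (iv D763) (iv F1275)
theorem F1755 : act 2 n1062 = n1055 := d10_1 D1062 (iv D1055) (iv F1277)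
def n1063 : Q := act 3 n761
theorem D1063 : act 3 n761 = n1063 := rfl
theorem F1756 : act 1 n1063 = n764 := d6_1 D1063 (iv D764) (iv F1278)
def n1064 : Q := act 5 n761
theorem D1064 : act 5 n761 = n1064 := rfl
theorem F1757 : act 1 n1064 = n765 := d8_1 D1064 (iv D765) (iv F1278)
theorem F1758 : act 2 n1064 = n766 := d11_1 D1064 F1285 (iv F1279)
theorem F1759 : act 4 n1064 = n765 := d14_1 D1064 (iv D765) (iv D534) F909 D761
def n1065 : Q := act 1 n762
theorem D1065 : act 1 n762 = n1065 := rfl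
theorem F1760 : act 0 n1065 = n1053 := d0_1 D1065 F1740 F1265 (iv F1275) (iv F1280)
theorem F1761 : act 2 n1065 = n1053 := d5_2 D762 D1065 F1740 (iv F1277) F1275
theorem F1762 : act 3 n1065 = n1052 := d6_2 (iv F1282) D1065 F1738
theorem F1763 : act 5 n1065 = n1053 := d8_2 (iv F1281) D1065 F1740
def n1066 : Q := act 4 n762
theorem D1066 : act 4 n762 = n1066 := rfl
theorem F1764 : act 0 n1066 = n1062 := d3_1 D1066 (iv D1062) (iv F1280)
theorem F1765 : act 2 n1066 = n763 := d10_1 D1066 (iv D763) D762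
def n1067 : Q := act 3 n763
theorem D1067 : act 3 n763 = n1067 := rfl
theorem F1766 : act 4 n1067 = n764 := d12_2 D763 D1067 (iv D764) (iv D534) D533
def n1068 : Q := act 5 n763
theorem D1068 : act 5 n763 = n1068 := rfl
def n1069 : Q := act 2 n764
theorem D1069 : act 2 n764 = n1069 := rfl
def n1070 : Q := act 5 n764
theorem D1070 : act 5 n764 = n1070 := rfl
theorem F1767 : act 3 n1070 = n765 := d13_1 D1070 (iv D765) D764
def n1071 : Q := act 2 n767
theorem D1071 : act 2 n767 = n1071 := rfl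
theorem F1768 : act 4 n1071 = n768 := d10_2 (iv F1287) D1071 (iv D768)
def n1072 : Q := act 1 n768
theorem D1072 : act 1 n768 = n1072 := rfl
theorem F1769 : act 2 n1072 = n770 := d5_2 D768 D1072 (iv D770) (iv D540) (iv F914)
theorem F1770 : act 5 n1072 = n783 := d8_2 (iv F1288) D1072 (iv D783)
def n1073 : Q := act 3 n768
theorem D1073 : act 3 n768 = n1073 := rfl
theorem F1771 : act 5 n1073 = n784 := d13_2 (iv F1288) D1073 (iv D784)
def n1074 : Q := act 1 n769
theorem D1074 : act 1 n769 = n1074 := rfl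
theorem F1772 : act 3 n1074 = n838 := d6_2 (iv F1289) D1074 (iv D838)
theorem F1773 : act 4 n1074 = n770 := d7_2 (iv F1290) D1074 (iv D770)
theorem F1774 : act 5 n1074 = n840 := d8_2 (iv F1291) D1074 F1406
def n1075 : Q := act 0 n770
theorem D1075 : act 0 n770 = n1075 := rfl
theorem F1775 : act 3 n1075 = n986 := d2_2 (iv F1292) D1075 (iv D986)
theorem F1776 : act 5 n1075 = n785 := d4_2 (iv F1293) D1075 (iv D785)
def n1076 : Q := act 4 n771
theorem D1076 : act 4 n771 = n1076 := rfl
theorem F1777 : act 0 n1076 = n1006 := d3_1 D1076 (iv D1006) (iv F1294)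
theorem F1778 : act 1 n1076 = n773 := d7_1 D1076 (iv D773) (iv F1295)
theorem F1779 : act 2 n1076 = n1006 := d10_1 D1076 (iv D1006) (iv F1296)
def n1077 : Q := act 3 n772
theorem D1077 : act 3 n772 = n1077 := rfl
theorem F1780 : act 1 n1077 = n774 := d6_1 D1077 (iv D774) (iv F1297)
def n1078 : Q := act 5 n772
theorem D1078 : act 5 n772 = n1078 := rfl
theorem F1781 : act 1 n1078 = n775 := d8_1 D1078 (iv D775) (iv F1297)
def n1079 : Q := act 3 n773
theorem D1079 : act 3 n773 = n1079 := rfl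
theorem F1782 : act 0 n1079 = n779 := d2_1 D1079 (iv D779) (iv F1298)
theorem F1783 : act 4 n1079 = n774 := d12_2 D773 D1079 (iv D774) (iv D543) D542
def n1080 : Q := act 5 n773
theorem D1080 : act 5 n773 = n1080 := rfl
theorem F1784 : act 0 n1080 = n780 := d4_1 D1080 (iv D780) (iv F1298)
theorem F1785 : act 2 n1080 = n1003 := d11_1 D1080 (iv D1003) (iv F1299)
def n1081 : Q := act 2 n774
theorem D1081 : act 2 n774 = n1081 := rfl
theorem F1786 : act 0 n1081 = n781 := d1_1 D1081 (iv D781) (iv F1300)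
def n1082 : Q := act 5 n774
theorem D1082 : act 5 n774 = n1082 := rfl
theorem F1787 : act 0 n1082 = n782 := d4_1 D1082 (iv D782) (iv F1300)
theorem F1788 : act 3 n1082 = n775 := d13_1 D1082 (iv D775) D774
def n1083 : Q := act 1 n776
theorem D1083 : act 1 n776 = n1083 := rfl
def n1084 : Q := act 3 n776
theorem D1084 : act 3 n776 = n1084 := rfl
theorem F1789 : act 0 n1084 = n784 := d2_1 D1084 (iv D784) (iv F1303)
theorem F1790 : act 2 n1084 = n1073 := d15_2 D776 D1084 (iv D1073) (iv D768) (iv D537) F651 D537 F915 (iv F926)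
def n1085 : Q := act 4 n777
theorem D1085 : act 4 n777 = n1085 := rfl
theorem F1791 : act 0 n1085 = n988 := d3_1 D1085 (iv D988) (iv F1304)
theorem F1792 : act 1 n1085 = n778 := d7_1 D1085 (iv D778) D777
theorem F1793 : act 2 n1085 = n988 := d10_1 D1085 (iv D988) (iv F1305)
def n1086 : Q := act 3 n778
theorem D1086 : act 3 n778 = n1086 := rfl
theorem F1794 : act 0 n1086 = n1002 := d2_1 D1086 (iv D1002) (iv F1308)
theorem F1795 : act 4 n1086 = n1000 := d12_2 D778 D1086 (iv D1000) (iv D714) (iv F929)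
def n1087 : Q := act 5 n778
theorem D1087 : act 5 n778 = n1087 := rfl
theorem F1796 : act 0 n1087 = n1003 := d4_1 D1087 (iv D1003) (iv F1308)
theorem F1797 : act 2 n1087 = n780 := d11_1 D1087 (iv D780) (iv F1309)
theorem F1798 : act 4 n1087 = n1080 := d14_1 D1087 (iv D1080) (iv D773) (iv F928) D778
def n1088 : Q := act 2 n779
theorem D1088 : act 2 n779 = n1088 := rfl
theorem F1799 : act 4 n1088 = n781 := d10_2 (iv F1310) D1088 (iv D781)
def n1089 : Q := act 5 n779
theorem D1089 : act 5 n779 = n1089 := rfl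
theorem F1800 : act 3 n1089 = n780 := d13_1 D1089 (iv D780) D779
def n1090 : Q := act 1 n781
theorem D1090 : act 1 n781 = n1090 := rfl
def n1091 : Q := act 3 n781
theorem D1091 : act 3 n781 = n1091 := rfl
def n1092 : Q := act 5 n781
theorem D1092 : act 5 n781 = n1092 := rfl
theorem F1801 : act 2 n1092 = n782 := d11_1 D1092 (iv D782) D781
def n1093 : Q := act 4 n782
theorem D1093 : act 4 n782 = n1093 := rfl
def n1094 : Q := act 0 n783
theorem D1094 : act 0 n783 = n1094 := rfl
theorem F1802 : act 2 n1094 = n785 := d1_2 (iv F1312) D1094 (iv D785)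
def n1095 : Q := act 3 n783
theorem D1095 : act 3 n783 = n1095 := rfl
theorem F1803 : act 1 n1095 = n784 := d6_1 D1095 (iv D784) D783
def n1096 : Q := act 2 n784
theorem D1096 : act 2 n784 = n1096 := rfl
theorem F1804 : act 0 n1096 = n1073 := d1_1 D1096 (iv F1790) F1789
theorem F1805 : act 5 n1096 = n1084 := d11_2 F1771 D1096 F1790
theorem F1806 : act 3 n1096 = n1061 := d15_3 D550 D784 D1096 (iv D1061) (iv D759) F906 D759 F1274 F926
def n1097 : Q := act 4 n784
theorem D1097 : act 4 n784 = n1097 := rfl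
def n1098 : Q := act 3 n785
theorem D1098 : act 3 n785 = n1098 := rfl
theorem F1807 : act 0 n1098 = n786 := d2_1 D1098 (iv D786) D785
theorem F1808 : act 1 n1098 = n1075 := d6_1 D1098 F1775 F1633
theorem F1809 : act 5 n1098 = n986 := d13_2 F1776 D1098 (iv F1775)
def n1099 : Q := act 2 n786
theorem D1099 : act 2 n786 = n1099 := rfl
theorem F1810 : act 1 n1099 = n973 := d5_1 D1099 (iv D973) F1145 (iv F933) (iv F1313)
theorem F1811 : act 5 n1099 = n984 := d11_2 (iv F1314) D1099 F1631
def n1100 : Q := act 4 n786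
theorem D1100 : act 4 n786 = n1100 := rfl
theorem F1812 : act 1 n1100 = n787 := d7_1 D1100 (iv D787) (iv F1313)
theorem F1813 : act 3 n1100 = n894 := d12_1 D1100 (iv D894) (iv F1231) F1232 D786
theorem F1814 : act 5 n1100 = n898 := d14_2 (iv F1314) D1100 (iv D898) F1053 (iv F1177)
def n1101 : Q := act 4 n788
theorem D1101 : act 4 n788 = n1101 := rfl
theorem F1815 : act 0 n1101 = n790 := d3_1 D1101 (iv D790) (iv F1319)
theorem F1816 : act 1 n1101 = n803 := d7_1 D1101 (iv D803) (iv F1320)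
theorem F1817 : act 2 n1101 = n918 := d10_1 D1101 (iv D918) (iv F1321)
def n1102 : Q := act 3 n789
theorem D1102 : act 3 n789 = n1102 := rfl
theorem F1818 : act 0 n1102 = n791 := d2_1 D1102 (iv D791) (iv F1323)
theorem F1819 : act 1 n1102 = n804 := d6_1 D1102 (iv D804) (iv F1324)
def n1103 : Q := act 5 n789
theorem D1103 : act 5 n789 = n1103 := rfl
theorem F1820 : act 0 n1103 = n792 := d4_1 D1103 (iv D792) (iv F1323)
theorem F1821 : act 1 n1103 = n805 := d8_1 D1103 (iv D805) (iv F1324)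
def n1104 : Q := act 3 n790
theorem D1104 : act 3 n790 = n1104 := rfl
theorem F1822 : act 1 n1104 = n794 := d6_1 D1104 (iv D794) (iv F1325)
theorem F1823 : act 4 n1104 = n791 := d12_2 D790 D1104 (iv D791) (iv D555) D554
def n1105 : Q := act 5 n790
theorem D1105 : act 5 n790 = n1105 := rfl
theorem F1824 : act 1 n1105 = n795 := d8_1 D1105 (iv D795) (iv F1325)
theorem F1825 : act 2 n1105 = n920 := d11_1 D1105 (iv D920) (iv F1326)
theorem F1826 : act 4 n1105 = n920 := d14_1 D1105 (iv D920) (iv D651) F937 D790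
def n1106 : Q := act 2 n791
theorem D1106 : act 2 n791 = n1106 := rfl
def n1107 : Q := act 5 n791
theorem D1107 : act 5 n791 = n1107 := rfl
theorem F1827 : act 1 n1107 = n797 := d8_1 D1107 (iv D797) (iv F1327)
theorem F1828 : act 3 n1107 = n792 := d13_1 D1107 (iv D792) D791
def n1108 : Q := act 4 n792
theorem D1108 : act 4 n792 = n1108 := rfl
theorem F1829 : act 1 n1108 = n798 := d7_1 D1108 (iv D798) (iv F1328)
theorem F1830 : act 5 n1108 = n793 := d14_2 D792 D1108 (iv D793) (iv D556) D555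
def n1109 : Q := act 3 n793
theorem D1109 : act 3 n793 = n1109 := rfl
theorem F1831 : act 1 n1109 = n799 := d6_1 D1109 (iv D799) (iv F1329)
theorem F1832 : act 4 n1109 = n919 := d12_2 D793 D1109 (iv D919) (iv D651) (iv F940)
def n1110 : Q := act 2 n794
theorem D1110 : act 2 n794 = n1110 := rfl
theorem F1833 : act 0 n1110 = n815 := d1_1 D1110 (iv D815) (iv F1330)
theorem F1834 : act 4 n1110 = n796 := d10_2 (iv F1331) D1110 (iv D796)
def n1111 : Q := act 5 n794
theorem D1111 : act 5 n794 = n1111 := rfl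
theorem F1835 : act 0 n1111 = n816 := d4_1 D1111 (iv D816) (iv F1330)
theorem F1836 : act 3 n1111 = n795 := d13_1 D1111 (iv D795) D794
def n1112 : Q := act 1 n796
theorem D1112 : act 1 n796 = n1112 := rfl
theorem F1837 : act 3 n1112 = n861 := d6_2 (iv F1336) D1112 F1436
theorem F1838 : act 5 n1112 = n860 := d8_2 F1337 D1112 F1435
def n1113 : Q := act 4 n797
theorem D1113 : act 4 n797 = n1113 := rfl
theorem F1839 : act 0 n1113 = n822 := d3_1 D1113 (iv D822) (iv F1338)
theorem F1840 : act 2 n1113 = n862 := d10_1 D1113 (iv D862) (iv F1339)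
def n1114 : Q := act 3 n798
theorem D1114 : act 3 n798 = n1114 := rfl
theorem F1841 : act 0 n1114 = n823 := d2_1 D1114 (iv D823) (iv F1341)
theorem F1842 : act 5 n1114 = n799 := d13_2 (iv F1343) D1114 (iv D799)
def n1115 : Q := act 2 n799
theorem D1115 : act 2 n799 = n1115 := rfl
theorem F1843 : act 0 n1115 = n824 := d1_1 D1115 (iv D824) (iv F1344)
theorem F1844 : act 4 n1115 = n921 := d10_2 (iv F1345) D1115 (iv D921)
def n1116 : Q := act 2 n800
theorem D1116 : act 2 n800 = n1116 := rfl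
theorem F1845 : act 0 n1116 = n825 := d1_1 D1116 (iv D825) (iv F1346)
theorem F1846 : act 4 n1116 = n847 := d10_2 (iv F1347) D1116 (iv D847)
theorem F1847 : act 5 n1116 = n801 := d11_2 (iv F1348) D1116 (iv D801)
def n1117 : Q := act 1 n801
theorem D1117 : act 1 n801 = n1117 := rfl
theorem F1848 : act 4 n1117 = n802 := d7_2 (iv F1350) D1117 (iv D802)
def n1118 : Q := act 3 n801
theorem D1118 : act 3 n801 = n1118 := rfl
theorem F1849 : act 0 n1118 = n827 := d2_1 D1118 (iv D827) (iv F1349)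
theorem F1850 : act 4 n1118 = n924 := d12_2 (iv F1350) D1118 (iv D924) F1085 (iv F954)
def n1119 : Q := act 0 n802
theorem D1119 : act 0 n802 = n1119 := rfl
theorem F1851 : act 1 n1119 = n828 := d0_2 D802 D1119 (iv D828) (iv D581) (iv F952)
theorem F1852 : act 3 n1119 = n927 := d2_2 (iv F1351) D1119 (iv D927)
theorem F1853 : act 5 n1119 = n850 := d4_2 (iv F1352) D1119 (iv D850)
def n1120 : Q := act 3 n803
theorem D1120 : act 3 n803 = n1120 := rfl
theorem F1854 : act 0 n1120 = n808 := d2_1 D1120 (iv D808) (iv F1353)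
theorem F1855 : act 4 n1120 = n804 := d12_2 D803 D1120 (iv D804) (iv D565) D564
def n1121 : Q := act 5 n803
theorem D1121 : act 5 n803 = n1121 := rfl
theorem F1856 : act 0 n1121 = n809 := d4_1 D1121 (iv D809) (iv F1353)
def n1122 : Q := act 2 n804
theorem D1122 : act 2 n804 = n1122 := rfl
theorem F1857 : act 0 n1122 = n810 := d1_1 D1122 (iv D810) (iv F1354)
def n1123 : Q := act 5 n804
theorem D1123 : act 5 n804 = n1123 := rfl
theorem F1858 : act 0 n1123 = n811 := d4_1 D1123 (iv D811) (iv F1354)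
theorem F1859 : act 3 n1123 = n805 := d13_1 D1123 (iv D805) D804
def n1124 : Q := act 4 n806
theorem D1124 : act 4 n806 = n1124 := rfl
theorem F1860 : act 0 n1124 = n906 := d3_1 D1124 (iv D906) F1359
theorem F1861 : act 1 n1124 = n807 := d7_1 D1124 (iv D807) D806
theorem F1862 : act 2 n1124 = n812 := d10_1 D1124 (iv D812) (iv F1357)
def n1125 : Q := act 3 n807
theorem D1125 : act 3 n807 = n1125 := rfl
def n1126 : Q := act 5 n807
theorem D1126 : act 5 n807 = n1126 := rfl
theorem F1863 : act 2 n1126 = n809 := d11_1 D1126 (iv D809) (iv F1360)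
def n1127 : Q := act 2 n808
theorem D1127 : act 2 n808 = n1127 := rfl
theorem F1864 : act 4 n1127 = n810 := d10_2 (iv F1362) D1127 (iv D810)
def n1128 : Q := act 5 n808
theorem D1128 : act 5 n808 = n1128 := rfl
theorem F1865 : act 1 n1128 = n816 := d8_1 D1128 (iv D816) (iv F1361)
theorem F1866 : act 3 n1128 = n809 := d13_1 D1128 (iv D809) D808
def n1129 : Q := act 1 n810
theorem D1129 : act 1 n810 = n1129 := rfl
theorem F1867 : act 2 n1129 = n819 := d5_2 D810 D1129 (iv D819) (iv D575) (iv F959)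
def n1130 : Q := act 3 n810
theorem D1130 : act 3 n810 = n1130 := rfl
def n1131 : Q := act 5 n810
theorem D1131 : act 5 n810 = n1131 := rfl
theorem F1868 : act 2 n1131 = n811 := d11_1 D1131 (iv D811) D810
def n1132 : Q := act 4 n811
theorem D1132 : act 4 n811 = n1132 := rfl
theorem F1869 : act 1 n1132 = n822 := d7_1 D1132 (iv D822) (iv F1364)
def n1133 : Q := act 3 n812
theorem D1133 : act 3 n812 = n1133 := rfl
theorem F1870 : act 0 n1133 = n907 := d2_1 D1133 (iv D907) (iv F1366)
theorem F1871 : act 1 n1133 = n813 := d6_1 D1133 (iv D813) (iv F1367)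
theorem F1872 : act 4 n1133 = n903 := d12_2 D812 D1133 (iv D903) (iv D637) (iv F963)
def n1134 : Q := act 5 n812
theorem D1134 : act 5 n812 = n1134 := rfl
theorem F1873 : act 0 n1134 = n908 := d4_1 D1134 (iv D908) (iv F1366)
theorem F1874 : act 1 n1134 = n814 := d8_1 D1134 (iv D814) (iv F1367)
theorem F1875 : act 4 n1134 = n908 := d14_1 D1134 (iv D908) (iv D639) (iv F964) D812
def n1135 : Q := act 2 n813
theorem D1135 : act 2 n813 = n1135 := rfl
theorem F1876 : act 0 n1135 = n913 := d1_1 D1135 (iv D913) (iv F1368)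
theorem F1877 : act 4 n1135 = n912 := d10_2 (iv F1369) D1135 (iv D912)
def n1136 : Q := act 5 n813
theorem D1136 : act 5 n813 = n1136 := rfl
theorem F1878 : act 0 n1136 = n914 := d4_1 D1136 (iv D914) (iv F1368)
theorem F1879 : act 3 n1136 = n814 := d13_1 D1136 (iv D814) D813
def n1137 : Q := act 1 n815
theorem D1137 : act 1 n815 = n1137 := rfl
theorem F1880 : act 4 n1137 = n819 := d7_2 (iv F1373) D1137 (iv D819)
def n1138 : Q := act 3 n815
theorem D1138 : act 3 n815 = n1138 := rfl
def n1139 : Q := act 5 n815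
theorem D1139 : act 5 n815 = n1139 := rfl
theorem F1881 : act 2 n1139 = n816 := d11_1 D1139 (iv D816) D815
def n1140 : Q := act 4 n816
theorem D1140 : act 4 n816 = n1140 := rfl
theorem F1882 : act 5 n1140 = n822 := d14_2 D816 D1140 (iv D822) (iv D576) (iv F967)
def n1141 : Q := act 3 n817
theorem D1141 : act 3 n817 = n1141 := rfl
theorem F1883 : act 0 n1141 = n922 := d2_1 D1141 F1522 (iv F1375)
theorem F1884 : act 5 n1141 = n818 := d13_2 (iv F1377) D1141 (iv D818)
def n1142 : Q := act 2 n818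
theorem D1142 : act 2 n818 = n1142 := rfl
theorem F1885 : act 0 n1142 = n921 := d1_1 D1142 (iv D921) (iv F1378)
theorem F1886 : act 4 n1142 = n824 := d10_2 (iv F1379) D1142 (iv D824)
def n1143 : Q := act 0 n819
theorem D1143 : act 0 n819 = n1143 := rfl
def n1144 : Q := act 3 n819
theorem D1144 : act 3 n819 = n1144 := rfl
theorem F1887 : act 1 n1144 = n820 := d6_1 D1144 (iv D820) D819
theorem F1888 : act 5 n843 = n1144 := d8_0 F1887 F1382 D843
def n1145 : Q := act 5 n819
theorem D1145 : act 5 n819 = n1145 := rfl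
theorem F1889 : act 1 n1145 = n821 := d8_1 D1145 (iv D821) D819
theorem F1890 : act 3 n1145 = n843 := d13_1 D1145 F1888 (iv D1144)
def n1146 : Q := act 4 n820
theorem D1146 : act 4 n820 = n1146 := rfl
theorem F1891 : act 0 n1146 = n863 := d3_1 D1146 (iv D863) (iv F1380)
theorem F1892 : act 2 n1146 = n844 := d10_1 D1146 (iv D844) (iv F1381)
theorem F1893 : act 5 n1146 = n863 := d14_2 (iv F1382) D1146 (iv D863) (iv D609) (iv F997)
def n1147 : Q := act 4 n821
theorem D1147 : act 4 n821 = n1147 := rfl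
theorem F1894 : act 0 n1147 = n862 := d3_1 D1147 (iv D862) (iv F1383)
theorem F1895 : act 2 n1147 = n822 := d10_1 D1147 (iv D822) (iv F1384)
theorem F1896 : act 3 n1147 = n862 := d12_1 D1147 (iv D862) (iv D608) (iv F997) (iv F1385)
def n1148 : Q := act 3 n822
theorem D1148 : act 3 n822 = n1148 := rfl
theorem F1897 : act 4 n1148 = n823 := d12_2 D822 D1148 (iv D823) (iv D577) (iv F970)
def n1149 : Q := act 2 n823
theorem D1149 : act 2 n823 = n1149 := rfl
theorem F1898 : act 5 n1149 = n824 := d11_2 (iv F1386) D1149 (iv D824)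
def n1150 : Q := act 1 n824
theorem D1150 : act 1 n824 = n1150 := rfl
def n1151 : Q := act 3 n824
theorem D1151 : act 3 n824 = n1151 := rfl
def n1152 : Q := act 1 n825
theorem D1152 : act 1 n825 = n1152 := rfl
theorem F1899 : act 2 n1152 = n838 := d5_2 D825 D1152 (iv D838) (iv D589) (iv F973)
theorem F1900 : act 4 n1152 = n868 := d7_2 (iv F1387) D1152 (iv D868)
theorem F1901 : act 5 n1152 = n826 := d8_2 (iv F1388) D1152 (iv D826)
def n1153 : Q := act 3 n825
theorem D1153 : act 3 n825 = n1153 := rfl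
theorem F1902 : act 5 n1153 = n827 := d13_2 (iv F1388) D1153 (iv D827)
def n1154 : Q := act 0 n826
theorem D1154 : act 0 n826 = n1154 := rfl
theorem F1903 : act 2 n1154 = n839 := d1_2 (iv F1389) D1154 (iv D839)
theorem F1904 : act 4 n1154 = n828 := d3_2 (iv F1390) D1154 (iv D828)
def n1155 : Q := act 3 n826
theorem D1155 : act 3 n826 = n1155 := rfl
theorem F1905 : act 1 n1155 = n827 := d6_1 D1155 (iv D827) D826
def n1156 : Q := act 2 n827
theorem D1156 : act 2 n827 = n1156 := rfl
def n1157 : Q := act 4 n827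
theorem D1157 : act 4 n827 = n1157 := rfl
theorem F1906 : act 0 n1157 = n924 := d3_1 D1157 (iv F1850) F1849
theorem F1907 : act 3 n1157 = n830 := d12_1 D1157 (iv D830) (iv D582) (iv F976) D827
def n1158 : Q := act 3 n828
theorem D1158 : act 3 n828 = n1158 := rfl
theorem F1908 : act 0 n1158 = n829 := d2_1 D1158 (iv D829) D828
theorem F1909 : act 1 n1158 = n927 := d6_1 D1158 (iv F1852) F1851
theorem F1910 : act 5 n1158 = n874 := d13_2 (iv F1392) D1158 (iv D874)
def n1159 : Q := act 2 n829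
theorem D1159 : act 2 n829 = n1159 := rfl
theorem F1911 : act 1 n1159 = n909 := d5_1 D1159 (iv D909) F1067 (iv F981) (iv F1393)
theorem F1912 : act 5 n1159 = n875 := d11_2 (iv F1394) D1159 (iv D875)
def n1160 : Q := act 4 n829
theorem D1160 : act 4 n829 = n1160 := rfl
theorem F1913 : act 1 n1160 = n830 := d7_1 D1160 (iv D830) (iv F1393)
def n1161 : Q := act 5 n830
theorem D1161 : act 5 n830 = n1161 := rfl
theorem F1914 : act 0 n1161 = n925 := d4_1 D1161 (iv D925) (iv F1395)
theorem F1915 : act 2 n1161 = n910 := d11_1 D1161 (iv D910) (iv F1396)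
theorem F1916 : act 4 n1161 = n879 := d14_1 D1161 (iv D879) (iv D619) (iv F980) D830
def n1162 : Q := act 1 n831
theorem D1162 : act 1 n831 = n1162 := rfl
def n1163 : Q := act 3 n831
theorem D1163 : act 3 n831 = n1163 := rfl
theorem F1917 : act 0 n1163 = n834 := d2_1 D1163 (iv D834) (iv F1397)
def n1164 : Q := act 5 n831
theorem D1164 : act 5 n831 = n1164 := rfl
theorem F1918 : act 0 n1164 = n835 := d4_1 D1164 (iv D835) (iv F1397)
theorem F1919 : act 2 n1164 = n832 := d11_1 D1164 (iv D832) D831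
def n1165 : Q := act 4 n832
theorem D1165 : act 4 n832 = n1165 := rfl
theorem F1920 : act 0 n1165 = n836 := d3_1 D1165 (iv D836) (iv F1398)
def n1166 : Q := act 0 n833
theorem D1166 : act 0 n833 = n1166 := rfl
theorem F1921 : act 2 n1166 = n837 := d1_2 (iv F1400) D1166 (iv D837)
def n1167 : Q := act 3 n833
theorem D1167 : act 3 n833 = n1167 := rfl
theorem F1922 : act 1 n1167 = n834 := d6_1 D1167 (iv D834) D833
def n1168 : Q := act 2 n834
theorem D1168 : act 2 n834 = n1168 := rfl
def n1169 : Q := act 4 n834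
theorem D1169 : act 4 n834 = n1169 := rfl
def n1170 : Q := act 5 n834
theorem D1170 : act 5 n834 = n1170 := rfl
theorem F1923 : act 3 n1170 = n835 := d13_1 D1170 (iv D835) D834
def n1171 : Q := act 4 n835
theorem D1171 : act 4 n835 = n1171 := rfl
theorem F1924 : act 2 n1171 = n836 := d10_1 D1171 (iv D836) (iv F1401)
def n1172 : Q := act 0 n838
theorem D1172 : act 0 n838 = n1172 := rfl
theorem F1925 : act 4 n1172 = n895 := d3_2 (iv F1403) D1172 (iv D895)
theorem F1926 : act 5 n1172 = n839 := d4_2 (iv F1404) D1172 (iv D839)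
def n1173 : Q := act 3 n839
theorem D1173 : act 3 n839 = n1173 := rfl
theorem F1927 : act 0 n1173 = n840 := d2_1 D1173 (iv D840) D839
theorem F1928 : act 4 n1173 = n891 := d12_2 (iv F1405) D1173 (iv D891) F1042 (iv F990)
def n1174 : Q := act 2 n840
theorem D1174 : act 2 n840 = n1174 := rfl
theorem F1929 : act 4 n1174 = n893 := d10_2 (iv F1407) D1174 (iv D893)
def n1175 : Q := act 1 n841
theorem D1175 : act 1 n841 = n1175 := rfl
theorem F1930 : act 2 n1175 = n843 := d5_2 D841 D1175 (iv D843) (iv D595) (iv F992)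
theorem F1931 : act 4 n1175 = n855 := d7_2 (iv F1408) D1175 (iv D855)
def n1176 : Q := act 3 n841
theorem D1176 : act 3 n841 = n1176 := rfl
def n1177 : Q := act 5 n841
theorem D1177 : act 5 n841 = n1177 := rfl
theorem F1932 : act 2 n1177 = n842 := d11_1 D1177 (iv D842) D841
def n1178 : Q := act 4 n842
theorem D1178 : act 4 n842 = n1178 := rfl
theorem F1933 : act 1 n1178 = n844 := d7_1 D1178 (iv D844) (iv F1409)
theorem F1934 : act 3 n1178 = n1040 := d12_1 D1178 (iv D1040) F1258 (iv F995) (iv F1410)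
theorem F1935 : act 5 n1178 = n858 := d14_2 D842 D1178 (iv D858) (iv D606) (iv F993)
def n1179 : Q := act 0 n843
theorem D1179 : act 0 n843 = n1179 := rfl
theorem F1936 : act 1 n1179 = n859 := d0_2 D843 D1179 (iv D859) (iv D607) (iv F996)
theorem F1937 : act 4 n1179 = n859 := d3_2 (iv F1411) D1179 (iv D859)
def n1180 : Q := act 3 n844
theorem D1180 : act 3 n844 = n1180 := rfl
theorem F1938 : act 0 n1180 = n864 := d2_1 D1180 (iv D864) (iv F1412)
theorem F1939 : act 1 n1180 = n1040 := d6_1 D1180 (iv F1934) F1933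
theorem F1940 : act 4 n1180 = n845 := d12_2 D844 D1180 (iv D845) (iv D597) (iv F999)
theorem F1941 : act 5 n1180 = n864 := d13_2 (iv F1413) D1180 (iv D864)
def n1181 : Q := act 2 n845
theorem D1181 : act 2 n845 = n1181 := rfl
theorem F1942 : act 0 n1181 = n865 := d1_1 D1181 (iv D865) (iv F1414)
theorem F1943 : act 5 n1181 = n846 := d11_2 (iv F1416) D1181 (iv D846)
theorem F1944 : act 3 n1181 = n872 := d15_1 D1181 (iv D872) (iv D615) (iv D426) (iv D293) (iv F508) D424 (iv F1022) (iv F1414)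
def n1182 : Q := act 1 n846
theorem D1182 : act 1 n846 = n1182 := rfl
theorem F1945 : act 2 n1182 = n1037 := d5_2 D846 D1182 (iv D1037) (iv D743) (iv F1005)
theorem F1946 : act 4 n1182 = n866 := d7_2 (iv F1418) D1182 (iv D866)
def n1183 : Q := act 3 n846
theorem D1183 : act 3 n846 = n1183 := rfl
theorem F1947 : act 0 n1183 = n867 := d2_1 D1183 (iv D867) (iv F1417)
theorem F1948 : act 5 n1183 = n872 := d13_2 F1943 D1183 (iv F1944)
theorem F1949 : act 2 n1183 = n869 := d15_2 D846 D1183 (iv D869) (iv D613) (iv D425) (iv F723) D611 F1022 (iv F1004)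
def n1184 : Q := act 1 n847
theorem D1184 : act 1 n847 = n1184 := rfl
theorem F1950 : act 5 n1184 = n848 := d8_2 (iv F1420) D1184 (iv D848)
def n1185 : Q := act 3 n847
theorem D1185 : act 3 n847 = n1185 := rfl
theorem F1951 : act 0 n1185 = n869 := d2_1 D1185 (iv D869) (iv F1419)
theorem F1952 : act 2 n1185 = n867 := d9_1 D1185 (iv D867) (iv D612) (iv D424) F508 D293 D426 D615 D872 (iv F1944) (iv D1181) (iv D845) F1002 D599 D847
theorem F1953 : act 5 n1185 = n849 := d13_2 (iv F1420) D1185 (iv D849)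
def n1186 : Q := act 0 n848
theorem D1186 : act 0 n848 = n1186 := rfl
theorem F1954 : act 1 n1186 = n870 := d0_2 D848 D1186 (iv D870) (iv D614) (iv F1009)
theorem F1955 : act 4 n1186 = n850 := d3_2 (iv F1421) D1186 (iv D850)
def n1187 : Q := act 3 n848
theorem D1187 : act 3 n848 = n1187 := rfl
theorem F1956 : act 1 n1187 = n849 := d6_1 D1187 (iv D849) D848
def n1188 : Q := act 2 n849
theorem D1188 : act 2 n849 = n1188 := rfl
theorem F1957 : act 0 n1188 = n872 := d1_1 D1188 (iv D872) (iv F1422)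
theorem F1958 : act 3 n1188 = n865 := d9_2 D849 D1188 (iv D865) (iv D611) F723 D425 D613 D869 (iv F1949) (iv D1183) (iv D846) (iv D598) F709 D416 D600
theorem F1959 : act 5 n1188 = n867 := d11_2 F1953 D1188 (iv F1952)
def n1189 : Q := act 4 n849
theorem D1189 : act 4 n849 = n1189 := rfl
theorem F1960 : act 0 n1189 = n873 := d3_1 D1189 (iv D873) (iv F1422)
theorem F1961 : act 3 n1189 = n852 := d12_1 D1189 (iv D852) (iv D602) (iv F1010) D849
def n1190 : Q := act 3 n850
theorem D1190 : act 3 n850 = n1190 := rfl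
theorem F1962 : act 0 n1190 = n851 := d2_1 D1190 (iv D851) D850
theorem F1963 : act 1 n1190 = n874 := d6_1 D1190 (iv D874) (iv F1423)
theorem F1964 : act 5 n1190 = n927 := d13_2 F1853 D1190 (iv F1852)
def n1191 : Q := act 2 n851
theorem D1191 : act 2 n851 = n1191 := rfl
theorem F1965 : act 1 n1191 = n916 := d5_1 D1191 F1516 F1081 (iv F1012) (iv F1424)
theorem F1966 : act 5 n1191 = n915 := d11_2 (iv F1425) D1191 F1515
def n1192 : Q := act 4 n851
theorem D1192 : act 4 n851 = n1192 := rfl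
theorem F1967 : act 1 n1192 = n852 := d7_1 D1192 (iv D852) (iv F1424)
def n1193 : Q := act 5 n852
theorem D1193 : act 5 n852 = n1193 := rfl
theorem F1968 : act 0 n1193 = n879 := d4_1 D1193 (iv D879) (iv F1426)
theorem F1969 : act 2 n1193 = n926 := d11_1 D1193 F1525 (iv F1427)
theorem F1970 : act 4 n1193 = n925 := d14_1 D1193 (iv D925) F1085 (iv F1013) D852
def n1194 : Q := act 1 n853
theorem D1194 : act 1 n853 = n1194 := rfl
def n1195 : Q := act 3 n853
theorem D1195 : act 3 n853 = n1195 := rfl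
theorem F1971 : act 0 n1195 = n856 := d2_1 D1195 (iv D856) (iv F1428)
theorem F1972 : act 2 n1195 = n889 := d15_2 D853 D1195 F1470 F1038 F738 (iv F719) (iv F1019) (iv D606) (iv F1014)
theorem F1973 : act 5 n887 = n1195 := d11_0 F1972 (iv D889) D887
def n1196 : Q := act 5 n853
theorem D1196 : act 5 n853 = n1196 := rfl
theorem F1974 : act 0 n1196 = n857 := d4_1 D1196 (iv D857) (iv F1428)
theorem F1975 : act 2 n1196 = n854 := d11_1 D1196 (iv D854) D853
theorem F1976 : act 3 n1196 = n887 := d13_1 D1196 F1973 (iv D1195)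
def n1197 : Q := act 4 n854
theorem D1197 : act 4 n854 = n1197 := rfl
theorem F1977 : act 0 n1197 = n858 := d3_1 D1197 (iv D858) (iv F1429)
theorem F1978 : act 3 n1197 = n1031 := d12_1 D1197 (iv D1031) F1246 (iv F1017) (iv F1430)
def n1198 : Q := act 0 n855
theorem D1198 : act 0 n855 = n1198 := rfl
theorem F1979 : act 2 n1198 = n859 := d1_2 (iv F1431) D1198 (iv D859)
def n1199 : Q := act 3 n855
theorem D1199 : act 3 n855 = n1199 := rfl
theorem F1980 : act 1 n1199 = n856 := d6_1 D1199 (iv D856) D855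
def n1200 : Q := act 5 n855
theorem D1200 : act 5 n855 = n1200 := rfl
theorem F1981 : act 1 n1200 = n857 := d8_1 D1200 (iv D857) D855
theorem F1982 : act 2 n1200 = n861 := d11_1 D1200 (iv D861) (iv F1431)
def n1201 : Q := act 2 n856
theorem D1201 : act 2 n856 = n1201 := rfl
theorem F1983 : act 0 n1201 = n889 := d1_1 D1201 (iv F1972) F1971
theorem F1984 : act 3 n1201 = n882 := d9_2 D856 D1201 F1459 F1035 (iv F1016) (iv F1430) (iv F1975) F1976 (iv D887) (iv D623) (iv D431) (iv D296) (iv F505) D419 D605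
theorem F1985 : act 5 n881 = n1201 := d13_0 F1984 (iv D882) D881
def n1202 : Q := act 4 n856
theorem D1202 : act 4 n856 = n1202 := rfl
def n1203 : Q := act 5 n856
theorem D1203 : act 5 n856 = n1203 := rfl
theorem F1986 : act 0 n1203 = n887 := d4_1 D1203 F1973 F1971
theorem F1987 : act 2 n1203 = n881 := d11_1 D1203 F1985 (iv D1201)
theorem F1988 : act 3 n1203 = n857 := d13_1 D1203 (iv D857) D856
def n1204 : Q := act 4 n857
theorem D1204 : act 4 n857 = n1204 := rfl
theorem F1989 : act 2 n1204 = n858 := d10_1 D1204 (iv D858) (iv F1432)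
def n1205 : Q := act 3 n859
theorem D1205 : act 3 n859 = n1205 := rfl
theorem F1990 : act 0 n1205 = n860 := d2_1 D1205 (iv D860) D859
def n1206 : Q := act 5 n859
theorem D1206 : act 5 n859 = n1206 := rfl
theorem F1991 : act 0 n1206 = n861 := d4_1 D1206 (iv D861) D859
def n1207 : Q := act 2 n860
theorem D1207 : act 2 n860 = n1207 := rfl
def n1208 : Q := act 4 n860
theorem D1208 : act 4 n860 = n1208 := rfl
theorem F1992 : act 1 n1208 = n862 := d7_1 D1208 (iv D862) (iv F1435)
def n1209 : Q := act 4 n861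
theorem D1209 : act 4 n861 = n1209 := rfl
theorem F1993 : act 1 n1209 = n863 := d7_1 D1209 (iv D863) (iv F1436)
def n1210 : Q := act 5 n862
theorem D1210 : act 5 n862 = n1210 := rfl
def n1211 : Q := act 3 n863
theorem D1211 : act 3 n863 = n1211 := rfl
def n1212 : Q := act 2 n864
theorem D1212 : act 2 n864 = n1212 := rfl
theorem F1994 : act 4 n1212 = n865 := d10_2 (iv F1439) D1212 (iv D865)
def n1213 : Q := act 1 n865
theorem D1213 : act 1 n865 = n1213 := rfl
theorem F1995 : act 2 n1213 = n1043 := d5_2 D865 D1213 F1730 F1259 (iv F1021)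
theorem F1996 : act 5 n1213 = n866 := d8_2 (iv F1440) D1213 (iv D866)
def n1214 : Q := act 0 n866
theorem D1214 : act 0 n866 = n1214 := rfl
theorem F1997 : act 2 n1214 = n1041 := d1_2 (iv F1441) D1214 (iv D1041)
def n1215 : Q := act 3 n866
theorem D1215 : act 3 n866 = n1215 := rfl
theorem F1998 : act 1 n1215 = n867 := d6_1 D1215 (iv D867) D866
def n1216 : Q := act 4 n867
theorem D1216 : act 4 n867 = n1216 := rfl
def n1217 : Q := act 0 n868
theorem D1217 : act 0 n868 = n1217 := rfl
theorem F1999 : act 2 n1217 = n895 := d1_2 (iv F1442) D1217 (iv D895)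
theorem F2000 : act 5 n1217 = n870 := d4_2 (iv F1443) D1217 (iv D870)
def n1218 : Q := act 3 n868
theorem D1218 : act 3 n868 = n1218 := rfl
theorem F2001 : act 1 n1218 = n869 := d6_1 D1218 (iv D869) D868
theorem F2002 : act 5 n1218 = n871 := d13_2 (iv F1443) D1218 (iv D871)
def n1219 : Q := act 4 n869
theorem D1219 : act 4 n869 = n1219 := rfl
def n1220 : Q := act 3 n870
theorem D1220 : act 3 n870 = n1220 := rfl
theorem F2003 : act 0 n1220 = n871 := d2_1 D1220 (iv D871) D870
def n1221 : Q := act 2 n871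
theorem D1221 : act 2 n871 = n1221 := rfl
def n1222 : Q := act 4 n871
theorem D1222 : act 4 n871 = n1222 := rfl
theorem F2004 : act 1 n1222 = n873 := d7_1 D1222 (iv D873) (iv F1447)
theorem F2005 : act 3 n1222 = n876 := d12_1 D1222 (iv D876) (iv D617) (iv F1025) D871
def n1223 : Q := act 1 n872
theorem D1223 : act 1 n872 = n1223 := rfl
def n1224 : Q := act 4 n872
theorem D1224 : act 4 n872 = n1224 := rfl
theorem F2006 : act 2 n1224 = n873 := d10_1 D1224 (iv D873) D872
def n1225 : Q := act 5 n873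
theorem D1225 : act 5 n873 = n1225 := rfl
theorem F2007 : act 3 n1225 = n879 := d13_1 D1225 (iv D879) (iv F1448)
def n1226 : Q := act 2 n874
theorem D1226 : act 2 n874 = n1226 := rfl
theorem F2008 : act 0 n1226 = n875 := d1_1 D1226 (iv D875) (iv F1449)
theorem F2009 : act 3 n1226 = n1047 := d15_1 D1226 (iv D1047) (iv D750) F898 (iv F700) (iv F977) D829 F1394 (iv F1449)
def n1227 : Q := act 4 n874
theorem D1227 : act 4 n874 = n1227 := rfl
theorem F2010 : act 0 n1227 = n876 := d3_1 D1227 (iv D876) (iv F1449)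
def n1228 : Q := act 1 n875
theorem D1228 : act 1 n875 = n1228 := rfl
theorem F2011 : act 2 n1228 = n877 := d5_2 D875 D1228 (iv D877) (iv D618) (iv F1027)
theorem F2012 : act 5 n1228 = n909 := d8_2 F1912 D1228 (iv F1911)
def n1229 : Q := act 3 n875
theorem D1229 : act 3 n875 = n1229 := rfl
theorem F2013 : act 0 n1229 = n1047 := d2_1 D1229 (iv F2009) F2008
theorem F2014 : act 2 n1229 = n1046 := d15_2 D875 D1229 (iv D1046) F1260 (iv F990) (iv F1391) D1158 F1910 F1449
def n1230 : Q := act 4 n875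
theorem D1230 : act 4 n875 = n1230 := rfl
theorem F2015 : act 2 n1230 = n876 := d10_1 D1230 (iv D876) D875
def n1231 : Q := act 5 n876
theorem D1231 : act 5 n876 = n1231 := rfl
theorem F2016 : act 1 n1231 = n879 := d8_1 D1231 (iv D879) (iv F1450)
def n1232 : Q := act 0 n877
theorem D1232 : act 0 n877 = n1232 := rfl
theorem F2017 : act 1 n1232 = n911 := d0_2 D877 D1232 F1508 F1081 (iv F1028)
theorem F2018 : act 3 n1232 = n904 := d2_2 (iv F1451) D1232 F1497
theorem F2019 : act 5 n1232 = n903 := d4_2 (iv F1452) D1232 F1495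
def n1233 : Q := act 4 n877
theorem D1233 : act 4 n877 = n1233 := rfl
theorem F2020 : act 1 n1233 = n878 := d7_1 D1233 (iv D878) D877
def n1234 : Q := act 3 n878
theorem D1234 : act 3 n878 = n1234 := rfl
theorem F2021 : act 0 n1234 = n917 := d2_1 D1234 F1518 (iv F1453)
theorem F2022 : act 4 n1234 = n911 := d12_2 D878 D1234 (iv D911) (iv D644) (iv F1029)
def n1235 : Q := act 5 n878
theorem D1235 : act 5 n878 = n1235 := rfl
theorem F2023 : act 0 n1235 = n926 := d4_1 D1235 F1525 (iv F1453)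
theorem F2024 : act 2 n1235 = n879 := d11_1 D1235 (iv D879) (iv F1454)
theorem F2025 : act 4 n1235 = n910 := d14_1 D1235 (iv D910) F1071 (iv F1030) D878
def n1236 : Q := act 0 n880
theorem D1236 : act 0 n880 = n1236 := rfl
theorem F2026 : act 1 n1236 = n884 := d0_2 D880 D1236 (iv D884) (iv D622) (iv F1031)
theorem F2027 : act 2 n1236 = n1186 := d1_2 (iv F1455) D1236 (iv D1186)
theorem F2028 : act 4 n1236 = n1032 := d3_2 (iv F1456) D1236 (iv D1032)
def n1237 : Q := act 3 n880
theorem D1237 : act 3 n880 = n1237 := rfl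
theorem F2029 : act 1 n1237 = n881 := d6_1 D1237 (iv D881) D880
def n1238 : Q := act 5 n880
theorem D1238 : act 5 n880 = n1238 := rfl
theorem F2030 : act 1 n1238 = n882 := d8_1 D1238 (iv D882) D880
theorem F2031 : act 2 n1238 = n1184 := d11_1 D1238 F1950 (iv F1455)
def n1239 : Q := act 4 n881
theorem D1239 : act 4 n881 = n1239 := rfl
theorem F2032 : act 0 n1239 = n888 := d3_1 D1239 (iv D888) (iv F1457)
theorem F2033 : act 3 n1239 = n1034 := d12_1 D1239 (iv D1034) (iv D740) (iv F1032) D881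
def n1240 : Q := act 4 n882
theorem D1240 : act 4 n882 = n1240 := rfl
theorem F2034 : act 0 n1240 = n890 := d3_1 D1240 (iv D890) (iv F1458)
theorem F2035 : act 2 n1240 = n883 := d10_1 D1240 (iv D883) (iv F1459)
theorem F2036 : act 5 n1240 = n998 := d14_2 D882 D1240 F1659 F1200 (iv F1032)
def n1241 : Q := act 3 n884
theorem D1241 : act 3 n884 = n1241 := rfl
theorem F2037 : act 0 n1241 = n885 := d2_1 D1241 (iv D885) D884
def n1242 : Q := act 5 n884
theorem D1242 : act 5 n884 = n1242 := rfl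
theorem F2038 : act 0 n1242 = n886 := d4_1 D1242 (iv D886) D884
theorem F2039 : act 2 n1242 = n892 := d11_1 D1242 (iv D892) (iv F1464)
def n1243 : Q := act 2 n885
theorem D1243 : act 2 n885 = n1243 := rfl
def n1244 : Q := act 4 n885
theorem D1244 : act 4 n885 = n1244 := rfl
theorem F2040 : act 1 n1244 = n888 := d7_1 D1244 (iv D888) (iv F1466)
theorem F2041 : act 3 n1244 = n1048 := d12_1 D1244 (iv D1048) (iv D750) (iv F1037) D885
def n1245 : Q := act 5 n885
theorem D1245 : act 5 n885 = n1245 := rfl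
theorem F2042 : act 1 n1245 = n889 := d8_1 D1245 (iv D889) (iv F1466)
theorem F2043 : act 3 n1245 = n886 := d13_1 D1245 (iv D886) D885
def n1246 : Q := act 4 n886
theorem D1246 : act 4 n886 = n1246 := rfl
theorem F2044 : act 1 n1246 = n890 := d7_1 D1246 (iv D890) (iv F1467)
theorem F2045 : act 2 n1246 = n894 := d10_1 D1246 (iv D894) (iv F1468)
theorem F2046 : act 5 n1246 = n902 := d14_2 D886 D1246 (iv D902) F1061 (iv F1037)
def n1247 : Q := act 1 n887
theorem D1247 : act 1 n887 = n1247 := rfl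
def n1248 : Q := act 4 n887
theorem D1248 : act 4 n887 = n1248 := rfl
theorem F2047 : act 2 n1248 = n888 := d10_1 D1248 (iv D888) D887
def n1249 : Q := act 5 n888
theorem D1249 : act 5 n888 = n1249 := rfl
theorem F2048 : act 3 n1249 = n1051 := d13_1 D1249 (iv D1051) (iv F1469)
def n1250 : Q := act 4 n889
theorem D1250 : act 4 n889 = n1250 := rfl
def n1251 : Q := act 3 n890
theorem D1251 : act 3 n890 = n1251 := rfl
theorem F2049 : act 5 n1251 = n1019 := d13_2 (iv F1472) D1251 (iv D1019)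
def n1252 : Q := act 2 n891
theorem D1252 : act 2 n891 = n1252 := rfl
theorem F2050 : act 0 n1252 = n893 := d1_1 D1252 (iv D893) (iv F1473)
def n1253 : Q := act 4 n892
theorem D1253 : act 4 n892 = n1253 := rfl
theorem F2051 : act 0 n1253 = n894 := d3_1 D1253 (iv D894) (iv F1474)
theorem F2052 : act 1 n1253 = n1172 := d7_1 D1253 F1925 F1477
theorem F2053 : act 5 n1253 = n900 := d14_2 D892 D1253 (iv D900) F1059 (iv F1042)
def n1254 : Q := act 3 n893
theorem D1254 : act 3 n893 = n1254 := rfl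
def n1255 : Q := act 2 n896
theorem D1255 : act 2 n896 = n1255 := rfl
theorem F2054 : act 0 n1255 = n897 := d1_1 D1255 (iv D897) (iv F1480)
theorem F2055 : act 5 n1255 = n1166 := d11_2 (iv F1482) D1255 F1921
def n1256 : Q := act 4 n896
theorem D1256 : act 4 n896 = n1256 := rfl
theorem F2056 : act 0 n1256 = n898 := d3_1 D1256 (iv D898) (iv F1480)
theorem F2057 : act 1 n1256 = n1173 := d7_1 D1256 F1928 (iv F1481)
theorem F2058 : act 3 n1256 = n900 := d12_1 D1256 (iv D900) (iv D634) (iv F1051) D896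
def n1257 : Q := act 3 n897
theorem D1257 : act 3 n897 = n1257 := rfl
theorem F2059 : act 1 n1257 = n1170 := d6_1 D1257 F1923 (iv F1483)
theorem F2060 : act 5 n1257 = n1167 := d13_2 (iv F1484) D1257 (iv D1167)
def n1258 : Q := act 4 n897
theorem D1258 : act 4 n897 = n1258 := rfl
theorem F2061 : act 1 n1258 = n1171 := d7_1 D1258 (iv D1171) (iv F1483)
theorem F2062 : act 2 n1258 = n898 := d10_1 D1258 (iv D898) D897
def n1259 : Q := act 1 n899
theorem D1259 : act 1 n899 = n1259 := rfl
theorem F2063 : act 0 n1259 = n999 := d0_1 D1259 (iv D999) F1199 (iv F1060) (iv F1487)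
theorem F2064 : act 2 n1259 = n1119 := d5_2 D899 D1259 F1851 F1391 (iv F1058)
theorem F2065 : act 5 n1259 = n1032 := d8_2 (iv F1488) D1259 F1716
def n1260 : Q := act 3 n899
theorem D1260 : act 3 n899 = n1260 := rfl
theorem F2066 : act 0 n1260 = n901 := d2_1 D1260 (iv D901) (iv F1487)
theorem F2067 : act 5 n1260 = n1046 := d13_2 (iv F1488) D1260 (iv D1046)
def n1261 : Q := act 4 n899
theorem D1261 : act 4 n899 = n1261 := rfl
theorem F2068 : act 0 n1261 = n902 := d3_1 D1261 (iv D902) (iv F1487)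
theorem F2069 : act 2 n1261 = n900 := d10_1 D1261 (iv D900) D899
def n1262 : Q := act 2 n901
theorem D1262 : act 2 n901 = n1262 := rfl
theorem F2070 : act 5 n1262 = n1047 := d11_2 (iv F1492) D1262 (iv D1047)
def n1263 : Q := act 4 n901
theorem D1263 : act 4 n901 = n1263 := rfl
theorem F2071 : act 1 n1263 = n1020 := d7_1 D1263 (iv D1020) (iv F1491)
def n1264 : Q := act 3 n902
theorem D1264 : act 3 n902 = n1264 := rfl
theorem F2072 : act 1 n1264 = n1019 := d6_1 D1264 (iv D1019) (iv F1493)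
def n1265 : Q := act 2 n903
theorem D1265 : act 2 n903 = n1265 := rfl
theorem F2073 : act 0 n1265 = n909 := d1_1 D1265 (iv D909) (iv F1495)
def n1266 : Q := act 4 n905
theorem D1266 : act 4 n905 = n1266 := rfl
theorem F2074 : act 2 n1266 = n1266 := d10_1 D1266 (iv D1266) F1501
def n1267 : Q := act 3 n906
theorem D1267 : act 3 n906 = n1267 := rfl
def n1268 : Q := act 5 n906
theorem D1268 : act 5 n906 = n1268 := rfl
theorem F2075 : act 2 n1268 = n908 := d11_1 D1268 (iv D908) (iv F1502)
def n1269 : Q := act 2 n907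
theorem D1269 : act 2 n907 = n1269 := rfl
theorem F2076 : act 4 n1269 = n909 := d10_2 (iv F1504) D1269 (iv D909)
def n1270 : Q := act 5 n907
theorem D1270 : act 5 n907 = n1270 := rfl
theorem F2077 : act 1 n1270 = n910 := d8_1 D1270 (iv D910) (iv F1503)
theorem F2078 : act 3 n1270 = n908 := d13_1 D1270 (iv D908) D907
def n1271 : Q := act 3 n909
theorem D1271 : act 3 n909 = n1271 := rfl
def n1272 : Q := act 2 n911
theorem D1272 : act 2 n911 = n1272 := rfl
theorem F2079 : act 0 n1272 = n916 := d1_1 D1272 F1516 (iv F1508)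
theorem F2080 : act 3 n1272 = n916 := d9_2 D911 D1272 F1516 F1082 F774 F545 (iv F542) D452 D648 (iv F1511) (iv D912) (iv D645) F766 (iv F769) (iv F1074)
theorem F2081 : act 5 n1272 = n912 := d11_2 (iv F1509) D1272 (iv D912)
def n1273 : Q := act 1 n912
theorem D1273 : act 1 n912 = n1273 := rfl
theorem F2082 : act 3 n1273 = n915 := d6_2 (iv F1511) D1273 (iv D915)
def n1274 : Q := act 1 n913
theorem D1274 : act 1 n913 = n1274 := rfl
theorem F2083 : act 2 n1274 = n923 := d5_2 D913 D1274 (iv D923) (iv D654) (iv F1077)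
theorem F2084 : act 4 n1274 = n915 := d7_2 (iv F1512) D1274 (iv D915)
def n1275 : Q := act 3 n913
theorem D1275 : act 3 n913 = n1275 := rfl
def n1276 : Q := act 5 n913
theorem D1276 : act 5 n913 = n1276 := rfl
theorem F2085 : act 2 n1276 = n914 := d11_1 D1276 (iv D914) D913
def n1277 : Q := act 4 n914
theorem D1277 : act 4 n914 = n1277 := rfl
theorem F2086 : act 1 n1277 = n926 := d7_1 D1277 (iv D926) (iv F1513)
theorem F2087 : act 3 n1277 = n926 := d12_1 D1277 (iv D926) F1086 (iv F1080) (iv F1514)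
theorem F2088 : act 5 n1277 = n917 := d14_2 D914 D1277 (iv D917) (iv D649) (iv F1078)
def n1278 : Q := act 0 n915
theorem D1278 : act 0 n915 = n1278 := rfl
theorem F2089 : act 2 n1278 = n927 := d1_2 (iv F1515) D1278 (iv D927)
def n1279 : Q := act 4 n916
theorem D1279 : act 4 n916 = n1279 := rfl
theorem F2090 : act 2 n1279 = n917 := d10_1 D1279 (iv D917) (iv F1516)
def n1280 : Q := act 3 n918
theorem D1280 : act 3 n918 = n1280 := rfl
theorem F2091 : act 0 n1280 = n919 := d2_1 D1280 (iv D919) (iv F1519)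
def n1281 : Q := act 5 n918
theorem D1281 : act 5 n918 = n1281 := rfl
theorem F2092 : act 0 n1281 = n920 := d4_1 D1281 (iv D920) (iv F1519)
def n1282 : Q := act 2 n919
theorem D1282 : act 2 n919 = n1282 := rfl
def n1283 : Q := act 5 n919
theorem D1283 : act 5 n919 = n1283 := rfl
theorem F2093 : act 1 n1283 = n922 := d8_1 D1283 (iv D922) (iv F1520)
theorem F2094 : act 3 n1283 = n920 := d13_1 D1283 (iv D920) D919
def n1284 : Q := act 1 n921
theorem D1284 : act 1 n921 = n1284 := rfl
def n1285 : Q := act 3 n921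
theorem D1285 : act 3 n921 = n1285 := rfl
def n1286 : Q := act 5 n921
theorem D1286 : act 5 n921 = n1286 := rfl
theorem F2095 : act 2 n1286 = n922 := d11_1 D1286 (iv D922) D921
def n1287 : Q := act 4 n922
theorem D1287 : act 4 n922 = n1287 := rfl
def n1288 : Q := act 0 n923
theorem D1288 : act 0 n923 = n1288 := rfl
theorem F2096 : act 4 n1288 = n927 := d3_2 (iv F1523) D1288 (iv D927)
def n1289 : Q := act 3 n923
theorem D1289 : act 3 n923 = n1289 := rfl
theorem F2097 : act 1 n1289 = n924 := d6_1 D1289 (iv D924) D923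
def n1290 : Q := act 5 n923
theorem D1290 : act 5 n923 = n1290 := rfl
theorem F2098 : act 1 n1290 = n925 := d8_1 D1290 (iv D925) D923
def n1291 : Q := act 2 n924
theorem D1291 : act 2 n924 = n1291 := rfl
def n1292 : Q := act 5 n924
theorem D1292 : act 5 n924 = n1292 := rfl
theorem F2099 : act 3 n1292 = n925 := d13_1 D1292 (iv D925) D924
def n1293 : Q := act 1 n928
theorem D1293 : act 1 n928 = n1293 := rfl
theorem F2100 : act 2 n1293 = n1293 := d5_2 D928 D1293 (iv D1293) (iv D928) F1088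
def n1294 : Q := act 3 n928
theorem D1294 : act 3 n928 = n1294 := rfl
theorem F2101 : act 0 n1294 = n933 := d2_1 D1294 (iv D933) (iv F1526)
theorem F2102 : act 2 n1294 = n965 := d15_2 D928 D1294 (iv D965) F1139 F814 (iv F784) (iv F1095) (iv D662) (iv F1087)
theorem F2103 : act 5 n967 = n1294 := d11_0 F2102 F1601 D967
def n1295 : Q := act 4 n928
theorem D1295 : act 4 n928 = n1295 := rfl
theorem F2104 : act 0 n1295 = n934 := d3_1 D1295 (iv D934) (iv F1526)
theorem F2105 : act 2 n1295 = n929 := d10_1 D1295 (iv D929) D928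
def n1296 : Q := act 5 n928
theorem D1296 : act 5 n928 = n1296 := rfl
theorem F2106 : act 0 n1296 = n932 := d4_1 D1296 (iv F1538) (iv F1526)
theorem F2107 : act 2 n1296 = n930 := d11_1 D1296 (iv D930) D928
theorem F2108 : act 3 n1296 = n967 := d13_1 D1296 F2103 (iv D1294)
def n1297 : Q := act 5 n929
theorem D1297 : act 5 n929 = n1297 := rfl
theorem F2109 : act 0 n1297 = n935 := d4_1 D1297 (iv D935) (iv F1527)
theorem F2110 : act 1 n1297 = n1297 := d8_1 D1297 (iv D1297) F1528
theorem F2111 : act 3 n1297 = n944 := d13_1 D1297 (iv D944) (iv F1529)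
def n1298 : Q := act 4 n930
theorem D1298 : act 4 n930 = n1298 := rfl
theorem F2112 : act 0 n1298 = n936 := d3_1 D1298 (iv D936) (iv F1530)
theorem F2113 : act 1 n1298 = n1298 := d7_1 D1298 (iv D1298) F1531
def n1299 : Q := act 3 n931
theorem D1299 : act 3 n931 = n1299 := rfl
theorem F2114 : act 0 n1299 = n937 := d2_1 D1299 (iv D937) (iv F1533)
theorem F2115 : act 1 n1299 = n1299 := d6_1 D1299 (iv D1299) F1534
theorem F2116 : act 5 n1299 = n946 := d13_2 (iv F1536) D1299 (iv D946)
def n1300 : Q := act 3 n932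
theorem D1300 : act 3 n932 = n1300 := rfl
theorem F2117 : act 0 n1300 = n967 := d2_1 D1300 (iv F2108) F2106
theorem F2118 : act 1 n1300 = n933 := d6_1 D1300 (iv D933) D932
theorem F2119 : act 2 n1300 = n959 := d9_1 D1300 (iv D959) (iv D680) (iv D475) (iv F780) D658 D928 D1294 F2102 (iv D965) F1139 F814 (iv F784) (iv F1095) (iv F1537)
theorem F2120 : act 5 n1300 = n933 := d13_2 F1538 D1300 (iv D933)
def n1301 : Q := act 4 n932
theorem D1301 : act 4 n932 = n1301 := rfl
theorem F2121 : act 1 n1301 = n934 := d7_1 D1301 (iv D934) D932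
theorem F2122 : act 2 n1301 = n936 := d10_1 D1301 (iv D936) (iv F1537)
def n1302 : Q := act 2 n933
theorem D1302 : act 2 n933 = n1302 := rfl
theorem F2123 : act 0 n1302 = n965 := d1_1 D1302 (iv F2102) F2101
theorem F2124 : act 3 n1302 = n961 := d9_2 D933 D1302 F1591 F1135 (iv F1091) (iv F1532) (iv F2107) F2108 (iv D967) (iv D685) (iv D477) (iv D328) (iv F547) D461 D660
theorem F2125 : act 5 n1302 = n959 := d11_2 F2120 D1302 (iv F2119)
def n1303 : Q := act 4 n933
theorem D1303 : act 4 n933 = n1303 := rfl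
def n1304 : Q := act 3 n934
theorem D1304 : act 3 n934 = n1304 := rfl
def n1305 : Q := act 5 n934
theorem D1305 : act 5 n934 = n1305 := rfl
theorem F2126 : act 2 n1305 = n935 := d11_1 D1305 (iv D935) (iv F1539)
def n1306 : Q := act 4 n935
theorem D1306 : act 4 n935 = n1306 := rfl
theorem F2127 : act 1 n1306 = n939 := d7_1 D1306 F1549 (iv F1540)
theorem F2128 : act 5 n1306 = n936 := d14_2 D935 D1306 (iv D936) (iv D662) D661
def n1307 : Q := act 3 n936
theorem D1307 : act 3 n936 = n1307 := rfl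
theorem F2129 : act 1 n1307 = n938 := d6_1 D1307 (iv D938) (iv F1542)
theorem F2130 : act 4 n1307 = n937 := d12_2 D936 D1307 (iv D937) (iv D663) (iv F1095)
def n1308 : Q := act 2 n937
theorem D1308 : act 2 n937 = n1308 := rfl
theorem F2131 : act 5 n1308 = n954 := d11_2 (iv F1544) D1308 (iv D954)
def n1309 : Q := act 2 n938
theorem D1309 : act 2 n938 = n1309 := rfl
theorem F2132 : act 0 n1309 = n1309 := d1_1 D1309 (iv D1309) F1545
theorem F2133 : act 4 n1309 = n940 := d10_2 (iv F1546) D1309 (iv D940)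
def n1310 : Q := act 5 n938
theorem D1310 : act 5 n938 = n1310 := rfl
theorem F2134 : act 0 n1310 = n1310 := d4_1 D1310 (iv D1310) F1545
theorem F2135 : act 3 n1310 = n939 := d13_1 D1310 (iv D939) D938
theorem F2136 : act 4 n1310 = n956 := d14_1 D1310 (iv D956) F1124 (iv F1104) (iv F1546)
def n1311 : Q := act 1 n940
theorem D1311 : act 1 n940 = n1311 := rfl
theorem F2137 : act 3 n1311 = n957 := d6_2 (iv F1552) D1311 (iv D957)
theorem F2138 : act 5 n1311 = n957 := d8_2 (iv F1551) D1311 (iv D957)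
def n1312 : Q := act 4 n941
theorem D1312 : act 4 n941 = n1312 := rfl
theorem F2139 : act 0 n1312 = n1266 := d3_1 D1312 (iv D1266) F1555
theorem F2140 : act 1 n1312 = n942 := d7_1 D1312 (iv D942) D941
theorem F2141 : act 2 n1312 = n1312 := d10_1 D1312 (iv D1312) F1553
def n1313 : Q := act 3 n942
theorem D1313 : act 3 n942 = n1313 := rfl
theorem F2142 : act 0 n1313 = n950 := d2_1 D1313 (iv D950) (iv F1557)
theorem F2143 : act 4 n1313 = n1125 := d12_2 D942 D1313 (iv D1125) (iv D807) (iv F1106)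
def n1314 : Q := act 5 n942
theorem D1314 : act 5 n942 = n1314 := rfl
theorem F2144 : act 0 n1314 = n951 := d4_1 D1314 (iv D951) (iv F1557)
theorem F2145 : act 2 n1314 = n944 := d11_1 D1314 (iv D944) (iv F1558)
def n1315 : Q := act 4 n943
theorem D1315 : act 4 n943 = n1315 := rfl
theorem F2146 : act 0 n1315 = n948 := d3_1 D1315 (iv D948) (iv F1559)
theorem F2147 : act 1 n1315 = n1266 := d7_1 D1315 (iv D1266) (iv F1560)
theorem F2148 : act 2 n1315 = n945 := d10_1 D1315 (iv D945) (iv F1561)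
def n1316 : Q := act 4 n944
theorem D1316 : act 4 n944 = n1316 := rfl
theorem F2149 : act 0 n1316 = n952 := d3_1 D1316 (iv D952) (iv F1563)
theorem F2150 : act 1 n1316 = n1316 := d7_1 D1316 (iv D1316) F1564
theorem F2151 : act 5 n1316 = n945 := d14_2 D944 D1316 (iv D945) (iv D669) D668
def n1317 : Q := act 3 n945
theorem D1317 : act 3 n945 = n1317 := rfl
theorem F2152 : act 0 n1317 = n953 := d2_1 D1317 (iv D953) (iv F1565)
theorem F2153 : act 1 n1317 = n1317 := d6_1 D1317 (iv D1317) F1566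
theorem F2154 : act 4 n1317 = n946 := d12_2 D945 D1317 (iv D946) (iv D670) (iv F1111)
def n1318 : Q := act 2 n946
theorem D1318 : act 2 n946 = n1318 := rfl
theorem F2155 : act 0 n1318 = n954 := d1_1 D1318 (iv D954) (iv F1567)
def n1319 : Q := act 4 n947
theorem D1319 : act 4 n947 = n1319 := rfl
theorem F2156 : act 0 n1319 = n979 := d3_1 D1319 (iv D979) (iv F1569)
theorem F2157 : act 1 n1319 = n949 := d7_1 D1319 (iv D949) (iv F1570)
theorem F2158 : act 2 n1319 = n975 := d10_1 D1319 (iv D975) (iv F1571)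
def n1320 : Q := act 3 n948
theorem D1320 : act 3 n948 = n1320 := rfl
theorem F2159 : act 1 n1320 = n950 := d6_1 D1320 (iv D950) (iv F1573)
def n1321 : Q := act 5 n948
theorem D1321 : act 5 n948 = n1321 := rfl
theorem F2160 : act 1 n1321 = n951 := d8_1 D1321 (iv D951) (iv F1573)
theorem F2161 : act 2 n1321 = n952 := d11_1 D1321 F1579 (iv F1574)
theorem F2162 : act 4 n1321 = n951 := d14_1 D1321 (iv D951) (iv D673) F1116 D948
def n1322 : Q := act 3 n949
theorem D1322 : act 3 n949 = n1322 := rfl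
theorem F2163 : act 0 n1322 = n1125 := d2_1 D1322 (iv D1125) (iv F1575)
theorem F2164 : act 4 n1322 = n950 := d12_2 D949 D1322 (iv D950) (iv D673) D672
def n1323 : Q := act 5 n949
theorem D1323 : act 5 n949 = n1323 := rfl
theorem F2165 : act 0 n1323 = n1126 := d4_1 D1323 (iv D1126) (iv F1575)
theorem F2166 : act 2 n1323 = n1121 := d11_1 D1323 (iv D1121) (iv F1576)
def n1324 : Q := act 2 n950
theorem D1324 : act 2 n950 = n1324 := rfl
def n1325 : Q := act 5 n950
theorem D1325 : act 5 n950 = n1325 := rfl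
theorem F2167 : act 3 n1325 = n951 := d13_1 D1325 (iv D951) D950
def n1326 : Q := act 3 n952
theorem D1326 : act 3 n952 = n1326 := rfl
theorem F2168 : act 1 n1326 = n956 := d6_1 D1326 F1585 (iv F1578)
theorem F2169 : act 5 n1326 = n953 := d13_2 (iv F1579) D1326 (iv D953)
def n1327 : Q := act 2 n953
theorem D1327 : act 2 n953 = n1327 := rfl
theorem F2170 : act 4 n1327 = n954 := d10_2 (iv F1581) D1327 (iv D954)
def n1328 : Q := act 1 n954
theorem D1328 : act 1 n954 = n1328 := rfl
theorem F2171 : act 2 n1328 = n957 := d5_2 D954 D1328 (iv D957) (iv D679) (iv F1122)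
def n1329 : Q := act 3 n954
theorem D1329 : act 3 n954 = n1329 := rfl
def n1330 : Q := act 1 n955
theorem D1330 : act 1 n955 = n1330 := rfl
theorem F2172 : act 4 n1330 = n957 := d7_2 (iv F1583) D1330 (iv D957)
def n1331 : Q := act 3 n955
theorem D1331 : act 3 n955 = n1331 := rfl
theorem F2173 : act 0 n1331 = n1331 := d2_1 D1331 (iv D1331) F1582
theorem F2174 : act 2 n1331 = n1310 := d15_2 D955 D1331 F2135 F1548 F1102 (iv F1126) (iv F1585) (iv D956) F1123
theorem F2175 : act 5 n1331 = n1309 := d15_8 (iv D1309) (iv D938) F1100 F789 (iv F804) D677 D955 D1331 F2132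
def n1332 : Q := act 5 n955
theorem D1332 : act 5 n955 = n1332 := rfl
theorem F2176 : act 0 n1332 = n1332 := d4_1 D1332 (iv D1332) F1582
theorem F2177 : act 2 n1332 = n956 := d11_1 D1332 (iv D956) D955
theorem F2178 : act 3 n1332 = n1309 := d13_1 D1332 (iv F2175) (iv D1331)
theorem F2179 : act 4 n1332 = n1331 := d14_1 D1332 F2175 F2133 F1551 (iv F1583)
def n1333 : Q := act 0 n957
theorem D1333 : act 0 n957 = n1333 := rfl
theorem F2180 : act 1 n1333 = n1333 := d0_2 D957 D1333 (iv D1333) (iv D957) F1128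
def n1334 : Q := act 0 n958
theorem D1334 : act 0 n958 = n1334 := rfl
theorem F2181 : act 1 n1334 = n961 := d0_2 D958 D1334 F1590 (iv D684) (iv F1129)
theorem F2182 : act 2 n1334 = n1052 := d1_2 (iv F1586) D1334 (iv D1052)
theorem F2183 : act 5 n958 = n1334 := d11_0 F2182 (iv F1739) (iv F1586)
def n1335 : Q := act 3 n958
theorem D1335 : act 3 n958 = n1335 := rfl
theorem F2184 : act 1 n1335 = n959 := d6_1 D1335 (iv D959) D958
def n1336 : Q := act 4 n958
theorem D1336 : act 4 n958 = n1336 := rfl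
theorem F2185 : act 1 n1336 = n960 := d7_1 D1336 (iv D960) D958
theorem F2186 : act 2 n1336 = n1054 := d10_1 D1336 (iv D1054) (iv F1586)
def n1337 : Q := act 4 n959
theorem D1337 : act 4 n959 = n1337 := rfl
theorem F2187 : act 0 n1337 = n968 := d3_1 D1337 (iv D968) (iv F1587)
def n1338 : Q := act 3 n960
theorem D1338 : act 3 n960 = n1338 := rfl
theorem F2188 : act 0 n1338 = n969 := d2_1 D1338 (iv D969) (iv F1588)
def n1339 : Q := act 5 n960
theorem D1339 : act 5 n960 = n1339 := rfl
theorem F2189 : act 0 n1339 = n970 := d4_1 D1339 (iv D970) (iv F1588)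
theorem F2190 : act 2 n1339 = n962 := d11_1 D1339 (iv D962) (iv F1589)
def n1340 : Q := act 4 n961
theorem D1340 : act 4 n961 = n1340 := rfl
theorem F2191 : act 0 n1340 = n966 := d3_1 D1340 (iv D966) (iv F1590)
theorem F2192 : act 2 n1340 = n963 := d10_1 D1340 (iv D963) (iv F1591)
def n1341 : Q := act 4 n962
theorem D1341 : act 4 n962 = n1341 := rfl
theorem F2193 : act 0 n1341 = n971 := d3_1 D1341 (iv D971) (iv F1592)
theorem F2194 : act 1 n1341 = n1059 := d7_1 D1341 (iv D1059) (iv F1593)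
theorem F2195 : act 3 n1341 = n1165 := d12_1 D1341 (iv D1165) F1399 (iv F1165) (iv F1594)
theorem F2196 : act 5 n1341 = n963 := d14_2 D962 D1341 (iv D963) (iv D682) D681
def n1342 : Q := act 3 n963
theorem D1342 : act 3 n963 = n1342 := rfl
theorem F2197 : act 0 n1342 = n972 := d2_1 D1342 (iv D972) (iv F1595)
theorem F2198 : act 1 n1342 = n1060 := d6_1 D1342 (iv D1060) (iv F1596)
theorem F2199 : act 4 n1342 = n964 := d12_2 D963 D1342 (iv D964) (iv D683) (iv F1135)
theorem F2200 : act 5 n1342 = n1165 := d13_2 F2196 D1342 (iv F2195)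
def n1343 : Q := act 2 n964
theorem D1343 : act 2 n964 = n1343 := rfl
theorem F2201 : act 0 n1343 = n973 := d1_1 D1343 (iv D973) (iv F1597)
theorem F2202 : act 5 n1343 = n978 := d11_2 (iv F1599) D1343 (iv D978)
def n1344 : Q := act 4 n965
theorem D1344 : act 4 n965 = n1344 := rfl
theorem F2203 : act 1 n1344 = n968 := d7_1 D1344 (iv D968) (iv F1600)
def n1345 : Q := act 3 n966
theorem D1345 : act 3 n966 = n1345 := rfl
theorem F2204 : act 1 n1345 = n969 := d6_1 D1345 (iv D969) (iv F1602)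
def n1346 : Q := act 5 n966
theorem D1346 : act 5 n966 = n1346 := rfl
theorem F2205 : act 1 n1346 = n970 := d8_1 D1346 (iv D970) (iv F1602)
theorem F2206 : act 2 n1346 = n971 := d11_1 D1346 F1607 (iv F1603)
theorem F2207 : act 4 n1346 = n970 := d14_1 D1346 (iv D970) (iv D686) F1140 D966
def n1347 : Q := act 1 n967
theorem D1347 : act 1 n967 = n1347 := rfl
def n1348 : Q := act 4 n967
theorem D1348 : act 4 n967 = n1348 := rfl
theorem F2208 : act 2 n1348 = n968 := d10_1 D1348 (iv D968) D967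
def n1349 : Q := act 3 n968
theorem D1349 : act 3 n968 = n1349 := rfl
theorem F2209 : act 4 n1349 = n969 := d12_2 D968 D1349 (iv D969) (iv D686) D685
def n1350 : Q := act 5 n968
theorem D1350 : act 5 n968 = n1350 := rfl
def n1351 : Q := act 2 n969
theorem D1351 : act 2 n969 = n1351 := rfl
def n1352 : Q := act 5 n969
theorem D1352 : act 5 n969 = n1352 := rfl
theorem F2210 : act 3 n1352 = n970 := d13_1 D1352 (iv D970) D969
def n1353 : Q := act 2 n972
theorem D1353 : act 2 n972 = n1353 := rfl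
theorem F2211 : act 4 n1353 = n973 := d10_2 (iv F1609) D1353 (iv D973)
theorem F2212 : act 5 n1353 = n1171 := d11_2 (iv F1610) D1353 F1924
def n1354 : Q := act 3 n973
theorem D1354 : act 3 n973 = n1354 := rfl
theorem F2213 : act 5 n1354 = n985 := d13_2 (iv F1611) D1354 (iv D985)
def n1355 : Q := act 3 n974
theorem D1355 : act 3 n974 = n1355 := rfl
theorem F2214 : act 0 n1355 = n1109 := d2_1 D1355 (iv D1109) (iv F1612)
theorem F2215 : act 1 n1355 = n976 := d6_1 D1355 (iv D976) (iv F1613)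
theorem F2216 : act 4 n1355 = n1280 := d12_2 D974 D1355 (iv D1280) (iv D918) F1157
def n1356 : Q := act 5 n974
theorem D1356 : act 5 n974 = n1356 := rfl
theorem F2217 : act 0 n1356 = n1108 := d4_1 D1356 F1830 (iv F1612)
theorem F2218 : act 1 n1356 = n977 := d8_1 D1356 (iv D977) (iv F1613)
theorem F2219 : act 2 n1356 = n1078 := d11_1 D1356 (iv D1078) (iv F1614)
theorem F2220 : act 4 n1356 = n1103 := d14_1 D1356 (iv D1103) (iv D789) (iv F1156) D974
def n1357 : Q := act 3 n975
theorem D1357 : act 3 n975 = n1357 := rfl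
theorem F2221 : act 0 n1357 = n980 := d2_1 D1357 (iv D980) (iv F1615)
theorem F2222 : act 1 n1357 = n1280 := d6_1 D1357 (iv D1280) (iv F1616)
theorem F2223 : act 4 n1357 = n976 := d12_2 D975 D1357 (iv D976) (iv D694) D693
def n1358 : Q := act 5 n975
theorem D1358 : act 5 n975 = n1358 := rfl
theorem F2224 : act 0 n1358 = n981 := d4_1 D1358 (iv D981) (iv F1615)
theorem F2225 : act 1 n1358 = n1281 := d8_1 D1358 (iv D1281) (iv F1616)
theorem F2226 : act 4 n1358 = n1121 := d14_1 D1358 (iv D1121) (iv D803) (iv F1160) D975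
def n1359 : Q := act 2 n976
theorem D1359 : act 2 n976 = n1359 := rfl
theorem F2227 : act 0 n1359 = n982 := d1_1 D1359 (iv D982) (iv F1617)
def n1360 : Q := act 5 n976
theorem D1360 : act 5 n976 = n1360 := rfl
theorem F2228 : act 0 n1360 = n983 := d4_1 D1360 (iv D983) (iv F1617)
theorem F2229 : act 3 n1360 = n977 := d13_1 D1360 (iv D977) D976
def n1361 : Q := act 1 n978
theorem D1361 : act 1 n978 = n1361 := rfl
theorem F2230 : act 2 n1361 = n1083 := d5_2 D978 D1361 (iv D1083) (iv D776) (iv F1167)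
theorem F2231 : act 4 n1361 = n1162 := d7_2 (iv F1622) D1361 (iv D1162)
def n1362 : Q := act 3 n978
theorem D1362 : act 3 n978 = n1362 := rfl
theorem F2232 : act 0 n1362 = n985 := d2_1 D1362 (iv D985) (iv F1621)
def n1363 : Q := act 3 n979
theorem D1363 : act 3 n979 = n1363 := rfl
theorem F2233 : act 1 n1363 = n1267 := d6_1 D1363 (iv D1267) (iv F1623)
def n1364 : Q := act 5 n979
theorem D1364 : act 5 n979 = n1364 := rfl
theorem F2234 : act 1 n1364 = n1268 := d8_1 D1364 (iv D1268) (iv F1623)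
theorem F2235 : act 2 n1364 = n981 := d11_1 D1364 (iv D981) (iv F1624)
theorem F2236 : act 4 n1364 = n1126 := d14_1 D1364 (iv D1126) (iv D807) (iv F1170) D979
def n1365 : Q := act 2 n980
theorem D1365 : act 2 n980 = n1365 := rfl
theorem F2237 : act 4 n1365 = n982 := d10_2 (iv F1626) D1365 (iv D982)
def n1366 : Q := act 5 n980
theorem D1366 : act 5 n980 = n1366 := rfl
theorem F2238 : act 1 n1366 = n1141 := d8_1 D1366 F1884 (iv F1625)
theorem F2239 : act 3 n1366 = n981 := d13_1 D1366 (iv D981) D980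
def n1367 : Q := act 1 n982
theorem D1367 : act 1 n982 = n1367 := rfl
theorem F2240 : act 2 n1367 = n1150 := d5_2 D982 D1367 (iv D1150) (iv D824) (iv F1172)
def n1368 : Q := act 3 n982
theorem D1368 : act 3 n982 = n1368 := rfl
def n1369 : Q := act 5 n982
theorem D1369 : act 5 n982 = n1369 := rfl
theorem F2241 : act 2 n1369 = n983 := d11_1 D1369 (iv D983) D982
def n1370 : Q := act 4 n983
theorem D1370 : act 4 n983 = n1370 := rfl
theorem F2242 : act 1 n1370 = n1148 := d7_1 D1370 F1897 (iv F1629)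
theorem F2243 : act 3 n1370 = n1132 := d12_1 D1370 (iv D1132) F1365 (iv F1175) (iv F1630)
def n1371 : Q := act 0 n984
theorem D1371 : act 0 n984 = n1371 := rfl
theorem F2244 : act 2 n1371 = n986 := d1_2 (iv F1631) D1371 (iv D986)
theorem F2245 : act 4 n1371 = n1166 := d3_2 (iv F1632) D1371 (iv D1166)
def n1372 : Q := act 3 n984
theorem D1372 : act 3 n984 = n1372 := rfl
theorem F2246 : act 1 n1372 = n985 := d6_1 D1372 (iv D985) D984
def n1373 : Q := act 2 n985
theorem D1373 : act 2 n985 = n1373 := rfl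
def n1374 : Q := act 4 n985
theorem D1374 : act 4 n985 = n1374 := rfl
theorem F2247 : act 3 n1374 = n1169 := d12_1 D1374 (iv D1169) (iv D834) (iv F1176) D985
def n1375 : Q := act 3 n987
theorem D1375 : act 3 n987 = n1375 := rfl
theorem F2248 : act 0 n1375 = n989 := d2_1 D1375 (iv D989) (iv F1635)
theorem F2249 : act 1 n1375 = n1000 := d6_1 D1375 (iv D1000) (iv F1636)
def n1376 : Q := act 5 n987
theorem D1376 : act 5 n987 = n1376 := rfl
theorem F2250 : act 0 n1376 = n990 := d4_1 D1376 (iv D990) (iv F1635)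
theorem F2251 : act 1 n1376 = n1001 := d8_1 D1376 (iv D1001) (iv F1636)
theorem F2252 : act 2 n1376 = n1103 := d11_1 D1376 (iv D1103) (iv F1637)
theorem F2253 : act 4 n1376 = n1078 := d14_1 D1376 (iv D1078) (iv D772) F1180 D987
def n1377 : Q := act 3 n988
theorem D1377 : act 3 n988 = n1377 := rfl
theorem F2254 : act 1 n1377 = n992 := d6_1 D1377 (iv D992) (iv F1638)
theorem F2255 : act 4 n1377 = n989 := d12_2 D988 D1377 (iv D989) (iv D705) D704
def n1378 : Q := act 5 n988
theorem D1378 : act 5 n988 = n1378 := rfl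
theorem F2256 : act 1 n1378 = n993 := d8_1 D1378 (iv D993) (iv F1638)
def n1379 : Q := act 2 n989
theorem D1379 : act 2 n989 = n1379 := rfl
def n1380 : Q := act 5 n989
theorem D1380 : act 5 n989 = n1380 := rfl
theorem F2257 : act 1 n1380 = n995 := d8_1 D1380 (iv D995) (iv F1639)
theorem F2258 : act 3 n1380 = n990 := d13_1 D1380 (iv D990) D989
def n1381 : Q := act 4 n990
theorem D1381 : act 4 n990 = n1381 := rfl
theorem F2259 : act 0 n1381 = n1078 := d3_1 D1381 (iv F2253) F2250
theorem F2260 : act 1 n1381 = n996 := d7_1 D1381 (iv D996) (iv F1640)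
theorem F2261 : act 2 n1381 = n1108 := d10_1 D1381 (iv D1108) (iv F1641)
theorem F2262 : act 5 n1381 = n991 := d14_2 D990 D1381 (iv D991) (iv D706) D705
def n1382 : Q := act 3 n991
theorem D1382 : act 3 n991 = n1382 := rfl
theorem F2263 : act 0 n1382 = n1077 := d2_1 D1382 (iv D1077) (iv F1642)
theorem F2264 : act 1 n1382 = n997 := d6_1 D1382 (iv D997) (iv F1643)
def n1383 : Q := act 2 n992
theorem D1383 : act 2 n992 = n1383 := rfl
theorem F2265 : act 0 n1383 = n1009 := d1_1 D1383 (iv D1009) (iv F1645)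
theorem F2266 : act 4 n1383 = n994 := d10_2 (iv F1646) D1383 (iv D994)
def n1384 : Q := act 5 n992
theorem D1384 : act 5 n992 = n1384 := rfl
theorem F2267 : act 0 n1384 = n1010 := d4_1 D1384 (iv D1010) (iv F1645)
theorem F2268 : act 3 n1384 = n993 := d13_1 D1384 (iv D993) D992
def n1385 : Q := act 1 n994
theorem D1385 : act 1 n994 = n1385 := rfl
theorem F2269 : act 3 n1385 = n1043 := d6_2 (iv F1649) D1385 F1730
theorem F2270 : act 5 n1385 = n1042 := d8_2 F1650 D1385 F1729
def n1386 : Q := act 4 n995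
theorem D1386 : act 4 n995 = n1386 := rfl
theorem F2271 : act 0 n1386 = n1016 := d3_1 D1386 (iv D1016) (iv F1651)
theorem F2272 : act 2 n1386 = n1044 := d10_1 D1386 (iv D1044) (iv F1652)
def n1387 : Q := act 3 n996
theorem D1387 : act 3 n996 = n1387 := rfl
theorem F2273 : act 0 n1387 = n1017 := d2_1 D1387 (iv D1017) (iv F1654)
theorem F2274 : act 5 n1387 = n997 := d13_2 (iv F1656) D1387 (iv D997)
def n1388 : Q := act 2 n997
theorem D1388 : act 2 n997 = n1388 := rfl
theorem F2275 : act 0 n1388 = n1018 := d1_1 D1388 (iv D1018) (iv F1657)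
def n1389 : Q := act 1 n998
theorem D1389 : act 1 n998 = n1389 := rfl
theorem F2276 : act 2 n1389 = n1117 := d5_2 D998 D1389 (iv D1117) (iv D801) (iv F1197)
theorem F2277 : act 4 n1389 = n999 := d7_2 (iv F1659) D1389 (iv D999)
def n1390 : Q := act 3 n998
theorem D1390 : act 3 n998 = n1390 := rfl
theorem F2278 : act 0 n1390 = n1019 := d2_1 D1390 (iv D1019) (iv F1658)
def n1391 : Q := act 2 n1000
theorem D1391 : act 2 n1000 = n1391 := rfl
theorem F2279 : act 0 n1391 = n1004 := d1_1 D1391 (iv D1004) (iv F1662)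
def n1392 : Q := act 5 n1000
theorem D1392 : act 5 n1000 = n1392 := rfl
theorem F2280 : act 0 n1392 = n1005 := d4_1 D1392 (iv D1005) (iv F1662)
theorem F2281 : act 3 n1392 = n1001 := d13_1 D1392 (iv D1001) D1000
def n1393 : Q := act 2 n1002
theorem D1393 : act 2 n1002 = n1393 := rfl
theorem F2282 : act 4 n1393 = n1004 := d10_2 (iv F1667) D1393 (iv D1004)
def n1394 : Q := act 5 n1002
theorem D1394 : act 5 n1002 = n1394 := rfl
theorem F2283 : act 1 n1394 = n1010 := d8_1 D1394 (iv D1010) (iv F1666)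
theorem F2284 : act 3 n1394 = n1003 := d13_1 D1394 (iv D1003) D1002
def n1395 : Q := act 1 n1004
theorem D1395 : act 1 n1004 = n1395 := rfl
theorem F2285 : act 2 n1395 = n1013 := d5_2 D1004 D1395 (iv D1013) (iv D723) (iv F1204)
def n1396 : Q := act 3 n1004
theorem D1396 : act 3 n1004 = n1396 := rfl
def n1397 : Q := act 5 n1004
theorem D1397 : act 5 n1004 = n1397 := rfl
theorem F2286 : act 2 n1397 = n1005 := d11_1 D1397 (iv D1005) D1004
def n1398 : Q := act 4 n1005
theorem D1398 : act 4 n1005 = n1398 := rfl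
theorem F2287 : act 1 n1398 = n1016 := d7_1 D1398 (iv D1016) (iv F1670)
theorem F2288 : act 3 n1398 = n1093 := d12_1 D1398 (iv D1093) F1311 (iv F1207) (iv F1671)
def n1399 : Q := act 3 n1006
theorem D1399 : act 3 n1006 = n1399 := rfl
theorem F2289 : act 1 n1399 = n1007 := d6_1 D1399 (iv D1007) (iv F1672)
theorem F2290 : act 4 n1399 = n1382 := d12_2 D1006 D1399 (iv D1382) (iv D991) (iv F1208)
def n1400 : Q := act 5 n1006
theorem D1400 : act 5 n1006 = n1400 := rfl
theorem F2291 : act 1 n1400 = n1008 := d8_1 D1400 (iv D1008) (iv F1672)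
theorem F2292 : act 4 n1400 = n1378 := d14_1 D1400 (iv D1378) (iv D988) (iv F1209) D1006
def n1401 : Q := act 2 n1007
theorem D1401 : act 2 n1007 = n1401 := rfl
theorem F2293 : act 4 n1401 = n1388 := d10_2 (iv F1673) D1401 (iv D1388)
def n1402 : Q := act 5 n1007
theorem D1402 : act 5 n1007 = n1402 := rfl
theorem F2294 : act 3 n1402 = n1008 := d13_1 D1402 (iv D1008) D1007
def n1403 : Q := act 1 n1009
theorem D1403 : act 1 n1009 = n1403 := rfl
theorem F2295 : act 4 n1403 = n1013 := d7_2 (iv F1676) D1403 (iv D1013)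
def n1404 : Q := act 3 n1009
theorem D1404 : act 3 n1009 = n1404 := rfl
def n1405 : Q := act 5 n1009
theorem D1405 : act 5 n1009 = n1405 := rfl
theorem F2296 : act 2 n1405 = n1010 := d11_1 D1405 (iv D1010) D1009
def n1406 : Q := act 4 n1010
theorem D1406 : act 4 n1010 = n1406 := rfl
theorem F2297 : act 5 n1406 = n1016 := d14_2 D1010 D1406 (iv D1016) (iv D724) (iv F1211)
def n1407 : Q := act 3 n1011
theorem D1407 : act 3 n1011 = n1407 := rfl
theorem F2298 : act 0 n1407 = n1402 := d2_1 D1407 F2294 (iv F1678)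
theorem F2299 : act 1 n1407 = n1089 := d6_1 D1407 F1800 (iv F1679)
theorem F2300 : act 5 n1407 = n1012 := d13_2 (iv F1681) D1407 (iv D1012)
def n1408 : Q := act 2 n1012
theorem D1408 : act 2 n1012 = n1408 := rfl
theorem F2301 : act 0 n1408 = n1401 := d1_1 D1408 (iv D1401) (iv F1682)
theorem F2302 : act 4 n1408 = n1018 := d10_2 (iv F1684) D1408 (iv D1018)
def n1409 : Q := act 0 n1013
theorem D1409 : act 0 n1013 = n1409 := rfl
def n1410 : Q := act 3 n1013
theorem D1410 : act 3 n1013 = n1410 := rfl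
theorem F2303 : act 1 n1410 = n1014 := d6_1 D1410 (iv D1014) D1013
theorem F2304 : act 5 n1030 = n1410 := d8_0 F2303 F1687 D1030
def n1411 : Q := act 5 n1013
theorem D1411 : act 5 n1013 = n1411 := rfl
theorem F2305 : act 1 n1411 = n1015 := d8_1 D1411 (iv D1015) D1013
theorem F2306 : act 3 n1411 = n1030 := d13_1 D1411 F2304 (iv D1410)
def n1412 : Q := act 4 n1014
theorem D1412 : act 4 n1014 = n1412 := rfl
theorem F2307 : act 0 n1412 = n1045 := d3_1 D1412 (iv D1045) (iv F1685)
theorem F2308 : act 2 n1412 = n1031 := d10_1 D1412 (iv D1031) (iv F1686)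
def n1413 : Q := act 4 n1015
theorem D1413 : act 4 n1015 = n1413 := rfl
theorem F2309 : act 0 n1413 = n1044 := d3_1 D1413 (iv D1044) (iv F1688)
theorem F2310 : act 2 n1413 = n1016 := d10_1 D1413 (iv D1016) (iv F1689)
def n1414 : Q := act 3 n1016
theorem D1414 : act 3 n1016 = n1414 := rfl
theorem F2311 : act 1 n1414 = n1093 := d6_1 D1414 (iv F2288) F2287
theorem F2312 : act 4 n1414 = n1017 := d12_2 D1016 D1414 (iv D1017) (iv D725) (iv F1215)
def n1415 : Q := act 2 n1017
theorem D1415 : act 2 n1017 = n1415 := rfl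
theorem F2313 : act 5 n1415 = n1018 := d11_2 (iv F1692) D1415 (iv D1018)
def n1416 : Q := act 1 n1018
theorem D1416 : act 1 n1018 = n1416 := rfl
theorem F2314 : act 2 n1416 = n1090 := d5_2 D1018 D1416 (iv D1090) (iv D781) (iv F1219)
def n1417 : Q := act 3 n1018
theorem D1417 : act 3 n1018 = n1417 := rfl
def n1418 : Q := act 2 n1019
theorem D1418 : act 2 n1019 = n1418 := rfl
def n1419 : Q := act 4 n1019
theorem D1419 : act 4 n1019 = n1419 := rfl
theorem F2315 : act 3 n1419 = n1020 := d12_1 D1419 (iv D1020) (iv D728) (iv F1220) D1019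
def n1420 : Q := act 5 n1020
theorem D1420 : act 5 n1020 = n1420 := rfl
theorem F2316 : act 4 n1420 = n1051 := d14_1 D1420 (iv D1051) (iv D752) (iv F1221) D1020
def n1421 : Q := act 1 n1021
theorem D1421 : act 1 n1021 = n1421 := rfl
theorem F2317 : act 2 n1421 = n1162 := d5_2 D1021 D1421 (iv D1162) (iv D831) (iv F1223)
theorem F2318 : act 4 n1421 = n1083 := d7_2 (iv F1694) D1421 (iv D1083)
def n1422 : Q := act 3 n1021
theorem D1422 : act 3 n1021 = n1422 := rfl
theorem F2319 : act 0 n1422 = n1024 := d2_1 D1422 (iv D1024) (iv F1693)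
def n1423 : Q := act 5 n1021
theorem D1423 : act 5 n1021 = n1423 := rfl
theorem F2320 : act 0 n1423 = n1025 := d4_1 D1423 (iv D1025) (iv F1693)
theorem F2321 : act 2 n1423 = n1022 := d11_1 D1423 (iv D1022) D1021
def n1424 : Q := act 4 n1022
theorem D1424 : act 4 n1022 = n1424 := rfl
theorem F2322 : act 0 n1424 = n1026 := d3_1 D1424 (iv D1026) (iv F1695)
theorem F2323 : act 1 n1424 = n1165 := d7_1 D1424 (iv D1165) (iv F1696)
theorem F2324 : act 3 n1424 = n1059 := d12_1 D1424 (iv D1059) F1271 (iv F1227) (iv F1697)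
theorem F2325 : act 5 n1424 = n1060 := d14_2 D1022 D1424 F1751 F1274 (iv F1224)
def n1425 : Q := act 0 n1023
theorem D1425 : act 0 n1023 = n1425 := rfl
theorem F2326 : act 2 n1425 = n1027 := d1_2 (iv F1698) D1425 (iv D1027)
theorem F2327 : act 4 n1425 = n1094 := d3_2 (iv F1699) D1425 (iv D1094)
theorem F2328 : act 5 n1425 = n1252 := d4_2 F1700 D1425 F2050
def n1426 : Q := act 3 n1023
theorem D1426 : act 3 n1023 = n1426 := rfl
theorem F2329 : act 1 n1426 = n1024 := d6_1 D1426 (iv D1024) D1023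
theorem F2330 : act 5 n1426 = n1254 := d13_2 F1700 D1426 (iv D1254)
def n1427 : Q := act 2 n1024
theorem D1427 : act 2 n1024 = n1427 := rfl
def n1428 : Q := act 4 n1024
theorem D1428 : act 4 n1024 = n1428 := rfl
theorem F2331 : act 3 n1428 = n1097 := d12_1 D1428 (iv D1097) (iv D784) (iv F1228) D1024
def n1429 : Q := act 5 n1024
theorem D1429 : act 5 n1024 = n1429 := rfl
theorem F2332 : act 1 n1429 = n1254 := d8_1 D1429 (iv F2330) F2329
theorem F2333 : act 3 n1429 = n1025 := d13_1 D1429 (iv D1025) D1024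
def n1430 : Q := act 4 n1025
theorem D1430 : act 4 n1025 = n1430 := rfl
theorem F2334 : act 1 n1430 = n1174 := d7_1 D1430 F1929 (iv F1701)
theorem F2335 : act 2 n1430 = n1026 := d10_1 D1430 (iv D1026) (iv F1702)
theorem F2336 : act 5 n1430 = n1071 := d14_2 D1025 D1430 F1768 F1288 (iv F1228)
def n1431 : Q := act 1 n1028
theorem D1431 : act 1 n1028 = n1431 := rfl
theorem F2337 : act 2 n1431 = n1030 := d5_2 D1028 D1431 (iv D1030) (iv D737) (iv F1239)
theorem F2338 : act 4 n1431 = n1030 := d7_2 (iv F1711) D1431 (iv D1030)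
def n1432 : Q := act 3 n1028
theorem D1432 : act 3 n1028 = n1432 := rfl
theorem F2339 : act 0 n1432 = n1038 := d2_1 D1432 (iv D1038) (iv F1710)
def n1433 : Q := act 5 n1028
theorem D1433 : act 5 n1028 = n1433 := rfl
theorem F2340 : act 0 n1433 = n1039 := d4_1 D1433 (iv D1039) (iv F1710)
theorem F2341 : act 2 n1433 = n1029 := d11_1 D1433 (iv D1029) D1028
def n1434 : Q := act 4 n1029
theorem D1434 : act 4 n1029 = n1434 := rfl
theorem F2342 : act 0 n1434 = n1040 := d3_1 D1434 (iv D1040) (iv F1712)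
theorem F2343 : act 1 n1434 = n1031 := d7_1 D1434 (iv D1031) (iv F1713)
theorem F2344 : act 5 n1434 = n1031 := d14_2 D1029 D1434 (iv D1031) (iv D738) (iv F1240)
def n1435 : Q := act 0 n1030
theorem D1435 : act 0 n1030 = n1435 := rfl
theorem F2345 : act 1 n1435 = n1041 := d0_2 D1030 D1435 (iv D1041) (iv D745) (iv F1244)
def n1436 : Q := act 3 n1032
theorem D1436 : act 3 n1032 = n1436 := rfl
theorem F2346 : act 0 n1436 = n1033 := d2_1 D1436 (iv D1033) D1032
theorem F2347 : act 1 n1436 = n1046 := d6_1 D1436 (iv D1046) (iv F1716)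
def n1437 : Q := act 2 n1033
theorem D1437 : act 2 n1033 = n1437 := rfl
theorem F2348 : act 1 n1437 = n1262 := d5_1 D1437 (iv D1262) F1491 (iv F1249) (iv F1718)
def n1438 : Q := act 4 n1033
theorem D1438 : act 4 n1033 = n1438 := rfl
theorem F2349 : act 1 n1438 = n1034 := d7_1 D1438 (iv D1034) (iv F1718)
def n1439 : Q := act 5 n1034
theorem D1439 : act 5 n1034 = n1439 := rfl
theorem F2350 : act 0 n1439 = n1051 := d4_1 D1439 (iv D1051) (iv F1719)
theorem F2351 : act 2 n1439 = n1420 := d11_1 D1439 (iv D1420) (iv F1720)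
def n1440 : Q := act 1 n1035
theorem D1440 : act 1 n1035 = n1440 := rfl
theorem F2352 : act 2 n1440 = n1194 := d5_2 D1035 D1440 (iv D1194) (iv D853) (iv F1251)
theorem F2353 : act 4 n1440 = n1194 := d7_2 (iv F1722) D1440 (iv D1194)
def n1441 : Q := act 3 n1035
theorem D1441 : act 3 n1035 = n1441 := rfl
theorem F2354 : act 0 n1441 = n1176 := d2_1 D1441 (iv D1176) (iv F1721)
def n1442 : Q := act 5 n1035
theorem D1442 : act 5 n1035 = n1442 := rfl
theorem F2355 : act 0 n1442 = n1177 := d4_1 D1442 (iv D1177) (iv F1721)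
theorem F2356 : act 2 n1442 = n1036 := d11_1 D1442 (iv D1036) D1035
def n1443 : Q := act 4 n1036
theorem D1443 : act 4 n1036 = n1443 := rfl
theorem F2357 : act 0 n1443 = n1178 := d3_1 D1443 (iv D1178) (iv F1723)
theorem F2358 : act 1 n1443 = n1197 := d7_1 D1443 (iv D1197) (iv F1724)
theorem F2359 : act 3 n1443 = n1434 := d12_1 D1443 (iv D1434) F1714 (iv F1256) (iv F1725)
theorem F2360 : act 5 n1443 = n1197 := d14_2 D1036 D1443 (iv D1197) (iv D854) (iv F1252)
def n1444 : Q := act 0 n1037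
theorem D1444 : act 0 n1037 = n1444 := rfl
theorem F2361 : act 4 n1444 = n1041 := d3_2 (iv F1726) D1444 (iv D1041)
def n1445 : Q := act 3 n1037
theorem D1445 : act 3 n1037 = n1445 := rfl
theorem F2362 : act 1 n1445 = n1038 := d6_1 D1445 (iv D1038) D1037
def n1446 : Q := act 5 n1037
theorem D1446 : act 5 n1037 = n1446 := rfl
theorem F2363 : act 1 n1446 = n1039 := d8_1 D1446 (iv D1039) D1037
def n1447 : Q := act 2 n1038
theorem D1447 : act 2 n1038 = n1447 := rfl
theorem F2364 : act 3 n1447 = n1177 := d15_3 D743 D1038 D1447 F1932 F1410 (iv F1243) (iv F1714) (iv D1029) F1238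
theorem F2365 : act 5 n1176 = n1447 := d13_0 F2364 (iv D1177) D1176
def n1448 : Q := act 4 n1038
theorem D1448 : act 4 n1038 = n1448 := rfl
theorem F2366 : act 3 n1448 = n1044 := d12_1 D1448 (iv D1044) (iv D746) (iv F1257) D1038
def n1449 : Q := act 5 n1038
theorem D1449 : act 5 n1038 = n1449 := rfl
theorem F2367 : act 2 n1449 = n1176 := d11_1 D1449 F2365 (iv D1447)
theorem F2368 : act 3 n1449 = n1039 := d13_1 D1449 (iv D1039) D1038
def n1450 : Q := act 4 n1039
theorem D1450 : act 4 n1039 = n1450 := rfl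
theorem F2369 : act 2 n1450 = n1040 := d10_1 D1450 (iv D1040) (iv F1727)
theorem F2370 : act 5 n1450 = n1045 := d14_2 D1039 D1450 (iv D1045) (iv D747) (iv F1257)
def n1451 : Q := act 3 n1041
theorem D1451 : act 3 n1041 = n1451 := rfl
theorem F2371 : act 0 n1451 = n1042 := d2_1 D1451 (iv D1042) D1041
def n1452 : Q := act 5 n1041
theorem D1452 : act 5 n1041 = n1452 := rfl
theorem F2372 : act 0 n1452 = n1043 := d4_1 D1452 (iv D1043) D1041
def n1453 : Q := act 2 n1042
theorem D1453 : act 2 n1042 = n1453 := rfl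
def n1454 : Q := act 4 n1042
theorem D1454 : act 4 n1042 = n1454 := rfl
theorem F2373 : act 1 n1454 = n1044 := d7_1 D1454 (iv D1044) (iv F1729)
def n1455 : Q := act 4 n1043
theorem D1455 : act 4 n1043 = n1455 := rfl
theorem F2374 : act 1 n1455 = n1045 := d7_1 D1455 (iv D1045) (iv F1730)
def n1456 : Q := act 5 n1044
theorem D1456 : act 5 n1044 = n1456 := rfl
def n1457 : Q := act 3 n1045
theorem D1457 : act 3 n1045 = n1457 := rfl
def n1458 : Q := act 4 n1046
theorem D1458 : act 4 n1046 = n1458 := rfl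
theorem F2375 : act 0 n1458 = n1048 := d3_1 D1458 (iv D1048) (iv F1732)
def n1459 : Q := act 1 n1047
theorem D1459 : act 1 n1047 = n1459 := rfl
theorem F2376 : act 2 n1459 = n1049 := d5_2 D1047 D1459 (iv D1049) (iv D751) (iv F1261)
theorem F2377 : act 5 n1459 = n1437 := d8_2 F2070 D1459 F2348
def n1460 : Q := act 4 n1047
theorem D1460 : act 4 n1047 = n1460 := rfl
theorem F2378 : act 2 n1460 = n1048 := d10_1 D1460 (iv D1048) D1047
def n1461 : Q := act 5 n1048
theorem D1461 : act 5 n1048 = n1461 := rfl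
theorem F2379 : act 1 n1461 = n1051 := d8_1 D1461 (iv D1051) (iv F1733)
def n1462 : Q := act 0 n1049
theorem D1462 : act 0 n1049 = n1462 := rfl
theorem F2380 : act 1 n1462 = n1260 := d0_2 D1049 D1462 F2066 F1491 (iv F1262)
theorem F2381 : act 3 n1462 = n1259 := d2_2 (iv F1734) D1462 F2063
theorem F2382 : act 5 n1462 = n1436 := d4_2 (iv F1735) D1462 F2346
def n1463 : Q := act 4 n1049
theorem D1463 : act 4 n1049 = n1463 := rfl
theorem F2383 : act 1 n1463 = n1050 := d7_1 D1463 (iv D1050) D1049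
def n1464 : Q := act 3 n1050
theorem D1464 : act 3 n1050 = n1464 := rfl
theorem F2384 : act 0 n1464 = n1419 := d2_1 D1464 F2315 (iv F1736)
theorem F2385 : act 4 n1464 = n1390 := d12_2 D1050 D1464 (iv D1390) F1659 (iv F1264)
def n1465 : Q := act 5 n1050
theorem D1465 : act 5 n1050 = n1465 := rfl
theorem F2386 : act 0 n1465 = n1420 := d4_1 D1465 (iv D1420) (iv F1736)
theorem F2387 : act 2 n1465 = n1051 := d11_1 D1465 (iv D1051) (iv F1737)
theorem F2388 : act 4 n1465 = n1439 := d14_1 D1465 (iv D1439) (iv D1034) (iv F1263) D1050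
def n1466 : Q := act 4 n1052
theorem D1466 : act 4 n1052 = n1466 := rfl
theorem F2389 : act 0 n1466 = n1054 := d3_1 D1466 (iv D1054) D1052
theorem F2390 : act 1 n1466 = n1058 := d7_1 D1466 (iv D1058) (iv F1738)
def n1467 : Q := act 4 n1053
theorem D1467 : act 4 n1053 = n1467 := rfl
theorem F2391 : act 1 n1467 = n1055 := d7_1 D1467 (iv D1055) (iv F1740)
def n1468 : Q := act 3 n1054
theorem D1468 : act 3 n1054 = n1468 := rfl
theorem F2392 : act 1 n1468 = n1056 := d6_1 D1468 (iv D1056) (iv F1741)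
def n1469 : Q := act 5 n1054
theorem D1469 : act 5 n1054 = n1469 := rfl
theorem F2393 : act 1 n1469 = n1057 := d8_1 D1469 (iv D1057) (iv F1741)
def n1470 : Q := act 3 n1055
theorem D1470 : act 3 n1055 = n1470 := rfl
theorem F2394 : act 0 n1470 = n1067 := d2_1 D1470 (iv D1067) (iv F1742)
theorem F2395 : act 4 n1470 = n1056 := d12_2 D1055 D1470 (iv D1056) (iv D755) D754
def n1471 : Q := act 5 n1055
theorem D1471 : act 5 n1055 = n1471 := rfl
theorem F2396 : act 0 n1471 = n1068 := d4_1 D1471 (iv D1068) (iv F1742)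
def n1472 : Q := act 2 n1056
theorem D1472 : act 2 n1056 = n1472 := rfl
theorem F2397 : act 0 n1472 = n1069 := d1_1 D1472 (iv D1069) (iv F1743)
theorem F2398 : act 3 n1472 = n1092 := d15_1 D1472 F1801 F1311 F930 (iv F912) (iv F1283) (iv F1767) (iv D1070) (iv F1743)
theorem F2399 : act 5 n1091 = n1472 := d13_0 F2398 (iv D1092) D1091
def n1473 : Q := act 5 n1056
theorem D1473 : act 5 n1056 = n1473 := rfl
theorem F2400 : act 0 n1473 = n1070 := d4_1 D1473 (iv D1070) (iv F1743)
theorem F2401 : act 2 n1473 = n1091 := d11_1 D1473 F2399 (iv D1472)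
theorem F2402 : act 3 n1473 = n1057 := d13_1 D1473 (iv D1057) D1056
def n1474 : Q := act 4 n1057
theorem D1474 : act 4 n1057 = n1474 := rfl
theorem F2403 : act 0 n1474 = n1064 := d3_1 D1474 F1759 (iv F1744)
theorem F2404 : act 2 n1474 = n1059 := d10_1 D1474 (iv D1059) (iv F1745)
theorem F2405 : act 5 n1474 = n1058 := d14_2 D1057 D1474 (iv D1058) (iv D756) D755
def n1475 : Q := act 3 n1058
theorem D1475 : act 3 n1058 = n1475 := rfl
theorem F2406 : act 0 n1475 = n1063 := d2_1 D1475 (iv D1063) (iv F1746)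
def n1476 : Q := act 2 n1060
theorem D1476 : act 2 n1060 = n1476 := rfl
theorem F2407 : act 0 n1476 = n1071 := d1_1 D1476 (iv D1071) (iv F1750)
theorem F2408 : act 4 n1476 = n1061 := d10_2 (iv F1751) D1476 (iv D1061)
def n1477 : Q := act 1 n1061
theorem D1477 : act 1 n1061 = n1477 := rfl
theorem F2409 : act 5 n1477 = n1083 := d8_2 (iv F1753) D1477 (iv D1083)
def n1478 : Q := act 3 n1062
theorem D1478 : act 3 n1062 = n1478 := rfl
theorem F2410 : act 1 n1478 = n1067 := d6_1 D1478 (iv D1067) (iv F1754)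
theorem F2411 : act 4 n1478 = n1063 := d12_2 D1062 D1478 (iv D1063) (iv D761) D760
def n1479 : Q := act 5 n1062
theorem D1479 : act 5 n1062 = n1479 := rfl
theorem F2412 : act 1 n1479 = n1068 := d8_1 D1479 (iv D1068) (iv F1754)
theorem F2413 : act 2 n1479 = n1471 := d11_1 D1479 (iv D1471) (iv F1755)
theorem F2414 : act 4 n1479 = n1068 := d14_1 D1479 (iv D1068) (iv D763) (iv F1276) D1062
def n1480 : Q := act 2 n1063
theorem D1480 : act 2 n1063 = n1480 := rfl
def n1481 : Q := act 5 n1063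
theorem D1481 : act 5 n1063 = n1481 := rfl
theorem F2415 : act 1 n1481 = n1070 := d8_1 D1481 (iv D1070) (iv F1756)
theorem F2416 : act 3 n1481 = n1064 := d13_1 D1481 (iv D1064) D1063
def n1482 : Q := act 4 n1065
theorem D1482 : act 4 n1065 = n1482 := rfl
theorem F2417 : act 0 n1482 = n1467 := d3_1 D1482 (iv D1467) (iv F1760)
theorem F2418 : act 1 n1482 = n1066 := d7_1 D1482 (iv D1066) D1065
theorem F2419 : act 2 n1482 = n1467 := d10_1 D1482 (iv D1467) (iv F1761)
def n1483 : Q := act 3 n1066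
theorem D1483 : act 3 n1066 = n1483 := rfl
theorem F2420 : act 0 n1483 = n1478 := d2_1 D1483 (iv D1478) (iv F1764)
theorem F2421 : act 4 n1483 = n1475 := d12_2 D1066 D1483 (iv D1475) (iv D1058) (iv F1282)
def n1484 : Q := act 5 n1066
theorem D1484 : act 5 n1066 = n1484 := rfl
theorem F2422 : act 0 n1484 = n1479 := d4_1 D1484 (iv D1479) (iv F1764)
theorem F2423 : act 2 n1484 = n1068 := d11_1 D1484 (iv D1068) (iv F1765)
theorem F2424 : act 4 n1484 = n1471 := d14_1 D1484 (iv D1471) (iv D1055) (iv F1281) D1066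
def n1485 : Q := act 2 n1067
theorem D1485 : act 2 n1067 = n1485 := rfl
theorem F2425 : act 4 n1485 = n1069 := d10_2 (iv F1766) D1485 (iv D1069)
def n1486 : Q := act 5 n1067
theorem D1486 : act 5 n1067 = n1486 := rfl
theorem F2426 : act 3 n1486 = n1068 := d13_1 D1486 (iv D1068) D1067
def n1487 : Q := act 1 n1069
theorem D1487 : act 1 n1069 = n1487 := rfl
def n1488 : Q := act 3 n1069
theorem D1488 : act 3 n1069 = n1488 := rfl
theorem F2427 : act 0 n1488 = n1092 := d2_1 D1488 (iv F2398) F2397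
theorem F2428 : act 2 n1488 = n1082 := d9_1 D1488 F1788 F1302 (iv F1271) (iv F1745) (iv F2402) F2401 (iv D1091) (iv D781) (iv D548) F660 (iv F647) (iv F910) D764 D1069
theorem F2429 : act 5 n1488 = n1081 := d15_8 (iv D781) (iv D548) F660 (iv F647) (iv F910) D764 D1069 D1488 F1786
def n1489 : Q := act 5 n1069
theorem D1489 : act 5 n1069 = n1489 := rfl
theorem F2430 : act 0 n1489 = n1091 := d4_1 D1489 F2399 F2397
theorem F2431 : act 2 n1489 = n1070 := d11_1 D1489 (iv D1070) D1069
theorem F2432 : act 3 n1489 = n1081 := d13_1 D1489 (iv F2429) (iv D1488)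
def n1490 : Q := act 4 n1070
theorem D1490 : act 4 n1070 = n1490 := rfl
def n1491 : Q := act 1 n1071
theorem D1491 : act 1 n1071 = n1491 := rfl
theorem F2433 : act 2 n1491 = n1074 := d5_2 D1071 D1491 (iv D1074) (iv D769) (iv F1286)
theorem F2434 : act 4 n1491 = n1072 := d7_2 (iv F1768) D1491 (iv D1072)
theorem F2435 : act 5 n1491 = n1174 := d8_2 F2336 D1491 (iv F2334)
def n1492 : Q := act 3 n1071
theorem D1492 : act 3 n1071 = n1492 := rfl
def n1493 : Q := act 0 n1072
theorem D1493 : act 0 n1072 = n1493 := rfl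
theorem F2436 : act 2 n1493 = n1075 := d1_2 (iv F1769) D1493 (iv D1075)
theorem F2437 : act 5 n1493 = n1094 := d4_2 (iv F1770) D1493 (iv D1094)
def n1494 : Q := act 3 n1072
theorem D1494 : act 3 n1072 = n1494 := rfl
theorem F2438 : act 1 n1494 = n1073 := d6_1 D1494 (iv D1073) D1072
theorem F2439 : act 5 n1494 = n1095 := d13_2 (iv F1770) D1494 (iv D1095)
def n1495 : Q := act 4 n1073
theorem D1495 : act 4 n1073 = n1495 := rfl
def n1496 : Q := act 0 n1074
theorem D1496 : act 0 n1074 = n1496 := rfl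
theorem F2440 : act 3 n1496 = n1172 := d2_2 (iv F1772) D1496 (iv D1172)
theorem F2441 : act 4 n1496 = n1075 := d3_2 (iv F1773) D1496 (iv D1075)
theorem F2442 : act 5 n1496 = n1173 := d4_2 (iv F1774) D1496 F1927
def n1497 : Q := act 3 n1076
theorem D1497 : act 3 n1076 = n1497 := rfl
theorem F2443 : act 0 n1497 = n1399 := d2_1 D1497 (iv D1399) (iv F1777)
theorem F2444 : act 1 n1497 = n1079 := d6_1 D1497 (iv D1079) (iv F1778)
theorem F2445 : act 4 n1497 = n1077 := d12_2 D1076 D1497 (iv D1077) (iv D772) D771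
def n1498 : Q := act 5 n1076
theorem D1498 : act 5 n1076 = n1498 := rfl
theorem F2446 : act 0 n1498 = n1400 := d4_1 D1498 (iv D1400) (iv F1777)
theorem F2447 : act 1 n1498 = n1080 := d8_1 D1498 (iv D1080) (iv F1778)
theorem F2448 : act 2 n1498 = n1400 := d11_1 D1498 (iv D1400) (iv F1779)
def n1499 : Q := act 2 n1077
theorem D1499 : act 2 n1077 = n1499 := rfl
def n1500 : Q := act 5 n1077
theorem D1500 : act 5 n1077 = n1500 := rfl
theorem F2449 : act 1 n1500 = n1082 := d8_1 D1500 (iv D1082) (iv F1780)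
theorem F2450 : act 3 n1500 = n1078 := d13_1 D1500 (iv D1078) D1077
def n1501 : Q := act 2 n1079
theorem D1501 : act 2 n1079 = n1501 := rfl
theorem F2451 : act 0 n1501 = n1088 := d1_1 D1501 (iv D1088) (iv F1782)
theorem F2452 : act 4 n1501 = n1081 := d10_2 (iv F1783) D1501 (iv D1081)
def n1502 : Q := act 5 n1079
theorem D1502 : act 5 n1079 = n1502 := rfl
theorem F2453 : act 0 n1502 = n1089 := d4_1 D1502 (iv D1089) (iv F1782)
theorem F2454 : act 3 n1502 = n1080 := d13_1 D1502 (iv D1080) D1079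
def n1503 : Q := act 1 n1081
theorem D1503 : act 1 n1081 = n1503 := rfl
def n1504 : Q := act 4 n1082
theorem D1504 : act 4 n1082 = n1504 := rfl
theorem F2455 : act 0 n1504 = n1093 := d3_1 D1504 (iv D1093) (iv F1787)
def n1505 : Q := act 0 n1083
theorem D1505 : act 0 n1083 = n1505 := rfl
theorem F2456 : act 1 n1505 = n1094 := d0_2 D1083 D1505 (iv D1094) (iv D783) (iv F1303)
def n1506 : Q := act 3 n1083
theorem D1506 : act 3 n1083 = n1506 := rfl
theorem F2457 : act 1 n1506 = n1084 := d6_1 D1506 (iv D1084) D1083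
def n1507 : Q := act 4 n1084
theorem D1507 : act 4 n1084 = n1507 := rfl
theorem F2458 : act 0 n1507 = n1097 := d3_1 D1507 (iv D1097) (iv F1789)
theorem F2459 : act 2 n1507 = n1495 := d10_1 D1507 (iv D1495) (iv F1790)
def n1508 : Q := act 3 n1085
theorem D1508 : act 3 n1085 = n1508 := rfl
theorem F2460 : act 0 n1508 = n1377 := d2_1 D1508 (iv D1377) (iv F1791)
theorem F2461 : act 1 n1508 = n1086 := d6_1 D1508 (iv D1086) (iv F1792)
theorem F2462 : act 4 n1508 = n1375 := d12_2 D1085 D1508 (iv D1375) (iv D987) (iv F1306)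
def n1509 : Q := act 5 n1085
theorem D1509 : act 5 n1085 = n1509 := rfl
theorem F2463 : act 0 n1509 = n1378 := d4_1 D1509 (iv D1378) (iv F1791)
theorem F2464 : act 1 n1509 = n1087 := d8_1 D1509 (iv D1087) (iv F1792)
theorem F2465 : act 2 n1509 = n1378 := d11_1 D1509 (iv D1378) (iv F1793)
theorem F2466 : act 4 n1509 = n1498 := d14_1 D1509 (iv D1498) (iv D1076) (iv F1307) D1085
def n1510 : Q := act 2 n1086
theorem D1510 : act 2 n1086 = n1510 := rfl
theorem F2467 : act 0 n1510 = n1393 := d1_1 D1510 (iv D1393) (iv F1794)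
theorem F2468 : act 4 n1510 = n1391 := d10_2 (iv F1795) D1510 (iv D1391)
def n1511 : Q := act 5 n1086
theorem D1511 : act 5 n1086 = n1511 := rfl
theorem F2469 : act 0 n1511 = n1394 := d4_1 D1511 (iv D1394) (iv F1794)
theorem F2470 : act 3 n1511 = n1087 := d13_1 D1511 (iv D1087) D1086
def n1512 : Q := act 1 n1088
theorem D1512 : act 1 n1088 = n1512 := rfl
theorem F2471 : act 4 n1512 = n1090 := d7_2 (iv F1799) D1512 (iv D1090)
def n1513 : Q := act 3 n1088
theorem D1513 : act 3 n1088 = n1513 := rfl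
def n1514 : Q := act 5 n1088
theorem D1514 : act 5 n1088 = n1514 := rfl
theorem F2472 : act 2 n1514 = n1089 := d11_1 D1514 (iv D1089) D1088
def n1515 : Q := act 4 n1089
theorem D1515 : act 4 n1089 = n1515 := rfl
theorem F2473 : act 5 n1515 = n1093 := d14_2 D1089 D1515 (iv D1093) (iv D782) (iv F1310)
def n1516 : Q := act 0 n1090
theorem D1516 : act 0 n1090 = n1516 := rfl
def n1517 : Q := act 3 n1090
theorem D1517 : act 3 n1090 = n1517 := rfl
theorem F2474 : act 1 n1517 = n1091 := d6_1 D1517 (iv D1091) D1090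
def n1518 : Q := act 5 n1090
theorem D1518 : act 5 n1090 = n1518 := rfl
theorem F2475 : act 1 n1518 = n1092 := d8_1 D1518 (iv D1092) D1090
def n1519 : Q := act 4 n1091
theorem D1519 : act 4 n1091 = n1519 := rfl
def n1520 : Q := act 4 n1092
theorem D1520 : act 4 n1092 = n1520 := rfl
theorem F2476 : act 2 n1520 = n1093 := d10_1 D1520 (iv D1093) (iv F1801)
def n1521 : Q := act 3 n1094
theorem D1521 : act 3 n1094 = n1521 := rfl
theorem F2477 : act 0 n1521 = n1095 := d2_1 D1521 (iv D1095) D1094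
def n1522 : Q := act 2 n1095
theorem D1522 : act 2 n1095 = n1522 := rfl
def n1523 : Q := act 4 n1095
theorem D1523 : act 4 n1095 = n1523 := rfl
theorem F2478 : act 1 n1523 = n1097 := d7_1 D1523 (iv D1097) (iv F1803)
def n1524 : Q := act 1 n1096
theorem D1524 : act 1 n1096 = n1524 := rfl
theorem F2479 : act 3 n1524 = n1477 := d6_2 (iv F1806) D1524 (iv D1477)
theorem F2480 : act 5 n1524 = n1506 := d8_2 (iv F1805) D1524 F2457
def n1525 : Q := act 4 n1096
theorem D1525 : act 4 n1096 = n1525 := rfl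
theorem F2481 : act 0 n1525 = n1495 := d3_1 D1525 (iv D1495) (iv F1804)
theorem F2482 : act 2 n1525 = n1097 := d10_1 D1525 (iv D1097) D1096
def n1526 : Q := act 5 n1097
theorem D1526 : act 5 n1097 = n1526 := rfl
def n1527 : Q := act 2 n1098
theorem D1527 : act 2 n1098 = n1527 := rfl
theorem F2483 : act 0 n1527 = n1099 := d1_1 D1527 (iv D1099) (iv F1807)
theorem F2484 : act 5 n1527 = n1371 := d11_2 (iv F1809) D1527 F2244
def n1528 : Q := act 4 n1098
theorem D1528 : act 4 n1098 = n1528 := rfl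
theorem F2485 : act 0 n1528 = n1100 := d3_1 D1528 (iv D1100) (iv F1807)
theorem F2486 : act 1 n1528 = n1496 := d7_1 D1528 F2441 (iv F1808)
theorem F2487 : act 3 n1528 = n1253 := d12_1 D1528 (iv D1253) (iv F1707) F1708 D1098
theorem F2488 : act 5 n1528 = n1256 := d14_2 (iv F1809) D1528 (iv D1256) F1482 (iv F1634)
def n1529 : Q := act 3 n1099
theorem D1529 : act 3 n1099 = n1529 := rfl
theorem F2489 : act 1 n1529 = n1354 := d6_1 D1529 (iv D1354) (iv F1810)
theorem F2490 : act 5 n1529 = n1372 := d13_2 (iv F1811) D1529 (iv D1372)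
def n1530 : Q := act 4 n1099
theorem D1530 : act 4 n1099 = n1530 := rfl
theorem F2491 : act 1 n1530 = n1353 := d7_1 D1530 F2211 (iv F1810)
theorem F2492 : act 2 n1530 = n1100 := d10_1 D1530 (iv D1100) D1099
theorem F2493 : act 5 n1530 = n1258 := d14_2 (iv F1811) D1530 (iv D1258) F1484 (iv F1632)
def n1531 : Q := act 3 n1101
theorem D1531 : act 3 n1101 = n1531 := rfl
theorem F2494 : act 0 n1531 = n1104 := d2_1 D1531 (iv D1104) (iv F1815)
theorem F2495 : act 1 n1531 = n1120 := d6_1 D1531 (iv D1120) (iv F1816)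
theorem F2496 : act 4 n1531 = n1102 := d12_2 D1101 D1531 (iv D1102) (iv D789) D788
def n1532 : Q := act 5 n1101
theorem D1532 : act 5 n1101 = n1532 := rfl
theorem F2497 : act 0 n1532 = n1105 := d4_1 D1532 (iv D1105) (iv F1815)
theorem F2498 : act 1 n1532 = n1121 := d8_1 D1532 (iv D1121) (iv F1816)
theorem F2499 : act 2 n1532 = n1281 := d11_1 D1532 (iv D1281) (iv F1817)
theorem F2500 : act 4 n1532 = n1281 := d14_1 D1532 (iv D1281) (iv D918) (iv F1322) D1101
def n1533 : Q := act 2 n1102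
theorem D1533 : act 2 n1102 = n1533 := rfl
theorem F2501 : act 0 n1533 = n1106 := d1_1 D1533 (iv D1106) (iv F1818)
def n1534 : Q := act 5 n1102
theorem D1534 : act 5 n1102 = n1534 := rfl
theorem F2502 : act 0 n1534 = n1107 := d4_1 D1534 (iv D1107) (iv F1818)
theorem F2503 : act 1 n1534 = n1123 := d8_1 D1534 (iv D1123) (iv F1819)
theorem F2504 : act 3 n1534 = n1103 := d13_1 D1534 (iv D1103) D1102
def n1535 : Q := act 2 n1104
theorem D1535 : act 2 n1104 = n1535 := rfl
theorem F2505 : act 4 n1535 = n1106 := d10_2 (iv F1823) D1535 (iv D1106)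
def n1536 : Q := act 5 n1104
theorem D1536 : act 5 n1104 = n1536 := rfl
theorem F2506 : act 1 n1536 = n1111 := d8_1 D1536 (iv D1111) (iv F1822)
theorem F2507 : act 3 n1536 = n1105 := d13_1 D1536 (iv D1105) D1104
def n1537 : Q := act 1 n1106
theorem D1537 : act 1 n1106 = n1537 := rfl
theorem F2508 : act 2 n1537 = n1112 := d5_2 D1106 D1537 (iv D1112) (iv D796) (iv F1327)
theorem F2509 : act 5 n1207 = n1537 := d11_0 F2508 F1838 D1207
def n1538 : Q := act 3 n1106
theorem D1538 : act 3 n1106 = n1538 := rfl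
def n1539 : Q := act 5 n1106
theorem D1539 : act 5 n1106 = n1539 := rfl
theorem F2510 : act 1 n1539 = n1207 := d8_1 D1539 F2509 (iv D1537)
theorem F2511 : act 2 n1539 = n1107 := d11_1 D1539 (iv D1107) D1106
def n1540 : Q := act 4 n1107
theorem D1540 : act 4 n1107 = n1540 := rfl
theorem F2512 : act 1 n1540 = n1113 := d7_1 D1540 (iv D1113) (iv F1827)
def n1541 : Q := act 3 n1108
theorem D1541 : act 3 n1108 = n1541 := rfl
theorem F2513 : act 1 n1541 = n1114 := d6_1 D1541 (iv D1114) (iv F1829)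
theorem F2514 : act 5 n1541 = n1109 := d13_2 (iv F1830) D1541 (iv D1109)
def n1542 : Q := act 2 n1109
theorem D1542 : act 2 n1109 = n1542 := rfl
theorem F2515 : act 4 n1542 = n1282 := d10_2 (iv F1832) D1542 (iv D1282)
def n1543 : Q := act 1 n1110
theorem D1543 : act 1 n1110 = n1543 := rfl
theorem F2516 : act 4 n1543 = n1112 := d7_2 (iv F1834) D1543 (iv D1112)
def n1544 : Q := act 3 n1110
theorem D1544 : act 3 n1110 = n1544 := rfl
theorem F2517 : act 0 n1544 = n1138 := d2_1 D1544 (iv D1138) (iv F1833)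
theorem F2518 : act 4 n1544 = n1211 := d12_2 (iv F1834) D1544 (iv D1211) (iv D863) (iv F1336)
def n1545 : Q := act 5 n1110
theorem D1545 : act 5 n1110 = n1545 := rfl
theorem F2519 : act 0 n1545 = n1139 := d4_1 D1545 (iv D1139) (iv F1833)
theorem F2520 : act 2 n1545 = n1111 := d11_1 D1545 (iv D1111) D1110
theorem F2521 : act 4 n1545 = n1210 := d14_1 D1545 (iv D1210) (iv D862) F1337 (iv F1834)
def n1546 : Q := act 4 n1111
theorem D1546 : act 4 n1111 = n1546 := rfl
theorem F2522 : act 0 n1546 = n1140 := d3_1 D1546 (iv D1140) (iv F1835)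
theorem F2523 : act 2 n1546 = n1210 := d10_1 D1546 (iv F2521) F2520
theorem F2524 : act 3 n1546 = n1287 := d12_1 D1546 (iv D1287) F1522 (iv F1334) (iv F1836)
theorem F2525 : act 5 n1546 = n1113 := d14_2 D1111 D1546 (iv D1113) (iv D797) (iv F1331)
def n1547 : Q := act 0 n1112
theorem D1547 : act 0 n1112 = n1547 := rfl
theorem F2526 : act 1 n1547 = n1143 := d0_2 D1112 D1547 (iv D1143) (iv D819) (iv F1335)
theorem F2527 : act 3 n1547 = n1206 := d2_2 (iv F1837) D1547 F1991
theorem F2528 : act 5 n1547 = n1205 := d4_2 (iv F1838) D1547 F1990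
def n1548 : Q := act 3 n1113
theorem D1548 : act 3 n1113 = n1548 := rfl
theorem F2529 : act 0 n1548 = n1148 := d2_1 D1548 (iv D1148) (iv F1839)
theorem F2530 : act 4 n1548 = n1114 := d12_2 D1113 D1548 (iv D1114) (iv D798) (iv F1340)
theorem F2531 : act 5 n1548 = n1287 := d13_2 F2525 D1548 (iv F2524)
def n1549 : Q := act 2 n1114
theorem D1549 : act 2 n1114 = n1549 := rfl
theorem F2532 : act 0 n1549 = n1149 := d1_1 D1549 (iv D1149) (iv F1841)
theorem F2533 : act 5 n1549 = n1115 := d11_2 (iv F1842) D1549 (iv D1115)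
theorem F2534 : act 3 n1549 = n1156 := d15_1 D1549 (iv D1156) (iv D827) (iv D580) (iv D401) (iv F687) D578 (iv F1386) (iv F1841)
def n1550 : Q := act 1 n1115
theorem D1550 : act 1 n1115 = n1550 := rfl
theorem F2535 : act 4 n1550 = n1284 := d7_2 (iv F1844) D1550 (iv D1284)
def n1551 : Q := act 3 n1115
theorem D1551 : act 3 n1115 = n1551 := rfl
theorem F2536 : act 0 n1551 = n1151 := d2_1 D1551 (iv D1151) (iv F1843)
theorem F2537 : act 5 n1551 = n1156 := d13_2 F2533 D1551 (iv F2534)
theorem F2538 : act 2 n1551 = n1153 := d15_2 D1115 D1551 (iv D1153) (iv D825) (iv D579) (iv F971) D823 F1386 (iv F1344)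
def n1552 : Q := act 1 n1116
theorem D1552 : act 1 n1116 = n1552 := rfl
theorem F2539 : act 4 n1552 = n1184 := d7_2 (iv F1846) D1552 (iv D1184)
theorem F2540 : act 5 n1552 = n1117 := d8_2 (iv F1847) D1552 (iv D1117)
def n1553 : Q := act 3 n1116
theorem D1553 : act 3 n1116 = n1553 := rfl
theorem F2541 : act 0 n1553 = n1153 := d2_1 D1553 (iv D1153) (iv F1845)
theorem F2542 : act 2 n1553 = n1151 := d9_1 D1553 (iv D1151) (iv D824) (iv D578) F687 D401 D580 D827 D1156 (iv F2534) (iv D1549) (iv D1114) F1342 D800 D1116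
theorem F2543 : act 5 n1553 = n1118 := d13_2 (iv F1847) D1553 (iv D1118)
def n1554 : Q := act 0 n1117
theorem D1554 : act 0 n1117 = n1554 := rfl
theorem F2544 : act 1 n1554 = n1154 := d0_2 D1117 D1554 (iv D1154) (iv D826) (iv F1349)
theorem F2545 : act 4 n1554 = n1119 := d3_2 (iv F1848) D1554 (iv D1119)
def n1555 : Q := act 3 n1117
theorem D1555 : act 3 n1117 = n1555 := rfl
theorem F2546 : act 1 n1555 = n1118 := d6_1 D1555 (iv D1118) D1117
theorem F2547 : act 4 n1555 = n1289 := d12_2 (iv F1848) D1555 (iv D1289) F1523 (iv F1351)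
def n1556 : Q := act 2 n1118
theorem D1556 : act 2 n1118 = n1556 := rfl
theorem F2548 : act 0 n1556 = n1156 := d1_1 D1556 (iv D1156) (iv F1849)
theorem F2549 : act 3 n1556 = n1149 := d9_2 D1118 D1556 (iv D1149) (iv D823) F971 D579 D825 D1153 (iv F2538) (iv D1551) (iv D1115) (iv D799) F947 D562 D801
theorem F2550 : act 4 n1556 = n1291 := d10_2 (iv F1850) D1556 (iv D1291)
theorem F2551 : act 5 n1556 = n1151 := d11_2 F2543 D1556 (iv F2542)
def n1557 : Q := act 2 n1120
theorem D1557 : act 2 n1120 = n1557 := rfl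
theorem F2552 : act 0 n1557 = n1127 := d1_1 D1557 (iv D1127) (iv F1854)
theorem F2553 : act 4 n1557 = n1122 := d10_2 (iv F1855) D1557 (iv D1122)
def n1558 : Q := act 5 n1120
theorem D1558 : act 5 n1120 = n1558 := rfl
theorem F2554 : act 0 n1558 = n1128 := d4_1 D1558 (iv D1128) (iv F1854)
theorem F2555 : act 3 n1558 = n1121 := d13_1 D1558 (iv D1121) D1120
def n1559 : Q := act 1 n1122
theorem D1559 : act 1 n1122 = n1559 := rfl
def n1560 : Q := act 3 n1122
theorem D1560 : act 3 n1122 = n1560 := rfl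
theorem F2556 : act 0 n1560 = n1130 := d2_1 D1560 (iv D1130) (iv F1857)
theorem F2557 : act 2 n1560 = n1170 := d15_2 D1122 D1560 F1923 F1401 F985 (iv F961) (iv F1365) (iv D811) (iv F1354)
theorem F2558 : act 5 n1168 = n1560 := d11_0 F2557 (iv D1170) D1168
def n1561 : Q := act 5 n1122
theorem D1561 : act 5 n1122 = n1561 := rfl
theorem F2559 : act 0 n1561 = n1131 := d4_1 D1561 (iv D1131) (iv F1857)
theorem F2560 : act 2 n1561 = n1123 := d11_1 D1561 (iv D1123) D1122
theorem F2561 : act 3 n1561 = n1168 := d13_1 D1561 F2558 (iv D1560)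
def n1562 : Q := act 4 n1123
theorem D1562 : act 4 n1123 = n1562 := rfl
theorem F2562 : act 0 n1562 = n1132 := d3_1 D1562 (iv D1132) (iv F1858)
def n1563 : Q := act 3 n1124
theorem D1563 : act 3 n1124 = n1563 := rfl
theorem F2563 : act 0 n1563 = n1267 := d2_1 D1563 (iv D1267) (iv F1860)
theorem F2564 : act 1 n1563 = n1125 := d6_1 D1563 (iv D1125) (iv F1861)
def n1564 : Q := act 5 n1124
theorem D1564 : act 5 n1124 = n1564 := rfl
theorem F2565 : act 0 n1564 = n1268 := d4_1 D1564 (iv D1268) (iv F1860)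
theorem F2566 : act 1 n1564 = n1126 := d8_1 D1564 (iv D1126) (iv F1861)
theorem F2567 : act 2 n1564 = n1134 := d11_1 D1564 (iv D1134) (iv F1862)
theorem F2568 : act 4 n1564 = n1268 := d14_1 D1564 (iv D1268) (iv D906) (iv F1358) D1124
def n1565 : Q := act 2 n1125
theorem D1565 : act 2 n1125 = n1565 := rfl
def n1566 : Q := act 5 n1125
theorem D1566 : act 5 n1125 = n1566 := rfl
theorem F2569 : act 3 n1566 = n1126 := d13_1 D1566 (iv D1126) D1125
def n1567 : Q := act 1 n1127
theorem D1567 : act 1 n1127 = n1567 := rfl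
theorem F2570 : act 2 n1567 = n1137 := d5_2 D1127 D1567 (iv D1137) (iv D815) (iv F1361)
theorem F2571 : act 4 n1567 = n1129 := d7_2 (iv F1864) D1567 (iv D1129)
def n1568 : Q := act 3 n1127
theorem D1568 : act 3 n1127 = n1568 := rfl
def n1569 : Q := act 5 n1127
theorem D1569 : act 5 n1127 = n1569 := rfl
theorem F2572 : act 2 n1569 = n1128 := d11_1 D1569 (iv D1128) D1127
def n1570 : Q := act 4 n1128
theorem D1570 : act 4 n1128 = n1570 := rfl
theorem F2573 : act 1 n1570 = n1140 := d7_1 D1570 (iv D1140) (iv F1865)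
theorem F2574 : act 5 n1570 = n1132 := d14_2 D1128 D1570 (iv D1132) (iv D811) (iv F1362)
def n1571 : Q := act 0 n1129
theorem D1571 : act 0 n1129 = n1571 := rfl
theorem F2575 : act 2 n1571 = n1143 := d1_2 (iv F1867) D1571 (iv D1143)
def n1572 : Q := act 3 n1129
theorem D1572 : act 3 n1129 = n1572 := rfl
theorem F2576 : act 1 n1572 = n1130 := d6_1 D1572 (iv D1130) D1129
def n1573 : Q := act 5 n1129
theorem D1573 : act 5 n1129 = n1573 := rfl
theorem F2577 : act 1 n1573 = n1131 := d8_1 D1573 (iv D1131) D1129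
theorem F2578 : act 2 n1573 = n1145 := d11_1 D1573 (iv D1145) (iv F1867)
def n1574 : Q := act 2 n1130
theorem D1574 : act 2 n1130 = n1574 := rfl
theorem F2579 : act 0 n1574 = n1170 := d1_1 D1574 (iv F2557) F2556
theorem F2580 : act 3 n1574 = n1164 := d9_2 D1130 D1574 F1919 F1399 (iv F1356) (iv F1859) (iv F2560) F2561 (iv D1168) (iv D834) (iv D585) (iv D404) (iv F679) D568 D810
theorem F2581 : act 5 n1163 = n1574 := d13_0 F2580 (iv D1164) D1163
def n1575 : Q := act 4 n1130
theorem D1575 : act 4 n1130 = n1575 := rfl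
def n1576 : Q := act 5 n1130
theorem D1576 : act 5 n1130 = n1576 := rfl
theorem F2582 : act 0 n1576 = n1168 := d4_1 D1576 F2558 F2556
theorem F2583 : act 2 n1576 = n1163 := d11_1 D1576 F2581 (iv D1574)
theorem F2584 : act 3 n1576 = n1131 := d13_1 D1576 (iv D1131) D1130
def n1577 : Q := act 4 n1131
theorem D1577 : act 4 n1131 = n1577 := rfl
theorem F2585 : act 2 n1577 = n1132 := d10_1 D1577 (iv D1132) (iv F1868)
def n1578 : Q := act 2 n1133
theorem D1578 : act 2 n1133 = n1578 := rfl
theorem F2586 : act 0 n1578 = n1269 := d1_1 D1578 (iv D1269) (iv F1870)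
theorem F2587 : act 4 n1578 = n1265 := d10_2 (iv F1872) D1578 (iv D1265)
def n1579 : Q := act 5 n1133
theorem D1579 : act 5 n1133 = n1579 := rfl
theorem F2588 : act 0 n1579 = n1270 := d4_1 D1579 (iv D1270) (iv F1870)
theorem F2589 : act 1 n1579 = n1136 := d8_1 D1579 (iv D1136) (iv F1871)
theorem F2590 : act 3 n1579 = n1134 := d13_1 D1579 (iv D1134) D1133
def n1580 : Q := act 1 n1135
theorem D1580 : act 1 n1135 = n1580 := rfl
theorem F2591 : act 4 n1580 = n1273 := d7_2 (iv F1877) D1580 (iv D1273)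
def n1581 : Q := act 3 n1135
theorem D1581 : act 3 n1135 = n1581 := rfl
theorem F2592 : act 0 n1581 = n1275 := d2_1 D1581 (iv D1275) (iv F1876)
theorem F2593 : act 4 n1581 = n1275 := d12_2 (iv F1877) D1581 (iv D1275) F1512 (iv F1511)
def n1582 : Q := act 5 n1135
theorem D1582 : act 5 n1135 = n1582 := rfl
theorem F2594 : act 0 n1582 = n1276 := d4_1 D1582 (iv D1276) (iv F1876)
theorem F2595 : act 2 n1582 = n1136 := d11_1 D1582 (iv D1136) D1135
def n1583 : Q := act 4 n1136
theorem D1583 : act 4 n1136 = n1583 := rfl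
theorem F2596 : act 0 n1583 = n1277 := d3_1 D1583 (iv D1277) (iv F1878)
theorem F2597 : act 3 n1583 = n1235 := d12_1 D1583 F2025 F1507 (iv F1372) (iv F1879)
theorem F2598 : act 5 n1583 = n1234 := d14_2 D1136 D1583 F2022 F1509 (iv F1369)
def n1584 : Q := act 0 n1137
theorem D1584 : act 0 n1137 = n1584 := rfl
theorem F2599 : act 4 n1584 = n1143 := d3_2 (iv F1880) D1584 (iv D1143)
def n1585 : Q := act 3 n1137
theorem D1585 : act 3 n1137 = n1585 := rfl
theorem F2600 : act 1 n1585 = n1138 := d6_1 D1585 (iv D1138) D1137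
def n1586 : Q := act 5 n1137
theorem D1586 : act 5 n1137 = n1586 := rfl
theorem F2601 : act 1 n1586 = n1139 := d8_1 D1586 (iv D1139) D1137
def n1587 : Q := act 2 n1138
theorem D1587 : act 2 n1138 = n1587 := rfl
theorem F2602 : act 3 n1587 = n1276 := d15_3 D815 D1138 D1587 F2085 F1514 (iv F1333) (iv F1836) (iv D1111) F1330
theorem F2603 : act 5 n1275 = n1587 := d13_0 F2602 (iv D1276) D1275
def n1588 : Q := act 4 n1138
theorem D1588 : act 4 n1138 = n1588 := rfl
theorem F2604 : act 0 n1588 = n1211 := d3_1 D1588 (iv F2518) F2517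
theorem F2605 : act 3 n1588 = n1146 := d12_1 D1588 (iv D1146) (iv D820) (iv F1373) D1138
theorem F2606 : act 5 n1211 = n1588 := d13_0 F2605 F1893 D1211
def n1589 : Q := act 5 n1138
theorem D1589 : act 5 n1138 = n1589 := rfl
theorem F2607 : act 2 n1589 = n1275 := d11_1 D1589 F2603 (iv D1587)
theorem F2608 : act 3 n1589 = n1139 := d13_1 D1589 (iv D1139) D1138
def n1590 : Q := act 4 n1139
theorem D1590 : act 4 n1139 = n1590 := rfl
theorem F2609 : act 0 n1590 = n1210 := d3_1 D1590 (iv F2521) F2519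
theorem F2610 : act 2 n1590 = n1140 := d10_1 D1590 (iv D1140) (iv F1881)
theorem F2611 : act 5 n1590 = n1147 := d14_2 D1139 D1590 (iv D1147) (iv D821) (iv F1373)
theorem F2612 : act 3 n1210 = n1590 := d13_3 F2611 F1896 D1210
def n1591 : Q := act 3 n1140
theorem D1591 : act 3 n1140 = n1591 := rfl
theorem F2613 : act 0 n1591 = n1287 := d2_1 D1591 (iv F2524) F2522
theorem F2614 : act 4 n1591 = n1141 := d12_2 D1140 D1591 (iv D1141) (iv D817) (iv F1374)
theorem F2615 : act 5 n1591 = n1148 := d13_2 (iv F1882) D1591 (iv D1148)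
def n1592 : Q := act 2 n1141
theorem D1592 : act 2 n1141 = n1592 := rfl
theorem F2616 : act 0 n1592 = n1286 := d1_1 D1592 F2095 (iv F1883)
theorem F2617 : act 5 n1592 = n1142 := d11_2 (iv F1884) D1592 (iv D1142)
theorem F2618 : act 3 n1592 = n1291 := d15_1 D1592 (iv D1291) (iv D924) (iv D654) (iv D456) (iv F776) D652 D922 (iv F1883)
def n1593 : Q := act 1 n1142
theorem D1593 : act 1 n1142 = n1593 := rfl
theorem F2619 : act 4 n1593 = n1150 := d7_2 (iv F1886) D1593 (iv D1150)
def n1594 : Q := act 3 n1142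
theorem D1594 : act 3 n1142 = n1594 := rfl
theorem F2620 : act 0 n1594 = n1285 := d2_1 D1594 (iv D1285) (iv F1885)
theorem F2621 : act 5 n1594 = n1291 := d13_2 F2617 D1594 (iv F2618)
theorem F2622 : act 2 n1594 = n1292 := d15_2 D1142 D1594 F2099 F1524 F1086 (iv F1084) (iv F1522) (iv D922) (iv F1378)
def n1595 : Q := act 3 n1143
theorem D1595 : act 3 n1143 = n1595 := rfl
theorem F2623 : act 0 n1595 = n1144 := d2_1 D1595 (iv D1144) D1143
theorem F2624 : act 1 n1595 = n1206 := d6_1 D1595 (iv F2527) F2526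
theorem F2625 : act 5 n1179 = n1595 := d8_0 F2624 (iv D1206) (iv F1936)
def n1596 : Q := act 5 n1143
theorem D1596 : act 5 n1143 = n1596 := rfl
theorem F2626 : act 0 n1596 = n1145 := d4_1 D1596 (iv D1145) D1143
theorem F2627 : act 1 n1596 = n1205 := d8_1 D1596 (iv F2528) F2526
theorem F2628 : act 3 n1596 = n1179 := d13_1 D1596 F2625 (iv D1595)
def n1597 : Q := act 2 n1144
theorem D1597 : act 2 n1144 = n1597 := rfl
theorem F2629 : act 1 n1597 = n1177 := d5_1 D1597 F1932 F1409 (iv F1381) (iv F1887)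
theorem F2630 : act 5 n1597 = n1175 := d11_2 F1888 D1597 F1930
def n1598 : Q := act 4 n1144
theorem D1598 : act 4 n1144 = n1598 := rfl
theorem F2631 : act 1 n1598 = n1146 := d7_1 D1598 (iv D1146) (iv F1887)
theorem F2632 : act 5 n1598 = n1209 := d14_2 F1888 D1598 (iv D1209) (iv D861) (iv F1411)
def n1599 : Q := act 4 n1145
theorem D1599 : act 4 n1145 = n1599 := rfl
theorem F2633 : act 1 n1599 = n1147 := d7_1 D1599 (iv D1147) (iv F1889)
theorem F2634 : act 3 n1599 = n1208 := d12_1 D1599 (iv D1208) (iv D860) (iv F1411) (iv F1890)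
def n1600 : Q := act 2 n1148
theorem D1600 : act 2 n1148 = n1600 := rfl
theorem F2635 : act 4 n1600 = n1149 := d10_2 (iv F1897) D1600 (iv D1149)
def n1601 : Q := act 1 n1149
theorem D1601 : act 1 n1149 = n1601 := rfl
theorem F2636 : act 5 n1601 = n1150 := d8_2 (iv F1898) D1601 (iv D1150)
def n1602 : Q := act 0 n1150
theorem D1602 : act 0 n1150 = n1602 := rfl
def n1603 : Q := act 3 n1150
theorem D1603 : act 3 n1150 = n1603 := rfl
theorem F2637 : act 1 n1603 = n1151 := d6_1 D1603 (iv D1151) D1150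
def n1604 : Q := act 4 n1151
theorem D1604 : act 4 n1151 = n1604 := rfl
def n1605 : Q := act 0 n1152
theorem D1605 : act 0 n1152 = n1605 := rfl
theorem F2638 : act 2 n1605 = n1172 := d1_2 (iv F1899) D1605 (iv D1172)
theorem F2639 : act 4 n1605 = n1217 := d3_2 (iv F1900) D1605 (iv D1217)
theorem F2640 : act 5 n1605 = n1154 := d4_2 (iv F1901) D1605 (iv D1154)
def n1606 : Q := act 3 n1152
theorem D1606 : act 3 n1152 = n1606 := rfl
theorem F2641 : act 1 n1606 = n1153 := d6_1 D1606 (iv D1153) D1152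
theorem F2642 : act 5 n1606 = n1155 := d13_2 (iv F1901) D1606 (iv D1155)
def n1607 : Q := act 4 n1153
theorem D1607 : act 4 n1153 = n1607 := rfl
theorem F2643 : act 3 n1607 = n1219 := d12_1 D1607 (iv D1219) (iv D869) (iv F1387) D1153
def n1608 : Q := act 3 n1154
theorem D1608 : act 3 n1154 = n1608 := rfl
theorem F2644 : act 0 n1608 = n1155 := d2_1 D1608 (iv D1155) D1154
def n1609 : Q := act 2 n1155
theorem D1609 : act 2 n1155 = n1609 := rfl
def n1610 : Q := act 4 n1155
theorem D1610 : act 4 n1155 = n1610 := rfl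
theorem F2645 : act 1 n1610 = n1157 := d7_1 D1610 (iv D1157) (iv F1905)
theorem F2646 : act 3 n1610 = n1160 := d12_1 D1610 (iv D1160) (iv D829) (iv F1390) D1155
def n1611 : Q := act 1 n1156
theorem D1611 : act 1 n1156 = n1611 := rfl
def n1612 : Q := act 4 n1156
theorem D1612 : act 4 n1156 = n1612 := rfl
theorem F2647 : act 0 n1612 = n1291 := d3_1 D1612 (iv F2550) F2548
theorem F2648 : act 2 n1612 = n1157 := d10_1 D1612 (iv D1157) D1156
theorem F2649 : act 3 n1286 = n1612 := d9_0 F2648 F1907 F1396 (iv D642) (iv F969) D818 D1142 D1594 F2622 F2099 F1524 F1086 (iv F1084) (iv F1522) (iv F2095)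
theorem F2650 : act 5 n1612 = n1285 := d13_2 D1286 F2649 (iv D1285)
def n1613 : Q := act 5 n1157
theorem D1613 : act 5 n1157 = n1613 := rfl
theorem F2651 : act 0 n1613 = n1292 := d4_1 D1613 (iv D1292) (iv F1906)
theorem F2652 : act 2 n1613 = n1285 := d11_1 D1613 (iv F2650) F2648
theorem F2653 : act 3 n1613 = n1161 := d13_1 D1613 (iv D1161) (iv F1907)
def n1614 : Q := act 2 n1158
theorem D1614 : act 2 n1158 = n1614 := rfl
theorem F2654 : act 0 n1614 = n1159 := d1_1 D1614 (iv D1159) (iv F1908)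
theorem F2655 : act 3 n1614 = n1262 := d9_2 D1158 D1614 (iv D1262) (iv D901) (iv D635) (iv D441) (iv F729) D617 D875 D1229 F2014 (iv D1046) F1260 (iv F990) (iv F1391)
theorem F2656 : act 5 n1614 = n1226 := d11_2 (iv F1910) D1614 (iv D1226)
def n1615 : Q := act 4 n1158
theorem D1615 : act 4 n1158 = n1615 := rfl
theorem F2657 : act 0 n1615 = n1160 := d3_1 D1615 (iv D1160) (iv F1908)
theorem F2658 : act 1 n1615 = n1288 := d7_1 D1615 F2096 (iv F1909)
def n1616 : Q := act 3 n1159
theorem D1616 : act 3 n1159 = n1616 := rfl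
theorem F2659 : act 0 n1616 = n1262 := d2_1 D1616 (iv F2655) F2654
theorem F2660 : act 1 n1616 = n1271 := d6_1 D1616 (iv D1271) (iv F1911)
theorem F2661 : act 2 n1616 = n1260 := d9_1 D1616 (iv D1260) (iv D899) (iv D634) (iv F1026) D874 D1226 F2009 (iv D1047) (iv D750) F898 (iv F700) (iv F977) D829 D1159
theorem F2662 : act 5 n1616 = n1229 := d13_2 (iv F1912) D1616 (iv D1229)
def n1617 : Q := act 4 n1159
theorem D1617 : act 4 n1159 = n1617 := rfl
theorem F2663 : act 1 n1617 = n1269 := d7_1 D1617 F2076 (iv F1911)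
theorem F2664 : act 2 n1617 = n1160 := d10_1 D1617 (iv D1160) D1159
def n1618 : Q := act 5 n1160
theorem D1618 : act 5 n1160 = n1618 := rfl
theorem F2665 : act 1 n1618 = n1161 := d8_1 D1618 (iv D1161) (iv F1913)
theorem F2666 : act 4 n1618 = n1231 := d14_1 D1618 (iv D1231) (iv D876) (iv F1394) D1160
def n1619 : Q := act 0 n1162
theorem D1619 : act 0 n1162 = n1619 := rfl
theorem F2667 : act 1 n1619 = n1166 := d0_2 D1162 D1619 (iv D1166) (iv D833) (iv F1397)
def n1620 : Q := act 3 n1162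
theorem D1620 : act 3 n1162 = n1620 := rfl
theorem F2668 : act 1 n1620 = n1163 := d6_1 D1620 (iv D1163) D1162
def n1621 : Q := act 5 n1162
theorem D1621 : act 5 n1162 = n1621 := rfl
theorem F2669 : act 1 n1621 = n1164 := d8_1 D1621 (iv D1164) D1162
def n1622 : Q := act 4 n1163
theorem D1622 : act 4 n1163 = n1622 := rfl
theorem F2670 : act 0 n1622 = n1169 := d3_1 D1622 (iv D1169) (iv F1917)
def n1623 : Q := act 4 n1164
theorem D1623 : act 4 n1164 = n1623 := rfl
theorem F2671 : act 0 n1623 = n1171 := d3_1 D1623 (iv D1171) (iv F1918)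
theorem F2672 : act 2 n1623 = n1165 := d10_1 D1623 (iv D1165) (iv F1919)
def n1624 : Q := act 3 n1166
theorem D1624 : act 3 n1166 = n1624 := rfl
theorem F2673 : act 0 n1624 = n1167 := d2_1 D1624 (iv D1167) D1166
def n1625 : Q := act 2 n1167
theorem D1625 : act 2 n1167 = n1625 := rfl
def n1626 : Q := act 4 n1167
theorem D1626 : act 4 n1167 = n1626 := rfl
theorem F2674 : act 1 n1626 = n1169 := d7_1 D1626 (iv D1169) (iv F1922)
def n1627 : Q := act 1 n1168
theorem D1627 : act 1 n1168 = n1627 := rfl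
def n1628 : Q := act 4 n1168
theorem D1628 : act 4 n1168 = n1628 := rfl
theorem F2675 : act 2 n1628 = n1169 := d10_1 D1628 (iv D1169) D1168
def n1629 : Q := act 5 n1169
theorem D1629 : act 5 n1169 = n1629 := rfl
def n1630 : Q := act 4 n1170
theorem D1630 : act 4 n1170 = n1630 := rfl
def n1631 : Q := act 3 n1171
theorem D1631 : act 3 n1171 = n1631 := rfl
def n1632 : Q := act 2 n1173
theorem D1632 : act 2 n1173 = n1632 := rfl
theorem F2676 : act 0 n1632 = n1174 := d1_1 D1632 (iv D1174) (iv F1927)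
theorem F2677 : act 4 n1632 = n1252 := d10_2 (iv F1928) D1632 (iv D1252)
def n1633 : Q := act 3 n1174
theorem D1633 : act 3 n1174 = n1633 := rfl
def n1634 : Q := act 0 n1175
theorem D1634 : act 0 n1175 = n1634 := rfl
theorem F2678 : act 2 n1634 = n1179 := d1_2 (iv F1930) D1634 (iv D1179)
theorem F2679 : act 4 n1634 = n1198 := d3_2 (iv F1931) D1634 (iv D1198)
def n1635 : Q := act 3 n1175
theorem D1635 : act 3 n1175 = n1635 := rfl
theorem F2680 : act 1 n1635 = n1176 := d6_1 D1635 (iv D1176) D1175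
def n1636 : Q := act 4 n1176
theorem D1636 : act 4 n1176 = n1636 := rfl
theorem F2681 : act 3 n1636 = n1202 := d12_1 D1636 (iv D1202) (iv D856) (iv F1408) D1176
def n1637 : Q := act 4 n1177
theorem D1637 : act 4 n1177 = n1637 := rfl
theorem F2682 : act 2 n1637 = n1178 := d10_1 D1637 (iv D1178) (iv F1932)
theorem F2683 : act 5 n1637 = n1204 := d14_2 D1177 D1637 (iv D1204) (iv D857) (iv F1408)
def n1638 : Q := act 2 n1180
theorem D1638 : act 2 n1180 = n1638 := rfl
theorem F2684 : act 0 n1638 = n1212 := d1_1 D1638 (iv D1212) (iv F1938)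
theorem F2685 : act 4 n1638 = n1181 := d10_2 (iv F1940) D1638 (iv D1181)
theorem F2686 : act 5 n1638 = n1212 := d11_2 (iv F1941) D1638 (iv D1212)
def n1639 : Q := act 1 n1181
theorem D1639 : act 1 n1181 = n1639 := rfl
theorem F2687 : act 2 n1639 = n1446 := d5_2 D1181 D1639 F2363 F1727 (iv F1415)
theorem F2688 : act 3 n1639 = n1223 := d6_2 (iv F1944) D1639 (iv D1223)
theorem F2689 : act 5 n1639 = n1182 := d8_2 (iv F1943) D1639 (iv D1182)
def n1640 : Q := act 0 n1182
theorem D1640 : act 0 n1182 = n1640 := rfl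
theorem F2690 : act 1 n1640 = n1214 := d0_2 D1182 D1640 (iv D1214) (iv D866) (iv F1417)
theorem F2691 : act 2 n1640 = n1444 := d1_2 (iv F1945) D1640 (iv D1444)
theorem F2692 : act 4 n1640 = n1214 := d3_2 (iv F1946) D1640 (iv D1214)
def n1641 : Q := act 3 n1182
theorem D1641 : act 3 n1182 = n1641 := rfl
theorem F2693 : act 1 n1641 = n1183 := d6_1 D1641 (iv D1183) D1182
theorem F2694 : act 5 n1641 = n1223 := d13_2 F2689 D1641 (iv F2688)
def n1642 : Q := act 4 n1183
theorem D1642 : act 4 n1183 = n1642 := rfl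
theorem F2695 : act 0 n1642 = n1216 := d3_1 D1642 (iv D1216) (iv F1947)
theorem F2696 : act 2 n1642 = n1219 := d10_1 D1642 (iv D1219) (iv F1949)
theorem F2697 : act 3 n1642 = n1216 := d12_1 D1642 (iv D1216) (iv D867) (iv F1418) D1183
def n1643 : Q := act 0 n1184
theorem D1643 : act 0 n1184 = n1643 := rfl
theorem F2698 : act 1 n1643 = n1217 := d0_2 D1184 D1643 (iv D1217) (iv D868) (iv F1419)
theorem F2699 : act 5 n1643 = n1186 := d4_2 (iv F1950) D1643 (iv D1186)
def n1644 : Q := act 3 n1184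
theorem D1644 : act 3 n1184 = n1644 := rfl
theorem F2700 : act 1 n1644 = n1185 := d6_1 D1644 (iv D1185) D1184
theorem F2701 : act 5 n1644 = n1187 := d13_2 (iv F1950) D1644 (iv D1187)
def n1645 : Q := act 4 n1185
theorem D1645 : act 4 n1185 = n1645 := rfl
theorem F2702 : act 0 n1645 = n1219 := d3_1 D1645 (iv D1219) (iv F1951)
theorem F2703 : act 2 n1645 = n1216 := d10_1 D1645 (iv D1216) (iv F1952)
def n1646 : Q := act 3 n1186
theorem D1646 : act 3 n1186 = n1646 := rfl
theorem F2704 : act 0 n1646 = n1187 := d2_1 D1646 (iv D1187) D1186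
theorem F2705 : act 1 n1646 = n1220 := d6_1 D1646 (iv D1220) (iv F1954)
def n1647 : Q := act 2 n1187
theorem D1647 : act 2 n1187 = n1647 := rfl
def n1648 : Q := act 4 n1187
theorem D1648 : act 4 n1187 = n1648 := rfl
theorem F2706 : act 1 n1648 = n1189 := d7_1 D1648 (iv D1189) (iv F1956)
theorem F2707 : act 3 n1648 = n1192 := d12_1 D1648 (iv D1192) (iv D851) (iv F1421) D1187
def n1649 : Q := act 1 n1188
theorem D1649 : act 1 n1188 = n1649 := rfl
theorem F2708 : act 3 n1649 = n1213 := d6_2 (iv F1958) D1649 (iv D1213)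
theorem F2709 : act 5 n1649 = n1215 := d8_2 (iv F1959) D1649 F1998
def n1650 : Q := act 4 n1188
theorem D1650 : act 4 n1188 = n1650 := rfl
theorem F2710 : act 0 n1650 = n1224 := d3_1 D1650 (iv D1224) (iv F1957)
theorem F2711 : act 2 n1650 = n1189 := d10_1 D1650 (iv D1189) D1188
def n1651 : Q := act 5 n1189
theorem D1651 : act 5 n1189 = n1651 := rfl
theorem F2712 : act 0 n1651 = n1225 := d4_1 D1651 (iv D1225) (iv F1960)
theorem F2713 : act 3 n1651 = n1193 := d13_1 D1651 (iv D1193) (iv F1961)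
def n1652 : Q := act 2 n1190
theorem D1652 : act 2 n1190 = n1652 := rfl
theorem F2714 : act 0 n1652 = n1191 := d1_1 D1652 (iv D1191) (iv F1962)
theorem F2715 : act 5 n1652 = n1278 := d11_2 (iv F1964) D1652 F2089
def n1653 : Q := act 4 n1190
theorem D1653 : act 4 n1190 = n1653 := rfl
theorem F2716 : act 0 n1653 = n1192 := d3_1 D1653 (iv D1192) (iv F1962)
theorem F2717 : act 1 n1653 = n1227 := d7_1 D1653 (iv D1227) (iv F1963)
def n1654 : Q := act 3 n1191
theorem D1654 : act 3 n1191 = n1654 := rfl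
theorem F2718 : act 1 n1654 = n1272 := d6_1 D1654 F2080 (iv F1965)
theorem F2719 : act 5 n1654 = n1273 := d13_2 (iv F1966) D1654 F2082
def n1655 : Q := act 4 n1191
theorem D1655 : act 4 n1191 = n1655 := rfl
theorem F2720 : act 1 n1655 = n1279 := d7_1 D1655 (iv D1279) (iv F1965)
theorem F2721 : act 2 n1655 = n1192 := d10_1 D1655 (iv D1192) D1191
def n1656 : Q := act 5 n1192
theorem D1656 : act 5 n1192 = n1656 := rfl
theorem F2722 : act 1 n1656 = n1193 := d8_1 D1656 (iv D1193) (iv F1967)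
theorem F2723 : act 4 n1656 = n1290 := d14_1 D1656 (iv D1290) F1523 (iv F1425) D1192
def n1657 : Q := act 0 n1194
theorem D1657 : act 0 n1194 = n1657 := rfl
theorem F2724 : act 1 n1657 = n1198 := d0_2 D1194 D1657 (iv D1198) (iv D855) (iv F1428)
def n1658 : Q := act 3 n1194
theorem D1658 : act 3 n1194 = n1658 := rfl
theorem F2725 : act 1 n1658 = n1195 := d6_1 D1658 (iv D1195) D1194
theorem F2726 : act 5 n1247 = n1658 := d8_0 F2725 (iv F1973) D1247
def n1659 : Q := act 5 n1194
theorem D1659 : act 5 n1194 = n1659 := rfl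
theorem F2727 : act 1 n1659 = n1196 := d8_1 D1659 (iv D1196) D1194
theorem F2728 : act 3 n1659 = n1247 := d13_1 D1659 F2726 (iv D1658)
def n1660 : Q := act 4 n1195
theorem D1660 : act 4 n1195 = n1660 := rfl
theorem F2729 : act 0 n1660 = n1202 := d3_1 D1660 (iv D1202) (iv F1971)
theorem F2730 : act 2 n1660 = n1250 := d10_1 D1660 (iv D1250) (iv F1972)
def n1661 : Q := act 4 n1196
theorem D1661 : act 4 n1196 = n1661 := rfl
theorem F2731 : act 0 n1661 = n1204 := d3_1 D1661 (iv D1204) (iv F1974)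
theorem F2732 : act 2 n1661 = n1197 := d10_1 D1661 (iv D1197) (iv F1975)
def n1662 : Q := act 3 n1198
theorem D1662 : act 3 n1198 = n1662 := rfl
theorem F2733 : act 0 n1662 = n1199 := d2_1 D1662 (iv D1199) D1198
def n1663 : Q := act 5 n1198
theorem D1663 : act 5 n1198 = n1663 := rfl
theorem F2734 : act 0 n1663 = n1200 := d4_1 D1663 (iv D1200) D1198
theorem F2735 : act 2 n1663 = n1206 := d11_1 D1663 (iv D1206) (iv F1979)
def n1664 : Q := act 2 n1199
theorem D1664 : act 2 n1199 = n1664 := rfl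
def n1665 : Q := act 4 n1199
theorem D1665 : act 4 n1199 = n1665 := rfl
theorem F2736 : act 1 n1665 = n1202 := d7_1 D1665 (iv D1202) (iv F1980)
def n1666 : Q := act 5 n1199
theorem D1666 : act 5 n1199 = n1666 := rfl
theorem F2737 : act 1 n1666 = n1203 := d8_1 D1666 (iv D1203) (iv F1980)
theorem F2738 : act 3 n1666 = n1200 := d13_1 D1666 (iv D1200) D1199
def n1667 : Q := act 4 n1200
theorem D1667 : act 4 n1200 = n1667 := rfl
theorem F2739 : act 1 n1667 = n1204 := d7_1 D1667 (iv D1204) (iv F1981)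
theorem F2740 : act 2 n1667 = n1209 := d10_1 D1667 (iv D1209) (iv F1982)
def n1668 : Q := act 1 n1201
theorem D1668 : act 1 n1201 = n1668 := rfl
theorem F2741 : act 3 n1668 = n1238 := d6_2 (iv F1984) D1668 F2030
theorem F2742 : act 5 n1668 = n1237 := d8_2 F1985 D1668 F2029
def n1669 : Q := act 4 n1201
theorem D1669 : act 4 n1201 = n1669 := rfl
theorem F2743 : act 0 n1669 = n1250 := d3_1 D1669 (iv D1250) (iv F1983)
theorem F2744 : act 2 n1669 = n1202 := d10_1 D1669 (iv D1202) D1201
def n1670 : Q := act 5 n1202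
theorem D1670 : act 5 n1202 = n1670 := rfl
def n1671 : Q := act 4 n1203
theorem D1671 : act 4 n1203 = n1671 := rfl
theorem F2745 : act 0 n1671 = n1248 := d3_1 D1671 (iv D1248) (iv F1986)
theorem F2746 : act 2 n1671 = n1239 := d10_1 D1671 (iv D1239) (iv F1987)
def n1672 : Q := act 3 n1204
theorem D1672 : act 3 n1204 = n1672 := rfl
def n1673 : Q := act 2 n1205
theorem D1673 : act 2 n1205 = n1673 := rfl
theorem F2747 : act 0 n1673 = n1207 := d1_1 D1673 (iv D1207) (iv F1990)
def n1674 : Q := act 4 n1205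
theorem D1674 : act 4 n1205 = n1674 := rfl
theorem F2748 : act 0 n1674 = n1208 := d3_1 D1674 (iv D1208) (iv F1990)
def n1675 : Q := act 4 n1206
theorem D1675 : act 4 n1206 = n1675 := rfl
theorem F2749 : act 0 n1675 = n1209 := d3_1 D1675 (iv D1209) (iv F1991)
def n1676 : Q := act 3 n1207
theorem D1676 : act 3 n1207 = n1676 := rfl
def n1677 : Q := act 4 n1207
theorem D1677 : act 4 n1207 = n1677 := rfl
theorem F2750 : act 2 n1677 = n1208 := d10_1 D1677 (iv D1208) D1207
def n1678 : Q := act 5 n1208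
theorem D1678 : act 5 n1208 = n1678 := rfl
theorem F2751 : act 1 n1678 = n1210 := d8_1 D1678 (iv D1210) (iv F1992)
def n1679 : Q := act 3 n1209
theorem D1679 : act 3 n1209 = n1679 := rfl
theorem F2752 : act 1 n1679 = n1211 := d6_1 D1679 (iv D1211) (iv F1993)
def n1680 : Q := act 2 n1211
theorem D1680 : act 2 n1211 = n1680 := rfl
def n1681 : Q := act 1 n1212
theorem D1681 : act 1 n1212 = n1681 := rfl
theorem F2753 : act 2 n1681 = n1455 := d5_2 D1212 D1681 F2374 F1731 (iv F1438)
theorem F2754 : act 4 n1681 = n1213 := d7_2 (iv F1994) D1681 (iv D1213)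
def n1682 : Q := act 3 n1212
theorem D1682 : act 3 n1212 = n1682 := rfl
def n1683 : Q := act 0 n1213
theorem D1683 : act 0 n1213 = n1683 := rfl
theorem F2755 : act 2 n1683 = n1452 := d1_2 (iv F1995) D1683 F2372
theorem F2756 : act 5 n1683 = n1214 := d4_2 (iv F1996) D1683 (iv D1214)
def n1684 : Q := act 3 n1214
theorem D1684 : act 3 n1214 = n1684 := rfl
theorem F2757 : act 0 n1684 = n1215 := d2_1 D1684 (iv D1215) D1214
def n1685 : Q := act 2 n1215
theorem D1685 : act 2 n1215 = n1685 := rfl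
def n1686 : Q := act 4 n1215
theorem D1686 : act 4 n1215 = n1686 := rfl
theorem F2758 : act 1 n1686 = n1216 := d7_1 D1686 (iv D1216) (iv F1998)
def n1687 : Q := act 5 n1216
theorem D1687 : act 5 n1216 = n1687 := rfl
def n1688 : Q := act 3 n1217
theorem D1688 : act 3 n1217 = n1688 := rfl
theorem F2759 : act 0 n1688 = n1218 := d2_1 D1688 (iv D1218) D1217
theorem F2760 : act 5 n1688 = n1220 := d13_2 (iv F2000) D1688 (iv D1220)
def n1689 : Q := act 2 n1218
theorem D1689 : act 2 n1218 = n1689 := rfl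
theorem F2761 : act 5 n1689 = n1221 := d11_2 (iv F2002) D1689 (iv D1221)
def n1690 : Q := act 4 n1218
theorem D1690 : act 4 n1218 = n1690 := rfl
theorem F2762 : act 1 n1690 = n1219 := d7_1 D1690 (iv D1219) (iv F2001)
def n1691 : Q := act 5 n1219
theorem D1691 : act 5 n1219 = n1691 := rfl
theorem F2763 : act 4 n1691 = n1225 := d14_1 D1691 (iv D1225) (iv D873) (iv F1444) D1219
def n1692 : Q := act 2 n1220
theorem D1692 : act 2 n1220 = n1692 := rfl
theorem F2764 : act 0 n1692 = n1221 := d1_1 D1692 (iv D1221) (iv F2003)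
theorem F2765 : act 3 n1692 = n1625 := d15_1 D1692 (iv D1625) (iv D1167) F1400 (iv F1048) (iv F1442) D1218 F2002 (iv F2003)
def n1693 : Q := act 4 n1220
theorem D1693 : act 4 n1220 = n1693 := rfl
theorem F2766 : act 0 n1693 = n1222 := d3_1 D1693 (iv D1222) (iv F2003)
theorem F2767 : act 3 n1693 = n1227 := d12_1 D1693 (iv D1227) (iv D874) (iv F1446) D1220
def n1694 : Q := act 1 n1221
theorem D1694 : act 1 n1221 = n1694 := rfl
theorem F2768 : act 2 n1694 = n1223 := d5_2 D1221 D1694 (iv D1223) (iv D872) (iv F1447)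
def n1695 : Q := act 3 n1221
theorem D1695 : act 3 n1221 = n1695 := rfl
theorem F2769 : act 0 n1695 = n1625 := d2_1 D1695 (iv F2765) F2764
theorem F2770 : act 2 n1695 = n1624 := d15_2 D1221 D1695 (iv D1624) F1921 (iv F1478) (iv F1999) D1688 F2760 F2003
def n1696 : Q := act 4 n1221
theorem D1696 : act 4 n1221 = n1696 := rfl
theorem F2771 : act 2 n1696 = n1222 := d10_1 D1696 (iv D1222) D1221
def n1697 : Q := act 5 n1222
theorem D1697 : act 5 n1222 = n1697 := rfl
theorem F2772 : act 1 n1697 = n1225 := d8_1 D1697 (iv D1225) (iv F2004)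
theorem F2773 : act 3 n1697 = n1231 := d13_1 D1697 (iv D1231) (iv F2005)
def n1698 : Q := act 0 n1223
theorem D1698 : act 0 n1223 = n1698 := rfl
def n1699 : Q := act 4 n1223
theorem D1699 : act 4 n1223 = n1699 := rfl
theorem F2774 : act 1 n1699 = n1224 := d7_1 D1699 (iv D1224) D1223
def n1700 : Q := act 3 n1224
theorem D1700 : act 3 n1224 = n1700 := rfl
def n1701 : Q := act 5 n1224
theorem D1701 : act 5 n1224 = n1701 := rfl
theorem F2775 : act 2 n1701 = n1225 := d11_1 D1701 (iv D1225) (iv F2006)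
def n1702 : Q := act 1 n1226
theorem D1702 : act 1 n1226 = n1702 := rfl
theorem F2776 : act 3 n1702 = n1459 := d6_2 (iv F2009) D1702 (iv D1459)
def n1703 : Q := act 4 n1226
theorem D1703 : act 4 n1226 = n1703 := rfl
theorem F2777 : act 0 n1703 = n1230 := d3_1 D1703 (iv D1230) (iv F2008)
theorem F2778 : act 2 n1703 = n1227 := d10_1 D1703 (iv D1227) D1226
def n1704 : Q := act 5 n1227
theorem D1704 : act 5 n1227 = n1704 := rfl
theorem F2779 : act 0 n1704 = n1231 := d4_1 D1704 (iv D1231) (iv F2010)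
def n1705 : Q := act 0 n1228
theorem D1705 : act 0 n1228 = n1705 := rfl
theorem F2780 : act 2 n1705 = n1232 := d1_2 (iv F2011) D1705 (iv D1232)
theorem F2781 : act 5 n1705 = n1265 := d4_2 (iv F2012) D1705 F2073
def n1706 : Q := act 3 n1228
theorem D1706 : act 3 n1228 = n1706 := rfl
theorem F2782 : act 1 n1706 = n1229 := d6_1 D1706 (iv D1229) D1228
theorem F2783 : act 5 n1706 = n1271 := d13_2 (iv F2012) D1706 (iv D1271)
def n1707 : Q := act 4 n1228
theorem D1707 : act 4 n1228 = n1707 := rfl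
theorem F2784 : act 1 n1707 = n1230 := d7_1 D1707 (iv D1230) D1228
theorem F2785 : act 2 n1707 = n1233 := d10_1 D1707 (iv D1233) (iv F2011)
def n1708 : Q := act 4 n1229
theorem D1708 : act 4 n1229 = n1708 := rfl
theorem F2786 : act 0 n1708 = n1460 := d3_1 D1708 (iv D1460) (iv F2013)
theorem F2787 : act 2 n1708 = n1458 := d10_1 D1708 (iv D1458) (iv F2014)
def n1709 : Q := act 3 n1230
theorem D1709 : act 3 n1230 = n1709 := rfl
def n1710 : Q := act 5 n1230
theorem D1710 : act 5 n1230 = n1710 := rfl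
theorem F2788 : act 2 n1710 = n1231 := d11_1 D1710 (iv D1231) (iv F2015)
def n1711 : Q := act 4 n1232
theorem D1711 : act 4 n1232 = n1711 := rfl
theorem F2789 : act 0 n1711 = n1233 := d3_1 D1711 (iv D1233) D1232
theorem F2790 : act 1 n1711 = n1234 := d7_1 D1711 F2022 (iv F2017)
theorem F2791 : act 3 n1711 = n1233 := d12_1 D1711 (iv D1233) F1451 (iv F1500) (iv F2018)
def n1712 : Q := act 5 n1233
theorem D1712 : act 5 n1233 = n1712 := rfl
theorem F2792 : act 1 n1712 = n1235 := d8_1 D1712 (iv D1235) (iv F2020)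
theorem F2793 : act 4 n1712 = n1270 := d14_1 D1712 (iv D1270) F1504 (iv F1452) D1233
def n1713 : Q := act 2 n1234
theorem D1713 : act 2 n1234 = n1713 := rfl
theorem F2794 : act 0 n1713 = n1279 := d1_1 D1713 F2090 (iv F2021)
theorem F2795 : act 4 n1713 = n1272 := d10_2 (iv F2022) D1713 (iv D1272)
def n1714 : Q := act 3 n1236
theorem D1714 : act 3 n1236 = n1714 := rfl
theorem F2796 : act 0 n1714 = n1237 := d2_1 D1714 (iv D1237) D1236
theorem F2797 : act 1 n1714 = n1241 := d6_1 D1714 (iv D1241) (iv F2026)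
def n1715 : Q := act 5 n1236
theorem D1715 : act 5 n1236 = n1715 := rfl
theorem F2798 : act 0 n1715 = n1238 := d4_1 D1715 (iv D1238) D1236
theorem F2799 : act 1 n1715 = n1242 := d8_1 D1715 (iv D1242) (iv F2026)
theorem F2800 : act 2 n1715 = n1643 := d11_1 D1715 F2699 (iv F2027)
def n1716 : Q := act 2 n1237
theorem D1716 : act 2 n1237 = n1716 := rfl
def n1717 : Q := act 4 n1237
theorem D1717 : act 4 n1237 = n1717 := rfl
theorem F2801 : act 1 n1717 = n1239 := d7_1 D1717 (iv D1239) (iv F2029)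
theorem F2802 : act 3 n1717 = n1438 := d12_1 D1717 (iv D1438) (iv D1033) (iv F1456) D1237
def n1718 : Q := act 4 n1238
theorem D1718 : act 4 n1238 = n1718 := rfl
theorem F2803 : act 1 n1718 = n1240 := d7_1 D1718 (iv D1240) (iv F2030)
theorem F2804 : act 2 n1718 = n1552 := d10_1 D1718 F2539 (iv F2031)
theorem F2805 : act 5 n1718 = n1389 := d14_2 D1238 D1718 F2277 F1661 (iv F1456)
def n1719 : Q := act 5 n1239
theorem D1719 : act 5 n1239 = n1719 := rfl
theorem F2806 : act 0 n1719 = n1249 := d4_1 D1719 (iv D1249) (iv F2032)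
theorem F2807 : act 3 n1719 = n1439 := d13_1 D1719 (iv D1439) (iv F2033)
def n1720 : Q := act 3 n1240
theorem D1720 : act 3 n1240 = n1720 := rfl
theorem F2808 : act 0 n1720 = n1251 := d2_1 D1720 (iv D1251) (iv F2034)
theorem F2809 : act 5 n1720 = n1390 := d13_2 (iv F2036) D1720 (iv D1390)
theorem F2810 : act 2 n1720 = n1417 := d15_2 (iv F2035) D1720 (iv D1417) (iv D1018) (iv D726) F867 D509 (iv F1041) (iv F1460)
def n1721 : Q := act 2 n1241
theorem D1721 : act 2 n1241 = n1721 := rfl
theorem F2811 : act 0 n1721 = n1243 := d1_1 D1721 (iv D1243) (iv F2037)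
def n1722 : Q := act 4 n1241
theorem D1722 : act 4 n1241 = n1722 := rfl
theorem F2812 : act 0 n1722 = n1244 := d3_1 D1722 (iv D1244) (iv F2037)
theorem F2813 : act 3 n1722 = n1458 := d12_1 D1722 (iv D1458) (iv D1046) (iv F1465) D1241
def n1723 : Q := act 5 n1241
theorem D1723 : act 5 n1241 = n1723 := rfl
theorem F2814 : act 0 n1723 = n1245 := d4_1 D1723 (iv D1245) (iv F2037)
theorem F2815 : act 3 n1723 = n1242 := d13_1 D1723 (iv D1242) D1241
def n1724 : Q := act 4 n1242
theorem D1724 : act 4 n1242 = n1724 := rfl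
theorem F2816 : act 0 n1724 = n1246 := d3_1 D1724 (iv D1246) (iv F2038)
theorem F2817 : act 2 n1724 = n1253 := d10_1 D1724 (iv D1253) (iv F2039)
theorem F2818 : act 5 n1724 = n1261 := d14_2 D1242 D1724 (iv D1261) F1488 (iv F1465)
def n1725 : Q := act 1 n1243
theorem D1725 : act 1 n1243 = n1725 := rfl
theorem F2819 : act 2 n1725 = n1247 := d5_2 D1243 D1725 (iv D1247) (iv D887) (iv F1466)
def n1726 : Q := act 3 n1243
theorem D1726 : act 3 n1243 = n1726 := rfl
def n1727 : Q := act 4 n1243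
theorem D1727 : act 4 n1243 = n1727 := rfl
theorem F2820 : act 2 n1727 = n1244 := d10_1 D1727 (iv D1244) D1243
def n1728 : Q := act 5 n1243
theorem D1728 : act 5 n1243 = n1728 := rfl
theorem F2821 : act 2 n1728 = n1245 := d11_1 D1728 (iv D1245) D1243
def n1729 : Q := act 5 n1244
theorem D1729 : act 5 n1244 = n1729 := rfl
theorem F2822 : act 1 n1729 = n1249 := d8_1 D1729 (iv D1249) (iv F2040)
theorem F2823 : act 3 n1729 = n1461 := d13_1 D1729 (iv D1461) (iv F2041)
def n1730 : Q := act 4 n1245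
theorem D1730 : act 4 n1245 = n1730 := rfl
theorem F2824 : act 1 n1730 = n1250 := d7_1 D1730 (iv D1250) (iv F2042)
def n1731 : Q := act 3 n1246
theorem D1731 : act 3 n1246 = n1731 := rfl
theorem F2825 : act 1 n1731 = n1251 := d6_1 D1731 (iv D1251) (iv F2044)
theorem F2826 : act 5 n1731 = n1264 := d13_2 (iv F2046) D1731 (iv D1264)
def n1732 : Q := act 0 n1247
theorem D1732 : act 0 n1247 = n1732 := rfl
def n1733 : Q := act 4 n1247
theorem D1733 : act 4 n1247 = n1733 := rfl
theorem F2827 : act 1 n1733 = n1248 := d7_1 D1733 (iv D1248) D1247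
def n1734 : Q := act 3 n1248
theorem D1734 : act 3 n1248 = n1734 := rfl
def n1735 : Q := act 5 n1248
theorem D1735 : act 5 n1248 = n1735 := rfl
theorem F2828 : act 2 n1735 = n1249 := d11_1 D1735 (iv D1249) (iv F2047)
def n1736 : Q := act 4 n1249
theorem D1736 : act 4 n1249 = n1736 := rfl
theorem F2829 : act 5 n1736 = n1250 := d14_2 D1249 D1736 (iv D1250) (iv D889) D888
def n1737 : Q := act 3 n1250
theorem D1737 : act 3 n1250 = n1737 := rfl
theorem F2830 : act 4 n1737 = n1251 := d12_2 D1250 D1737 (iv D1251) (iv D890) (iv F1470)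
def n1738 : Q := act 2 n1251
theorem D1738 : act 2 n1251 = n1738 := rfl
theorem F2831 : act 0 n1738 = n1417 := d1_1 D1738 (iv F2810) F2808
theorem F2832 : act 5 n1738 = n1418 := d11_2 (iv F2049) D1738 (iv D1418)
theorem F2833 : act 3 n1738 = n1388 := d15_1 D1738 (iv D1388) (iv D997) F1192 D712 D998 D1390 (iv F2809) F2808
def n1739 : Q := act 1 n1252
theorem D1739 : act 1 n1252 = n1739 := rfl
def n1740 : Q := act 3 n1252
theorem D1740 : act 3 n1252 = n1740 := rfl
theorem F2834 : act 0 n1740 = n1254 := d2_1 D1740 (iv D1254) (iv F2050)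
def n1741 : Q := act 2 n1254
theorem D1741 : act 2 n1254 = n1741 := rfl
def n1742 : Q := act 4 n1254
theorem D1742 : act 4 n1254 = n1742 := rfl
def n1743 : Q := act 1 n1255
theorem D1743 : act 1 n1255 = n1743 := rfl
theorem F2835 : act 0 n1743 = n1621 := d0_1 D1743 F2669 F1918 (iv F1483) (iv F2054)
theorem F2836 : act 2 n1743 = n1739 := d5_2 D1255 D1743 (iv D1739) (iv D1252) (iv F1481)
theorem F2837 : act 5 n1743 = n1619 := d8_2 (iv F2055) D1743 F2667
def n1744 : Q := act 3 n1255
theorem D1744 : act 3 n1255 = n1744 := rfl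
theorem F2838 : act 0 n1744 = n1257 := d2_1 D1744 (iv D1257) (iv F2054)
theorem F2839 : act 5 n1744 = n1624 := d13_2 (iv F2055) D1744 (iv D1624)
def n1745 : Q := act 4 n1255
theorem D1745 : act 4 n1255 = n1745 := rfl
theorem F2840 : act 0 n1745 = n1258 := d3_1 D1745 (iv D1258) (iv F2054)
theorem F2841 : act 2 n1745 = n1256 := d10_1 D1745 (iv D1256) D1255
def n1746 : Q := act 2 n1257
theorem D1746 : act 2 n1257 = n1746 := rfl
theorem F2842 : act 5 n1746 = n1625 := d11_2 (iv F2060) D1746 (iv D1625)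
def n1747 : Q := act 4 n1257
theorem D1747 : act 4 n1257 = n1747 := rfl
theorem F2843 : act 1 n1747 = n1630 := d7_1 D1747 (iv D1630) (iv F2059)
def n1748 : Q := act 3 n1258
theorem D1748 : act 3 n1258 = n1748 := rfl
theorem F2844 : act 1 n1748 = n1631 := d6_1 D1748 (iv D1631) (iv F2061)
def n1749 : Q := act 4 n1259
theorem D1749 : act 4 n1259 = n1749 := rfl
theorem F2845 : act 0 n1749 = n1389 := d3_1 D1749 F2277 (iv F2063)
theorem F2846 : act 1 n1749 = n1261 := d7_1 D1749 (iv D1261) D1259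
theorem F2847 : act 2 n1749 = n1554 := d10_1 D1749 F2545 (iv F2064)
def n1750 : Q := act 4 n1260
theorem D1750 : act 4 n1260 = n1750 := rfl
theorem F2848 : act 0 n1750 = n1263 := d3_1 D1750 (iv D1263) (iv F2066)
def n1751 : Q := act 3 n1261
theorem D1751 : act 3 n1261 = n1751 := rfl
theorem F2849 : act 0 n1751 = n1264 := d2_1 D1751 (iv D1264) (iv F2068)
def n1752 : Q := act 4 n1262
theorem D1752 : act 4 n1262 = n1752 := rfl
theorem F2850 : act 2 n1752 = n1263 := d10_1 D1752 (iv D1263) D1262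
def n1753 : Q := act 3 n1263
theorem D1753 : act 3 n1263 = n1753 := rfl
theorem F2851 : act 1 n1753 = n1419 := d6_1 D1753 F2315 (iv F2071)
theorem F2852 : act 4 n1753 = n1264 := d12_2 D1263 D1753 (iv D1264) (iv D902) D901
def n1754 : Q := act 5 n1263
theorem D1754 : act 5 n1263 = n1754 := rfl
theorem F2853 : act 1 n1754 = n1420 := d8_1 D1754 (iv D1420) (iv F2071)
theorem F2854 : act 4 n1754 = n1461 := d14_1 D1754 (iv D1461) (iv D1048) (iv F1492) D1263
def n1755 : Q := act 2 n1264
theorem D1755 : act 2 n1264 = n1755 := rfl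
def n1756 : Q := act 1 n1265
theorem D1756 : act 1 n1265 = n1756 := rfl
theorem F2855 : act 2 n1756 = n1273 := d5_2 D1265 D1756 (iv D1273) (iv D912) (iv F1496)
def n1757 : Q := act 3 n1265
theorem D1757 : act 3 n1265 = n1757 := rfl
theorem F2856 : act 0 n1757 = n1271 := d2_1 D1757 (iv D1271) (iv F2073)
theorem F2857 : act 2 n1757 = n1706 := d15_2 D1265 D1757 (iv D1706) F2011 F1451 F1069 (iv F1451) F1452 (iv F1495)
def n1758 : Q := act 3 n1266
theorem D1758 : act 3 n1266 = n1758 := rfl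
theorem F2858 : act 4 n1758 = n1267 := d12_2 D1266 D1758 (iv D1267) (iv D906) D905
def n1759 : Q := act 5 n1266
theorem D1759 : act 5 n1266 = n1759 := rfl
theorem F2859 : act 2 n1759 = n1759 := d11_1 D1759 (iv D1759) F2074
def n1760 : Q := act 2 n1267
theorem D1760 : act 2 n1267 = n1760 := rfl
def n1761 : Q := act 5 n1267
theorem D1761 : act 5 n1267 = n1761 := rfl
theorem F2860 : act 3 n1761 = n1268 := d13_1 D1761 (iv D1268) D1267
def n1762 : Q := act 3 n1269
theorem D1762 : act 3 n1269 = n1762 := rfl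
def n1763 : Q := act 5 n1269
theorem D1763 : act 5 n1269 = n1763 := rfl
theorem F2861 : act 2 n1763 = n1270 := d11_1 D1763 (iv D1270) D1269
def n1764 : Q := act 2 n1271
theorem D1764 : act 2 n1271 = n1764 := rfl
theorem F2862 : act 0 n1764 = n1706 := d1_1 D1764 (iv F2857) F2856
theorem F2863 : act 5 n1764 = n1757 := d11_2 F2783 D1764 F2857
theorem F2864 : act 3 n1764 = n1705 := d15_3 D909 D1271 D1764 F2780 F2018 F1499 (iv F2018) F2019 F1495
def n1765 : Q := act 4 n1271
theorem D1765 : act 4 n1271 = n1765 := rfl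
def n1766 : Q := act 0 n1273
theorem D1766 : act 0 n1273 = n1766 := rfl
theorem F2865 : act 1 n1766 = n1278 := d0_2 D1273 D1766 (iv D1278) (iv D915) (iv F1510)
theorem F2866 : act 3 n1766 = n1278 := d2_2 (iv F2082) D1766 (iv D1278)
def n1767 : Q := act 0 n1274
theorem D1767 : act 0 n1274 = n1767 := rfl
theorem F2867 : act 2 n1767 = n1288 := d1_2 (iv F2083) D1767 (iv D1288)
theorem F2868 : act 4 n1767 = n1278 := d3_2 (iv F2084) D1767 (iv D1278)
def n1768 : Q := act 3 n1274
theorem D1768 : act 3 n1274 = n1768 := rfl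
theorem F2869 : act 1 n1768 = n1275 := d6_1 D1768 (iv D1275) D1274
def n1769 : Q := act 5 n1274
theorem D1769 : act 5 n1274 = n1769 := rfl
theorem F2870 : act 1 n1769 = n1276 := d8_1 D1769 (iv D1276) D1274
theorem F2871 : act 2 n1769 = n1290 := d11_1 D1769 (iv D1290) (iv F2083)
def n1770 : Q := act 4 n1276
theorem D1770 : act 4 n1276 = n1770 := rfl
theorem F2872 : act 2 n1770 = n1277 := d10_1 D1770 (iv D1277) (iv F2085)
theorem F2873 : act 5 n1770 = n1279 := d14_2 D1276 D1770 (iv D1279) (iv D916) (iv F1512)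
def n1771 : Q := act 3 n1279
theorem D1771 : act 3 n1279 = n1771 := rfl
def n1772 : Q := act 2 n1280
theorem D1772 : act 2 n1280 = n1772 := rfl
theorem F2874 : act 0 n1772 = n1282 := d1_1 D1772 (iv D1282) (iv F2091)
def n1773 : Q := act 5 n1280
theorem D1773 : act 5 n1280 = n1773 := rfl
theorem F2875 : act 0 n1773 = n1283 := d4_1 D1773 (iv D1283) (iv F2091)
theorem F2876 : act 3 n1773 = n1281 := d13_1 D1773 (iv D1281) D1280
def n1774 : Q := act 1 n1282
theorem D1774 : act 1 n1282 = n1774 := rfl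
theorem F2877 : act 2 n1774 = n1284 := d5_2 D1282 D1774 (iv D1284) (iv D921) (iv F1520)
def n1775 : Q := act 3 n1282
theorem D1775 : act 3 n1282 = n1775 := rfl
def n1776 : Q := act 5 n1282
theorem D1776 : act 5 n1282 = n1776 := rfl
theorem F2878 : act 2 n1776 = n1283 := d11_1 D1776 (iv D1283) D1282
def n1777 : Q := act 4 n1283
theorem D1777 : act 4 n1283 = n1777 := rfl
theorem F2879 : act 1 n1777 = n1287 := d7_1 D1777 (iv D1287) (iv F2093)
def n1778 : Q := act 0 n1284
theorem D1778 : act 0 n1284 = n1778 := rfl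
def n1779 : Q := act 3 n1284
theorem D1779 : act 3 n1284 = n1779 := rfl
theorem F2880 : act 1 n1779 = n1285 := d6_1 D1779 (iv D1285) D1284
def n1780 : Q := act 5 n1284
theorem D1780 : act 5 n1284 = n1780 := rfl
theorem F2881 : act 1 n1780 = n1286 := d8_1 D1780 (iv D1286) D1284
def n1781 : Q := act 4 n1285
theorem D1781 : act 4 n1285 = n1781 := rfl
def n1782 : Q := act 4 n1286
theorem D1782 : act 4 n1286 = n1782 := rfl
theorem F2882 : act 2 n1782 = n1287 := d10_1 D1782 (iv D1287) (iv F2095)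
def n1783 : Q := act 3 n1288
theorem D1783 : act 3 n1288 = n1783 := rfl
theorem F2883 : act 0 n1783 = n1289 := d2_1 D1783 (iv D1289) D1288
def n1784 : Q := act 5 n1288
theorem D1784 : act 5 n1288 = n1784 := rfl
theorem F2884 : act 0 n1784 = n1290 := d4_1 D1784 (iv D1290) D1288
def n1785 : Q := act 2 n1289
theorem D1785 : act 2 n1289 = n1785 := rfl
def n1786 : Q := act 5 n1289
theorem D1786 : act 5 n1289 = n1786 := rfl
theorem F2885 : act 1 n1786 = n1292 := d8_1 D1786 (iv D1292) (iv F2097)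
theorem F2886 : act 3 n1786 = n1290 := d13_1 D1786 (iv D1290) D1289
def n1787 : Q := act 1 n1291
theorem D1787 : act 1 n1291 = n1787 := rfl
def n1788 : Q := act 4 n1292
theorem D1788 : act 4 n1292 = n1788 := rfl
def n1789 : Q := act 0 n1293
theorem D1789 : act 0 n1293 = n1789 := rfl
theorem F2887 : act 1 n1789 = n1296 := d0_2 D1293 D1789 F2106 (iv D932) (iv F1526)
theorem F2888 : act 2 n1789 = n1789 := d1_2 F2100 D1789 (iv D1789)
theorem F2889 : act 3 n1347 = n1789 := d6_0 F2887 F2108 D1347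
theorem F2890 : act 5 n1293 = n1789 := d8_0 F2887 (iv D1296) D1293
def n1790 : Q := act 3 n1293
theorem D1790 : act 3 n1293 = n1790 := rfl
theorem F2891 : act 0 n1790 = n1347 := d2_1 D1790 F2889 (iv D1789)
theorem F2892 : act 1 n1790 = n1294 := d6_1 D1790 (iv D1294) D1293
theorem F2893 : act 5 n1790 = n1347 := d13_2 (iv F2890) D1790 F2889
theorem F2894 : act 2 n1347 = n1790 := d5_0 F2892 F2102 F1600 D967 D1347
def n1791 : Q := act 4 n1293
theorem D1791 : act 4 n1293 = n1791 := rfl
theorem F2895 : act 1 n1791 = n1295 := d7_1 D1791 (iv D1295) D1293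
theorem F2896 : act 2 n1791 = n1791 := d10_1 D1791 (iv D1791) F2100
def n1792 : Q := act 4 n1294
theorem D1792 : act 4 n1294 = n1792 := rfl
theorem F2897 : act 0 n1792 = n1303 := d3_1 D1792 (iv D1303) (iv F2101)
theorem F2898 : act 2 n1792 = n1344 := d10_1 D1792 (iv D1344) (iv F2102)
def n1793 : Q := act 3 n1295
theorem D1793 : act 3 n1295 = n1793 := rfl
theorem F2899 : act 0 n1793 = n1304 := d2_1 D1793 (iv D1304) (iv F2104)
def n1794 : Q := act 5 n1295
theorem D1794 : act 5 n1295 = n1794 := rfl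
theorem F2900 : act 0 n1794 = n1305 := d4_1 D1794 (iv D1305) (iv F2104)
theorem F2901 : act 2 n1794 = n1297 := d11_1 D1794 (iv D1297) (iv F2105)
def n1795 : Q := act 4 n1296
theorem D1795 : act 4 n1296 = n1795 := rfl
theorem F2902 : act 0 n1795 = n1301 := d3_1 D1795 (iv D1301) (iv F2106)
theorem F2903 : act 2 n1795 = n1298 := d10_1 D1795 (iv D1298) (iv F2107)
def n1796 : Q := act 4 n1297
theorem D1796 : act 4 n1297 = n1796 := rfl
theorem F2904 : act 0 n1796 = n1306 := d3_1 D1796 (iv D1306) (iv F2109)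
theorem F2905 : act 1 n1796 = n1796 := d7_1 D1796 (iv D1796) F2110
theorem F2906 : act 5 n1796 = n1298 := d14_2 D1297 D1796 (iv D1298) (iv D930) D929
def n1797 : Q := act 3 n1298
theorem D1797 : act 3 n1298 = n1797 := rfl
theorem F2907 : act 0 n1797 = n1307 := d2_1 D1797 (iv D1307) (iv F2112)
theorem F2908 : act 1 n1797 = n1797 := d6_1 D1797 (iv D1797) F2113
theorem F2909 : act 4 n1797 = n1299 := d12_2 D1298 D1797 (iv D1299) (iv D931) (iv F1532)
def n1798 : Q := act 2 n1299
theorem D1798 : act 2 n1299 = n1798 := rfl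
theorem F2910 : act 0 n1798 = n1308 := d1_1 D1798 (iv D1308) (iv F2114)
theorem F2911 : act 5 n1798 = n1318 := d11_2 (iv F2116) D1798 (iv D1318)
theorem F2912 : act 3 n1798 = n1373 := d15_1 D1798 (iv D1373) (iv D985) (iv D701) (iv D490) (iv F802) D676 (iv F1544) (iv F2114)
def n1799 : Q := act 4 n1300
theorem D1799 : act 4 n1300 = n1799 := rfl
theorem F2913 : act 0 n1799 = n1348 := d3_1 D1799 (iv D1348) (iv F2117)
theorem F2914 : act 1 n1799 = n1303 := d7_1 D1799 (iv D1303) (iv F2118)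
theorem F2915 : act 2 n1799 = n1337 := d10_1 D1799 (iv D1337) (iv F2119)
def n1800 : Q := act 3 n1301
theorem D1800 : act 3 n1301 = n1800 := rfl
theorem F2916 : act 1 n1800 = n1304 := d6_1 D1800 (iv D1304) (iv F2121)
def n1801 : Q := act 5 n1301
theorem D1801 : act 5 n1301 = n1801 := rfl
theorem F2917 : act 1 n1801 = n1305 := d8_1 D1801 (iv D1305) (iv F2121)
theorem F2918 : act 2 n1801 = n1306 := d11_1 D1801 F2128 (iv F2122)
theorem F2919 : act 4 n1801 = n1305 := d14_1 D1801 (iv D1305) (iv D934) F1538 D1301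
def n1802 : Q := act 1 n1302
theorem D1802 : act 1 n1302 = n1802 := rfl
theorem F2920 : act 0 n1802 = n1335 := d0_1 D1802 F2184 F1587 (iv F1600) (iv F2123)
theorem F2921 : act 2 n1802 = n1335 := d5_2 D1302 D1802 F2184 (iv F2119) F2118
theorem F2922 : act 3 n1802 = n1334 := d6_2 (iv F2124) D1802 F2181
theorem F2923 : act 5 n1802 = n1335 := d8_2 (iv F2125) D1802 F2184
def n1803 : Q := act 4 n1302
theorem D1803 : act 4 n1302 = n1803 := rfl
theorem F2924 : act 0 n1803 = n1344 := d3_1 D1803 (iv D1344) (iv F2123)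
theorem F2925 : act 2 n1803 = n1303 := d10_1 D1803 (iv D1303) D1302
def n1804 : Q := act 3 n1303
theorem D1804 : act 3 n1303 = n1804 := rfl
theorem F2926 : act 4 n1804 = n1304 := d12_2 D1303 D1804 (iv D1304) (iv D934) D933
def n1805 : Q := act 5 n1303
theorem D1805 : act 5 n1303 = n1805 := rfl
def n1806 : Q := act 2 n1304
theorem D1806 : act 2 n1304 = n1806 := rfl
def n1807 : Q := act 5 n1304
theorem D1807 : act 5 n1304 = n1807 := rfl
theorem F2927 : act 3 n1807 = n1305 := d13_1 D1807 (iv D1305) D1304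
def n1808 : Q := act 3 n1306
theorem D1808 : act 3 n1306 = n1808 := rfl
theorem F2928 : act 1 n1808 = n1310 := d6_1 D1808 F2135 (iv F2127)
theorem F2929 : act 4 n1808 = n1326 := d12_2 D1306 D1808 (iv D1326) (iv D952) (iv F1541)
theorem F2930 : act 5 n1808 = n1307 := d13_2 (iv F2128) D1808 (iv D1307)
def n1809 : Q := act 2 n1307
theorem D1809 : act 2 n1307 = n1809 := rfl
theorem F2931 : act 4 n1809 = n1308 := d10_2 (iv F2130) D1809 (iv D1308)
def n1810 : Q := act 1 n1308
theorem D1810 : act 1 n1308 = n1810 := rfl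
theorem F2932 : act 2 n1810 = n1311 := d5_2 D1308 D1810 (iv D1311) (iv D940) (iv F1543)
theorem F2933 : act 5 n1810 = n1328 := d8_2 (iv F2131) D1810 (iv D1328)
def n1811 : Q := act 3 n1308
theorem D1811 : act 3 n1308 = n1811 := rfl
theorem F2934 : act 0 n1811 = n1373 := d2_1 D1811 (iv F2912) F2910
theorem F2935 : act 5 n1811 = n1329 := d13_2 (iv F2131) D1811 (iv D1329)
theorem F2936 : act 2 n1811 = n1362 := d15_2 D1308 D1811 (iv D1362) (iv D978) (iv D696) (iv F1114) D946 (iv F2116) F2114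
def n1812 : Q := act 1 n1309
theorem D1812 : act 1 n1309 = n1812 := rfl
theorem F2937 : act 4 n1812 = n1311 := d7_2 (iv F2133) D1812 (iv D1311)
def n1813 : Q := act 0 n1311
theorem D1813 : act 0 n1311 = n1813 := rfl
theorem F2938 : act 1 n1813 = n1813 := d0_2 D1311 D1813 (iv D1813) (iv D1311) F1550
theorem F2939 : act 3 n1813 = n1333 := d2_2 (iv F2137) D1813 (iv D1333)
theorem F2940 : act 5 n1813 = n1333 := d4_2 (iv F2138) D1813 (iv D1333)
def n1814 : Q := act 3 n1312
theorem D1814 : act 3 n1312 = n1814 := rfl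
theorem F2941 : act 0 n1814 = n1758 := d2_1 D1814 (iv D1758) (iv F2139)
theorem F2942 : act 1 n1814 = n1313 := d6_1 D1814 (iv D1313) (iv F2140)
theorem F2943 : act 4 n1814 = n1563 := d12_2 D1312 D1814 (iv D1563) (iv D1124) (iv F1554)
def n1815 : Q := act 5 n1312
theorem D1815 : act 5 n1312 = n1815 := rfl
theorem F2944 : act 0 n1815 = n1759 := d4_1 D1815 (iv D1759) (iv F2139)
theorem F2945 : act 1 n1815 = n1314 := d8_1 D1815 (iv D1314) (iv F2140)
theorem F2946 : act 2 n1815 = n1815 := d11_1 D1815 (iv D1815) F2141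
theorem F2947 : act 4 n1815 = n1759 := d14_1 D1815 (iv D1759) (iv D1266) F1556 D1312
def n1816 : Q := act 2 n1313
theorem D1816 : act 2 n1313 = n1816 := rfl
theorem F2948 : act 0 n1816 = n1324 := d1_1 D1816 (iv D1324) (iv F2142)
theorem F2949 : act 4 n1816 = n1565 := d10_2 (iv F2143) D1816 (iv D1565)
def n1817 : Q := act 5 n1313
theorem D1817 : act 5 n1313 = n1817 := rfl
theorem F2950 : act 0 n1817 = n1325 := d4_1 D1817 (iv D1325) (iv F2142)
theorem F2951 : act 3 n1817 = n1314 := d13_1 D1817 (iv D1314) D1313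
def n1818 : Q := act 4 n1314
theorem D1818 : act 4 n1314 = n1818 := rfl
theorem F2952 : act 0 n1818 = n1321 := d3_1 D1818 F2162 (iv F2144)
theorem F2953 : act 1 n1818 = n1759 := d7_1 D1818 (iv F2947) F2945
theorem F2954 : act 2 n1818 = n1316 := d10_1 D1818 (iv D1316) (iv F2145)
theorem F2955 : act 5 n1818 = n1315 := d14_2 D1314 D1818 (iv D1315) (iv D943) D942
def n1819 : Q := act 3 n1315
theorem D1819 : act 3 n1315 = n1819 := rfl
theorem F2956 : act 0 n1819 = n1320 := d2_1 D1819 (iv D1320) (iv F2146)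
theorem F2957 : act 1 n1819 = n1758 := d6_1 D1819 (iv D1758) (iv F2147)
theorem F2958 : act 4 n1819 = n1363 := d12_2 D1315 D1819 (iv D1363) (iv D979) (iv F1562)
def n1820 : Q := act 3 n1316
theorem D1820 : act 3 n1316 = n1820 := rfl
theorem F2959 : act 0 n1820 = n1326 := d2_1 D1820 (iv D1326) (iv F2149)
theorem F2960 : act 1 n1820 = n1820 := d6_1 D1820 (iv D1820) F2150
theorem F2961 : act 5 n1820 = n1317 := d13_2 (iv F2151) D1820 (iv D1317)
def n1821 : Q := act 2 n1317
theorem D1821 : act 2 n1317 = n1821 := rfl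
theorem F2962 : act 0 n1821 = n1327 := d1_1 D1821 (iv D1327) (iv F2152)
theorem F2963 : act 4 n1821 = n1318 := d10_2 (iv F2154) D1821 (iv D1318)
def n1822 : Q := act 1 n1318
theorem D1822 : act 1 n1318 = n1822 := rfl
theorem F2964 : act 2 n1822 = n1822 := d5_2 D1318 D1822 (iv D1822) (iv D1318) F1568
def n1823 : Q := act 3 n1318
theorem D1823 : act 3 n1318 = n1823 := rfl
theorem F2965 : act 0 n1823 = n1329 := d2_1 D1823 (iv D1329) (iv F2155)
theorem F2966 : act 2 n1823 = n1354 := d9_1 D1823 (iv D1354) (iv D973) (iv D689) (iv F1097) D937 D1308 D1811 F2936 (iv D1362) (iv D978) (iv D696) (iv F1114) D946 D1318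
theorem F2967 : act 5 n1823 = n1373 := d13_2 F2911 D1823 (iv F2912)
def n1824 : Q := act 3 n1319
theorem D1824 : act 3 n1319 = n1824 := rfl
theorem F2968 : act 0 n1824 = n1363 := d2_1 D1824 (iv D1363) (iv F2156)
theorem F2969 : act 1 n1824 = n1322 := d6_1 D1824 (iv D1322) (iv F2157)
theorem F2970 : act 4 n1824 = n1320 := d12_2 D1319 D1824 (iv D1320) (iv D948) D947
def n1825 : Q := act 5 n1319
theorem D1825 : act 5 n1319 = n1825 := rfl
theorem F2971 : act 0 n1825 = n1364 := d4_1 D1825 (iv D1364) (iv F2156)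
theorem F2972 : act 1 n1825 = n1323 := d8_1 D1825 (iv D1323) (iv F2157)
theorem F2973 : act 2 n1825 = n1358 := d11_1 D1825 (iv D1358) (iv F2158)
theorem F2974 : act 4 n1825 = n1323 := d14_1 D1825 (iv D1323) (iv D949) (iv F1572) D1319
def n1826 : Q := act 2 n1320
theorem D1826 : act 2 n1320 = n1826 := rfl
def n1827 : Q := act 5 n1320
theorem D1827 : act 5 n1320 = n1827 := rfl
theorem F2975 : act 1 n1827 = n1325 := d8_1 D1827 (iv D1325) (iv F2159)
theorem F2976 : act 3 n1827 = n1321 := d13_1 D1827 (iv D1321) D1320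
def n1828 : Q := act 2 n1322
theorem D1828 : act 2 n1322 = n1828 := rfl
theorem F2977 : act 0 n1828 = n1565 := d1_1 D1828 (iv D1565) (iv F2163)
theorem F2978 : act 4 n1828 = n1324 := d10_2 (iv F2164) D1828 (iv D1324)
def n1829 : Q := act 5 n1322
theorem D1829 : act 5 n1322 = n1829 := rfl
theorem F2979 : act 0 n1829 = n1566 := d4_1 D1829 (iv D1566) (iv F2163)
theorem F2980 : act 3 n1829 = n1323 := d13_1 D1829 (iv D1323) D1322
def n1830 : Q := act 1 n1324
theorem D1830 : act 1 n1324 = n1830 := rfl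
def n1831 : Q := act 3 n1324
theorem D1831 : act 3 n1324 = n1831 := rfl
def n1832 : Q := act 5 n1324
theorem D1832 : act 5 n1324 = n1832 := rfl
theorem F2981 : act 2 n1832 = n1325 := d11_1 D1832 (iv D1325) D1324
def n1833 : Q := act 4 n1325
theorem D1833 : act 4 n1325 = n1833 := rfl
def n1834 : Q := act 2 n1326
theorem D1834 : act 2 n1326 = n1834 := rfl
theorem F2982 : act 5 n1834 = n1327 := d11_2 (iv F2169) D1834 (iv D1327)
def n1835 : Q := act 1 n1327
theorem D1835 : act 1 n1327 = n1835 := rfl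
theorem F2983 : act 2 n1835 = n1330 := d5_2 D1327 D1835 (iv D1330) (iv D955) (iv F1580)
theorem F2984 : act 4 n1835 = n1328 := d7_2 (iv F2170) D1835 (iv D1328)
def n1836 : Q := act 3 n1327
theorem D1836 : act 3 n1327 = n1836 := rfl
def n1837 : Q := act 0 n1328
theorem D1837 : act 0 n1328 = n1837 := rfl
theorem F2985 : act 2 n1837 = n1333 := d1_2 (iv F2171) D1837 (iv D1333)
def n1838 : Q := act 3 n1328
theorem D1838 : act 3 n1328 = n1838 := rfl
theorem F2986 : act 1 n1838 = n1329 := d6_1 D1838 (iv D1329) D1328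
def n1839 : Q := act 2 n1329
theorem D1839 : act 2 n1329 = n1839 := rfl
theorem F2987 : act 0 n1839 = n1354 := d1_1 D1839 (iv F2966) F2965
theorem F2988 : act 3 n1839 = n1343 := d9_2 D1329 D1839 (iv D1343) (iv D964) (iv F1535) D1299 D1798 F2912 (iv D1373) (iv D985) (iv D701) (iv D490) (iv F802) D676 D954
theorem F2989 : act 5 n1839 = n1362 := d11_2 F2935 D1839 (iv F2936)
def n1840 : Q := act 4 n1329
theorem D1840 : act 4 n1329 = n1840 := rfl
def n1841 : Q := act 0 n1330
theorem D1841 : act 0 n1330 = n1841 := rfl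
theorem F2990 : act 1 n1841 = n1841 := d0_2 D1330 D1841 (iv D1841) (iv D1330) F1582
theorem F2991 : act 4 n1841 = n1333 := d3_2 (iv F2172) D1841 (iv D1333)
def n1842 : Q := act 3 n1330
theorem D1842 : act 3 n1330 = n1842 := rfl
theorem F2992 : act 1 n1842 = n1331 := d6_1 D1842 (iv D1331) D1330
theorem F2993 : act 5 n1812 = n1842 := d8_0 F2992 F2175 D1812
def n1843 : Q := act 5 n1330
theorem D1843 : act 5 n1330 = n1843 := rfl
theorem F2994 : act 1 n1843 = n1332 := d8_1 D1843 (iv D1332) D1330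
theorem F2995 : act 3 n1843 = n1812 := d13_1 D1843 F2993 (iv D1842)
theorem F2996 : act 4 n1843 = n1842 := d14_1 D1843 (iv F2993) F2937 F2138 (iv F2172)
def n1844 : Q := act 4 n1334
theorem D1844 : act 4 n1334 = n1844 := rfl
theorem F2997 : act 0 n1844 = n1336 := d3_1 D1844 (iv D1336) D1334
theorem F2998 : act 1 n1844 = n1340 := d7_1 D1844 (iv D1340) (iv F2181)
theorem F2999 : act 2 n1844 = n1466 := d10_1 D1844 (iv D1466) (iv F2182)
def n1845 : Q := act 4 n1335
theorem D1845 : act 4 n1335 = n1845 := rfl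
theorem F3000 : act 1 n1845 = n1337 := d7_1 D1845 (iv D1337) (iv F2184)
def n1846 : Q := act 3 n1336
theorem D1846 : act 3 n1336 = n1846 := rfl
theorem F3001 : act 1 n1846 = n1338 := d6_1 D1846 (iv D1338) (iv F2185)
def n1847 : Q := act 5 n1336
theorem D1847 : act 5 n1336 = n1847 := rfl
theorem F3002 : act 1 n1847 = n1339 := d8_1 D1847 (iv D1339) (iv F2185)
theorem F3003 : act 2 n1847 = n1469 := d11_1 D1847 (iv D1469) (iv F2186)
def n1848 : Q := act 3 n1337
theorem D1848 : act 3 n1337 = n1848 := rfl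
theorem F3004 : act 0 n1848 = n1349 := d2_1 D1848 (iv D1349) (iv F2187)
theorem F3005 : act 4 n1848 = n1338 := d12_2 D1337 D1848 (iv D1338) (iv D960) D959
def n1849 : Q := act 5 n1337
theorem D1849 : act 5 n1337 = n1849 := rfl
theorem F3006 : act 0 n1849 = n1350 := d4_1 D1849 (iv D1350) (iv F2187)
def n1850 : Q := act 2 n1338
theorem D1850 : act 2 n1338 = n1850 := rfl
theorem F3007 : act 0 n1850 = n1351 := d1_1 D1850 (iv D1351) (iv F2188)
theorem F3008 : act 3 n1850 = n1369 := d15_1 D1850 F2241 F1630 F1174 (iv F1143) (iv F1604) (iv F2210) (iv D1352) (iv F2188)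
theorem F3009 : act 5 n1368 = n1850 := d13_0 F3008 (iv D1369) D1368
def n1851 : Q := act 5 n1338
theorem D1851 : act 5 n1338 = n1851 := rfl
theorem F3010 : act 0 n1851 = n1352 := d4_1 D1851 (iv D1352) (iv F2188)
theorem F3011 : act 2 n1851 = n1368 := d11_1 D1851 F3009 (iv D1850)
theorem F3012 : act 3 n1851 = n1339 := d13_1 D1851 (iv D1339) D1338
def n1852 : Q := act 4 n1339
theorem D1852 : act 4 n1339 = n1852 := rfl
theorem F3013 : act 0 n1852 = n1346 := d3_1 D1852 F2207 (iv F2189)
theorem F3014 : act 2 n1852 = n1341 := d10_1 D1852 (iv D1341) (iv F2190)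
theorem F3015 : act 5 n1852 = n1340 := d14_2 D1339 D1852 (iv D1340) (iv D961) D960
def n1853 : Q := act 3 n1340
theorem D1853 : act 3 n1340 = n1853 := rfl
theorem F3016 : act 0 n1853 = n1345 := d2_1 D1853 (iv D1345) (iv F2191)
def n1854 : Q := act 2 n1342
theorem D1854 : act 2 n1342 = n1854 := rfl
theorem F3017 : act 0 n1854 = n1353 := d1_1 D1854 (iv D1353) (iv F2197)
theorem F3018 : act 4 n1854 = n1343 := d10_2 (iv F2199) D1854 (iv D1343)
theorem F3019 : act 5 n1854 = n1623 := d11_2 (iv F2200) D1854 F2672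
def n1855 : Q := act 1 n1343
theorem D1855 : act 1 n1343 = n1855 := rfl
theorem F3020 : act 2 n1855 = n1477 := d5_2 D1343 D1855 (iv D1477) (iv D1061) (iv F1598)
theorem F3021 : act 5 n1855 = n1361 := d8_2 (iv F2202) D1855 (iv D1361)
def n1856 : Q := act 3 n1344
theorem D1856 : act 3 n1344 = n1856 := rfl
theorem F3022 : act 1 n1856 = n1349 := d6_1 D1856 (iv D1349) (iv F2203)
theorem F3023 : act 4 n1856 = n1345 := d12_2 D1344 D1856 (iv D1345) (iv D966) D965
def n1857 : Q := act 5 n1344
theorem D1857 : act 5 n1344 = n1857 := rfl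
theorem F3024 : act 1 n1857 = n1350 := d8_1 D1857 (iv D1350) (iv F2203)
theorem F3025 : act 4 n1857 = n1350 := d14_1 D1857 (iv D1350) (iv D968) (iv F1601) D1344
def n1858 : Q := act 2 n1345
theorem D1858 : act 2 n1345 = n1858 := rfl
def n1859 : Q := act 5 n1345
theorem D1859 : act 5 n1345 = n1859 := rfl
theorem F3026 : act 1 n1859 = n1352 := d8_1 D1859 (iv D1352) (iv F2204)
theorem F3027 : act 3 n1859 = n1346 := d13_1 D1859 (iv D1346) D1345
def n1860 : Q := act 4 n1347
theorem D1860 : act 4 n1347 = n1860 := rfl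
theorem F3028 : act 1 n1860 = n1348 := d7_1 D1860 (iv D1348) D1347
def n1861 : Q := act 3 n1348
theorem D1861 : act 3 n1348 = n1861 := rfl
def n1862 : Q := act 5 n1348
theorem D1862 : act 5 n1348 = n1862 := rfl
theorem F3029 : act 2 n1862 = n1350 := d11_1 D1862 (iv D1350) (iv F2208)
def n1863 : Q := act 2 n1349
theorem D1863 : act 2 n1349 = n1863 := rfl
theorem F3030 : act 4 n1863 = n1351 := d10_2 (iv F2209) D1863 (iv D1351)
def n1864 : Q := act 5 n1349
theorem D1864 : act 5 n1349 = n1864 := rfl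
theorem F3031 : act 3 n1864 = n1350 := d13_1 D1864 (iv D1350) D1349
def n1865 : Q := act 1 n1351
theorem D1865 : act 1 n1351 = n1865 := rfl
def n1866 : Q := act 3 n1351
theorem D1866 : act 3 n1351 = n1866 := rfl
theorem F3032 : act 0 n1866 = n1369 := d2_1 D1866 (iv F3008) F3007
theorem F3033 : act 2 n1866 = n1360 := d9_1 D1866 F2229 F1619 (iv F1594) (iv F2190) (iv F3012) F3011 (iv D1368) (iv D982) (iv D699) F832 (iv F812) (iv F1141) D969 D1351
theorem F3034 : act 5 n1866 = n1359 := d15_8 (iv D982) (iv D699) F832 (iv F812) (iv F1141) D969 D1351 D1866 F2227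
def n1867 : Q := act 5 n1351
theorem D1867 : act 5 n1351 = n1867 := rfl
theorem F3035 : act 0 n1867 = n1368 := d4_1 D1867 F3009 F3007
theorem F3036 : act 2 n1867 = n1352 := d11_1 D1867 (iv D1352) D1351
theorem F3037 : act 3 n1867 = n1359 := d13_1 D1867 (iv F3034) (iv D1866)
def n1868 : Q := act 4 n1352
theorem D1868 : act 4 n1352 = n1868 := rfl
def n1869 : Q := act 3 n1353
theorem D1869 : act 3 n1353 = n1869 := rfl
theorem F3038 : act 5 n1869 = n1631 := d13_2 (iv F2212) D1869 (iv D1631)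
def n1870 : Q := act 4 n1354
theorem D1870 : act 4 n1354 = n1870 := rfl
def n1871 : Q := act 2 n1355
theorem D1871 : act 2 n1355 = n1871 := rfl
theorem F3039 : act 0 n1871 = n1542 := d1_1 D1871 (iv D1542) (iv F2214)
theorem F3040 : act 4 n1871 = n1772 := d10_2 (iv F2216) D1871 (iv D1772)
def n1872 : Q := act 5 n1355
theorem D1872 : act 5 n1355 = n1872 := rfl
theorem F3041 : act 0 n1872 = n1541 := d4_1 D1872 F2514 (iv F2214)
theorem F3042 : act 1 n1872 = n1360 := d8_1 D1872 (iv D1360) (iv F2215)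
theorem F3043 : act 3 n1872 = n1356 := d13_1 D1872 (iv D1356) D1355
def n1873 : Q := act 2 n1357
theorem D1873 : act 2 n1357 = n1873 := rfl
theorem F3044 : act 0 n1873 = n1365 := d1_1 D1873 (iv D1365) (iv F2221)
theorem F3045 : act 4 n1873 = n1359 := d10_2 (iv F2223) D1873 (iv D1359)
def n1874 : Q := act 5 n1357
theorem D1874 : act 5 n1357 = n1874 := rfl
theorem F3046 : act 0 n1874 = n1366 := d4_1 D1874 (iv D1366) (iv F2221)
theorem F3047 : act 1 n1874 = n1773 := d8_1 D1874 (iv D1773) (iv F2222)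
theorem F3048 : act 3 n1874 = n1358 := d13_1 D1874 (iv D1358) D1357
def n1875 : Q := act 1 n1359
theorem D1875 : act 1 n1359 = n1875 := rfl
def n1876 : Q := act 4 n1360
theorem D1876 : act 4 n1360 = n1876 := rfl
theorem F3049 : act 0 n1876 = n1370 := d3_1 D1876 (iv D1370) (iv F2228)
theorem F3050 : act 3 n1876 = n1562 := d12_1 D1876 (iv D1562) F1859 (iv F1620) (iv F2229)
def n1877 : Q := act 0 n1361
theorem D1877 : act 0 n1361 = n1877 := rfl
theorem F3051 : act 1 n1877 = n1371 := d0_2 D1361 D1877 (iv D1371) (iv D984) (iv F1621)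
theorem F3052 : act 2 n1877 = n1505 := d1_2 (iv F2230) D1877 (iv D1505)
theorem F3053 : act 4 n1877 = n1619 := d3_2 (iv F2231) D1877 (iv D1619)
def n1878 : Q := act 3 n1361
theorem D1878 : act 3 n1361 = n1878 := rfl
theorem F3054 : act 1 n1878 = n1362 := d6_1 D1878 (iv D1362) D1361
def n1879 : Q := act 4 n1362
theorem D1879 : act 4 n1362 = n1879 := rfl
theorem F3055 : act 0 n1879 = n1374 := d3_1 D1879 (iv D1374) (iv F2232)
theorem F3056 : act 3 n1879 = n1622 := d12_1 D1879 (iv D1622) (iv D1163) (iv F1622) D1362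
def n1880 : Q := act 2 n1363
theorem D1880 : act 2 n1363 = n1880 := rfl
def n1881 : Q := act 5 n1363
theorem D1881 : act 5 n1363 = n1881 := rfl
theorem F3057 : act 1 n1881 = n1761 := d8_1 D1881 (iv D1761) (iv F2233)
theorem F3058 : act 3 n1881 = n1364 := d13_1 D1881 (iv D1364) D1363
def n1882 : Q := act 1 n1365
theorem D1882 : act 1 n1365 = n1882 := rfl
theorem F3059 : act 2 n1882 = n1593 := d5_2 D1365 D1882 (iv D1593) (iv D1142) (iv F1625)
theorem F3060 : act 4 n1882 = n1367 := d7_2 (iv F2237) D1882 (iv D1367)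
def n1883 : Q := act 3 n1365
theorem D1883 : act 3 n1365 = n1883 := rfl
def n1884 : Q := act 5 n1365
theorem D1884 : act 5 n1365 = n1884 := rfl
theorem F3061 : act 2 n1884 = n1366 := d11_1 D1884 (iv D1366) D1365
def n1885 : Q := act 4 n1366
theorem D1885 : act 4 n1366 = n1885 := rfl
theorem F3062 : act 1 n1885 = n1591 := d7_1 D1885 F2614 (iv F2238)
theorem F3063 : act 3 n1885 = n1570 := d12_1 D1885 (iv D1570) F1866 (iv F1628) (iv F2239)
theorem F3064 : act 5 n1885 = n1370 := d14_2 D1366 D1885 (iv D1370) (iv D983) (iv F1626)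
def n1886 : Q := act 0 n1367
theorem D1886 : act 0 n1367 = n1886 := rfl
theorem F3065 : act 2 n1886 = n1602 := d1_2 (iv F2240) D1886 (iv D1602)
def n1887 : Q := act 3 n1367
theorem D1887 : act 3 n1367 = n1887 := rfl
theorem F3066 : act 1 n1887 = n1368 := d6_1 D1887 (iv D1368) D1367
def n1888 : Q := act 5 n1367
theorem D1888 : act 5 n1367 = n1888 := rfl
theorem F3067 : act 1 n1888 = n1369 := d8_1 D1888 (iv D1369) D1367
theorem F3068 : act 2 n1888 = n1601 := d11_1 D1888 F2636 (iv F2240)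
def n1889 : Q := act 4 n1368
theorem D1889 : act 4 n1368 = n1889 := rfl
def n1890 : Q := act 4 n1369
theorem D1890 : act 4 n1369 = n1890 := rfl
theorem F3069 : act 2 n1890 = n1370 := d10_1 D1890 (iv D1370) (iv F2241)
def n1891 : Q := act 3 n1371
theorem D1891 : act 3 n1371 = n1891 := rfl
theorem F3070 : act 0 n1891 = n1372 := d2_1 D1891 (iv D1372) D1371
def n1892 : Q := act 2 n1372
theorem D1892 : act 2 n1372 = n1892 := rfl
def n1893 : Q := act 4 n1372
theorem D1893 : act 4 n1372 = n1893 := rfl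
theorem F3071 : act 1 n1893 = n1374 := d7_1 D1893 (iv D1374) (iv F2246)
theorem F3072 : act 3 n1893 = n1626 := d12_1 D1893 (iv D1626) (iv D1167) (iv F1632) D1372
def n1894 : Q := act 1 n1373
theorem D1894 : act 1 n1373 = n1894 := rfl
def n1895 : Q := act 4 n1373
theorem D1895 : act 4 n1373 = n1895 := rfl
theorem F3073 : act 2 n1895 = n1374 := d10_1 D1895 (iv D1374) D1373
def n1896 : Q := act 5 n1374
theorem D1896 : act 5 n1374 = n1896 := rfl
theorem F3074 : act 3 n1896 = n1629 := d13_1 D1896 (iv D1629) (iv F2247)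
def n1897 : Q := act 2 n1375
theorem D1897 : act 2 n1375 = n1897 := rfl
theorem F3075 : act 0 n1897 = n1379 := d1_1 D1897 (iv D1379) (iv F2248)
def n1898 : Q := act 5 n1375
theorem D1898 : act 5 n1375 = n1898 := rfl
theorem F3076 : act 0 n1898 = n1380 := d4_1 D1898 (iv D1380) (iv F2248)
theorem F3077 : act 1 n1898 = n1392 := d8_1 D1898 (iv D1392) (iv F2249)
theorem F3078 : act 3 n1898 = n1376 := d13_1 D1898 (iv D1376) D1375
def n1899 : Q := act 2 n1377
theorem D1899 : act 2 n1377 = n1899 := rfl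
theorem F3079 : act 4 n1899 = n1379 := d10_2 (iv F2255) D1899 (iv D1379)
def n1900 : Q := act 5 n1377
theorem D1900 : act 5 n1377 = n1900 := rfl
theorem F3080 : act 1 n1900 = n1384 := d8_1 D1900 (iv D1384) (iv F2254)
theorem F3081 : act 3 n1900 = n1378 := d13_1 D1900 (iv D1378) D1377
def n1901 : Q := act 1 n1379
theorem D1901 : act 1 n1379 = n1901 := rfl
theorem F3082 : act 2 n1901 = n1385 := d5_2 D1379 D1901 (iv D1385) (iv D994) (iv F1639)
theorem F3083 : act 5 n1453 = n1901 := d11_0 F3082 F2270 D1453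
def n1902 : Q := act 3 n1379
theorem D1902 : act 3 n1379 = n1902 := rfl
def n1903 : Q := act 5 n1379
theorem D1903 : act 5 n1379 = n1903 := rfl
theorem F3084 : act 1 n1903 = n1453 := d8_1 D1903 F3083 (iv D1901)
theorem F3085 : act 2 n1903 = n1380 := d11_1 D1903 (iv D1380) D1379
def n1904 : Q := act 4 n1380
theorem D1904 : act 4 n1380 = n1904 := rfl
theorem F3086 : act 1 n1904 = n1386 := d7_1 D1904 (iv D1386) (iv F2257)
def n1905 : Q := act 3 n1381
theorem D1905 : act 3 n1381 = n1905 := rfl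
theorem F3087 : act 0 n1905 = n1500 := d2_1 D1905 F2450 (iv F2259)
theorem F3088 : act 1 n1905 = n1387 := d6_1 D1905 (iv D1387) (iv F2260)
theorem F3089 : act 5 n1905 = n1382 := d13_2 (iv F2262) D1905 (iv D1382)
def n1906 : Q := act 2 n1382
theorem D1906 : act 2 n1382 = n1906 := rfl
theorem F3090 : act 0 n1906 = n1499 := d1_1 D1906 (iv D1499) (iv F2263)
def n1907 : Q := act 1 n1383
theorem D1907 : act 1 n1383 = n1907 := rfl
theorem F3091 : act 4 n1907 = n1385 := d7_2 (iv F2266) D1907 (iv D1385)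
def n1908 : Q := act 3 n1383
theorem D1908 : act 3 n1383 = n1908 := rfl
theorem F3092 : act 0 n1908 = n1404 := d2_1 D1908 (iv D1404) (iv F2265)
theorem F3093 : act 4 n1908 = n1457 := d12_2 (iv F2266) D1908 (iv D1457) (iv D1045) (iv F1649)
def n1909 : Q := act 5 n1383
theorem D1909 : act 5 n1383 = n1909 := rfl
theorem F3094 : act 0 n1909 = n1405 := d4_1 D1909 (iv D1405) (iv F2265)
theorem F3095 : act 2 n1909 = n1384 := d11_1 D1909 (iv D1384) D1383
theorem F3096 : act 4 n1909 = n1456 := d14_1 D1909 (iv D1456) (iv D1044) F1650 (iv F2266)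
def n1910 : Q := act 4 n1384
theorem D1910 : act 4 n1384 = n1910 := rfl
theorem F3097 : act 0 n1910 = n1406 := d3_1 D1910 (iv D1406) (iv F2267)
theorem F3098 : act 2 n1910 = n1456 := d10_1 D1910 (iv F3096) F3095
theorem F3099 : act 5 n1910 = n1386 := d14_2 D1384 D1910 (iv D1386) (iv D995) (iv F1646)
def n1911 : Q := act 0 n1385
theorem D1911 : act 0 n1385 = n1911 := rfl
theorem F3100 : act 1 n1911 = n1409 := d0_2 D1385 D1911 (iv D1409) (iv D1013) (iv F1648)
theorem F3101 : act 3 n1911 = n1452 := d2_2 (iv F2269) D1911 F2372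
theorem F3102 : act 5 n1911 = n1451 := d4_2 (iv F2270) D1911 F2371
def n1912 : Q := act 3 n1386
theorem D1912 : act 3 n1386 = n1912 := rfl
theorem F3103 : act 0 n1912 = n1414 := d2_1 D1912 (iv D1414) (iv F2271)
theorem F3104 : act 4 n1912 = n1387 := d12_2 D1386 D1912 (iv D1387) (iv D996) (iv F1653)
def n1913 : Q := act 2 n1387
theorem D1913 : act 2 n1387 = n1913 := rfl
theorem F3105 : act 0 n1913 = n1415 := d1_1 D1913 (iv D1415) (iv F2273)
theorem F3106 : act 3 n1913 = n1418 := d9_2 D1387 D1913 (iv D1418) (iv D1019) (iv D727) (iv D509) (iv F867) D726 D1018 D1417 (iv F2810) (iv D1720) F2035 F1462 (iv F1655)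
theorem F3107 : act 5 n1913 = n1388 := d11_2 (iv F2274) D1913 (iv D1388)
def n1914 : Q := act 1 n1388
theorem D1914 : act 1 n1388 = n1914 := rfl
def n1915 : Q := act 3 n1389
theorem D1915 : act 3 n1389 = n1915 := rfl
theorem F3108 : act 1 n1915 = n1390 := d6_1 D1915 (iv D1390) D1389
def n1916 : Q := act 2 n1390
theorem D1916 : act 2 n1390 = n1916 := rfl
theorem F3109 : act 0 n1916 = n1418 := d1_1 D1916 (iv D1418) (iv F2278)
theorem F3110 : act 3 n1916 = n1415 := d9_2 D1390 D1916 (iv D1415) (iv D1017) F1217 (iv F1040) (iv F1471) D1251 D1738 F2833 (iv D1388) (iv D997) F1192 D712 D998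
theorem F3111 : act 5 n1916 = n1417 := d11_2 F2809 D1916 (iv F2810)
def n1917 : Q := act 1 n1391
theorem D1917 : act 1 n1391 = n1917 := rfl
def n1918 : Q := act 3 n1391
theorem D1918 : act 3 n1391 = n1918 := rfl
theorem F3112 : act 0 n1918 = n1396 := d2_1 D1918 (iv D1396) (iv F2279)
theorem F3113 : act 2 n1918 = n1429 := d15_2 D1391 D1918 F2333 F1702 F1230 (iv F1206) (iv F1671) (iv D1005) (iv F1662)
theorem F3114 : act 5 n1427 = n1918 := d11_0 F3113 (iv D1429) D1427
def n1919 : Q := act 5 n1391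
theorem D1919 : act 5 n1391 = n1919 := rfl
theorem F3115 : act 0 n1919 = n1397 := d4_1 D1919 (iv D1397) (iv F2279)
theorem F3116 : act 2 n1919 = n1392 := d11_1 D1919 (iv D1392) D1391
theorem F3117 : act 3 n1919 = n1427 := d13_1 D1919 F3114 (iv D1918)
def n1920 : Q := act 4 n1392
theorem D1920 : act 4 n1392 = n1920 := rfl
theorem F3118 : act 0 n1920 = n1398 := d3_1 D1920 (iv D1398) (iv F2280)
theorem F3119 : act 3 n1920 = n1504 := d12_1 D1920 (iv D1504) F1788 (iv F1665) (iv F2281)
def n1921 : Q := act 1 n1393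
theorem D1921 : act 1 n1393 = n1921 := rfl
theorem F3120 : act 2 n1921 = n1403 := d5_2 D1393 D1921 (iv D1403) (iv D1009) (iv F1666)
theorem F3121 : act 4 n1921 = n1395 := d7_2 (iv F2282) D1921 (iv D1395)
def n1922 : Q := act 3 n1393
theorem D1922 : act 3 n1393 = n1922 := rfl
def n1923 : Q := act 5 n1393
theorem D1923 : act 5 n1393 = n1923 := rfl
theorem F3122 : act 2 n1923 = n1394 := d11_1 D1923 (iv D1394) D1393
def n1924 : Q := act 4 n1394
theorem D1924 : act 4 n1394 = n1924 := rfl
theorem F3123 : act 1 n1924 = n1406 := d7_1 D1924 (iv D1406) (iv F2283)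
theorem F3124 : act 3 n1924 = n1515 := d12_1 D1924 (iv D1515) F1800 (iv F1669) (iv F2284)
theorem F3125 : act 5 n1924 = n1398 := d14_2 D1394 D1924 (iv D1398) (iv D1005) (iv F1667)
def n1925 : Q := act 0 n1395
theorem D1925 : act 0 n1395 = n1925 := rfl
theorem F3126 : act 2 n1925 = n1409 := d1_2 (iv F2285) D1925 (iv D1409)
def n1926 : Q := act 3 n1395
theorem D1926 : act 3 n1395 = n1926 := rfl
theorem F3127 : act 1 n1926 = n1396 := d6_1 D1926 (iv D1396) D1395
def n1927 : Q := act 5 n1395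
theorem D1927 : act 5 n1395 = n1927 := rfl
theorem F3128 : act 1 n1927 = n1397 := d8_1 D1927 (iv D1397) D1395
theorem F3129 : act 2 n1927 = n1411 := d11_1 D1927 (iv D1411) (iv F2285)
def n1928 : Q := act 2 n1396
theorem D1928 : act 2 n1396 = n1928 := rfl
theorem F3130 : act 0 n1928 = n1429 := d1_1 D1928 (iv F3113) F3112
theorem F3131 : act 3 n1928 = n1423 := d9_2 D1396 D1928 F2321 F1697 (iv F1664) (iv F2281) (iv F3116) F3117 (iv D1427) (iv D1024) (iv D731) (iv D512) (iv F858) D716 D1004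
theorem F3132 : act 5 n1422 = n1928 := d13_0 F3131 (iv D1423) D1422
def n1929 : Q := act 4 n1396
theorem D1929 : act 4 n1396 = n1929 := rfl
def n1930 : Q := act 5 n1396
theorem D1930 : act 5 n1396 = n1930 := rfl
theorem F3133 : act 0 n1930 = n1427 := d4_1 D1930 F3114 F3112
theorem F3134 : act 2 n1930 = n1422 := d11_1 D1930 F3132 (iv D1928)
theorem F3135 : act 3 n1930 = n1397 := d13_1 D1930 (iv D1397) D1396
def n1931 : Q := act 4 n1397
theorem D1931 : act 4 n1397 = n1931 := rfl
theorem F3136 : act 2 n1931 = n1398 := d10_1 D1931 (iv D1398) (iv F2286)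
def n1932 : Q := act 2 n1399
theorem D1932 : act 2 n1399 = n1932 := rfl
theorem F3137 : act 4 n1932 = n1906 := d10_2 (iv F2290) D1932 (iv D1906)
def n1933 : Q := act 5 n1399
theorem D1933 : act 5 n1399 = n1933 := rfl
theorem F3138 : act 1 n1933 = n1402 := d8_1 D1933 (iv D1402) (iv F2289)
theorem F3139 : act 3 n1933 = n1400 := d13_1 D1933 (iv D1400) D1399
def n1934 : Q := act 1 n1401
theorem D1934 : act 1 n1401 = n1934 := rfl
theorem F3140 : act 4 n1934 = n1914 := d7_2 (iv F2293) D1934 (iv D1914)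
def n1935 : Q := act 3 n1401
theorem D1935 : act 3 n1401 = n1935 := rfl
def n1936 : Q := act 5 n1401
theorem D1936 : act 5 n1401 = n1936 := rfl
theorem F3141 : act 2 n1936 = n1402 := d11_1 D1936 (iv D1402) D1401
def n1937 : Q := act 4 n1402
theorem D1937 : act 4 n1402 = n1937 := rfl
theorem F3142 : act 3 n1937 = n1910 := d12_1 D1937 (iv D1910) F2268 (iv F1675) (iv F2294)
theorem F3143 : act 5 n1937 = n1912 := d14_2 D1402 D1937 F3104 F2274 (iv F1673)
def n1938 : Q := act 0 n1403
theorem D1938 : act 0 n1403 = n1938 := rfl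
theorem F3144 : act 4 n1938 = n1409 := d3_2 (iv F2295) D1938 (iv D1409)
def n1939 : Q := act 3 n1403
theorem D1939 : act 3 n1403 = n1939 := rfl
theorem F3145 : act 1 n1939 = n1404 := d6_1 D1939 (iv D1404) D1403
def n1940 : Q := act 5 n1403
theorem D1940 : act 5 n1403 = n1940 := rfl
theorem F3146 : act 1 n1940 = n1405 := d8_1 D1940 (iv D1405) D1403
def n1941 : Q := act 2 n1404
theorem D1941 : act 2 n1404 = n1941 := rfl
def n1942 : Q := act 4 n1404
theorem D1942 : act 4 n1404 = n1942 := rfl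
theorem F3147 : act 0 n1942 = n1457 := d3_1 D1942 (iv F3093) F3092
theorem F3148 : act 3 n1942 = n1412 := d12_1 D1942 (iv D1412) (iv D1014) (iv F1676) D1404
def n1943 : Q := act 5 n1404
theorem D1943 : act 5 n1404 = n1943 := rfl
theorem F3149 : act 3 n1943 = n1405 := d13_1 D1943 (iv D1405) D1404
def n1944 : Q := act 4 n1405
theorem D1944 : act 4 n1405 = n1944 := rfl
theorem F3150 : act 0 n1944 = n1456 := d3_1 D1944 (iv F3096) F3094
theorem F3151 : act 2 n1944 = n1406 := d10_1 D1944 (iv D1406) (iv F2296)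
theorem F3152 : act 5 n1944 = n1413 := d14_2 D1405 D1944 (iv D1413) (iv D1015) (iv F1676)
def n1945 : Q := act 3 n1406
theorem D1945 : act 3 n1406 = n1945 := rfl
theorem F3153 : act 0 n1945 = n1937 := d2_1 D1945 F3142 F3097
theorem F3154 : act 1 n1945 = n1515 := d6_1 D1945 (iv F3124) F3123
theorem F3155 : act 4 n1945 = n1407 := d12_2 D1406 D1945 (iv D1407) (iv D1011) (iv F1677)
theorem F3156 : act 5 n1945 = n1414 := d13_2 (iv F2297) D1945 (iv D1414)
def n1946 : Q := act 2 n1407
theorem D1946 : act 2 n1407 = n1946 := rfl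
theorem F3157 : act 0 n1946 = n1936 := d1_1 D1946 F3141 (iv F2298)
theorem F3158 : act 5 n1946 = n1408 := d11_2 (iv F2300) D1946 (iv D1408)
theorem F3159 : act 3 n1946 = n1941 := d15_1 D1946 (iv D1941) (iv D1404) (iv D1009) (iv D720) (iv F1210) D1007 D1402 (iv F2298)
def n1947 : Q := act 1 n1408
theorem D1947 : act 1 n1408 = n1947 := rfl
theorem F3160 : act 2 n1947 = n1512 := d5_2 D1408 D1947 (iv D1512) (iv D1088) (iv F1683)
theorem F3161 : act 4 n1947 = n1416 := d7_2 (iv F2302) D1947 (iv D1416)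
def n1948 : Q := act 3 n1408
theorem D1948 : act 3 n1408 = n1948 := rfl
theorem F3162 : act 0 n1948 = n1935 := d2_1 D1948 (iv D1935) (iv F2301)
theorem F3163 : act 5 n1948 = n1941 := d13_2 F3158 D1948 (iv F3159)
theorem F3164 : act 2 n1948 = n1943 := d15_2 D1408 D1948 F3149 F2296 F1677 (iv F1674) (iv F2294) (iv D1402) (iv F1682)
def n1949 : Q := act 3 n1409
theorem D1949 : act 3 n1409 = n1949 := rfl
theorem F3165 : act 0 n1949 = n1410 := d2_1 D1949 (iv D1410) D1409
theorem F3166 : act 1 n1949 = n1452 := d6_1 D1949 (iv F3101) F3100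
theorem F3167 : act 5 n1435 = n1949 := d8_0 F3166 (iv D1452) (iv F2345)
def n1950 : Q := act 5 n1409
theorem D1950 : act 5 n1409 = n1950 := rfl
theorem F3168 : act 0 n1950 = n1411 := d4_1 D1950 (iv D1411) D1409
theorem F3169 : act 1 n1950 = n1451 := d8_1 D1950 (iv F3102) F3100
theorem F3170 : act 3 n1950 = n1435 := d13_1 D1950 F3167 (iv D1949)
def n1951 : Q := act 2 n1410
theorem D1951 : act 2 n1410 = n1951 := rfl
theorem F3171 : act 1 n1951 = n1433 := d5_1 D1951 F2341 F1713 (iv F1686) (iv F2303)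
theorem F3172 : act 5 n1951 = n1431 := d11_2 F2304 D1951 F2337
def n1952 : Q := act 4 n1410
theorem D1952 : act 4 n1410 = n1952 := rfl
theorem F3173 : act 1 n1952 = n1412 := d7_1 D1952 (iv D1412) (iv F2303)
def n1953 : Q := act 4 n1411
theorem D1953 : act 4 n1411 = n1953 := rfl
theorem F3174 : act 1 n1953 = n1413 := d7_1 D1953 (iv D1413) (iv F2305)
def n1954 : Q := act 5 n1412
theorem D1954 : act 5 n1412 = n1954 := rfl
theorem F3175 : act 0 n1954 = n1450 := d4_1 D1954 F2370 (iv F2307)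
theorem F3176 : act 2 n1954 = n1434 := d11_1 D1954 F2344 (iv F2308)
theorem F3177 : act 4 n1954 = n1433 := d14_1 D1954 (iv D1433) F1711 (iv F1687) D1412
def n1955 : Q := act 3 n1413
theorem D1955 : act 3 n1413 = n1955 := rfl
theorem F3178 : act 0 n1955 = n1448 := d2_1 D1955 F2366 (iv F2309)
theorem F3179 : act 4 n1955 = n1432 := d12_2 D1413 D1955 (iv D1432) F1711 (iv F1690)
def n1956 : Q := act 2 n1414
theorem D1956 : act 2 n1414 = n1956 := rfl
theorem F3180 : act 4 n1956 = n1415 := d10_2 (iv F2312) D1956 (iv D1415)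
def n1957 : Q := act 1 n1415
theorem D1957 : act 1 n1415 = n1957 := rfl
theorem F3181 : act 2 n1957 = n1518 := d5_2 D1415 D1957 F2475 F1801 (iv F1691)
theorem F3182 : act 5 n1957 = n1416 := d8_2 (iv F2313) D1957 (iv D1416)
def n1958 : Q := act 0 n1416
theorem D1958 : act 0 n1416 = n1958 := rfl
theorem F3183 : act 2 n1958 = n1516 := d1_2 (iv F2314) D1958 (iv D1516)
def n1959 : Q := act 3 n1416
theorem D1959 : act 3 n1416 = n1959 := rfl
theorem F3184 : act 1 n1959 = n1417 := d6_1 D1959 (iv D1417) D1416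
def n1960 : Q := act 4 n1417
theorem D1960 : act 4 n1417 = n1960 := rfl
def n1961 : Q := act 1 n1418
theorem D1961 : act 1 n1418 = n1961 := rfl
def n1962 : Q := act 4 n1418
theorem D1962 : act 4 n1418 = n1962 := rfl
theorem F3185 : act 2 n1962 = n1419 := d10_1 D1962 (iv D1419) D1418
def n1963 : Q := act 5 n1419
theorem D1963 : act 5 n1419 = n1963 := rfl
theorem F3186 : act 3 n1963 = n1420 := d13_1 D1963 (iv D1420) (iv F2315)
def n1964 : Q := act 0 n1421
theorem D1964 : act 0 n1421 = n1964 := rfl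
theorem F3187 : act 1 n1964 = n1425 := d0_2 D1421 D1964 (iv D1425) (iv D1023) (iv F1693)
theorem F3188 : act 2 n1964 = n1619 := d1_2 (iv F2317) D1964 (iv D1619)
theorem F3189 : act 4 n1964 = n1505 := d3_2 (iv F2318) D1964 (iv D1505)
theorem F3190 : act 5 n1739 = n1964 := d11_0 F3188 (iv F2837) F2836
def n1965 : Q := act 3 n1421
theorem D1965 : act 3 n1421 = n1965 := rfl
theorem F3191 : act 1 n1965 = n1422 := d6_1 D1965 (iv D1422) D1421
def n1966 : Q := act 5 n1421
theorem D1966 : act 5 n1421 = n1966 := rfl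
theorem F3192 : act 0 n1966 = n1739 := d4_1 D1966 F3190 (iv D1964)
theorem F3193 : act 1 n1966 = n1423 := d8_1 D1966 (iv D1423) D1421
theorem F3194 : act 2 n1966 = n1621 := d11_1 D1966 (iv D1621) (iv F2317)
def n1967 : Q := act 4 n1422
theorem D1967 : act 4 n1422 = n1967 := rfl
theorem F3195 : act 0 n1967 = n1428 := d3_1 D1967 (iv D1428) (iv F2319)
theorem F3196 : act 3 n1967 = n1507 := d12_1 D1967 (iv D1507) (iv D1084) (iv F1694) D1422
def n1968 : Q := act 4 n1423
theorem D1968 : act 4 n1423 = n1968 := rfl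
theorem F3197 : act 0 n1968 = n1430 := d3_1 D1968 (iv D1430) (iv F2320)
theorem F3198 : act 2 n1968 = n1424 := d10_1 D1968 (iv D1424) (iv F2321)
theorem F3199 : act 5 n1968 = n1476 := d14_2 D1423 D1968 F2408 F1753 (iv F1694)
def n1969 : Q := act 3 n1425
theorem D1969 : act 3 n1425 = n1969 := rfl
theorem F3200 : act 0 n1969 = n1426 := d2_1 D1969 (iv D1426) D1425
theorem F3201 : act 5 n1969 = n1740 := d13_2 (iv F2328) D1969 (iv D1740)
theorem F3202 : act 2 n1969 = n1726 := d15_2 (iv F2326) D1969 (iv D1726) (iv D1243) (iv D885) F1036 D627 (iv F1233) D1027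
def n1970 : Q := act 2 n1426
theorem D1970 : act 2 n1426 = n1970 := rfl
theorem F3203 : act 0 n1970 = n1726 := d1_1 D1970 (iv F3202) F3200
theorem F3204 : act 5 n1970 = n1741 := d11_2 (iv F2330) D1970 (iv D1741)
theorem F3205 : act 3 n1970 = n1721 := d15_1 D1970 (iv D1721) (iv D1241) F1464 D891 D1252 D1740 (iv F3201) F3200
def n1971 : Q := act 4 n1426
theorem D1971 : act 4 n1426 = n1971 := rfl
theorem F3206 : act 1 n1971 = n1428 := d7_1 D1971 (iv D1428) (iv F2329)
theorem F3207 : act 3 n1971 = n1523 := d12_1 D1971 (iv D1523) (iv D1095) (iv F1699) D1426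
def n1972 : Q := act 1 n1427
theorem D1972 : act 1 n1427 = n1972 := rfl
def n1973 : Q := act 4 n1427
theorem D1973 : act 4 n1427 = n1973 := rfl
theorem F3208 : act 2 n1973 = n1428 := d10_1 D1973 (iv D1428) D1427
def n1974 : Q := act 5 n1428
theorem D1974 : act 5 n1428 = n1974 := rfl
theorem F3209 : act 3 n1974 = n1526 := d13_1 D1974 (iv D1526) (iv F2331)
def n1975 : Q := act 4 n1429
theorem D1975 : act 4 n1429 = n1975 := rfl
theorem F3210 : act 1 n1975 = n1742 := d7_1 D1975 (iv D1742) (iv F2332)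
def n1976 : Q := act 3 n1430
theorem D1976 : act 3 n1430 = n1976 := rfl
theorem F3211 : act 1 n1976 = n1633 := d6_1 D1976 (iv D1633) (iv F2334)
theorem F3212 : act 5 n1976 = n1492 := d13_2 (iv F2336) D1976 (iv D1492)
def n1977 : Q := act 0 n1431
theorem D1977 : act 0 n1431 = n1977 := rfl
theorem F3213 : act 1 n1977 = n1444 := d0_2 D1431 D1977 (iv D1444) (iv D1037) (iv F1710)
theorem F3214 : act 2 n1977 = n1435 := d1_2 (iv F2337) D1977 (iv D1435)
theorem F3215 : act 4 n1977 = n1435 := d3_2 (iv F2338) D1977 (iv D1435)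
def n1978 : Q := act 3 n1431
theorem D1978 : act 3 n1431 = n1978 := rfl
theorem F3216 : act 1 n1978 = n1432 := d6_1 D1978 (iv D1432) D1431
def n1979 : Q := act 2 n1432
theorem D1979 : act 2 n1432 = n1979 := rfl
theorem F3217 : act 0 n1979 = n1447 := d1_1 D1979 (iv D1447) (iv F2339)
theorem F3218 : act 3 n1979 = n1442 := d9_2 D1432 D1979 F2356 F1725 F1255 (iv F1258) (iv F1727) (iv F2368) F2367 (iv D1176) (iv D841) (iv D593) (iv F888) D735 D1028
theorem F3219 : act 5 n1441 = n1979 := d13_0 F3218 (iv D1442) D1441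
def n1980 : Q := act 5 n1432
theorem D1980 : act 5 n1432 = n1980 := rfl
theorem F3220 : act 0 n1980 = n1449 := d4_1 D1980 (iv D1449) (iv F2339)
theorem F3221 : act 2 n1980 = n1441 := d11_1 D1980 F3219 (iv D1979)
theorem F3222 : act 3 n1980 = n1433 := d13_1 D1980 (iv D1433) D1432
def n1981 : Q := act 2 n1436
theorem D1981 : act 2 n1436 = n1981 := rfl
theorem F3223 : act 0 n1981 = n1437 := d1_1 D1981 (iv D1437) (iv F2346)
theorem F3224 : act 1 n1981 = n1757 := d5_1 D1981 F2857 F2782 F2014 (iv F2347)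
theorem F3225 : act 3 n1981 = n1756 := d15_1 D1981 F2855 F2082 F1515 (iv F1351) (iv F1660) (iv F1734) F1735 (iv F2346)
def n1982 : Q := act 4 n1436
theorem D1982 : act 4 n1436 = n1982 := rfl
theorem F3226 : act 0 n1982 = n1438 := d3_1 D1982 (iv D1438) (iv F2346)
theorem F3227 : act 1 n1982 = n1458 := d7_1 D1982 (iv D1458) (iv F2347)
def n1983 : Q := act 3 n1437
theorem D1983 : act 3 n1437 = n1983 := rfl
theorem F3228 : act 0 n1983 = n1756 := d2_1 D1983 (iv F3225) F3223
theorem F3229 : act 1 n1983 = n1614 := d6_1 D1983 F2655 (iv F2348)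
theorem F3230 : act 5 n1983 = n1702 := d13_2 F2377 D1983 F2776
theorem F3231 : act 2 n1983 = n1766 := d15_2 D1437 D1983 F2866 F2089 (iv F1852) (iv F2064) (iv F2381) F2382 F2346
def n1984 : Q := act 4 n1437
theorem D1984 : act 4 n1437 = n1984 := rfl
theorem F3232 : act 1 n1984 = n1752 := d7_1 D1984 (iv D1752) (iv F2348)
theorem F3233 : act 2 n1984 = n1438 := d10_1 D1984 (iv D1438) D1437
def n1985 : Q := act 5 n1438
theorem D1985 : act 5 n1438 = n1985 := rfl
theorem F3234 : act 1 n1985 = n1439 := d8_1 D1985 (iv D1439) (iv F2349)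
def n1986 : Q := act 0 n1440
theorem D1986 : act 0 n1440 = n1986 := rfl
theorem F3235 : act 1 n1986 = n1634 := d0_2 D1440 D1986 (iv D1634) (iv D1175) (iv F1721)
theorem F3236 : act 2 n1986 = n1657 := d1_2 (iv F2352) D1986 (iv D1657)
theorem F3237 : act 4 n1986 = n1657 := d3_2 (iv F2353) D1986 (iv D1657)
def n1987 : Q := act 3 n1440
theorem D1987 : act 3 n1440 = n1987 := rfl
theorem F3238 : act 1 n1987 = n1441 := d6_1 D1987 (iv D1441) D1440
def n1988 : Q := act 5 n1440
theorem D1988 : act 5 n1440 = n1988 := rfl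
theorem F3239 : act 1 n1988 = n1442 := d8_1 D1988 (iv D1442) D1440
theorem F3240 : act 2 n1988 = n1659 := d11_1 D1988 (iv D1659) (iv F2352)
def n1989 : Q := act 4 n1441
theorem D1989 : act 4 n1441 = n1989 := rfl
theorem F3241 : act 0 n1989 = n1636 := d3_1 D1989 (iv D1636) (iv F2354)
theorem F3242 : act 3 n1989 = n1660 := d12_1 D1989 (iv D1660) (iv D1195) (iv F1722) D1441
def n1990 : Q := act 4 n1442
theorem D1990 : act 4 n1442 = n1990 := rfl
theorem F3243 : act 0 n1990 = n1637 := d3_1 D1990 (iv D1637) (iv F2355)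
theorem F3244 : act 2 n1990 = n1443 := d10_1 D1990 (iv D1443) (iv F2356)
theorem F3245 : act 5 n1990 = n1661 := d14_2 D1442 D1990 (iv D1661) (iv D1196) (iv F1722)
def n1991 : Q := act 3 n1444
theorem D1991 : act 3 n1444 = n1991 := rfl
theorem F3246 : act 0 n1991 = n1445 := d2_1 D1991 (iv D1445) D1444
def n1992 : Q := act 5 n1444
theorem D1992 : act 5 n1444 = n1992 := rfl
theorem F3247 : act 0 n1992 = n1446 := d4_1 D1992 (iv D1446) D1444
def n1993 : Q := act 2 n1445
theorem D1993 : act 2 n1445 = n1993 := rfl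
def n1994 : Q := act 4 n1445
theorem D1994 : act 4 n1445 = n1994 := rfl
theorem F3248 : act 1 n1994 = n1448 := d7_1 D1994 (iv D1448) (iv F2362)
theorem F3249 : act 3 n1994 = n1454 := d12_1 D1994 (iv D1454) (iv D1042) (iv F1726) D1445
def n1995 : Q := act 5 n1445
theorem D1995 : act 5 n1445 = n1995 := rfl
theorem F3250 : act 1 n1995 = n1449 := d8_1 D1995 (iv D1449) (iv F2362)
theorem F3251 : act 3 n1995 = n1446 := d13_1 D1995 (iv D1446) D1445
def n1996 : Q := act 4 n1446
theorem D1996 : act 4 n1446 = n1996 := rfl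
theorem F3252 : act 1 n1996 = n1450 := d7_1 D1996 (iv D1450) (iv F2363)
theorem F3253 : act 5 n1996 = n1455 := d14_2 D1446 D1996 (iv D1455) (iv D1043) (iv F1726)
def n1997 : Q := act 1 n1447
theorem D1997 : act 1 n1447 = n1997 := rfl
theorem F3254 : act 3 n1997 = n1597 := d6_2 (iv F2364) D1997 F2629
theorem F3255 : act 5 n1997 = n1635 := d8_2 F2365 D1997 F2680
def n1998 : Q := act 4 n1447
theorem D1998 : act 4 n1447 = n1998 := rfl
theorem F3256 : act 2 n1998 = n1448 := d10_1 D1998 (iv D1448) D1447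
def n1999 : Q := act 5 n1448
theorem D1999 : act 5 n1448 = n1999 := rfl
theorem F3257 : act 3 n1999 = n1456 := d13_1 D1999 (iv D1456) (iv F2366)
def n2000 : Q := act 4 n1449
theorem D2000 : act 4 n1449 = n2000 := rfl
theorem F3258 : act 2 n2000 = n1636 := d10_1 D2000 (iv D1636) (iv F2367)
def n2001 : Q := act 3 n1450
theorem D2001 : act 3 n1450 = n2001 := rfl
theorem F3259 : act 5 n2001 = n1457 := d13_2 (iv F2370) D2001 (iv D1457)
def n2002 : Q := act 2 n1451
theorem D2002 : act 2 n1451 = n2002 := rfl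
theorem F3260 : act 0 n2002 = n1453 := d1_1 D2002 (iv D1453) (iv F2371)
def n2003 : Q := act 4 n1451
theorem D2003 : act 4 n1451 = n2003 := rfl
theorem F3261 : act 0 n2003 = n1454 := d3_1 D2003 (iv D1454) (iv F2371)
def n2004 : Q := act 4 n1452
theorem D2004 : act 4 n1452 = n2004 := rfl
theorem F3262 : act 0 n2004 = n1455 := d3_1 D2004 (iv D1455) (iv F2372)
def n2005 : Q := act 3 n1453
theorem D2005 : act 3 n1453 = n2005 := rfl
def n2006 : Q := act 4 n1453
theorem D2006 : act 4 n1453 = n2006 := rfl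
theorem F3263 : act 2 n2006 = n1454 := d10_1 D2006 (iv D1454) D1453
def n2007 : Q := act 5 n1454
theorem D2007 : act 5 n1454 = n2007 := rfl
theorem F3264 : act 1 n2007 = n1456 := d8_1 D2007 (iv D1456) (iv F2373)
def n2008 : Q := act 3 n1455
theorem D2008 : act 3 n1455 = n2008 := rfl
theorem F3265 : act 1 n2008 = n1457 := d6_1 D2008 (iv D1457) (iv F2374)
def n2009 : Q := act 2 n1457
theorem D2009 : act 2 n1457 = n2009 := rfl
def n2010 : Q := act 5 n1458
theorem D2010 : act 5 n1458 = n2010 := rfl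
theorem F3266 : act 0 n2010 = n1461 := d4_1 D2010 (iv D1461) (iv F2375)
def n2011 : Q := act 0 n1459
theorem D2011 : act 0 n1459 = n2011 := rfl
theorem F3267 : act 1 n2011 = n1764 := d0_2 D1459 D2011 F2862 F2782 F2013
theorem F3268 : act 2 n2011 = n1462 := d1_2 (iv F2376) D2011 (iv D1462)
theorem F3269 : act 5 n2011 = n1981 := d4_2 (iv F2377) D2011 F3223
def n2012 : Q := act 4 n1459
theorem D2012 : act 4 n1459 = n2012 := rfl
theorem F3270 : act 1 n2012 = n1460 := d7_1 D2012 (iv D1460) D1459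
theorem F3271 : act 2 n2012 = n1463 := d10_1 D2012 (iv D1463) (iv F2376)
def n2013 : Q := act 3 n1460
theorem D2013 : act 3 n1460 = n2013 := rfl
def n2014 : Q := act 5 n1460
theorem D2014 : act 5 n1460 = n2014 := rfl
theorem F3272 : act 2 n2014 = n1461 := d11_1 D2014 (iv D1461) (iv F2378)
def n2015 : Q := act 4 n1462
theorem D2015 : act 4 n1462 = n2015 := rfl
theorem F3273 : act 0 n2015 = n1463 := d3_1 D2015 (iv D1463) D1462
theorem F3274 : act 1 n2015 = n1750 := d7_1 D2015 (iv D1750) (iv F2380)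
def n2016 : Q := act 3 n1463
theorem D2016 : act 3 n1463 = n2016 := rfl
theorem F3275 : act 1 n2016 = n1464 := d6_1 D2016 (iv D1464) (iv F2383)
theorem F3276 : act 4 n2016 = n1915 := d12_2 D1463 D2016 (iv D1915) F2277 (iv F1734)
def n2017 : Q := act 5 n1463
theorem D2017 : act 5 n1463 = n2017 := rfl
theorem F3277 : act 1 n2017 = n1465 := d8_1 D2017 (iv D1465) (iv F2383)
theorem F3278 : act 4 n2017 = n1985 := d14_1 D2017 (iv D1985) (iv D1438) (iv F1735) D1463
def n2018 : Q := act 2 n1464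
theorem D2018 : act 2 n1464 = n2018 := rfl
theorem F3279 : act 0 n2018 = n1962 := d1_1 D2018 F3185 (iv F2384)
theorem F3280 : act 4 n2018 = n1916 := d10_2 (iv F2385) D2018 (iv D1916)
def n2019 : Q := act 5 n1464
theorem D2019 : act 5 n1464 = n2019 := rfl
theorem F3281 : act 0 n2019 = n1963 := d4_1 D2019 (iv D1963) (iv F2384)
theorem F3282 : act 3 n2019 = n1465 := d13_1 D2019 (iv D1465) D1464
def n2020 : Q := act 3 n1466
theorem D2020 : act 3 n1466 = n2020 := rfl
theorem F3283 : act 0 n2020 = n1468 := d2_1 D2020 (iv D1468) (iv F2389)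
theorem F3284 : act 1 n2020 = n1475 := d6_1 D2020 (iv D1475) (iv F2390)
def n2021 : Q := act 5 n1466
theorem D2021 : act 5 n1466 = n2021 := rfl
theorem F3285 : act 0 n2021 = n1469 := d4_1 D2021 (iv D1469) (iv F2389)
theorem F3286 : act 1 n2021 = n1474 := d8_1 D2021 F2405 (iv F2390)
theorem F3287 : act 4 n2021 = n1469 := d14_1 D2021 (iv D1469) (iv D1054) F1739 D1466
def n2022 : Q := act 3 n1467
theorem D2022 : act 3 n1467 = n2022 := rfl
theorem F3288 : act 1 n2022 = n1470 := d6_1 D2022 (iv D1470) (iv F2391)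
theorem F3289 : act 4 n2022 = n1468 := d12_2 D1467 D2022 (iv D1468) (iv D1054) D1053
def n2023 : Q := act 5 n1467
theorem D2023 : act 5 n1467 = n2023 := rfl
theorem F3290 : act 1 n2023 = n1471 := d8_1 D2023 (iv D1471) (iv F2391)
def n2024 : Q := act 2 n1468
theorem D2024 : act 2 n1468 = n2024 := rfl
def n2025 : Q := act 5 n1468
theorem D2025 : act 5 n1468 = n2025 := rfl
theorem F3291 : act 1 n2025 = n1473 := d8_1 D2025 (iv D1473) (iv F2392)
theorem F3292 : act 3 n2025 = n1469 := d13_1 D2025 (iv D1469) D1468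
def n2026 : Q := act 2 n1470
theorem D2026 : act 2 n1470 = n2026 := rfl
theorem F3293 : act 0 n2026 = n1485 := d1_1 D2026 (iv D1485) (iv F2394)
theorem F3294 : act 4 n2026 = n1472 := d10_2 (iv F2395) D2026 (iv D1472)
def n2027 : Q := act 5 n1470
theorem D2027 : act 5 n1470 = n2027 := rfl
theorem F3295 : act 0 n2027 = n1486 := d4_1 D2027 (iv D1486) (iv F2394)
theorem F3296 : act 3 n2027 = n1471 := d13_1 D2027 (iv D1471) D1470
def n2028 : Q := act 1 n1472
theorem D2028 : act 1 n1472 = n2028 := rfl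
theorem F3297 : act 3 n2028 = n1518 := d6_2 (iv F2398) D2028 F2475
theorem F3298 : act 5 n2028 = n1517 := d8_2 F2399 D2028 F2474
def n2029 : Q := act 4 n1473
theorem D2029 : act 4 n1473 = n2029 := rfl
theorem F3299 : act 0 n2029 = n1490 := d3_1 D2029 (iv D1490) (iv F2400)
theorem F3300 : act 2 n2029 = n1519 := d10_1 D2029 (iv D1519) (iv F2401)
def n2030 : Q := act 3 n1474
theorem D2030 : act 3 n1474 = n2030 := rfl
theorem F3301 : act 0 n2030 = n1481 := d2_1 D2030 F2416 (iv F2403)
theorem F3302 : act 5 n2030 = n1475 := d13_2 (iv F2405) D2030 (iv D1475)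
def n2031 : Q := act 2 n1475
theorem D2031 : act 2 n1475 = n2031 := rfl
theorem F3303 : act 0 n2031 = n1480 := d1_1 D2031 (iv D1480) (iv F2406)
def n2032 : Q := act 1 n1476
theorem D2032 : act 1 n1476 = n2032 := rfl
theorem F3304 : act 4 n2032 = n1477 := d7_2 (iv F2408) D2032 (iv D1477)
def n2033 : Q := act 3 n1476
theorem D2033 : act 3 n1476 = n2033 := rfl
theorem F3305 : act 0 n2033 = n1492 := d2_1 D2033 (iv D1492) (iv F2407)
def n2034 : Q := act 0 n1477
theorem D2034 : act 0 n1477 = n2034 := rfl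
theorem F3306 : act 1 n2034 = n1493 := d0_2 D1477 D2034 (iv D1493) (iv D1072) (iv F1752)
theorem F3307 : act 5 n2034 = n1505 := d4_2 (iv F2409) D2034 (iv D1505)
def n2035 : Q := act 2 n1478
theorem D2035 : act 2 n1478 = n2035 := rfl
theorem F3308 : act 4 n2035 = n1480 := d10_2 (iv F2411) D2035 (iv D1480)
def n2036 : Q := act 5 n1478
theorem D2036 : act 5 n1478 = n2036 := rfl
theorem F3309 : act 1 n2036 = n1486 := d8_1 D2036 (iv D1486) (iv F2410)
theorem F3310 : act 3 n2036 = n1479 := d13_1 D2036 (iv D1479) D1478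
def n2037 : Q := act 1 n1480
theorem D2037 : act 1 n1480 = n2037 := rfl
theorem F3311 : act 2 n2037 = n1487 := d5_2 D1480 D2037 (iv D1487) (iv D1069) (iv F1756)
def n2038 : Q := act 3 n1480
theorem D2038 : act 3 n1480 = n2038 := rfl
def n2039 : Q := act 5 n1480
theorem D2039 : act 5 n1480 = n2039 := rfl
theorem F3312 : act 2 n2039 = n1481 := d11_1 D2039 (iv D1481) D1480
def n2040 : Q := act 4 n1481
theorem D2040 : act 4 n1481 = n2040 := rfl
theorem F3313 : act 1 n2040 = n1490 := d7_1 D2040 (iv D1490) (iv F2415)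
theorem F3314 : act 3 n2040 = n1490 := d12_1 D2040 (iv D1490) F1767 (iv F1759) (iv F2416)
def n2041 : Q := act 3 n1482
theorem D2041 : act 3 n1482 = n2041 := rfl
theorem F3315 : act 0 n2041 = n2022 := d2_1 D2041 (iv D2022) (iv F2417)
theorem F3316 : act 1 n2041 = n1483 := d6_1 D2041 (iv D1483) (iv F2418)
theorem F3317 : act 4 n2041 = n2020 := d12_2 D1482 D2041 (iv D2020) (iv D1466) (iv F1762)
def n2042 : Q := act 5 n1482
theorem D2042 : act 5 n1482 = n2042 := rfl
theorem F3318 : act 0 n2042 = n2023 := d4_1 D2042 (iv D2023) (iv F2417)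
theorem F3319 : act 1 n2042 = n1484 := d8_1 D2042 (iv D1484) (iv F2418)
theorem F3320 : act 2 n2042 = n2023 := d11_1 D2042 (iv D2023) (iv F2419)
theorem F3321 : act 4 n2042 = n2023 := d14_1 D2042 (iv D2023) (iv D1467) (iv F1763) D1482
def n2043 : Q := act 2 n1483
theorem D2043 : act 2 n1483 = n2043 := rfl
theorem F3322 : act 0 n2043 = n2035 := d1_1 D2043 (iv D2035) (iv F2420)
theorem F3323 : act 4 n2043 = n2031 := d10_2 (iv F2421) D2043 (iv D2031)
def n2044 : Q := act 5 n1483
theorem D2044 : act 5 n1483 = n2044 := rfl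
theorem F3324 : act 0 n2044 = n2036 := d4_1 D2044 (iv D2036) (iv F2420)
theorem F3325 : act 3 n2044 = n1484 := d13_1 D2044 (iv D1484) D1483
def n2045 : Q := act 1 n1485
theorem D2045 : act 1 n1485 = n2045 := rfl
theorem F3326 : act 4 n2045 = n1487 := d7_2 (iv F2425) D2045 (iv D1487)
def n2046 : Q := act 3 n1485
theorem D2046 : act 3 n1485 = n2046 := rfl
def n2047 : Q := act 5 n1485
theorem D2047 : act 5 n1485 = n2047 := rfl
theorem F3327 : act 2 n2047 = n1486 := d11_1 D2047 (iv D1486) D1485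
def n2048 : Q := act 4 n1486
theorem D2048 : act 4 n1486 = n2048 := rfl
theorem F3328 : act 5 n2048 = n1490 := d14_2 D1486 D2048 (iv D1490) (iv D1070) (iv F1766)
def n2049 : Q := act 0 n1487
theorem D2049 : act 0 n1487 = n2049 := rfl
def n2050 : Q := act 3 n1487
theorem D2050 : act 3 n1487 = n2050 := rfl
theorem F3329 : act 1 n2050 = n1488 := d6_1 D2050 (iv D1488) D1487
theorem F3330 : act 5 n1503 = n2050 := d8_0 F3329 F2429 D1503
def n2051 : Q := act 5 n1487
theorem D2051 : act 5 n1487 = n2051 := rfl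
theorem F3331 : act 1 n2051 = n1489 := d8_1 D2051 (iv D1489) D1487
theorem F3332 : act 3 n2051 = n1503 := d13_1 D2051 F3330 (iv D2050)
def n2052 : Q := act 4 n1488
theorem D2052 : act 4 n1488 = n2052 := rfl
theorem F3333 : act 0 n2052 = n1520 := d3_1 D2052 (iv D1520) (iv F2427)
theorem F3334 : act 2 n2052 = n1504 := d10_1 D2052 (iv D1504) (iv F2428)
def n2053 : Q := act 4 n1489
theorem D2053 : act 4 n1489 = n2053 := rfl
theorem F3335 : act 0 n2053 = n1519 := d3_1 D2053 (iv D1519) (iv F2430)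
theorem F3336 : act 2 n2053 = n1490 := d10_1 D2053 (iv D1490) (iv F2431)
def n2054 : Q := act 0 n1491
theorem D2054 : act 0 n1491 = n2054 := rfl
theorem F3337 : act 2 n2054 = n1496 := d1_2 (iv F2433) D2054 (iv D1496)
theorem F3338 : act 4 n2054 = n1493 := d3_2 (iv F2434) D2054 (iv D1493)
theorem F3339 : act 5 n2054 = n1632 := d4_2 (iv F2435) D2054 F2676
def n2055 : Q := act 3 n1491
theorem D2055 : act 3 n1491 = n2055 := rfl
theorem F3340 : act 1 n2055 = n1492 := d6_1 D2055 (iv D1492) D1491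
theorem F3341 : act 5 n2055 = n1633 := d13_2 (iv F2435) D2055 (iv D1633)
def n2056 : Q := act 2 n1492
theorem D2056 : act 2 n1492 = n2056 := rfl
def n2057 : Q := act 4 n1492
theorem D2057 : act 4 n1492 = n2057 := rfl
theorem F3342 : act 3 n2057 = n1495 := d12_1 D2057 (iv D1495) (iv D1073) (iv F1768) D1492
def n2058 : Q := act 3 n1493
theorem D2058 : act 3 n1493 = n2058 := rfl
theorem F3343 : act 0 n2058 = n1494 := d2_1 D2058 (iv D1494) D1493
theorem F3344 : act 5 n2058 = n1521 := d13_2 (iv F2437) D2058 (iv D1521)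
def n2059 : Q := act 2 n1494
theorem D2059 : act 2 n1494 = n2059 := rfl
theorem F3345 : act 5 n2059 = n1522 := d11_2 (iv F2439) D2059 (iv D1522)
def n2060 : Q := act 4 n1494
theorem D2060 : act 4 n1494 = n2060 := rfl
theorem F3346 : act 1 n2060 = n1495 := d7_1 D2060 (iv D1495) (iv F2438)
def n2061 : Q := act 5 n1495
theorem D2061 : act 5 n1495 = n2061 := rfl
theorem F3347 : act 4 n2061 = n1526 := d14_1 D2061 (iv D1526) (iv D1097) (iv F1771) D1495
def n2062 : Q := act 2 n1497
theorem D2062 : act 2 n1497 = n2062 := rfl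
theorem F3348 : act 0 n2062 = n1932 := d1_1 D2062 (iv D1932) (iv F2443)
theorem F3349 : act 4 n2062 = n1499 := d10_2 (iv F2445) D2062 (iv D1499)
def n2063 : Q := act 5 n1497
theorem D2063 : act 5 n1497 = n2063 := rfl
theorem F3350 : act 0 n2063 = n1933 := d4_1 D2063 (iv D1933) (iv F2443)
theorem F3351 : act 1 n2063 = n1502 := d8_1 D2063 (iv D1502) (iv F2444)
theorem F3352 : act 3 n2063 = n1498 := d13_1 D2063 (iv D1498) D1497
def n2064 : Q := act 1 n1499
theorem D2064 : act 1 n1499 = n2064 := rfl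
theorem F3353 : act 2 n2064 = n1503 := d5_2 D1499 D2064 (iv D1503) (iv D1081) (iv F1780)
def n2065 : Q := act 3 n1499
theorem D2065 : act 3 n1499 = n2065 := rfl
def n2066 : Q := act 5 n1499
theorem D2066 : act 5 n1499 = n2066 := rfl
theorem F3354 : act 2 n2066 = n1500 := d11_1 D2066 (iv D1500) D1499
def n2067 : Q := act 4 n1500
theorem D2067 : act 4 n1500 = n2067 := rfl
theorem F3355 : act 1 n2067 = n1504 := d7_1 D2067 (iv D1504) (iv F2449)
def n2068 : Q := act 1 n1501
theorem D2068 : act 1 n1501 = n2068 := rfl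
theorem F3356 : act 4 n2068 = n1503 := d7_2 (iv F2452) D2068 (iv D1503)
def n2069 : Q := act 3 n1501
theorem D2069 : act 3 n1501 = n2069 := rfl
theorem F3357 : act 0 n2069 = n1513 := d2_1 D2069 (iv D1513) (iv F2451)
def n2070 : Q := act 5 n1501
theorem D2070 : act 5 n1501 = n2070 := rfl
theorem F3358 : act 0 n2070 = n1514 := d4_1 D2070 (iv D1514) (iv F2451)
theorem F3359 : act 2 n2070 = n1502 := d11_1 D2070 (iv D1502) D1501
def n2071 : Q := act 4 n1502
theorem D2071 : act 4 n1502 = n2071 := rfl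
theorem F3360 : act 0 n2071 = n1515 := d3_1 D2071 (iv D1515) (iv F2453)
theorem F3361 : act 5 n2071 = n1504 := d14_2 D1502 D2071 (iv D1504) (iv D1082) (iv F1783)
def n2072 : Q := act 0 n1503
theorem D2072 : act 0 n1503 = n2072 := rfl
theorem F3362 : act 1 n2072 = n1516 := d0_2 D1503 D2072 (iv D1516) (iv D1090) (iv F1786)
def n2073 : Q := act 3 n1505
theorem D2073 : act 3 n1505 = n2073 := rfl
theorem F3363 : act 0 n2073 = n1506 := d2_1 D2073 (iv D1506) D1505
theorem F3364 : act 1 n2073 = n1521 := d6_1 D2073 (iv D1521) (iv F2456)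
def n2074 : Q := act 2 n1506
theorem D2074 : act 2 n1506 = n2074 := rfl
theorem F3365 : act 1 n2074 = n2059 := d5_1 D2074 (iv D2059) F2438 (iv F1790) (iv F2457)
def n2075 : Q := act 4 n1506
theorem D2075 : act 4 n1506 = n2075 := rfl
theorem F3366 : act 1 n2075 = n1507 := d7_1 D2075 (iv D1507) (iv F2457)
def n2076 : Q := act 5 n1507
theorem D2076 : act 5 n1507 = n2076 := rfl
theorem F3367 : act 0 n2076 = n1526 := d4_1 D2076 (iv D1526) (iv F2458)
theorem F3368 : act 2 n2076 = n2061 := d11_1 D2076 (iv D2061) (iv F2459)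
def n2077 : Q := act 2 n1508
theorem D2077 : act 2 n1508 = n2077 := rfl
theorem F3369 : act 0 n2077 = n1899 := d1_1 D2077 (iv D1899) (iv F2460)
theorem F3370 : act 4 n2077 = n1897 := d10_2 (iv F2462) D2077 (iv D1897)
def n2078 : Q := act 5 n1508
theorem D2078 : act 5 n1508 = n2078 := rfl
theorem F3371 : act 0 n2078 = n1900 := d4_1 D2078 (iv D1900) (iv F2460)
theorem F3372 : act 1 n2078 = n1511 := d8_1 D2078 (iv D1511) (iv F2461)
theorem F3373 : act 3 n2078 = n1509 := d13_1 D2078 (iv D1509) D1508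
def n2079 : Q := act 1 n1510
theorem D2079 : act 1 n1510 = n2079 := rfl
theorem F3374 : act 4 n2079 = n1917 := d7_2 (iv F2468) D2079 (iv D1917)
def n2080 : Q := act 3 n1510
theorem D2080 : act 3 n1510 = n2080 := rfl
theorem F3375 : act 0 n2080 = n1922 := d2_1 D2080 (iv D1922) (iv F2467)
def n2081 : Q := act 5 n1510
theorem D2081 : act 5 n1510 = n2081 := rfl
theorem F3376 : act 0 n2081 = n1923 := d4_1 D2081 (iv D1923) (iv F2467)
theorem F3377 : act 2 n2081 = n1511 := d11_1 D2081 (iv D1511) D1510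
def n2082 : Q := act 4 n1511
theorem D2082 : act 4 n1511 = n2082 := rfl
theorem F3378 : act 0 n2082 = n1924 := d3_1 D2082 (iv D1924) (iv F2469)
theorem F3379 : act 3 n2082 = n2071 := d12_1 D2082 (iv D2071) F2454 (iv F1798) (iv F2470)
theorem F3380 : act 5 n2082 = n1920 := d14_2 D1511 D2082 (iv D1920) (iv D1392) (iv F1795)
def n2083 : Q := act 0 n1512
theorem D2083 : act 0 n1512 = n2083 := rfl
theorem F3381 : act 4 n2083 = n1516 := d3_2 (iv F2471) D2083 (iv D1516)
def n2084 : Q := act 3 n1512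
theorem D2084 : act 3 n1512 = n2084 := rfl
theorem F3382 : act 1 n2084 = n1513 := d6_1 D2084 (iv D1513) D1512
def n2085 : Q := act 5 n1512
theorem D2085 : act 5 n1512 = n2085 := rfl
theorem F3383 : act 1 n2085 = n1514 := d8_1 D2085 (iv D1514) D1512
def n2086 : Q := act 2 n1513
theorem D2086 : act 2 n1513 = n2086 := rfl
theorem F3384 : act 3 n2086 = n1923 := d15_3 D1088 D1513 D2086 F3122 F2284 (iv F1785) (iv F2454) (iv D1502) F1782
theorem F3385 : act 5 n1922 = n2086 := d13_0 F3384 (iv D1923) D1922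
def n2087 : Q := act 4 n1513
theorem D2087 : act 4 n1513 = n2087 := rfl
theorem F3386 : act 3 n2087 = n1519 := d12_1 D2087 (iv D1519) (iv D1091) (iv F1799) D1513
def n2088 : Q := act 5 n1513
theorem D2088 : act 5 n1513 = n2088 := rfl
theorem F3387 : act 2 n2088 = n1922 := d11_1 D2088 F3385 (iv D2086)
theorem F3388 : act 3 n2088 = n1514 := d13_1 D2088 (iv D1514) D1513
def n2089 : Q := act 4 n1514
theorem D2089 : act 4 n1514 = n2089 := rfl
theorem F3389 : act 2 n2089 = n1515 := d10_1 D2089 (iv D1515) (iv F2472)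
theorem F3390 : act 5 n2089 = n1520 := d14_2 D1514 D2089 (iv D1520) (iv D1092) (iv F1799)
def n2090 : Q := act 3 n1516
theorem D2090 : act 3 n1516 = n2090 := rfl
theorem F3391 : act 0 n2090 = n1517 := d2_1 D2090 (iv D1517) D1516
def n2091 : Q := act 5 n1516
theorem D2091 : act 5 n1516 = n2091 := rfl
theorem F3392 : act 0 n2091 = n1518 := d4_1 D2091 (iv D1518) D1516
def n2092 : Q := act 2 n1517
theorem D2092 : act 2 n1517 = n2092 := rfl
def n2093 : Q := act 4 n1517
theorem D2093 : act 4 n1517 = n2093 := rfl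
theorem F3393 : act 1 n2093 = n1519 := d7_1 D2093 (iv D1519) (iv F2474)
def n2094 : Q := act 4 n1518
theorem D2094 : act 4 n1518 = n2094 := rfl
theorem F3394 : act 1 n2094 = n1520 := d7_1 D2094 (iv D1520) (iv F2475)
def n2095 : Q := act 5 n1519
theorem D2095 : act 5 n1519 = n2095 := rfl
def n2096 : Q := act 3 n1520
theorem D2096 : act 3 n1520 = n2096 := rfl
def n2097 : Q := act 2 n1521
theorem D2097 : act 2 n1521 = n2097 := rfl
theorem F3395 : act 0 n2097 = n1522 := d1_1 D2097 (iv D1522) (iv F2477)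
theorem F3396 : act 3 n2097 = n1892 := d15_1 D2097 (iv D1892) (iv D1372) F1631 (iv F1292) (iv F1769) D1494 F2439 (iv F2477)
def n2098 : Q := act 4 n1521
theorem D2098 : act 4 n1521 = n2098 := rfl
theorem F3397 : act 0 n2098 = n1523 := d3_1 D2098 (iv D1523) (iv F2477)
def n2099 : Q := act 1 n1522
theorem D2099 : act 1 n1522 = n2099 := rfl
theorem F3398 : act 2 n2099 = n1524 := d5_2 D1522 D2099 (iv D1524) (iv D1096) (iv F1803)
theorem F3399 : act 5 n2099 = n2074 := d8_2 F3345 D2099 F3365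
def n2100 : Q := act 3 n1522
theorem D2100 : act 3 n1522 = n2100 := rfl
theorem F3400 : act 0 n2100 = n1892 := d2_1 D2100 (iv F3396) F3395
theorem F3401 : act 2 n2100 = n1891 := d15_2 D1522 D2100 (iv D1891) F2244 (iv F1775) (iv F2436) D2058 F3344 F2477
def n2101 : Q := act 4 n1522
theorem D2101 : act 4 n1522 = n2101 := rfl
theorem F3402 : act 2 n2101 = n1523 := d10_1 D2101 (iv D1523) D1522
def n2102 : Q := act 5 n1523
theorem D2102 : act 5 n1523 = n2102 := rfl
theorem F3403 : act 1 n2102 = n1526 := d8_1 D2102 (iv D1526) (iv F2478)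
def n2103 : Q := act 0 n1524
theorem D2103 : act 0 n1524 = n2103 := rfl
theorem F3404 : act 1 n2103 = n2058 := d0_2 D1524 D2103 F3343 F2438 (iv F1804)
theorem F3405 : act 3 n2103 = n2034 := d2_2 (iv F2479) D2103 (iv D2034)
theorem F3406 : act 5 n2103 = n2073 := d4_2 (iv F2480) D2103 F3363
def n2104 : Q := act 4 n1524
theorem D2104 : act 4 n1524 = n2104 := rfl
theorem F3407 : act 1 n2104 = n1525 := d7_1 D2104 (iv D1525) D1524
def n2105 : Q := act 3 n1525
theorem D2105 : act 3 n1525 = n2105 := rfl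
theorem F3408 : act 0 n2105 = n2057 := d2_1 D2105 F3342 (iv F2481)
theorem F3409 : act 4 n2105 = n2033 := d12_2 D1525 D2105 (iv D2033) F2408 (iv F1806)
def n2106 : Q := act 5 n1525
theorem D2106 : act 5 n1525 = n2106 := rfl
theorem F3410 : act 0 n2106 = n2061 := d4_1 D2106 (iv D2061) (iv F2481)
theorem F3411 : act 2 n2106 = n1526 := d11_1 D2106 (iv D1526) (iv F2482)
theorem F3412 : act 4 n2106 = n2076 := d14_1 D2106 (iv D2076) (iv D1507) (iv F1805) D1525
def n2107 : Q := act 1 n1527
theorem D2107 : act 1 n1527 = n2107 := rfl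
theorem F3413 : act 0 n2107 = n1855 := d0_1 D2107 (iv D1855) F2201 (iv F1810) (iv F2483)
theorem F3414 : act 2 n2107 = n2034 := d5_2 D1527 D2107 F3306 F2436 (iv F1808)
theorem F3415 : act 5 n2107 = n1877 := d8_2 (iv F2484) D2107 F3051
def n2108 : Q := act 3 n1527
theorem D2108 : act 3 n1527 = n2108 := rfl
theorem F3416 : act 0 n2108 = n1529 := d2_1 D2108 (iv D1529) (iv F2483)
theorem F3417 : act 5 n2108 = n1891 := d13_2 (iv F2484) D2108 (iv D1891)
def n2109 : Q := act 4 n1527
theorem D2109 : act 4 n1527 = n2109 := rfl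
theorem F3418 : act 0 n2109 = n1530 := d3_1 D2109 (iv D1530) (iv F2483)
theorem F3419 : act 2 n2109 = n1528 := d10_1 D2109 (iv D1528) D1527
theorem F3420 : act 5 n2109 = n1745 := d14_2 (iv F2484) D2109 (iv D1745) F2055 (iv F2245)
def n2110 : Q := act 2 n1529
theorem D2110 : act 2 n1529 = n2110 := rfl
theorem F3421 : act 5 n2110 = n1892 := d11_2 (iv F2490) D2110 (iv D1892)
def n2111 : Q := act 4 n1529
theorem D2111 : act 4 n1529 = n2111 := rfl
theorem F3422 : act 1 n2111 = n1870 := d7_1 D2111 (iv D1870) (iv F2489)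
def n2112 : Q := act 3 n1530
theorem D2112 : act 3 n1530 = n2112 := rfl
theorem F3423 : act 1 n2112 = n1869 := d6_1 D2112 (iv D1869) (iv F2491)
theorem F3424 : act 5 n2112 = n1748 := d13_2 (iv F2493) D2112 (iv D1748)
def n2113 : Q := act 2 n1531
theorem D2113 : act 2 n1531 = n2113 := rfl
theorem F3425 : act 0 n2113 = n1535 := d1_1 D2113 (iv D1535) (iv F2494)
theorem F3426 : act 4 n2113 = n1533 := d10_2 (iv F2496) D2113 (iv D1533)
def n2114 : Q := act 5 n1531
theorem D2114 : act 5 n1531 = n2114 := rfl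
theorem F3427 : act 0 n2114 = n1536 := d4_1 D2114 (iv D1536) (iv F2494)
theorem F3428 : act 1 n2114 = n1558 := d8_1 D2114 (iv D1558) (iv F2495)
theorem F3429 : act 3 n2114 = n1532 := d13_1 D2114 (iv D1532) D1531
def n2115 : Q := act 1 n1533
theorem D2115 : act 1 n1533 = n2115 := rfl
theorem F3430 : act 2 n2115 = n1559 := d5_2 D1533 D2115 (iv D1559) (iv D1122) (iv F1819)
def n2116 : Q := act 3 n1533
theorem D2116 : act 3 n1533 = n2116 := rfl
theorem F3431 : act 0 n2116 = n1538 := d2_1 D2116 (iv D1538) (iv F2501)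
def n2117 : Q := act 5 n1533
theorem D2117 : act 5 n1533 = n2117 := rfl
theorem F3432 : act 0 n2117 = n1539 := d4_1 D2117 (iv D1539) (iv F2501)
theorem F3433 : act 2 n2117 = n1534 := d11_1 D2117 (iv D1534) D1533
def n2118 : Q := act 4 n1534
theorem D2118 : act 4 n1534 = n2118 := rfl
theorem F3434 : act 0 n2118 = n1540 := d3_1 D2118 (iv D1540) (iv F2502)
theorem F3435 : act 1 n2118 = n1562 := d7_1 D2118 (iv D1562) (iv F2503)
def n2119 : Q := act 1 n1535
theorem D2119 : act 1 n1535 = n2119 := rfl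
theorem F3436 : act 2 n2119 = n1543 := d5_2 D1535 D2119 (iv D1543) (iv D1110) (iv F1822)
theorem F3437 : act 4 n2119 = n1537 := d7_2 (iv F2505) D2119 (iv D1537)
def n2120 : Q := act 3 n1535
theorem D2120 : act 3 n1535 = n2120 := rfl
def n2121 : Q := act 5 n1535
theorem D2121 : act 5 n1535 = n2121 := rfl
theorem F3438 : act 2 n2121 = n1536 := d11_1 D2121 (iv D1536) D1535
def n2122 : Q := act 4 n1536
theorem D2122 : act 4 n1536 = n2122 := rfl
theorem F3439 : act 1 n2122 = n1546 := d7_1 D2122 (iv D1546) (iv F2506)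
theorem F3440 : act 3 n2122 = n1777 := d12_1 D2122 (iv D1777) F2094 (iv F1826) (iv F2507)
theorem F3441 : act 5 n2122 = n1540 := d14_2 D1536 D2122 (iv D1540) (iv D1107) (iv F1823)
def n2123 : Q := act 0 n1537
theorem D2123 : act 0 n1537 = n2123 := rfl
theorem F3442 : act 2 n2123 = n1547 := d1_2 (iv F2508) D2123 (iv D1547)
theorem F3443 : act 5 n2123 = n1673 := d4_2 F2509 D2123 F2747
def n2124 : Q := act 3 n1537
theorem D2124 : act 3 n1537 = n2124 := rfl
theorem F3444 : act 1 n2124 = n1538 := d6_1 D2124 (iv D1538) D1537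
theorem F3445 : act 5 n2124 = n1676 := d13_2 F2509 D2124 (iv D1676)
def n2125 : Q := act 2 n1538
theorem D2125 : act 2 n1538 = n2125 := rfl
def n2126 : Q := act 4 n1538
theorem D2126 : act 4 n1538 = n2126 := rfl
def n2127 : Q := act 5 n1538
theorem D2127 : act 5 n1538 = n2127 := rfl
theorem F3446 : act 1 n2127 = n1676 := d8_1 D2127 (iv F3445) F3444
theorem F3447 : act 3 n2127 = n1539 := d13_1 D2127 (iv D1539) D1538
def n2128 : Q := act 4 n1539
theorem D2128 : act 4 n1539 = n2128 := rfl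
theorem F3448 : act 1 n2128 = n1677 := d7_1 D2128 (iv D1677) (iv F2510)
theorem F3449 : act 2 n2128 = n1540 := d10_1 D2128 (iv D1540) (iv F2511)
def n2129 : Q := act 3 n1540
theorem D2129 : act 3 n1540 = n2129 := rfl
theorem F3450 : act 1 n2129 = n1548 := d6_1 D2129 (iv D1548) (iv F2512)
theorem F3451 : act 4 n2129 = n1541 := d12_2 D1540 D2129 (iv D1541) (iv D1108) (iv F1828)
theorem F3452 : act 5 n2129 = n1777 := d13_2 F3441 D2129 (iv F3440)
def n2130 : Q := act 2 n1541
theorem D2130 : act 2 n1541 = n2130 := rfl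
theorem F3453 : act 5 n2130 = n1542 := d11_2 (iv F2514) D2130 (iv D1542)
def n2131 : Q := act 1 n1542
theorem D2131 : act 1 n1542 = n2131 := rfl
theorem F3454 : act 2 n2131 = n1550 := d5_2 D1542 D2131 (iv D1550) (iv D1115) (iv F1831)
theorem F3455 : act 4 n2131 = n1774 := d7_2 (iv F2515) D2131 (iv D1774)
def n2132 : Q := act 3 n1542
theorem D2132 : act 3 n1542 = n2132 := rfl
def n2133 : Q := act 0 n1543
theorem D2133 : act 0 n1543 = n2133 := rfl
theorem F3456 : act 1 n2133 = n1584 := d0_2 D1543 D2133 (iv D1584) (iv D1137) (iv F1833)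
theorem F3457 : act 4 n2133 = n1547 := d3_2 (iv F2516) D2133 (iv D1547)
def n2134 : Q := act 3 n1543
theorem D2134 : act 3 n1543 = n2134 := rfl
theorem F3458 : act 1 n2134 = n1544 := d6_1 D2134 (iv D1544) D1543
theorem F3459 : act 4 n2134 = n1679 := d12_2 (iv F2516) D2134 (iv D1679) (iv D1209) (iv F1837)
def n2135 : Q := act 5 n1543
theorem D2135 : act 5 n1543 = n2135 := rfl
theorem F3460 : act 1 n2135 = n1545 := d8_1 D2135 (iv D1545) D1543
theorem F3461 : act 4 n2135 = n1678 := d14_1 D2135 (iv D1678) (iv D1208) (iv F1838) (iv F2516)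
def n2136 : Q := act 2 n1544
theorem D2136 : act 2 n1544 = n2136 := rfl
theorem F3462 : act 0 n2136 = n1587 := d1_1 D2136 (iv D1587) (iv F2517)
theorem F3463 : act 3 n2136 = n1582 := d9_2 D1544 D2136 F2595 F1879 F1371 (iv F1374) (iv F1881) (iv F2608) F2607 (iv D1275) (iv D913) (iv D646) (iv F942) D794 D1110
theorem F3464 : act 4 n2136 = n1680 := d10_2 (iv F2518) D2136 (iv D1680)
theorem F3465 : act 5 n1581 = n2136 := d13_0 F3463 (iv D1582) D1581
def n2137 : Q := act 5 n1544
theorem D2137 : act 5 n1544 = n2137 := rfl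
theorem F3466 : act 0 n2137 = n1589 := d4_1 D2137 (iv D1589) (iv F2517)
theorem F3467 : act 2 n2137 = n1581 := d11_1 D2137 F3465 (iv D2136)
theorem F3468 : act 3 n2137 = n1545 := d13_1 D2137 (iv D1545) D1544
theorem F3469 : act 4 n2137 = n1589 := d14_1 D2137 (iv D1589) D1588 (iv F2606) (iv F2518)
def n2138 : Q := act 2 n1548
theorem D2138 : act 2 n1548 = n2138 := rfl
theorem F3470 : act 0 n2138 = n1600 := d1_1 D2138 (iv D1600) (iv F2529)
theorem F3471 : act 4 n2138 = n1549 := d10_2 (iv F2530) D2138 (iv D1549)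
theorem F3472 : act 5 n2138 = n1782 := d11_2 (iv F2531) D2138 F2882
theorem F3473 : act 3 n2138 = n1782 := d15_1 D2138 F2882 (iv F2524) F2523 F2612 F2610 D1591 F2615 (iv F2529)
def n2139 : Q := act 1 n1549
theorem D2139 : act 1 n1549 = n2139 := rfl
theorem F3474 : act 3 n2139 = n1611 := d6_2 (iv F2534) D2139 (iv D1611)
theorem F3475 : act 5 n2139 = n1550 := d8_2 (iv F2533) D2139 (iv D1550)
def n2140 : Q := act 0 n1550
theorem D2140 : act 0 n1550 = n2140 := rfl
theorem F3476 : act 1 n2140 = n1602 := d0_2 D1550 D2140 (iv D1602) (iv D1150) (iv F1843)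
theorem F3477 : act 4 n2140 = n1778 := d3_2 (iv F2535) D2140 (iv D1778)
def n2141 : Q := act 3 n1550
theorem D2141 : act 3 n1550 = n2141 := rfl
theorem F3478 : act 1 n2141 = n1551 := d6_1 D2141 (iv D1551) D1550
theorem F3479 : act 5 n2141 = n1611 := d13_2 F3475 D2141 (iv F3474)
def n2142 : Q := act 4 n1551
theorem D2142 : act 4 n1551 = n2142 := rfl
theorem F3480 : act 0 n2142 = n1604 := d3_1 D2142 (iv D1604) (iv F2536)
theorem F3481 : act 2 n2142 = n1607 := d10_1 D2142 (iv D1607) (iv F2538)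
theorem F3482 : act 3 n2142 = n1781 := d12_1 D2142 (iv D1781) (iv D1285) (iv F1844) D1551
theorem F3483 : act 5 n2142 = n1781 := d14_2 (iv F2537) D2142 (iv D1781) (iv F2650) (iv D1612)
def n2143 : Q := act 0 n1552
theorem D2143 : act 0 n1552 = n2143 := rfl
theorem F3484 : act 1 n2143 = n1605 := d0_2 D1552 D2143 (iv D1605) (iv D1152) (iv F1845)
theorem F3485 : act 4 n2143 = n1643 := d3_2 (iv F2539) D2143 (iv D1643)
theorem F3486 : act 5 n2143 = n1554 := d4_2 (iv F2540) D2143 (iv D1554)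
def n2144 : Q := act 3 n1552
theorem D2144 : act 3 n1552 = n2144 := rfl
theorem F3487 : act 1 n2144 = n1553 := d6_1 D2144 (iv D1553) D1552
theorem F3488 : act 5 n2144 = n1555 := d13_2 (iv F2540) D2144 (iv D1555)
def n2145 : Q := act 4 n1553
theorem D2145 : act 4 n1553 = n2145 := rfl
theorem F3489 : act 0 n2145 = n1607 := d3_1 D2145 (iv D1607) (iv F2541)
theorem F3490 : act 2 n2145 = n1604 := d10_1 D2145 (iv D1604) (iv F2542)
theorem F3491 : act 3 n2145 = n1645 := d12_1 D2145 (iv D1645) (iv D1185) (iv F1846) D1553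
theorem F3492 : act 5 n2145 = n1788 := d14_2 (iv F2543) D2145 (iv D1788) (iv D1292) (iv F1850)
def n2146 : Q := act 3 n1554
theorem D2146 : act 3 n1554 = n2146 := rfl
theorem F3493 : act 0 n2146 = n1555 := d2_1 D2146 (iv D1555) D1554
theorem F3494 : act 1 n2146 = n1608 := d6_1 D2146 (iv D1608) (iv F2544)
theorem F3495 : act 4 n2146 = n1783 := d12_2 (iv F2545) D2146 (iv D1783) F2096 (iv F1852)
def n2147 : Q := act 2 n1555
theorem D2147 : act 2 n1555 = n2147 := rfl
theorem F3496 : act 4 n2147 = n1785 := d10_2 (iv F2547) D2147 (iv D1785)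
def n2148 : Q := act 1 n1556
theorem D2148 : act 1 n1556 = n2148 := rfl
theorem F3497 : act 3 n2148 = n1601 := d6_2 (iv F2549) D2148 (iv D1601)
theorem F3498 : act 4 n2148 = n1787 := d7_2 (iv F2550) D2148 (iv D1787)
theorem F3499 : act 5 n2148 = n1603 := d8_2 (iv F2551) D2148 F2637
def n2149 : Q := act 1 n1557
theorem D2149 : act 1 n1557 = n2149 := rfl
theorem F3500 : act 4 n2149 = n1559 := d7_2 (iv F2553) D2149 (iv D1559)
def n2150 : Q := act 3 n1557
theorem D2150 : act 3 n1557 = n2150 := rfl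
theorem F3501 : act 0 n2150 = n1568 := d2_1 D2150 (iv D1568) (iv F2552)
def n2151 : Q := act 5 n1557
theorem D2151 : act 5 n1557 = n2151 := rfl
theorem F3502 : act 0 n2151 = n1569 := d4_1 D2151 (iv D1569) (iv F2552)
theorem F3503 : act 2 n2151 = n1558 := d11_1 D2151 (iv D1558) D1557
def n2152 : Q := act 4 n1558
theorem D2152 : act 4 n1558 = n2152 := rfl
theorem F3504 : act 0 n2152 = n1570 := d3_1 D2152 (iv D1570) (iv F2554)
theorem F3505 : act 5 n2152 = n1562 := d14_2 D1558 D2152 (iv D1562) (iv D1123) (iv F1855)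
def n2153 : Q := act 0 n1559
theorem D2153 : act 0 n1559 = n2153 := rfl
theorem F3506 : act 1 n2153 = n1571 := d0_2 D1559 D2153 (iv D1571) (iv D1129) (iv F1857)
def n2154 : Q := act 3 n1559
theorem D2154 : act 3 n1559 = n2154 := rfl
theorem F3507 : act 1 n2154 = n1560 := d6_1 D2154 (iv D1560) D1559
theorem F3508 : act 5 n1627 = n2154 := d8_0 F3507 (iv F2558) D1627
def n2155 : Q := act 5 n1559
theorem D2155 : act 5 n1559 = n2155 := rfl
theorem F3509 : act 1 n2155 = n1561 := d8_1 D2155 (iv D1561) D1559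
theorem F3510 : act 3 n2155 = n1627 := d13_1 D2155 F3508 (iv D2154)
def n2156 : Q := act 4 n1560
theorem D2156 : act 4 n1560 = n2156 := rfl
theorem F3511 : act 0 n2156 = n1575 := d3_1 D2156 (iv D1575) (iv F2556)
theorem F3512 : act 2 n2156 = n1630 := d10_1 D2156 (iv D1630) (iv F2557)
def n2157 : Q := act 4 n1561
theorem D2157 : act 4 n1561 = n2157 := rfl
theorem F3513 : act 0 n2157 = n1577 := d3_1 D2157 (iv D1577) (iv F2559)
theorem F3514 : act 2 n2157 = n1562 := d10_1 D2157 (iv D1562) (iv F2560)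
def n2158 : Q := act 2 n1563
theorem D2158 : act 2 n1563 = n2158 := rfl
theorem F3515 : act 0 n2158 = n1760 := d1_1 D2158 (iv D1760) (iv F2563)
def n2159 : Q := act 5 n1563
theorem D2159 : act 5 n1563 = n2159 := rfl
theorem F3516 : act 0 n2159 = n1761 := d4_1 D2159 (iv D1761) (iv F2563)
theorem F3517 : act 1 n2159 = n1566 := d8_1 D2159 (iv D1566) (iv F2564)
theorem F3518 : act 3 n2159 = n1564 := d13_1 D2159 (iv D1564) D1563
def n2160 : Q := act 1 n1565
theorem D2160 : act 1 n1565 = n2160 := rfl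
def n2161 : Q := act 3 n1565
theorem D2161 : act 3 n1565 = n2161 := rfl
def n2162 : Q := act 5 n1565
theorem D2162 : act 5 n1565 = n2162 := rfl
theorem F3519 : act 2 n2162 = n1566 := d11_1 D2162 (iv D1566) D1565
def n2163 : Q := act 4 n1566
theorem D2163 : act 4 n1566 = n2163 := rfl
def n2164 : Q := act 0 n1567
theorem D2164 : act 0 n1567 = n2164 := rfl
theorem F3520 : act 2 n2164 = n1584 := d1_2 (iv F2570) D2164 (iv D1584)
theorem F3521 : act 4 n2164 = n1571 := d3_2 (iv F2571) D2164 (iv D1571)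
def n2165 : Q := act 3 n1567
theorem D2165 : act 3 n1567 = n2165 := rfl
theorem F3522 : act 1 n2165 = n1568 := d6_1 D2165 (iv D1568) D1567
def n2166 : Q := act 5 n1567
theorem D2166 : act 5 n1567 = n2166 := rfl
theorem F3523 : act 1 n2166 = n1569 := d8_1 D2166 (iv D1569) D1567
theorem F3524 : act 2 n2166 = n1586 := d11_1 D2166 (iv D1586) (iv F2570)
def n2167 : Q := act 2 n1568
theorem D2167 : act 2 n1568 = n2167 := rfl
def n2168 : Q := act 4 n1568
theorem D2168 : act 4 n1568 = n2168 := rfl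
theorem F3525 : act 3 n2168 = n1575 := d12_1 D2168 (iv D1575) (iv D1130) (iv F1864) D1568
def n2169 : Q := act 5 n1568
theorem D2169 : act 5 n1568 = n2169 := rfl
theorem F3526 : act 3 n2169 = n1569 := d13_1 D2169 (iv D1569) D1568
def n2170 : Q := act 4 n1569
theorem D2170 : act 4 n1569 = n2170 := rfl
theorem F3527 : act 2 n2170 = n1570 := d10_1 D2170 (iv D1570) (iv F2572)
theorem F3528 : act 5 n2170 = n1577 := d14_2 D1569 D2170 (iv D1577) (iv D1131) (iv F1864)
def n2171 : Q := act 3 n1571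
theorem D2171 : act 3 n1571 = n2171 := rfl
theorem F3529 : act 0 n2171 = n1572 := d2_1 D2171 (iv D1572) D1571
def n2172 : Q := act 5 n1571
theorem D2172 : act 5 n1571 = n2172 := rfl
theorem F3530 : act 0 n2172 = n1573 := d4_1 D2172 (iv D1573) D1571
theorem F3531 : act 2 n2172 = n1596 := d11_1 D2172 (iv D1596) (iv F2575)
def n2173 : Q := act 2 n1572
theorem D2173 : act 2 n1572 = n2173 := rfl
def n2174 : Q := act 4 n1572
theorem D2174 : act 4 n1572 = n2174 := rfl
theorem F3532 : act 1 n2174 = n1575 := d7_1 D2174 (iv D1575) (iv F2576)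
def n2175 : Q := act 5 n1572
theorem D2175 : act 5 n1572 = n2175 := rfl
theorem F3533 : act 1 n2175 = n1576 := d8_1 D2175 (iv D1576) (iv F2576)
theorem F3534 : act 3 n2175 = n1573 := d13_1 D2175 (iv D1573) D1572
def n2176 : Q := act 4 n1573
theorem D2176 : act 4 n1573 = n2176 := rfl
theorem F3535 : act 1 n2176 = n1577 := d7_1 D2176 (iv D1577) (iv F2577)
theorem F3536 : act 2 n2176 = n1599 := d10_1 D2176 (iv D1599) (iv F2578)
def n2177 : Q := act 1 n1574
theorem D2177 : act 1 n1574 = n2177 := rfl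
theorem F3537 : act 3 n2177 = n1621 := d6_2 (iv F2580) D2177 F2669
theorem F3538 : act 5 n2177 = n1620 := d8_2 F2581 D2177 F2668
def n2178 : Q := act 4 n1574
theorem D2178 : act 4 n1574 = n2178 := rfl
theorem F3539 : act 0 n2178 = n1630 := d3_1 D2178 (iv D1630) (iv F2579)
theorem F3540 : act 2 n2178 = n1575 := d10_1 D2178 (iv D1575) D1574
def n2179 : Q := act 5 n1575
theorem D2179 : act 5 n1575 = n2179 := rfl
def n2180 : Q := act 4 n1576
theorem D2180 : act 4 n1576 = n2180 := rfl
theorem F3541 : act 0 n2180 = n1628 := d3_1 D2180 (iv D1628) (iv F2582)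
theorem F3542 : act 2 n2180 = n1622 := d10_1 D2180 (iv D1622) (iv F2583)
def n2181 : Q := act 3 n1577
theorem D2181 : act 3 n1577 = n2181 := rfl
def n2182 : Q := act 1 n1578
theorem D2182 : act 1 n1578 = n2182 := rfl
theorem F3543 : act 2 n2182 = n1580 := d5_2 D1578 D2182 (iv D1580) (iv D1135) (iv F1871)
theorem F3544 : act 4 n2182 = n1756 := d7_2 (iv F2587) D2182 (iv D1756)
def n2183 : Q := act 3 n1578
theorem D2183 : act 3 n1578 = n2183 := rfl
theorem F3545 : act 0 n2183 = n1762 := d2_1 D2183 (iv D1762) (iv F2586)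
def n2184 : Q := act 5 n1578
theorem D2184 : act 5 n1578 = n2184 := rfl
theorem F3546 : act 0 n2184 = n1763 := d4_1 D2184 (iv D1763) (iv F2586)
theorem F3547 : act 2 n2184 = n1579 := d11_1 D2184 (iv D1579) D1578
def n2185 : Q := act 4 n1579
theorem D2185 : act 4 n1579 = n2185 := rfl
theorem F3548 : act 0 n2185 = n1712 := d3_1 D2185 F2793 (iv F2588)
theorem F3549 : act 1 n2185 = n1583 := d7_1 D2185 (iv D1583) (iv F2589)
theorem F3550 : act 3 n2185 = n1712 := d12_1 D2185 F2793 F2078 (iv F1875) (iv F2590)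
theorem F3551 : act 5 n2185 = n1711 := d14_2 D1579 D2185 (iv D1711) F2019 (iv F1872)
def n2186 : Q := act 0 n1580
theorem D2186 : act 0 n1580 = n2186 := rfl
theorem F3552 : act 1 n2186 = n1767 := d0_2 D1580 D2186 (iv D1767) (iv D1274) (iv F1876)
theorem F3553 : act 4 n2186 = n1766 := d3_2 (iv F2591) D2186 (iv D1766)
def n2187 : Q := act 3 n1580
theorem D2187 : act 3 n1580 = n2187 := rfl
theorem F3554 : act 1 n2187 = n1581 := d6_1 D2187 (iv D1581) D1580
theorem F3555 : act 4 n2187 = n1768 := d12_2 (iv F2591) D2187 (iv D1768) F2084 (iv F2082)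
def n2188 : Q := act 5 n1580
theorem D2188 : act 5 n1580 = n2188 := rfl
theorem F3556 : act 1 n2188 = n1582 := d8_1 D2188 (iv D1582) D1580
def n2189 : Q := act 4 n1582
theorem D2189 : act 4 n1582 = n2189 := rfl
theorem F3557 : act 0 n2189 = n1770 := d3_1 D2189 (iv D1770) (iv F2594)
theorem F3558 : act 2 n2189 = n1583 := d10_1 D2189 (iv D1583) (iv F2595)
theorem F3559 : act 5 n2189 = n1713 := d14_2 D1582 D2189 F2795 F2081 (iv F1877)
def n2190 : Q := act 3 n1584
theorem D2190 : act 3 n1584 = n2190 := rfl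
theorem F3560 : act 0 n2190 = n1585 := d2_1 D2190 (iv D1585) D1584
def n2191 : Q := act 5 n1584
theorem D2191 : act 5 n1584 = n2191 := rfl
theorem F3561 : act 0 n2191 = n1586 := d4_1 D2191 (iv D1586) D1584
def n2192 : Q := act 2 n1585
theorem D2192 : act 2 n1585 = n2192 := rfl
def n2193 : Q := act 4 n1585
theorem D2193 : act 4 n1585 = n2193 := rfl
theorem F3562 : act 1 n2193 = n1588 := d7_1 D2193 (iv D1588) (iv F2600)
theorem F3563 : act 3 n2193 = n1598 := d12_1 D2193 (iv D1598) (iv D1144) (iv F1880) D1585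
theorem F3564 : act 5 n1679 = n2193 := d13_0 F3563 F2632 D1679
def n2194 : Q := act 5 n1585
theorem D2194 : act 5 n1585 = n2194 := rfl
theorem F3565 : act 1 n2194 = n1589 := d8_1 D2194 (iv D1589) (iv F2600)
theorem F3566 : act 3 n2194 = n1586 := d13_1 D2194 (iv D1586) D1585
def n2195 : Q := act 4 n1586
theorem D2195 : act 4 n1586 = n2195 := rfl
theorem F3567 : act 1 n2195 = n1590 := d7_1 D2195 (iv D1590) (iv F2601)
theorem F3568 : act 5 n2195 = n1599 := d14_2 D1586 D2195 (iv D1599) (iv D1145) (iv F1880)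
theorem F3569 : act 3 n1678 = n2195 := d13_3 F3568 F2634 D1678
def n2196 : Q := act 1 n1587
theorem D2196 : act 1 n1587 = n2196 := rfl
theorem F3570 : act 3 n2196 = n1769 := d6_2 (iv F2602) D2196 F2870
theorem F3571 : act 5 n2196 = n1768 := d8_2 F2603 D2196 F2869
def n2197 : Q := act 4 n1587
theorem D2197 : act 4 n1587 = n2197 := rfl
theorem F3572 : act 0 n2197 = n1680 := d3_1 D2197 (iv F3464) F3462
theorem F3573 : act 2 n2197 = n1588 := d10_1 D2197 (iv D1588) D1587
theorem F3574 : act 5 n2197 = n1680 := d14_2 F2603 D2197 (iv F3464) (iv F3465) F2593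
def n2198 : Q := act 2 n1591
theorem D2198 : act 2 n1591 = n2198 := rfl
theorem F3575 : act 0 n2198 = n1782 := d1_1 D2198 F2882 (iv F2613)
theorem F3576 : act 3 n2198 = n1600 := d9_2 D1591 D2198 (iv D1600) (iv D1148) (iv F1895) F1896 (iv F1840) D1548 D2138 F3473 F2882 (iv F2524) F2523 F2612 F2610
theorem F3577 : act 4 n2198 = n1592 := d10_2 (iv F2614) D2198 (iv D1592)
theorem F3578 : act 5 n2198 = n1600 := d11_2 (iv F2615) D2198 (iv D1600)
def n2199 : Q := act 1 n1592
theorem D2199 : act 1 n1592 = n2199 := rfl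
theorem F3579 : act 3 n2199 = n1787 := d6_2 (iv F2618) D2199 (iv D1787)
theorem F3580 : act 5 n2199 = n1593 := d8_2 (iv F2617) D2199 (iv D1593)
def n2200 : Q := act 0 n1593
theorem D2200 : act 0 n1593 = n2200 := rfl
theorem F3581 : act 1 n2200 = n1778 := d0_2 D1593 D2200 (iv D1778) (iv D1284) (iv F1885)
theorem F3582 : act 4 n2200 = n1602 := d3_2 (iv F2619) D2200 (iv D1602)
def n2201 : Q := act 3 n1593
theorem D2201 : act 3 n1593 = n2201 := rfl
theorem F3583 : act 1 n2201 = n1594 := d6_1 D2201 (iv D1594) D1593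
theorem F3584 : act 5 n2201 = n1787 := d13_2 F3580 D2201 (iv F3579)
def n2202 : Q := act 4 n1594
theorem D2202 : act 4 n1594 = n2202 := rfl
theorem F3585 : act 0 n2202 = n1781 := d3_1 D2202 (iv D1781) (iv F2620)
theorem F3586 : act 2 n2202 = n1788 := d10_1 D2202 (iv D1788) (iv F2622)
theorem F3587 : act 3 n2202 = n1604 := d12_1 D2202 (iv D1604) (iv D1151) (iv F1886) D1594
theorem F3588 : act 5 n2202 = n1604 := d14_2 (iv F2621) D2202 (iv D1604) (iv F2551) F2550
def n2203 : Q := act 2 n1595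
theorem D2203 : act 2 n1595 = n2203 := rfl
theorem F3589 : act 0 n2203 = n1597 := d1_1 D2203 (iv D1597) (iv F2623)
theorem F3590 : act 5 n2203 = n1634 := d11_2 F2625 D2203 F2678
def n2204 : Q := act 4 n1595
theorem D2204 : act 4 n1595 = n2204 := rfl
theorem F3591 : act 0 n2204 = n1598 := d3_1 D2204 (iv D1598) (iv F2623)
theorem F3592 : act 1 n2204 = n1675 := d7_1 D2204 (iv D1675) (iv F2624)
theorem F3593 : act 5 n2204 = n1675 := d14_2 F2625 D2204 (iv D1675) (iv D1206) (iv F1937)
def n2205 : Q := act 4 n1596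
theorem D2205 : act 4 n1596 = n2205 := rfl
theorem F3594 : act 0 n2205 = n1599 := d3_1 D2205 (iv D1599) (iv F2626)
theorem F3595 : act 1 n2205 = n1674 := d7_1 D2205 (iv D1674) (iv F2627)
theorem F3596 : act 3 n2205 = n1674 := d12_1 D2205 (iv D1674) (iv D1205) (iv F1937) (iv F2628)
def n2206 : Q := act 4 n1597
theorem D2206 : act 4 n1597 = n2206 := rfl
theorem F3597 : act 1 n2206 = n1637 := d7_1 D2206 (iv D1637) (iv F2629)
theorem F3598 : act 2 n2206 = n1598 := d10_1 D2206 (iv D1598) D1597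
theorem F3599 : act 5 n2206 = n1667 := d14_2 (iv F2630) D2206 (iv D1667) (iv D1200) (iv F1931)
def n2207 : Q := act 1 n1600
theorem D2207 : act 1 n1600 = n2207 := rfl
theorem F3600 : act 4 n2207 = n1601 := d7_2 (iv F2635) D2207 (iv D1601)
def n2208 : Q := act 0 n1601
theorem D2208 : act 0 n1601 = n2208 := rfl
theorem F3601 : act 5 n2208 = n1602 := d4_2 (iv F2636) D2208 (iv D1602)
def n2209 : Q := act 3 n1602
theorem D2209 : act 3 n1602 = n2209 := rfl
theorem F3602 : act 0 n2209 = n1603 := d2_1 D2209 (iv D1603) D1602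
def n2210 : Q := act 2 n1603
theorem D2210 : act 2 n1603 = n2210 := rfl
def n2211 : Q := act 4 n1603
theorem D2211 : act 4 n1603 = n2211 := rfl
theorem F3603 : act 1 n2211 = n1604 := d7_1 D2211 (iv D1604) (iv F2637)
def n2212 : Q := act 3 n1605
theorem D2212 : act 3 n1605 = n2212 := rfl
theorem F3604 : act 0 n2212 = n1606 := d2_1 D2212 (iv D1606) D1605
theorem F3605 : act 5 n2212 = n1608 := d13_2 (iv F2640) D2212 (iv D1608)
def n2213 : Q := act 2 n1606
theorem D2213 : act 2 n1606 = n2213 := rfl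
theorem F3606 : act 5 n2213 = n1609 := d11_2 (iv F2642) D2213 (iv D1609)
def n2214 : Q := act 4 n1606
theorem D2214 : act 4 n1606 = n2214 := rfl
theorem F3607 : act 1 n2214 = n1607 := d7_1 D2214 (iv D1607) (iv F2641)
theorem F3608 : act 3 n2214 = n1690 := d12_1 D2214 (iv D1690) (iv D1218) (iv F1900) D1606
def n2215 : Q := act 5 n1607
theorem D2215 : act 5 n1607 = n2215 := rfl
theorem F3609 : act 0 n2215 = n1788 := d4_1 D2215 (iv F3492) F3489
theorem F3610 : act 2 n2215 = n1781 := d11_1 D2215 (iv F3483) F3481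
theorem F3611 : act 3 n2215 = n1691 := d13_1 D2215 (iv D1691) (iv F2643)
theorem F3612 : act 4 n2215 = n1613 := d14_1 D2215 (iv D1613) (iv D1157) (iv F1902) D1607
def n2216 : Q := act 2 n1608
theorem D2216 : act 2 n1608 = n2216 := rfl
theorem F3613 : act 0 n2216 = n1609 := d1_1 D2216 (iv D1609) (iv F2644)
def n2217 : Q := act 4 n1608
theorem D2217 : act 4 n1608 = n2217 := rfl
theorem F3614 : act 0 n2217 = n1610 := d3_1 D2217 (iv D1610) (iv F2644)
theorem F3615 : act 1 n2217 = n1783 := d7_1 D2217 (iv F3495) F3494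
theorem F3616 : act 3 n2217 = n1615 := d12_1 D2217 (iv D1615) (iv D1158) (iv F1904) D1608
def n2218 : Q := act 1 n1609
theorem D2218 : act 1 n1609 = n2218 := rfl
theorem F3617 : act 2 n2218 = n1611 := d5_2 D1609 D2218 (iv D1611) (iv D1156) (iv F1905)
def n2219 : Q := act 3 n1609
theorem D2219 : act 3 n1609 = n2219 := rfl
def n2220 : Q := act 4 n1609
theorem D2220 : act 4 n1609 = n2220 := rfl
theorem F3618 : act 2 n2220 = n1610 := d10_1 D2220 (iv D1610) D1609
def n2221 : Q := act 5 n1610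
theorem D2221 : act 5 n1610 = n2221 := rfl
theorem F3619 : act 1 n2221 = n1613 := d8_1 D2221 (iv D1613) (iv F2645)
theorem F3620 : act 3 n2221 = n1618 := d13_1 D2221 (iv D1618) (iv F2646)
def n2222 : Q := act 0 n1611
theorem D2222 : act 0 n1611 = n2222 := rfl
def n2223 : Q := act 4 n1611
theorem D2223 : act 4 n1611 = n2223 := rfl
theorem F3621 : act 1 n2223 = n1612 := d7_1 D2223 (iv D1612) D1611
theorem F3622 : act 3 n1780 = n2223 := d6_0 F3621 (iv F2649) (iv F2881)
theorem F3623 : act 5 n1779 = n2223 := d8_0 F3621 F2650 (iv F2880)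
def n2224 : Q := act 4 n1614
theorem D2224 : act 4 n1614 = n2224 := rfl
theorem F3624 : act 0 n2224 = n1617 := d3_1 D2224 (iv D1617) (iv F2654)
theorem F3625 : act 2 n2224 = n1615 := d10_1 D2224 (iv D1615) D1614
def n2225 : Q := act 5 n1615
theorem D2225 : act 5 n1615 = n2225 := rfl
theorem F3626 : act 0 n2225 = n1618 := d4_1 D2225 (iv D1618) (iv F2657)
theorem F3627 : act 1 n2225 = n1784 := d8_1 D2225 (iv D1784) (iv F2658)
theorem F3628 : act 4 n2225 = n1704 := d14_1 D2225 (iv D1704) (iv D1227) (iv F1910) D1615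
def n2226 : Q := act 4 n1616
theorem D2226 : act 4 n1616 = n2226 := rfl
theorem F3629 : act 0 n2226 = n1752 := d3_1 D2226 (iv D1752) (iv F2659)
theorem F3630 : act 1 n2226 = n1765 := d7_1 D2226 (iv D1765) (iv F2660)
theorem F3631 : act 2 n2226 = n1750 := d10_1 D2226 (iv D1750) (iv F2661)
def n2227 : Q := act 3 n1617
theorem D2227 : act 3 n1617 = n2227 := rfl
theorem F3632 : act 1 n2227 = n1762 := d6_1 D2227 (iv D1762) (iv F2663)
def n2228 : Q := act 5 n1617
theorem D2228 : act 5 n1617 = n2228 := rfl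
theorem F3633 : act 1 n2228 = n1763 := d8_1 D2228 (iv D1763) (iv F2663)
theorem F3634 : act 2 n2228 = n1618 := d11_1 D2228 (iv D1618) (iv F2664)
theorem F3635 : act 4 n2228 = n1710 := d14_1 D2228 (iv D1710) (iv D1230) (iv F1912) D1617
def n2229 : Q := act 3 n1619
theorem D2229 : act 3 n1619 = n2229 := rfl
theorem F3636 : act 0 n2229 = n1620 := d2_1 D2229 (iv D1620) D1619
theorem F3637 : act 1 n2229 = n1624 := d6_1 D2229 (iv D1624) (iv F2667)
def n2230 : Q := act 2 n1620
theorem D2230 : act 2 n1620 = n2230 := rfl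
def n2231 : Q := act 4 n1620
theorem D2231 : act 4 n1620 = n2231 := rfl
theorem F3638 : act 1 n2231 = n1622 := d7_1 D2231 (iv D1622) (iv F2668)
def n2232 : Q := act 4 n1621
theorem D2232 : act 4 n1621 = n2232 := rfl
theorem F3639 : act 1 n2232 = n1623 := d7_1 D2232 (iv D1623) (iv F2669)
def n2233 : Q := act 5 n1622
theorem D2233 : act 5 n1622 = n2233 := rfl
theorem F3640 : act 0 n2233 = n1629 := d4_1 D2233 (iv D1629) (iv F2670)
def n2234 : Q := act 3 n1623
theorem D2234 : act 3 n1623 = n2234 := rfl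
theorem F3641 : act 0 n2234 = n1631 := d2_1 D2234 (iv D1631) (iv F2671)
def n2235 : Q := act 4 n1624
theorem D2235 : act 4 n1624 = n2235 := rfl
theorem F3642 : act 0 n2235 = n1626 := d3_1 D2235 (iv D1626) (iv F2673)
def n2236 : Q := act 1 n1625
theorem D2236 : act 1 n1625 = n2236 := rfl
theorem F3643 : act 2 n2236 = n1627 := d5_2 D1625 D2236 (iv D1627) (iv D1168) (iv F1922)
def n2237 : Q := act 4 n1625
theorem D2237 : act 4 n1625 = n2237 := rfl
theorem F3644 : act 2 n2237 = n1626 := d10_1 D2237 (iv D1626) D1625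
def n2238 : Q := act 5 n1626
theorem D2238 : act 5 n1626 = n2238 := rfl
theorem F3645 : act 1 n2238 = n1629 := d8_1 D2238 (iv D1629) (iv F2674)
def n2239 : Q := act 0 n1627
theorem D2239 : act 0 n1627 = n2239 := rfl
def n2240 : Q := act 4 n1627
theorem D2240 : act 4 n1627 = n2240 := rfl
theorem F3646 : act 1 n2240 = n1628 := d7_1 D2240 (iv D1628) D1627
def n2241 : Q := act 3 n1628
theorem D2241 : act 3 n1628 = n2241 := rfl
def n2242 : Q := act 5 n1628
theorem D2242 : act 5 n1628 = n2242 := rfl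
theorem F3647 : act 2 n2242 = n1629 := d11_1 D2242 (iv D1629) (iv F2675)
def n2243 : Q := act 4 n1629
theorem D2243 : act 4 n1629 = n2243 := rfl
theorem F3648 : act 5 n2243 = n1630 := d14_2 D1629 D2243 (iv D1630) (iv D1170) D1169
def n2244 : Q := act 3 n1630
theorem D2244 : act 3 n1630 = n2244 := rfl
theorem F3649 : act 4 n2244 = n1631 := d12_2 D1630 D2244 (iv D1631) (iv D1171) (iv F1923)
def n2245 : Q := act 2 n1631
theorem D2245 : act 2 n1631 = n2245 := rfl
def n2246 : Q := act 1 n1632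
theorem D2246 : act 1 n1632 = n2246 := rfl
theorem F3650 : act 4 n2246 = n1739 := d7_2 (iv F2677) D2246 (iv D1739)
def n2247 : Q := act 3 n1632
theorem D2247 : act 3 n1632 = n2247 := rfl
theorem F3651 : act 0 n2247 = n1633 := d2_1 D2247 (iv D1633) (iv F2676)
def n2248 : Q := act 2 n1633
theorem D2248 : act 2 n1633 = n2248 := rfl
def n2249 : Q := act 4 n1633
theorem D2249 : act 4 n1633 = n2249 := rfl
theorem F3652 : act 3 n2249 = n1742 := d12_1 D2249 (iv D1742) (iv D1254) (iv F1929) D1633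
def n2250 : Q := act 3 n1634
theorem D2250 : act 3 n1634 = n2250 := rfl
theorem F3653 : act 0 n2250 = n1635 := d2_1 D2250 (iv D1635) D1634
def n2251 : Q := act 2 n1635
theorem D2251 : act 2 n1635 = n2251 := rfl
def n2252 : Q := act 4 n1635
theorem D2252 : act 4 n1635 = n2252 := rfl
theorem F3654 : act 1 n2252 = n1636 := d7_1 D2252 (iv D1636) (iv F2680)
theorem F3655 : act 3 n2252 = n1665 := d12_1 D2252 (iv D1665) (iv D1199) (iv F1931) D1635
def n2253 : Q := act 5 n1636
theorem D2253 : act 5 n1636 = n2253 := rfl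
theorem F3656 : act 3 n2253 = n1670 := d13_1 D2253 (iv D1670) (iv F2681)
def n2254 : Q := act 3 n1637
theorem D2254 : act 3 n1637 = n2254 := rfl
theorem F3657 : act 5 n2254 = n1672 := d13_2 (iv F2683) D2254 (iv D1672)
def n2255 : Q := act 1 n1638
theorem D2255 : act 1 n1638 = n2255 := rfl
theorem F3658 : act 2 n2255 = n1996 := d5_2 D1638 D2255 F3252 F2369 (iv F1939)
theorem F3659 : act 4 n2255 = n1639 := d7_2 (iv F2685) D2255 (iv D1639)
theorem F3660 : act 5 n2255 = n1681 := d8_2 (iv F2686) D2255 (iv D1681)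
def n2256 : Q := act 3 n1638
theorem D2256 : act 3 n1638 = n2256 := rfl
theorem F3661 : act 0 n2256 = n1682 := d2_1 D2256 (iv D1682) (iv F2684)
theorem F3662 : act 4 n2256 = n1700 := d12_2 (iv F2685) D2256 (iv D1700) (iv D1224) (iv F1944)
theorem F3663 : act 5 n2256 = n1682 := d13_2 (iv F2686) D2256 (iv D1682)
def n2257 : Q := act 0 n1639
theorem D2257 : act 0 n1639 = n2257 := rfl
theorem F3664 : act 1 n2257 = n1683 := d0_2 D1639 D2257 (iv D1683) (iv D1213) (iv F1942)
theorem F3665 : act 2 n2257 = n1992 := d1_2 (iv F2687) D2257 F3247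
theorem F3666 : act 3 n2257 = n1698 := d2_2 (iv F2688) D2257 (iv D1698)
theorem F3667 : act 5 n2257 = n1640 := d4_2 (iv F2689) D2257 (iv D1640)
def n2258 : Q := act 3 n1640
theorem D2258 : act 3 n1640 = n2258 := rfl
theorem F3668 : act 0 n2258 = n1641 := d2_1 D2258 (iv D1641) D1640
theorem F3669 : act 1 n2258 = n1684 := d6_1 D2258 (iv D1684) (iv F2690)
theorem F3670 : act 5 n2258 = n1698 := d13_2 F3667 D2258 (iv F3666)
def n2259 : Q := act 2 n1641
theorem D2259 : act 2 n1641 = n2259 := rfl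
theorem F3671 : act 1 n2259 = n1689 := d5_1 D2259 (iv D1689) F2001 (iv F1949) (iv F2693)
theorem F3672 : act 5 n2259 = n1694 := d11_2 (iv F2694) D2259 F2768
def n2260 : Q := act 4 n1641
theorem D2260 : act 4 n1641 = n2260 := rfl
theorem F3673 : act 1 n2260 = n1642 := d7_1 D2260 (iv D1642) (iv F2693)
theorem F3674 : act 3 n2260 = n1686 := d12_1 D2260 (iv D1686) (iv D1215) (iv F1946) D1641
def n2261 : Q := act 5 n1642
theorem D2261 : act 5 n1642 = n2261 := rfl
theorem F3675 : act 0 n2261 = n1687 := d4_1 D2261 (iv D1687) (iv F2695)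
theorem F3676 : act 2 n2261 = n1691 := d11_1 D2261 (iv D1691) (iv F2696)
theorem F3677 : act 3 n2261 = n1687 := d13_1 D2261 (iv D1687) (iv F2697)
theorem F3678 : act 4 n2261 = n1701 := d14_1 D2261 (iv D1701) (iv D1224) (iv F1948) D1642
def n2262 : Q := act 3 n1643
theorem D2262 : act 3 n1643 = n2262 := rfl
theorem F3679 : act 0 n2262 = n1644 := d2_1 D2262 (iv D1644) D1643
theorem F3680 : act 1 n2262 = n1688 := d6_1 D2262 (iv D1688) (iv F2698)
theorem F3681 : act 5 n2262 = n1646 := d13_2 (iv F2699) D2262 (iv D1646)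
def n2263 : Q := act 2 n1644
theorem D2263 : act 2 n1644 = n2263 := rfl
theorem F3682 : act 1 n2263 = n1685 := d5_1 D2263 (iv D1685) F1998 (iv F1952) (iv F2700)
theorem F3683 : act 5 n2263 = n1647 := d11_2 (iv F2701) D2263 (iv D1647)
def n2264 : Q := act 4 n1644
theorem D2264 : act 4 n1644 = n2264 := rfl
theorem F3684 : act 1 n2264 = n1645 := d7_1 D2264 (iv D1645) (iv F2700)
def n2265 : Q := act 5 n1645
theorem D2265 : act 5 n1645 = n2265 := rfl
theorem F3685 : act 0 n2265 = n1691 := d4_1 D2265 (iv D1691) (iv F2702)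
theorem F3686 : act 2 n2265 = n1687 := d11_1 D2265 (iv D1687) (iv F2703)
theorem F3687 : act 3 n2265 = n1788 := d13_1 D2265 (iv F3492) F3491
theorem F3688 : act 4 n2265 = n1651 := d14_1 D2265 (iv D1651) (iv D1189) (iv F1953) D1645
def n2266 : Q := act 2 n1646
theorem D2266 : act 2 n1646 = n2266 := rfl
theorem F3689 : act 0 n2266 = n1647 := d1_1 D2266 (iv D1647) (iv F2704)
def n2267 : Q := act 4 n1646
theorem D2267 : act 4 n1646 = n2267 := rfl
theorem F3690 : act 0 n2267 = n1648 := d3_1 D2267 (iv D1648) (iv F2704)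
theorem F3691 : act 1 n2267 = n1693 := d7_1 D2267 (iv D1693) (iv F2705)
theorem F3692 : act 3 n2267 = n1653 := d12_1 D2267 (iv D1653) (iv D1190) (iv F1955) D1646
def n2268 : Q := act 1 n1647
theorem D2268 : act 1 n1647 = n2268 := rfl
theorem F3693 : act 2 n2268 = n1649 := d5_2 D1647 D2268 (iv D1649) (iv D1188) (iv F1956)
theorem F3694 : act 5 n2268 = n1685 := d8_2 F3683 D2268 (iv F3682)
def n2269 : Q := act 3 n1647
theorem D2269 : act 3 n1647 = n2269 := rfl
def n2270 : Q := act 4 n1647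
theorem D2270 : act 4 n1647 = n2270 := rfl
theorem F3695 : act 2 n2270 = n1648 := d10_1 D2270 (iv D1648) D1647
def n2271 : Q := act 5 n1648
theorem D2271 : act 5 n1648 = n2271 := rfl
theorem F3696 : act 1 n2271 = n1651 := d8_1 D2271 (iv D1651) (iv F2706)
theorem F3697 : act 3 n2271 = n1656 := d13_1 D2271 (iv D1656) (iv F2707)
def n2272 : Q := act 0 n1649
theorem D2272 : act 0 n1649 = n2272 := rfl
theorem F3698 : act 1 n2272 = n1698 := d0_2 D1649 D2272 (iv D1698) (iv D1223) (iv F1957)
theorem F3699 : act 3 n2272 = n1683 := d2_2 (iv F2708) D2272 (iv D1683)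
theorem F3700 : act 5 n2272 = n1684 := d4_2 (iv F2709) D2272 F2757
def n2273 : Q := act 4 n1649
theorem D2273 : act 4 n1649 = n2273 := rfl
theorem F3701 : act 1 n2273 = n1650 := d7_1 D2273 (iv D1650) D1649
def n2274 : Q := act 3 n1650
theorem D2274 : act 3 n1650 = n2274 := rfl
theorem F3702 : act 0 n2274 = n1700 := d2_1 D2274 (iv D1700) (iv F2710)
theorem F3703 : act 4 n2274 = n1682 := d12_2 D1650 D2274 (iv D1682) F1994 (iv F1958)
def n2275 : Q := act 5 n1650
theorem D2275 : act 5 n1650 = n2275 := rfl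
theorem F3704 : act 0 n2275 = n1701 := d4_1 D2275 (iv D1701) (iv F2710)
theorem F3705 : act 2 n2275 = n1651 := d11_1 D2275 (iv D1651) (iv F2711)
theorem F3706 : act 4 n2275 = n1687 := d14_1 D2275 (iv D1687) (iv D1216) (iv F1959) D1650
def n2276 : Q := act 1 n1652
theorem D2276 : act 1 n1652 = n2276 := rfl
theorem F3707 : act 0 n2276 = n1654 := d0_1 D2276 F2718 F2079 (iv F1965) (iv F2714)
theorem F3708 : act 2 n2276 = n1702 := d5_2 D1652 D2276 (iv D1702) (iv D1226) (iv F1963)
theorem F3709 : act 5 n2276 = n1766 := d8_2 (iv F2715) D2276 F2865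
theorem F3710 : act 3 n1652 = n2276 := d13_3 F3709 F2866 (iv F2715)
def n2277 : Q := act 4 n1652
theorem D2277 : act 4 n1652 = n2277 := rfl
theorem F3711 : act 0 n2277 = n1655 := d3_1 D2277 (iv D1655) (iv F2714)
theorem F3712 : act 2 n2277 = n1653 := d10_1 D2277 (iv D1653) D1652
def n2278 : Q := act 5 n1653
theorem D2278 : act 5 n1653 = n2278 := rfl
theorem F3713 : act 0 n2278 = n1656 := d4_1 D2278 (iv D1656) (iv F2716)
theorem F3714 : act 1 n2278 = n1704 := d8_1 D2278 (iv D1704) (iv F2717)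
theorem F3715 : act 4 n2278 = n1784 := d14_1 D2278 (iv D1784) F2096 (iv F1964) D1653
def n2279 : Q := act 2 n1654
theorem D2279 : act 2 n1654 = n2279 := rfl
theorem F3716 : act 0 n2279 = n1702 := d1_1 D2279 (iv F3708) F3707
theorem F3717 : act 1 n2279 = n1705 := d5_1 D2279 F2780 F2017 D1272 (iv F2718)
theorem F3718 : act 3 n2279 = n2011 := d9_2 D1654 D2279 F3268 F2381 F2064 F1852 (iv F2089) (iv F2866) (iv F3231) (iv D1983) (iv D1437) (iv D1033) F1247 D851 D1191
theorem F3719 : act 5 n2279 = n1756 := d11_2 (iv F2719) D2279 F2855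
def n2280 : Q := act 4 n1654
theorem D2280 : act 4 n1654 = n2280 := rfl
theorem F3720 : act 1 n2280 = n1713 := d7_1 D2280 F2795 (iv F2718)
def n2281 : Q := act 3 n1655
theorem D2281 : act 3 n1655 = n2281 := rfl
theorem F3721 : act 1 n2281 = n1771 := d6_1 D2281 (iv D1771) (iv F2720)
def n2282 : Q := act 5 n1655
theorem D2282 : act 5 n1655 = n2282 := rfl
theorem F3722 : act 1 n2282 = n1770 := d8_1 D2282 F2873 (iv F2720)
theorem F3723 : act 2 n2282 = n1656 := d11_1 D2282 (iv D1656) (iv F2721)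
theorem F3724 : act 4 n2282 = n1769 := d14_1 D2282 (iv D1769) F2084 (iv F1966) D1655
def n2283 : Q := act 3 n1657
theorem D2283 : act 3 n1657 = n2283 := rfl
theorem F3725 : act 0 n2283 = n1658 := d2_1 D2283 (iv D1658) D1657
theorem F3726 : act 1 n2283 = n1662 := d6_1 D2283 (iv D1662) (iv F2724)
theorem F3727 : act 5 n1732 = n2283 := d4_0 F3725 (iv F2726) D1732
def n2284 : Q := act 5 n1657
theorem D2284 : act 5 n1657 = n2284 := rfl
theorem F3728 : act 0 n2284 = n1659 := d4_1 D2284 (iv D1659) D1657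
theorem F3729 : act 1 n2284 = n1663 := d8_1 D2284 (iv D1663) (iv F2724)
theorem F3730 : act 3 n2284 = n1732 := d13_1 D2284 F3727 (iv D2283)
def n2285 : Q := act 2 n1658
theorem D2285 : act 2 n1658 = n2285 := rfl
theorem F3731 : act 1 n2285 = n1728 := d5_1 D2285 F2821 F2042 (iv F1972) (iv F2725)
theorem F3732 : act 5 n2285 = n1725 := d11_2 F2726 D2285 F2819
def n2286 : Q := act 4 n1658
theorem D2286 : act 4 n1658 = n2286 := rfl
theorem F3733 : act 1 n2286 = n1660 := d7_1 D2286 (iv D1660) (iv F2725)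
def n2287 : Q := act 4 n1659
theorem D2287 : act 4 n1659 = n2287 := rfl
theorem F3734 : act 1 n2287 = n1661 := d7_1 D2287 (iv D1661) (iv F2727)
def n2288 : Q := act 5 n1660
theorem D2288 : act 5 n1660 = n2288 := rfl
theorem F3735 : act 0 n2288 = n1670 := d4_1 D2288 (iv D1670) (iv F2729)
theorem F3736 : act 2 n2288 = n1736 := d11_1 D2288 F2829 (iv F2730)
theorem F3737 : act 4 n2288 = n1735 := d14_1 D2288 (iv D1735) (iv D1248) F1973 D1660
def n2289 : Q := act 3 n1661
theorem D2289 : act 3 n1661 = n2289 := rfl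
theorem F3738 : act 0 n2289 = n1672 := d2_1 D2289 (iv D1672) (iv F2731)
theorem F3739 : act 4 n2289 = n1734 := d12_2 D1661 D2289 (iv D1734) (iv D1248) (iv F1976)
def n2290 : Q := act 2 n1662
theorem D2290 : act 2 n1662 = n2290 := rfl
theorem F3740 : act 0 n2290 = n1664 := d1_1 D2290 (iv D1664) (iv F2733)
def n2291 : Q := act 4 n1662
theorem D2291 : act 4 n1662 = n2291 := rfl
theorem F3741 : act 0 n2291 = n1665 := d3_1 D2291 (iv D1665) (iv F2733)
def n2292 : Q := act 5 n1662
theorem D2292 : act 5 n1662 = n2292 := rfl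
theorem F3742 : act 0 n2292 = n1666 := d4_1 D2292 (iv D1666) (iv F2733)
theorem F3743 : act 1 n2292 = n1732 := d8_1 D2292 F3727 F3726
theorem F3744 : act 3 n2292 = n1663 := d13_1 D2292 (iv D1663) D1662
def n2293 : Q := act 4 n1663
theorem D2293 : act 4 n1663 = n2293 := rfl
theorem F3745 : act 0 n2293 = n1667 := d3_1 D2293 (iv D1667) (iv F2734)
theorem F3746 : act 2 n2293 = n1675 := d10_1 D2293 (iv D1675) (iv F2735)
def n2294 : Q := act 1 n1664
theorem D2294 : act 1 n1664 = n2294 := rfl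
theorem F3747 : act 2 n2294 = n1668 := d5_2 D1664 D2294 (iv D1668) (iv D1201) (iv F1980)
theorem F3748 : act 5 n1716 = n2294 := d11_0 F3747 F2742 D1716
def n2295 : Q := act 3 n1664
theorem D2295 : act 3 n1664 = n2295 := rfl
def n2296 : Q := act 4 n1664
theorem D2296 : act 4 n1664 = n2296 := rfl
theorem F3749 : act 2 n2296 = n1665 := d10_1 D2296 (iv D1665) D1664
def n2297 : Q := act 5 n1664
theorem D2297 : act 5 n1664 = n2297 := rfl
theorem F3750 : act 1 n2297 = n1716 := d8_1 D2297 F3748 (iv D2294)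
theorem F3751 : act 2 n2297 = n1666 := d11_1 D2297 (iv D1666) D1664
def n2298 : Q := act 5 n1665
theorem D2298 : act 5 n1665 = n2298 := rfl
theorem F3752 : act 1 n2298 = n1670 := d8_1 D2298 (iv D1670) (iv F2736)
def n2299 : Q := act 4 n1666
theorem D2299 : act 4 n1666 = n2299 := rfl
theorem F3753 : act 1 n2299 = n1671 := d7_1 D2299 (iv D1671) (iv F2737)
def n2300 : Q := act 3 n1667
theorem D2300 : act 3 n1667 = n2300 := rfl
theorem F3754 : act 1 n2300 = n1672 := d6_1 D2300 (iv D1672) (iv F2739)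
def n2301 : Q := act 0 n1668
theorem D2301 : act 0 n1668 = n2301 := rfl
theorem F3755 : act 1 n2301 = n1723 := d0_2 D1668 D2301 F2814 F2042 (iv F1983)
theorem F3756 : act 3 n2301 = n1715 := d2_2 (iv F2741) D2301 F2798
theorem F3757 : act 5 n2301 = n1714 := d4_2 (iv F2742) D2301 F2796
def n2302 : Q := act 4 n1668
theorem D2302 : act 4 n1668 = n2302 := rfl
theorem F3758 : act 1 n2302 = n1669 := d7_1 D2302 (iv D1669) D1668
def n2303 : Q := act 3 n1669
theorem D2303 : act 3 n1669 = n2303 := rfl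
theorem F3759 : act 0 n2303 = n1737 := d2_1 D2303 (iv D1737) (iv F2743)
theorem F3760 : act 4 n2303 = n1720 := d12_2 D1669 D2303 (iv D1720) (iv D1240) (iv F1984)
theorem F3761 : act 2 n1960 = n2303 := d10_3 F3760 F2810 D1960
def n2304 : Q := act 5 n1669
theorem D2304 : act 5 n1669 = n2304 := rfl
theorem F3762 : act 0 n2304 = n1736 := d4_1 D2304 F2829 (iv F2743)
theorem F3763 : act 2 n2304 = n1670 := d11_1 D2304 (iv D1670) (iv F2744)
theorem F3764 : act 4 n2304 = n1719 := d14_1 D2304 (iv D1719) (iv D1239) F1985 D1669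
def n2305 : Q := act 4 n1670
theorem D2305 : act 4 n1670 = n2305 := rfl
theorem F3765 : act 0 n2305 = n1735 := d3_1 D2305 (iv F3737) F3735
theorem F3766 : act 2 n2305 = n1719 := d10_1 D2305 (iv F3764) F3763
theorem F3767 : act 5 n2305 = n1671 := d14_2 D1670 D2305 (iv D1671) (iv D1203) D1202
def n2306 : Q := act 3 n1671
theorem D2306 : act 3 n1671 = n2306 := rfl
theorem F3768 : act 0 n2306 = n1734 := d2_1 D2306 (iv D1734) (iv F2745)
theorem F3769 : act 4 n2306 = n1672 := d12_2 D1671 D2306 (iv D1672) (iv D1204) (iv F1988)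
def n2307 : Q := act 2 n1672
theorem D2307 : act 2 n1672 = n2307 := rfl
def n2308 : Q := act 1 n1673
theorem D2308 : act 1 n1673 = n2308 := rfl
def n2309 : Q := act 3 n1673
theorem D2309 : act 3 n1673 = n2309 := rfl
theorem F3770 : act 0 n2309 = n1676 := d2_1 D2309 (iv D1676) (iv F2747)
def n2310 : Q := act 4 n1673
theorem D2310 : act 4 n1673 = n2310 := rfl
theorem F3771 : act 0 n2310 = n1677 := d3_1 D2310 (iv D1677) (iv F2747)
theorem F3772 : act 2 n2310 = n1674 := d10_1 D2310 (iv D1674) D1673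
def n2311 : Q := act 5 n1674
theorem D2311 : act 5 n1674 = n2311 := rfl
theorem F3773 : act 0 n2311 = n1678 := d4_1 D2311 (iv D1678) (iv F2748)
def n2312 : Q := act 3 n1675
theorem D2312 : act 3 n1675 = n2312 := rfl
theorem F3774 : act 0 n2312 = n1679 := d2_1 D2312 (iv D1679) (iv F2749)
def n2313 : Q := act 2 n1676
theorem D2313 : act 2 n1676 = n2313 := rfl
def n2314 : Q := act 4 n1676
theorem D2314 : act 4 n1676 = n2314 := rfl
def n2315 : Q := act 3 n1677
theorem D2315 : act 3 n1677 = n2315 := rfl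
def n2316 : Q := act 5 n1677
theorem D2316 : act 5 n1677 = n2316 := rfl
theorem F3775 : act 2 n2316 = n1678 := d11_1 D2316 (iv D1678) (iv F2750)
def n2317 : Q := act 2 n1679
theorem D2317 : act 2 n1679 = n2317 := rfl
def n2318 : Q := act 1 n1680
theorem D2318 : act 1 n1680 = n2318 := rfl
def n2319 : Q := act 3 n1680
theorem D2319 : act 3 n1680 = n2319 := rfl
theorem F3776 : act 2 n2319 = n1682 := d15_2 D1680 D2319 (iv D1682) (iv D1212) (iv D864) (iv F1437) D1211 F2606 F2604
def n2320 : Q := act 0 n1681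
theorem D2320 : act 0 n1681 = n2320 := rfl
theorem F3777 : act 2 n2320 = n2004 := d1_2 (iv F2753) D2320 F3262
theorem F3778 : act 4 n2320 = n1683 := d3_2 (iv F2754) D2320 (iv D1683)
def n2321 : Q := act 3 n1681
theorem D2321 : act 3 n1681 = n2321 := rfl
theorem F3779 : act 1 n2321 = n1682 := d6_1 D2321 (iv D1682) D1681
def n2322 : Q := act 2 n1684
theorem D2322 : act 2 n1684 = n2322 := rfl
theorem F3780 : act 0 n2322 = n1685 := d1_1 D2322 (iv D1685) (iv F2757)
def n2323 : Q := act 4 n1684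
theorem D2323 : act 4 n1684 = n2323 := rfl
theorem F3781 : act 0 n2323 = n1686 := d3_1 D2323 (iv D1686) (iv F2757)
def n2324 : Q := act 3 n1685
theorem D2324 : act 3 n1685 = n2324 := rfl
def n2325 : Q := act 4 n1685
theorem D2325 : act 4 n1685 = n2325 := rfl
theorem F3782 : act 2 n2325 = n1686 := d10_1 D2325 (iv D1686) D1685
def n2326 : Q := act 5 n1686
theorem D2326 : act 5 n1686 = n2326 := rfl
theorem F3783 : act 1 n2326 = n1687 := d8_1 D2326 (iv D1687) (iv F2758)
def n2327 : Q := act 2 n1688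
theorem D2327 : act 2 n1688 = n2327 := rfl
theorem F3784 : act 0 n2327 = n1689 := d1_1 D2327 (iv D1689) (iv F2759)
theorem F3785 : act 3 n2327 = n1746 := d9_2 D1688 D2327 (iv D1746) (iv D1257) (iv D897) (iv D632) (iv F1024) D871 D1221 D1695 F2770 (iv D1624) F1921 (iv F1478) (iv F1999)
theorem F3786 : act 5 n2327 = n1692 := d11_2 (iv F2760) D2327 (iv D1692)
def n2328 : Q := act 4 n1688
theorem D2328 : act 4 n1688 = n2328 := rfl
theorem F3787 : act 0 n2328 = n1690 := d3_1 D2328 (iv D1690) (iv F2759)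
def n2329 : Q := act 3 n1689
theorem D2329 : act 3 n1689 = n2329 := rfl
theorem F3788 : act 0 n2329 = n1746 := d2_1 D2329 (iv F3785) F3784
theorem F3789 : act 2 n2329 = n1744 := d9_1 D2329 (iv D1744) (iv D1255) (iv D896) (iv F1445) D1220 D1692 F2765 (iv D1625) (iv D1167) F1400 (iv F1048) (iv F1442) D1218 D1689
theorem F3790 : act 5 n2329 = n1695 := d13_2 (iv F2761) D2329 (iv D1695)
def n2330 : Q := act 4 n1689
theorem D2330 : act 4 n1689 = n2330 := rfl
theorem F3791 : act 2 n2330 = n1690 := d10_1 D2330 (iv D1690) D1689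
def n2331 : Q := act 5 n1690
theorem D2331 : act 5 n1690 = n2331 := rfl
theorem F3792 : act 1 n2331 = n1691 := d8_1 D2331 (iv D1691) (iv F2762)
theorem F3793 : act 4 n2331 = n1697 := d14_1 D2331 (iv D1697) (iv D1222) (iv F2002) D1690
def n2332 : Q := act 1 n1692
theorem D2332 : act 1 n1692 = n2332 := rfl
theorem F3794 : act 3 n2332 = n2236 := d6_2 (iv F2765) D2332 (iv D2236)
def n2333 : Q := act 4 n1692
theorem D2333 : act 4 n1692 = n2333 := rfl
theorem F3795 : act 0 n2333 = n1696 := d3_1 D2333 (iv D1696) (iv F2764)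
theorem F3796 : act 2 n2333 = n1693 := d10_1 D2333 (iv D1693) D1692
def n2334 : Q := act 5 n1693
theorem D2334 : act 5 n1693 = n2334 := rfl
theorem F3797 : act 0 n2334 = n1697 := d4_1 D2334 (iv D1697) (iv F2766)
theorem F3798 : act 3 n2334 = n1704 := d13_1 D2334 (iv D1704) (iv F2767)
def n2335 : Q := act 0 n1694
theorem D2335 : act 0 n1694 = n2335 := rfl
theorem F3799 : act 2 n2335 = n1698 := d1_2 (iv F2768) D2335 (iv D1698)
def n2336 : Q := act 3 n1694
theorem D2336 : act 3 n1694 = n2336 := rfl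
theorem F3800 : act 1 n2336 = n1695 := d6_1 D2336 (iv D1695) D1694
def n2337 : Q := act 4 n1694
theorem D2337 : act 4 n1694 = n2337 := rfl
theorem F3801 : act 1 n2337 = n1696 := d7_1 D2337 (iv D1696) D1694
theorem F3802 : act 2 n2337 = n1699 := d10_1 D2337 (iv D1699) (iv F2768)
def n2338 : Q := act 4 n1695
theorem D2338 : act 4 n1695 = n2338 := rfl
theorem F3803 : act 0 n2338 = n2237 := d3_1 D2338 (iv D2237) (iv F2769)
theorem F3804 : act 2 n2338 = n2235 := d10_1 D2338 (iv D2235) (iv F2770)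
def n2339 : Q := act 3 n1696
theorem D2339 : act 3 n1696 = n2339 := rfl
def n2340 : Q := act 5 n1696
theorem D2340 : act 5 n1696 = n2340 := rfl
theorem F3805 : act 2 n2340 = n1697 := d11_1 D2340 (iv D1697) (iv F2771)
def n2341 : Q := act 4 n1698
theorem D2341 : act 4 n1698 = n2341 := rfl
theorem F3806 : act 0 n2341 = n1699 := d3_1 D2341 (iv D1699) D1698
def n2342 : Q := act 3 n1699
theorem D2342 : act 3 n1699 = n2342 := rfl
theorem F3807 : act 1 n2342 = n1700 := d6_1 D2342 (iv D1700) (iv F2774)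
def n2343 : Q := act 5 n1699
theorem D2343 : act 5 n1699 = n2343 := rfl
theorem F3808 : act 1 n2343 = n1701 := d8_1 D2343 (iv D1701) (iv F2774)
def n2344 : Q := act 2 n1700
theorem D2344 : act 2 n1700 = n2344 := rfl
theorem F3809 : act 3 n2344 = n1770 := d15_3 (iv F2006) D1700 D2344 F2872 F2087 (iv F1969) (iv F2713) (iv D1651) F1960
theorem F3810 : act 5 n1771 = n2344 := d13_0 F3809 F2873 D1771
def n2345 : Q := act 5 n1700
theorem D2345 : act 5 n1700 = n2345 := rfl
theorem F3811 : act 2 n2345 = n1771 := d11_1 D2345 F3810 (iv D2344)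
theorem F3812 : act 3 n2345 = n1701 := d13_1 D2345 (iv D1701) D1700
def n2346 : Q := act 4 n1702
theorem D2346 : act 4 n1702 = n2346 := rfl
theorem F3813 : act 1 n2346 = n1703 := d7_1 D2346 (iv D1703) D1702
def n2347 : Q := act 3 n1703
theorem D2347 : act 3 n1703 = n2347 := rfl
theorem F3814 : act 0 n2347 = n1709 := d2_1 D2347 (iv D1709) (iv F2777)
theorem F3815 : act 4 n2347 = n2013 := d12_2 D1703 D2347 (iv D2013) (iv D1460) (iv F2009)
def n2348 : Q := act 5 n1703
theorem D2348 : act 5 n1703 = n2348 := rfl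
theorem F3816 : act 0 n2348 = n1710 := d4_1 D2348 (iv D1710) (iv F2777)
theorem F3817 : act 2 n2348 = n1704 := d11_1 D2348 (iv D1704) (iv F2778)
def n2349 : Q := act 4 n1705
theorem D2349 : act 4 n1705 = n2349 := rfl
theorem F3818 : act 0 n2349 = n1707 := d3_1 D2349 (iv D1707) D1705
theorem F3819 : act 2 n2349 = n1711 := d10_1 D2349 (iv D1711) (iv F2780)
def n2350 : Q := act 4 n1706
theorem D2350 : act 4 n1706 = n2350 := rfl
theorem F3820 : act 1 n2350 = n1708 := d7_1 D2350 (iv D1708) (iv F2782)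
def n2351 : Q := act 3 n1707
theorem D2351 : act 3 n1707 = n2351 := rfl
theorem F3821 : act 1 n2351 = n1709 := d6_1 D2351 (iv D1709) (iv F2784)
def n2352 : Q := act 5 n1707
theorem D2352 : act 5 n1707 = n2352 := rfl
theorem F3822 : act 1 n2352 = n1710 := d8_1 D2352 (iv D1710) (iv F2784)
theorem F3823 : act 2 n2352 = n1712 := d11_1 D2352 (iv D1712) (iv F2785)
theorem F3824 : act 4 n2352 = n1763 := d14_1 D2352 (iv D1763) F2076 (iv F2012) D1707
def n2353 : Q := act 3 n1708
theorem D2353 : act 3 n1708 = n2353 := rfl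
theorem F3825 : act 0 n2353 = n2013 := d2_1 D2353 (iv D2013) (iv F2786)
theorem F3826 : act 4 n2353 = n1709 := d12_2 D1708 D2353 (iv D1709) (iv D1230) D1229
def n2354 : Q := act 5 n1708
theorem D2354 : act 5 n1708 = n2354 := rfl
theorem F3827 : act 0 n2354 = n2014 := d4_1 D2354 (iv D2014) (iv F2786)
theorem F3828 : act 2 n2354 = n2010 := d11_1 D2354 (iv D2010) (iv F2787)
def n2355 : Q := act 2 n1709
theorem D2355 : act 2 n1709 = n2355 := rfl
def n2356 : Q := act 5 n1709
theorem D2356 : act 5 n1709 = n2356 := rfl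
theorem F3829 : act 3 n2356 = n1710 := d13_1 D2356 (iv D1710) D1709
def n2357 : Q := act 3 n1713
theorem D2357 : act 3 n1713 = n2357 := rfl
theorem F3830 : act 0 n2357 = n1771 := d2_1 D2357 (iv D1771) (iv F2794)
theorem F3831 : act 4 n2357 = n1771 := d12_2 (iv F2795) D2357 (iv D1771) (iv D1279) (iv F2080)
def n2358 : Q := act 2 n1714
theorem D2358 : act 2 n1714 = n2358 := rfl
theorem F3832 : act 0 n2358 = n1716 := d1_1 D2358 (iv D1716) (iv F2796)
def n2359 : Q := act 4 n1714
theorem D2359 : act 4 n1714 = n2359 := rfl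
theorem F3833 : act 0 n2359 = n1717 := d3_1 D2359 (iv D1717) (iv F2796)
theorem F3834 : act 1 n2359 = n1722 := d7_1 D2359 (iv D1722) (iv F2797)
theorem F3835 : act 3 n2359 = n1982 := d12_1 D2359 (iv D1982) (iv D1436) (iv F2028) D1714
def n2360 : Q := act 4 n1715
theorem D2360 : act 4 n1715 = n2360 := rfl
theorem F3836 : act 0 n2360 = n1718 := d3_1 D2360 (iv D1718) (iv F2798)
theorem F3837 : act 1 n2360 = n1724 := d7_1 D2360 (iv D1724) (iv F2799)
theorem F3838 : act 2 n2360 = n2143 := d10_1 D2360 F3485 (iv F2800)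
theorem F3839 : act 5 n2360 = n1749 := d14_2 D1715 D2360 (iv D1749) F2065 (iv F2028)
def n2361 : Q := act 3 n1716
theorem D2361 : act 3 n1716 = n2361 := rfl
def n2362 : Q := act 4 n1716
theorem D2362 : act 4 n1716 = n2362 := rfl
theorem F3840 : act 2 n2362 = n1717 := d10_1 D2362 (iv D1717) D1716
def n2363 : Q := act 5 n1717
theorem D2363 : act 5 n1717 = n2363 := rfl
theorem F3841 : act 1 n2363 = n1719 := d8_1 D2363 (iv D1719) (iv F2801)
theorem F3842 : act 3 n2363 = n1985 := d13_1 D2363 (iv D1985) (iv F2802)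
def n2364 : Q := act 3 n1718
theorem D2364 : act 3 n1718 = n2364 := rfl
theorem F3843 : act 1 n2364 = n1720 := d6_1 D2364 (iv D1720) (iv F2803)
theorem F3844 : act 5 n2364 = n1915 := d13_2 (iv F2805) D2364 (iv D1915)
def n2365 : Q := act 1 n1721
theorem D2365 : act 1 n1721 = n2365 := rfl
def n2366 : Q := act 4 n1721
theorem D2366 : act 4 n1721 = n2366 := rfl
theorem F3845 : act 0 n2366 = n1727 := d3_1 D2366 (iv D1727) (iv F2811)
theorem F3846 : act 2 n2366 = n1722 := d10_1 D2366 (iv D1722) D1721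
def n2367 : Q := act 5 n1721
theorem D2367 : act 5 n1721 = n2367 := rfl
theorem F3847 : act 0 n2367 = n1728 := d4_1 D2367 (iv D1728) (iv F2811)
theorem F3848 : act 2 n2367 = n1723 := d11_1 D2367 (iv D1723) D1721
theorem F3849 : act 3 n2367 = n1741 := d13_1 D2367 (iv F3204) F3205
def n2368 : Q := act 5 n1722
theorem D2368 : act 5 n1722 = n2368 := rfl
theorem F3850 : act 0 n2368 = n1729 := d4_1 D2368 (iv D1729) (iv F2812)
theorem F3851 : act 3 n2368 = n2010 := d13_1 D2368 (iv D2010) (iv F2813)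
def n2369 : Q := act 4 n1723
theorem D2369 : act 4 n1723 = n2369 := rfl
theorem F3852 : act 0 n2369 = n1730 := d3_1 D2369 (iv D1730) (iv F2814)
def n2370 : Q := act 3 n1724
theorem D2370 : act 3 n1724 = n2370 := rfl
theorem F3853 : act 0 n2370 = n1731 := d2_1 D2370 (iv D1731) (iv F2816)
theorem F3854 : act 5 n2370 = n1751 := d13_2 (iv F2818) D2370 (iv D1751)
def n2371 : Q := act 0 n1725
theorem D2371 : act 0 n1725 = n2371 := rfl
theorem F3855 : act 2 n2371 = n1732 := d1_2 (iv F2819) D2371 (iv D1732)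
def n2372 : Q := act 3 n1725
theorem D2372 : act 3 n1725 = n2372 := rfl
theorem F3856 : act 1 n2372 = n1726 := d6_1 D2372 (iv D1726) D1725
def n2373 : Q := act 4 n1725
theorem D2373 : act 4 n1725 = n2373 := rfl
theorem F3857 : act 1 n2373 = n1727 := d7_1 D2373 (iv D1727) D1725
theorem F3858 : act 2 n2373 = n1733 := d10_1 D2373 (iv D1733) (iv F2819)
def n2374 : Q := act 4 n1726
theorem D2374 : act 4 n1726 = n2374 := rfl
def n2375 : Q := act 5 n1726
theorem D2375 : act 5 n1726 = n2375 := rfl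
theorem F3859 : act 0 n2375 = n1741 := d4_1 D2375 (iv F3204) F3203
theorem F3860 : act 2 n2375 = n1740 := d11_1 D2375 (iv F3201) F3202
theorem F3861 : act 3 n2375 = n1728 := d13_1 D2375 (iv D1728) D1726
def n2376 : Q := act 3 n1727
theorem D2376 : act 3 n1727 = n2376 := rfl
def n2377 : Q := act 5 n1727
theorem D2377 : act 5 n1727 = n2377 := rfl
theorem F3862 : act 2 n2377 = n1729 := d11_1 D2377 (iv D1729) (iv F2820)
def n2378 : Q := act 4 n1728
theorem D2378 : act 4 n1728 = n2378 := rfl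
theorem F3863 : act 2 n2378 = n1730 := d10_1 D2378 (iv D1730) (iv F2821)
def n2379 : Q := act 4 n1729
theorem D2379 : act 4 n1729 = n2379 := rfl
theorem F3864 : act 1 n2379 = n1736 := d7_1 D2379 (iv D1736) (iv F2822)
theorem F3865 : act 5 n2379 = n1730 := d14_2 D1729 D2379 (iv D1730) (iv D1245) D1244
def n2380 : Q := act 3 n1730
theorem D2380 : act 3 n1730 = n2380 := rfl
theorem F3866 : act 1 n2380 = n1737 := d6_1 D2380 (iv D1737) (iv F2824)
theorem F3867 : act 4 n2380 = n1731 := d12_2 D1730 D2380 (iv D1731) (iv D1246) (iv F2043)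
def n2381 : Q := act 2 n1731
theorem D2381 : act 2 n1731 = n2381 := rfl
theorem F3868 : act 5 n2381 = n1755 := d11_2 (iv F2826) D2381 (iv D1755)
def n2382 : Q := act 4 n1732
theorem D2382 : act 4 n1732 = n2382 := rfl
theorem F3869 : act 0 n2382 = n1733 := d3_1 D2382 (iv D1733) D1732
def n2383 : Q := act 3 n1733
theorem D2383 : act 3 n1733 = n2383 := rfl
theorem F3870 : act 1 n2383 = n1734 := d6_1 D2383 (iv D1734) (iv F2827)
def n2384 : Q := act 5 n1733
theorem D2384 : act 5 n1733 = n2384 := rfl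
theorem F3871 : act 1 n2384 = n1735 := d8_1 D2384 (iv D1735) (iv F2827)
def n2385 : Q := act 2 n1734
theorem D2385 : act 2 n1734 = n2385 := rfl
def n2386 : Q := act 5 n1734
theorem D2386 : act 5 n1734 = n2386 := rfl
theorem F3872 : act 3 n2386 = n1735 := d13_1 D2386 (iv D1735) D1734
def n2387 : Q := act 3 n1736
theorem D2387 : act 3 n1736 = n2387 := rfl
theorem F3873 : act 4 n2387 = n1963 := d12_2 D1736 D2387 F3186 F2316 (iv F2048)
theorem F3874 : act 5 n2387 = n1737 := d13_2 (iv F2829) D2387 (iv D1737)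
def n2388 : Q := act 2 n1737
theorem D2388 : act 2 n1737 = n2388 := rfl
theorem F3875 : act 0 n2388 = n1960 := d1_1 D2388 F3761 F3759
theorem F3876 : act 4 n2388 = n1738 := d10_2 (iv F2830) D2388 (iv D1738)
def n2389 : Q := act 1 n1738
theorem D2389 : act 1 n1738 = n2389 := rfl
theorem F3877 : act 3 n2389 = n1914 := d6_2 (iv F2833) D2389 (iv D1914)
theorem F3878 : act 5 n2389 = n1961 := d8_2 (iv F2832) D2389 (iv D1961)
def n2390 : Q := act 3 n1739
theorem D2390 : act 3 n1739 = n2390 := rfl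
theorem F3879 : act 1 n2390 = n1740 := d6_1 D2390 (iv D1740) D1739
def n2391 : Q := act 4 n1740
theorem D2391 : act 4 n1740 = n2391 := rfl
theorem F3880 : act 0 n2391 = n1742 := d3_1 D2391 (iv D1742) (iv F2834)
def n2392 : Q := act 1 n1741
theorem D2392 : act 1 n1741 = n2392 := rfl
def n2393 : Q := act 4 n1741
theorem D2393 : act 4 n1741 = n2393 := rfl
theorem F3881 : act 2 n2393 = n1742 := d10_1 D2393 (iv D1742) D1741
def n2394 : Q := act 5 n1742
theorem D2394 : act 5 n1742 = n2394 := rfl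
def n2395 : Q := act 3 n1743
theorem D2395 : act 3 n1743 = n2395 := rfl
theorem F3882 : act 0 n2395 = n2177 := d2_1 D2395 F3537 (iv F2835)
theorem F3883 : act 1 n2395 = n1744 := d6_1 D2395 (iv D1744) D1743
theorem F3884 : act 5 n2395 = n2229 := d13_2 (iv F2837) D2395 (iv D2229)
def n2396 : Q := act 4 n1743
theorem D2396 : act 4 n1743 = n2396 := rfl
theorem F3885 : act 0 n2396 = n2232 := d3_1 D2396 (iv D2232) (iv F2835)
theorem F3886 : act 1 n2396 = n1745 := d7_1 D2396 (iv D1745) D1743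
theorem F3887 : act 2 n2396 = n2246 := d10_1 D2396 F3650 (iv F2836)
def n2397 : Q := act 4 n1744
theorem D2397 : act 4 n1744 = n2397 := rfl
theorem F3888 : act 0 n2397 = n1747 := d3_1 D2397 (iv D1747) (iv F2838)
def n2398 : Q := act 3 n1745
theorem D2398 : act 3 n1745 = n2398 := rfl
theorem F3889 : act 0 n2398 = n1748 := d2_1 D2398 (iv D1748) (iv F2840)
def n2399 : Q := act 1 n1746
theorem D2399 : act 1 n1746 = n2399 := rfl
theorem F3890 : act 2 n2399 = n2154 := d5_2 D1746 D2399 F3507 F2557 (iv F2059)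
theorem F3891 : act 5 n2399 = n2236 := d8_2 (iv F2842) D2399 (iv D2236)
def n2400 : Q := act 4 n1746
theorem D2400 : act 4 n1746 = n2400 := rfl
theorem F3892 : act 2 n2400 = n1747 := d10_1 D2400 (iv D1747) D1746
def n2401 : Q := act 3 n1747
theorem D2401 : act 3 n1747 = n2401 := rfl
theorem F3893 : act 1 n2401 = n2244 := d6_1 D2401 (iv D2244) (iv F2843)
theorem F3894 : act 4 n2401 = n1748 := d12_2 D1747 D2401 (iv D1748) (iv D1258) D1257
def n2402 : Q := act 5 n1747
theorem D2402 : act 5 n1747 = n2402 := rfl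
theorem F3895 : act 1 n2402 = n2243 := d8_1 D2402 F3648 (iv F2843)
theorem F3896 : act 4 n2402 = n2238 := d14_1 D2402 (iv D2238) (iv D1626) (iv F2060) D1747
def n2403 : Q := act 2 n1748
theorem D2403 : act 2 n1748 = n2403 := rfl
def n2404 : Q := act 3 n1749
theorem D2404 : act 3 n1749 = n2404 := rfl
theorem F3897 : act 0 n2404 = n1915 := d2_1 D2404 (iv D1915) (iv F2845)
theorem F3898 : act 1 n2404 = n1751 := d6_1 D2404 (iv D1751) (iv F2846)
def n2405 : Q := act 3 n1750
theorem D2405 : act 3 n1750 = n2405 := rfl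
theorem F3899 : act 0 n2405 = n1753 := d2_1 D2405 (iv D1753) (iv F2848)
theorem F3900 : act 4 n2405 = n1751 := d12_2 D1750 D2405 (iv D1751) (iv D1261) D1260
def n2406 : Q := act 5 n1750
theorem D2406 : act 5 n1750 = n2406 := rfl
theorem F3901 : act 0 n2406 = n1754 := d4_1 D2406 (iv D1754) (iv F2848)
theorem F3902 : act 4 n2406 = n2010 := d14_1 D2406 (iv D2010) (iv D1458) (iv F2067) D1750
def n2407 : Q := act 2 n1751
theorem D2407 : act 2 n1751 = n2407 := rfl
theorem F3903 : act 0 n2407 = n1755 := d1_1 D2407 (iv D1755) (iv F2849)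
def n2408 : Q := act 3 n1752
theorem D2408 : act 3 n1752 = n2408 := rfl
def n2409 : Q := act 5 n1752
theorem D2409 : act 5 n1752 = n2409 := rfl
theorem F3904 : act 2 n2409 = n1754 := d11_1 D2409 (iv D1754) (iv F2850)
theorem F3905 : act 4 n2409 = n2014 := d14_1 D2409 (iv D2014) (iv D1460) (iv F2070) D1752
def n2410 : Q := act 2 n1753
theorem D2410 : act 2 n1753 = n2410 := rfl
theorem F3906 : act 4 n2410 = n1755 := d10_2 (iv F2852) D2410 (iv D1755)
def n2411 : Q := act 5 n1753
theorem D2411 : act 5 n1753 = n2411 := rfl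
theorem F3907 : act 1 n2411 = n1963 := d8_1 D2411 (iv D1963) (iv F2851)
theorem F3908 : act 3 n2411 = n1754 := d13_1 D2411 (iv D1754) D1753
def n2412 : Q := act 1 n1755
theorem D2412 : act 1 n1755 = n2412 := rfl
theorem F3909 : act 2 n2412 = n1961 := d5_2 D1755 D2412 (iv D1961) (iv D1418) (iv F2072)
def n2413 : Q := act 3 n1755
theorem D2413 : act 3 n1755 = n2413 := rfl
def n2414 : Q := act 4 n1757
theorem D2414 : act 4 n1757 = n2414 := rfl
theorem F3910 : act 0 n2414 = n1765 := d3_1 D2414 (iv D1765) (iv F2856)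
theorem F3911 : act 2 n2414 = n2350 := d10_1 D2414 (iv D2350) (iv F2857)
def n2415 : Q := act 2 n1758
theorem D2415 : act 2 n1758 = n2415 := rfl
theorem F3912 : act 4 n2415 = n1760 := d10_2 (iv F2858) D2415 (iv D1760)
def n2416 : Q := act 5 n1758
theorem D2416 : act 5 n1758 = n2416 := rfl
theorem F3913 : act 3 n2416 = n1759 := d13_1 D2416 (iv D1759) D1758
def n2417 : Q := act 1 n1760
theorem D2417 : act 1 n1760 = n2417 := rfl
def n2418 : Q := act 3 n1760
theorem D2418 : act 3 n1760 = n2418 := rfl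
def n2419 : Q := act 5 n1760
theorem D2419 : act 5 n1760 = n2419 := rfl
theorem F3914 : act 2 n2419 = n1761 := d11_1 D2419 (iv D1761) D1760
def n2420 : Q := act 4 n1761
theorem D2420 : act 4 n1761 = n2420 := rfl
def n2421 : Q := act 2 n1762
theorem D2421 : act 2 n1762 = n2421 := rfl
def n2422 : Q := act 4 n1762
theorem D2422 : act 4 n1762 = n2422 := rfl
theorem F3915 : act 3 n2422 = n1765 := d12_1 D2422 (iv D1765) (iv D1271) (iv F2076) D1762
def n2423 : Q := act 5 n1762
theorem D2423 : act 5 n1762 = n2423 := rfl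
theorem F3916 : act 3 n2423 = n1763 := d13_1 D2423 (iv D1763) D1762
def n2424 : Q := act 4 n1764
theorem D2424 : act 4 n1764 = n2424 := rfl
theorem F3917 : act 0 n2424 = n2350 := d3_1 D2424 (iv D2350) (iv F2862)
theorem F3918 : act 2 n2424 = n1765 := d10_1 D2424 (iv D1765) D1764
def n2425 : Q := act 5 n1765
theorem D2425 : act 5 n1765 = n2425 := rfl
def n2426 : Q := act 3 n1767
theorem D2426 : act 3 n1767 = n2426 := rfl
theorem F3919 : act 0 n2426 = n1768 := d2_1 D2426 (iv D1768) D1767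
def n2427 : Q := act 5 n1767
theorem D2427 : act 5 n1767 = n2427 := rfl
theorem F3920 : act 0 n2427 = n1769 := d4_1 D2427 (iv D1769) D1767
theorem F3921 : act 2 n2427 = n1784 := d11_1 D2427 (iv D1784) (iv F2867)
def n2428 : Q := act 2 n1768
theorem D2428 : act 2 n1768 = n2428 := rfl
def n2429 : Q := act 1 n1772
theorem D2429 : act 1 n1772 = n2429 := rfl
def n2430 : Q := act 3 n1772
theorem D2430 : act 3 n1772 = n2430 := rfl
theorem F3922 : act 0 n2430 = n1775 := d2_1 D2430 (iv D1775) (iv F2874)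
def n2431 : Q := act 5 n1772
theorem D2431 : act 5 n1772 = n2431 := rfl
theorem F3923 : act 0 n2431 = n1776 := d4_1 D2431 (iv D1776) (iv F2874)
theorem F3924 : act 2 n2431 = n1773 := d11_1 D2431 (iv D1773) D1772
def n2432 : Q := act 4 n1773
theorem D2432 : act 4 n1773 = n2432 := rfl
theorem F3925 : act 0 n2432 = n1777 := d3_1 D2432 (iv D1777) (iv F2875)
def n2433 : Q := act 0 n1774
theorem D2433 : act 0 n1774 = n2433 := rfl
theorem F3926 : act 2 n2433 = n1778 := d1_2 (iv F2877) D2433 (iv D1778)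
def n2434 : Q := act 3 n1774
theorem D2434 : act 3 n1774 = n2434 := rfl
theorem F3927 : act 1 n2434 = n1775 := d6_1 D2434 (iv D1775) D1774
def n2435 : Q := act 5 n1774
theorem D2435 : act 5 n1774 = n2435 := rfl
theorem F3928 : act 1 n2435 = n1776 := d8_1 D2435 (iv D1776) D1774
theorem F3929 : act 2 n2435 = n1780 := d11_1 D2435 (iv D1780) (iv F2877)
def n2436 : Q := act 2 n1775
theorem D2436 : act 2 n1775 = n2436 := rfl
def n2437 : Q := act 4 n1775
theorem D2437 : act 4 n1775 = n2437 := rfl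
def n2438 : Q := act 5 n1775
theorem D2438 : act 5 n1775 = n2438 := rfl
theorem F3930 : act 3 n2438 = n1776 := d13_1 D2438 (iv D1776) D1775
def n2439 : Q := act 4 n1776
theorem D2439 : act 4 n1776 = n2439 := rfl
theorem F3931 : act 2 n2439 = n1777 := d10_1 D2439 (iv D1777) (iv F2878)
def n2440 : Q := act 3 n1778
theorem D2440 : act 3 n1778 = n2440 := rfl
theorem F3932 : act 0 n2440 = n1779 := d2_1 D2440 (iv D1779) D1778
def n2441 : Q := act 5 n1778
theorem D2441 : act 5 n1778 = n2441 := rfl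
theorem F3933 : act 0 n2441 = n1780 := d4_1 D2441 (iv D1780) D1778
def n2442 : Q := act 2 n1779
theorem D2442 : act 2 n1779 = n2442 := rfl
def n2443 : Q := act 4 n1779
theorem D2443 : act 4 n1779 = n2443 := rfl
theorem F3934 : act 1 n2443 = n1781 := d7_1 D2443 (iv D1781) (iv F2880)
def n2444 : Q := act 4 n1780
theorem D2444 : act 4 n1780 = n2444 := rfl
theorem F3935 : act 1 n2444 = n1782 := d7_1 D2444 (iv D1782) (iv F2881)
def n2445 : Q := act 2 n1783
theorem D2445 : act 2 n1783 = n2445 := rfl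
theorem F3936 : act 0 n2445 = n1785 := d1_1 D2445 (iv D1785) (iv F2883)
def n2446 : Q := act 5 n1783
theorem D2446 : act 5 n1783 = n2446 := rfl
theorem F3937 : act 0 n2446 = n1786 := d4_1 D2446 (iv D1786) (iv F2883)
theorem F3938 : act 3 n2446 = n1784 := d13_1 D2446 (iv D1784) D1783
def n2447 : Q := act 1 n1785
theorem D2447 : act 1 n1785 = n2447 := rfl
theorem F3939 : act 2 n2447 = n1787 := d5_2 D1785 D2447 (iv D1787) (iv D1291) (iv F2097)
def n2448 : Q := act 3 n1785
theorem D2448 : act 3 n1785 = n2448 := rfl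
def n2449 : Q := act 5 n1785
theorem D2449 : act 5 n1785 = n2449 := rfl
theorem F3940 : act 2 n2449 = n1786 := d11_1 D2449 (iv D1786) D1785
def n2450 : Q := act 4 n1786
theorem D2450 : act 4 n1786 = n2450 := rfl
theorem F3941 : act 1 n2450 = n1788 := d7_1 D2450 (iv D1788) (iv F2885)
def n2451 : Q := act 0 n1787
theorem D2451 : act 0 n1787 = n2451 := rfl
def n2452 : Q := act 4 n1789
theorem D2452 : act 4 n1789 = n2452 := rfl
theorem F3942 : act 0 n2452 = n1791 := d3_1 D2452 (iv D1791) D1789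
theorem F3943 : act 1 n2452 = n1795 := d7_1 D2452 (iv D1795) (iv F2887)
theorem F3944 : act 2 n2452 = n2452 := d10_1 D2452 (iv D2452) F2888
def n2453 : Q := act 4 n1790
theorem D2453 : act 4 n1790 = n2453 := rfl
theorem F3945 : act 0 n2453 = n1860 := d3_1 D2453 (iv D1860) (iv F2891)
theorem F3946 : act 1 n2453 = n1792 := d7_1 D2453 (iv D1792) (iv F2892)
theorem F3947 : act 2 n2453 = n1860 := d10_1 D2453 (iv D1860) F2894
def n2454 : Q := act 3 n1791
theorem D2454 : act 3 n1791 = n2454 := rfl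
theorem F3948 : act 1 n2454 = n1793 := d6_1 D2454 (iv D1793) (iv F2895)
def n2455 : Q := act 5 n1791
theorem D2455 : act 5 n1791 = n2455 := rfl
theorem F3949 : act 1 n2455 = n1794 := d8_1 D2455 (iv D1794) (iv F2895)
theorem F3950 : act 2 n2455 = n2455 := d11_1 D2455 (iv D2455) F2896
def n2456 : Q := act 3 n1792
theorem D2456 : act 3 n1792 = n2456 := rfl
theorem F3951 : act 0 n2456 = n1804 := d2_1 D2456 (iv D1804) (iv F2897)
theorem F3952 : act 4 n2456 = n1793 := d12_2 D1792 D2456 (iv D1793) (iv D1295) D1294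
def n2457 : Q := act 5 n1792
theorem D2457 : act 5 n1792 = n2457 := rfl
theorem F3953 : act 0 n2457 = n1805 := d4_1 D2457 (iv D1805) (iv F2897)
theorem F3954 : act 2 n2457 = n1857 := d11_1 D2457 (iv D1857) (iv F2898)
theorem F3955 : act 4 n2457 = n1862 := d14_1 D2457 (iv D1862) (iv D1348) F2103 D1792
def n2458 : Q := act 2 n1793
theorem D2458 : act 2 n1793 = n2458 := rfl
theorem F3956 : act 0 n2458 = n1806 := d1_1 D2458 (iv D1806) (iv F2899)
theorem F3957 : act 3 n2458 = n1832 := d15_1 D2458 F2981 F2167 F1577 (iv F1541) (iv F2126) (iv F2927) (iv D1807) (iv F2899)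
theorem F3958 : act 5 n1831 = n2458 := d13_0 F3957 (iv D1832) D1831
def n2459 : Q := act 5 n1793
theorem D2459 : act 5 n1793 = n2459 := rfl
theorem F3959 : act 0 n2459 = n1807 := d4_1 D2459 (iv D1807) (iv F2899)
theorem F3960 : act 2 n2459 = n1831 := d11_1 D2459 F3958 (iv D2458)
theorem F3961 : act 3 n2459 = n1794 := d13_1 D2459 (iv D1794) D1793
def n2460 : Q := act 4 n1794
theorem D2460 : act 4 n1794 = n2460 := rfl
theorem F3962 : act 0 n2460 = n1801 := d3_1 D2460 F2919 (iv F2900)
theorem F3963 : act 2 n2460 = n1796 := d10_1 D2460 (iv D1796) (iv F2901)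
theorem F3964 : act 5 n2460 = n1795 := d14_2 D1794 D2460 (iv D1795) (iv D1296) D1295
def n2461 : Q := act 3 n1795
theorem D2461 : act 3 n1795 = n2461 := rfl
theorem F3965 : act 0 n2461 = n1800 := d2_1 D2461 (iv D1800) (iv F2902)
theorem F3966 : act 4 n2461 = n1861 := d12_2 D1795 D2461 (iv D1861) (iv D1348) (iv F2108)
def n2462 : Q := act 3 n1796
theorem D2462 : act 3 n1796 = n2462 := rfl
theorem F3967 : act 0 n2462 = n1808 := d2_1 D2462 (iv D1808) (iv F2904)
theorem F3968 : act 1 n2462 = n2462 := d6_1 D2462 (iv D2462) F2905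
theorem F3969 : act 4 n2462 = n1820 := d12_2 D1796 D2462 (iv D1820) (iv D1316) (iv F2111)
theorem F3970 : act 5 n2462 = n1797 := d13_2 (iv F2906) D2462 (iv D1797)
def n2463 : Q := act 2 n1797
theorem D2463 : act 2 n1797 = n2463 := rfl
theorem F3971 : act 0 n2463 = n1809 := d1_1 D2463 (iv D1809) (iv F2907)
theorem F3972 : act 4 n2463 = n1798 := d10_2 (iv F2909) D2463 (iv D1798)
def n2464 : Q := act 1 n1798
theorem D2464 : act 1 n1798 = n2464 := rfl
theorem F3973 : act 2 n2464 = n2464 := d5_2 D1798 D2464 (iv D2464) (iv D1798) F2115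
theorem F3974 : act 3 n2464 = n1894 := d6_2 (iv F2912) D2464 (iv D1894)
theorem F3975 : act 5 n2464 = n1822 := d8_2 (iv F2911) D2464 (iv D1822)
def n2465 : Q := act 3 n1799
theorem D2465 : act 3 n1799 = n2465 := rfl
theorem F3976 : act 0 n2465 = n1861 := d2_1 D2465 (iv D1861) (iv F2913)
theorem F3977 : act 1 n2465 = n1804 := d6_1 D2465 (iv D1804) (iv F2914)
theorem F3978 : act 4 n2465 = n1800 := d12_2 D1799 D2465 (iv D1800) (iv D1301) D1300
def n2466 : Q := act 5 n1799
theorem D2466 : act 5 n1799 = n2466 := rfl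
theorem F3979 : act 0 n2466 = n1862 := d4_1 D2466 (iv D1862) (iv F2913)
theorem F3980 : act 1 n2466 = n1805 := d8_1 D2466 (iv D1805) (iv F2914)
theorem F3981 : act 2 n2466 = n1849 := d11_1 D2466 (iv D1849) (iv F2915)
theorem F3982 : act 4 n2466 = n1805 := d14_1 D2466 (iv D1805) (iv D1303) (iv F2120) D1799
def n2467 : Q := act 2 n1800
theorem D2467 : act 2 n1800 = n2467 := rfl
def n2468 : Q := act 5 n1800
theorem D2468 : act 5 n1800 = n2468 := rfl
theorem F3983 : act 1 n2468 = n1807 := d8_1 D2468 (iv D1807) (iv F2916)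
theorem F3984 : act 3 n2468 = n1801 := d13_1 D2468 (iv D1801) D1800
def n2469 : Q := act 4 n1802
theorem D2469 : act 4 n1802 = n2469 := rfl
theorem F3985 : act 0 n2469 = n1845 := d3_1 D2469 (iv D1845) (iv F2920)
theorem F3986 : act 1 n2469 = n1803 := d7_1 D2469 (iv D1803) D1802
theorem F3987 : act 2 n2469 = n1845 := d10_1 D2469 (iv D1845) (iv F2921)
def n2470 : Q := act 3 n1803
theorem D2470 : act 3 n1803 = n2470 := rfl
theorem F3988 : act 0 n2470 = n1856 := d2_1 D2470 (iv D1856) (iv F2924)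
theorem F3989 : act 4 n2470 = n1853 := d12_2 D1803 D2470 (iv D1853) (iv D1340) (iv F2124)
def n2471 : Q := act 5 n1803
theorem D2471 : act 5 n1803 = n2471 := rfl
theorem F3990 : act 0 n2471 = n1857 := d4_1 D2471 (iv D1857) (iv F2924)
theorem F3991 : act 2 n2471 = n1805 := d11_1 D2471 (iv D1805) (iv F2925)
theorem F3992 : act 4 n2471 = n1849 := d14_1 D2471 (iv D1849) (iv D1337) (iv F2125) D1803
def n2472 : Q := act 2 n1804
theorem D2472 : act 2 n1804 = n2472 := rfl
theorem F3993 : act 4 n2472 = n1806 := d10_2 (iv F2926) D2472 (iv D1806)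
def n2473 : Q := act 5 n1804
theorem D2473 : act 5 n1804 = n2473 := rfl
theorem F3994 : act 3 n2473 = n1805 := d13_1 D2473 (iv D1805) D1804
def n2474 : Q := act 1 n1806
theorem D2474 : act 1 n1806 = n2474 := rfl
def n2475 : Q := act 3 n1806
theorem D2475 : act 3 n1806 = n2475 := rfl
theorem F3995 : act 0 n2475 = n1832 := d2_1 D2475 (iv F3957) F3956
theorem F3996 : act 2 n2475 = n1817 := d9_1 D2475 F2951 F2145 (iv F2111) (iv F2901) (iv F3961) F3960 (iv D1831) (iv D1324) (iv D950) F1119 (iv F1093) (iv F1539) D1304 D1806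
theorem F3997 : act 5 n2475 = n1816 := d15_8 (iv D1324) (iv D950) F1119 (iv F1093) (iv F1539) D1304 D1806 D2475 F2948
def n2476 : Q := act 5 n1806
theorem D2476 : act 5 n1806 = n2476 := rfl
theorem F3998 : act 0 n2476 = n1831 := d4_1 D2476 F3958 F3956
theorem F3999 : act 2 n2476 = n1807 := d11_1 D2476 (iv D1807) D1806
theorem F4000 : act 3 n2476 = n1816 := d13_1 D2476 (iv F3997) (iv D2475)
def n2477 : Q := act 4 n1807
theorem D2477 : act 4 n1807 = n2477 := rfl
def n2478 : Q := act 2 n1808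
theorem D2478 : act 2 n1808 = n2478 := rfl
theorem F4001 : act 4 n2478 = n1834 := d10_2 (iv F2929) D2478 (iv D1834)
theorem F4002 : act 5 n2478 = n1809 := d11_2 (iv F2930) D2478 (iv D1809)
def n2479 : Q := act 1 n1809
theorem D2479 : act 1 n1809 = n2479 := rfl
theorem F4003 : act 2 n2479 = n1812 := d5_2 D1809 D2479 (iv D1812) (iv D1309) (iv F2129)
theorem F4004 : act 4 n2479 = n1810 := d7_2 (iv F2931) D2479 (iv D1810)
def n2480 : Q := act 3 n1809
theorem D2480 : act 3 n1809 = n2480 := rfl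
def n2481 : Q := act 0 n1810
theorem D2481 : act 0 n1810 = n2481 := rfl
theorem F4005 : act 2 n2481 = n1813 := d1_2 (iv F2932) D2481 (iv D1813)
theorem F4006 : act 5 n2481 = n1837 := d4_2 (iv F2933) D2481 (iv D1837)
def n2482 : Q := act 3 n1810
theorem D2482 : act 3 n1810 = n2482 := rfl
theorem F4007 : act 1 n2482 = n1811 := d6_1 D2482 (iv D1811) D1810
theorem F4008 : act 5 n2482 = n1838 := d13_2 (iv F2933) D2482 (iv D1838)
def n2483 : Q := act 4 n1811
theorem D2483 : act 4 n1811 = n2483 := rfl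
theorem F4009 : act 0 n2483 = n1895 := d3_1 D2483 (iv D1895) (iv F2934)
theorem F4010 : act 2 n2483 = n1879 := d10_1 D2483 (iv D1879) (iv F2936)
def n2484 : Q := act 0 n1812
theorem D2484 : act 0 n1812 = n2484 := rfl
theorem F4011 : act 1 n2484 = n2484 := d0_2 D1812 D2484 (iv D2484) (iv D1812) F2132
theorem F4012 : act 4 n2484 = n1813 := d3_2 (iv F2937) D2484 (iv D1813)
def n2485 : Q := act 2 n1814
theorem D2485 : act 2 n1814 = n2485 := rfl
theorem F4013 : act 0 n2485 = n2415 := d1_1 D2485 (iv D2415) (iv F2941)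
theorem F4014 : act 4 n2485 = n2158 := d10_2 (iv F2943) D2485 (iv D2158)
def n2486 : Q := act 5 n1814
theorem D2486 : act 5 n1814 = n2486 := rfl
theorem F4015 : act 0 n2486 = n2416 := d4_1 D2486 (iv D2416) (iv F2941)
theorem F4016 : act 1 n2486 = n1817 := d8_1 D2486 (iv D1817) (iv F2942)
theorem F4017 : act 3 n2486 = n1815 := d13_1 D2486 (iv D1815) D1814
def n2487 : Q := act 1 n1816
theorem D2487 : act 1 n1816 = n2487 := rfl
theorem F4018 : act 4 n2487 = n2160 := d7_2 (iv F2949) D2487 (iv D2160)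
def n2488 : Q := act 4 n1817
theorem D2488 : act 4 n1817 = n2488 := rfl
theorem F4019 : act 0 n2488 = n1833 := d3_1 D2488 (iv D1833) (iv F2950)
theorem F4020 : act 5 n2488 = n2163 := d14_2 D1817 D2488 (iv D2163) (iv D1566) (iv F2143)
def n2489 : Q := act 3 n1818
theorem D2489 : act 3 n1818 = n2489 := rfl
theorem F4021 : act 0 n2489 = n1827 := d2_1 D2489 F2976 (iv F2952)
theorem F4022 : act 1 n2489 = n2416 := d6_1 D2489 F3913 (iv F2953)
theorem F4023 : act 5 n2489 = n1819 := d13_2 (iv F2955) D2489 (iv D1819)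
def n2490 : Q := act 2 n1819
theorem D2490 : act 2 n1819 = n2490 := rfl
theorem F4024 : act 0 n2490 = n1826 := d1_1 D2490 (iv D1826) (iv F2956)
theorem F4025 : act 4 n2490 = n1880 := d10_2 (iv F2958) D2490 (iv D1880)
def n2491 : Q := act 2 n1820
theorem D2491 : act 2 n1820 = n2491 := rfl
theorem F4026 : act 0 n2491 = n1834 := d1_1 D2491 (iv D1834) (iv F2959)
theorem F4027 : act 5 n2491 = n1821 := d11_2 (iv F2961) D2491 (iv D1821)
def n2492 : Q := act 1 n1821
theorem D2492 : act 1 n1821 = n2492 := rfl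
theorem F4028 : act 2 n2492 = n2492 := d5_2 D1821 D2492 (iv D2492) (iv D1821) F2153
theorem F4029 : act 4 n2492 = n1822 := d7_2 (iv F2963) D2492 (iv D1822)
def n2493 : Q := act 3 n1821
theorem D2493 : act 3 n1821 = n2493 := rfl
theorem F4030 : act 0 n2493 = n1836 := d2_1 D2493 (iv D1836) (iv F2962)
def n2494 : Q := act 0 n1822
theorem D2494 : act 0 n1822 = n2494 := rfl
theorem F4031 : act 1 n2494 = n1837 := d0_2 D1822 D2494 (iv D1837) (iv D1328) (iv F2155)
theorem F4032 : act 2 n2494 = n2494 := d1_2 F2964 D2494 (iv D2494)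
def n2495 : Q := act 3 n1822
theorem D2495 : act 3 n1822 = n2495 := rfl
theorem F4033 : act 1 n2495 = n1823 := d6_1 D2495 (iv D1823) D1822
theorem F4034 : act 5 n2495 = n1894 := d13_2 F3975 D2495 (iv F3974)
def n2496 : Q := act 4 n1823
theorem D2496 : act 4 n1823 = n2496 := rfl
theorem F4035 : act 0 n2496 = n1840 := d3_1 D2496 (iv D1840) (iv F2965)
theorem F4036 : act 2 n2496 = n1870 := d10_1 D2496 (iv D1870) (iv F2966)
def n2497 : Q := act 2 n1824
theorem D2497 : act 2 n1824 = n2497 := rfl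
theorem F4037 : act 0 n2497 = n1880 := d1_1 D2497 (iv D1880) (iv F2968)
theorem F4038 : act 4 n2497 = n1826 := d10_2 (iv F2970) D2497 (iv D1826)
def n2498 : Q := act 5 n1824
theorem D2498 : act 5 n1824 = n2498 := rfl
theorem F4039 : act 0 n2498 = n1881 := d4_1 D2498 (iv D1881) (iv F2968)
theorem F4040 : act 1 n2498 = n1829 := d8_1 D2498 (iv D1829) (iv F2969)
theorem F4041 : act 3 n2498 = n1825 := d13_1 D2498 (iv D1825) D1824
def n2499 : Q := act 1 n1826
theorem D2499 : act 1 n1826 = n2499 := rfl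
theorem F4042 : act 2 n2499 = n1830 := d5_2 D1826 D2499 (iv D1830) (iv D1324) (iv F2159)
def n2500 : Q := act 3 n1826
theorem D2500 : act 3 n1826 = n2500 := rfl
def n2501 : Q := act 5 n1826
theorem D2501 : act 5 n1826 = n2501 := rfl
theorem F4043 : act 2 n2501 = n1827 := d11_1 D2501 (iv D1827) D1826
def n2502 : Q := act 4 n1827
theorem D2502 : act 4 n1827 = n2502 := rfl
theorem F4044 : act 1 n2502 = n1833 := d7_1 D2502 (iv D1833) (iv F2975)
theorem F4045 : act 3 n2502 = n1833 := d12_1 D2502 (iv D1833) F2167 (iv F2162) (iv F2976)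
def n2503 : Q := act 1 n1828
theorem D2503 : act 1 n1828 = n2503 := rfl
theorem F4046 : act 4 n2503 = n1830 := d7_2 (iv F2978) D2503 (iv D1830)
def n2504 : Q := act 3 n1828
theorem D2504 : act 3 n1828 = n2504 := rfl
theorem F4047 : act 0 n2504 = n2161 := d2_1 D2504 (iv D2161) (iv F2977)
theorem F4048 : act 2 n2504 = n2169 := d15_2 D1828 D2504 F3526 F2572 F1866 (iv F1863) (iv F2569) (iv D1566) (iv F2163)
theorem F4049 : act 5 n2167 = n2504 := d11_0 F4048 (iv D2169) D2167
def n2505 : Q := act 5 n1828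
theorem D2505 : act 5 n1828 = n2505 := rfl
theorem F4050 : act 0 n2505 = n2162 := d4_1 D2505 (iv D2162) (iv F2977)
theorem F4051 : act 2 n2505 = n1829 := d11_1 D2505 (iv D1829) D1828
theorem F4052 : act 3 n2505 = n2167 := d13_1 D2505 F4049 (iv D2504)
def n2506 : Q := act 4 n1829
theorem D2506 : act 4 n1829 = n2506 := rfl
theorem F4053 : act 0 n2506 = n2163 := d3_1 D2506 (iv D2163) (iv F2979)
theorem F4054 : act 5 n2506 = n1833 := d14_2 D1829 D2506 (iv D1833) (iv D1325) (iv F2164)
def n2507 : Q := act 0 n1830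
theorem D2507 : act 0 n1830 = n2507 := rfl
def n2508 : Q := act 3 n1830
theorem D2508 : act 3 n1830 = n2508 := rfl
theorem F4055 : act 1 n2508 = n1831 := d6_1 D2508 (iv D1831) D1830
def n2509 : Q := act 5 n1830
theorem D2509 : act 5 n1830 = n2509 := rfl
theorem F4056 : act 1 n2509 = n1832 := d8_1 D2509 (iv D1832) D1830
def n2510 : Q := act 4 n1831
theorem D2510 : act 4 n1831 = n2510 := rfl
def n2511 : Q := act 4 n1832
theorem D2511 : act 4 n1832 = n2511 := rfl
theorem F4057 : act 2 n2511 = n1833 := d10_1 D2511 (iv D1833) (iv F2981)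
def n2512 : Q := act 1 n1834
theorem D2512 : act 1 n1834 = n2512 := rfl
theorem F4058 : act 2 n2512 = n1843 := d5_2 D1834 D2512 F2994 F2177 (iv F2168)
theorem F4059 : act 5 n2512 = n1835 := d8_2 (iv F2982) D2512 (iv D1835)
def n2513 : Q := act 3 n1834
theorem D2513 : act 3 n1834 = n2513 := rfl
theorem F4060 : act 5 n2513 = n1836 := d13_2 (iv F2982) D2513 (iv D1836)
def n2514 : Q := act 0 n1835
theorem D2514 : act 0 n1835 = n2514 := rfl
theorem F4061 : act 2 n2514 = n1841 := d1_2 (iv F2983) D2514 (iv D1841)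
theorem F4062 : act 4 n2514 = n1837 := d3_2 (iv F2984) D2514 (iv D1837)
def n2515 : Q := act 3 n1835
theorem D2515 : act 3 n1835 = n2515 := rfl
theorem F4063 : act 1 n2515 = n1836 := d6_1 D2515 (iv D1836) D1835
def n2516 : Q := act 2 n1836
theorem D2516 : act 2 n1836 = n2516 := rfl
def n2517 : Q := act 4 n1836
theorem D2517 : act 4 n1836 = n2517 := rfl
theorem F4064 : act 3 n2517 = n1840 := d12_1 D2517 (iv D1840) (iv D1329) (iv F2170) D1836
def n2518 : Q := act 3 n1837
theorem D2518 : act 3 n1837 = n2518 := rfl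
theorem F4065 : act 0 n2518 = n1838 := d2_1 D2518 (iv D1838) D1837
def n2519 : Q := act 2 n1838
theorem D2519 : act 2 n1838 = n2519 := rfl
def n2520 : Q := act 4 n1838
theorem D2520 : act 4 n1838 = n2520 := rfl
theorem F4066 : act 1 n2520 = n1840 := d7_1 D2520 (iv D1840) (iv F2986)
def n2521 : Q := act 1 n1839
theorem D2521 : act 1 n1839 = n2521 := rfl
theorem F4067 : act 3 n2521 = n1855 := d6_2 (iv F2988) D2521 (iv D1855)
theorem F4068 : act 5 n2521 = n1878 := d8_2 (iv F2989) D2521 F3054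
def n2522 : Q := act 4 n1839
theorem D2522 : act 4 n1839 = n2522 := rfl
theorem F4069 : act 0 n2522 = n1870 := d3_1 D2522 (iv D1870) (iv F2987)
theorem F4070 : act 2 n2522 = n1840 := d10_1 D2522 (iv D1840) D1839
def n2523 : Q := act 5 n1840
theorem D2523 : act 5 n1840 = n2523 := rfl
def n2524 : Q := act 3 n1841
theorem D2524 : act 3 n1841 = n2524 := rfl
theorem F4071 : act 0 n2524 = n1842 := d2_1 D2524 (iv D1842) D1841
theorem F4072 : act 1 n2524 = n2524 := d6_1 D2524 (iv D2524) F2990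
theorem F4073 : act 5 n2484 = n2524 := d4_0 F4071 (iv F2993) D2484
def n2525 : Q := act 5 n1841
theorem D2525 : act 5 n1841 = n2525 := rfl
theorem F4074 : act 0 n2525 = n1843 := d4_1 D2525 (iv D1843) D1841
theorem F4075 : act 1 n2525 = n2525 := d8_1 D2525 (iv D2525) F2990
theorem F4076 : act 3 n2525 = n2484 := d13_1 D2525 F4073 (iv D2524)
theorem F4077 : act 4 n2525 = n2524 := d14_1 D2525 (iv F4073) F4012 F2940 (iv F2991)
def n2526 : Q := act 2 n1842
theorem D2526 : act 2 n1842 = n2526 := rfl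
theorem F4078 : act 1 n2526 = n2478 := d5_1 D2526 (iv D2478) F2928 (iv F2174) (iv F2992)
theorem F4079 : act 4 n2526 = n2512 := d10_2 F2996 D2526 F4058
theorem F4080 : act 5 n2526 = n2479 := d11_2 F2993 D2526 F4003
def n2527 : Q := act 3 n1844
theorem D2527 : act 3 n1844 = n2527 := rfl
theorem F4081 : act 0 n2527 = n1846 := d2_1 D2527 (iv D1846) (iv F2997)
theorem F4082 : act 1 n2527 = n1853 := d6_1 D2527 (iv D1853) (iv F2998)
def n2528 : Q := act 5 n1844
theorem D2528 : act 5 n1844 = n2528 := rfl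
theorem F4083 : act 0 n2528 = n1847 := d4_1 D2528 (iv D1847) (iv F2997)
theorem F4084 : act 1 n2528 = n1852 := d8_1 D2528 F3015 (iv F2998)
theorem F4085 : act 2 n2528 = n2021 := d11_1 D2528 (iv D2021) (iv F2999)
theorem F4086 : act 4 n2528 = n1847 := d14_1 D2528 (iv D1847) (iv D1336) F2183 D1844
def n2529 : Q := act 3 n1845
theorem D2529 : act 3 n1845 = n2529 := rfl
theorem F4087 : act 1 n2529 = n1848 := d6_1 D2529 (iv D1848) (iv F3000)
theorem F4088 : act 4 n2529 = n1846 := d12_2 D1845 D2529 (iv D1846) (iv D1336) D1335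
def n2530 : Q := act 5 n1845
theorem D2530 : act 5 n1845 = n2530 := rfl
theorem F4089 : act 1 n2530 = n1849 := d8_1 D2530 (iv D1849) (iv F3000)
def n2531 : Q := act 2 n1846
theorem D2531 : act 2 n1846 = n2531 := rfl
def n2532 : Q := act 5 n1846
theorem D2532 : act 5 n1846 = n2532 := rfl
theorem F4090 : act 1 n2532 = n1851 := d8_1 D2532 (iv D1851) (iv F3001)
theorem F4091 : act 3 n2532 = n1847 := d13_1 D2532 (iv D1847) D1846
def n2533 : Q := act 2 n1848
theorem D2533 : act 2 n1848 = n2533 := rfl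
theorem F4092 : act 0 n2533 = n1863 := d1_1 D2533 (iv D1863) (iv F3004)
theorem F4093 : act 4 n2533 = n1850 := d10_2 (iv F3005) D2533 (iv D1850)
def n2534 : Q := act 5 n1848
theorem D2534 : act 5 n1848 = n2534 := rfl
theorem F4094 : act 0 n2534 = n1864 := d4_1 D2534 (iv D1864) (iv F3004)
theorem F4095 : act 3 n2534 = n1849 := d13_1 D2534 (iv D1849) D1848
def n2535 : Q := act 1 n1850
theorem D2535 : act 1 n1850 = n2535 := rfl
theorem F4096 : act 3 n2535 = n1888 := d6_2 (iv F3008) D2535 F3067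
theorem F4097 : act 5 n2535 = n1887 := d8_2 F3009 D2535 F3066
def n2536 : Q := act 4 n1851
theorem D2536 : act 4 n1851 = n2536 := rfl
theorem F4098 : act 0 n2536 = n1868 := d3_1 D2536 (iv D1868) (iv F3010)
theorem F4099 : act 2 n2536 = n1889 := d10_1 D2536 (iv D1889) (iv F3011)
def n2537 : Q := act 3 n1852
theorem D2537 : act 3 n1852 = n2537 := rfl
theorem F4100 : act 0 n2537 = n1859 := d2_1 D2537 F3027 (iv F3013)
theorem F4101 : act 5 n2537 = n1853 := d13_2 (iv F3015) D2537 (iv D1853)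
def n2538 : Q := act 2 n1853
theorem D2538 : act 2 n1853 = n2538 := rfl
theorem F4102 : act 0 n2538 = n1858 := d1_1 D2538 (iv D1858) (iv F3016)
theorem F4103 : act 3 n2538 = n2245 := d15_1 D2538 (iv D2245) (iv D1631) F1924 (iv F1606) (iv F2206) (iv F3027) (iv D1859) (iv F3016)
def n2539 : Q := act 1 n1854
theorem D2539 : act 1 n1854 = n2539 := rfl
theorem F4104 : act 2 n2539 = n2032 := d5_2 D1854 D2539 (iv D2032) (iv D1476) (iv F2198)
theorem F4105 : act 4 n2539 = n1855 := d7_2 (iv F3018) D2539 (iv D1855)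
theorem F4106 : act 5 n2539 = n2232 := d8_2 (iv F3019) D2539 F3639
def n2540 : Q := act 3 n1854
theorem D2540 : act 3 n1854 = n2540 := rfl
theorem F4107 : act 0 n2540 = n1869 := d2_1 D2540 (iv D1869) (iv F3017)
theorem F4108 : act 5 n2540 = n2234 := d13_2 (iv F3019) D2540 (iv D2234)
def n2541 : Q := act 2 n1856
theorem D2541 : act 2 n1856 = n2541 := rfl
theorem F4109 : act 4 n2541 = n1858 := d10_2 (iv F3023) D2541 (iv D1858)
def n2542 : Q := act 5 n1856
theorem D2542 : act 5 n1856 = n2542 := rfl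
theorem F4110 : act 1 n2542 = n1864 := d8_1 D2542 (iv D1864) (iv F3022)
theorem F4111 : act 3 n2542 = n1857 := d13_1 D2542 (iv D1857) D1856
def n2543 : Q := act 1 n1858
theorem D2543 : act 1 n1858 = n2543 := rfl
theorem F4112 : act 2 n2543 = n1865 := d5_2 D1858 D2543 (iv D1865) (iv D1351) (iv F2204)
def n2544 : Q := act 3 n1858
theorem D2544 : act 3 n1858 = n2544 := rfl
theorem F4113 : act 0 n2544 = n2245 := d2_1 D2544 (iv F4103) F4102
theorem F4114 : act 2 n2544 = n2234 := d15_2 D1858 D2544 (iv D2234) F2672 (iv F2195) (iv F3014) D2537 F4101 F3016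
def n2545 : Q := act 5 n1858
theorem D2545 : act 5 n1858 = n2545 := rfl
theorem F4115 : act 2 n2545 = n1859 := d11_1 D2545 (iv D1859) D1858
def n2546 : Q := act 4 n1859
theorem D2546 : act 4 n1859 = n2546 := rfl
theorem F4116 : act 1 n2546 = n1868 := d7_1 D2546 (iv D1868) (iv F3026)
theorem F4117 : act 3 n2546 = n1868 := d12_1 D2546 (iv D1868) F2210 (iv F2207) (iv F3027)
def n2547 : Q := act 3 n1860
theorem D2547 : act 3 n1860 = n2547 := rfl
theorem F4118 : act 1 n2547 = n1861 := d6_1 D2547 (iv D1861) (iv F3028)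
def n2548 : Q := act 5 n1860
theorem D2548 : act 5 n1860 = n2548 := rfl
theorem F4119 : act 1 n2548 = n1862 := d8_1 D2548 (iv D1862) (iv F3028)
def n2549 : Q := act 2 n1861
theorem D2549 : act 2 n1861 = n2549 := rfl
def n2550 : Q := act 5 n1861
theorem D2550 : act 5 n1861 = n2550 := rfl
theorem F4120 : act 3 n2550 = n1862 := d13_1 D2550 (iv D1862) D1861
def n2551 : Q := act 1 n1863
theorem D2551 : act 1 n1863 = n2551 := rfl
theorem F4121 : act 4 n2551 = n1865 := d7_2 (iv F3030) D2551 (iv D1865)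
def n2552 : Q := act 3 n1863
theorem D2552 : act 3 n1863 = n2552 := rfl
def n2553 : Q := act 5 n1863
theorem D2553 : act 5 n1863 = n2553 := rfl
theorem F4122 : act 2 n2553 = n1864 := d11_1 D2553 (iv D1864) D1863
def n2554 : Q := act 4 n1864
theorem D2554 : act 4 n1864 = n2554 := rfl
theorem F4123 : act 5 n2554 = n1868 := d14_2 D1864 D2554 (iv D1868) (iv D1352) (iv F2209)
def n2555 : Q := act 0 n1865
theorem D2555 : act 0 n1865 = n2555 := rfl
def n2556 : Q := act 3 n1865
theorem D2556 : act 3 n1865 = n2556 := rfl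
theorem F4124 : act 1 n2556 = n1866 := d6_1 D2556 (iv D1866) D1865
theorem F4125 : act 5 n1875 = n2556 := d8_0 F4124 F3034 D1875
def n2557 : Q := act 5 n1865
theorem D2557 : act 5 n1865 = n2557 := rfl
theorem F4126 : act 1 n2557 = n1867 := d8_1 D2557 (iv D1867) D1865
theorem F4127 : act 3 n2557 = n1875 := d13_1 D2557 F4125 (iv D2556)
def n2558 : Q := act 4 n1866
theorem D2558 : act 4 n1866 = n2558 := rfl
theorem F4128 : act 0 n2558 = n1890 := d3_1 D2558 (iv D1890) (iv F3032)
theorem F4129 : act 2 n2558 = n1876 := d10_1 D2558 (iv D1876) (iv F3033)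
def n2559 : Q := act 4 n1867
theorem D2559 : act 4 n1867 = n2559 := rfl
theorem F4130 : act 0 n2559 = n1889 := d3_1 D2559 (iv D1889) (iv F3035)
theorem F4131 : act 2 n2559 = n1868 := d10_1 D2559 (iv D1868) (iv F3036)
def n2560 : Q := act 2 n1869
theorem D2560 : act 2 n1869 = n2560 := rfl
theorem F4132 : act 5 n2560 = n2245 := d11_2 (iv F3038) D2560 (iv D2245)
def n2561 : Q := act 4 n1869
theorem D2561 : act 4 n1869 = n2561 := rfl
theorem F4133 : act 3 n2561 = n1870 := d12_1 D2561 (iv D1870) (iv D1354) (iv F2211) D1869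
def n2562 : Q := act 5 n1870
theorem D2562 : act 5 n1870 = n2562 := rfl
theorem F4134 : act 4 n2562 = n1896 := d14_1 D2562 (iv D1896) (iv D1374) (iv F2213) D1870
def n2563 : Q := act 1 n1871
theorem D2563 : act 1 n1871 = n2563 := rfl
theorem F4135 : act 2 n2563 = n1875 := d5_2 D1871 D2563 (iv D1875) (iv D1359) (iv F2215)
theorem F4136 : act 4 n2563 = n2429 := d7_2 (iv F3040) D2563 (iv D2429)
def n2564 : Q := act 3 n1871
theorem D2564 : act 3 n1871 = n2564 := rfl
theorem F4137 : act 0 n2564 = n2132 := d2_1 D2564 (iv D2132) (iv F3039)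
def n2565 : Q := act 5 n1871
theorem D2565 : act 5 n1871 = n2565 := rfl
theorem F4138 : act 0 n2565 = n2130 := d4_1 D2565 F3453 (iv F3039)
theorem F4139 : act 2 n2565 = n1872 := d11_1 D2565 (iv D1872) D1871
def n2566 : Q := act 4 n1872
theorem D2566 : act 4 n1872 = n2566 := rfl
theorem F4140 : act 0 n2566 = n2129 := d3_1 D2566 F3451 (iv F3041)
theorem F4141 : act 1 n2566 = n1876 := d7_1 D2566 (iv D1876) (iv F3042)
theorem F4142 : act 3 n2566 = n2118 := d12_1 D2566 (iv D2118) F2504 (iv F2220) (iv F3043)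
theorem F4143 : act 5 n2566 = n2432 := d14_2 D1872 D2566 (iv D2432) (iv D1773) (iv F2216)
def n2567 : Q := act 1 n1873
theorem D2567 : act 1 n1873 = n2567 := rfl
theorem F4144 : act 2 n2567 = n2429 := d5_2 D1873 D2567 (iv D2429) (iv D1772) (iv F2222)
theorem F4145 : act 4 n2567 = n1875 := d7_2 (iv F3045) D2567 (iv D1875)
def n2568 : Q := act 3 n1873
theorem D2568 : act 3 n1873 = n2568 := rfl
theorem F4146 : act 0 n2568 = n1883 := d2_1 D2568 (iv D1883) (iv F3044)
def n2569 : Q := act 5 n1873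
theorem D2569 : act 5 n1873 = n2569 := rfl
theorem F4147 : act 0 n2569 = n1884 := d4_1 D2569 (iv D1884) (iv F3044)
theorem F4148 : act 2 n2569 = n1874 := d11_1 D2569 (iv D1874) D1873
def n2570 : Q := act 4 n1874
theorem D2570 : act 4 n1874 = n2570 := rfl
theorem F4149 : act 0 n2570 = n1885 := d3_1 D2570 (iv D1885) (iv F3046)
theorem F4150 : act 1 n2570 = n2432 := d7_1 D2570 (iv D2432) (iv F3047)
theorem F4151 : act 3 n2570 = n2152 := d12_1 D2570 (iv D2152) F2555 (iv F2226) (iv F3048)
theorem F4152 : act 5 n2570 = n1876 := d14_2 D1874 D2570 (iv D1876) (iv D1360) (iv F2223)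
def n2571 : Q := act 0 n1875
theorem D2571 : act 0 n1875 = n2571 := rfl
theorem F4153 : act 1 n2571 = n1886 := d0_2 D1875 D2571 (iv D1886) (iv D1367) (iv F2227)
def n2572 : Q := act 3 n1877
theorem D2572 : act 3 n1877 = n2572 := rfl
theorem F4154 : act 0 n2572 = n1878 := d2_1 D2572 (iv D1878) D1877
theorem F4155 : act 1 n2572 = n1891 := d6_1 D2572 (iv D1891) (iv F3051)
def n2573 : Q := act 2 n1878
theorem D2573 : act 2 n1878 = n2573 := rfl
def n2574 : Q := act 4 n1878
theorem D2574 : act 4 n1878 = n2574 := rfl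
theorem F4156 : act 1 n2574 = n1879 := d7_1 D2574 (iv D1879) (iv F3054)
theorem F4157 : act 3 n2574 = n2231 := d12_1 D2574 (iv D2231) (iv D1620) (iv F2231) D1878
def n2575 : Q := act 5 n1879
theorem D2575 : act 5 n1879 = n2575 := rfl
theorem F4158 : act 0 n2575 = n1896 := d4_1 D2575 (iv D1896) (iv F3055)
theorem F4159 : act 3 n2575 = n2233 := d13_1 D2575 (iv D2233) (iv F3056)
def n2576 : Q := act 1 n1880
theorem D2576 : act 1 n1880 = n2576 := rfl
theorem F4160 : act 2 n2576 = n2417 := d5_2 D1880 D2576 (iv D2417) (iv D1760) (iv F2233)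
def n2577 : Q := act 3 n1880
theorem D2577 : act 3 n1880 = n2577 := rfl
def n2578 : Q := act 5 n1880
theorem D2578 : act 5 n1880 = n2578 := rfl
theorem F4161 : act 2 n2578 = n1881 := d11_1 D2578 (iv D1881) D1880
def n2579 : Q := act 4 n1881
theorem D2579 : act 4 n1881 = n2579 := rfl
theorem F4162 : act 1 n2579 = n2420 := d7_1 D2579 (iv D2420) (iv F3057)
theorem F4163 : act 3 n2579 = n2163 := d12_1 D2579 (iv D2163) F2569 (iv F2236) (iv F3058)
def n2580 : Q := act 0 n1882
theorem D2580 : act 0 n1882 = n2580 := rfl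
theorem F4164 : act 2 n2580 = n2200 := d1_2 (iv F3059) D2580 (iv D2200)
theorem F4165 : act 4 n2580 = n1886 := d3_2 (iv F3060) D2580 (iv D1886)
def n2581 : Q := act 3 n1882
theorem D2581 : act 3 n1882 = n2581 := rfl
theorem F4166 : act 1 n2581 = n1883 := d6_1 D2581 (iv D1883) D1882
def n2582 : Q := act 5 n1882
theorem D2582 : act 5 n1882 = n2582 := rfl
theorem F4167 : act 1 n2582 = n1884 := d8_1 D2582 (iv D1884) D1882
theorem F4168 : act 2 n2582 = n2199 := d11_1 D2582 F3580 (iv F3059)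
def n2583 : Q := act 2 n1883
theorem D2583 : act 2 n1883 = n2583 := rfl
def n2584 : Q := act 4 n1883
theorem D2584 : act 4 n1883 = n2584 := rfl
theorem F4169 : act 3 n2584 = n1889 := d12_1 D2584 (iv D1889) (iv D1368) (iv F2237) D1883
def n2585 : Q := act 5 n1883
theorem D2585 : act 5 n1883 = n2585 := rfl
theorem F4170 : act 3 n2585 = n1884 := d13_1 D2585 (iv D1884) D1883
def n2586 : Q := act 4 n1884
theorem D2586 : act 4 n1884 = n2586 := rfl
theorem F4171 : act 2 n2586 = n1885 := d10_1 D2586 (iv D1885) (iv F3061)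
theorem F4172 : act 5 n2586 = n1890 := d14_2 D1884 D2586 (iv D1890) (iv D1369) (iv F2237)
def n2587 : Q := act 3 n1886
theorem D2587 : act 3 n1886 = n2587 := rfl
theorem F4173 : act 0 n2587 = n1887 := d2_1 D2587 (iv D1887) D1886
def n2588 : Q := act 5 n1886
theorem D2588 : act 5 n1886 = n2588 := rfl
theorem F4174 : act 0 n2588 = n1888 := d4_1 D2588 (iv D1888) D1886
theorem F4175 : act 2 n2588 = n2208 := d11_1 D2588 F3601 (iv F3065)
def n2589 : Q := act 2 n1887
theorem D2589 : act 2 n1887 = n2589 := rfl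
def n2590 : Q := act 4 n1887
theorem D2590 : act 4 n1887 = n2590 := rfl
theorem F4176 : act 1 n2590 = n1889 := d7_1 D2590 (iv D1889) (iv F3066)
def n2591 : Q := act 4 n1888
theorem D2591 : act 4 n1888 = n2591 := rfl
theorem F4177 : act 1 n2591 = n1890 := d7_1 D2591 (iv D1890) (iv F3067)
theorem F4178 : act 2 n2591 = n2207 := d10_1 D2591 F3600 (iv F3068)
def n2592 : Q := act 5 n1889
theorem D2592 : act 5 n1889 = n2592 := rfl
def n2593 : Q := act 3 n1890
theorem D2593 : act 3 n1890 = n2593 := rfl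
def n2594 : Q := act 4 n1891
theorem D2594 : act 4 n1891 = n2594 := rfl
theorem F4179 : act 0 n2594 = n1893 := d3_1 D2594 (iv D1893) (iv F3070)
theorem F4180 : act 3 n2594 = n2235 := d12_1 D2594 (iv D2235) (iv D1624) (iv F2245) D1891
def n2595 : Q := act 1 n1892
theorem D2595 : act 1 n1892 = n2595 := rfl
theorem F4181 : act 2 n2595 = n1894 := d5_2 D1892 D2595 (iv D1894) (iv D1373) (iv F2246)
def n2596 : Q := act 4 n1892
theorem D2596 : act 4 n1892 = n2596 := rfl
theorem F4182 : act 2 n2596 = n1893 := d10_1 D2596 (iv D1893) D1892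
def n2597 : Q := act 5 n1893
theorem D2597 : act 5 n1893 = n2597 := rfl
theorem F4183 : act 1 n2597 = n1896 := d8_1 D2597 (iv D1896) (iv F3071)
theorem F4184 : act 3 n2597 = n2238 := d13_1 D2597 (iv D2238) (iv F3072)
def n2598 : Q := act 0 n1894
theorem D2598 : act 0 n1894 = n2598 := rfl
def n2599 : Q := act 4 n1894
theorem D2599 : act 4 n1894 = n2599 := rfl
theorem F4185 : act 1 n2599 = n1895 := d7_1 D2599 (iv D1895) D1894
def n2600 : Q := act 3 n1895
theorem D2600 : act 3 n1895 = n2600 := rfl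
def n2601 : Q := act 5 n1895
theorem D2601 : act 5 n1895 = n2601 := rfl
theorem F4186 : act 2 n2601 = n1896 := d11_1 D2601 (iv D1896) (iv F3073)
def n2602 : Q := act 1 n1897
theorem D2602 : act 1 n1897 = n2602 := rfl
theorem F4187 : act 2 n2602 = n1917 := d5_2 D1897 D2602 (iv D1917) (iv D1391) (iv F2249)
def n2603 : Q := act 3 n1897
theorem D2603 : act 3 n1897 = n2603 := rfl
theorem F4188 : act 0 n2603 = n1902 := d2_1 D2603 (iv D1902) (iv F3075)
theorem F4189 : act 2 n2603 = n2127 := d15_2 D1897 D2603 F3447 F2511 F1828 (iv F1641) (iv F2258) (iv D1380) (iv F2248)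
theorem F4190 : act 5 n2125 = n2603 := d11_0 F4189 (iv D2127) D2125
def n2604 : Q := act 5 n1897
theorem D2604 : act 5 n1897 = n2604 := rfl
theorem F4191 : act 0 n2604 = n1903 := d4_1 D2604 (iv D1903) (iv F3075)
theorem F4192 : act 2 n2604 = n1898 := d11_1 D2604 (iv D1898) D1897
theorem F4193 : act 3 n2604 = n2125 := d13_1 D2604 F4190 (iv D2603)
def n2605 : Q := act 4 n1898
theorem D2605 : act 4 n1898 = n2605 := rfl
theorem F4194 : act 0 n2605 = n1904 := d3_1 D2605 (iv D1904) (iv F3076)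
theorem F4195 : act 1 n2605 = n1920 := d7_1 D2605 (iv D1920) (iv F3077)
theorem F4196 : act 3 n2605 = n2067 := d12_1 D2605 (iv D2067) F2450 (iv F2253) (iv F3078)
def n2606 : Q := act 1 n1899
theorem D2606 : act 1 n1899 = n2606 := rfl
theorem F4197 : act 2 n2606 = n1907 := d5_2 D1899 D2606 (iv D1907) (iv D1383) (iv F2254)
theorem F4198 : act 4 n2606 = n1901 := d7_2 (iv F3079) D2606 (iv D1901)
def n2607 : Q := act 3 n1899
theorem D2607 : act 3 n1899 = n2607 := rfl
def n2608 : Q := act 5 n1899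
theorem D2608 : act 5 n1899 = n2608 := rfl
theorem F4199 : act 2 n2608 = n1900 := d11_1 D2608 (iv D1900) D1899
def n2609 : Q := act 4 n1900
theorem D2609 : act 4 n1900 = n2609 := rfl
theorem F4200 : act 1 n2609 = n1910 := d7_1 D2609 (iv D1910) (iv F3080)
theorem F4201 : act 5 n2609 = n1904 := d14_2 D1900 D2609 (iv D1904) (iv D1380) (iv F2255)
def n2610 : Q := act 0 n1901
theorem D2610 : act 0 n1901 = n2610 := rfl
theorem F4202 : act 2 n2610 = n1911 := d1_2 (iv F3082) D2610 (iv D1911)
theorem F4203 : act 5 n2610 = n2002 := d4_2 F3083 D2610 F3260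
def n2611 : Q := act 3 n1901
theorem D2611 : act 3 n1901 = n2611 := rfl
theorem F4204 : act 1 n2611 = n1902 := d6_1 D2611 (iv D1902) D1901
theorem F4205 : act 5 n2611 = n2005 := d13_2 F3083 D2611 (iv D2005)
def n2612 : Q := act 2 n1902
theorem D2612 : act 2 n1902 = n2612 := rfl
theorem F4206 : act 0 n2612 = n2127 := d1_1 D2612 (iv F4189) F4188
theorem F4207 : act 3 n2612 = n2117 := d9_2 D1902 D2612 F3433 F2504 (iv F2252) (iv F3078) (iv F4192) F4193 (iv D2125) (iv D1538) (iv D1106) (iv D791) (iv F1183) D989 D1379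
theorem F4208 : act 5 n2116 = n2612 := d13_0 F4207 (iv D2117) D2116
def n2613 : Q := act 4 n1902
theorem D2613 : act 4 n1902 = n2613 := rfl
def n2614 : Q := act 5 n1902
theorem D2614 : act 5 n1902 = n2614 := rfl
theorem F4209 : act 0 n2614 = n2125 := d4_1 D2614 F4190 F4188
theorem F4210 : act 1 n2614 = n2005 := d8_1 D2614 (iv F4205) F4204
theorem F4211 : act 2 n2614 = n2116 := d11_1 D2614 F4208 (iv D2612)
theorem F4212 : act 3 n2614 = n1903 := d13_1 D2614 (iv D1903) D1902
def n2615 : Q := act 4 n1903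
theorem D2615 : act 4 n1903 = n2615 := rfl
theorem F4213 : act 1 n2615 = n2006 := d7_1 D2615 (iv D2006) (iv F3084)
theorem F4214 : act 2 n2615 = n1904 := d10_1 D2615 (iv D1904) (iv F3085)
def n2616 : Q := act 3 n1904
theorem D2616 : act 3 n1904 = n2616 := rfl
theorem F4215 : act 0 n2616 = n2067 := d2_1 D2616 (iv F4196) F4194
theorem F4216 : act 1 n2616 = n1912 := d6_1 D2616 (iv D1912) (iv F3086)
theorem F4217 : act 4 n2616 = n1905 := d12_2 D1904 D2616 (iv D1905) (iv D1381) (iv F2258)
def n2617 : Q := act 2 n1905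
theorem D2617 : act 2 n1905 = n2617 := rfl
theorem F4218 : act 0 n2617 = n2066 := d1_1 D2617 F3354 (iv F3087)
theorem F4219 : act 5 n2617 = n1906 := d11_2 (iv F3089) D2617 (iv D1906)
def n2618 : Q := act 1 n1906
theorem D2618 : act 1 n1906 = n2618 := rfl
theorem F4220 : act 2 n2618 = n1914 := d5_2 D1906 D2618 (iv D1914) (iv D1388) (iv F2264)
def n2619 : Q := act 3 n1906
theorem D2619 : act 3 n1906 = n2619 := rfl
theorem F4221 : act 0 n2619 = n2065 := d2_1 D2619 (iv D2065) (iv F3090)
def n2620 : Q := act 0 n1907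
theorem D2620 : act 0 n1907 = n2620 := rfl
theorem F4222 : act 1 n2620 = n1938 := d0_2 D1907 D2620 (iv D1938) (iv D1403) (iv F2265)
theorem F4223 : act 4 n2620 = n1911 := d3_2 (iv F3091) D2620 (iv D1911)
def n2621 : Q := act 3 n1907
theorem D2621 : act 3 n1907 = n2621 := rfl
theorem F4224 : act 1 n2621 = n1908 := d6_1 D2621 (iv D1908) D1907
theorem F4225 : act 4 n2621 = n2008 := d12_2 (iv F3091) D2621 (iv D2008) (iv D1455) (iv F2269)
def n2622 : Q := act 5 n1907
theorem D2622 : act 5 n1907 = n2622 := rfl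
theorem F4226 : act 1 n2622 = n1909 := d8_1 D2622 (iv D1909) D1907
theorem F4227 : act 4 n2622 = n2007 := d14_1 D2622 (iv D2007) (iv D1454) (iv F2270) (iv F3091)
def n2623 : Q := act 2 n1908
theorem D2623 : act 2 n1908 = n2623 := rfl
theorem F4228 : act 0 n2623 = n1941 := d1_1 D2623 (iv D1941) (iv F3092)
theorem F4229 : act 3 n2623 = n1936 := d9_2 D1908 D2623 F3141 F2294 F1674 (iv F1677) (iv F2296) (iv F3149) (iv F3164) (iv D1948) (iv D1408) (iv D1012) F1214 D992 D1383
theorem F4230 : act 4 n2623 = n2009 := d10_2 (iv F3093) D2623 (iv D2009)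
theorem F4231 : act 5 n1935 = n2623 := d13_0 F4229 (iv D1936) D1935
def n2624 : Q := act 5 n1908
theorem D2624 : act 5 n1908 = n2624 := rfl
theorem F4232 : act 0 n2624 = n1943 := d4_1 D2624 (iv D1943) (iv F3092)
theorem F4233 : act 2 n2624 = n1935 := d11_1 D2624 F4231 (iv D2623)
theorem F4234 : act 3 n2624 = n1909 := d13_1 D2624 (iv D1909) D1908
def n2625 : Q := act 2 n1912
theorem D2625 : act 2 n1912 = n2625 := rfl
theorem F4235 : act 0 n2625 = n1956 := d1_1 D2625 (iv D1956) (iv F3103)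
theorem F4236 : act 4 n2625 = n1913 := d10_2 (iv F3104) D2625 (iv D1913)
def n2626 : Q := act 1 n1913
theorem D2626 : act 1 n1913 = n2626 := rfl
theorem F4237 : act 3 n2626 = n1961 := d6_2 (iv F3106) D2626 (iv D1961)
theorem F4238 : act 5 n2626 = n1914 := d8_2 (iv F3107) D2626 (iv D1914)
def n2627 : Q := act 0 n1914
theorem D2627 : act 0 n1914 = n2627 := rfl
theorem F4239 : act 1 n2627 = n1958 := d0_2 D1914 D2627 (iv D1958) (iv D1416) (iv F2275)
def n2628 : Q := act 2 n1915
theorem D2628 : act 2 n1915 = n2628 := rfl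
def n2629 : Q := act 1 n1916
theorem D2629 : act 1 n1916 = n2629 := rfl
theorem F4240 : act 3 n2629 = n1957 := d6_2 (iv F3110) D2629 (iv D1957)
theorem F4241 : act 5 n2629 = n1959 := d8_2 (iv F3111) D2629 F3184
def n2630 : Q := act 0 n1917
theorem D2630 : act 0 n1917 = n2630 := rfl
theorem F4242 : act 1 n2630 = n1925 := d0_2 D1917 D2630 (iv D1925) (iv D1395) (iv F2279)
def n2631 : Q := act 3 n1917
theorem D2631 : act 3 n1917 = n2631 := rfl
theorem F4243 : act 1 n2631 = n1918 := d6_1 D2631 (iv D1918) D1917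
theorem F4244 : act 2 n2392 = n2631 := d5_0 F4243 F3113 F2332 D1741 D2392
theorem F4245 : act 5 n1972 = n2631 := d8_0 F4243 (iv F3114) D1972
def n2632 : Q := act 5 n1917
theorem D2632 : act 5 n1917 = n2632 := rfl
theorem F4246 : act 1 n2632 = n1919 := d8_1 D2632 (iv D1919) D1917
theorem F4247 : act 3 n2632 = n1972 := d13_1 D2632 F4245 (iv D2631)
def n2633 : Q := act 4 n1918
theorem D2633 : act 4 n1918 = n2633 := rfl
theorem F4248 : act 0 n2633 = n1929 := d3_1 D2633 (iv D1929) (iv F3112)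
theorem F4249 : act 2 n2633 = n1975 := d10_1 D2633 (iv D1975) (iv F3113)
def n2634 : Q := act 4 n1919
theorem D2634 : act 4 n1919 = n2634 := rfl
theorem F4250 : act 0 n2634 = n1931 := d3_1 D2634 (iv D1931) (iv F3115)
theorem F4251 : act 2 n2634 = n1920 := d10_1 D2634 (iv D1920) (iv F3116)
def n2635 : Q := act 0 n1921
theorem D2635 : act 0 n1921 = n2635 := rfl
theorem F4252 : act 2 n2635 = n1938 := d1_2 (iv F3120) D2635 (iv D1938)
theorem F4253 : act 4 n2635 = n1925 := d3_2 (iv F3121) D2635 (iv D1925)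
def n2636 : Q := act 3 n1921
theorem D2636 : act 3 n1921 = n2636 := rfl
theorem F4254 : act 1 n2636 = n1922 := d6_1 D2636 (iv D1922) D1921
def n2637 : Q := act 5 n1921
theorem D2637 : act 5 n1921 = n2637 := rfl
theorem F4255 : act 1 n2637 = n1923 := d8_1 D2637 (iv D1923) D1921
theorem F4256 : act 2 n2637 = n1940 := d11_1 D2637 (iv D1940) (iv F3120)
def n2638 : Q := act 4 n1922
theorem D2638 : act 4 n1922 = n2638 := rfl
theorem F4257 : act 3 n2638 = n1929 := d12_1 D2638 (iv D1929) (iv D1396) (iv F2282) D1922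
def n2639 : Q := act 4 n1923
theorem D2639 : act 4 n1923 = n2639 := rfl
theorem F4258 : act 2 n2639 = n1924 := d10_1 D2639 (iv D1924) (iv F3122)
theorem F4259 : act 5 n2639 = n1931 := d14_2 D1923 D2639 (iv D1931) (iv D1397) (iv F2282)
def n2640 : Q := act 3 n1925
theorem D2640 : act 3 n1925 = n2640 := rfl
theorem F4260 : act 0 n2640 = n1926 := d2_1 D2640 (iv D1926) D1925
def n2641 : Q := act 5 n1925
theorem D2641 : act 5 n1925 = n2641 := rfl
theorem F4261 : act 0 n2641 = n1927 := d4_1 D2641 (iv D1927) D1925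
theorem F4262 : act 2 n2641 = n1950 := d11_1 D2641 (iv D1950) (iv F3126)
def n2642 : Q := act 2 n1926
theorem D2642 : act 2 n1926 = n2642 := rfl
def n2643 : Q := act 4 n1926
theorem D2643 : act 4 n1926 = n2643 := rfl
theorem F4263 : act 1 n2643 = n1929 := d7_1 D2643 (iv D1929) (iv F3127)
def n2644 : Q := act 5 n1926
theorem D2644 : act 5 n1926 = n2644 := rfl
theorem F4264 : act 1 n2644 = n1930 := d8_1 D2644 (iv D1930) (iv F3127)
theorem F4265 : act 3 n2644 = n1927 := d13_1 D2644 (iv D1927) D1926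
def n2645 : Q := act 4 n1927
theorem D2645 : act 4 n1927 = n2645 := rfl
theorem F4266 : act 1 n2645 = n1931 := d7_1 D2645 (iv D1931) (iv F3128)
theorem F4267 : act 2 n2645 = n1953 := d10_1 D2645 (iv D1953) (iv F3129)
def n2646 : Q := act 1 n1928
theorem D2646 : act 1 n1928 = n2646 := rfl
theorem F4268 : act 0 n2646 = n2390 := d0_1 D2646 F3879 F2834 (iv F2332) (iv F3130)
theorem F4269 : act 3 n2646 = n1966 := d6_2 (iv F3131) D2646 F3193
theorem F4270 : act 5 n2646 = n1965 := d8_2 F3132 D2646 F3191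
def n2647 : Q := act 4 n1928
theorem D2647 : act 4 n1928 = n2647 := rfl
theorem F4271 : act 0 n2647 = n1975 := d3_1 D2647 (iv D1975) (iv F3130)
theorem F4272 : act 2 n2647 = n1929 := d10_1 D2647 (iv D1929) D1928
def n2648 : Q := act 5 n1929
theorem D2648 : act 5 n1929 = n2648 := rfl
def n2649 : Q := act 4 n1930
theorem D2649 : act 4 n1930 = n2649 := rfl
theorem F4273 : act 0 n2649 = n1973 := d3_1 D2649 (iv D1973) (iv F3133)
theorem F4274 : act 2 n2649 = n1967 := d10_1 D2649 (iv D1967) (iv F3134)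
def n2650 : Q := act 3 n1931
theorem D2650 : act 3 n1931 = n2650 := rfl
def n2651 : Q := act 1 n1932
theorem D2651 : act 1 n1932 = n2651 := rfl
theorem F4275 : act 2 n2651 = n1934 := d5_2 D1932 D2651 (iv D1934) (iv D1401) (iv F2289)
theorem F4276 : act 4 n2651 = n2618 := d7_2 (iv F3137) D2651 (iv D2618)
def n2652 : Q := act 3 n1932
theorem D2652 : act 3 n1932 = n2652 := rfl
def n2653 : Q := act 5 n1932
theorem D2653 : act 5 n1932 = n2653 := rfl
theorem F4277 : act 2 n2653 = n1933 := d11_1 D2653 (iv D1933) D1932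
def n2654 : Q := act 4 n1933
theorem D2654 : act 4 n1933 = n2654 := rfl
theorem F4278 : act 1 n2654 = n1937 := d7_1 D2654 (iv D1937) (iv F3138)
theorem F4279 : act 3 n2654 = n2609 := d12_1 D2654 (iv D2609) F3081 (iv F2292) (iv F3139)
theorem F4280 : act 5 n2654 = n2616 := d14_2 D1933 D2654 F4217 F3089 (iv F2290)
def n2655 : Q := act 0 n1934
theorem D2655 : act 0 n1934 = n2655 := rfl
theorem F4281 : act 4 n2655 = n2627 := d3_2 (iv F3140) D2655 (iv D2627)
def n2656 : Q := act 3 n1934
theorem D2656 : act 3 n1934 = n2656 := rfl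
theorem F4282 : act 1 n2656 = n1935 := d6_1 D2656 (iv D1935) D1934
def n2657 : Q := act 5 n1934
theorem D2657 : act 5 n1934 = n2657 := rfl
theorem F4283 : act 1 n2657 = n1936 := d8_1 D2657 (iv D1936) D1934
def n2658 : Q := act 4 n1935
theorem D2658 : act 4 n1935 = n2658 := rfl
theorem F4284 : act 3 n2658 = n2388 := d12_1 D2658 F3876 F2833 (iv F2293) D1935
def n2659 : Q := act 4 n1936
theorem D2659 : act 4 n1936 = n2659 := rfl
theorem F4285 : act 2 n2659 = n1937 := d10_1 D2659 (iv D1937) (iv F3141)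
theorem F4286 : act 5 n2659 = n2625 := d14_2 D1936 D2659 F4236 F3107 (iv F2293)
def n2660 : Q := act 3 n1938
theorem D2660 : act 3 n1938 = n2660 := rfl
theorem F4287 : act 0 n2660 = n1939 := d2_1 D2660 (iv D1939) D1938
def n2661 : Q := act 5 n1938
theorem D2661 : act 5 n1938 = n2661 := rfl
theorem F4288 : act 0 n2661 = n1940 := d4_1 D2661 (iv D1940) D1938
def n2662 : Q := act 2 n1939
theorem D2662 : act 2 n1939 = n2662 := rfl
def n2663 : Q := act 4 n1939
theorem D2663 : act 4 n1939 = n2663 := rfl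
theorem F4289 : act 1 n2663 = n1942 := d7_1 D2663 (iv D1942) (iv F3145)
theorem F4290 : act 3 n2663 = n1952 := d12_1 D2663 (iv D1952) (iv D1410) (iv F2295) D1939
def n2664 : Q := act 5 n1939
theorem D2664 : act 5 n1939 = n2664 := rfl
theorem F4291 : act 1 n2664 = n1943 := d8_1 D2664 (iv D1943) (iv F3145)
theorem F4292 : act 3 n2664 = n1940 := d13_1 D2664 (iv D1940) D1939
def n2665 : Q := act 4 n1940
theorem D2665 : act 4 n1940 = n2665 := rfl
theorem F4293 : act 1 n2665 = n1944 := d7_1 D2665 (iv D1944) (iv F3146)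
theorem F4294 : act 5 n2665 = n1953 := d14_2 D1940 D2665 (iv D1953) (iv D1411) (iv F2295)
def n2666 : Q := act 1 n1941
theorem D2666 : act 1 n1941 = n2666 := rfl
def n2667 : Q := act 4 n1941
theorem D2667 : act 4 n1941 = n2667 := rfl
theorem F4295 : act 0 n2667 = n2009 := d3_1 D2667 (iv F4230) F4228
theorem F4296 : act 2 n2667 = n1942 := d10_1 D2667 (iv D1942) D1941
def n2668 : Q := act 5 n1942
theorem D2668 : act 5 n1942 = n2668 := rfl
theorem F4297 : act 0 n2668 = n2001 := d4_1 D2668 F3259 (iv F3147)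
theorem F4298 : act 3 n2668 = n1954 := d13_1 D2668 (iv D1954) (iv F3148)
def n2669 : Q := act 4 n1943
theorem D2669 : act 4 n1943 = n2669 := rfl
def n2670 : Q := act 3 n1944
theorem D2670 : act 3 n1944 = n2670 := rfl
theorem F4299 : act 0 n2670 = n1999 := d2_1 D2670 F3257 (iv F3150)
theorem F4300 : act 5 n2670 = n1955 := d13_2 (iv F3152) D2670 (iv D1955)
def n2671 : Q := act 2 n1945
theorem D2671 : act 2 n1945 = n2671 := rfl
theorem F4301 : act 0 n2671 = n2659 := d1_1 D2671 F4285 (iv F3153)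
theorem F4302 : act 4 n2671 = n1946 := d10_2 (iv F3155) D2671 (iv D1946)
theorem F4303 : act 5 n2671 = n1956 := d11_2 (iv F3156) D2671 (iv D1956)
def n2672 : Q := act 1 n1946
theorem D2672 : act 1 n1946 = n2672 := rfl
theorem F4304 : act 2 n2672 = n2085 := d5_2 D1946 D2672 F3383 F2472 (iv F2299)
theorem F4305 : act 3 n2672 = n2666 := d6_2 (iv F3159) D2672 (iv D2666)
theorem F4306 : act 5 n2672 = n1947 := d8_2 (iv F3158) D2672 (iv D1947)
def n2673 : Q := act 0 n1947
theorem D2673 : act 0 n1947 = n2673 := rfl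
theorem F4307 : act 1 n2673 = n2655 := d0_2 D1947 D2673 (iv D2655) (iv D1934) (iv F2301)
theorem F4308 : act 2 n2673 = n2083 := d1_2 (iv F3160) D2673 (iv D2083)
theorem F4309 : act 4 n2673 = n1958 := d3_2 (iv F3161) D2673 (iv D1958)
def n2674 : Q := act 3 n1947
theorem D2674 : act 3 n1947 = n2674 := rfl
theorem F4310 : act 1 n2674 = n1948 := d6_1 D2674 (iv D1948) D1947
theorem F4311 : act 5 n2674 = n2666 := d13_2 F4306 D2674 (iv F4305)
def n2675 : Q := act 4 n1948
theorem D2675 : act 4 n1948 = n2675 := rfl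
theorem F4312 : act 0 n2675 = n2658 := d3_1 D2675 (iv D2658) (iv F3162)
theorem F4313 : act 2 n2675 = n2669 := d10_1 D2675 (iv D2669) (iv F3164)
theorem F4314 : act 3 n2675 = n1960 := d12_1 D2675 (iv D1960) (iv D1417) (iv F2302) D1948
def n2676 : Q := act 2 n1949
theorem D2676 : act 2 n1949 = n2676 := rfl
theorem F4315 : act 0 n2676 = n1951 := d1_1 D2676 (iv D1951) (iv F3165)
theorem F4316 : act 1 n2676 = n1992 := d5_1 D2676 (iv F3665) F3664 F2755 (iv F3166)
theorem F4317 : act 5 n2676 = n1977 := d11_2 F3167 D2676 F3214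
def n2677 : Q := act 4 n1949
theorem D2677 : act 4 n1949 = n2677 := rfl
theorem F4318 : act 0 n2677 = n1952 := d3_1 D2677 (iv D1952) (iv F3165)
theorem F4319 : act 1 n2677 = n2004 := d7_1 D2677 (iv D2004) (iv F3166)
def n2678 : Q := act 4 n1950
theorem D2678 : act 4 n1950 = n2678 := rfl
theorem F4320 : act 0 n2678 = n1953 := d3_1 D2678 (iv D1953) (iv F3168)
theorem F4321 : act 1 n2678 = n2003 := d7_1 D2678 (iv D2003) (iv F3169)
def n2679 : Q := act 3 n1951
theorem D2679 : act 3 n1951 = n2679 := rfl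
theorem F4322 : act 1 n2679 = n1980 := d6_1 D2679 F3222 (iv F3171)
theorem F4323 : act 5 n2679 = n1978 := d13_2 (iv F3172) D2679 (iv D1978)
def n2680 : Q := act 4 n1951
theorem D2680 : act 4 n1951 = n2680 := rfl
theorem F4324 : act 1 n2680 = n1954 := d7_1 D2680 F3177 (iv F3171)
theorem F4325 : act 2 n2680 = n1952 := d10_1 D2680 (iv D1952) D1951
theorem F4326 : act 5 n2680 = n1952 := d14_2 (iv F3172) D2680 (iv D1952) (iv F2304) (iv F2338)
def n2681 : Q := act 3 n1953
theorem D2681 : act 3 n1953 = n2681 := rfl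
theorem F4327 : act 1 n2681 = n1955 := d6_1 D2681 (iv D1955) (iv F3174)
theorem F4328 : act 4 n2681 = n1978 := d12_2 D1953 D2681 (iv D1978) F2338 (iv F2306)
def n2682 : Q := act 2 n1955
theorem D2682 : act 2 n1955 = n2682 := rfl
theorem F4329 : act 0 n2682 = n1998 := d1_1 D2682 F3256 (iv F3178)
theorem F4330 : act 4 n2682 = n1979 := d10_2 (iv F3179) D2682 (iv D1979)
def n2683 : Q := act 1 n1956
theorem D2683 : act 1 n1956 = n2683 := rfl
theorem F4331 : act 2 n2683 = n2094 := d5_2 D1956 D2683 F3394 F2476 (iv F2311)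
theorem F4332 : act 4 n2683 = n1957 := d7_2 (iv F3180) D2683 (iv D1957)
def n2684 : Q := act 3 n1956
theorem D2684 : act 3 n1956 = n2684 := rfl
def n2685 : Q := act 0 n1957
theorem D2685 : act 0 n1957 = n2685 := rfl
theorem F4333 : act 2 n2685 = n2091 := d1_2 (iv F3181) D2685 F3392
theorem F4334 : act 5 n2685 = n1958 := d4_2 (iv F3182) D2685 (iv D1958)
def n2686 : Q := act 3 n1958
theorem D2686 : act 3 n1958 = n2686 := rfl
theorem F4335 : act 0 n2686 = n1959 := d2_1 D2686 (iv D1959) D1958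
def n2687 : Q := act 2 n1959
theorem D2687 : act 2 n1959 = n2687 := rfl
def n2688 : Q := act 4 n1959
theorem D2688 : act 4 n1959 = n2688 := rfl
theorem F4336 : act 1 n2688 = n1960 := d7_1 D2688 (iv D1960) (iv F3184)
def n2689 : Q := act 5 n1960
theorem D2689 : act 5 n1960 = n2689 := rfl
def n2690 : Q := act 0 n1961
theorem D2690 : act 0 n1961 = n2690 := rfl
def n2691 : Q := act 4 n1961
theorem D2691 : act 4 n1961 = n2691 := rfl
theorem F4337 : act 1 n2691 = n1962 := d7_1 D2691 (iv D1962) D1961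
def n2692 : Q := act 3 n1962
theorem D2692 : act 3 n1962 = n2692 := rfl
theorem F4338 : act 2 n2692 = n2386 := d15_2 (iv F3185) D2692 F3872 F2828 F2048 (iv F2387) (iv F3282) (iv D2019) F2384
theorem F4339 : act 5 n2385 = n2692 := d11_0 F4338 (iv D2386) D2385
def n2693 : Q := act 5 n1962
theorem D2693 : act 5 n1962 = n2693 := rfl
theorem F4340 : act 2 n2693 = n1963 := d11_1 D2693 (iv D1963) (iv F3185)
theorem F4341 : act 3 n2693 = n2385 := d13_1 D2693 F4339 (iv D2692)
def n2694 : Q := act 3 n1964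
theorem D2694 : act 3 n1964 = n2694 := rfl
theorem F4342 : act 0 n2694 = n1965 := d2_1 D2694 (iv D1965) D1964
theorem F4343 : act 1 n2694 = n1969 := d6_1 D2694 (iv D1969) (iv F3187)
theorem F4344 : act 5 n2694 = n2390 := d13_2 F3190 D2694 (iv D2390)
def n2695 : Q := act 2 n1965
theorem D2695 : act 2 n1965 = n2695 := rfl
def n2696 : Q := act 4 n1965
theorem D2696 : act 4 n1965 = n2696 := rfl
theorem F4345 : act 1 n2696 = n1967 := d7_1 D2696 (iv D1967) (iv F3191)
theorem F4346 : act 3 n2696 = n2075 := d12_1 D2696 (iv D2075) (iv D1506) (iv F2318) D1965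
def n2697 : Q := act 4 n1966
theorem D2697 : act 4 n1966 = n2697 := rfl
theorem F4347 : act 0 n2697 = n2246 := d3_1 D2697 F3650 (iv F3192)
theorem F4348 : act 1 n2697 = n1968 := d7_1 D2697 (iv D1968) (iv F3193)
theorem F4349 : act 2 n2697 = n2232 := d10_1 D2697 (iv D2232) (iv F3194)
theorem F4350 : act 5 n2697 = n2032 := d14_2 D1966 D2697 F3304 F2409 (iv F2318)
def n2698 : Q := act 5 n1967
theorem D2698 : act 5 n1967 = n2698 := rfl
theorem F4351 : act 0 n2698 = n1974 := d4_1 D2698 (iv D1974) (iv F3195)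
theorem F4352 : act 3 n2698 = n2076 := d13_1 D2698 (iv D2076) (iv F3196)
def n2699 : Q := act 3 n1968
theorem D2699 : act 3 n1968 = n2699 := rfl
theorem F4353 : act 0 n2699 = n1976 := d2_1 D2699 (iv D1976) (iv F3197)
theorem F4354 : act 5 n2699 = n2033 := d13_2 (iv F3199) D2699 (iv D2033)
theorem F4355 : act 2 n2699 = n2038 := d15_2 (iv F3198) D2699 (iv D2038) (iv D1480) (iv D1063) F1279 D767 (iv F1705) (iv F2322)
def n2700 : Q := act 4 n1969
theorem D2700 : act 4 n1969 = n2700 := rfl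
theorem F4356 : act 0 n2700 = n1971 := d3_1 D2700 (iv D1971) (iv F3200)
theorem F4357 : act 2 n2700 = n2374 := d10_1 D2700 (iv D2374) (iv F3202)
theorem F4358 : act 3 n2700 = n2098 := d12_1 D2700 (iv D2098) (iv D1521) (iv F2327) D1969
def n2701 : Q := act 1 n1970
theorem D2701 : act 1 n1970 = n2701 := rfl
theorem F4359 : act 2 n2701 = n1972 := d5_2 D1970 D2701 (iv D1972) (iv D1427) (iv F2329)
theorem F4360 : act 3 n2701 = n2365 := d6_2 (iv F3205) D2701 (iv D2365)
theorem F4361 : act 5 n2701 = n2392 := d8_2 (iv F3204) D2701 (iv D2392)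
def n2702 : Q := act 4 n1970
theorem D2702 : act 4 n1970 = n2702 := rfl
theorem F4362 : act 0 n2702 = n2374 := d3_1 D2702 (iv D2374) (iv F3203)
theorem F4363 : act 2 n2702 = n1971 := d10_1 D2702 (iv D1971) D1970
def n2703 : Q := act 5 n1971
theorem D2703 : act 5 n1971 = n2703 := rfl
theorem F4364 : act 1 n2703 = n1974 := d8_1 D2703 (iv D1974) (iv F3206)
theorem F4365 : act 3 n2703 = n2102 := d13_1 D2703 (iv D2102) (iv F3207)
theorem F4366 : act 4 n2703 = n2394 := d14_1 D2703 (iv D2394) (iv D1742) (iv F2330) D1971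
def n2704 : Q := act 0 n1972
theorem D2704 : act 0 n1972 = n2704 := rfl
def n2705 : Q := act 4 n1972
theorem D2705 : act 4 n1972 = n2705 := rfl
theorem F4367 : act 1 n2705 = n1973 := d7_1 D2705 (iv D1973) D1972
def n2706 : Q := act 3 n1973
theorem D2706 : act 3 n1973 = n2706 := rfl
def n2707 : Q := act 5 n1973
theorem D2707 : act 5 n1973 = n2707 := rfl
theorem F4368 : act 2 n2707 = n1974 := d11_1 D2707 (iv D1974) (iv F3208)
def n2708 : Q := act 4 n1974
theorem D2708 : act 4 n1974 = n2708 := rfl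
theorem F4369 : act 1 n2708 = n2394 := d7_1 D2708 (iv F4366) F4364
theorem F4370 : act 5 n2708 = n1975 := d14_2 D1974 D2708 (iv D1975) (iv D1429) D1428
def n2709 : Q := act 3 n1975
theorem D2709 : act 3 n1975 = n2709 := rfl
theorem F4371 : act 1 n2709 = n2249 := d6_1 D2709 F3652 (iv F3210)
theorem F4372 : act 4 n2709 = n1976 := d12_2 D1975 D2709 (iv D1976) (iv D1430) (iv F2333)
def n2710 : Q := act 2 n1976
theorem D2710 : act 2 n1976 = n2710 := rfl
theorem F4373 : act 0 n2710 = n2038 := d1_1 D2710 (iv F4355) F4353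
theorem F4374 : act 5 n2710 = n2056 := d11_2 (iv F3212) D2710 (iv D2056)
theorem F4375 : act 3 n2710 = n2031 := d15_1 D2710 (iv D2031) (iv D1475) F1747 D1060 D1476 D2033 (iv F4354) F4353
def n2711 : Q := act 3 n1977
theorem D2711 : act 3 n1977 = n2711 := rfl
theorem F4376 : act 0 n2711 = n1978 := d2_1 D2711 (iv D1978) D1977
theorem F4377 : act 1 n2711 = n1991 := d6_1 D2711 (iv D1991) (iv F3213)
def n2712 : Q := act 2 n1978
theorem D2712 : act 2 n1978 = n2712 := rfl
def n2713 : Q := act 1 n1979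
theorem D2713 : act 1 n1979 = n2713 := rfl
theorem F4378 : act 3 n2713 = n1988 := d6_2 (iv F3218) D2713 F3239
theorem F4379 : act 5 n2713 = n1987 := d8_2 F3219 D2713 F3238
def n2714 : Q := act 4 n1980
theorem D2714 : act 4 n1980 = n2714 := rfl
theorem F4380 : act 0 n2714 = n2000 := d3_1 D2714 (iv D2000) (iv F3220)
theorem F4381 : act 2 n2714 = n1989 := d10_1 D2714 (iv D1989) (iv F3221)
def n2715 : Q := act 4 n1981
theorem D2715 : act 4 n1981 = n2715 := rfl
theorem F4382 : act 0 n2715 = n1984 := d3_1 D2715 (iv D1984) (iv F3223)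
theorem F4383 : act 1 n2715 = n2414 := d7_1 D2715 (iv D2414) (iv F3224)
theorem F4384 : act 2 n2715 = n1982 := d10_1 D2715 (iv D1982) D1981
def n2716 : Q := act 5 n1982
theorem D2716 : act 5 n1982 = n2716 := rfl
theorem F4385 : act 0 n2716 = n1985 := d4_1 D2716 (iv D1985) (iv F3226)
theorem F4386 : act 1 n2716 = n2010 := d8_1 D2716 (iv D2010) (iv F3227)
def n2717 : Q := act 4 n1983
theorem D2717 : act 4 n1983 = n2717 := rfl
theorem F4387 : act 0 n2717 = n2182 := d3_1 D2717 F3544 (iv F3228)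
theorem F4388 : act 1 n2717 = n2224 := d7_1 D2717 (iv D2224) (iv F3229)
theorem F4389 : act 2 n2717 = n2186 := d10_1 D2717 F3553 (iv F3231)
def n2718 : Q := act 3 n1984
theorem D2718 : act 3 n1984 = n2718 := rfl
theorem F4390 : act 1 n2718 = n2408 := d6_1 D2718 (iv D2408) (iv F3232)
def n2719 : Q := act 5 n1984
theorem D2719 : act 5 n1984 = n2719 := rfl
theorem F4391 : act 1 n2719 = n2409 := d8_1 D2719 (iv D2409) (iv F3232)
theorem F4392 : act 2 n2719 = n1985 := d11_1 D2719 (iv D1985) (iv F3233)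
def n2720 : Q := act 3 n1986
theorem D2720 : act 3 n1986 = n2720 := rfl
theorem F4393 : act 0 n2720 = n1987 := d2_1 D2720 (iv D1987) D1986
theorem F4394 : act 1 n2720 = n2250 := d6_1 D2720 (iv D2250) (iv F3235)
def n2721 : Q := act 5 n1986
theorem D2721 : act 5 n1986 = n2721 := rfl
theorem F4395 : act 0 n2721 = n1988 := d4_1 D2721 (iv D1988) D1986
theorem F4396 : act 1 n2721 = n2203 := d8_1 D2721 F3590 (iv F3235)
theorem F4397 : act 2 n2721 = n2284 := d11_1 D2721 (iv D2284) (iv F3236)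
def n2722 : Q := act 2 n1987
theorem D2722 : act 2 n1987 = n2722 := rfl
def n2723 : Q := act 4 n1987
theorem D2723 : act 4 n1987 = n2723 := rfl
theorem F4398 : act 1 n2723 = n1989 := d7_1 D2723 (iv D1989) (iv F3238)
theorem F4399 : act 3 n2723 = n2286 := d12_1 D2723 (iv D2286) (iv D1658) (iv F2353) D1987
def n2724 : Q := act 4 n1988
theorem D2724 : act 4 n1988 = n2724 := rfl
theorem F4400 : act 1 n2724 = n1990 := d7_1 D2724 (iv D1990) (iv F3239)
theorem F4401 : act 2 n2724 = n2287 := d10_1 D2724 (iv D2287) (iv F3240)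
theorem F4402 : act 5 n2724 = n2287 := d14_2 D1988 D2724 (iv D2287) (iv D1659) (iv F2353)
def n2725 : Q := act 5 n1989
theorem D2725 : act 5 n1989 = n2725 := rfl
theorem F4403 : act 0 n2725 = n2253 := d4_1 D2725 (iv D2253) (iv F3241)
theorem F4404 : act 3 n2725 = n2288 := d13_1 D2725 (iv D2288) (iv F3242)
def n2726 : Q := act 3 n1990
theorem D2726 : act 3 n1990 = n2726 := rfl
theorem F4405 : act 0 n2726 = n2254 := d2_1 D2726 (iv D2254) (iv F3243)
theorem F4406 : act 5 n2726 = n2289 := d13_2 (iv F3245) D2726 (iv D2289)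
def n2727 : Q := act 2 n1991
theorem D2727 : act 2 n1991 = n2727 := rfl
theorem F4407 : act 0 n2727 = n1993 := d1_1 D2727 (iv D1993) (iv F3246)
def n2728 : Q := act 4 n1991
theorem D2728 : act 4 n1991 = n2728 := rfl
theorem F4408 : act 0 n2728 = n1994 := d3_1 D2728 (iv D1994) (iv F3246)
theorem F4409 : act 3 n2728 = n2003 := d12_1 D2728 (iv D2003) (iv D1451) (iv F2361) D1991
def n2729 : Q := act 5 n1991
theorem D2729 : act 5 n1991 = n2729 := rfl
theorem F4410 : act 0 n2729 = n1995 := d4_1 D2729 (iv D1995) (iv F3246)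
theorem F4411 : act 3 n2729 = n1992 := d13_1 D2729 (iv D1992) D1991
def n2730 : Q := act 4 n1992
theorem D2730 : act 4 n1992 = n2730 := rfl
theorem F4412 : act 0 n2730 = n1996 := d3_1 D2730 (iv D1996) (iv F3247)
theorem F4413 : act 5 n2730 = n2004 := d14_2 D1992 D2730 (iv D2004) (iv D1452) (iv F2361)
def n2731 : Q := act 1 n1993
theorem D2731 : act 1 n1993 = n2731 := rfl
theorem F4414 : act 2 n2731 = n1997 := d5_2 D1993 D2731 (iv D1997) (iv D1447) (iv F2362)
theorem F4415 : act 5 n2251 = n2731 := d11_0 F4414 F3255 D2251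
def n2732 : Q := act 3 n1993
theorem D2732 : act 3 n1993 = n2732 := rfl
def n2733 : Q := act 4 n1993
theorem D2733 : act 4 n1993 = n2733 := rfl
theorem F4416 : act 2 n2733 = n1994 := d10_1 D2733 (iv D1994) D1993
def n2734 : Q := act 5 n1993
theorem D2734 : act 5 n1993 = n2734 := rfl
theorem F4417 : act 1 n2734 = n2251 := d8_1 D2734 F4415 (iv D2731)
theorem F4418 : act 2 n2734 = n1995 := d11_1 D2734 (iv D1995) D1993
def n2735 : Q := act 5 n1994
theorem D2735 : act 5 n1994 = n2735 := rfl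
theorem F4419 : act 1 n2735 = n1999 := d8_1 D2735 (iv D1999) (iv F3248)
theorem F4420 : act 3 n2735 = n2007 := d13_1 D2735 (iv D2007) (iv F3249)
def n2736 : Q := act 4 n1995
theorem D2736 : act 4 n1995 = n2736 := rfl
theorem F4421 : act 1 n2736 = n2000 := d7_1 D2736 (iv D2000) (iv F3250)
def n2737 : Q := act 3 n1996
theorem D2737 : act 3 n1996 = n2737 := rfl
theorem F4422 : act 1 n2737 = n2001 := d6_1 D2737 (iv D2001) (iv F3252)
theorem F4423 : act 5 n2737 = n2008 := d13_2 (iv F3253) D2737 (iv D2008)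
def n2738 : Q := act 0 n1997
theorem D2738 : act 0 n1997 = n2738 := rfl
theorem F4424 : act 3 n2738 = n2203 := d2_2 (iv F3254) D2738 F3589
theorem F4425 : act 5 n2738 = n2250 := d4_2 (iv F3255) D2738 F3653
def n2739 : Q := act 4 n1997
theorem D2739 : act 4 n1997 = n2739 := rfl
theorem F4426 : act 1 n2739 = n1998 := d7_1 D2739 (iv D1998) D1997
def n2740 : Q := act 3 n1998
theorem D2740 : act 3 n1998 = n2740 := rfl
theorem F4427 : act 4 n2740 = n2254 := d12_2 D1998 D2740 (iv D2254) (iv D1637) (iv F2364)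
def n2741 : Q := act 5 n1998
theorem D2741 : act 5 n1998 = n2741 := rfl
theorem F4428 : act 2 n2741 = n1999 := d11_1 D2741 (iv D1999) (iv F3256)
theorem F4429 : act 4 n2741 = n2253 := d14_1 D2741 (iv D2253) (iv D1636) F2365 D1998
def n2742 : Q := act 4 n1999
theorem D2742 : act 4 n1999 = n2742 := rfl
theorem F4430 : act 2 n2742 = n2253 := d10_1 D2742 (iv F4429) F4428
theorem F4431 : act 5 n2742 = n2000 := d14_2 D1999 D2742 (iv D2000) (iv D1449) D1448
def n2743 : Q := act 3 n2000
theorem D2743 : act 3 n2000 = n2743 := rfl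
theorem F4432 : act 4 n2743 = n2001 := d12_2 D2000 D2743 (iv D2001) (iv D1450) (iv F2368)
def n2744 : Q := act 2 n2001
theorem D2744 : act 2 n2001 = n2744 := rfl
theorem F4433 : act 5 n2744 = n2009 := d11_2 (iv F3259) D2744 (iv D2009)
def n2745 : Q := act 1 n2002
theorem D2745 : act 1 n2002 = n2745 := rfl
def n2746 : Q := act 3 n2002
theorem D2746 : act 3 n2002 = n2746 := rfl
theorem F4434 : act 0 n2746 = n2005 := d2_1 D2746 (iv D2005) (iv F3260)
def n2747 : Q := act 4 n2002
theorem D2747 : act 4 n2002 = n2747 := rfl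
theorem F4435 : act 0 n2747 = n2006 := d3_1 D2747 (iv D2006) (iv F3260)
theorem F4436 : act 2 n2747 = n2003 := d10_1 D2747 (iv D2003) D2002
def n2748 : Q := act 5 n2003
theorem D2748 : act 5 n2003 = n2748 := rfl
theorem F4437 : act 0 n2748 = n2007 := d4_1 D2748 (iv D2007) (iv F3261)
def n2749 : Q := act 3 n2004
theorem D2749 : act 3 n2004 = n2749 := rfl
theorem F4438 : act 0 n2749 = n2008 := d2_1 D2749 (iv D2008) (iv F3262)
def n2750 : Q := act 2 n2005
theorem D2750 : act 2 n2005 = n2750 := rfl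
def n2751 : Q := act 4 n2005
theorem D2751 : act 4 n2005 = n2751 := rfl
def n2752 : Q := act 3 n2006
theorem D2752 : act 3 n2006 = n2752 := rfl
def n2753 : Q := act 5 n2006
theorem D2753 : act 5 n2006 = n2753 := rfl
theorem F4439 : act 2 n2753 = n2007 := d11_1 D2753 (iv D2007) (iv F3263)
def n2754 : Q := act 2 n2008
theorem D2754 : act 2 n2008 = n2754 := rfl
def n2755 : Q := act 1 n2009
theorem D2755 : act 1 n2009 = n2755 := rfl
def n2756 : Q := act 3 n2009
theorem D2756 : act 3 n2009 = n2756 := rfl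
theorem F4440 : act 2 n2756 = n2726 := d15_2 D2009 D2756 (iv D2726) F3244 F2359 (iv F3176) (iv F4298) (iv D2668) F3147
def n2757 : Q := act 4 n2011
theorem D2757 : act 4 n2011 = n2757 := rfl
theorem F4441 : act 0 n2757 = n2012 := d3_1 D2757 (iv D2012) D2011
theorem F4442 : act 1 n2757 = n2424 := d7_1 D2757 (iv D2424) (iv F3267)
theorem F4443 : act 2 n2757 = n2015 := d10_1 D2757 (iv D2015) (iv F3268)
def n2758 : Q := act 3 n2012
theorem D2758 : act 3 n2012 = n2758 := rfl
theorem F4444 : act 1 n2758 = n2013 := d6_1 D2758 (iv D2013) (iv F3270)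
def n2759 : Q := act 5 n2012
theorem D2759 : act 5 n2012 = n2759 := rfl
theorem F4445 : act 1 n2759 = n2014 := d8_1 D2759 (iv D2014) (iv F3270)
theorem F4446 : act 2 n2759 = n2017 := d11_1 D2759 (iv D2017) (iv F3271)
theorem F4447 : act 4 n2759 = n2719 := d14_1 D2759 (iv D2719) (iv D1984) (iv F2377) D2012
def n2760 : Q := act 2 n2013
theorem D2760 : act 2 n2013 = n2760 := rfl
def n2761 : Q := act 5 n2013
theorem D2761 : act 5 n2013 = n2761 := rfl
theorem F4448 : act 3 n2761 = n2014 := d13_1 D2761 (iv D2014) D2013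
def n2762 : Q := act 3 n2015
theorem D2762 : act 3 n2015 = n2762 := rfl
theorem F4449 : act 0 n2762 = n2016 := d2_1 D2762 (iv D2016) (iv F3273)
theorem F4450 : act 1 n2762 = n2405 := d6_1 D2762 (iv D2405) (iv F3274)
theorem F4451 : act 4 n2762 = n2404 := d12_2 D2015 D2762 (iv D2404) (iv D1749) (iv F2381)
def n2763 : Q := act 5 n2015
theorem D2763 : act 5 n2015 = n2763 := rfl
theorem F4452 : act 0 n2763 = n2017 := d4_1 D2763 (iv D2017) (iv F3273)
theorem F4453 : act 1 n2763 = n2406 := d8_1 D2763 (iv D2406) (iv F3274)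
theorem F4454 : act 4 n2763 = n2716 := d14_1 D2763 (iv D2716) (iv D1982) (iv F2382) D2015
def n2764 : Q := act 2 n2016
theorem D2764 : act 2 n2016 = n2764 := rfl
theorem F4455 : act 4 n2764 = n2628 := d10_2 (iv F3276) D2764 (iv D2628)
def n2765 : Q := act 5 n2016
theorem D2765 : act 5 n2016 = n2765 := rfl
theorem F4456 : act 1 n2765 = n2019 := d8_1 D2765 (iv D2019) (iv F3275)
theorem F4457 : act 3 n2765 = n2017 := d13_1 D2765 (iv D2017) D2016
def n2766 : Q := act 1 n2018
theorem D2766 : act 1 n2018 = n2766 := rfl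
theorem F4458 : act 4 n2766 = n2629 := d7_2 (iv F3280) D2766 (iv D2629)
def n2767 : Q := act 3 n2018
theorem D2767 : act 3 n2018 = n2767 := rfl
theorem F4459 : act 0 n2767 = n2692 := d2_1 D2767 (iv D2692) (iv F3279)
theorem F4460 : act 4 n2767 = n2684 := d12_2 (iv F3280) D2767 (iv D2684) F3180 (iv F3110)
def n2768 : Q := act 5 n2018
theorem D2768 : act 5 n2018 = n2768 := rfl
theorem F4461 : act 0 n2768 = n2693 := d4_1 D2768 (iv D2693) (iv F3279)
theorem F4462 : act 2 n2768 = n2019 := d11_1 D2768 (iv D2019) D2018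
theorem F4463 : act 4 n2768 = n2689 := d14_1 D2768 (iv D2689) (iv D1960) (iv F3111) (iv F3280)
def n2769 : Q := act 4 n2019
theorem D2769 : act 4 n2019 = n2769 := rfl
theorem F4464 : act 0 n2769 = n2387 := d3_1 D2769 F3873 (iv F3281)
theorem F4465 : act 2 n2769 = n2689 := d10_1 D2769 (iv F4463) F4462
theorem F4466 : act 3 n2769 = n2304 := d12_1 D2769 F3764 F2807 (iv F2388) (iv F3282)
theorem F4467 : act 5 n2769 = n2303 := d14_2 D2019 D2769 F3760 F2809 (iv F2385)
def n2770 : Q := act 2 n2020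
theorem D2770 : act 2 n2020 = n2770 := rfl
theorem F4468 : act 0 n2770 = n2024 := d1_1 D2770 (iv D2024) (iv F3283)
def n2771 : Q := act 5 n2020
theorem D2771 : act 5 n2020 = n2771 := rfl
theorem F4469 : act 0 n2771 = n2025 := d4_1 D2771 (iv D2025) (iv F3283)
theorem F4470 : act 1 n2771 = n2030 := d8_1 D2771 F3302 (iv F3284)
theorem F4471 : act 3 n2771 = n2021 := d13_1 D2771 (iv D2021) D2020
def n2772 : Q := act 2 n2022
theorem D2772 : act 2 n2022 = n2772 := rfl
theorem F4472 : act 4 n2772 = n2024 := d10_2 (iv F3289) D2772 (iv D2024)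
def n2773 : Q := act 5 n2022
theorem D2773 : act 5 n2022 = n2773 := rfl
theorem F4473 : act 1 n2773 = n2027 := d8_1 D2773 (iv D2027) (iv F3288)
theorem F4474 : act 3 n2773 = n2023 := d13_1 D2773 (iv D2023) D2022
def n2774 : Q := act 1 n2024
theorem D2774 : act 1 n2024 = n2774 := rfl
theorem F4475 : act 2 n2774 = n2028 := d5_2 D2024 D2774 (iv D2028) (iv D1472) (iv F2392)
theorem F4476 : act 5 n2092 = n2774 := d11_0 F4475 F3298 D2092
def n2775 : Q := act 3 n2024
theorem D2775 : act 3 n2024 = n2775 := rfl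
def n2776 : Q := act 5 n2024
theorem D2776 : act 5 n2024 = n2776 := rfl
theorem F4477 : act 1 n2776 = n2092 := d8_1 D2776 F4476 (iv D2774)
theorem F4478 : act 2 n2776 = n2025 := d11_1 D2776 (iv D2025) D2024
def n2777 : Q := act 4 n2025
theorem D2777 : act 4 n2025 = n2777 := rfl
theorem F4479 : act 1 n2777 = n2029 := d7_1 D2777 (iv D2029) (iv F3291)
def n2778 : Q := act 1 n2026
theorem D2778 : act 1 n2026 = n2778 := rfl
theorem F4480 : act 4 n2778 = n2028 := d7_2 (iv F3294) D2778 (iv D2028)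
def n2779 : Q := act 3 n2026
theorem D2779 : act 3 n2026 = n2779 := rfl
theorem F4481 : act 0 n2779 = n2046 := d2_1 D2779 (iv D2046) (iv F3293)
theorem F4482 : act 4 n2779 = n2096 := d12_2 (iv F3294) D2779 (iv D2096) (iv D1520) (iv F2398)
def n2780 : Q := act 5 n2026
theorem D2780 : act 5 n2026 = n2780 := rfl
theorem F4483 : act 0 n2780 = n2047 := d4_1 D2780 (iv D2047) (iv F3293)
theorem F4484 : act 2 n2780 = n2027 := d11_1 D2780 (iv D2027) D2026
theorem F4485 : act 4 n2780 = n2095 := d14_1 D2780 (iv D2095) (iv D1519) F2399 (iv F3294)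
def n2781 : Q := act 4 n2027
theorem D2781 : act 4 n2027 = n2781 := rfl
theorem F4486 : act 0 n2781 = n2048 := d3_1 D2781 (iv D2048) (iv F3295)
theorem F4487 : act 2 n2781 = n2095 := d10_1 D2781 (iv F4485) F4484
theorem F4488 : act 5 n2781 = n2029 := d14_2 D2027 D2781 (iv D2029) (iv D1473) (iv F2395)
def n2782 : Q := act 0 n2028
theorem D2782 : act 0 n2028 = n2782 := rfl
theorem F4489 : act 1 n2782 = n2049 := d0_2 D2028 D2782 (iv D2049) (iv D1487) (iv F2397)
theorem F4490 : act 3 n2782 = n2091 := d2_2 (iv F3297) D2782 F3392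
theorem F4491 : act 5 n2782 = n2090 := d4_2 (iv F3298) D2782 F3391
def n2783 : Q := act 3 n2029
theorem D2783 : act 3 n2029 = n2783 := rfl
theorem F4492 : act 0 n2783 = n2040 := d2_1 D2783 F3314 (iv F3299)
theorem F4493 : act 4 n2783 = n2030 := d12_2 D2029 D2783 (iv D2030) (iv D1474) (iv F2402)
def n2784 : Q := act 2 n2030
theorem D2784 : act 2 n2030 = n2784 := rfl
theorem F4494 : act 0 n2784 = n2039 := d1_1 D2784 F3312 (iv F3301)
theorem F4495 : act 3 n2784 = n2056 := d9_2 D2030 D2784 (iv D2056) (iv D1492) (iv D1071) (iv D767) (iv F1279) D1063 D1480 D2038 (iv F4355) (iv D2699) F3198 F2324 (iv F2404)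
theorem F4496 : act 5 n2784 = n2031 := d11_2 (iv F3302) D2784 (iv D2031)
def n2785 : Q := act 1 n2031
theorem D2785 : act 1 n2031 = n2785 := rfl
def n2786 : Q := act 0 n2032
theorem D2786 : act 0 n2032 = n2786 := rfl
theorem F4497 : act 1 n2786 = n2054 := d0_2 D2032 D2786 (iv D2054) (iv D1491) (iv F2407)
theorem F4498 : act 4 n2786 = n2034 := d3_2 (iv F3304) D2786 (iv D2034)
theorem F4499 : act 5 n2786 = n2246 := d4_2 F4350 D2786 (iv F4347)
def n2787 : Q := act 3 n2032
theorem D2787 : act 3 n2032 = n2787 := rfl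
theorem F4500 : act 1 n2787 = n2033 := d6_1 D2787 (iv D2033) D2032
def n2788 : Q := act 2 n2033
theorem D2788 : act 2 n2033 = n2788 := rfl
theorem F4501 : act 0 n2788 = n2056 := d1_1 D2788 (iv D2056) (iv F3305)
theorem F4502 : act 3 n2788 = n2039 := d9_2 D2033 D2788 F3312 F2416 F1758 (iv F1704) (iv F2335) D1976 D2710 F4375 (iv D2031) (iv D1475) F1747 D1060 D1476
theorem F4503 : act 5 n2788 = n2038 := d11_2 F4354 D2788 (iv F4355)
def n2789 : Q := act 1 n2035
theorem D2789 : act 1 n2035 = n2789 := rfl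
theorem F4504 : act 2 n2789 = n2045 := d5_2 D2035 D2789 (iv D2045) (iv D1485) (iv F2410)
theorem F4505 : act 4 n2789 = n2037 := d7_2 (iv F3308) D2789 (iv D2037)
def n2790 : Q := act 3 n2035
theorem D2790 : act 3 n2035 = n2790 := rfl
def n2791 : Q := act 5 n2035
theorem D2791 : act 5 n2035 = n2791 := rfl
theorem F4506 : act 2 n2791 = n2036 := d11_1 D2791 (iv D2036) D2035
def n2792 : Q := act 4 n2036
theorem D2792 : act 4 n2036 = n2792 := rfl
theorem F4507 : act 1 n2792 = n2048 := d7_1 D2792 (iv D2048) (iv F3309)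
theorem F4508 : act 3 n2792 = n2048 := d12_1 D2792 (iv D2048) F2426 (iv F2414) (iv F3310)
theorem F4509 : act 5 n2792 = n2040 := d14_2 D2036 D2792 (iv D2040) (iv D1481) (iv F2411)
def n2793 : Q := act 0 n2037
theorem D2793 : act 0 n2037 = n2793 := rfl
theorem F4510 : act 2 n2793 = n2049 := d1_2 (iv F3311) D2793 (iv D2049)
def n2794 : Q := act 3 n2037
theorem D2794 : act 3 n2037 = n2794 := rfl
theorem F4511 : act 1 n2794 = n2038 := d6_1 D2794 (iv D2038) D2037
def n2795 : Q := act 5 n2037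
theorem D2795 : act 5 n2037 = n2795 := rfl
theorem F4512 : act 1 n2795 = n2039 := d8_1 D2795 (iv D2039) D2037
theorem F4513 : act 2 n2795 = n2051 := d11_1 D2795 (iv D2051) (iv F3311)
def n2796 : Q := act 4 n2038
theorem D2796 : act 4 n2038 = n2796 := rfl
def n2797 : Q := act 4 n2039
theorem D2797 : act 4 n2039 = n2797 := rfl
theorem F4514 : act 2 n2797 = n2040 := d10_1 D2797 (iv D2040) (iv F3312)
def n2798 : Q := act 2 n2041
theorem D2798 : act 2 n2041 = n2798 := rfl
theorem F4515 : act 0 n2798 = n2772 := d1_1 D2798 (iv D2772) (iv F3315)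
theorem F4516 : act 4 n2798 = n2770 := d10_2 (iv F3317) D2798 (iv D2770)
def n2799 : Q := act 5 n2041
theorem D2799 : act 5 n2041 = n2799 := rfl
theorem F4517 : act 0 n2799 = n2773 := d4_1 D2799 (iv D2773) (iv F3315)
theorem F4518 : act 1 n2799 = n2044 := d8_1 D2799 (iv D2044) (iv F3316)
theorem F4519 : act 3 n2799 = n2042 := d13_1 D2799 (iv D2042) D2041
def n2800 : Q := act 1 n2043
theorem D2800 : act 1 n2043 = n2800 := rfl
theorem F4520 : act 4 n2800 = n2785 := d7_2 (iv F3323) D2800 (iv D2785)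
def n2801 : Q := act 3 n2043
theorem D2801 : act 3 n2043 = n2801 := rfl
theorem F4521 : act 0 n2801 = n2790 := d2_1 D2801 (iv D2790) (iv F3322)
def n2802 : Q := act 5 n2043
theorem D2802 : act 5 n2043 = n2802 := rfl
theorem F4522 : act 0 n2802 = n2791 := d4_1 D2802 (iv D2791) (iv F3322)
theorem F4523 : act 2 n2802 = n2044 := d11_1 D2802 (iv D2044) D2043
def n2803 : Q := act 4 n2044
theorem D2803 : act 4 n2044 = n2803 := rfl
theorem F4524 : act 0 n2803 = n2792 := d3_1 D2803 (iv D2792) (iv F3324)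
theorem F4525 : act 3 n2803 = n2781 := d12_1 D2803 (iv D2781) F3296 (iv F2424) (iv F3325)
theorem F4526 : act 5 n2803 = n2783 := d14_2 D2044 D2803 F4493 F3302 (iv F2421)
def n2804 : Q := act 0 n2045
theorem D2804 : act 0 n2045 = n2804 := rfl
theorem F4527 : act 4 n2804 = n2049 := d3_2 (iv F3326) D2804 (iv D2049)
def n2805 : Q := act 3 n2045
theorem D2805 : act 3 n2045 = n2805 := rfl
theorem F4528 : act 1 n2805 = n2046 := d6_1 D2805 (iv D2046) D2045
def n2806 : Q := act 5 n2045
theorem D2806 : act 5 n2045 = n2806 := rfl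
theorem F4529 : act 1 n2806 = n2047 := d8_1 D2806 (iv D2047) D2045
def n2807 : Q := act 2 n2046
theorem D2807 : act 2 n2046 = n2807 := rfl
theorem F4530 : act 3 n2807 = n2791 := d15_3 D1485 D2046 D2807 F4506 F3310 F2413 (iv F3296) (iv D2027) F2394
theorem F4531 : act 5 n2790 = n2807 := d13_0 F4530 (iv D2791) D2790
def n2808 : Q := act 4 n2046
theorem D2808 : act 4 n2046 = n2808 := rfl
theorem F4532 : act 0 n2808 = n2096 := d3_1 D2808 (iv F4482) F4481
theorem F4533 : act 3 n2808 = n2052 := d12_1 D2808 (iv D2052) (iv D1488) (iv F2425) D2046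
def n2809 : Q := act 5 n2046
theorem D2809 : act 5 n2046 = n2809 := rfl
theorem F4534 : act 2 n2809 = n2790 := d11_1 D2809 F4531 (iv D2807)
theorem F4535 : act 3 n2809 = n2047 := d13_1 D2809 (iv D2047) D2046
def n2810 : Q := act 4 n2047
theorem D2810 : act 4 n2047 = n2810 := rfl
theorem F4536 : act 0 n2810 = n2095 := d3_1 D2810 (iv F4485) F4483
theorem F4537 : act 2 n2810 = n2048 := d10_1 D2810 (iv D2048) (iv F3327)
theorem F4538 : act 5 n2810 = n2053 := d14_2 D2047 D2810 (iv D2053) (iv D1489) (iv F2425)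
def n2811 : Q := act 3 n2049
theorem D2811 : act 3 n2049 = n2811 := rfl
theorem F4539 : act 0 n2811 = n2050 := d2_1 D2811 (iv D2050) D2049
theorem F4540 : act 1 n2811 = n2091 := d6_1 D2811 (iv F4490) F4489
theorem F4541 : act 5 n2072 = n2811 := d8_0 F4540 (iv D2091) (iv F3362)
def n2812 : Q := act 5 n2049
theorem D2812 : act 5 n2049 = n2812 := rfl
theorem F4542 : act 0 n2812 = n2051 := d4_1 D2812 (iv D2051) D2049
theorem F4543 : act 1 n2812 = n2090 := d8_1 D2812 (iv F4491) F4489
theorem F4544 : act 3 n2812 = n2072 := d13_1 D2812 F4541 (iv D2811)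
def n2813 : Q := act 2 n2050
theorem D2813 : act 2 n2050 = n2813 := rfl
theorem F4545 : act 1 n2813 = n2066 := d5_1 D2813 F3354 F2449 (iv F2428) (iv F3329)
theorem F4546 : act 5 n2813 = n2064 := d11_2 F3330 D2813 F3353
def n2814 : Q := act 4 n2050
theorem D2814 : act 4 n2050 = n2814 := rfl
theorem F4547 : act 1 n2814 = n2052 := d7_1 D2814 (iv D2052) (iv F3329)
def n2815 : Q := act 4 n2051
theorem D2815 : act 4 n2051 = n2815 := rfl
theorem F4548 : act 1 n2815 = n2053 := d7_1 D2815 (iv D2053) (iv F3331)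
def n2816 : Q := act 5 n2052
theorem D2816 : act 5 n2052 = n2816 := rfl
theorem F4549 : act 0 n2816 = n2089 := d4_1 D2816 F3390 (iv F3333)
theorem F4550 : act 2 n2816 = n2071 := d11_1 D2816 F3361 (iv F3334)
theorem F4551 : act 4 n2816 = n2070 := d14_1 D2816 (iv D2070) F2452 (iv F2429) D2052
def n2817 : Q := act 3 n2053
theorem D2817 : act 3 n2053 = n2817 := rfl
theorem F4552 : act 0 n2817 = n2087 := d2_1 D2817 F3386 (iv F3335)
theorem F4553 : act 4 n2817 = n2069 := d12_2 D2053 D2817 (iv D2069) F2452 (iv F2432)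
def n2818 : Q := act 3 n2054
theorem D2818 : act 3 n2054 = n2818 := rfl
theorem F4554 : act 0 n2818 = n2055 := d2_1 D2818 (iv D2055) D2054
theorem F4555 : act 5 n2818 = n2247 := d13_2 (iv F3339) D2818 (iv D2247)
theorem F4556 : act 2 n2818 = n2219 := d15_2 (iv F3337) D2818 (iv D2219) (iv D1609) (iv D1155) F1389 D840 (iv F1774) D1496
def n2819 : Q := act 2 n2055
theorem D2819 : act 2 n2055 = n2819 := rfl
theorem F4557 : act 0 n2819 = n2219 := d1_1 D2819 (iv F4556) F4554
theorem F4558 : act 5 n2819 = n2248 := d11_2 (iv F3341) D2819 (iv D2248)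
theorem F4559 : act 3 n2819 = n2216 := d15_1 D2819 (iv D2216) (iv D1608) F1903 D1173 D1632 D2247 (iv F4555) F4554
def n2820 : Q := act 4 n2055
theorem D2820 : act 4 n2055 = n2820 := rfl
theorem F4560 : act 1 n2820 = n2057 := d7_1 D2820 (iv D2057) (iv F3340)
theorem F4561 : act 3 n2820 = n2060 := d12_1 D2820 (iv D2060) (iv D1494) (iv F2434) D2055
def n2821 : Q := act 1 n2056
theorem D2821 : act 1 n2056 = n2821 := rfl
def n2822 : Q := act 4 n2056
theorem D2822 : act 4 n2056 = n2822 := rfl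
theorem F4562 : act 2 n2822 = n2057 := d10_1 D2822 (iv D2057) D2056
def n2823 : Q := act 5 n2057
theorem D2823 : act 5 n2057 = n2823 := rfl
theorem F4563 : act 3 n2823 = n2061 := d13_1 D2823 (iv D2061) (iv F3342)
def n2824 : Q := act 2 n2058
theorem D2824 : act 2 n2058 = n2824 := rfl
theorem F4564 : act 0 n2824 = n2059 := d1_1 D2824 (iv D2059) (iv F3343)
theorem F4565 : act 3 n2824 = n2110 := d9_2 D2058 D2824 (iv D2110) (iv D1529) (iv D1099) (iv D786) (iv F1312) D1095 D1522 D2100 F3401 (iv D1891) F2244 (iv F1775) (iv F2436)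
theorem F4566 : act 5 n2824 = n2097 := d11_2 (iv F3344) D2824 (iv D2097)
def n2825 : Q := act 4 n2058
theorem D2825 : act 4 n2058 = n2825 := rfl
theorem F4567 : act 0 n2825 = n2060 := d3_1 D2825 (iv D2060) (iv F3343)
def n2826 : Q := act 3 n2059
theorem D2826 : act 3 n2059 = n2826 := rfl
theorem F4568 : act 0 n2826 = n2110 := d2_1 D2826 (iv F4565) F4564
theorem F4569 : act 2 n2826 = n2108 := d9_1 D2826 (iv D2108) (iv D1527) (iv D1098) (iv F1802) D1521 D2097 F3396 (iv D1892) (iv D1372) F1631 (iv F1292) (iv F1769) D1494 D2059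
theorem F4570 : act 5 n2826 = n2100 := d13_2 (iv F3345) D2826 (iv D2100)
def n2827 : Q := act 4 n2059
theorem D2827 : act 4 n2059 = n2827 := rfl
theorem F4571 : act 2 n2827 = n2060 := d10_1 D2827 (iv D2060) D2059
def n2828 : Q := act 5 n2060
theorem D2828 : act 5 n2060 = n2828 := rfl
theorem F4572 : act 1 n2828 = n2061 := d8_1 D2828 (iv D2061) (iv F3346)
theorem F4573 : act 4 n2828 = n2102 := d14_1 D2828 (iv D2102) (iv D1523) (iv F2439) D2060
def n2829 : Q := act 1 n2062
theorem D2829 : act 1 n2062 = n2829 := rfl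
theorem F4574 : act 2 n2829 = n2068 := d5_2 D2062 D2829 (iv D2068) (iv D1501) (iv F2444)
theorem F4575 : act 4 n2829 = n2064 := d7_2 (iv F3349) D2829 (iv D2064)
def n2830 : Q := act 3 n2062
theorem D2830 : act 3 n2062 = n2830 := rfl
theorem F4576 : act 0 n2830 = n2652 := d2_1 D2830 (iv D2652) (iv F3348)
def n2831 : Q := act 5 n2062
theorem D2831 : act 5 n2062 = n2831 := rfl
theorem F4577 : act 0 n2831 = n2653 := d4_1 D2831 (iv D2653) (iv F3348)
theorem F4578 : act 2 n2831 = n2063 := d11_1 D2831 (iv D2063) D2062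
def n2832 : Q := act 4 n2063
theorem D2832 : act 4 n2063 = n2832 := rfl
theorem F4579 : act 0 n2832 = n2654 := d3_1 D2832 (iv D2654) (iv F3350)
theorem F4580 : act 1 n2832 = n2071 := d7_1 D2832 (iv D2071) (iv F3351)
theorem F4581 : act 5 n2832 = n2067 := d14_2 D2063 D2832 (iv D2067) (iv D1500) (iv F2445)
def n2833 : Q := act 0 n2064
theorem D2833 : act 0 n2064 = n2833 := rfl
theorem F4582 : act 2 n2833 = n2072 := d1_2 (iv F3353) D2833 (iv D2072)
def n2834 : Q := act 3 n2064
theorem D2834 : act 3 n2064 = n2834 := rfl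
theorem F4583 : act 1 n2834 = n2065 := d6_1 D2834 (iv D2065) D2064
def n2835 : Q := act 2 n2065
theorem D2835 : act 2 n2065 = n2835 := rfl
theorem F4584 : act 3 n2835 = n2130 := d15_3 D1499 D2065 D2835 (iv D2130) (iv D1541) (iv F2261) D1905 F3089 F2263
theorem F4585 : act 5 n2132 = n2835 := d13_0 F4584 F3453 D2132
def n2836 : Q := act 4 n2065
theorem D2836 : act 4 n2065 = n2836 := rfl
def n2837 : Q := act 5 n2065
theorem D2837 : act 5 n2065 = n2837 := rfl
theorem F4586 : act 2 n2837 = n2132 := d11_1 D2837 F4585 (iv D2835)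
theorem F4587 : act 3 n2837 = n2066 := d13_1 D2837 (iv D2066) D2065
def n2838 : Q := act 4 n2066
theorem D2838 : act 4 n2066 = n2838 := rfl
theorem F4588 : act 2 n2838 = n2067 := d10_1 D2838 (iv D2067) (iv F3354)
def n2839 : Q := act 0 n2068
theorem D2839 : act 0 n2068 = n2839 := rfl
theorem F4589 : act 1 n2839 = n2083 := d0_2 D2068 D2839 (iv D2083) (iv D1512) (iv F2451)
theorem F4590 : act 4 n2839 = n2072 := d3_2 (iv F3356) D2839 (iv D2072)
def n2840 : Q := act 3 n2068
theorem D2840 : act 3 n2068 = n2840 := rfl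
theorem F4591 : act 1 n2840 = n2069 := d6_1 D2840 (iv D2069) D2068
def n2841 : Q := act 5 n2068
theorem D2841 : act 5 n2068 = n2841 := rfl
theorem F4592 : act 1 n2841 = n2070 := d8_1 D2841 (iv D2070) D2068
def n2842 : Q := act 2 n2069
theorem D2842 : act 2 n2069 = n2842 := rfl
theorem F4593 : act 0 n2842 = n2086 := d1_1 D2842 (iv D2086) (iv F3357)
theorem F4594 : act 3 n2842 = n2081 := d9_2 D2069 D2842 F3377 F2470 F1797 (iv F1800) (iv F2472) (iv F3388) F3387 (iv D1922) (iv D1393) (iv D1002) (iv F1299) D1079 D1501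
theorem F4595 : act 5 n2080 = n2842 := d13_0 F4594 (iv D2081) D2080
def n2843 : Q := act 5 n2069
theorem D2843 : act 5 n2069 = n2843 := rfl
theorem F4596 : act 0 n2843 = n2088 := d4_1 D2843 (iv D2088) (iv F3357)
theorem F4597 : act 2 n2843 = n2080 := d11_1 D2843 F4595 (iv D2842)
theorem F4598 : act 3 n2843 = n2070 := d13_1 D2843 (iv D2070) D2069
def n2844 : Q := act 2 n2073
theorem D2844 : act 2 n2073 = n2844 := rfl
theorem F4599 : act 0 n2844 = n2074 := d1_1 D2844 (iv D2074) (iv F3363)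
def n2845 : Q := act 4 n2073
theorem D2845 : act 4 n2073 = n2845 := rfl
theorem F4600 : act 0 n2845 = n2075 := d3_1 D2845 (iv D2075) (iv F3363)
theorem F4601 : act 1 n2845 = n2098 := d7_1 D2845 (iv D2098) (iv F3364)
def n2846 : Q := act 3 n2074
theorem D2846 : act 3 n2074 = n2846 := rfl
theorem F4602 : act 1 n2846 = n2826 := d6_1 D2846 (iv D2826) (iv F3365)
def n2847 : Q := act 4 n2074
theorem D2847 : act 4 n2074 = n2847 := rfl
theorem F4603 : act 1 n2847 = n2827 := d7_1 D2847 (iv D2827) (iv F3365)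
theorem F4604 : act 2 n2847 = n2075 := d10_1 D2847 (iv D2075) D2074
def n2848 : Q := act 5 n2075
theorem D2848 : act 5 n2075 = n2848 := rfl
theorem F4605 : act 1 n2848 = n2076 := d8_1 D2848 (iv D2076) (iv F3366)
def n2849 : Q := act 1 n2077
theorem D2849 : act 1 n2077 = n2849 := rfl
theorem F4606 : act 2 n2849 = n2079 := d5_2 D2077 D2849 (iv D2079) (iv D1510) (iv F2461)
theorem F4607 : act 4 n2849 = n2602 := d7_2 (iv F3370) D2849 (iv D2602)
def n2850 : Q := act 3 n2077
theorem D2850 : act 3 n2077 = n2850 := rfl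
theorem F4608 : act 0 n2850 = n2607 := d2_1 D2850 (iv D2607) (iv F3369)
def n2851 : Q := act 5 n2077
theorem D2851 : act 5 n2077 = n2851 := rfl
theorem F4609 : act 0 n2851 = n2608 := d4_1 D2851 (iv D2608) (iv F3369)
theorem F4610 : act 2 n2851 = n2078 := d11_1 D2851 (iv D2078) D2077
def n2852 : Q := act 4 n2078
theorem D2852 : act 4 n2078 = n2852 := rfl
theorem F4611 : act 0 n2852 = n2609 := d3_1 D2852 (iv D2609) (iv F3371)
theorem F4612 : act 1 n2852 = n2082 := d7_1 D2852 (iv D2082) (iv F3372)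
theorem F4613 : act 3 n2852 = n2832 := d12_1 D2852 (iv D2832) F3352 (iv F2466) (iv F3373)
theorem F4614 : act 5 n2852 = n2605 := d14_2 D2078 D2852 (iv D2605) (iv D1898) (iv F2462)
def n2853 : Q := act 0 n2079
theorem D2853 : act 0 n2079 = n2853 := rfl
theorem F4615 : act 1 n2853 = n2635 := d0_2 D2079 D2853 (iv D2635) (iv D1921) (iv F2467)
theorem F4616 : act 4 n2853 = n2630 := d3_2 (iv F3374) D2853 (iv D2630)
def n2854 : Q := act 3 n2079
theorem D2854 : act 3 n2079 = n2854 := rfl
theorem F4617 : act 1 n2854 = n2080 := d6_1 D2854 (iv D2080) D2079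
def n2855 : Q := act 5 n2079
theorem D2855 : act 5 n2079 = n2855 := rfl
theorem F4618 : act 1 n2855 = n2081 := d8_1 D2855 (iv D2081) D2079
def n2856 : Q := act 4 n2080
theorem D2856 : act 4 n2080 = n2856 := rfl
theorem F4619 : act 0 n2856 = n2638 := d3_1 D2856 (iv D2638) (iv F3375)
theorem F4620 : act 3 n2856 = n2633 := d12_1 D2856 (iv D2633) (iv D1918) (iv F2468) D2080
def n2857 : Q := act 4 n2081
theorem D2857 : act 4 n2081 = n2857 := rfl
theorem F4621 : act 0 n2857 = n2639 := d3_1 D2857 (iv D2639) (iv F3376)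
theorem F4622 : act 2 n2857 = n2082 := d10_1 D2857 (iv D2082) (iv F3377)
theorem F4623 : act 5 n2857 = n2634 := d14_2 D2081 D2857 (iv D2634) (iv D1919) (iv F2468)
def n2858 : Q := act 3 n2083
theorem D2858 : act 3 n2083 = n2858 := rfl
theorem F4624 : act 0 n2858 = n2084 := d2_1 D2858 (iv D2084) D2083
def n2859 : Q := act 5 n2083
theorem D2859 : act 5 n2083 = n2859 := rfl
theorem F4625 : act 0 n2859 = n2085 := d4_1 D2859 (iv D2085) D2083
def n2860 : Q := act 2 n2084
theorem D2860 : act 2 n2084 = n2860 := rfl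
def n2861 : Q := act 4 n2084
theorem D2861 : act 4 n2084 = n2861 := rfl
theorem F4626 : act 1 n2861 = n2087 := d7_1 D2861 (iv D2087) (iv F3382)
theorem F4627 : act 3 n2861 = n2093 := d12_1 D2861 (iv D2093) (iv D1517) (iv F2471) D2084
def n2862 : Q := act 5 n2084
theorem D2862 : act 5 n2084 = n2862 := rfl
theorem F4628 : act 1 n2862 = n2088 := d8_1 D2862 (iv D2088) (iv F3382)
theorem F4629 : act 3 n2862 = n2085 := d13_1 D2862 (iv D2085) D2084
def n2863 : Q := act 4 n2085
theorem D2863 : act 4 n2085 = n2863 := rfl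
theorem F4630 : act 1 n2863 = n2089 := d7_1 D2863 (iv D2089) (iv F3383)
theorem F4631 : act 5 n2863 = n2094 := d14_2 D2085 D2863 (iv D2094) (iv D1518) (iv F2471)
def n2864 : Q := act 1 n2086
theorem D2864 : act 1 n2086 = n2864 := rfl
theorem F4632 : act 3 n2864 = n2637 := d6_2 (iv F3384) D2864 F4255
theorem F4633 : act 5 n2864 = n2636 := d8_2 F3385 D2864 F4254
def n2865 : Q := act 4 n2086
theorem D2865 : act 4 n2086 = n2865 := rfl
theorem F4634 : act 2 n2865 = n2087 := d10_1 D2865 (iv D2087) D2086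
def n2866 : Q := act 5 n2087
theorem D2866 : act 5 n2087 = n2866 := rfl
theorem F4635 : act 3 n2866 = n2095 := d13_1 D2866 (iv D2095) (iv F3386)
def n2867 : Q := act 4 n2088
theorem D2867 : act 4 n2088 = n2867 := rfl
theorem F4636 : act 2 n2867 = n2638 := d10_1 D2867 (iv D2638) (iv F3387)
def n2868 : Q := act 3 n2089
theorem D2868 : act 3 n2089 = n2868 := rfl
theorem F4637 : act 5 n2868 = n2096 := d13_2 (iv F3390) D2868 (iv D2096)
def n2869 : Q := act 2 n2090
theorem D2869 : act 2 n2090 = n2869 := rfl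
theorem F4638 : act 0 n2869 = n2092 := d1_1 D2869 (iv D2092) (iv F3391)
def n2870 : Q := act 4 n2090
theorem D2870 : act 4 n2090 = n2870 := rfl
theorem F4639 : act 0 n2870 = n2093 := d3_1 D2870 (iv D2093) (iv F3391)
def n2871 : Q := act 4 n2091
theorem D2871 : act 4 n2091 = n2871 := rfl
theorem F4640 : act 0 n2871 = n2094 := d3_1 D2871 (iv D2094) (iv F3392)
def n2872 : Q := act 3 n2092
theorem D2872 : act 3 n2092 = n2872 := rfl
def n2873 : Q := act 4 n2092
theorem D2873 : act 4 n2092 = n2873 := rfl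
theorem F4641 : act 2 n2873 = n2093 := d10_1 D2873 (iv D2093) D2092
def n2874 : Q := act 5 n2093
theorem D2874 : act 5 n2093 = n2874 := rfl
theorem F4642 : act 1 n2874 = n2095 := d8_1 D2874 (iv D2095) (iv F3393)
def n2875 : Q := act 3 n2094
theorem D2875 : act 3 n2094 = n2875 := rfl
theorem F4643 : act 1 n2875 = n2096 := d6_1 D2875 (iv D2096) (iv F3394)
def n2876 : Q := act 2 n2096
theorem D2876 : act 2 n2096 = n2876 := rfl
def n2877 : Q := act 1 n2097
theorem D2877 : act 1 n2097 = n2877 := rfl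
theorem F4644 : act 3 n2877 = n2595 := d6_2 (iv F3396) D2877 (iv D2595)
def n2878 : Q := act 4 n2097
theorem D2878 : act 4 n2097 = n2878 := rfl
theorem F4645 : act 0 n2878 = n2101 := d3_1 D2878 (iv D2101) (iv F3395)
theorem F4646 : act 2 n2878 = n2098 := d10_1 D2878 (iv D2098) D2097
def n2879 : Q := act 5 n2098
theorem D2879 : act 5 n2098 = n2879 := rfl
theorem F4647 : act 0 n2879 = n2102 := d4_1 D2879 (iv D2102) (iv F3397)
def n2880 : Q := act 0 n2099
theorem D2880 : act 0 n2099 = n2880 := rfl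
theorem F4648 : act 2 n2880 = n2103 := d1_2 (iv F3398) D2880 (iv D2103)
theorem F4649 : act 5 n2880 = n2844 := d4_2 (iv F3399) D2880 F4599
def n2881 : Q := act 3 n2099
theorem D2881 : act 3 n2099 = n2881 := rfl
theorem F4650 : act 1 n2881 = n2100 := d6_1 D2881 (iv D2100) D2099
theorem F4651 : act 5 n2881 = n2846 := d13_2 (iv F3399) D2881 (iv D2846)
def n2882 : Q := act 4 n2099
theorem D2882 : act 4 n2099 = n2882 := rfl
theorem F4652 : act 1 n2882 = n2101 := d7_1 D2882 (iv D2101) D2099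
theorem F4653 : act 2 n2882 = n2104 := d10_1 D2882 (iv D2104) (iv F3398)
def n2883 : Q := act 4 n2100
theorem D2883 : act 4 n2100 = n2883 := rfl
theorem F4654 : act 0 n2883 = n2596 := d3_1 D2883 (iv D2596) (iv F3400)
theorem F4655 : act 2 n2883 = n2594 := d10_1 D2883 (iv D2594) (iv F3401)
def n2884 : Q := act 3 n2101
theorem D2884 : act 3 n2101 = n2884 := rfl
def n2885 : Q := act 5 n2101
theorem D2885 : act 5 n2101 = n2885 := rfl
theorem F4656 : act 2 n2885 = n2102 := d11_1 D2885 (iv D2102) (iv F3402)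
def n2886 : Q := act 4 n2103
theorem D2886 : act 4 n2103 = n2886 := rfl
theorem F4657 : act 0 n2886 = n2104 := d3_1 D2886 (iv D2104) D2103
theorem F4658 : act 1 n2886 = n2825 := d7_1 D2886 (iv D2825) (iv F3404)
def n2887 : Q := act 3 n2104
theorem D2887 : act 3 n2104 = n2887 := rfl
theorem F4659 : act 1 n2887 = n2105 := d6_1 D2887 (iv D2105) (iv F3407)
theorem F4660 : act 4 n2887 = n2787 := d12_2 D2104 D2887 (iv D2787) F3304 (iv F2479)
def n2888 : Q := act 5 n2104
theorem D2888 : act 5 n2104 = n2888 := rfl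
theorem F4661 : act 1 n2888 = n2106 := d8_1 D2888 (iv D2106) (iv F3407)
theorem F4662 : act 4 n2888 = n2848 := d14_1 D2888 (iv D2848) (iv D2075) (iv F2480) D2104
def n2889 : Q := act 2 n2105
theorem D2889 : act 2 n2105 = n2889 := rfl
theorem F4663 : act 0 n2889 = n2822 := d1_1 D2889 F4562 (iv F3408)
theorem F4664 : act 4 n2889 = n2788 := d10_2 (iv F3409) D2889 (iv D2788)
def n2890 : Q := act 5 n2105
theorem D2890 : act 5 n2105 = n2890 := rfl
theorem F4665 : act 0 n2890 = n2823 := d4_1 D2890 (iv D2823) (iv F3408)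
theorem F4666 : act 3 n2890 = n2106 := d13_1 D2890 (iv D2106) D2105
def n2891 : Q := act 3 n2107
theorem D2891 : act 3 n2107 = n2891 := rfl
theorem F4667 : act 0 n2891 = n2521 := d2_1 D2891 F4067 (iv F3413)
theorem F4668 : act 1 n2891 = n2108 := d6_1 D2891 (iv D2108) D2107
theorem F4669 : act 5 n2891 = n2572 := d13_2 (iv F3415) D2891 (iv D2572)
def n2892 : Q := act 4 n2107
theorem D2892 : act 4 n2107 = n2892 := rfl
theorem F4670 : act 0 n2892 = n2539 := d3_1 D2892 F4105 (iv F3413)
theorem F4671 : act 1 n2892 = n2109 := d7_1 D2892 (iv D2109) D2107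
theorem F4672 : act 2 n2892 = n2786 := d10_1 D2892 F4498 (iv F3414)
theorem F4673 : act 5 n2892 = n2396 := d14_2 (iv F3415) D2892 (iv D2396) F2837 (iv F3053)
def n2893 : Q := act 4 n2108
theorem D2893 : act 4 n2108 = n2893 := rfl
theorem F4674 : act 0 n2893 = n2111 := d3_1 D2893 (iv D2111) (iv F3416)
def n2894 : Q := act 3 n2109
theorem D2894 : act 3 n2109 = n2894 := rfl
theorem F4675 : act 0 n2894 = n2112 := d2_1 D2894 (iv D2112) (iv F3418)
theorem F4676 : act 5 n2894 = n2398 := d13_2 (iv F3420) D2894 (iv D2398)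
theorem F4677 : act 2 n2894 = n2413 := d15_2 (iv F3419) D2894 (iv D2413) (iv D1755) (iv D1264) F1494 (iv F1486) (iv F1814) (iv F2485)
def n2895 : Q := act 1 n2110
theorem D2895 : act 1 n2110 = n2895 := rfl
theorem F4678 : act 2 n2895 = n2495 := d5_2 D2110 D2895 F4033 F2966 (iv F2489)
theorem F4679 : act 5 n2895 = n2595 := d8_2 (iv F3421) D2895 (iv D2595)
def n2896 : Q := act 4 n2110
theorem D2896 : act 4 n2110 = n2896 := rfl
theorem F4680 : act 2 n2896 = n2111 := d10_1 D2896 (iv D2111) D2110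
def n2897 : Q := act 3 n2111
theorem D2897 : act 3 n2111 = n2897 := rfl
theorem F4681 : act 1 n2897 = n2561 := d6_1 D2897 F4133 (iv F3422)
theorem F4682 : act 4 n2897 = n2112 := d12_2 D2111 D2897 (iv D2112) (iv D1530) D1529
def n2898 : Q := act 5 n2111
theorem D2898 : act 5 n2111 = n2898 := rfl
theorem F4683 : act 1 n2898 = n2562 := d8_1 D2898 (iv D2562) (iv F3422)
theorem F4684 : act 4 n2898 = n2597 := d14_1 D2898 (iv D2597) (iv D1893) (iv F2490) D2111
def n2899 : Q := act 2 n2112
theorem D2899 : act 2 n2112 = n2899 := rfl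
theorem F4685 : act 0 n2899 = n2413 := d1_1 D2899 (iv F4677) F4675
theorem F4686 : act 5 n2899 = n2403 := d11_2 (iv F3424) D2899 (iv D2403)
theorem F4687 : act 3 n2899 = n2407 := d15_1 D2899 (iv D2407) (iv D1751) F2069 (iv F2058) (iv F2841) D2398 (iv F4676) F4675
def n2900 : Q := act 1 n2113
theorem D2900 : act 1 n2113 = n2900 := rfl
theorem F4688 : act 2 n2900 = n2149 := d5_2 D2113 D2900 (iv D2149) (iv D1557) (iv F2495)
theorem F4689 : act 4 n2900 = n2115 := d7_2 (iv F3426) D2900 (iv D2115)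
def n2901 : Q := act 3 n2113
theorem D2901 : act 3 n2113 = n2901 := rfl
theorem F4690 : act 0 n2901 = n2120 := d2_1 D2901 (iv D2120) (iv F3425)
theorem F4691 : act 2 n2901 = n2438 := d15_2 D2113 D2901 F3930 F2878 F2094 (iv F1825) (iv F2507) (iv D1536) (iv F2494)
theorem F4692 : act 5 n2436 = n2901 := d11_0 F4691 (iv D2438) D2436
def n2902 : Q := act 5 n2113
theorem D2902 : act 5 n2113 = n2902 := rfl
theorem F4693 : act 0 n2902 = n2121 := d4_1 D2902 (iv D2121) (iv F3425)
theorem F4694 : act 2 n2902 = n2114 := d11_1 D2902 (iv D2114) D2113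
theorem F4695 : act 3 n2902 = n2436 := d13_1 D2902 F4692 (iv D2901)
def n2903 : Q := act 4 n2114
theorem D2903 : act 4 n2114 = n2903 := rfl
theorem F4696 : act 0 n2903 = n2122 := d3_1 D2903 (iv D2122) (iv F3427)
theorem F4697 : act 1 n2903 = n2152 := d7_1 D2903 (iv D2152) (iv F3428)
theorem F4698 : act 3 n2903 = n2432 := d12_1 D2903 (iv D2432) F2876 (iv F2500) (iv F3429)
theorem F4699 : act 5 n2903 = n2118 := d14_2 D2114 D2903 (iv D2118) (iv D1534) (iv F2496)
def n2904 : Q := act 0 n2115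
theorem D2904 : act 0 n2115 = n2904 := rfl
theorem F4700 : act 1 n2904 = n2123 := d0_2 D2115 D2904 (iv D2123) (iv D1537) (iv F2501)
theorem F4701 : act 2 n2904 = n2153 := d1_2 (iv F3430) D2904 (iv D2153)
theorem F4702 : act 5 n2308 = n2904 := d8_0 F4700 F3443 D2308
def n2905 : Q := act 3 n2115
theorem D2905 : act 3 n2115 = n2905 := rfl
theorem F4703 : act 1 n2905 = n2116 := d6_1 D2905 (iv D2116) D2115
def n2906 : Q := act 5 n2115
theorem D2906 : act 5 n2115 = n2906 := rfl
theorem F4704 : act 0 n2906 = n2308 := d4_1 D2906 F4702 (iv D2904)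
theorem F4705 : act 1 n2906 = n2117 := d8_1 D2906 (iv D2117) D2115
theorem F4706 : act 2 n2906 = n2155 := d11_1 D2906 (iv D2155) (iv F3430)
def n2907 : Q := act 4 n2116
theorem D2907 : act 4 n2116 = n2907 := rfl
theorem F4707 : act 0 n2907 = n2126 := d3_1 D2907 (iv D2126) (iv F3431)
def n2908 : Q := act 4 n2117
theorem D2908 : act 4 n2117 = n2908 := rfl
theorem F4708 : act 0 n2908 = n2128 := d3_1 D2908 (iv D2128) (iv F3432)
theorem F4709 : act 2 n2908 = n2118 := d10_1 D2908 (iv D2118) (iv F3433)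
def n2909 : Q := act 0 n2119
theorem D2909 : act 0 n2119 = n2909 := rfl
theorem F4710 : act 2 n2909 = n2133 := d1_2 (iv F3436) D2909 (iv D2133)
theorem F4711 : act 4 n2909 = n2123 := d3_2 (iv F3437) D2909 (iv D2123)
def n2910 : Q := act 3 n2119
theorem D2910 : act 3 n2119 = n2910 := rfl
theorem F4712 : act 1 n2910 = n2120 := d6_1 D2910 (iv D2120) D2119
def n2911 : Q := act 5 n2119
theorem D2911 : act 5 n2119 = n2911 := rfl
theorem F4713 : act 1 n2911 = n2121 := d8_1 D2911 (iv D2121) D2119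
theorem F4714 : act 2 n2911 = n2135 := d11_1 D2911 (iv D2135) (iv F3436)
theorem F4715 : act 4 n2911 = n2316 := d14_1 D2911 (iv D2316) (iv D1677) F2509 (iv F3437)
def n2912 : Q := act 2 n2120
theorem D2912 : act 2 n2120 = n2912 := rfl
theorem F4716 : act 0 n2912 = n2438 := d1_1 D2912 (iv F4691) F4690
theorem F4717 : act 3 n2912 = n2431 := d9_2 D2120 D2912 F3924 F2876 (iv F2499) (iv F3429) (iv F4694) F4695 (iv D2436) (iv D1775) (iv D1282) (iv D919) (iv F1326) D1104 D1535
theorem F4718 : act 5 n2430 = n2912 := d13_0 F4717 (iv D2431) D2430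
def n2913 : Q := act 4 n2120
theorem D2913 : act 4 n2120 = n2913 := rfl
theorem F4719 : act 3 n2913 = n2126 := d12_1 D2913 (iv D2126) (iv D1538) (iv F2505) D2120
def n2914 : Q := act 5 n2120
theorem D2914 : act 5 n2120 = n2914 := rfl
theorem F4720 : act 0 n2914 = n2436 := d4_1 D2914 F4692 F4690
theorem F4721 : act 2 n2914 = n2430 := d11_1 D2914 F4718 (iv D2912)
theorem F4722 : act 3 n2914 = n2121 := d13_1 D2914 (iv D2121) D2120
def n2915 : Q := act 4 n2121
theorem D2915 : act 4 n2121 = n2915 := rfl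
theorem F4723 : act 1 n2915 = n2316 := d7_1 D2915 (iv F4715) F4713
theorem F4724 : act 2 n2915 = n2122 := d10_1 D2915 (iv D2122) (iv F3438)
theorem F4725 : act 5 n2915 = n2128 := d14_2 D2121 D2915 (iv D2128) (iv D1539) (iv F2505)
def n2916 : Q := act 3 n2123
theorem D2916 : act 3 n2123 = n2916 := rfl
theorem F4726 : act 0 n2916 = n2124 := d2_1 D2916 (iv D2124) D2123
theorem F4727 : act 5 n2916 = n2309 := d13_2 (iv F3443) D2916 (iv D2309)
theorem F4728 : act 2 n2916 = n2295 := d15_2 (iv F3442) D2916 (iv D2295) (iv D1664) (iv D1199) F1431 D860 (iv F1838) D1547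
def n2917 : Q := act 2 n2124
theorem D2917 : act 2 n2124 = n2917 := rfl
theorem F4729 : act 0 n2917 = n2295 := d1_1 D2917 (iv F4728) F4726
theorem F4730 : act 5 n2917 = n2313 := d11_2 (iv F3445) D2917 (iv D2313)
theorem F4731 : act 3 n2917 = n2290 := d15_1 D2917 (iv D2290) (iv D1662) F1979 D1205 D1673 D2309 (iv F4727) F4726
def n2918 : Q := act 4 n2124
theorem D2918 : act 4 n2124 = n2918 := rfl
theorem F4732 : act 1 n2918 = n2126 := d7_1 D2918 (iv D2126) (iv F3444)
def n2919 : Q := act 1 n2125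
theorem D2919 : act 1 n2125 = n2919 := rfl
def n2920 : Q := act 4 n2125
theorem D2920 : act 4 n2125 = n2920 := rfl
theorem F4733 : act 2 n2920 = n2126 := d10_1 D2920 (iv D2126) D2125
def n2921 : Q := act 5 n2126
theorem D2921 : act 5 n2126 = n2921 := rfl
def n2922 : Q := act 4 n2127
theorem D2922 : act 4 n2127 = n2922 := rfl
theorem F4734 : act 1 n2922 = n2314 := d7_1 D2922 (iv D2314) (iv F3446)
def n2923 : Q := act 3 n2128
theorem D2923 : act 3 n2128 = n2923 := rfl
theorem F4735 : act 1 n2923 = n2315 := d6_1 D2923 (iv D2315) (iv F3448)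
def n2924 : Q := act 2 n2129
theorem D2924 : act 2 n2129 = n2924 := rfl
theorem F4736 : act 4 n2924 = n2130 := d10_2 (iv F3451) D2924 (iv D2130)
theorem F4737 : act 5 n2924 = n2439 := d11_2 (iv F3452) D2924 F3931
def n2925 : Q := act 1 n2130
theorem D2925 : act 1 n2130 = n2925 := rfl
theorem F4738 : act 2 n2925 = n2139 := d5_2 D2130 D2925 (iv D2139) (iv D1549) (iv F2513)
theorem F4739 : act 5 n2925 = n2131 := d8_2 (iv F3453) D2925 (iv D2131)
def n2926 : Q := act 0 n2131
theorem D2926 : act 0 n2131 = n2926 := rfl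
theorem F4740 : act 2 n2926 = n2140 := d1_2 (iv F3454) D2926 (iv D2140)
theorem F4741 : act 4 n2926 = n2433 := d3_2 (iv F3455) D2926 (iv D2433)
def n2927 : Q := act 3 n2131
theorem D2927 : act 3 n2131 = n2927 := rfl
theorem F4742 : act 1 n2927 = n2132 := d6_1 D2927 (iv D2132) D2131
def n2928 : Q := act 4 n2132
theorem D2928 : act 4 n2132 = n2928 := rfl
theorem F4743 : act 3 n2928 = n2437 := d12_1 D2928 (iv D2437) (iv D1775) (iv F2515) D2132
def n2929 : Q := act 3 n2133
theorem D2929 : act 3 n2133 = n2929 := rfl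
theorem F4744 : act 0 n2929 = n2134 := d2_1 D2929 (iv D2134) D2133
theorem F4745 : act 1 n2929 = n2190 := d6_1 D2929 (iv D2190) (iv F3456)
theorem F4746 : act 4 n2929 = n2312 := d12_2 (iv F3457) D2929 (iv D2312) (iv D1675) (iv F2527)
def n2930 : Q := act 5 n2133
theorem D2930 : act 5 n2133 = n2930 := rfl
theorem F4747 : act 0 n2930 = n2135 := d4_1 D2930 (iv D2135) D2133
theorem F4748 : act 1 n2930 = n2191 := d8_1 D2930 (iv D2191) (iv F3456)
theorem F4749 : act 4 n2930 = n2311 := d14_1 D2930 (iv D2311) (iv D1674) (iv F2528) (iv F3457)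
def n2931 : Q := act 2 n2134
theorem D2931 : act 2 n2134 = n2931 := rfl
theorem F4750 : act 4 n2931 = n2317 := d10_2 (iv F3459) D2931 (iv D2317)
def n2932 : Q := act 5 n2134
theorem D2932 : act 5 n2134 = n2932 := rfl
theorem F4751 : act 1 n2932 = n2137 := d8_1 D2932 (iv D2137) (iv F3458)
theorem F4752 : act 3 n2932 = n2135 := d13_1 D2932 (iv D2135) D2134
theorem F4753 : act 4 n2932 = n2194 := d14_1 D2932 (iv D2194) D2193 (iv F3564) (iv F3459)
def n2933 : Q := act 1 n2136
theorem D2933 : act 1 n2136 = n2933 := rfl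
theorem F4754 : act 3 n2933 = n2188 := d6_2 (iv F3463) D2933 F3556
theorem F4755 : act 4 n2933 = n2318 := d7_2 (iv F3464) D2933 (iv D2318)
theorem F4756 : act 5 n2933 = n2187 := d8_2 F3465 D2933 F3554
def n2934 : Q := act 1 n2138
theorem D2934 : act 1 n2138 = n2934 := rfl
theorem F4757 : act 3 n2934 = n2444 := d6_2 (iv F3473) D2934 F3935
theorem F4758 : act 4 n2934 = n2139 := d7_2 (iv F3471) D2934 (iv D2139)
theorem F4759 : act 5 n2934 = n2444 := d8_2 (iv F3472) D2934 F3935
def n2935 : Q := act 0 n2139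
theorem D2935 : act 0 n2139 = n2935 := rfl
theorem F4760 : act 1 n2935 = n2208 := d0_2 D2139 D2935 (iv D2208) (iv D1601) (iv F2532)
theorem F4761 : act 3 n2935 = n2222 := d2_2 (iv F3474) D2935 (iv D2222)
theorem F4762 : act 5 n2935 = n2140 := d4_2 (iv F3475) D2935 (iv D2140)
def n2936 : Q := act 3 n2140
theorem D2936 : act 3 n2140 = n2936 := rfl
theorem F4763 : act 0 n2936 = n2141 := d2_1 D2936 (iv D2141) D2140
theorem F4764 : act 1 n2936 = n2209 := d6_1 D2936 (iv D2209) (iv F3476)
theorem F4765 : act 5 n2936 = n2222 := d13_2 F4762 D2936 (iv F4761)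
def n2937 : Q := act 2 n2141
theorem D2937 : act 2 n2141 = n2937 := rfl
theorem F4766 : act 1 n2937 = n2213 := d5_1 D2937 (iv D2213) F2641 (iv F2538) (iv F3478)
theorem F4767 : act 5 n2937 = n2218 := d11_2 (iv F3479) D2937 F3617
def n2938 : Q := act 4 n2141
theorem D2938 : act 4 n2141 = n2938 := rfl
theorem F4768 : act 1 n2938 = n2142 := d7_1 D2938 (iv D2142) (iv F3478)
theorem F4769 : act 3 n2938 = n2443 := d12_1 D2938 (iv D2443) (iv D1779) (iv F2535) D2141
theorem F4770 : act 5 n2938 = n2443 := d14_2 (iv F3479) D2938 (iv D2443) F3623 (iv D2223)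
def n2939 : Q := act 3 n2143
theorem D2939 : act 3 n2143 = n2939 := rfl
theorem F4771 : act 0 n2939 = n2144 := d2_1 D2939 (iv D2144) D2143
theorem F4772 : act 1 n2939 = n2212 := d6_1 D2939 (iv D2212) (iv F3484)
theorem F4773 : act 5 n2939 = n2146 := d13_2 (iv F3486) D2939 (iv D2146)
def n2940 : Q := act 2 n2144
theorem D2940 : act 2 n2144 = n2940 := rfl
theorem F4774 : act 1 n2940 = n2210 := d5_1 D2940 (iv D2210) F2637 (iv F2542) (iv F3487)
theorem F4775 : act 5 n2940 = n2147 := d11_2 (iv F3488) D2940 (iv D2147)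
def n2941 : Q := act 4 n2144
theorem D2941 : act 4 n2144 = n2941 := rfl
theorem F4776 : act 1 n2941 = n2145 := d7_1 D2941 (iv D2145) (iv F3487)
theorem F4777 : act 3 n2941 = n2264 := d12_1 D2941 (iv D2264) (iv D1644) (iv F2539) D2144
theorem F4778 : act 5 n2941 = n2450 := d14_2 (iv F3488) D2941 (iv D2450) (iv D1786) (iv F2547)
def n2942 : Q := act 2 n2146
theorem D2942 : act 2 n2146 = n2942 := rfl
theorem F4779 : act 0 n2942 = n2147 := d1_1 D2942 (iv D2147) (iv F3493)
theorem F4780 : act 4 n2942 = n2445 := d10_2 (iv F3495) D2942 (iv D2445)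
def n2943 : Q := act 1 n2147
theorem D2943 : act 1 n2147 = n2943 := rfl
theorem F4781 : act 2 n2943 = n2148 := d5_2 D2147 D2943 (iv D2148) (iv D1556) (iv F2546)
theorem F4782 : act 4 n2943 = n2447 := d7_2 (iv F3496) D2943 (iv D2447)
theorem F4783 : act 5 n2943 = n2210 := d8_2 F4775 D2943 (iv F4774)
def n2944 : Q := act 3 n2147
theorem D2944 : act 3 n2147 = n2944 := rfl
def n2945 : Q := act 0 n2148
theorem D2945 : act 0 n2148 = n2945 := rfl
theorem F4784 : act 1 n2945 = n2222 := d0_2 D2148 D2945 (iv D2222) (iv D1611) (iv F2548)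
theorem F4785 : act 3 n2945 = n2208 := d2_2 (iv F3497) D2945 (iv D2208)
theorem F4786 : act 4 n2945 = n2451 := d3_2 (iv F3498) D2945 (iv D2451)
theorem F4787 : act 5 n2945 = n2209 := d4_2 (iv F3499) D2945 F3602
def n2946 : Q := act 0 n2149
theorem D2946 : act 0 n2149 = n2946 := rfl
theorem F4788 : act 1 n2946 = n2164 := d0_2 D2149 D2946 (iv D2164) (iv D1567) (iv F2552)
theorem F4789 : act 4 n2946 = n2153 := d3_2 (iv F3500) D2946 (iv D2153)
def n2947 : Q := act 3 n2149
theorem D2947 : act 3 n2149 = n2947 := rfl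
theorem F4790 : act 1 n2947 = n2150 := d6_1 D2947 (iv D2150) D2149
def n2948 : Q := act 5 n2149
theorem D2948 : act 5 n2149 = n2948 := rfl
theorem F4791 : act 1 n2948 = n2151 := d8_1 D2948 (iv D2151) D2149
def n2949 : Q := act 2 n2150
theorem D2949 : act 2 n2150 = n2949 := rfl
theorem F4792 : act 0 n2949 = n2167 := d1_1 D2949 (iv D2167) (iv F3501)
theorem F4793 : act 3 n2949 = n2162 := d9_2 D2150 D2949 F3519 F2569 F1863 (iv F1866) (iv F2572) (iv F3526) (iv F4048) (iv D2504) (iv D1828) (iv D1322) F1576 D1120 D1557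
theorem F4794 : act 5 n2161 = n2949 := d13_0 F4793 (iv D2162) D2161
def n2950 : Q := act 4 n2150
theorem D2950 : act 4 n2150 = n2950 := rfl
theorem F4795 : act 0 n2950 = n2168 := d3_1 D2950 (iv D2168) (iv F3501)
theorem F4796 : act 3 n2950 = n2156 := d12_1 D2950 (iv D2156) (iv D1560) (iv F2553) D2150
def n2951 : Q := act 5 n2150
theorem D2951 : act 5 n2150 = n2951 := rfl
theorem F4797 : act 0 n2951 = n2169 := d4_1 D2951 (iv D2169) (iv F3501)
theorem F4798 : act 2 n2951 = n2161 := d11_1 D2951 F4794 (iv D2949)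
theorem F4799 : act 3 n2951 = n2151 := d13_1 D2951 (iv D2151) D2150
def n2952 : Q := act 4 n2151
theorem D2952 : act 4 n2151 = n2952 := rfl
theorem F4800 : act 0 n2952 = n2170 := d3_1 D2952 (iv D2170) (iv F3502)
theorem F4801 : act 2 n2952 = n2152 := d10_1 D2952 (iv D2152) (iv F3503)
theorem F4802 : act 5 n2952 = n2157 := d14_2 D2151 D2952 (iv D2157) (iv D1561) (iv F2553)
def n2953 : Q := act 3 n2153
theorem D2953 : act 3 n2153 = n2953 := rfl
theorem F4803 : act 0 n2953 = n2154 := d2_1 D2953 (iv D2154) D2153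
theorem F4804 : act 1 n2953 = n2171 := d6_1 D2953 (iv D2171) (iv F3506)
theorem F4805 : act 5 n2239 = n2953 := d4_0 F4803 (iv F3508) D2239
def n2954 : Q := act 5 n2153
theorem D2954 : act 5 n2153 = n2954 := rfl
theorem F4806 : act 0 n2954 = n2155 := d4_1 D2954 (iv D2155) D2153
theorem F4807 : act 1 n2954 = n2172 := d8_1 D2954 (iv D2172) (iv F3506)
theorem F4808 : act 2 n2954 = n2308 := d11_1 D2954 F4702 F4701
theorem F4809 : act 3 n2954 = n2239 := d13_1 D2954 F4805 (iv D2953)
def n2955 : Q := act 4 n2154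
theorem D2955 : act 4 n2154 = n2955 := rfl
theorem F4810 : act 1 n2955 = n2156 := d7_1 D2955 (iv D2156) (iv F3507)
def n2956 : Q := act 4 n2155
theorem D2956 : act 4 n2155 = n2956 := rfl
theorem F4811 : act 1 n2956 = n2157 := d7_1 D2956 (iv D2157) (iv F3509)
def n2957 : Q := act 5 n2156
theorem D2957 : act 5 n2156 = n2957 := rfl
theorem F4812 : act 0 n2957 = n2179 := d4_1 D2957 (iv D2179) (iv F3511)
theorem F4813 : act 2 n2957 = n2243 := d11_1 D2957 F3648 (iv F3512)
theorem F4814 : act 4 n2957 = n2242 := d14_1 D2957 (iv D2242) (iv D1628) F2558 D2156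
def n2958 : Q := act 3 n2157
theorem D2958 : act 3 n2157 = n2958 := rfl
theorem F4815 : act 0 n2958 = n2181 := d2_1 D2958 (iv D2181) (iv F3513)
theorem F4816 : act 4 n2958 = n2241 := d12_2 D2157 D2958 (iv D2241) (iv D1628) (iv F2561)
def n2959 : Q := act 1 n2158
theorem D2959 : act 1 n2158 = n2959 := rfl
theorem F4817 : act 2 n2959 = n2160 := d5_2 D2158 D2959 (iv D2160) (iv D1565) (iv F2564)
def n2960 : Q := act 3 n2158
theorem D2960 : act 3 n2158 = n2960 := rfl
theorem F4818 : act 0 n2960 = n2418 := d2_1 D2960 (iv D2418) (iv F3515)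
theorem F4819 : act 2 n2960 = n2423 := d15_2 D2158 D2960 F3916 F2861 F2078 (iv F2075) (iv F2860) (iv D1761) (iv F2563)
theorem F4820 : act 5 n2421 = n2960 := d11_0 F4819 (iv D2423) D2421
def n2961 : Q := act 5 n2158
theorem D2961 : act 5 n2158 = n2961 := rfl
theorem F4821 : act 0 n2961 = n2419 := d4_1 D2961 (iv D2419) (iv F3515)
theorem F4822 : act 2 n2961 = n2159 := d11_1 D2961 (iv D2159) D2158
theorem F4823 : act 3 n2961 = n2421 := d13_1 D2961 F4820 (iv D2960)
def n2962 : Q := act 4 n2159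
theorem D2962 : act 4 n2159 = n2962 := rfl
theorem F4824 : act 0 n2962 = n2420 := d3_1 D2962 (iv D2420) (iv F3516)
theorem F4825 : act 1 n2962 = n2163 := d7_1 D2962 (iv D2163) (iv F3517)
theorem F4826 : act 3 n2962 = n2420 := d12_1 D2962 (iv D2420) F2860 (iv F2568) (iv F3518)
def n2963 : Q := act 0 n2160
theorem D2963 : act 0 n2160 = n2963 := rfl
def n2964 : Q := act 3 n2160
theorem D2964 : act 3 n2160 = n2964 := rfl
theorem F4827 : act 1 n2964 = n2161 := d6_1 D2964 (iv D2161) D2160
def n2965 : Q := act 5 n2160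
theorem D2965 : act 5 n2160 = n2965 := rfl
theorem F4828 : act 1 n2965 = n2162 := d8_1 D2965 (iv D2162) D2160
def n2966 : Q := act 4 n2161
theorem D2966 : act 4 n2161 = n2966 := rfl
def n2967 : Q := act 4 n2162
theorem D2967 : act 4 n2162 = n2967 := rfl
theorem F4829 : act 2 n2967 = n2163 := d10_1 D2967 (iv D2163) (iv F3519)
def n2968 : Q := act 3 n2164
theorem D2968 : act 3 n2164 = n2968 := rfl
theorem F4830 : act 0 n2968 = n2165 := d2_1 D2968 (iv D2165) D2164
def n2969 : Q := act 5 n2164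
theorem D2969 : act 5 n2164 = n2969 := rfl
theorem F4831 : act 0 n2969 = n2166 := d4_1 D2969 (iv D2166) D2164
theorem F4832 : act 2 n2969 = n2191 := d11_1 D2969 (iv D2191) (iv F3520)
def n2970 : Q := act 2 n2165
theorem D2970 : act 2 n2165 = n2970 := rfl
def n2971 : Q := act 4 n2165
theorem D2971 : act 4 n2165 = n2971 := rfl
theorem F4833 : act 1 n2971 = n2168 := d7_1 D2971 (iv D2168) (iv F3522)
theorem F4834 : act 3 n2971 = n2174 := d12_1 D2971 (iv D2174) (iv D1572) (iv F2571) D2165
def n2972 : Q := act 5 n2165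
theorem D2972 : act 5 n2165 = n2972 := rfl
theorem F4835 : act 1 n2972 = n2169 := d8_1 D2972 (iv D2169) (iv F3522)
theorem F4836 : act 3 n2972 = n2166 := d13_1 D2972 (iv D2166) D2165
def n2973 : Q := act 4 n2166
theorem D2973 : act 4 n2166 = n2973 := rfl
theorem F4837 : act 1 n2973 = n2170 := d7_1 D2973 (iv D2170) (iv F3523)
theorem F4838 : act 2 n2973 = n2195 := d10_1 D2973 (iv D2195) (iv F3524)
theorem F4839 : act 5 n2973 = n2176 := d14_2 D2166 D2973 (iv D2176) (iv D1573) (iv F2571)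
def n2974 : Q := act 1 n2167
theorem D2974 : act 1 n2167 = n2974 := rfl
def n2975 : Q := act 4 n2167
theorem D2975 : act 4 n2167 = n2975 := rfl
theorem F4840 : act 2 n2975 = n2168 := d10_1 D2975 (iv D2168) D2167
def n2976 : Q := act 5 n2168
theorem D2976 : act 5 n2168 = n2976 := rfl
theorem F4841 : act 3 n2976 = n2179 := d13_1 D2976 (iv D2179) (iv F3525)
def n2977 : Q := act 4 n2169
theorem D2977 : act 4 n2169 = n2977 := rfl
def n2978 : Q := act 3 n2170
theorem D2978 : act 3 n2170 = n2978 := rfl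
theorem F4842 : act 5 n2978 = n2181 := d13_2 (iv F3528) D2978 (iv D2181)
def n2979 : Q := act 2 n2171
theorem D2979 : act 2 n2171 = n2979 := rfl
theorem F4843 : act 0 n2979 = n2173 := d1_1 D2979 (iv D2173) (iv F3529)
theorem F4844 : act 3 n2979 = n2251 := d15_1 D2979 (iv D2251) (iv D1635) F1930 (iv F1890) (iv F2578) (iv F3534) (iv D2175) (iv F3529)
def n2980 : Q := act 4 n2171
theorem D2980 : act 4 n2171 = n2980 := rfl
theorem F4845 : act 0 n2980 = n2174 := d3_1 D2980 (iv D2174) (iv F3529)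
def n2981 : Q := act 5 n2171
theorem D2981 : act 5 n2171 = n2981 := rfl
theorem F4846 : act 0 n2981 = n2175 := d4_1 D2981 (iv D2175) (iv F3529)
theorem F4847 : act 1 n2981 = n2239 := d8_1 D2981 F4805 F4804
theorem F4848 : act 3 n2981 = n2172 := d13_1 D2981 (iv D2172) D2171
def n2982 : Q := act 4 n2172
theorem D2982 : act 4 n2172 = n2982 := rfl
theorem F4849 : act 0 n2982 = n2176 := d3_1 D2982 (iv D2176) (iv F3530)
theorem F4850 : act 2 n2982 = n2205 := d10_1 D2982 (iv D2205) (iv F3531)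
def n2983 : Q := act 1 n2173
theorem D2983 : act 1 n2173 = n2983 := rfl
theorem F4851 : act 2 n2983 = n2177 := d5_2 D2173 D2983 (iv D2177) (iv D1574) (iv F2576)
theorem F4852 : act 5 n2230 = n2983 := d11_0 F4851 F3538 D2230
def n2984 : Q := act 3 n2173
theorem D2984 : act 3 n2173 = n2984 := rfl
theorem F4853 : act 0 n2984 = n2251 := d2_1 D2984 (iv F4844) F4843
theorem F4854 : act 2 n2984 = n2250 := d15_2 D2173 D2984 (iv D2250) F2678 (iv F2628) (iv F3531) (iv F4848) (iv D2981) F3529
def n2985 : Q := act 4 n2173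
theorem D2985 : act 4 n2173 = n2985 := rfl
theorem F4855 : act 2 n2985 = n2174 := d10_1 D2985 (iv D2174) D2173
def n2986 : Q := act 5 n2173
theorem D2986 : act 5 n2173 = n2986 := rfl
theorem F4856 : act 1 n2986 = n2230 := d8_1 D2986 F4852 (iv D2983)
theorem F4857 : act 2 n2986 = n2175 := d11_1 D2986 (iv D2175) D2173
def n2987 : Q := act 5 n2174
theorem D2987 : act 5 n2174 = n2987 := rfl
theorem F4858 : act 1 n2987 = n2179 := d8_1 D2987 (iv D2179) (iv F3532)
def n2988 : Q := act 4 n2175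
theorem D2988 : act 4 n2175 = n2988 := rfl
theorem F4859 : act 1 n2988 = n2180 := d7_1 D2988 (iv D2180) (iv F3533)
def n2989 : Q := act 3 n2176
theorem D2989 : act 3 n2176 = n2989 := rfl
theorem F4860 : act 1 n2989 = n2181 := d6_1 D2989 (iv D2181) (iv F3535)
def n2990 : Q := act 4 n2177
theorem D2990 : act 4 n2177 = n2990 := rfl
theorem F4861 : act 1 n2990 = n2178 := d7_1 D2990 (iv D2178) D2177
def n2991 : Q := act 3 n2178
theorem D2991 : act 3 n2178 = n2991 := rfl
theorem F4862 : act 0 n2991 = n2244 := d2_1 D2991 (iv D2244) (iv F3539)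
theorem F4863 : act 4 n2991 = n2234 := d12_2 D2178 D2991 (iv D2234) (iv D1623) (iv F2580)
def n2992 : Q := act 5 n2178
theorem D2992 : act 5 n2178 = n2992 := rfl
theorem F4864 : act 0 n2992 = n2243 := d4_1 D2992 F3648 (iv F3539)
theorem F4865 : act 2 n2992 = n2179 := d11_1 D2992 (iv D2179) (iv F3540)
theorem F4866 : act 4 n2992 = n2233 := d14_1 D2992 (iv D2233) (iv D1622) F2581 D2178
def n2993 : Q := act 4 n2179
theorem D2993 : act 4 n2179 = n2993 := rfl
theorem F4867 : act 0 n2993 = n2242 := d3_1 D2993 (iv F4814) F4812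
theorem F4868 : act 2 n2993 = n2233 := d10_1 D2993 (iv F4866) F4865
theorem F4869 : act 5 n2993 = n2180 := d14_2 D2179 D2993 (iv D2180) (iv D1576) D1575
def n2994 : Q := act 3 n2180
theorem D2994 : act 3 n2180 = n2994 := rfl
theorem F4870 : act 0 n2994 = n2241 := d2_1 D2994 (iv D2241) (iv F3541)
theorem F4871 : act 4 n2994 = n2181 := d12_2 D2180 D2994 (iv D2181) (iv D1577) (iv F2584)
def n2995 : Q := act 2 n2181
theorem D2995 : act 2 n2181 = n2995 := rfl
def n2996 : Q := act 3 n2182
theorem D2996 : act 3 n2182 = n2996 := rfl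
theorem F4872 : act 1 n2996 = n2183 := d6_1 D2996 (iv D2183) D2182
def n2997 : Q := act 5 n2182
theorem D2997 : act 5 n2182 = n2997 := rfl
theorem F4873 : act 1 n2997 = n2184 := d8_1 D2997 (iv D2184) D2182
theorem F4874 : act 2 n2997 = n2188 := d11_1 D2997 (iv D2188) (iv F3543)
def n2998 : Q := act 2 n2183
theorem D2998 : act 2 n2183 = n2998 := rfl
theorem F4875 : act 0 n2998 = n2421 := d1_1 D2998 (iv D2421) (iv F3545)
theorem F4876 : act 3 n2998 = n2419 := d9_2 D2183 D2998 F3914 F2860 F2075 (iv F2078) (iv F2861) (iv F3916) (iv F4819) (iv D2960) (iv D2158) (iv D1563) F1862 D1133 D1578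
theorem F4877 : act 5 n2418 = n2998 := d13_0 F4876 (iv D2419) D2418
def n2999 : Q := act 4 n2183
theorem D2999 : act 4 n2183 = n2999 := rfl
theorem F4878 : act 0 n2999 = n2422 := d3_1 D2999 (iv D2422) (iv F3545)
theorem F4879 : act 3 n2999 = n2414 := d12_1 D2999 (iv D2414) (iv D1757) (iv F2587) D2183
def n3000 : Q := act 5 n2183
theorem D3000 : act 5 n2183 = n3000 := rfl
theorem F4880 : act 0 n3000 = n2423 := d4_1 D3000 (iv D2423) (iv F3545)
theorem F4881 : act 2 n3000 = n2418 := d11_1 D3000 F4877 (iv D2998)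
theorem F4882 : act 3 n3000 = n2184 := d13_1 D3000 (iv D2184) D2183
def n3001 : Q := act 4 n2184
theorem D3001 : act 4 n2184 = n3001 := rfl
theorem F4883 : act 0 n3001 = n2352 := d3_1 D3001 F3824 (iv F3546)
theorem F4884 : act 2 n3001 = n2185 := d10_1 D3001 (iv D2185) (iv F3547)
theorem F4885 : act 5 n3001 = n2349 := d14_2 D2184 D3001 (iv D2349) F2781 (iv F2587)
def n3002 : Q := act 3 n2186
theorem D3002 : act 3 n2186 = n3002 := rfl
theorem F4886 : act 0 n3002 = n2187 := d2_1 D3002 (iv D2187) D2186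
theorem F4887 : act 1 n3002 = n2426 := d6_1 D3002 (iv D2426) (iv F3552)
theorem F4888 : act 4 n3002 = n2426 := d12_2 (iv F3553) D3002 (iv D2426) F2868 (iv F2866)
def n3003 : Q := act 5 n2186
theorem D3003 : act 5 n2186 = n3003 := rfl
theorem F4889 : act 0 n3003 = n2188 := d4_1 D3003 (iv D2188) D2186
theorem F4890 : act 1 n3003 = n2427 := d8_1 D3003 (iv D2427) (iv F3552)
def n3004 : Q := act 2 n2187
theorem D3004 : act 2 n2187 = n3004 := rfl
theorem F4891 : act 4 n3004 = n2428 := d10_2 (iv F3555) D3004 (iv D2428)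
def n3005 : Q := act 4 n2188
theorem D3005 : act 4 n2188 = n3005 := rfl
theorem F4892 : act 1 n3005 = n2189 := d7_1 D3005 (iv D2189) (iv F3556)
theorem F4893 : act 5 n3005 = n2280 := d14_2 D2188 D3005 (iv D2280) F2719 (iv F2591)
def n3006 : Q := act 3 n2189
theorem D3006 : act 3 n2189 = n3006 := rfl
theorem F4894 : act 0 n3006 = n2344 := d2_1 D3006 F3809 (iv F3557)
theorem F4895 : act 2 n3006 = n2274 := d9_1 D3006 (iv D2274) F2711 F1961 F1427 (iv F1518) (iv F2090) D1771 (iv F3811) F3812 F2775 F2007 (iv F2024) (iv F2597) (iv F3558)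
theorem F4896 : act 4 n3006 = n2319 := d12_2 D2189 D3006 (iv D2319) (iv F3464) F3463
theorem F4897 : act 5 n3006 = n2357 := d13_2 (iv F3559) D3006 (iv D2357)
def n3007 : Q := act 2 n2190
theorem D3007 : act 2 n2190 = n3007 := rfl
theorem F4898 : act 0 n3007 = n2192 := d1_1 D3007 (iv D2192) (iv F3560)
def n3008 : Q := act 4 n2190
theorem D3008 : act 4 n2190 = n3008 := rfl
theorem F4899 : act 0 n3008 = n2193 := d3_1 D3008 (iv D2193) (iv F3560)
theorem F4900 : act 1 n3008 = n2312 := d7_1 D3008 (iv F4746) F4745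
theorem F4901 : act 3 n3008 = n2204 := d12_1 D3008 (iv D2204) (iv D1595) (iv F2599) D2190
theorem F4902 : act 5 n2312 = n3008 := d13_0 F4901 F3593 D2312
def n3009 : Q := act 5 n2190
theorem D3009 : act 5 n2190 = n3009 := rfl
theorem F4903 : act 0 n3009 = n2194 := d4_1 D3009 (iv D2194) (iv F3560)
theorem F4904 : act 3 n3009 = n2191 := d13_1 D3009 (iv D2191) D2190
def n3010 : Q := act 4 n2191
theorem D3010 : act 4 n2191 = n3010 := rfl
theorem F4905 : act 0 n3010 = n2195 := d3_1 D3010 (iv D2195) (iv F3561)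
theorem F4906 : act 1 n3010 = n2311 := d7_1 D3010 (iv F4749) F4748
theorem F4907 : act 5 n3010 = n2205 := d14_2 D2191 D3010 (iv D2205) (iv D1596) (iv F2599)
theorem F4908 : act 3 n2311 = n3010 := d13_3 F4907 F3596 D2311
def n3011 : Q := act 1 n2192
theorem D3011 : act 1 n2192 = n3011 := rfl
theorem F4909 : act 2 n3011 = n2196 := d5_2 D2192 D3011 (iv D2196) (iv D1587) (iv F2600)
theorem F4910 : act 5 n2428 = n3011 := d11_0 F4909 F3571 D2428
def n3012 : Q := act 3 n2192
theorem D3012 : act 3 n2192 = n3012 := rfl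
def n3013 : Q := act 4 n2192
theorem D3013 : act 4 n2192 = n3013 := rfl
theorem F4911 : act 2 n3013 = n2193 := d10_1 D3013 (iv D2193) D2192
theorem F4912 : act 5 n2317 = n3013 := d11_0 F4911 (iv F3564) D2317
def n3014 : Q := act 5 n2192
theorem D3014 : act 5 n2192 = n3014 := rfl
theorem F4913 : act 1 n3014 = n2428 := d8_1 D3014 F4910 (iv D3011)
theorem F4914 : act 2 n3014 = n2194 := d11_1 D3014 (iv D2194) D2192
def n3015 : Q := act 0 n2196
theorem D3015 : act 0 n2196 = n3015 := rfl
theorem F4915 : act 3 n3015 = n2427 := d2_2 (iv F3570) D3015 F3920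
theorem F4916 : act 5 n3015 = n2426 := d4_2 (iv F3571) D3015 F3919
def n3016 : Q := act 4 n2196
theorem D3016 : act 4 n2196 = n3016 := rfl
theorem F4917 : act 1 n3016 = n2197 := d7_1 D3016 (iv D2197) D2196
theorem F4918 : act 5 n3016 = n2318 := d14_2 (iv F3571) D3016 (iv F4755) F4756 F3555
def n3017 : Q := act 3 n2197
theorem D3017 : act 3 n2197 = n3017 := rfl
theorem F4919 : act 0 n3017 = n2319 := d2_1 D3017 (iv D2319) (iv F3572)
theorem F4920 : act 4 n3017 = n2344 := d12_2 D2197 D3017 F3809 (iv D1770) (iv F2602)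
theorem F4921 : act 5 n3017 = n2319 := d13_2 (iv F3574) D3017 (iv D2319)
theorem F4922 : act 2 n3017 = n2256 := d15_2 (iv F3573) D3017 (iv D2256) (iv D1638) (iv D1180) (iv F1892) (iv F2605) (iv F2606) (iv F2604)
def n3018 : Q := act 1 n2198
theorem D3018 : act 1 n2198 = n3018 := rfl
theorem F4923 : act 3 n3018 = n2207 := d6_2 (iv F3576) D3018 (iv D2207)
theorem F4924 : act 4 n3018 = n2199 := d7_2 (iv F3577) D3018 (iv D2199)
theorem F4925 : act 5 n3018 = n2207 := d8_2 (iv F3578) D3018 (iv D2207)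
def n3019 : Q := act 0 n2199
theorem D3019 : act 0 n2199 = n3019 := rfl
theorem F4926 : act 1 n3019 = n2441 := d0_2 D2199 D3019 F3933 F2881 (iv F2616)
theorem F4927 : act 3 n3019 = n2451 := d2_2 (iv F3579) D3019 (iv D2451)
theorem F4928 : act 5 n3019 = n2200 := d4_2 (iv F3580) D3019 (iv D2200)
def n3020 : Q := act 3 n2200
theorem D3020 : act 3 n2200 = n3020 := rfl
theorem F4929 : act 0 n3020 = n2201 := d2_1 D3020 (iv D2201) D2200
theorem F4930 : act 1 n3020 = n2440 := d6_1 D3020 (iv D2440) (iv F3581)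
theorem F4931 : act 5 n3020 = n2451 := d13_2 F4928 D3020 (iv F4927)
def n3021 : Q := act 2 n2201
theorem D3021 : act 2 n2201 = n3021 := rfl
theorem F4932 : act 1 n3021 = n2449 := d5_1 D3021 F3940 F2885 (iv F2622) (iv F3583)
theorem F4933 : act 5 n3021 = n2447 := d11_2 (iv F3584) D3021 F3939
def n3022 : Q := act 4 n2201
theorem D3022 : act 4 n2201 = n3022 := rfl
theorem F4934 : act 1 n3022 = n2202 := d7_1 D3022 (iv D2202) (iv F3583)
theorem F4935 : act 3 n3022 = n2211 := d12_1 D3022 (iv D2211) (iv D1603) (iv F2619) D2201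
theorem F4936 : act 5 n3022 = n2211 := d14_2 (iv F3584) D3022 (iv D2211) (iv F3499) F3498
def n3023 : Q := act 4 n2203
theorem D3023 : act 4 n2203 = n3023 := rfl
theorem F4937 : act 0 n3023 = n2206 := d3_1 D3023 (iv D2206) (iv F3589)
theorem F4938 : act 2 n3023 = n2204 := d10_1 D3023 (iv D2204) D2203
theorem F4939 : act 5 n3023 = n2293 := d14_2 (iv F3590) D3023 (iv D2293) (iv D1663) (iv F2679)
def n3024 : Q := act 3 n2206
theorem D3024 : act 3 n2206 = n3024 := rfl
theorem F4940 : act 1 n3024 = n2254 := d6_1 D3024 (iv D2254) (iv F3597)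
theorem F4941 : act 5 n3024 = n2300 := d13_2 (iv F3599) D3024 (iv D2300)
def n3025 : Q := act 0 n2207
theorem D3025 : act 0 n2207 = n3025 := rfl
theorem F4942 : act 4 n3025 = n2208 := d3_2 (iv F3600) D3025 (iv D2208)
def n3026 : Q := act 2 n2209
theorem D3026 : act 2 n2209 = n3026 := rfl
theorem F4943 : act 0 n3026 = n2210 := d1_1 D3026 (iv D2210) (iv F3602)
def n3027 : Q := act 4 n2209
theorem D3027 : act 4 n2209 = n3027 := rfl
theorem F4944 : act 0 n3027 = n2211 := d3_1 D3027 (iv D2211) (iv F3602)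
def n3028 : Q := act 3 n2210
theorem D3028 : act 3 n2210 = n3028 := rfl
def n3029 : Q := act 4 n2210
theorem D3029 : act 4 n2210 = n3029 := rfl
theorem F4945 : act 2 n3029 = n2211 := d10_1 D3029 (iv D2211) D2210
def n3030 : Q := act 2 n2212
theorem D3030 : act 2 n2212 = n3030 := rfl
theorem F4946 : act 0 n3030 = n2213 := d1_1 D3030 (iv D2213) (iv F3604)
theorem F4947 : act 3 n3030 = n2248 := d9_2 D2212 D3030 (iv D2248) (iv D1633) (iv D1174) (iv D840) (iv F1389) D1155 D1609 D2219 (iv F4556) (iv D2818) F3337 F2440 (iv F2638)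
theorem F4948 : act 5 n3030 = n2216 := d11_2 (iv F3605) D3030 (iv D2216)
def n3031 : Q := act 4 n2212
theorem D3031 : act 4 n2212 = n3031 := rfl
theorem F4949 : act 0 n3031 = n2214 := d3_1 D3031 (iv D2214) (iv F3604)
theorem F4950 : act 3 n3031 = n2328 := d12_1 D3031 (iv D2328) (iv D1688) (iv F2639) D2212
def n3032 : Q := act 3 n2213
theorem D3032 : act 3 n2213 = n3032 := rfl
theorem F4951 : act 0 n3032 = n2248 := d2_1 D3032 (iv F4947) F4946
theorem F4952 : act 2 n3032 = n2247 := d9_1 D3032 (iv D2247) (iv D1632) (iv D1173) (iv F1903) D1608 D2216 (iv F4559) (iv D2819) (iv D2055) F2433 F1772 (iv F1899) D1606 D2213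
theorem F4953 : act 5 n3032 = n2219 := d13_2 (iv F3606) D3032 (iv D2219)
def n3033 : Q := act 4 n2213
theorem D3033 : act 4 n2213 = n3033 := rfl
theorem F4954 : act 2 n3033 = n2214 := d10_1 D3033 (iv D2214) D2213
def n3034 : Q := act 5 n2214
theorem D3034 : act 5 n2214 = n3034 := rfl
theorem F4955 : act 1 n3034 = n2215 := d8_1 D3034 (iv D2215) (iv F3607)
theorem F4956 : act 3 n3034 = n2331 := d13_1 D3034 (iv D2331) (iv F3608)
theorem F4957 : act 4 n3034 = n2221 := d14_1 D3034 (iv D2221) (iv D1610) (iv F2642) D2214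
def n3035 : Q := act 1 n2216
theorem D3035 : act 1 n2216 = n3035 := rfl
def n3036 : Q := act 4 n2216
theorem D3036 : act 4 n2216 = n3036 := rfl
theorem F4958 : act 0 n3036 = n2220 := d3_1 D3036 (iv D2220) (iv F3613)
theorem F4959 : act 2 n3036 = n2217 := d10_1 D3036 (iv D2217) D2216
def n3037 : Q := act 5 n2217
theorem D3037 : act 5 n2217 = n3037 := rfl
theorem F4960 : act 0 n3037 = n2221 := d4_1 D3037 (iv D2221) (iv F3614)
theorem F4961 : act 1 n3037 = n2446 := d8_1 D3037 (iv D2446) (iv F3615)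
theorem F4962 : act 3 n3037 = n2225 := d13_1 D3037 (iv D2225) (iv F3616)
def n3038 : Q := act 0 n2218
theorem D3038 : act 0 n2218 = n3038 := rfl
theorem F4963 : act 2 n3038 = n2222 := d1_2 (iv F3617) D3038 (iv D2222)
def n3039 : Q := act 3 n2218
theorem D3039 : act 3 n2218 = n3039 := rfl
theorem F4964 : act 1 n3039 = n2219 := d6_1 D3039 (iv D2219) D2218
def n3040 : Q := act 4 n2218
theorem D3040 : act 4 n2218 = n3040 := rfl
theorem F4965 : act 1 n3040 = n2220 := d7_1 D3040 (iv D2220) D2218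
theorem F4966 : act 2 n3040 = n2223 := d10_1 D3040 (iv D2223) (iv F3617)
theorem F4967 : act 5 n2442 = n3040 := d11_0 F4966 (iv F3623) D2442
def n3041 : Q := act 4 n2219
theorem D3041 : act 4 n2219 = n3041 := rfl
def n3042 : Q := act 3 n2220
theorem D3042 : act 3 n2220 = n3042 := rfl
def n3043 : Q := act 5 n2220
theorem D3043 : act 5 n2220 = n3043 := rfl
theorem F4968 : act 1 n3043 = n2442 := d8_1 D3043 F4967 F4965
theorem F4969 : act 2 n3043 = n2221 := d11_1 D3043 (iv D2221) (iv F3618)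
def n3044 : Q := act 4 n2222
theorem D3044 : act 4 n2222 = n3044 := rfl
theorem F4970 : act 0 n3044 = n2223 := d3_1 D3044 (iv D2223) D2222
theorem F4971 : act 1 n3044 = n2451 := d7_1 D3044 (iv F4786) F4784
theorem F4972 : act 3 n2441 = n3044 := d6_0 F4971 (iv F4927) F4926
theorem F4973 : act 5 n2440 = n3044 := d8_0 F4971 (iv F4931) F4930
def n3045 : Q := act 3 n2224
theorem D3045 : act 3 n2224 = n3045 := rfl
theorem F4974 : act 0 n3045 = n2227 := d2_1 D3045 (iv D2227) (iv F3624)
theorem F4975 : act 4 n3045 = n2408 := d12_2 D2224 D3045 (iv D2408) (iv D1752) (iv F2655)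
def n3046 : Q := act 5 n2224
theorem D3046 : act 5 n2224 = n3046 := rfl
theorem F4976 : act 0 n3046 = n2228 := d4_1 D3046 (iv D2228) (iv F3624)
theorem F4977 : act 2 n3046 = n2225 := d11_1 D3046 (iv D2225) (iv F3625)
theorem F4978 : act 4 n3046 = n2348 := d14_1 D3046 (iv D2348) (iv D1703) (iv F2656) D2224
def n3047 : Q := act 3 n2226
theorem D3047 : act 3 n2226 = n3047 := rfl
theorem F4979 : act 0 n3047 = n2408 := d2_1 D3047 (iv D2408) (iv F3629)
theorem F4980 : act 1 n3047 = n2422 := d6_1 D3047 F3915 (iv F3630)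
theorem F4981 : act 4 n3047 = n2227 := d12_2 D2226 D3047 (iv D2227) (iv D1617) D1616
def n3048 : Q := act 5 n2226
theorem D3048 : act 5 n2226 = n3048 := rfl
theorem F4982 : act 0 n3048 = n2409 := d4_1 D3048 (iv D2409) (iv F3629)
theorem F4983 : act 1 n3048 = n2425 := d8_1 D3048 (iv D2425) (iv F3630)
theorem F4984 : act 2 n3048 = n2406 := d11_1 D3048 (iv D2406) (iv F3631)
theorem F4985 : act 4 n3048 = n2354 := d14_1 D3048 (iv D2354) (iv D1708) (iv F2662) D2226
def n3049 : Q := act 2 n2227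
theorem D3049 : act 2 n2227 = n3049 := rfl
def n3050 : Q := act 5 n2227
theorem D3050 : act 5 n2227 = n3050 := rfl
theorem F4986 : act 1 n3050 = n2423 := d8_1 D3050 (iv D2423) (iv F3632)
theorem F4987 : act 3 n3050 = n2228 := d13_1 D3050 (iv D2228) D2227
def n3051 : Q := act 2 n2229
theorem D3051 : act 2 n2229 = n3051 := rfl
theorem F4988 : act 0 n3051 = n2230 := d1_1 D3051 (iv D2230) (iv F3636)
def n3052 : Q := act 4 n2229
theorem D3052 : act 4 n2229 = n3052 := rfl
theorem F4989 : act 0 n3052 = n2231 := d3_1 D3052 (iv D2231) (iv F3636)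
theorem F4990 : act 1 n3052 = n2235 := d7_1 D3052 (iv D2235) (iv F3637)
def n3053 : Q := act 3 n2230
theorem D3053 : act 3 n2230 = n3053 := rfl
def n3054 : Q := act 4 n2230
theorem D3054 : act 4 n2230 = n3054 := rfl
theorem F4991 : act 2 n3054 = n2231 := d10_1 D3054 (iv D2231) D2230
def n3055 : Q := act 5 n2231
theorem D3055 : act 5 n2231 = n3055 := rfl
theorem F4992 : act 1 n3055 = n2233 := d8_1 D3055 (iv D2233) (iv F3638)
def n3056 : Q := act 3 n2232
theorem D3056 : act 3 n2232 = n3056 := rfl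
theorem F4993 : act 1 n3056 = n2234 := d6_1 D3056 (iv D2234) (iv F3639)
def n3057 : Q := act 5 n2235
theorem D3057 : act 5 n2235 = n3057 := rfl
theorem F4994 : act 0 n3057 = n2238 := d4_1 D3057 (iv D2238) (iv F3642)
def n3058 : Q := act 0 n2236
theorem D3058 : act 0 n2236 = n3058 := rfl
theorem F4995 : act 2 n3058 = n2239 := d1_2 (iv F3643) D3058 (iv D2239)
def n3059 : Q := act 4 n2236
theorem D3059 : act 4 n2236 = n3059 := rfl
theorem F4996 : act 1 n3059 = n2237 := d7_1 D3059 (iv D2237) D2236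
theorem F4997 : act 2 n3059 = n2240 := d10_1 D3059 (iv D2240) (iv F3643)
def n3060 : Q := act 3 n2237
theorem D3060 : act 3 n2237 = n3060 := rfl
def n3061 : Q := act 5 n2237
theorem D3061 : act 5 n2237 = n3061 := rfl
theorem F4998 : act 2 n3061 = n2238 := d11_1 D3061 (iv D2238) (iv F3644)
def n3062 : Q := act 4 n2239
theorem D3062 : act 4 n2239 = n3062 := rfl
theorem F4999 : act 0 n3062 = n2240 := d3_1 D3062 (iv D2240) D2239
def n3063 : Q := act 3 n2240
theorem D3063 : act 3 n2240 = n3063 := rfl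
theorem F5000 : act 1 n3063 = n2241 := d6_1 D3063 (iv D2241) (iv F3646)
def n3064 : Q := act 5 n2240
theorem D3064 : act 5 n2240 = n3064 := rfl
theorem F5001 : act 1 n3064 = n2242 := d8_1 D3064 (iv D2242) (iv F3646)
def n3065 : Q := act 2 n2241
theorem D3065 : act 2 n2241 = n3065 := rfl
def n3066 : Q := act 5 n2241
theorem D3066 : act 5 n2241 = n3066 := rfl
theorem F5002 : act 3 n3066 = n2242 := d13_1 D3066 (iv D2242) D2241
def n3067 : Q := act 3 n2243
theorem D3067 : act 3 n2243 = n3067 := rfl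
theorem F5003 : act 5 n3067 = n2244 := d13_2 (iv F3648) D3067 (iv D2244)
def n3068 : Q := act 2 n2244
theorem D3068 : act 2 n2244 = n3068 := rfl
theorem F5004 : act 4 n3068 = n2245 := d10_2 (iv F3649) D3068 (iv D2245)
def n3069 : Q := act 1 n2245
theorem D3069 : act 1 n2245 = n3069 := rfl
def n3070 : Q := act 3 n2246
theorem D3070 : act 3 n2246 = n3070 := rfl
theorem F5005 : act 1 n3070 = n2247 := d6_1 D3070 (iv D2247) D2246
def n3071 : Q := act 4 n2247
theorem D3071 : act 4 n2247 = n3071 := rfl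
theorem F5006 : act 0 n3071 = n2249 := d3_1 D3071 (iv D2249) (iv F3651)
theorem F5007 : act 3 n3071 = n2391 := d12_1 D3071 (iv D2391) (iv D1740) (iv F2677) D2247
def n3072 : Q := act 1 n2248
theorem D3072 : act 1 n2248 = n3072 := rfl
def n3073 : Q := act 4 n2248
theorem D3073 : act 4 n2248 = n3073 := rfl
theorem F5008 : act 2 n3073 = n2249 := d10_1 D3073 (iv D2249) D2248
def n3074 : Q := act 5 n2249
theorem D3074 : act 5 n2249 = n3074 := rfl
theorem F5009 : act 3 n3074 = n2394 := d13_1 D3074 (iv D2394) (iv F3652)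
def n3075 : Q := act 4 n2250
theorem D3075 : act 4 n2250 = n3075 := rfl
theorem F5010 : act 0 n3075 = n2252 := d3_1 D3075 (iv D2252) (iv F3653)
theorem F5011 : act 3 n3075 = n2291 := d12_1 D3075 (iv D2291) (iv D1662) (iv F2679) D2250
def n3076 : Q := act 4 n2251
theorem D3076 : act 4 n2251 = n3076 := rfl
theorem F5012 : act 2 n3076 = n2252 := d10_1 D3076 (iv D2252) D2251
def n3077 : Q := act 5 n2252
theorem D3077 : act 5 n2252 = n3077 := rfl
theorem F5013 : act 1 n3077 = n2253 := d8_1 D3077 (iv D2253) (iv F3654)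
theorem F5014 : act 3 n3077 = n2298 := d13_1 D3077 (iv D2298) (iv F3655)
def n3078 : Q := act 2 n2254
theorem D3078 : act 2 n2254 = n3078 := rfl
theorem F5015 : act 0 n3078 = n2756 := d1_1 D3078 F4440 F4405
theorem F5016 : act 5 n3078 = n2307 := d11_2 (iv F3657) D3078 (iv D2307)
theorem F5017 : act 3 n3078 = n2667 := d15_1 D3078 F4296 F3148 F2308 (iv F1978) (iv F2732) D2289 (iv F4406) F4405
def n3079 : Q := act 0 n2255
theorem D3079 : act 0 n2255 = n3079 := rfl
theorem F5018 : act 1 n3079 = n2320 := d0_2 D2255 D3079 (iv D2320) (iv D1681) (iv F2684)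
theorem F5019 : act 2 n3079 = n2730 := d1_2 (iv F3658) D3079 F4412
theorem F5020 : act 4 n3079 = n2257 := d3_2 (iv F3659) D3079 (iv D2257)
theorem F5021 : act 5 n3079 = n2320 := d4_2 (iv F3660) D3079 (iv D2320)
def n3080 : Q := act 3 n2255
theorem D3080 : act 3 n2255 = n3080 := rfl
theorem F5022 : act 1 n3080 = n2256 := d6_1 D3080 (iv D2256) D2255
theorem F5023 : act 4 n3080 = n2342 := d12_2 (iv F3659) D3080 (iv D2342) (iv D1699) (iv F2688)
theorem F5024 : act 5 n3080 = n2321 := d13_2 (iv F3660) D3080 (iv D2321)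
def n3081 : Q := act 2 n2258
theorem D3081 : act 2 n2258 = n3081 := rfl
theorem F5025 : act 0 n3081 = n2259 := d1_1 D3081 (iv D2259) (iv F3668)
theorem F5026 : act 5 n3081 = n2335 := d11_2 (iv F3670) D3081 F3799
def n3082 : Q := act 4 n2258
theorem D3082 : act 4 n2258 = n3082 := rfl
theorem F5027 : act 0 n3082 = n2260 := d3_1 D3082 (iv D2260) (iv F3668)
theorem F5028 : act 1 n3082 = n2323 := d7_1 D3082 (iv D2323) (iv F3669)
theorem F5029 : act 3 n3082 = n2323 := d12_1 D3082 (iv D2323) (iv D1684) (iv F2692) D2258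
def n3083 : Q := act 3 n2259
theorem D3083 : act 3 n2259 = n3083 := rfl
theorem F5030 : act 1 n3083 = n2329 := d6_1 D3083 (iv D2329) (iv F3671)
theorem F5031 : act 5 n3083 = n2336 := d13_2 (iv F3672) D3083 (iv D2336)
def n3084 : Q := act 4 n2259
theorem D3084 : act 4 n2259 = n3084 := rfl
theorem F5032 : act 1 n3084 = n2330 := d7_1 D3084 (iv D2330) (iv F3671)
theorem F5033 : act 2 n3084 = n2260 := d10_1 D3084 (iv D2260) D2259
def n3085 : Q := act 5 n2260
theorem D3085 : act 5 n2260 = n3085 := rfl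
theorem F5034 : act 1 n3085 = n2261 := d8_1 D3085 (iv D2261) (iv F3673)
theorem F5035 : act 3 n3085 = n2326 := d13_1 D3085 (iv D2326) (iv F3674)
theorem F5036 : act 4 n3085 = n2343 := d14_1 D3085 (iv D2343) (iv D1699) (iv F2694) D2260
def n3086 : Q := act 2 n2262
theorem D3086 : act 2 n2262 = n3086 := rfl
theorem F5037 : act 0 n3086 = n2263 := d1_1 D3086 (iv D2263) (iv F3679)
theorem F5038 : act 5 n3086 = n2266 := d11_2 (iv F3681) D3086 (iv D2266)
def n3087 : Q := act 4 n2262
theorem D3087 : act 4 n2262 = n3087 := rfl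
theorem F5039 : act 0 n3087 = n2264 := d3_1 D3087 (iv D2264) (iv F3679)
theorem F5040 : act 1 n3087 = n2328 := d7_1 D3087 (iv D2328) (iv F3680)
def n3088 : Q := act 3 n2263
theorem D3088 : act 3 n2263 = n3088 := rfl
theorem F5041 : act 1 n3088 = n2324 := d6_1 D3088 (iv D2324) (iv F3682)
theorem F5042 : act 5 n3088 = n2269 := d13_2 (iv F3683) D3088 (iv D2269)
def n3089 : Q := act 4 n2263
theorem D3089 : act 4 n2263 = n3089 := rfl
theorem F5043 : act 1 n3089 = n2325 := d7_1 D3089 (iv D2325) (iv F3682)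
theorem F5044 : act 2 n3089 = n2264 := d10_1 D3089 (iv D2264) D2263
def n3090 : Q := act 5 n2264
theorem D3090 : act 5 n2264 = n3090 := rfl
theorem F5045 : act 1 n3090 = n2265 := d8_1 D3090 (iv D2265) (iv F3684)
theorem F5046 : act 3 n3090 = n2450 := d13_1 D3090 (iv F4778) F4777
theorem F5047 : act 4 n3090 = n2271 := d14_1 D3090 (iv D2271) (iv D1648) (iv F2701) D2264
def n3091 : Q := act 1 n2266
theorem D3091 : act 1 n2266 = n3091 := rfl
theorem F5048 : act 2 n3091 = n2332 := d5_2 D2266 D3091 (iv D2332) (iv D1692) (iv F2705)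
def n3092 : Q := act 3 n2266
theorem D3092 : act 3 n2266 = n3092 := rfl
theorem F5049 : act 0 n3092 = n2269 := d2_1 D3092 (iv D2269) (iv F3689)
def n3093 : Q := act 4 n2266
theorem D3093 : act 4 n2266 = n3093 := rfl
theorem F5050 : act 0 n3093 = n2270 := d3_1 D3093 (iv D2270) (iv F3689)
theorem F5051 : act 2 n3093 = n2267 := d10_1 D3093 (iv D2267) D2266
def n3094 : Q := act 5 n2267
theorem D3094 : act 5 n2267 = n3094 := rfl
theorem F5052 : act 0 n3094 = n2271 := d4_1 D3094 (iv D2271) (iv F3690)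
theorem F5053 : act 1 n3094 = n2334 := d8_1 D3094 (iv D2334) (iv F3691)
theorem F5054 : act 3 n3094 = n2278 := d13_1 D3094 (iv D2278) (iv F3692)
def n3095 : Q := act 0 n2268
theorem D3095 : act 0 n2268 = n3095 := rfl
theorem F5055 : act 2 n3095 = n2272 := d1_2 (iv F3693) D3095 (iv D2272)
theorem F5056 : act 5 n3095 = n2322 := d4_2 (iv F3694) D3095 F3780
theorem F5057 : act 3 n2750 = n3095 := d15_7 (iv D1685) (iv D1215) F1441 D1042 D1453 D2005 D2750 F5056 F3780
def n3096 : Q := act 3 n2268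
theorem D3096 : act 3 n2268 = n3096 := rfl
theorem F5058 : act 0 n3096 = n2750 := d2_1 D3096 F5057 (iv D3095)
theorem F5059 : act 1 n3096 = n2269 := d6_1 D3096 (iv D2269) D2268
theorem F5060 : act 5 n3096 = n2324 := d13_2 (iv F3694) D3096 (iv D2324)
theorem F5061 : act 2 n3096 = n2746 := d15_2 (iv F3693) D3096 (iv D2746) (iv D2002) (iv D1451) (iv F1997) D1684 (iv F3700) (iv D2272)
def n3097 : Q := act 4 n2268
theorem D3097 : act 4 n2268 = n3097 := rfl
theorem F5062 : act 1 n3097 = n2270 := d7_1 D3097 (iv D2270) D2268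
theorem F5063 : act 2 n3097 = n2273 := d10_1 D3097 (iv D2273) (iv F3693)
def n3098 : Q := act 2 n2269
theorem D3098 : act 2 n2269 = n3098 := rfl
def n3099 : Q := act 4 n2269
theorem D3099 : act 4 n2269 = n3099 := rfl
def n3100 : Q := act 3 n2270
theorem D3100 : act 3 n2270 = n3100 := rfl
def n3101 : Q := act 5 n2270
theorem D3101 : act 5 n2270 = n3101 := rfl
theorem F5064 : act 2 n3101 = n2271 := d11_1 D3101 (iv D2271) (iv F3695)
def n3102 : Q := act 4 n2272
theorem D3102 : act 4 n2272 = n3102 := rfl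
theorem F5065 : act 0 n3102 = n2273 := d3_1 D3102 (iv D2273) D2272
theorem F5066 : act 1 n3102 = n2341 := d7_1 D3102 (iv D2341) (iv F3698)
def n3103 : Q := act 3 n2273
theorem D3103 : act 3 n2273 = n3103 := rfl
theorem F5067 : act 1 n3103 = n2274 := d6_1 D3103 (iv D2274) (iv F3701)
theorem F5068 : act 4 n3103 = n2321 := d12_2 D2273 D3103 (iv D2321) F2754 (iv F2708)
def n3104 : Q := act 5 n2273
theorem D3104 : act 5 n2273 = n3104 := rfl
theorem F5069 : act 1 n3104 = n2275 := d8_1 D3104 (iv D2275) (iv F3701)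
theorem F5070 : act 4 n3104 = n2326 := d14_1 D3104 (iv D2326) (iv D1686) (iv F2709) D2273
def n3105 : Q := act 5 n2274
theorem D3105 : act 5 n2274 = n3105 := rfl
theorem F5071 : act 0 n3105 = n2345 := d4_1 D3105 (iv D2345) (iv F3702)
theorem F5072 : act 2 n3105 = n2357 := d11_1 D3105 (iv F4897) F4895
theorem F5073 : act 3 n3105 = n2275 := d13_1 D3105 (iv D2275) D2274
theorem F5074 : act 4 n3105 = n2345 := d14_1 D3105 (iv D2345) (iv F3662) F3663 (iv F3703)
def n3106 : Q := act 4 n2276
theorem D3106 : act 4 n2276 = n3106 := rfl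
theorem F5075 : act 0 n3106 = n2280 := d3_1 D3106 (iv D2280) (iv F3707)
theorem F5076 : act 1 n3106 = n2277 := d7_1 D3106 (iv D2277) D2276
theorem F5077 : act 2 n3106 = n2346 := d10_1 D3106 (iv D2346) (iv F3708)
def n3107 : Q := act 3 n2277
theorem D3107 : act 3 n2277 = n3107 := rfl
theorem F5078 : act 0 n3107 = n2281 := d2_1 D3107 (iv D2281) (iv F3711)
def n3108 : Q := act 5 n2277
theorem D3108 : act 5 n2277 = n3108 := rfl
theorem F5079 : act 0 n3108 = n2282 := d4_1 D3108 (iv D2282) (iv F3711)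
theorem F5080 : act 2 n3108 = n2278 := d11_1 D3108 (iv D2278) (iv F3712)
theorem F5081 : act 4 n3108 = n2427 := d14_1 D3108 (iv D2427) F2868 (iv F2715) D2277
def n3109 : Q := act 4 n2279
theorem D3109 : act 4 n2279 = n3109 := rfl
theorem F5082 : act 0 n3109 = n2346 := d3_1 D3109 (iv D2346) (iv F3716)
theorem F5083 : act 1 n3109 = n2349 := d7_1 D3109 (iv D2349) (iv F3717)
theorem F5084 : act 2 n3109 = n2280 := d10_1 D3109 (iv D2280) D2279
def n3110 : Q := act 3 n2280
theorem D3110 : act 3 n2280 = n3110 := rfl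
theorem F5085 : act 1 n3110 = n2357 := d6_1 D3110 (iv D2357) (iv F3720)
theorem F5086 : act 4 n3110 = n2281 := d12_2 D2280 D3110 (iv D2281) (iv D1655) D1654
def n3111 : Q := act 2 n2281
theorem D3111 : act 2 n2281 = n3111 := rfl
def n3112 : Q := act 5 n2281
theorem D3112 : act 5 n2281 = n3112 := rfl
theorem F5087 : act 1 n3112 = n2344 := d8_1 D3112 (iv F3810) (iv F3721)
theorem F5088 : act 3 n3112 = n2282 := d13_1 D3112 (iv D2282) D2281
def n3113 : Q := act 2 n2283
theorem D3113 : act 2 n2283 = n3113 := rfl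
theorem F5089 : act 0 n3113 = n2285 := d1_1 D3113 (iv D2285) (iv F3725)
theorem F5090 : act 5 n3113 = n2371 := d11_2 F3727 D3113 F3855
def n3114 : Q := act 4 n2283
theorem D3114 : act 4 n2283 = n3114 := rfl
theorem F5091 : act 0 n3114 = n2286 := d3_1 D3114 (iv D2286) (iv F3725)
theorem F5092 : act 1 n3114 = n2291 := d7_1 D3114 (iv D2291) (iv F3726)
def n3115 : Q := act 4 n2284
theorem D3115 : act 4 n2284 = n3115 := rfl
theorem F5093 : act 0 n3115 = n2287 := d3_1 D3115 (iv D2287) (iv F3728)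
theorem F5094 : act 1 n3115 = n2293 := d7_1 D3115 (iv D2293) (iv F3729)
def n3116 : Q := act 3 n2285
theorem D3116 : act 3 n2285 = n3116 := rfl
theorem F5095 : act 1 n3116 = n2375 := d6_1 D3116 F3861 (iv F3731)
theorem F5096 : act 5 n3116 = n2372 := d13_2 (iv F3732) D3116 (iv D2372)
def n3117 : Q := act 4 n2285
theorem D3117 : act 4 n2285 = n3117 := rfl
theorem F5097 : act 1 n3117 = n2378 := d7_1 D3117 (iv D2378) (iv F3731)
theorem F5098 : act 2 n3117 = n2286 := d10_1 D3117 (iv D2286) D2285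
def n3118 : Q := act 5 n2286
theorem D3118 : act 5 n2286 = n3118 := rfl
theorem F5099 : act 1 n3118 = n2288 := d8_1 D3118 (iv D2288) (iv F3733)
theorem F5100 : act 4 n3118 = n2384 := d14_1 D3118 (iv D2384) (iv D1733) F2726 D2286
def n3119 : Q := act 3 n2287
theorem D3119 : act 3 n2287 = n3119 := rfl
theorem F5101 : act 1 n3119 = n2289 := d6_1 D3119 (iv D2289) (iv F3734)
theorem F5102 : act 4 n3119 = n2383 := d12_2 D2287 D3119 (iv D2383) (iv D1733) (iv F2728)
def n3120 : Q := act 2 n2289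
theorem D3120 : act 2 n2289 = n3120 := rfl
theorem F5103 : act 0 n3120 = n2307 := d1_1 D3120 (iv D2307) (iv F3738)
theorem F5104 : act 3 n3120 = n2744 := d9_2 D2289 D3120 (iv D2744) (iv D2001) F2369 (iv F1934) (iv F2682) D2254 D3078 F5017 F4296 F3148 F2308 (iv F1978) (iv F2732)
theorem F5105 : act 4 n3120 = n2385 := d10_2 (iv F3739) D3120 (iv D2385)
theorem F5106 : act 5 n3120 = n2756 := d11_2 F4406 D3120 F4440
def n3121 : Q := act 1 n2290
theorem D3121 : act 1 n2290 = n3121 := rfl
def n3122 : Q := act 4 n2290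
theorem D3122 : act 4 n2290 = n3122 := rfl
theorem F5107 : act 0 n3122 = n2296 := d3_1 D3122 (iv D2296) (iv F3740)
theorem F5108 : act 2 n3122 = n2291 := d10_1 D3122 (iv D2291) D2290
def n3123 : Q := act 5 n2290
theorem D3123 : act 5 n2290 = n3123 := rfl
theorem F5109 : act 0 n3123 = n2297 := d4_1 D3123 (iv D2297) (iv F3740)
theorem F5110 : act 2 n3123 = n2292 := d11_1 D3123 (iv D2292) D2290
theorem F5111 : act 3 n3123 = n2313 := d13_1 D3123 (iv F4730) F4731
def n3124 : Q := act 5 n2291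
theorem D3124 : act 5 n2291 = n3124 := rfl
theorem F5112 : act 0 n3124 = n2298 := d4_1 D3124 (iv D2298) (iv F3741)
def n3125 : Q := act 4 n2292
theorem D3125 : act 4 n2292 = n3125 := rfl
theorem F5113 : act 0 n3125 = n2299 := d3_1 D3125 (iv D2299) (iv F3742)
theorem F5114 : act 1 n3125 = n2382 := d7_1 D3125 (iv D2382) (iv F3743)
def n3126 : Q := act 3 n2293
theorem D3126 : act 3 n2293 = n3126 := rfl
theorem F5115 : act 0 n3126 = n2300 := d2_1 D3126 (iv D2300) (iv F3745)
def n3127 : Q := act 0 n2294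
theorem D3127 : act 0 n2294 = n3127 := rfl
theorem F5116 : act 2 n3127 = n2301 := d1_2 (iv F3747) D3127 (iv D2301)
theorem F5117 : act 5 n3127 = n2358 := d4_2 F3748 D3127 F3832
theorem F5118 : act 3 n3098 = n3127 := d15_7 (iv D1716) (iv D1237) F1455 D1187 D1647 D2269 D3098 F5117 F3832
def n3128 : Q := act 3 n2294
theorem D3128 : act 3 n2294 = n3128 := rfl
theorem F5119 : act 0 n3128 = n3098 := d2_1 D3128 F5118 (iv D3127)
theorem F5120 : act 1 n3128 = n2295 := d6_1 D3128 (iv D2295) D2294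
theorem F5121 : act 5 n3128 = n2361 := d13_2 F3748 D3128 (iv D2361)
theorem F5122 : act 2 n3128 = n3092 := d15_2 (iv F3747) D3128 (iv D3092) (iv D2266) (iv D1646) (iv F2027) D1714 (iv F3757) (iv D2301)
def n3129 : Q := act 4 n2294
theorem D3129 : act 4 n2294 = n3129 := rfl
theorem F5123 : act 1 n3129 = n2296 := d7_1 D3129 (iv D2296) D2294
theorem F5124 : act 2 n3129 = n2302 := d10_1 D3129 (iv D2302) (iv F3747)
def n3130 : Q := act 4 n2295
theorem D3130 : act 4 n2295 = n3130 := rfl
def n3131 : Q := act 5 n2295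
theorem D3131 : act 5 n2295 = n3131 := rfl
theorem F5125 : act 0 n3131 = n2313 := d4_1 D3131 (iv F4730) F4729
theorem F5126 : act 1 n3131 = n2361 := d8_1 D3131 (iv F5121) F5120
theorem F5127 : act 2 n3131 = n2309 := d11_1 D3131 (iv F4727) F4728
theorem F5128 : act 3 n3131 = n2297 := d13_1 D3131 (iv D2297) D2295
def n3132 : Q := act 3 n2296
theorem D3132 : act 3 n2296 = n3132 := rfl
def n3133 : Q := act 5 n2296
theorem D3133 : act 5 n2296 = n3133 := rfl
theorem F5129 : act 2 n3133 = n2298 := d11_1 D3133 (iv D2298) (iv F3749)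
def n3134 : Q := act 4 n2297
theorem D3134 : act 4 n2297 = n3134 := rfl
theorem F5130 : act 1 n3134 = n2362 := d7_1 D3134 (iv D2362) (iv F3750)
theorem F5131 : act 2 n3134 = n2299 := d10_1 D3134 (iv D2299) (iv F3751)
def n3135 : Q := act 4 n2298
theorem D3135 : act 4 n2298 = n3135 := rfl
theorem F5132 : act 1 n3135 = n2305 := d7_1 D3135 (iv D2305) (iv F3752)
theorem F5133 : act 5 n3135 = n2299 := d14_2 D2298 D3135 (iv D2299) (iv D1666) D1665
def n3136 : Q := act 3 n2299
theorem D3136 : act 3 n2299 = n3136 := rfl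
theorem F5134 : act 1 n3136 = n2306 := d6_1 D3136 (iv D2306) (iv F3753)
theorem F5135 : act 4 n3136 = n2300 := d12_2 D2299 D3136 (iv D2300) (iv D1667) (iv F2738)
def n3137 : Q := act 2 n2300
theorem D3137 : act 2 n2300 = n3137 := rfl
def n3138 : Q := act 4 n2301
theorem D3138 : act 4 n2301 = n3138 := rfl
theorem F5136 : act 0 n3138 = n2302 := d3_1 D3138 (iv D2302) D2301
theorem F5137 : act 1 n3138 = n2369 := d7_1 D3138 (iv D2369) (iv F3755)
def n3139 : Q := act 3 n2302
theorem D3139 : act 3 n2302 = n3139 := rfl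
theorem F5138 : act 1 n3139 = n2303 := d6_1 D3139 (iv D2303) (iv F3758)
theorem F5139 : act 4 n3139 = n2364 := d12_2 D2302 D3139 (iv D2364) (iv D1718) (iv F2741)
def n3140 : Q := act 5 n2302
theorem D3140 : act 5 n2302 = n3140 := rfl
theorem F5140 : act 1 n3140 = n2304 := d8_1 D3140 (iv D2304) (iv F3758)
theorem F5141 : act 4 n3140 = n2363 := d14_1 D3140 (iv D2363) (iv D1717) (iv F2742) D2302
def n3141 : Q := act 3 n2305
theorem D3141 : act 3 n2305 = n3141 := rfl
theorem F5142 : act 0 n3141 = n2386 := d2_1 D3141 F3872 (iv F3765)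
theorem F5143 : act 2 n3141 = n2767 := d9_1 D3141 (iv D2767) (iv D2018) (iv D1464) F1737 (iv F1469) (iv F2047) D1734 D2385 (iv F4341) F4340 F3186 (iv F2351) (iv F2807) (iv F3766)
theorem F5144 : act 5 n3141 = n2306 := d13_2 (iv F3767) D3141 (iv D2306)
def n3142 : Q := act 2 n2306
theorem D3142 : act 2 n2306 = n3142 := rfl
theorem F5145 : act 0 n3142 = n2385 := d1_1 D3142 (iv D2385) (iv F3768)
theorem F5146 : act 3 n3142 = n2768 := d9_2 D2306 D3142 F4462 F3282 F2387 (iv F2048) (iv F2828) (iv F3872) (iv F4338) (iv D2692) F3185 F2315 (iv F1720) (iv F2033) (iv F2746)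
theorem F5147 : act 4 n3142 = n2307 := d10_2 (iv F3769) D3142 (iv D2307)
theorem F5148 : act 5 n3142 = n2767 := d11_2 F5144 D3142 (iv F5143)
def n3143 : Q := act 1 n2307
theorem D3143 : act 1 n2307 = n3143 := rfl
def n3144 : Q := act 3 n2307
theorem D3144 : act 3 n2307 = n3144 := rfl
theorem F5149 : act 0 n3144 = n2744 := d2_1 D3144 (iv F5104) F5103
theorem F5150 : act 2 n3144 = n2668 := d9_1 D3144 F4298 F3176 (iv F2359) (iv F3244) D2726 (iv F4440) (iv D2756) (iv D2009) (iv D1457) F1731 (iv F1434) (iv F1989) D1672 D2307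
theorem F5151 : act 5 n3144 = n2667 := d13_2 F5016 D3144 (iv F5017)
def n3145 : Q := act 3 n2308
theorem D3145 : act 3 n2308 = n3145 := rfl
theorem F5152 : act 1 n3145 = n2309 := d6_1 D3145 (iv D2309) D2308
def n3146 : Q := act 4 n2308
theorem D3146 : act 4 n2308 = n3146 := rfl
theorem F5153 : act 1 n3146 = n2310 := d7_1 D3146 (iv D2310) D2308
def n3147 : Q := act 4 n2309
theorem D3147 : act 4 n2309 = n3147 := rfl
theorem F5154 : act 0 n3147 = n2314 := d3_1 D3147 (iv D2314) (iv F3770)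
def n3148 : Q := act 3 n2310
theorem D3148 : act 3 n2310 = n3148 := rfl
theorem F5155 : act 0 n3148 = n2315 := d2_1 D3148 (iv D2315) (iv F3771)
def n3149 : Q := act 5 n2310
theorem D3149 : act 5 n2310 = n3149 := rfl
theorem F5156 : act 0 n3149 = n2316 := d4_1 D3149 (iv D2316) (iv F3771)
theorem F5157 : act 2 n3149 = n2311 := d11_1 D3149 (iv D2311) (iv F3772)
def n3150 : Q := act 2 n2312
theorem D3150 : act 2 n2312 = n3150 := rfl
theorem F5158 : act 0 n3150 = n2317 := d1_1 D3150 (iv D2317) (iv F3774)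
def n3151 : Q := act 1 n2313
theorem D3151 : act 1 n2313 = n3151 := rfl
def n3152 : Q := act 4 n2313
theorem D3152 : act 4 n2313 = n3152 := rfl
theorem F5159 : act 2 n3152 = n2314 := d10_1 D3152 (iv D2314) D2313
def n3153 : Q := act 3 n2314
theorem D3153 : act 3 n2314 = n3153 := rfl
theorem F5160 : act 4 n3153 = n2315 := d12_2 D2314 D3153 (iv D2315) (iv D1677) D1676
def n3154 : Q := act 5 n2314
theorem D3154 : act 5 n2314 = n3154 := rfl
def n3155 : Q := act 2 n2315
theorem D3155 : act 2 n2315 = n3155 := rfl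
def n3156 : Q := act 5 n2315
theorem D3156 : act 5 n2315 = n3156 := rfl
theorem F5161 : act 3 n3156 = n2316 := d13_1 D3156 (iv D2316) D2315
def n3157 : Q := act 1 n2317
theorem D3157 : act 1 n2317 = n3157 := rfl
theorem F5162 : act 2 n3157 = n2318 := d5_2 D2317 D3157 (iv D2318) (iv D1680) (iv F2752)
def n3158 : Q := act 3 n2317
theorem D3158 : act 3 n2317 = n3158 := rfl
def n3159 : Q := act 0 n2318
theorem D3159 : act 0 n2318 = n3159 := rfl
def n3160 : Q := act 3 n2318
theorem D3160 : act 3 n2318 = n3160 := rfl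
theorem F5163 : act 1 n3160 = n2319 := d6_1 D3160 (iv D2319) D2318
def n3161 : Q := act 3 n2320
theorem D3161 : act 3 n2320 = n3161 := rfl
theorem F5164 : act 0 n3161 = n2321 := d2_1 D3161 (iv D2321) D2320
def n3162 : Q := act 2 n2321
theorem D3162 : act 2 n2321 = n3162 := rfl
def n3163 : Q := act 1 n2322
theorem D3163 : act 1 n2322 = n3163 := rfl
def n3164 : Q := act 3 n2322
theorem D3164 : act 3 n2322 = n3164 := rfl
theorem F5165 : act 0 n3164 = n2324 := d2_1 D3164 (iv D2324) (iv F3780)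
theorem F5166 : act 2 n3164 = n2611 := d9_1 D3164 (iv D2611) F3082 F2269 (iv F1995) (iv F2708) (iv F3693) D3096 F5061 (iv D2746) (iv D2002) (iv D1451) (iv F1997) D1684 D2322
theorem F5167 : act 5 n3164 = n2750 := d13_2 F5056 D3164 F5057
def n3165 : Q := act 4 n2322
theorem D3165 : act 4 n2322 = n3165 := rfl
theorem F5168 : act 0 n3165 = n2325 := d3_1 D3165 (iv D2325) (iv F3780)
theorem F5169 : act 2 n3165 = n2323 := d10_1 D3165 (iv D2323) D2322
def n3166 : Q := act 5 n2323
theorem D3166 : act 5 n2323 = n3166 := rfl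
theorem F5170 : act 0 n3166 = n2326 := d4_1 D3166 (iv D2326) (iv F3781)
def n3167 : Q := act 2 n2324
theorem D3167 : act 2 n2324 = n3167 := rfl
theorem F5171 : act 0 n3167 = n2611 := d1_1 D3167 (iv F5166) F5165
theorem F5172 : act 3 n3167 = n2610 := d9_2 D2324 D3167 F4202 F3101 (iv F2755) (iv F3699) (iv F5055) (iv F5057) (iv D2750) (iv D2005) (iv D1453) (iv D1042) (iv F1441) D1215 D1685
theorem F5173 : act 5 n3167 = n2746 := d11_2 F5060 D3167 (iv F5061)
def n3168 : Q := act 4 n2324
theorem D3168 : act 4 n2324 = n3168 := rfl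
def n3169 : Q := act 3 n2325
theorem D3169 : act 3 n2325 = n3169 := rfl
def n3170 : Q := act 5 n2325
theorem D3170 : act 5 n2325 = n3170 := rfl
theorem F5174 : act 2 n3170 = n2326 := d11_1 D3170 (iv D2326) (iv F3782)
def n3171 : Q := act 1 n2327
theorem D3171 : act 1 n2327 = n3171 := rfl
theorem F5175 : act 3 n3171 = n2399 := d6_2 (iv F3785) D3171 (iv D2399)
theorem F5176 : act 5 n3171 = n2332 := d8_2 (iv F3786) D3171 (iv D2332)
def n3172 : Q := act 4 n2327
theorem D3172 : act 4 n2327 = n3172 := rfl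
theorem F5177 : act 0 n3172 = n2330 := d3_1 D3172 (iv D2330) (iv F3784)
theorem F5178 : act 2 n3172 = n2328 := d10_1 D3172 (iv D2328) D2327
def n3173 : Q := act 5 n2328
theorem D3173 : act 5 n2328 = n3173 := rfl
theorem F5179 : act 0 n3173 = n2331 := d4_1 D3173 (iv D2331) (iv F3787)
theorem F5180 : act 4 n3173 = n2334 := d14_1 D3173 (iv D2334) (iv D1693) (iv F2760) D2328
def n3174 : Q := act 4 n2329
theorem D3174 : act 4 n2329 = n3174 := rfl
theorem F5181 : act 0 n3174 = n2400 := d3_1 D3174 (iv D2400) (iv F3788)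
theorem F5182 : act 2 n3174 = n2397 := d10_1 D3174 (iv D2397) (iv F3789)
def n3175 : Q := act 3 n2330
theorem D3175 : act 3 n2330 = n3175 := rfl
def n3176 : Q := act 5 n2330
theorem D3176 : act 5 n2330 = n3176 := rfl
theorem F5183 : act 2 n3176 = n2331 := d11_1 D3176 (iv D2331) (iv F3791)
theorem F5184 : act 4 n3176 = n2340 := d14_1 D3176 (iv D2340) (iv D1696) (iv F2761) D2330
def n3177 : Q := act 0 n2332
theorem D3177 : act 0 n2332 = n3177 := rfl
theorem F5185 : act 1 n3177 = n2335 := d0_2 D2332 D3177 (iv D2335) (iv D1694) (iv F2764)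
theorem F5186 : act 3 n3177 = n3058 := d2_2 (iv F3794) D3177 (iv D3058)
def n3178 : Q := act 4 n2332
theorem D3178 : act 4 n2332 = n3178 := rfl
theorem F5187 : act 1 n3178 = n2333 := d7_1 D3178 (iv D2333) D2332
def n3179 : Q := act 3 n2333
theorem D3179 : act 3 n2333 = n3179 := rfl
theorem F5188 : act 0 n3179 = n2339 := d2_1 D3179 (iv D2339) (iv F3795)
theorem F5189 : act 4 n3179 = n3060 := d12_2 D2333 D3179 (iv D3060) (iv D2237) (iv F2765)
def n3180 : Q := act 5 n2333
theorem D3180 : act 5 n2333 = n3180 := rfl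
theorem F5190 : act 0 n3180 = n2340 := d4_1 D3180 (iv D2340) (iv F3795)
theorem F5191 : act 2 n3180 = n2334 := d11_1 D3180 (iv D2334) (iv F3796)
def n3181 : Q := act 3 n2335
theorem D3181 : act 3 n2335 = n3181 := rfl
theorem F5192 : act 0 n3181 = n2336 := d2_1 D3181 (iv D2336) D2335
theorem F5193 : act 1 n3181 = n3058 := d6_1 D3181 (iv F5186) F5185
theorem F5194 : act 2 n3181 = n2732 := d15_2 (iv F3799) D3181 (iv D2732) (iv D1993) (iv D1445) (iv F1945) D1641 F2694 D1698
def n3182 : Q := act 4 n2335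
theorem D3182 : act 4 n2335 = n3182 := rfl
theorem F5195 : act 0 n3182 = n2337 := d3_1 D3182 (iv D2337) D2335
theorem F5196 : act 2 n3182 = n2341 := d10_1 D3182 (iv D2341) (iv F3799)
def n3183 : Q := act 2 n2336
theorem D3183 : act 2 n2336 = n3183 := rfl
theorem F5197 : act 0 n3183 = n2732 := d1_1 D3183 (iv F5194) F5192
theorem F5198 : act 1 n3183 = n3051 := d5_1 D3183 (iv D3051) F3637 (iv F2770) (iv F3800)
theorem F5199 : act 3 n3183 = n2727 := d15_3 (iv F2768) D2336 D3183 (iv D2727) (iv D1991) (iv F2691) D2258 F3670 (iv D1698)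
def n3184 : Q := act 4 n2336
theorem D3184 : act 4 n2336 = n3184 := rfl
theorem F5200 : act 1 n3184 = n2338 := d7_1 D3184 (iv D2338) (iv F3800)
def n3185 : Q := act 3 n2337
theorem D3185 : act 3 n2337 = n3185 := rfl
theorem F5201 : act 1 n3185 = n2339 := d6_1 D3185 (iv D2339) (iv F3801)
def n3186 : Q := act 5 n2337
theorem D3186 : act 5 n2337 = n3186 := rfl
theorem F5202 : act 1 n3186 = n2340 := d8_1 D3186 (iv D2340) (iv F3801)
theorem F5203 : act 2 n3186 = n2343 := d11_1 D3186 (iv D2343) (iv F3802)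
def n3187 : Q := act 3 n2338
theorem D3187 : act 3 n2338 = n3187 := rfl
theorem F5204 : act 0 n3187 = n3060 := d2_1 D3187 (iv D3060) (iv F3803)
theorem F5205 : act 4 n3187 = n2339 := d12_2 D2338 D3187 (iv D2339) (iv D1696) D1695
def n3188 : Q := act 5 n2338
theorem D3188 : act 5 n2338 = n3188 := rfl
theorem F5206 : act 0 n3188 = n3061 := d4_1 D3188 (iv D3061) (iv F3803)
theorem F5207 : act 2 n3188 = n3057 := d11_1 D3188 (iv D3057) (iv F3804)
def n3189 : Q := act 2 n2339
theorem D3189 : act 2 n2339 = n3189 := rfl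
def n3190 : Q := act 5 n2339
theorem D3190 : act 5 n2339 = n3190 := rfl
theorem F5208 : act 3 n3190 = n2340 := d13_1 D3190 (iv D2340) D2339
def n3191 : Q := act 3 n2341
theorem D3191 : act 3 n2341 = n3191 := rfl
theorem F5209 : act 0 n3191 = n2342 := d2_1 D3191 (iv D2342) (iv F3806)
def n3192 : Q := act 5 n2341
theorem D3192 : act 5 n2341 = n3192 := rfl
theorem F5210 : act 0 n3192 = n2343 := d4_1 D3192 (iv D2343) (iv F3806)
def n3193 : Q := act 2 n2342
theorem D3193 : act 2 n2342 = n3193 := rfl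
def n3194 : Q := act 5 n2342
theorem D3194 : act 5 n2342 = n3194 := rfl
theorem F5211 : act 1 n3194 = n2345 := d8_1 D3194 (iv D2345) (iv F3807)
theorem F5212 : act 3 n3194 = n2343 := d13_1 D3194 (iv D2343) D2342
def n3195 : Q := act 3 n2346
theorem D3195 : act 3 n2346 = n3195 := rfl
theorem F5213 : act 1 n3195 = n2347 := d6_1 D3195 (iv D2347) (iv F3813)
theorem F5214 : act 4 n3195 = n2758 := d12_2 D2346 D3195 (iv D2758) (iv D2012) (iv F2776)
def n3196 : Q := act 5 n2346
theorem D3196 : act 5 n2346 = n3196 := rfl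
theorem F5215 : act 1 n3196 = n2348 := d8_1 D3196 (iv D2348) (iv F3813)
def n3197 : Q := act 2 n2347
theorem D3197 : act 2 n2347 = n3197 := rfl
theorem F5216 : act 0 n3197 = n2355 := d1_1 D3197 (iv D2355) (iv F3814)
theorem F5217 : act 4 n3197 = n2760 := d10_2 (iv F3815) D3197 (iv D2760)
def n3198 : Q := act 5 n2347
theorem D3198 : act 5 n2347 = n3198 := rfl
theorem F5218 : act 0 n3198 = n2356 := d4_1 D3198 (iv D2356) (iv F3814)
theorem F5219 : act 3 n3198 = n2348 := d13_1 D3198 (iv D2348) D2347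
def n3199 : Q := act 3 n2349
theorem D3199 : act 3 n2349 = n3199 := rfl
theorem F5220 : act 0 n3199 = n2351 := d2_1 D3199 (iv D2351) (iv F3818)
def n3200 : Q := act 3 n2350
theorem D3200 : act 3 n2350 = n3200 := rfl
theorem F5221 : act 1 n3200 = n2353 := d6_1 D3200 (iv D2353) (iv F3820)
theorem F5222 : act 4 n3200 = n2351 := d12_2 D2350 D3200 (iv D2351) (iv D1707) D1706
def n3201 : Q := act 5 n2350
theorem D3201 : act 5 n2350 = n3201 := rfl
theorem F5223 : act 1 n3201 = n2354 := d8_1 D3201 (iv D2354) (iv F3820)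
theorem F5224 : act 4 n3201 = n2425 := d14_1 D3201 (iv D2425) (iv D1765) (iv F2783) D2350
def n3202 : Q := act 2 n2351
theorem D3202 : act 2 n2351 = n3202 := rfl
def n3203 : Q := act 5 n2351
theorem D3203 : act 5 n2351 = n3203 := rfl
theorem F5225 : act 1 n3203 = n2356 := d8_1 D3203 (iv D2356) (iv F3821)
theorem F5226 : act 3 n3203 = n2352 := d13_1 D3203 (iv D2352) D2351
def n3204 : Q := act 2 n2353
theorem D3204 : act 2 n2353 = n3204 := rfl
theorem F5227 : act 0 n3204 = n2760 := d1_1 D3204 (iv D2760) (iv F3825)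
theorem F5228 : act 4 n3204 = n2355 := d10_2 (iv F3826) D3204 (iv D2355)
def n3205 : Q := act 5 n2353
theorem D3205 : act 5 n2353 = n3205 := rfl
theorem F5229 : act 0 n3205 = n2761 := d4_1 D3205 (iv D2761) (iv F3825)
theorem F5230 : act 3 n3205 = n2354 := d13_1 D3205 (iv D2354) D2353
def n3206 : Q := act 1 n2355
theorem D3206 : act 1 n2355 = n3206 := rfl
def n3207 : Q := act 3 n2355
theorem D3207 : act 3 n2355 = n3207 := rfl
def n3208 : Q := act 5 n2355
theorem D3208 : act 5 n2355 = n3208 := rfl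
theorem F5231 : act 2 n3208 = n2356 := d11_1 D3208 (iv D2356) D2355
def n3209 : Q := act 4 n2356
theorem D3209 : act 4 n2356 = n3209 := rfl
def n3210 : Q := act 1 n2358
theorem D3210 : act 1 n2358 = n3210 := rfl
theorem F5232 : act 2 n3210 = n2365 := d5_2 D2358 D3210 (iv D2365) (iv D1721) (iv F2797)
def n3211 : Q := act 3 n2358
theorem D3211 : act 3 n2358 = n3211 := rfl
theorem F5233 : act 0 n3211 = n2361 := d2_1 D3211 (iv D2361) (iv F3832)
theorem F5234 : act 2 n3211 = n3088 := d9_1 D3211 (iv D3088) (iv D2263) (iv D1644) (iv F2031) (iv F2741) (iv F3747) D3128 F5122 (iv D3092) (iv D2266) (iv D1646) (iv F2027) D1714 D2358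
theorem F5235 : act 5 n3211 = n3098 := d13_2 F5117 D3211 F5118
def n3212 : Q := act 4 n2358
theorem D3212 : act 4 n2358 = n3212 := rfl
theorem F5236 : act 0 n3212 = n2362 := d3_1 D3212 (iv D2362) (iv F3832)
theorem F5237 : act 2 n3212 = n2359 := d10_1 D3212 (iv D2359) D2358
def n3213 : Q := act 5 n2359
theorem D3213 : act 5 n2359 = n3213 := rfl
theorem F5238 : act 0 n3213 = n2363 := d4_1 D3213 (iv D2363) (iv F3833)
theorem F5239 : act 1 n3213 = n2368 := d8_1 D3213 (iv D2368) (iv F3834)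
theorem F5240 : act 3 n3213 = n2716 := d13_1 D3213 (iv D2716) (iv F3835)
def n3214 : Q := act 3 n2360
theorem D3214 : act 3 n2360 = n3214 := rfl
theorem F5241 : act 0 n3214 = n2364 := d2_1 D3214 (iv D2364) (iv F3836)
theorem F5242 : act 1 n3214 = n2370 := d6_1 D3214 (iv D2370) (iv F3837)
theorem F5243 : act 5 n3214 = n2404 := d13_2 (iv F3839) D3214 (iv D2404)
def n3215 : Q := act 2 n2361
theorem D3215 : act 2 n2361 = n3215 := rfl
theorem F5244 : act 0 n3215 = n3088 := d1_1 D3215 (iv F5234) F5233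
theorem F5245 : act 3 n3215 = n3086 := d9_2 D2361 D3215 (iv D3086) (iv D2262) (iv F2800) (iv F3756) (iv F5116) (iv F5118) (iv D3098) (iv D2269) (iv D1647) (iv D1187) (iv F1455) D1237 D1716
theorem F5246 : act 5 n3215 = n3092 := d11_2 F5121 D3215 (iv F5122)
def n3216 : Q := act 4 n2361
theorem D3216 : act 4 n2361 = n3216 := rfl
def n3217 : Q := act 3 n2362
theorem D3217 : act 3 n2362 = n3217 := rfl
def n3218 : Q := act 5 n2362
theorem D3218 : act 5 n2362 = n3218 := rfl
theorem F5247 : act 2 n3218 = n2363 := d11_1 D3218 (iv D2363) (iv F3840)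
def n3219 : Q := act 2 n2364
theorem D3219 : act 2 n2364 = n3219 := rfl
theorem F5248 : act 1 n3219 = n2687 := d5_1 D3219 (iv D2687) F3184 (iv F2810) (iv F3843)
theorem F5249 : act 5 n3219 = n2628 := d11_2 (iv F3844) D3219 (iv D2628)
def n3220 : Q := act 0 n2365
theorem D3220 : act 0 n2365 = n3220 := rfl
theorem F5250 : act 1 n3220 = n2371 := d0_2 D2365 D3220 (iv D2371) (iv D1725) (iv F2811)
def n3221 : Q := act 4 n2365
theorem D3221 : act 4 n2365 = n3221 := rfl
theorem F5251 : act 1 n3221 = n2366 := d7_1 D3221 (iv D2366) D2365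
def n3222 : Q := act 5 n2365
theorem D3222 : act 5 n2365 = n3222 := rfl
theorem F5252 : act 1 n3222 = n2367 := d8_1 D3222 (iv D2367) D2365
theorem F5253 : act 3 n3222 = n2392 := d13_1 D3222 (iv F4361) F4360
def n3223 : Q := act 3 n2366
theorem D3223 : act 3 n2366 = n3223 := rfl
theorem F5254 : act 0 n3223 = n2376 := d2_1 D3223 (iv D2376) (iv F3845)
def n3224 : Q := act 5 n2366
theorem D3224 : act 5 n2366 = n3224 := rfl
theorem F5255 : act 0 n3224 = n2377 := d4_1 D3224 (iv D2377) (iv F3845)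
theorem F5256 : act 2 n3224 = n2368 := d11_1 D3224 (iv D2368) (iv F3846)
def n3225 : Q := act 4 n2367
theorem D3225 : act 4 n2367 = n3225 := rfl
theorem F5257 : act 0 n3225 = n2378 := d3_1 D3225 (iv D2378) (iv F3847)
theorem F5258 : act 2 n3225 = n2369 := d10_1 D3225 (iv D2369) (iv F3848)
def n3226 : Q := act 4 n2368
theorem D3226 : act 4 n2368 = n3226 := rfl
theorem F5259 : act 0 n3226 = n2379 := d3_1 D3226 (iv D2379) (iv F3850)
theorem F5260 : act 5 n3226 = n2369 := d14_2 D2368 D3226 (iv D2369) (iv D1723) D1722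
def n3227 : Q := act 3 n2369
theorem D3227 : act 3 n2369 = n3227 := rfl
theorem F5261 : act 0 n3227 = n2380 := d2_1 D3227 (iv D2380) (iv F3852)
theorem F5262 : act 4 n3227 = n2370 := d12_2 D2369 D3227 (iv D2370) (iv D1724) (iv F2815)
def n3228 : Q := act 2 n2370
theorem D3228 : act 2 n2370 = n3228 := rfl
theorem F5263 : act 0 n3228 = n2381 := d1_1 D3228 (iv D2381) (iv F3853)
theorem F5264 : act 3 n3228 = n2403 := d9_2 D2370 D3228 (iv D2403) (iv D1748) F2062 F1486 (iv F1494) D1264 D1755 D2413 (iv F4677) (iv D2894) F3419 F2487 (iv F2817)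
theorem F5265 : act 5 n3228 = n2407 := d11_2 (iv F3854) D3228 (iv D2407)
def n3229 : Q := act 3 n2371
theorem D3229 : act 3 n2371 = n3229 := rfl
theorem F5266 : act 0 n3229 = n2372 := d2_1 D3229 (iv D2372) D2371
def n3230 : Q := act 4 n2371
theorem D3230 : act 4 n2371 = n3230 := rfl
theorem F5267 : act 0 n3230 = n2373 := d3_1 D3230 (iv D2373) D2371
theorem F5268 : act 2 n3230 = n2382 := d10_1 D3230 (iv D2382) (iv F3855)
def n3231 : Q := act 2 n2372
theorem D3231 : act 2 n2372 = n3231 := rfl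
def n3232 : Q := act 4 n2372
theorem D3232 : act 4 n2372 = n3232 := rfl
theorem F5269 : act 1 n3232 = n2374 := d7_1 D3232 (iv D2374) (iv F3856)
def n3233 : Q := act 3 n2373
theorem D3233 : act 3 n2373 = n3233 := rfl
theorem F5270 : act 1 n3233 = n2376 := d6_1 D3233 (iv D2376) (iv F3857)
def n3234 : Q := act 5 n2373
theorem D3234 : act 5 n2373 = n3234 := rfl
theorem F5271 : act 1 n3234 = n2377 := d8_1 D3234 (iv D2377) (iv F3857)
theorem F5272 : act 2 n3234 = n2384 := d11_1 D3234 (iv D2384) (iv F3858)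
def n3235 : Q := act 3 n2374
theorem D3235 : act 3 n2374 = n3235 := rfl
theorem F5273 : act 4 n3235 = n2376 := d12_2 D2374 D3235 (iv D2376) (iv D1727) D1726
def n3236 : Q := act 5 n2374
theorem D3236 : act 5 n2374 = n3236 := rfl
def n3237 : Q := act 4 n2375
theorem D3237 : act 4 n2375 = n3237 := rfl
theorem F5274 : act 0 n3237 = n2393 := d3_1 D3237 (iv D2393) (iv F3859)
theorem F5275 : act 2 n3237 = n2391 := d10_1 D3237 (iv D2391) (iv F3860)
def n3238 : Q := act 2 n2376
theorem D3238 : act 2 n2376 = n3238 := rfl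
def n3239 : Q := act 5 n2376
theorem D3239 : act 5 n2376 = n3239 := rfl
theorem F5276 : act 3 n3239 = n2377 := d13_1 D3239 (iv D2377) D2376
def n3240 : Q := act 4 n2377
theorem D3240 : act 4 n2377 = n3240 := rfl
theorem F5277 : act 2 n3240 = n2379 := d10_1 D3240 (iv D2379) (iv F3862)
theorem F5278 : act 5 n3240 = n2378 := d14_2 D2377 D3240 (iv D2378) (iv D1728) D1727
def n3241 : Q := act 3 n2378
theorem D3241 : act 3 n2378 = n3241 := rfl
def n3242 : Q := act 3 n2379
theorem D3242 : act 3 n2379 = n3242 := rfl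
theorem F5279 : act 1 n3242 = n2387 := d6_1 D3242 (iv D2387) (iv F3864)
theorem F5280 : act 4 n3242 = n2411 := d12_2 D2379 D3242 F3908 F2854 (iv F2823)
theorem F5281 : act 5 n3242 = n2380 := d13_2 (iv F3865) D3242 (iv D2380)
def n3243 : Q := act 2 n2380
theorem D3243 : act 2 n2380 = n3243 := rfl
theorem F5282 : act 4 n3243 = n2381 := d10_2 (iv F3867) D3243 (iv D2381)
def n3244 : Q := act 1 n2381
theorem D3244 : act 1 n2381 = n3244 := rfl
theorem F5283 : act 2 n3244 = n2389 := d5_2 D2381 D3244 (iv D2389) (iv D1738) (iv F2825)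
theorem F5284 : act 5 n3244 = n2412 := d8_2 (iv F3868) D3244 (iv D2412)
def n3245 : Q := act 3 n2381
theorem D3245 : act 3 n2381 = n3245 := rfl
theorem F5285 : act 0 n3245 = n2403 := d2_1 D3245 (iv F5264) F5263
theorem F5286 : act 2 n3245 = n2398 := d9_1 D3245 (iv D2398) F2841 F2058 (iv F2069) D1751 D2407 (iv F4687) (iv D2899) (iv D2112) F2492 F1813 (iv F2045) D1731 D2381
theorem F5287 : act 5 n3245 = n2413 := d13_2 (iv F3868) D3245 (iv D2413)
def n3246 : Q := act 3 n2382
theorem D3246 : act 3 n2382 = n3246 := rfl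
theorem F5288 : act 0 n3246 = n2383 := d2_1 D3246 (iv D2383) (iv F3869)
def n3247 : Q := act 5 n2382
theorem D3247 : act 5 n2382 = n3247 := rfl
theorem F5289 : act 0 n3247 = n2384 := d4_1 D3247 (iv D2384) (iv F3869)
def n3248 : Q := act 2 n2383
theorem D3248 : act 2 n2383 = n3248 := rfl
def n3249 : Q := act 5 n2383
theorem D3249 : act 5 n2383 = n3249 := rfl
theorem F5290 : act 1 n3249 = n2386 := d8_1 D3249 (iv D2386) (iv F3870)
theorem F5291 : act 3 n3249 = n2384 := d13_1 D3249 (iv D2384) D2383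
def n3250 : Q := act 1 n2385
theorem D3250 : act 1 n2385 = n3250 := rfl
def n3251 : Q := act 4 n2386
theorem D3251 : act 4 n2386 = n3251 := rfl
def n3252 : Q := act 2 n2387
theorem D3252 : act 2 n2387 = n3252 := rfl
theorem F5292 : act 0 n3252 = n2689 := d1_1 D3252 (iv F4465) F4464
theorem F5293 : act 4 n3252 = n2693 := d10_2 (iv F3873) D3252 F4340
theorem F5294 : act 5 n3252 = n2388 := d11_2 (iv F3874) D3252 (iv D2388)
def n3253 : Q := act 1 n2388
theorem D3253 : act 1 n2388 = n3253 := rfl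
theorem F5295 : act 4 n3253 = n2389 := d7_2 (iv F3876) D3253 (iv D2389)
def n3254 : Q := act 0 n2389
theorem D3254 : act 0 n2389 = n3254 := rfl
theorem F5296 : act 1 n3254 = n2686 := d0_2 D2389 D3254 F4335 F3184 (iv F2831)
theorem F5297 : act 3 n3254 = n2627 := d2_2 (iv F3877) D3254 (iv D2627)
theorem F5298 : act 5 n3254 = n2690 := d4_2 (iv F3878) D3254 (iv D2690)
def n3255 : Q := act 2 n2390
theorem D3255 : act 2 n2390 = n3255 := rfl
def n3256 : Q := act 4 n2390
theorem D3256 : act 4 n2390 = n3256 := rfl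
theorem F5299 : act 1 n3256 = n2391 := d7_1 D3256 (iv D2391) (iv F3879)
def n3257 : Q := act 5 n2391
theorem D3257 : act 5 n2391 = n3257 := rfl
theorem F5300 : act 0 n3257 = n2394 := d4_1 D3257 (iv D2394) (iv F3880)
def n3258 : Q := act 0 n2392
theorem D3258 : act 0 n2392 = n3258 := rfl
def n3259 : Q := act 4 n2392
theorem D3259 : act 4 n2392 = n3259 := rfl
theorem F5301 : act 1 n3259 = n2393 := d7_1 D3259 (iv D2393) D2392
def n3260 : Q := act 3 n2393
theorem D3260 : act 3 n2393 = n3260 := rfl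
def n3261 : Q := act 5 n2393
theorem D3261 : act 5 n2393 = n3261 := rfl
theorem F5302 : act 2 n3261 = n2394 := d11_1 D3261 (iv D2394) (iv F3881)
def n3262 : Q := act 2 n2395
theorem D3262 : act 2 n2395 = n3262 := rfl
theorem F5303 : act 0 n3262 = n2983 := d1_1 D3262 F4851 (iv F3882)
theorem F5304 : act 5 n3262 = n3051 := d11_2 (iv F3884) D3262 (iv D3051)
def n3263 : Q := act 4 n2395
theorem D3263 : act 4 n2395 = n3263 := rfl
theorem F5305 : act 0 n3263 = n2990 := d3_1 D3263 (iv D2990) (iv F3882)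
theorem F5306 : act 1 n3263 = n2397 := d7_1 D3263 (iv D2397) (iv F3883)
def n3264 : Q := act 3 n2396
theorem D3264 : act 3 n2396 = n3264 := rfl
theorem F5307 : act 0 n3264 = n3056 := d2_1 D3264 (iv D3056) (iv F3885)
theorem F5308 : act 1 n3264 = n2398 := d6_1 D3264 (iv D2398) (iv F3886)
def n3265 : Q := act 3 n2397
theorem D3265 : act 3 n2397 = n3265 := rfl
theorem F5309 : act 0 n3265 = n2401 := d2_1 D3265 (iv D2401) (iv F3888)
theorem F5310 : act 4 n3265 = n2398 := d12_2 D2397 D3265 (iv D2398) (iv D1745) D1744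
def n3266 : Q := act 5 n2397
theorem D3266 : act 5 n2397 = n3266 := rfl
theorem F5311 : act 0 n3266 = n2402 := d4_1 D3266 (iv D2402) (iv F3888)
theorem F5312 : act 4 n3266 = n3057 := d14_1 D3266 (iv D3057) (iv D2235) (iv F2839) D2397
def n3267 : Q := act 0 n2399
theorem D3267 : act 0 n2399 = n3267 := rfl
theorem F5313 : act 2 n3267 = n2953 := d1_2 (iv F3890) D3267 F4803
theorem F5314 : act 5 n3267 = n3058 := d4_2 (iv F3891) D3267 (iv D3058)
def n3268 : Q := act 4 n2399
theorem D3268 : act 4 n2399 = n3268 := rfl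
theorem F5315 : act 1 n3268 = n2400 := d7_1 D3268 (iv D2400) D2399
theorem F5316 : act 2 n3268 = n2955 := d10_1 D3268 (iv D2955) (iv F3890)
def n3269 : Q := act 3 n2400
theorem D3269 : act 3 n2400 = n3269 := rfl
def n3270 : Q := act 5 n2400
theorem D3270 : act 5 n2400 = n3270 := rfl
theorem F5317 : act 2 n3270 = n2402 := d11_1 D3270 (iv D2402) (iv F3892)
theorem F5318 : act 4 n3270 = n3061 := d14_1 D3270 (iv D3061) (iv D2237) (iv F2842) D2400
def n3271 : Q := act 2 n2401
theorem D3271 : act 2 n2401 = n3271 := rfl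
theorem F5319 : act 4 n3271 = n2403 := d10_2 (iv F3894) D3271 (iv D2403)
def n3272 : Q := act 5 n2401
theorem D3272 : act 5 n2401 = n3272 := rfl
theorem F5320 : act 1 n3272 = n3067 := d8_1 D3272 F5003 (iv F3893)
theorem F5321 : act 3 n3272 = n2402 := d13_1 D3272 (iv D2402) D2401
def n3273 : Q := act 1 n2403
theorem D3273 : act 1 n2403 = n3273 := rfl
theorem F5322 : act 2 n3273 = n3069 := d5_2 D2403 D3273 (iv D3069) (iv D2245) (iv F2844)
def n3274 : Q := act 2 n2404
theorem D3274 : act 2 n2404 = n3274 := rfl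
theorem F5323 : act 0 n3274 = n2628 := d1_1 D3274 (iv D2628) (iv F3897)
def n3275 : Q := act 2 n2405
theorem D3275 : act 2 n2405 = n3275 := rfl
theorem F5324 : act 0 n3275 = n2410 := d1_1 D3275 (iv D2410) (iv F3899)
theorem F5325 : act 4 n3275 = n2407 := d10_2 (iv F3900) D3275 (iv D2407)
def n3276 : Q := act 5 n2405
theorem D3276 : act 5 n2405 = n3276 := rfl
theorem F5326 : act 0 n3276 = n2411 := d4_1 D3276 (iv D2411) (iv F3899)
theorem F5327 : act 3 n3276 = n2406 := d13_1 D3276 (iv D2406) D2405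
def n3277 : Q := act 1 n2407
theorem D3277 : act 1 n2407 = n3277 := rfl
def n3278 : Q := act 2 n2408
theorem D3278 : act 2 n2408 = n3278 := rfl
def n3279 : Q := act 5 n2408
theorem D3279 : act 5 n2408 = n3279 := rfl
theorem F5328 : act 3 n3279 = n2409 := d13_1 D3279 (iv D2409) D2408
def n3280 : Q := act 1 n2410
theorem D3280 : act 1 n2410 = n3280 := rfl
theorem F5329 : act 2 n3280 = n2691 := d5_2 D2410 D3280 F4337 F3185 (iv F2851)
theorem F5330 : act 4 n3280 = n2412 := d7_2 (iv F3906) D3280 (iv D2412)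
def n3281 : Q := act 3 n2410
theorem D3281 : act 3 n2410 = n3281 := rfl
def n3282 : Q := act 5 n2410
theorem D3282 : act 5 n2410 = n3282 := rfl
theorem F5331 : act 2 n3282 = n2411 := d11_1 D3282 (iv D2411) D2410
def n3283 : Q := act 0 n2412
theorem D3283 : act 0 n2412 = n3283 := rfl
theorem F5332 : act 2 n3283 = n2690 := d1_2 (iv F3909) D3283 (iv D2690)
def n3284 : Q := act 3 n2412
theorem D3284 : act 3 n2412 = n3284 := rfl
theorem F5333 : act 1 n3284 = n2413 := d6_1 D3284 (iv D2413) D2412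
def n3285 : Q := act 4 n2413
theorem D3285 : act 4 n2413 = n3285 := rfl
def n3286 : Q := act 5 n2414
theorem D3286 : act 5 n2414 = n3286 := rfl
theorem F5334 : act 0 n3286 = n2425 := d4_1 D3286 (iv D2425) (iv F3910)
theorem F5335 : act 2 n3286 = n3201 := d11_1 D3286 (iv D3201) (iv F3911)
def n3287 : Q := act 1 n2415
theorem D3287 : act 1 n2415 = n3287 := rfl
theorem F5336 : act 4 n3287 = n2417 := d7_2 (iv F3912) D3287 (iv D2417)
def n3288 : Q := act 3 n2415
theorem D3288 : act 3 n2415 = n3288 := rfl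
def n3289 : Q := act 5 n2415
theorem D3289 : act 5 n2415 = n3289 := rfl
theorem F5337 : act 2 n3289 = n2416 := d11_1 D3289 (iv D2416) D2415
def n3290 : Q := act 4 n2416
theorem D3290 : act 4 n2416 = n3290 := rfl
theorem F5338 : act 5 n3290 = n2420 := d14_2 D2416 D3290 (iv D2420) (iv D1761) (iv F2858)
def n3291 : Q := act 0 n2417
theorem D3291 : act 0 n2417 = n3291 := rfl
def n3292 : Q := act 3 n2417
theorem D3292 : act 3 n2417 = n3292 := rfl
theorem F5339 : act 1 n3292 = n2418 := d6_1 D3292 (iv D2418) D2417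
def n3293 : Q := act 5 n2417
theorem D3293 : act 5 n2417 = n3293 := rfl
theorem F5340 : act 1 n3293 = n2419 := d8_1 D3293 (iv D2419) D2417
def n3294 : Q := act 4 n2418
theorem D3294 : act 4 n2418 = n3294 := rfl
def n3295 : Q := act 4 n2419
theorem D3295 : act 4 n2419 = n3295 := rfl
theorem F5341 : act 2 n3295 = n2420 := d10_1 D3295 (iv D2420) (iv F3914)
def n3296 : Q := act 1 n2421
theorem D3296 : act 1 n2421 = n3296 := rfl
def n3297 : Q := act 4 n2421
theorem D3297 : act 4 n2421 = n3297 := rfl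
theorem F5342 : act 2 n3297 = n2422 := d10_1 D3297 (iv D2422) D2421
def n3298 : Q := act 5 n2422
theorem D3298 : act 5 n2422 = n3298 := rfl
theorem F5343 : act 3 n3298 = n2425 := d13_1 D3298 (iv D2425) (iv F3915)
def n3299 : Q := act 4 n2423
theorem D3299 : act 4 n2423 = n3299 := rfl
def n3300 : Q := act 3 n2424
theorem D3300 : act 3 n2424 = n3300 := rfl
theorem F5344 : act 0 n3300 = n3200 := d2_1 D3300 (iv D3200) (iv F3917)
theorem F5345 : act 4 n3300 = n3199 := d12_2 D2424 D3300 (iv D3199) (iv D2349) (iv F2864)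
def n3301 : Q := act 5 n2424
theorem D3301 : act 5 n2424 = n3301 := rfl
theorem F5346 : act 0 n3301 = n3201 := d4_1 D3301 (iv D3201) (iv F3917)
theorem F5347 : act 2 n3301 = n2425 := d11_1 D3301 (iv D2425) (iv F3918)
theorem F5348 : act 4 n3301 = n3286 := d14_1 D3301 (iv D3286) (iv D2414) (iv F2863) D2424
def n3302 : Q := act 2 n2426
theorem D3302 : act 2 n2426 = n3302 := rfl
theorem F5349 : act 0 n3302 = n2428 := d1_1 D3302 (iv D2428) (iv F3919)
def n3303 : Q := act 3 n2428
theorem D3303 : act 3 n2428 = n3303 := rfl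
def n3304 : Q := act 0 n2429
theorem D3304 : act 0 n2429 = n3304 := rfl
theorem F5350 : act 1 n3304 = n2433 := d0_2 D2429 D3304 (iv D2433) (iv D1774) (iv F2874)
def n3305 : Q := act 3 n2429
theorem D3305 : act 3 n2429 = n3305 := rfl
theorem F5351 : act 1 n3305 = n2430 := d6_1 D3305 (iv D2430) D2429
def n3306 : Q := act 5 n2429
theorem D3306 : act 5 n2429 = n3306 := rfl
theorem F5352 : act 1 n3306 = n2431 := d8_1 D3306 (iv D2431) D2429
def n3307 : Q := act 4 n2430
theorem D3307 : act 4 n2430 = n3307 := rfl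
theorem F5353 : act 0 n3307 = n2437 := d3_1 D3307 (iv D2437) (iv F3922)
def n3308 : Q := act 4 n2431
theorem D3308 : act 4 n2431 = n3308 := rfl
theorem F5354 : act 0 n3308 = n2439 := d3_1 D3308 (iv D2439) (iv F3923)
theorem F5355 : act 2 n3308 = n2432 := d10_1 D3308 (iv D2432) (iv F3924)
def n3309 : Q := act 3 n2433
theorem D3309 : act 3 n2433 = n3309 := rfl
theorem F5356 : act 0 n3309 = n2434 := d2_1 D3309 (iv D2434) D2433
def n3310 : Q := act 5 n2433
theorem D3310 : act 5 n2433 = n3310 := rfl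
theorem F5357 : act 0 n3310 = n2435 := d4_1 D3310 (iv D2435) D2433
theorem F5358 : act 2 n3310 = n2441 := d11_1 D3310 (iv D2441) (iv F3926)
def n3311 : Q := act 2 n2434
theorem D3311 : act 2 n2434 = n3311 := rfl
def n3312 : Q := act 4 n2434
theorem D3312 : act 4 n2434 = n3312 := rfl
theorem F5359 : act 1 n3312 = n2437 := d7_1 D3312 (iv D2437) (iv F3927)
def n3313 : Q := act 5 n2434
theorem D3313 : act 5 n2434 = n3313 := rfl
theorem F5360 : act 1 n3313 = n2438 := d8_1 D3313 (iv D2438) (iv F3927)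
theorem F5361 : act 3 n3313 = n2435 := d13_1 D3313 (iv D2435) D2434
def n3314 : Q := act 4 n2435
theorem D3314 : act 4 n2435 = n3314 := rfl
theorem F5362 : act 1 n3314 = n2439 := d7_1 D3314 (iv D2439) (iv F3928)
theorem F5363 : act 2 n3314 = n2444 := d10_1 D3314 (iv D2444) (iv F3929)
def n3315 : Q := act 1 n2436
theorem D3315 : act 1 n2436 = n3315 := rfl
def n3316 : Q := act 4 n2436
theorem D3316 : act 4 n2436 = n3316 := rfl
theorem F5364 : act 2 n3316 = n2437 := d10_1 D3316 (iv D2437) D2436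
def n3317 : Q := act 5 n2437
theorem D3317 : act 5 n2437 = n3317 := rfl
def n3318 : Q := act 4 n2438
theorem D3318 : act 4 n2438 = n3318 := rfl
def n3319 : Q := act 3 n2439
theorem D3319 : act 3 n2439 = n3319 := rfl
def n3320 : Q := act 2 n2440
theorem D3320 : act 2 n2440 = n3320 := rfl
theorem F5365 : act 0 n3320 = n2442 := d1_1 D3320 (iv D2442) (iv F3932)
def n3321 : Q := act 4 n2440
theorem D3321 : act 4 n2440 = n3321 := rfl
theorem F5366 : act 0 n3321 = n2443 := d3_1 D3321 (iv D2443) (iv F3932)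
def n3322 : Q := act 4 n2441
theorem D3322 : act 4 n2441 = n3322 := rfl
theorem F5367 : act 0 n3322 = n2444 := d3_1 D3322 (iv D2444) (iv F3933)
def n3323 : Q := act 3 n2442
theorem D3323 : act 3 n2442 = n3323 := rfl
def n3324 : Q := act 4 n2442
theorem D3324 : act 4 n2442 = n3324 := rfl
theorem F5368 : act 2 n3324 = n2443 := d10_1 D3324 (iv D2443) D2442
def n3325 : Q := act 1 n2445
theorem D3325 : act 1 n2445 = n3325 := rfl
def n3326 : Q := act 3 n2445
theorem D3326 : act 3 n2445 = n3326 := rfl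
theorem F5369 : act 0 n3326 = n2448 := d2_1 D3326 (iv D2448) (iv F3936)
def n3327 : Q := act 5 n2445
theorem D3327 : act 5 n2445 = n3327 := rfl
theorem F5370 : act 0 n3327 = n2449 := d4_1 D3327 (iv D2449) (iv F3936)
theorem F5371 : act 2 n3327 = n2446 := d11_1 D3327 (iv D2446) D2445
def n3328 : Q := act 4 n2446
theorem D3328 : act 4 n2446 = n3328 := rfl
theorem F5372 : act 0 n3328 = n2450 := d3_1 D3328 (iv D2450) (iv F3937)
def n3329 : Q := act 0 n2447
theorem D3329 : act 0 n2447 = n3329 := rfl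
theorem F5373 : act 2 n3329 = n2451 := d1_2 (iv F3939) D3329 (iv D2451)
def n3330 : Q := act 3 n2447
theorem D3330 : act 3 n2447 = n3330 := rfl
theorem F5374 : act 1 n3330 = n2448 := d6_1 D3330 (iv D2448) D2447
def n3331 : Q := act 2 n2448
theorem D3331 : act 2 n2448 = n3331 := rfl
def n3332 : Q := act 4 n2448
theorem D3332 : act 4 n2448 = n3332 := rfl
def n3333 : Q := act 5 n2448
theorem D3333 : act 5 n2448 = n3333 := rfl
theorem F5375 : act 3 n3333 = n2449 := d13_1 D3333 (iv D2449) D2448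
def n3334 : Q := act 4 n2449
theorem D3334 : act 4 n2449 = n3334 := rfl
theorem F5376 : act 2 n3334 = n2450 := d10_1 D3334 (iv D2450) (iv F3940)
def n3335 : Q := act 3 n2452
theorem D3335 : act 3 n2452 = n3335 := rfl
theorem F5377 : act 0 n3335 = n2454 := d2_1 D3335 (iv D2454) (iv F3942)
theorem F5378 : act 1 n3335 = n2461 := d6_1 D3335 (iv D2461) (iv F3943)
theorem F5379 : act 4 n3335 = n2547 := d12_2 D2452 D3335 (iv D2547) (iv D1860) F2889
def n3336 : Q := act 5 n2452
theorem D3336 : act 5 n2452 = n3336 := rfl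
theorem F5380 : act 0 n3336 = n2455 := d4_1 D3336 (iv D2455) (iv F3942)
theorem F5381 : act 1 n3336 = n2460 := d8_1 D3336 F3964 (iv F3943)
theorem F5382 : act 2 n3336 = n3336 := d11_1 D3336 (iv D3336) F3944
theorem F5383 : act 4 n3336 = n2455 := d14_1 D3336 (iv D2455) (iv D1791) F2890 D2452
def n3337 : Q := act 3 n2453
theorem D3337 : act 3 n2453 = n3337 := rfl
theorem F5384 : act 0 n3337 = n2547 := d2_1 D3337 (iv D2547) (iv F3945)
theorem F5385 : act 1 n3337 = n2456 := d6_1 D3337 (iv D2456) (iv F3946)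
theorem F5386 : act 4 n3337 = n2454 := d12_2 D2453 D3337 (iv D2454) (iv D1791) D1790
def n3338 : Q := act 5 n2453
theorem D3338 : act 5 n2453 = n3338 := rfl
theorem F5387 : act 0 n3338 = n2548 := d4_1 D3338 (iv D2548) (iv F3945)
theorem F5388 : act 1 n3338 = n2457 := d8_1 D3338 (iv D2457) (iv F3946)
theorem F5389 : act 2 n3338 = n2548 := d11_1 D3338 (iv D2548) (iv F3947)
theorem F5390 : act 4 n3338 = n2548 := d14_1 D3338 (iv D2548) (iv D1860) (iv F2893) D2453
def n3339 : Q := act 2 n2454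
theorem D3339 : act 2 n2454 = n3339 := rfl
def n3340 : Q := act 5 n2454
theorem D3340 : act 5 n2454 = n3340 := rfl
theorem F5391 : act 1 n3340 = n2459 := d8_1 D3340 (iv D2459) (iv F3948)
theorem F5392 : act 3 n3340 = n2455 := d13_1 D3340 (iv D2455) D2454
def n3341 : Q := act 2 n2456
theorem D3341 : act 2 n2456 = n3341 := rfl
theorem F5393 : act 0 n3341 = n2472 := d1_1 D3341 (iv D2472) (iv F3951)
theorem F5394 : act 4 n3341 = n2458 := d10_2 (iv F3952) D3341 (iv D2458)
def n3342 : Q := act 5 n2456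
theorem D3342 : act 5 n2456 = n3342 := rfl
theorem F5395 : act 0 n3342 = n2473 := d4_1 D3342 (iv D2473) (iv F3951)
theorem F5396 : act 3 n3342 = n2457 := d13_1 D3342 (iv D2457) D2456
def n3343 : Q := act 1 n2458
theorem D3343 : act 1 n2458 = n3343 := rfl
theorem F5397 : act 3 n3343 = n2509 := d6_2 (iv F3957) D3343 F4056
theorem F5398 : act 5 n3343 = n2508 := d8_2 F3958 D3343 F4055
def n3344 : Q := act 4 n2459
theorem D3344 : act 4 n2459 = n3344 := rfl
theorem F5399 : act 0 n3344 = n2477 := d3_1 D3344 (iv D2477) (iv F3959)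
theorem F5400 : act 2 n3344 = n2510 := d10_1 D3344 (iv D2510) (iv F3960)
def n3345 : Q := act 3 n2460
theorem D3345 : act 3 n2460 = n3345 := rfl
theorem F5401 : act 0 n3345 = n2468 := d2_1 D3345 F3984 (iv F3962)
theorem F5402 : act 5 n3345 = n2461 := d13_2 (iv F3964) D3345 (iv D2461)
def n3346 : Q := act 2 n2461
theorem D3346 : act 2 n2461 = n3346 := rfl
theorem F5403 : act 0 n3346 = n2467 := d1_1 D3346 (iv D2467) (iv F3965)
theorem F5404 : act 4 n3346 = n2549 := d10_2 (iv F3966) D3346 (iv D2549)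
def n3347 : Q := act 2 n2462
theorem D3347 : act 2 n2462 = n3347 := rfl
theorem F5405 : act 0 n3347 = n2478 := d1_1 D3347 (iv D2478) (iv F3967)
theorem F5406 : act 4 n3347 = n2491 := d10_2 (iv F3969) D3347 (iv D2491)
theorem F5407 : act 5 n3347 = n2463 := d11_2 (iv F3970) D3347 (iv D2463)
def n3348 : Q := act 1 n2463
theorem D3348 : act 1 n2463 = n3348 := rfl
theorem F5408 : act 2 n3348 = n3348 := d5_2 D2463 D3348 (iv D3348) (iv D2463) F2908
theorem F5409 : act 4 n3348 = n2464 := d7_2 (iv F3972) D3348 (iv D2464)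
def n3349 : Q := act 3 n2463
theorem D3349 : act 3 n2463 = n3349 := rfl
theorem F5410 : act 0 n3349 = n2480 := d2_1 D3349 (iv D2480) (iv F3971)
theorem F5411 : act 4 n3349 = n2600 := d12_2 (iv F3972) D3349 (iv D2600) (iv D1895) (iv F2912)
def n3350 : Q := act 0 n2464
theorem D3350 : act 0 n2464 = n3350 := rfl
theorem F5412 : act 1 n3350 = n2481 := d0_2 D2464 D3350 (iv D2481) (iv D1810) (iv F2910)
theorem F5413 : act 2 n3350 = n3350 := d1_2 F3973 D3350 (iv D3350)
theorem F5414 : act 3 n3350 = n2598 := d2_2 (iv F3974) D3350 (iv D2598)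
theorem F5415 : act 5 n3350 = n2494 := d4_2 (iv F3975) D3350 (iv D2494)
def n3351 : Q := act 2 n2465
theorem D3351 : act 2 n2465 = n3351 := rfl
theorem F5416 : act 0 n3351 = n2549 := d1_1 D3351 (iv D2549) (iv F3976)
theorem F5417 : act 4 n3351 = n2467 := d10_2 (iv F3978) D3351 (iv D2467)
def n3352 : Q := act 5 n2465
theorem D3352 : act 5 n2465 = n3352 := rfl
theorem F5418 : act 0 n3352 = n2550 := d4_1 D3352 (iv D2550) (iv F3976)
theorem F5419 : act 1 n3352 = n2473 := d8_1 D3352 (iv D2473) (iv F3977)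
theorem F5420 : act 3 n3352 = n2466 := d13_1 D3352 (iv D2466) D2465
def n3353 : Q := act 1 n2467
theorem D3353 : act 1 n2467 = n3353 := rfl
theorem F5421 : act 2 n3353 = n2474 := d5_2 D2467 D3353 (iv D2474) (iv D1806) (iv F2916)
def n3354 : Q := act 3 n2467
theorem D3354 : act 3 n2467 = n3354 := rfl
def n3355 : Q := act 5 n2467
theorem D3355 : act 5 n2467 = n3355 := rfl
theorem F5422 : act 2 n3355 = n2468 := d11_1 D3355 (iv D2468) D2467
def n3356 : Q := act 4 n2468
theorem D3356 : act 4 n2468 = n3356 := rfl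
theorem F5423 : act 1 n3356 = n2477 := d7_1 D3356 (iv D2477) (iv F3983)
theorem F5424 : act 3 n3356 = n2477 := d12_1 D3356 (iv D2477) F2927 (iv F2919) (iv F3984)
def n3357 : Q := act 3 n2469
theorem D3357 : act 3 n2469 = n3357 := rfl
theorem F5425 : act 0 n3357 = n2529 := d2_1 D3357 (iv D2529) (iv F3985)
theorem F5426 : act 1 n3357 = n2470 := d6_1 D3357 (iv D2470) (iv F3986)
theorem F5427 : act 4 n3357 = n2527 := d12_2 D2469 D3357 (iv D2527) (iv D1844) (iv F2922)
def n3358 : Q := act 5 n2469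
theorem D3358 : act 5 n2469 = n3358 := rfl
theorem F5428 : act 0 n3358 = n2530 := d4_1 D3358 (iv D2530) (iv F3985)
theorem F5429 : act 1 n3358 = n2471 := d8_1 D3358 (iv D2471) (iv F3986)
theorem F5430 : act 2 n3358 = n2530 := d11_1 D3358 (iv D2530) (iv F3987)
theorem F5431 : act 4 n3358 = n2530 := d14_1 D3358 (iv D2530) (iv D1845) (iv F2923) D2469
def n3359 : Q := act 2 n2470
theorem D3359 : act 2 n2470 = n3359 := rfl
theorem F5432 : act 0 n3359 = n2541 := d1_1 D3359 (iv D2541) (iv F3988)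
theorem F5433 : act 4 n3359 = n2538 := d10_2 (iv F3989) D3359 (iv D2538)
def n3360 : Q := act 5 n2470
theorem D3360 : act 5 n2470 = n3360 := rfl
theorem F5434 : act 0 n3360 = n2542 := d4_1 D3360 (iv D2542) (iv F3988)
theorem F5435 : act 3 n3360 = n2471 := d13_1 D3360 (iv D2471) D2470
def n3361 : Q := act 1 n2472
theorem D3361 : act 1 n2472 = n3361 := rfl
theorem F5436 : act 4 n3361 = n2474 := d7_2 (iv F3993) D3361 (iv D2474)
def n3362 : Q := act 3 n2472
theorem D3362 : act 3 n2472 = n3362 := rfl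
def n3363 : Q := act 5 n2472
theorem D3363 : act 5 n2472 = n3363 := rfl
theorem F5437 : act 2 n3363 = n2473 := d11_1 D3363 (iv D2473) D2472
def n3364 : Q := act 4 n2473
theorem D3364 : act 4 n2473 = n3364 := rfl
theorem F5438 : act 5 n3364 = n2477 := d14_2 D2473 D3364 (iv D2477) (iv D1807) (iv F2926)
def n3365 : Q := act 0 n2474
theorem D3365 : act 0 n2474 = n3365 := rfl
def n3366 : Q := act 3 n2474
theorem D3366 : act 3 n2474 = n3366 := rfl
theorem F5439 : act 1 n3366 = n2475 := d6_1 D3366 (iv D2475) D2474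
theorem F5440 : act 5 n2487 = n3366 := d8_0 F5439 F3997 D2487
def n3367 : Q := act 5 n2474
theorem D3367 : act 5 n2474 = n3367 := rfl
theorem F5441 : act 1 n3367 = n2476 := d8_1 D3367 (iv D2476) D2474
theorem F5442 : act 3 n3367 = n2487 := d13_1 D3367 F5440 (iv D3366)
def n3368 : Q := act 4 n2475
theorem D3368 : act 4 n2475 = n3368 := rfl
theorem F5443 : act 0 n3368 = n2511 := d3_1 D3368 (iv D2511) (iv F3995)
theorem F5444 : act 2 n3368 = n2488 := d10_1 D3368 (iv D2488) (iv F3996)
theorem F5445 : act 5 n3368 = n2967 := d14_2 (iv F3997) D3368 (iv D2967) (iv D2162) (iv F2949)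
def n3369 : Q := act 4 n2476
theorem D3369 : act 4 n2476 = n3369 := rfl
theorem F5446 : act 0 n3369 = n2510 := d3_1 D3369 (iv D2510) (iv F3998)
theorem F5447 : act 2 n3369 = n2477 := d10_1 D3369 (iv D2477) (iv F3999)
theorem F5448 : act 3 n3369 = n2966 := d12_1 D3369 (iv D2966) (iv D2161) (iv F2949) (iv F4000)
def n3370 : Q := act 3 n2478
theorem D3370 : act 3 n2478 = n3370 := rfl
theorem F5449 : act 5 n3370 = n2480 := d13_2 (iv F4002) D3370 (iv D2480)
def n3371 : Q := act 0 n2479
theorem D3371 : act 0 n2479 = n3371 := rfl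
theorem F5450 : act 2 n3371 = n2484 := d1_2 (iv F4003) D3371 (iv D2484)
theorem F5451 : act 4 n3371 = n2481 := d3_2 (iv F4004) D3371 (iv D2481)
def n3372 : Q := act 3 n2479
theorem D3372 : act 3 n2479 = n3372 := rfl
theorem F5452 : act 1 n3372 = n2480 := d6_1 D3372 (iv D2480) D2479
def n3373 : Q := act 2 n2480
theorem D3373 : act 2 n2480 = n3373 := rfl
def n3374 : Q := act 4 n2480
theorem D3374 : act 4 n2480 = n3374 := rfl
theorem F5453 : act 0 n3374 = n2600 := d3_1 D3374 (iv F5411) F5410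
theorem F5454 : act 3 n3374 = n2483 := d12_1 D3374 (iv D2483) (iv D1811) (iv F2931) D2480
def n3375 : Q := act 3 n2481
theorem D3375 : act 3 n2481 = n3375 := rfl
theorem F5455 : act 0 n3375 = n2482 := d2_1 D3375 (iv D2482) D2481
theorem F5456 : act 1 n3375 = n2598 := d6_1 D3375 (iv F5414) F5412
theorem F5457 : act 5 n3375 = n2518 := d13_2 (iv F4006) D3375 (iv D2518)
def n3376 : Q := act 2 n2482
theorem D3376 : act 2 n2482 = n3376 := rfl
theorem F5458 : act 1 n3376 = n2573 := d5_1 D3376 (iv D2573) F3054 (iv F2936) (iv F4007)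
theorem F5459 : act 5 n3376 = n2519 := d11_2 (iv F4008) D3376 (iv D2519)
def n3377 : Q := act 4 n2482
theorem D3377 : act 4 n2482 = n3377 := rfl
theorem F5460 : act 1 n3377 = n2483 := d7_1 D3377 (iv D2483) (iv F4007)
def n3378 : Q := act 5 n2483
theorem D3378 : act 5 n2483 = n3378 := rfl
theorem F5461 : act 0 n3378 = n2601 := d4_1 D3378 (iv D2601) (iv F4009)
theorem F5462 : act 2 n3378 = n2575 := d11_1 D3378 (iv D2575) (iv F4010)
theorem F5463 : act 4 n3378 = n2523 := d14_1 D3378 (iv D2523) (iv D1840) (iv F2935) D2483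
def n3379 : Q := act 1 n2485
theorem D3379 : act 1 n2485 = n3379 := rfl
theorem F5464 : act 2 n3379 = n2487 := d5_2 D2485 D3379 (iv D2487) (iv D1816) (iv F2942)
theorem F5465 : act 4 n3379 = n2959 := d7_2 (iv F4014) D3379 (iv D2959)
def n3380 : Q := act 3 n2485
theorem D3380 : act 3 n2485 = n3380 := rfl
theorem F5466 : act 0 n3380 = n3288 := d2_1 D3380 (iv D3288) (iv F4013)
def n3381 : Q := act 5 n2485
theorem D3381 : act 5 n2485 = n3381 := rfl
theorem F5467 : act 0 n3381 = n3289 := d4_1 D3381 (iv D3289) (iv F4013)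
theorem F5468 : act 2 n3381 = n2486 := d11_1 D3381 (iv D2486) D2485
def n3382 : Q := act 4 n2486
theorem D3382 : act 4 n2486 = n3382 := rfl
theorem F5469 : act 0 n3382 = n3290 := d3_1 D3382 (iv D3290) (iv F4015)
theorem F5470 : act 1 n3382 = n2488 := d7_1 D3382 (iv D2488) (iv F4016)
theorem F5471 : act 3 n3382 = n3290 := d12_1 D3382 (iv D3290) F3913 (iv F2947) (iv F4017)
theorem F5472 : act 5 n3382 = n2962 := d14_2 D2486 D3382 (iv D2962) (iv D2159) (iv F2943)
def n3383 : Q := act 0 n2487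
theorem D3383 : act 0 n2487 = n3383 := rfl
theorem F5473 : act 1 n3383 = n2507 := d0_2 D2487 D3383 (iv D2507) (iv D1830) (iv F2948)
theorem F5474 : act 4 n3383 = n2963 := d3_2 (iv F4018) D3383 (iv D2963)
def n3384 : Q := act 3 n2488
theorem D3384 : act 3 n2488 = n3384 := rfl
theorem F5475 : act 0 n3384 = n2502 := d2_1 D3384 F4045 (iv F4019)
theorem F5476 : act 1 n3384 = n3290 := d6_1 D3384 (iv F5471) F5470
theorem F5477 : act 4 n3384 = n2489 := d12_2 D2488 D3384 (iv D2489) (iv D1818) (iv F2951)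
theorem F5478 : act 5 n3384 = n2579 := d13_2 (iv F4020) D3384 F4163
def n3385 : Q := act 2 n2489
theorem D3385 : act 2 n2489 = n3385 := rfl
theorem F5479 : act 0 n3385 = n2501 := d1_1 D3385 F4043 (iv F4021)
theorem F5480 : act 5 n3385 = n2490 := d11_2 (iv F4023) D3385 (iv D2490)
theorem F5481 : act 3 n3385 = n2516 := d15_1 D3385 (iv D2516) (iv D1836) (iv D1327) (iv D953) (iv F1574) D1320 D1827 (iv F4021)
def n3386 : Q := act 1 n2490
theorem D3386 : act 1 n2490 = n3386 := rfl
theorem F5482 : act 2 n3386 = n3287 := d5_2 D2490 D3386 (iv D3287) (iv D2415) (iv F2957)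
theorem F5483 : act 4 n3386 = n2576 := d7_2 (iv F4025) D3386 (iv D2576)
def n3387 : Q := act 3 n2490
theorem D3387 : act 3 n2490 = n3387 := rfl
theorem F5484 : act 0 n3387 = n2500 := d2_1 D3387 (iv D2500) (iv F4024)
theorem F5485 : act 5 n3387 = n2516 := d13_2 F5480 D3387 (iv F5481)
theorem F5486 : act 2 n3387 = n2513 := d15_2 D2490 D3387 (iv D2513) (iv D1834) (iv D1326) (iv F2161) (iv F2976) (iv D1827) (iv F2956)
def n3388 : Q := act 1 n2491
theorem D3388 : act 1 n2491 = n3388 := rfl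
theorem F5487 : act 2 n3388 = n3388 := d5_2 D2491 D3388 (iv D3388) (iv D2491) F2960
theorem F5488 : act 5 n3388 = n2492 := d8_2 (iv F4027) D3388 (iv D2492)
def n3389 : Q := act 3 n2491
theorem D3389 : act 3 n2491 = n3389 := rfl
theorem F5489 : act 0 n3389 = n2513 := d2_1 D3389 (iv D2513) (iv F4026)
theorem F5490 : act 2 n3389 = n2500 := d9_1 D3389 (iv D2500) (iv D1826) (iv D1320) F1574 D953 D1327 D1836 D2516 (iv F5481) (iv D3385) (iv D2489) F2954 D1820 D2491
theorem F5491 : act 5 n3389 = n2493 := d13_2 (iv F4027) D3389 (iv D2493)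
def n3390 : Q := act 0 n2492
theorem D3390 : act 0 n2492 = n3390 := rfl
theorem F5492 : act 1 n3390 = n2514 := d0_2 D2492 D3390 (iv D2514) (iv D1835) (iv F2962)
theorem F5493 : act 2 n3390 = n3390 := d1_2 F4028 D3390 (iv D3390)
theorem F5494 : act 4 n3390 = n2494 := d3_2 (iv F4029) D3390 (iv D2494)
def n3391 : Q := act 3 n2492
theorem D3391 : act 3 n2492 = n3391 := rfl
theorem F5495 : act 1 n3391 = n2493 := d6_1 D3391 (iv D2493) D2492
def n3392 : Q := act 2 n2493
theorem D3392 : act 2 n2493 = n3392 := rfl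
theorem F5496 : act 0 n3392 = n2516 := d1_1 D3392 (iv D2516) (iv F4030)
theorem F5497 : act 3 n3392 = n2501 := d9_2 D2493 D3392 F4043 F2976 F2161 D1326 D1834 D2513 (iv F5486) (iv D3387) (iv D2490) (iv D1819) F2148 D1317 D1821
theorem F5498 : act 5 n3392 = n2500 := d11_2 F5491 D3392 (iv F5490)
def n3393 : Q := act 4 n2493
theorem D3393 : act 4 n2493 = n3393 := rfl
theorem F5499 : act 0 n3393 = n2517 := d3_1 D3393 (iv D2517) (iv F4030)
theorem F5500 : act 3 n3393 = n2496 := d12_1 D3393 (iv D2496) (iv D1823) (iv F2963) D2493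
def n3394 : Q := act 3 n2494
theorem D3394 : act 3 n2494 = n3394 := rfl
theorem F5501 : act 0 n3394 = n2495 := d2_1 D3394 (iv D2495) D2494
theorem F5502 : act 1 n3394 = n2518 := d6_1 D3394 (iv D2518) (iv F4031)
theorem F5503 : act 5 n3394 = n2598 := d13_2 F5415 D3394 (iv F5414)
def n3395 : Q := act 4 n2495
theorem D3395 : act 4 n2495 = n3395 := rfl
theorem F5504 : act 1 n3395 = n2496 := d7_1 D3395 (iv D2496) (iv F4033)
def n3396 : Q := act 5 n2496
theorem D3396 : act 5 n2496 = n3396 := rfl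
theorem F5505 : act 0 n3396 = n2523 := d4_1 D3396 (iv D2523) (iv F4035)
theorem F5506 : act 2 n3396 = n2562 := d11_1 D3396 (iv D2562) (iv F4036)
theorem F5507 : act 4 n3396 = n2601 := d14_1 D3396 (iv D2601) (iv D1895) (iv F2967) D2496
def n3397 : Q := act 1 n2497
theorem D3397 : act 1 n2497 = n3397 := rfl
theorem F5508 : act 2 n3397 = n2503 := d5_2 D2497 D3397 (iv D2503) (iv D1828) (iv F2969)
theorem F5509 : act 4 n3397 = n2499 := d7_2 (iv F4038) D3397 (iv D2499)
def n3398 : Q := act 3 n2497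
theorem D3398 : act 3 n2497 = n3398 := rfl
theorem F5510 : act 0 n3398 = n2577 := d2_1 D3398 (iv D2577) (iv F4037)
theorem F5511 : act 2 n3398 = n2585 := d15_2 D2497 D3398 F4170 F3061 F2239 (iv F2235) (iv F3058) (iv D1881) (iv F2968)
theorem F5512 : act 5 n2583 = n3398 := d11_0 F5511 (iv D2585) D2583
def n3399 : Q := act 5 n2497
theorem D3399 : act 5 n2497 = n3399 := rfl
theorem F5513 : act 0 n3399 = n2578 := d4_1 D3399 (iv D2578) (iv F4037)
theorem F5514 : act 2 n3399 = n2498 := d11_1 D3399 (iv D2498) D2497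
theorem F5515 : act 3 n3399 = n2583 := d13_1 D3399 F5512 (iv D3398)
def n3400 : Q := act 4 n2498
theorem D3400 : act 4 n2498 = n3400 := rfl
theorem F5516 : act 0 n3400 = n2579 := d3_1 D3400 (iv D2579) (iv F4039)
theorem F5517 : act 1 n3400 = n2506 := d7_1 D3400 (iv D2506) (iv F4040)
theorem F5518 : act 3 n3400 = n2506 := d12_1 D3400 (iv D2506) F2980 (iv F2974) (iv F4041)
theorem F5519 : act 5 n3400 = n2502 := d14_2 D2498 D3400 (iv D2502) (iv D1827) (iv F2970)
def n3401 : Q := act 0 n2499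
theorem D3401 : act 0 n2499 = n3401 := rfl
theorem F5520 : act 2 n3401 = n2507 := d1_2 (iv F4042) D3401 (iv D2507)
def n3402 : Q := act 3 n2499
theorem D3402 : act 3 n2499 = n3402 := rfl
theorem F5521 : act 1 n3402 = n2500 := d6_1 D3402 (iv D2500) D2499
def n3403 : Q := act 5 n2499
theorem D3403 : act 5 n2499 = n3403 := rfl
theorem F5522 : act 1 n3403 = n2501 := d8_1 D3403 (iv D2501) D2499
theorem F5523 : act 2 n3403 = n2509 := d11_1 D3403 (iv D2509) (iv F4042)
def n3404 : Q := act 4 n2500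
theorem D3404 : act 4 n2500 = n3404 := rfl
def n3405 : Q := act 4 n2501
theorem D3405 : act 4 n2501 = n3405 := rfl
theorem F5524 : act 2 n3405 = n2502 := d10_1 D3405 (iv D2502) (iv F4043)
def n3406 : Q := act 0 n2503
theorem D3406 : act 0 n2503 = n3406 := rfl
theorem F5525 : act 1 n3406 = n2963 := d0_2 D2503 D3406 (iv D2963) (iv D2160) (iv F2977)
theorem F5526 : act 4 n3406 = n2507 := d3_2 (iv F4046) D3406 (iv D2507)
def n3407 : Q := act 3 n2503
theorem D3407 : act 3 n2503 = n3407 := rfl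
theorem F5527 : act 1 n3407 = n2504 := d6_1 D3407 (iv D2504) D2503
theorem F5528 : act 5 n2974 = n3407 := d8_0 F5527 (iv F4049) D2974
def n3408 : Q := act 5 n2503
theorem D3408 : act 5 n2503 = n3408 := rfl
theorem F5529 : act 1 n3408 = n2505 := d8_1 D3408 (iv D2505) D2503
theorem F5530 : act 3 n3408 = n2974 := d13_1 D3408 F5528 (iv D3407)
def n3409 : Q := act 4 n2504
theorem D3409 : act 4 n2504 = n3409 := rfl
theorem F5531 : act 0 n3409 = n2966 := d3_1 D3409 (iv D2966) (iv F4047)
theorem F5532 : act 2 n3409 = n2977 := d10_1 D3409 (iv D2977) (iv F4048)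
theorem F5533 : act 3 n3409 = n2510 := d12_1 D3409 (iv D2510) (iv D1831) (iv F2978) D2504
def n3410 : Q := act 4 n2505
theorem D3410 : act 4 n2505 = n3410 := rfl
theorem F5534 : act 0 n3410 = n2967 := d3_1 D3410 (iv D2967) (iv F4050)
theorem F5535 : act 2 n3410 = n2506 := d10_1 D3410 (iv D2506) (iv F4051)
theorem F5536 : act 5 n3410 = n2511 := d14_2 D2505 D3410 (iv D2511) (iv D1832) (iv F2978)
def n3411 : Q := act 3 n2507
theorem D3411 : act 3 n2507 = n3411 := rfl
theorem F5537 : act 0 n3411 = n2508 := d2_1 D3411 (iv D2508) D2507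
def n3412 : Q := act 5 n2507
theorem D3412 : act 5 n2507 = n3412 := rfl
theorem F5538 : act 0 n3412 = n2509 := d4_1 D3412 (iv D2509) D2507
def n3413 : Q := act 2 n2508
theorem D3413 : act 2 n2508 = n3413 := rfl
def n3414 : Q := act 4 n2508
theorem D3414 : act 4 n2508 = n3414 := rfl
theorem F5539 : act 1 n3414 = n2510 := d7_1 D3414 (iv D2510) (iv F4055)
def n3415 : Q := act 4 n2509
theorem D3415 : act 4 n2509 = n3415 := rfl
theorem F5540 : act 1 n3415 = n2511 := d7_1 D3415 (iv D2511) (iv F4056)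
def n3416 : Q := act 5 n2510
theorem D3416 : act 5 n2510 = n3416 := rfl
def n3417 : Q := act 3 n2511
theorem D3417 : act 3 n2511 = n3417 := rfl
def n3418 : Q := act 0 n2512
theorem D3418 : act 0 n2512 = n3418 := rfl
theorem F5541 : act 2 n3418 = n2525 := d1_2 (iv F4058) D3418 F4074
theorem F5542 : act 5 n3418 = n2514 := d4_2 (iv F4059) D3418 (iv D2514)
def n3419 : Q := act 3 n2512
theorem D3419 : act 3 n2512 = n3419 := rfl
theorem F5543 : act 1 n3419 = n2513 := d6_1 D3419 (iv D2513) D2512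
theorem F5544 : act 5 n3419 = n2515 := d13_2 (iv F4059) D3419 (iv D2515)
def n3420 : Q := act 4 n2513
theorem D3420 : act 4 n2513 = n3420 := rfl
def n3421 : Q := act 3 n2514
theorem D3421 : act 3 n2514 = n3421 := rfl
theorem F5545 : act 0 n3421 = n2515 := d2_1 D3421 (iv D2515) D2514
def n3422 : Q := act 2 n2515
theorem D3422 : act 2 n2515 = n3422 := rfl
def n3423 : Q := act 4 n2515
theorem D3423 : act 4 n2515 = n3423 := rfl
theorem F5546 : act 1 n3423 = n2517 := d7_1 D3423 (iv D2517) (iv F4063)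
theorem F5547 : act 3 n3423 = n2520 := d12_1 D3423 (iv D2520) (iv D1838) (iv F2984) D2515
def n3424 : Q := act 1 n2516
theorem D3424 : act 1 n2516 = n3424 := rfl
def n3425 : Q := act 4 n2516
theorem D3425 : act 4 n2516 = n3425 := rfl
theorem F5548 : act 2 n3425 = n2517 := d10_1 D3425 (iv D2517) D2516
def n3426 : Q := act 5 n2517
theorem D3426 : act 5 n2517 = n3426 := rfl
theorem F5549 : act 3 n3426 = n2523 := d13_1 D3426 (iv D2523) (iv F4064)
def n3427 : Q := act 2 n2518
theorem D3427 : act 2 n2518 = n3427 := rfl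
theorem F5550 : act 0 n3427 = n2519 := d1_1 D3427 (iv D2519) (iv F4065)
theorem F5551 : act 3 n3427 = n2519 := d15_1 D3427 (iv D2519) (iv D1838) F2171 (iv F2137) (iv F2932) D2482 F4008 (iv F4065)
def n3428 : Q := act 4 n2518
theorem D3428 : act 4 n2518 = n3428 := rfl
theorem F5552 : act 0 n3428 = n2520 := d3_1 D3428 (iv D2520) (iv F4065)
def n3429 : Q := act 1 n2519
theorem D3429 : act 1 n2519 = n3429 := rfl
theorem F5553 : act 2 n3429 = n2521 := d5_2 D2519 D3429 (iv D2521) (iv D1839) (iv F2986)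
theorem F5554 : act 5 n3429 = n2573 := d8_2 F5459 D3429 (iv F5458)
def n3430 : Q := act 4 n2519
theorem D3430 : act 4 n2519 = n3430 := rfl
theorem F5555 : act 2 n3430 = n2520 := d10_1 D3430 (iv D2520) D2519
def n3431 : Q := act 5 n2520
theorem D3431 : act 5 n2520 = n3431 := rfl
theorem F5556 : act 1 n3431 = n2523 := d8_1 D3431 (iv D2523) (iv F4066)
def n3432 : Q := act 4 n2521
theorem D3432 : act 4 n2521 = n3432 := rfl
theorem F5557 : act 1 n3432 = n2522 := d7_1 D3432 (iv D2522) D2521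
def n3433 : Q := act 3 n2522
theorem D3433 : act 3 n2522 = n3433 := rfl
theorem F5558 : act 0 n3433 = n2561 := d2_1 D3433 F4133 (iv F4069)
theorem F5559 : act 4 n3433 = n2540 := d12_2 D2522 D3433 (iv D2540) F3018 (iv F2988)
def n3434 : Q := act 5 n2522
theorem D3434 : act 5 n2522 = n3434 := rfl
theorem F5560 : act 0 n3434 = n2562 := d4_1 D3434 (iv D2562) (iv F4069)
theorem F5561 : act 2 n3434 = n2523 := d11_1 D3434 (iv D2523) (iv F4070)
theorem F5562 : act 4 n3434 = n2575 := d14_1 D3434 (iv D2575) (iv D1879) (iv F2989) D2522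
def n3435 : Q := act 2 n2524
theorem D3435 : act 2 n2524 = n3435 := rfl
theorem F5563 : act 0 n3435 = n2526 := d1_1 D3435 (iv D2526) (iv F4071)
theorem F5564 : act 4 n3435 = n3418 := d10_2 F4077 D3435 F5541
theorem F5565 : act 5 n3435 = n3371 := d11_2 F4073 D3435 F5450
def n3436 : Q := act 3 n2526
theorem D3436 : act 3 n2526 = n3436 := rfl
theorem F5566 : act 1 n3436 = n3370 := d6_1 D3436 (iv D3370) (iv F4078)
theorem F5567 : act 5 n3436 = n3372 := d13_2 (iv F4080) D3436 (iv D3372)
def n3437 : Q := act 2 n2527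
theorem D3437 : act 2 n2527 = n3437 := rfl
theorem F5568 : act 0 n3437 = n2531 := d1_1 D3437 (iv D2531) (iv F4081)
def n3438 : Q := act 5 n2527
theorem D3438 : act 5 n2527 = n3438 := rfl
theorem F5569 : act 0 n3438 = n2532 := d4_1 D3438 (iv D2532) (iv F4081)
theorem F5570 : act 1 n3438 = n2537 := d8_1 D3438 F4101 (iv F4082)
theorem F5571 : act 3 n3438 = n2528 := d13_1 D3438 (iv D2528) D2527
def n3439 : Q := act 2 n2529
theorem D3439 : act 2 n2529 = n3439 := rfl
theorem F5572 : act 4 n3439 = n2531 := d10_2 (iv F4088) D3439 (iv D2531)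
def n3440 : Q := act 5 n2529
theorem D3440 : act 5 n2529 = n3440 := rfl
theorem F5573 : act 1 n3440 = n2534 := d8_1 D3440 (iv D2534) (iv F4087)
theorem F5574 : act 3 n3440 = n2530 := d13_1 D3440 (iv D2530) D2529
def n3441 : Q := act 1 n2531
theorem D3441 : act 1 n2531 = n3441 := rfl
theorem F5575 : act 2 n3441 = n2535 := d5_2 D2531 D3441 (iv D2535) (iv D1850) (iv F3001)
theorem F5576 : act 5 n2589 = n3441 := d11_0 F5575 F4097 D2589
def n3442 : Q := act 3 n2531
theorem D3442 : act 3 n2531 = n3442 := rfl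
def n3443 : Q := act 5 n2531
theorem D3443 : act 5 n2531 = n3443 := rfl
theorem F5577 : act 1 n3443 = n2589 := d8_1 D3443 F5576 (iv D3441)
theorem F5578 : act 2 n3443 = n2532 := d11_1 D3443 (iv D2532) D2531
def n3444 : Q := act 4 n2532
theorem D3444 : act 4 n2532 = n3444 := rfl
theorem F5579 : act 1 n3444 = n2536 := d7_1 D3444 (iv D2536) (iv F4090)
def n3445 : Q := act 1 n2533
theorem D3445 : act 1 n2533 = n3445 := rfl
theorem F5580 : act 4 n3445 = n2535 := d7_2 (iv F4093) D3445 (iv D2535)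
def n3446 : Q := act 3 n2533
theorem D3446 : act 3 n2533 = n3446 := rfl
theorem F5581 : act 0 n3446 = n2552 := d2_1 D3446 (iv D2552) (iv F4092)
theorem F5582 : act 4 n3446 = n2593 := d12_2 (iv F4093) D3446 (iv D2593) (iv D1890) (iv F3008)
def n3447 : Q := act 5 n2533
theorem D3447 : act 5 n2533 = n3447 := rfl
theorem F5583 : act 0 n3447 = n2553 := d4_1 D3447 (iv D2553) (iv F4092)
theorem F5584 : act 2 n3447 = n2534 := d11_1 D3447 (iv D2534) D2533
theorem F5585 : act 4 n3447 = n2592 := d14_1 D3447 (iv D2592) (iv D1889) F3009 (iv F4093)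
def n3448 : Q := act 4 n2534
theorem D3448 : act 4 n2534 = n3448 := rfl
theorem F5586 : act 0 n3448 = n2554 := d3_1 D3448 (iv D2554) (iv F4094)
theorem F5587 : act 2 n3448 = n2592 := d10_1 D3448 (iv F5585) F5584
theorem F5588 : act 5 n3448 = n2536 := d14_2 D2534 D3448 (iv D2536) (iv D1851) (iv F3005)
def n3449 : Q := act 0 n2535
theorem D3449 : act 0 n2535 = n3449 := rfl
theorem F5589 : act 1 n3449 = n2555 := d0_2 D2535 D3449 (iv D2555) (iv D1865) (iv F3007)
theorem F5590 : act 3 n3449 = n2588 := d2_2 (iv F4096) D3449 F4174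
theorem F5591 : act 5 n3449 = n2587 := d4_2 (iv F4097) D3449 F4173
def n3450 : Q := act 3 n2536
theorem D3450 : act 3 n2536 = n3450 := rfl
theorem F5592 : act 0 n3450 = n2546 := d2_1 D3450 F4117 (iv F4098)
theorem F5593 : act 4 n3450 = n2537 := d12_2 D2536 D3450 (iv D2537) (iv D1852) (iv F3012)
def n3451 : Q := act 2 n2537
theorem D3451 : act 2 n2537 = n3451 := rfl
theorem F5594 : act 0 n3451 = n2545 := d1_1 D3451 F4115 (iv F4100)
theorem F5595 : act 3 n3451 = n2560 := d9_2 D2537 D3451 (iv D2560) (iv D1869) (iv D1353) (iv D972) (iv F1603) D1345 D1858 D2544 F4114 (iv D2234) F2672 (iv F2195) (iv F3014)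
theorem F5596 : act 5 n3451 = n2538 := d11_2 (iv F4101) D3451 (iv D2538)
def n3452 : Q := act 1 n2538
theorem D3452 : act 1 n2538 = n3452 := rfl
theorem F5597 : act 3 n3452 = n3069 := d6_2 (iv F4103) D3452 (iv D3069)
def n3453 : Q := act 3 n2539
theorem D3453 : act 3 n2539 = n3453 := rfl
theorem F5598 : act 1 n3453 = n2540 := d6_1 D3453 (iv D2540) D2539
theorem F5599 : act 5 n3453 = n3056 := d13_2 (iv F4106) D3453 (iv D3056)
def n3454 : Q := act 2 n2540
theorem D3454 : act 2 n2540 = n3454 := rfl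
theorem F5600 : act 0 n3454 = n2560 := d1_1 D3454 (iv D2560) (iv F4107)
theorem F5601 : act 3 n3454 = n2545 := d9_2 D2540 D3454 F4115 F3027 F2206 F1606 (iv F1924) D1631 D2245 (iv F4103) (iv D2538) (iv D1853) F2192 D1342 D1854
theorem F5602 : act 5 n3454 = n2544 := d11_2 (iv F4108) D3454 F4114
def n3455 : Q := act 1 n2541
theorem D3455 : act 1 n2541 = n3455 := rfl
theorem F5603 : act 2 n3455 = n2551 := d5_2 D2541 D3455 (iv D2551) (iv D1863) (iv F3022)
theorem F5604 : act 4 n3455 = n2543 := d7_2 (iv F4109) D3455 (iv D2543)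
def n3456 : Q := act 3 n2541
theorem D3456 : act 3 n2541 = n3456 := rfl
def n3457 : Q := act 5 n2541
theorem D3457 : act 5 n2541 = n3457 := rfl
theorem F5605 : act 2 n3457 = n2542 := d11_1 D3457 (iv D2542) D2541
def n3458 : Q := act 4 n2542
theorem D3458 : act 4 n2542 = n3458 := rfl
theorem F5606 : act 1 n3458 = n2554 := d7_1 D3458 (iv D2554) (iv F4110)
theorem F5607 : act 3 n3458 = n2554 := d12_1 D3458 (iv D2554) F3031 (iv F3025) (iv F4111)
theorem F5608 : act 5 n3458 = n2546 := d14_2 D2542 D3458 (iv D2546) (iv D1859) (iv F3023)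
def n3459 : Q := act 0 n2543
theorem D3459 : act 0 n2543 = n3459 := rfl
theorem F5609 : act 2 n3459 = n2555 := d1_2 (iv F4112) D3459 (iv D2555)
def n3460 : Q := act 3 n2543
theorem D3460 : act 3 n2543 = n3460 := rfl
theorem F5610 : act 1 n3460 = n2544 := d6_1 D3460 (iv D2544) D2543
def n3461 : Q := act 5 n2543
theorem D3461 : act 5 n2543 = n3461 := rfl
theorem F5611 : act 1 n3461 = n2545 := d8_1 D3461 (iv D2545) D2543
theorem F5612 : act 2 n3461 = n2557 := d11_1 D3461 (iv D2557) (iv F4112)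
def n3462 : Q := act 4 n2544
theorem D3462 : act 4 n2544 = n3462 := rfl
theorem F5613 : act 0 n3462 = n3068 := d3_1 D3462 F5004 (iv F4113)
theorem F5614 : act 2 n3462 = n2991 := d10_1 D3462 F4863 (iv F4114)
def n3463 : Q := act 4 n2545
theorem D3463 : act 4 n2545 = n3463 := rfl
theorem F5615 : act 2 n3463 = n2546 := d10_1 D3463 (iv D2546) (iv F4115)
def n3464 : Q := act 2 n2547
theorem D3464 : act 2 n2547 = n3464 := rfl
def n3465 : Q := act 5 n2547
theorem D3465 : act 5 n2547 = n3465 := rfl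
theorem F5616 : act 1 n3465 = n2550 := d8_1 D3465 (iv D2550) (iv F4118)
theorem F5617 : act 3 n3465 = n2548 := d13_1 D3465 (iv D2548) D2547
def n3466 : Q := act 1 n2549
theorem D3466 : act 1 n2549 = n3466 := rfl
def n3467 : Q := act 3 n2549
theorem D3467 : act 3 n2549 = n3467 := rfl
def n3468 : Q := act 5 n2549
theorem D3468 : act 5 n2549 = n3468 := rfl
theorem F5618 : act 2 n3468 = n2550 := d11_1 D3468 (iv D2550) D2549
def n3469 : Q := act 4 n2550
theorem D3469 : act 4 n2550 = n3469 := rfl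
def n3470 : Q := act 0 n2551
theorem D3470 : act 0 n2551 = n3470 := rfl
theorem F5619 : act 4 n3470 = n2555 := d3_2 (iv F4121) D3470 (iv D2555)
def n3471 : Q := act 3 n2551
theorem D3471 : act 3 n2551 = n3471 := rfl
theorem F5620 : act 1 n3471 = n2552 := d6_1 D3471 (iv D2552) D2551
def n3472 : Q := act 5 n2551
theorem D3472 : act 5 n2551 = n3472 := rfl
theorem F5621 : act 1 n3472 = n2553 := d8_1 D3472 (iv D2553) D2551
def n3473 : Q := act 2 n2552
theorem D3473 : act 2 n2552 = n3473 := rfl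
def n3474 : Q := act 4 n2552
theorem D3474 : act 4 n2552 = n3474 := rfl
theorem F5622 : act 0 n3474 = n2593 := d3_1 D3474 (iv F5582) F5581
theorem F5623 : act 3 n3474 = n2558 := d12_1 D3474 (iv D2558) (iv D1866) (iv F3030) D2552
def n3475 : Q := act 5 n2552
theorem D3475 : act 5 n2552 = n3475 := rfl
theorem F5624 : act 3 n3475 = n2553 := d13_1 D3475 (iv D2553) D2552
def n3476 : Q := act 4 n2553
theorem D3476 : act 4 n2553 = n3476 := rfl
theorem F5625 : act 0 n3476 = n2592 := d3_1 D3476 (iv F5585) F5583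
theorem F5626 : act 2 n3476 = n2554 := d10_1 D3476 (iv D2554) (iv F4122)
theorem F5627 : act 5 n3476 = n2559 := d14_2 D2553 D3476 (iv D2559) (iv D1867) (iv F3030)
def n3477 : Q := act 3 n2555
theorem D3477 : act 3 n2555 = n3477 := rfl
theorem F5628 : act 0 n3477 = n2556 := d2_1 D3477 (iv D2556) D2555
theorem F5629 : act 1 n3477 = n2588 := d6_1 D3477 (iv F5590) F5589
theorem F5630 : act 5 n2571 = n3477 := d8_0 F5629 (iv D2588) (iv F4153)
def n3478 : Q := act 5 n2555
theorem D3478 : act 5 n2555 = n3478 := rfl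
theorem F5631 : act 0 n3478 = n2557 := d4_1 D3478 (iv D2557) D2555
theorem F5632 : act 1 n3478 = n2587 := d8_1 D3478 (iv F5591) F5589
theorem F5633 : act 3 n3478 = n2571 := d13_1 D3478 F5630 (iv D3477)
def n3479 : Q := act 2 n2556
theorem D3479 : act 2 n2556 = n3479 := rfl
theorem F5634 : act 1 n3479 = n2565 := d5_1 D3479 F4139 F3042 (iv F3033) (iv F4124)
theorem F5635 : act 5 n3479 = n2563 := d11_2 F4125 D3479 F4135
def n3480 : Q := act 4 n2556
theorem D3480 : act 4 n2556 = n3480 := rfl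
theorem F5636 : act 1 n3480 = n2558 := d7_1 D3480 (iv D2558) (iv F4124)
def n3481 : Q := act 4 n2557
theorem D3481 : act 4 n2557 = n3481 := rfl
theorem F5637 : act 1 n3481 = n2559 := d7_1 D3481 (iv D2559) (iv F4126)
def n3482 : Q := act 5 n2558
theorem D3482 : act 5 n2558 = n3482 := rfl
theorem F5638 : act 0 n3482 = n2586 := d4_1 D3482 F4172 (iv F4128)
theorem F5639 : act 2 n3482 = n2570 := d11_1 D3482 F4152 (iv F4129)
theorem F5640 : act 4 n3482 = n2569 := d14_1 D3482 (iv D2569) F3045 (iv F3034) D2558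
def n3483 : Q := act 3 n2559
theorem D3483 : act 3 n2559 = n3483 := rfl
theorem F5641 : act 0 n3483 = n2584 := d2_1 D3483 F4169 (iv F4130)
theorem F5642 : act 4 n3483 = n2568 := d12_2 D2559 D3483 (iv D2568) F3045 (iv F3037)
def n3484 : Q := act 1 n2560
theorem D3484 : act 1 n2560 = n3484 := rfl
theorem F5643 : act 5 n3484 = n3069 := d8_2 (iv F4132) D3484 (iv D3069)
def n3485 : Q := act 4 n2560
theorem D3485 : act 4 n2560 = n3485 := rfl
theorem F5644 : act 2 n3485 = n2561 := d10_1 D3485 (iv D2561) D2560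
def n3486 : Q := act 5 n2561
theorem D3486 : act 5 n2561 = n3486 := rfl
theorem F5645 : act 3 n3486 = n2562 := d13_1 D3486 (iv D2562) (iv F4133)
theorem F5646 : act 4 n3486 = n3067 := d14_1 D3486 F5003 F3649 (iv F3038) D2561
def n3487 : Q := act 0 n2563
theorem D3487 : act 0 n2563 = n3487 := rfl
theorem F5647 : act 1 n3487 = n2926 := d0_2 D2563 D3487 (iv D2926) (iv D2131) (iv F3039)
theorem F5648 : act 2 n3487 = n2571 := d1_2 (iv F4135) D3487 (iv D2571)
theorem F5649 : act 4 n3487 = n3304 := d3_2 (iv F4136) D3487 (iv D3304)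
def n3488 : Q := act 3 n2563
theorem D3488 : act 3 n2563 = n3488 := rfl
theorem F5650 : act 1 n3488 = n2564 := d6_1 D3488 (iv D2564) D2563
def n3489 : Q := act 2 n2564
theorem D3489 : act 2 n2564 = n3489 := rfl
theorem F5651 : act 0 n3489 = n2837 := d1_1 D3489 F4586 (iv F4137)
theorem F5652 : act 3 n3489 = n2617 := d9_2 D2564 D3489 (iv D2617) (iv D1905) F2261 D1541 D2130 (iv F4584) (iv D2835) (iv D2065) (iv D1499) (iv D1077) (iv F1614) D1355 D1871
theorem F5653 : act 5 n2619 = n3489 := d13_0 F5652 F4219 D2619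
def n3490 : Q := act 4 n2564
theorem D3490 : act 4 n2564 = n3490 := rfl
theorem F5654 : act 0 n3490 = n2928 := d3_1 D3490 (iv D2928) (iv F4137)
theorem F5655 : act 3 n3490 = n3307 := d12_1 D3490 (iv D3307) (iv D2430) (iv F3040) D2564
def n3491 : Q := act 5 n2564
theorem D3491 : act 5 n2564 = n3491 := rfl
theorem F5656 : act 0 n3491 = n2835 := d4_1 D3491 (iv F4585) (iv F4137)
theorem F5657 : act 2 n3491 = n2619 := d11_1 D3491 F5653 (iv D3489)
theorem F5658 : act 3 n3491 = n2565 := d13_1 D3491 (iv D2565) D2564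
def n3492 : Q := act 4 n2565
theorem D3492 : act 4 n2565 = n3492 := rfl
theorem F5659 : act 0 n3492 = n2924 := d3_1 D3492 F4736 (iv F4138)
theorem F5660 : act 2 n3492 = n2566 := d10_1 D3492 (iv D2566) (iv F4139)
theorem F5661 : act 5 n3492 = n3308 := d14_2 D2565 D3492 (iv D3308) (iv D2431) (iv F3040)
def n3493 : Q := act 0 n2567
theorem D3493 : act 0 n2567 = n3493 := rfl
theorem F5662 : act 1 n3493 = n2580 := d0_2 D2567 D3493 (iv D2580) (iv D1882) (iv F3044)
theorem F5663 : act 2 n3493 = n3304 := d1_2 (iv F4144) D3493 (iv D3304)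
theorem F5664 : act 4 n3493 = n2571 := d3_2 (iv F4145) D3493 (iv D2571)
def n3494 : Q := act 3 n2567
theorem D3494 : act 3 n2567 = n3494 := rfl
theorem F5665 : act 1 n3494 = n2568 := d6_1 D3494 (iv D2568) D2567
def n3495 : Q := act 5 n2567
theorem D3495 : act 5 n2567 = n3495 := rfl
theorem F5666 : act 1 n3495 = n2569 := d8_1 D3495 (iv D2569) D2567
theorem F5667 : act 2 n3495 = n3306 := d11_1 D3495 (iv D3306) (iv F4144)
def n3496 : Q := act 2 n2568
theorem D3496 : act 2 n2568 = n3496 := rfl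
theorem F5668 : act 0 n3496 = n2583 := d1_1 D3496 (iv D2583) (iv F4146)
theorem F5669 : act 3 n3496 = n2578 := d9_2 D2568 D3496 F4161 F3058 F2235 (iv F2239) (iv F3061) (iv F4170) (iv F5511) (iv D3398) (iv D2497) (iv D1824) F2158 D1357 D1873
theorem F5670 : act 5 n2577 = n3496 := d13_0 F5669 (iv D2578) D2577
def n3497 : Q := act 5 n2568
theorem D3497 : act 5 n2568 = n3497 := rfl
theorem F5671 : act 0 n3497 = n2585 := d4_1 D3497 (iv D2585) (iv F4146)
theorem F5672 : act 2 n3497 = n2577 := d11_1 D3497 F5670 (iv D3496)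
theorem F5673 : act 3 n3497 = n2569 := d13_1 D3497 (iv D2569) D2568
def n3498 : Q := act 2 n2572
theorem D3498 : act 2 n2572 = n3498 := rfl
theorem F5674 : act 0 n3498 = n2573 := d1_1 D3498 (iv D2573) (iv F4154)
def n3499 : Q := act 4 n2572
theorem D3499 : act 4 n2572 = n3499 := rfl
theorem F5675 : act 0 n3499 = n2574 := d3_1 D3499 (iv D2574) (iv F4154)
theorem F5676 : act 1 n3499 = n2594 := d7_1 D3499 (iv D2594) (iv F4155)
theorem F5677 : act 3 n3499 = n3052 := d12_1 D3499 (iv D3052) (iv D2229) (iv F3053) D2572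
def n3500 : Q := act 3 n2573
theorem D3500 : act 3 n2573 = n3500 := rfl
def n3501 : Q := act 4 n2573
theorem D3501 : act 4 n2573 = n3501 := rfl
theorem F5678 : act 2 n3501 = n2574 := d10_1 D3501 (iv D2574) D2573
def n3502 : Q := act 5 n2574
theorem D3502 : act 5 n2574 = n3502 := rfl
theorem F5679 : act 1 n3502 = n2575 := d8_1 D3502 (iv D2575) (iv F4156)
theorem F5680 : act 3 n3502 = n3055 := d13_1 D3502 (iv D3055) (iv F4157)
def n3503 : Q := act 0 n2576
theorem D3503 : act 0 n2576 = n3503 := rfl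
theorem F5681 : act 2 n3503 = n3291 := d1_2 (iv F4160) D3503 (iv D3291)
def n3504 : Q := act 3 n2576
theorem D3504 : act 3 n2576 = n3504 := rfl
theorem F5682 : act 1 n3504 = n2577 := d6_1 D3504 (iv D2577) D2576
def n3505 : Q := act 5 n2576
theorem D3505 : act 5 n2576 = n3505 := rfl
theorem F5683 : act 1 n3505 = n2578 := d8_1 D3505 (iv D2578) D2576
theorem F5684 : act 2 n3505 = n3293 := d11_1 D3505 (iv D3293) (iv F4160)
def n3506 : Q := act 4 n2577
theorem D3506 : act 4 n2577 = n3506 := rfl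
def n3507 : Q := act 4 n2578
theorem D3507 : act 4 n2578 = n3507 := rfl
theorem F5685 : act 2 n3507 = n2579 := d10_1 D3507 (iv D2579) (iv F4161)
def n3508 : Q := act 3 n2580
theorem D3508 : act 3 n2580 = n3508 := rfl
theorem F5686 : act 0 n3508 = n2581 := d2_1 D3508 (iv D2581) D2580
def n3509 : Q := act 5 n2580
theorem D3509 : act 5 n2580 = n3509 := rfl
theorem F5687 : act 0 n3509 = n2582 := d4_1 D3509 (iv D2582) D2580
theorem F5688 : act 2 n3509 = n3019 := d11_1 D3509 F4928 (iv F4164)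
def n3510 : Q := act 2 n2581
theorem D3510 : act 2 n2581 = n3510 := rfl
def n3511 : Q := act 4 n2581
theorem D3511 : act 4 n2581 = n3511 := rfl
theorem F5689 : act 1 n3511 = n2584 := d7_1 D3511 (iv D2584) (iv F4166)
theorem F5690 : act 3 n3511 = n2590 := d12_1 D3511 (iv D2590) (iv D1887) (iv F3060) D2581
def n3512 : Q := act 5 n2581
theorem D3512 : act 5 n2581 = n3512 := rfl
theorem F5691 : act 1 n3512 = n2585 := d8_1 D3512 (iv D2585) (iv F4166)
theorem F5692 : act 3 n3512 = n2582 := d13_1 D3512 (iv D2582) D2581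
def n3513 : Q := act 4 n2582
theorem D3513 : act 4 n2582 = n3513 := rfl
theorem F5693 : act 1 n3513 = n2586 := d7_1 D3513 (iv D2586) (iv F4167)
theorem F5694 : act 2 n3513 = n3018 := d10_1 D3513 F4924 (iv F4168)
theorem F5695 : act 5 n3513 = n2591 := d14_2 D2582 D3513 (iv D2591) (iv D1888) (iv F3060)
def n3514 : Q := act 1 n2583
theorem D3514 : act 1 n2583 = n3514 := rfl
def n3515 : Q := act 4 n2583
theorem D3515 : act 4 n2583 = n3515 := rfl
theorem F5696 : act 2 n3515 = n2584 := d10_1 D3515 (iv D2584) D2583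
def n3516 : Q := act 5 n2584
theorem D3516 : act 5 n2584 = n3516 := rfl
theorem F5697 : act 3 n3516 = n2592 := d13_1 D3516 (iv D2592) (iv F4169)
def n3517 : Q := act 4 n2585
theorem D3517 : act 4 n2585 = n3517 := rfl
def n3518 : Q := act 3 n2586
theorem D3518 : act 3 n2586 = n3518 := rfl
theorem F5698 : act 5 n3518 = n2593 := d13_2 (iv F4172) D3518 (iv D2593)
def n3519 : Q := act 2 n2587
theorem D3519 : act 2 n2587 = n3519 := rfl
theorem F5699 : act 0 n3519 = n2589 := d1_1 D3519 (iv D2589) (iv F4173)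
def n3520 : Q := act 4 n2587
theorem D3520 : act 4 n2587 = n3520 := rfl
theorem F5700 : act 0 n3520 = n2590 := d3_1 D3520 (iv D2590) (iv F4173)
def n3521 : Q := act 4 n2588
theorem D3521 : act 4 n2588 = n3521 := rfl
theorem F5701 : act 0 n3521 = n2591 := d3_1 D3521 (iv D2591) (iv F4174)
theorem F5702 : act 2 n3521 = n3025 := d10_1 D3521 F4942 (iv F4175)
def n3522 : Q := act 3 n2589
theorem D3522 : act 3 n2589 = n3522 := rfl
def n3523 : Q := act 4 n2589
theorem D3523 : act 4 n2589 = n3523 := rfl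
theorem F5703 : act 2 n3523 = n2590 := d10_1 D3523 (iv D2590) D2589
def n3524 : Q := act 5 n2590
theorem D3524 : act 5 n2590 = n3524 := rfl
theorem F5704 : act 1 n3524 = n2592 := d8_1 D3524 (iv D2592) (iv F4176)
def n3525 : Q := act 3 n2591
theorem D3525 : act 3 n2591 = n3525 := rfl
theorem F5705 : act 1 n3525 = n2593 := d6_1 D3525 (iv D2593) (iv F4177)
def n3526 : Q := act 2 n2593
theorem D3526 : act 2 n2593 = n3526 := rfl
def n3527 : Q := act 5 n2594
theorem D3527 : act 5 n2594 = n3527 := rfl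
theorem F5706 : act 0 n3527 = n2597 := d4_1 D3527 (iv D2597) (iv F4179)
theorem F5707 : act 3 n3527 = n3057 := d13_1 D3527 (iv D3057) (iv F4180)
def n3528 : Q := act 0 n2595
theorem D3528 : act 0 n2595 = n3528 := rfl
theorem F5708 : act 2 n3528 = n2598 := d1_2 (iv F4181) D3528 (iv D2598)
def n3529 : Q := act 4 n2595
theorem D3529 : act 4 n2595 = n3529 := rfl
theorem F5709 : act 1 n3529 = n2596 := d7_1 D3529 (iv D2596) D2595
theorem F5710 : act 2 n3529 = n2599 := d10_1 D3529 (iv D2599) (iv F4181)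
def n3530 : Q := act 3 n2596
theorem D3530 : act 3 n2596 = n3530 := rfl
def n3531 : Q := act 5 n2596
theorem D3531 : act 5 n2596 = n3531 := rfl
theorem F5711 : act 2 n3531 = n2597 := d11_1 D3531 (iv D2597) (iv F4182)
def n3532 : Q := act 4 n2598
theorem D3532 : act 4 n2598 = n3532 := rfl
theorem F5712 : act 0 n3532 = n2599 := d3_1 D3532 (iv D2599) D2598
def n3533 : Q := act 3 n2599
theorem D3533 : act 3 n2599 = n3533 := rfl
theorem F5713 : act 1 n3533 = n2600 := d6_1 D3533 (iv D2600) (iv F4185)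
def n3534 : Q := act 5 n2599
theorem D3534 : act 5 n2599 = n3534 := rfl
theorem F5714 : act 1 n3534 = n2601 := d8_1 D3534 (iv D2601) (iv F4185)
def n3535 : Q := act 2 n2600
theorem D3535 : act 2 n2600 = n3535 := rfl
def n3536 : Q := act 5 n2600
theorem D3536 : act 5 n2600 = n3536 := rfl
theorem F5715 : act 3 n3536 = n2601 := d13_1 D3536 (iv D2601) D2600
def n3537 : Q := act 0 n2602
theorem D3537 : act 0 n2602 = n3537 := rfl
theorem F5716 : act 1 n3537 = n2610 := d0_2 D2602 D3537 (iv D2610) (iv D1901) (iv F3075)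
theorem F5717 : act 2 n3537 = n2630 := d1_2 (iv F4187) D3537 (iv D2630)
theorem F5718 : act 5 n2745 = n3537 := d8_0 F5716 F4203 D2745
def n3538 : Q := act 3 n2602
theorem D3538 : act 3 n2602 = n3538 := rfl
theorem F5719 : act 1 n3538 = n2603 := d6_1 D3538 (iv D2603) D2602
theorem F5720 : act 2 n3151 = n3538 := d5_0 F5719 F4189 F3446 D2313 D3151
theorem F5721 : act 5 n2919 = n3538 := d8_0 F5719 (iv F4190) D2919
def n3539 : Q := act 5 n2602
theorem D3539 : act 5 n2602 = n3539 := rfl
theorem F5722 : act 0 n3539 = n2745 := d4_1 D3539 F5718 (iv D3537)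
theorem F5723 : act 1 n3539 = n2604 := d8_1 D3539 (iv D2604) D2602
theorem F5724 : act 2 n3539 = n2632 := d11_1 D3539 (iv D2632) (iv F4187)
theorem F5725 : act 3 n3539 = n2919 := d13_1 D3539 F5721 (iv D3538)
def n3540 : Q := act 4 n2603
theorem D3540 : act 4 n2603 = n3540 := rfl
theorem F5726 : act 0 n3540 = n2613 := d3_1 D3540 (iv D2613) (iv F4188)
theorem F5727 : act 2 n3540 = n2922 := d10_1 D3540 (iv D2922) (iv F4189)
def n3541 : Q := act 4 n2604
theorem D3541 : act 4 n2604 = n3541 := rfl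
theorem F5728 : act 0 n3541 = n2615 := d3_1 D3541 (iv D2615) (iv F4191)
theorem F5729 : act 2 n3541 = n2605 := d10_1 D3541 (iv D2605) (iv F4192)
def n3542 : Q := act 0 n2606
theorem D3542 : act 0 n2606 = n3542 := rfl
theorem F5730 : act 2 n3542 = n2620 := d1_2 (iv F4197) D3542 (iv D2620)
theorem F5731 : act 4 n3542 = n2610 := d3_2 (iv F4198) D3542 (iv D2610)
def n3543 : Q := act 3 n2606
theorem D3543 : act 3 n2606 = n3543 := rfl
theorem F5732 : act 1 n3543 = n2607 := d6_1 D3543 (iv D2607) D2606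
def n3544 : Q := act 5 n2606
theorem D3544 : act 5 n2606 = n3544 := rfl
theorem F5733 : act 1 n3544 = n2608 := d8_1 D3544 (iv D2608) D2606
theorem F5734 : act 2 n3544 = n2622 := d11_1 D3544 (iv D2622) (iv F4197)
theorem F5735 : act 4 n3544 = n2753 := d14_1 D3544 (iv D2753) (iv D2006) F3083 (iv F4198)
def n3545 : Q := act 2 n2607
theorem D3545 : act 2 n2607 = n3545 := rfl
theorem F5736 : act 3 n3545 = n2608 := d15_3 D1899 D2607 D3545 F4199 F3081 (iv F2465) (iv F3373) (iv D2078) F2460
theorem F5737 : act 5 n2607 = n3545 := d13_0 F5736 (iv D2608) D2607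
def n3546 : Q := act 4 n2607
theorem D3546 : act 4 n2607 = n3546 := rfl
theorem F5738 : act 3 n3546 = n2613 := d12_1 D3546 (iv D2613) (iv D1902) (iv F3079) D2607
def n3547 : Q := act 4 n2608
theorem D3547 : act 4 n2608 = n3547 := rfl
theorem F5739 : act 1 n3547 = n2753 := d7_1 D3547 (iv F5735) F5733
theorem F5740 : act 2 n3547 = n2609 := d10_1 D3547 (iv D2609) (iv F4199)
theorem F5741 : act 5 n3547 = n2615 := d14_2 D2608 D3547 (iv D2615) (iv D1903) (iv F3079)
def n3548 : Q := act 4 n2611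
theorem D3548 : act 4 n2611 = n3548 := rfl
theorem F5742 : act 1 n3548 = n2613 := d7_1 D3548 (iv D2613) (iv F4204)
def n3549 : Q := act 1 n2612
theorem D3549 : act 1 n2612 = n3549 := rfl
theorem F5743 : act 0 n3549 = n3145 := d0_1 D3549 F5152 F3770 (iv F3446) (iv F4206)
theorem F5744 : act 3 n3549 = n2906 := d6_2 (iv F4207) D3549 F4705
theorem F5745 : act 5 n3549 = n2905 := d8_2 F4208 D3549 F4703
def n3550 : Q := act 4 n2612
theorem D3550 : act 4 n2612 = n3550 := rfl
theorem F5746 : act 0 n3550 = n2922 := d3_1 D3550 (iv D2922) (iv F4206)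
theorem F5747 : act 2 n3550 = n2613 := d10_1 D3550 (iv D2613) D2612
def n3551 : Q := act 5 n2613
theorem D3551 : act 5 n2613 = n3551 := rfl
def n3552 : Q := act 4 n2614
theorem D3552 : act 4 n2614 = n3552 := rfl
theorem F5748 : act 0 n3552 = n2920 := d3_1 D3552 (iv D2920) (iv F4209)
theorem F5749 : act 1 n3552 = n2751 := d7_1 D3552 (iv D2751) (iv F4210)
theorem F5750 : act 2 n3552 = n2907 := d10_1 D3552 (iv D2907) (iv F4211)
def n3553 : Q := act 3 n2615
theorem D3553 : act 3 n2615 = n3553 := rfl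
theorem F5751 : act 1 n3553 = n2752 := d6_1 D3553 (iv D2752) (iv F4213)
def n3554 : Q := act 2 n2616
theorem D3554 : act 2 n2616 = n3554 := rfl
theorem F5752 : act 0 n3554 = n2838 := d1_1 D3554 F4588 (iv F4215)
theorem F5753 : act 4 n3554 = n2617 := d10_2 (iv F4217) D3554 (iv D2617)
def n3555 : Q := act 1 n2617
theorem D3555 : act 1 n2617 = n3555 := rfl
theorem F5754 : act 2 n3555 = n2626 := d5_2 D2617 D3555 (iv D2626) (iv D1913) (iv F3088)
theorem F5755 : act 5 n3555 = n2618 := d8_2 (iv F4219) D3555 (iv D2618)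
def n3556 : Q := act 0 n2618
theorem D3556 : act 0 n2618 = n3556 := rfl
theorem F5756 : act 1 n3556 = n2833 := d0_2 D2618 D3556 (iv D2833) (iv D2064) (iv F3090)
theorem F5757 : act 2 n3556 = n2627 := d1_2 (iv F4220) D3556 (iv D2627)
def n3557 : Q := act 3 n2618
theorem D3557 : act 3 n2618 = n3557 := rfl
theorem F5758 : act 1 n3557 = n2619 := d6_1 D3557 (iv D2619) D2618
def n3558 : Q := act 4 n2619
theorem D3558 : act 4 n2619 = n3558 := rfl
theorem F5759 : act 0 n3558 = n2836 := d3_1 D3558 (iv D2836) (iv F4221)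
def n3559 : Q := act 3 n2620
theorem D3559 : act 3 n2620 = n3559 := rfl
theorem F5760 : act 0 n3559 = n2621 := d2_1 D3559 (iv D2621) D2620
theorem F5761 : act 1 n3559 = n2660 := d6_1 D3559 (iv D2660) (iv F4222)
theorem F5762 : act 4 n3559 = n2749 := d12_2 (iv F4223) D3559 (iv D2749) (iv D2004) (iv F3101)
def n3560 : Q := act 5 n2620
theorem D3560 : act 5 n2620 = n3560 := rfl
theorem F5763 : act 0 n3560 = n2622 := d4_1 D3560 (iv D2622) D2620
theorem F5764 : act 1 n3560 = n2661 := d8_1 D3560 (iv D2661) (iv F4222)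
theorem F5765 : act 4 n3560 = n2748 := d14_1 D3560 (iv D2748) (iv D2003) (iv F3102) (iv F4223)
def n3561 : Q := act 2 n2621
theorem D3561 : act 2 n2621 = n3561 := rfl
theorem F5766 : act 4 n3561 = n2754 := d10_2 (iv F4225) D3561 (iv D2754)
def n3562 : Q := act 5 n2621
theorem D3562 : act 5 n2621 = n3562 := rfl
theorem F5767 : act 1 n3562 = n2624 := d8_1 D3562 (iv D2624) (iv F4224)
theorem F5768 : act 3 n3562 = n2622 := d13_1 D3562 (iv D2622) D2621
def n3563 : Q := act 1 n2623
theorem D3563 : act 1 n2623 = n3563 := rfl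
theorem F5769 : act 3 n3563 = n2657 := d6_2 (iv F4229) D3563 F4283
theorem F5770 : act 4 n3563 = n2755 := d7_2 (iv F4230) D3563 (iv D2755)
theorem F5771 : act 5 n3563 = n2656 := d8_2 F4231 D3563 F4282
def n3564 : Q := act 4 n2624
theorem D3564 : act 4 n2624 = n3564 := rfl
theorem F5772 : act 0 n3564 = n2669 := d3_1 D3564 (iv D2669) (iv F4232)
theorem F5773 : act 2 n3564 = n2658 := d10_1 D3564 (iv D2658) (iv F4233)
theorem F5774 : act 3 n3564 = n2742 := d12_1 D3564 (iv D2742) F3257 (iv F3096) (iv F4234)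
theorem F5775 : act 5 n3564 = n2743 := d14_2 D2624 D3564 F4432 F3259 (iv F3093)
def n3565 : Q := act 1 n2625
theorem D3565 : act 1 n2625 = n3565 := rfl
theorem F5776 : act 4 n3565 = n2626 := d7_2 (iv F4236) D3565 (iv D2626)
def n3566 : Q := act 3 n2625
theorem D3566 : act 3 n2625 = n3566 := rfl
theorem F5777 : act 0 n3566 = n2684 := d2_1 D3566 (iv D2684) (iv F4235)
theorem F5778 : act 4 n3566 = n2692 := d12_2 (iv F4236) D3566 (iv D2692) (iv D1962) (iv F3106)
theorem F5779 : act 2 n3251 = n3566 := d10_3 F5778 F4338 D3251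
def n3567 : Q := act 0 n2626
theorem D3567 : act 0 n2626 = n3567 := rfl
theorem F5780 : act 1 n3567 = n2685 := d0_2 D2626 D3567 (iv D2685) (iv D1957) (iv F3105)
theorem F5781 : act 3 n3567 = n2690 := d2_2 (iv F4237) D3567 (iv D2690)
theorem F5782 : act 5 n3567 = n2627 := d4_2 (iv F4238) D3567 (iv D2627)
def n3568 : Q := act 1 n2628
theorem D3568 : act 1 n2628 = n3568 := rfl
theorem F5783 : act 2 n3568 = n2629 := d5_2 D2628 D3568 (iv D2629) (iv D1916) (iv F3108)
theorem F5784 : act 5 n3568 = n2687 := d8_2 F5249 D3568 (iv F5248)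
def n3569 : Q := act 3 n2628
theorem D3569 : act 3 n2628 = n3569 := rfl
def n3570 : Q := act 0 n2629
theorem D3570 : act 0 n2629 = n3570 := rfl
theorem F5785 : act 1 n3570 = n2690 := d0_2 D2629 D3570 (iv D2690) (iv D1961) (iv F3109)
theorem F5786 : act 3 n3570 = n2685 := d2_2 (iv F4240) D3570 (iv D2685)
theorem F5787 : act 5 n3570 = n2686 := d4_2 (iv F4241) D3570 F4335
def n3571 : Q := act 3 n2630
theorem D3571 : act 3 n2630 = n3571 := rfl
theorem F5788 : act 0 n3571 = n2631 := d2_1 D3571 (iv D2631) D2630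
theorem F5789 : act 1 n3571 = n2640 := d6_1 D3571 (iv D2640) (iv F4242)
theorem F5790 : act 2 n3258 = n3571 := d1_0 F5788 (iv F4244) D3258
theorem F5791 : act 5 n2704 = n3571 := d4_0 F5788 (iv F4245) D2704
def n3572 : Q := act 5 n2630
theorem D3572 : act 5 n2630 = n3572 := rfl
theorem F5792 : act 0 n3572 = n2632 := d4_1 D3572 (iv D2632) D2630
theorem F5793 : act 1 n3572 = n2641 := d8_1 D3572 (iv D2641) (iv F4242)
theorem F5794 : act 2 n3572 = n2745 := d11_1 D3572 F5718 F5717
theorem F5795 : act 3 n3572 = n2704 := d13_1 D3572 F5791 (iv D3571)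
def n3573 : Q := act 4 n2631
theorem D3573 : act 4 n2631 = n3573 := rfl
theorem F5796 : act 1 n3573 = n2633 := d7_1 D3573 (iv D2633) (iv F4243)
theorem F5797 : act 2 n3573 = n3259 := d10_1 D3573 (iv D3259) F4244
def n3574 : Q := act 4 n2632
theorem D3574 : act 4 n2632 = n3574 := rfl
theorem F5798 : act 1 n3574 = n2634 := d7_1 D3574 (iv D2634) (iv F4246)
def n3575 : Q := act 5 n2633
theorem D3575 : act 5 n2633 = n3575 := rfl
theorem F5799 : act 0 n3575 = n2648 := d4_1 D3575 (iv D2648) (iv F4248)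
theorem F5800 : act 2 n3575 = n2708 := d11_1 D3575 F4370 (iv F4249)
theorem F5801 : act 4 n3575 = n2707 := d14_1 D3575 (iv D2707) (iv D1973) F3114 D2633
def n3576 : Q := act 3 n2634
theorem D3576 : act 3 n2634 = n3576 := rfl
theorem F5802 : act 0 n3576 = n2650 := d2_1 D3576 (iv D2650) (iv F4250)
theorem F5803 : act 4 n3576 = n2706 := d12_2 D2634 D3576 (iv D2706) (iv D1973) (iv F3117)
def n3577 : Q := act 3 n2635
theorem D3577 : act 3 n2635 = n3577 := rfl
theorem F5804 : act 0 n3577 = n2636 := d2_1 D3577 (iv D2636) D2635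
def n3578 : Q := act 5 n2635
theorem D3578 : act 5 n2635 = n3578 := rfl
theorem F5805 : act 0 n3578 = n2637 := d4_1 D3578 (iv D2637) D2635
theorem F5806 : act 2 n3578 = n2661 := d11_1 D3578 (iv D2661) (iv F4252)
def n3579 : Q := act 2 n2636
theorem D3579 : act 2 n2636 = n3579 := rfl
def n3580 : Q := act 4 n2636
theorem D3580 : act 4 n2636 = n3580 := rfl
theorem F5807 : act 1 n3580 = n2638 := d7_1 D3580 (iv D2638) (iv F4254)
theorem F5808 : act 3 n3580 = n2643 := d12_1 D3580 (iv D2643) (iv D1926) (iv F3121) D2636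
def n3581 : Q := act 4 n2637
theorem D3581 : act 4 n2637 = n3581 := rfl
theorem F5809 : act 1 n3581 = n2639 := d7_1 D3581 (iv D2639) (iv F4255)
theorem F5810 : act 2 n3581 = n2665 := d10_1 D3581 (iv D2665) (iv F4256)
theorem F5811 : act 5 n3581 = n2645 := d14_2 D2637 D3581 (iv D2645) (iv D1927) (iv F3121)
def n3582 : Q := act 5 n2638
theorem D3582 : act 5 n2638 = n3582 := rfl
theorem F5812 : act 3 n3582 = n2648 := d13_1 D3582 (iv D2648) (iv F4257)
def n3583 : Q := act 3 n2639
theorem D3583 : act 3 n2639 = n3583 := rfl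
theorem F5813 : act 5 n3583 = n2650 := d13_2 (iv F4259) D3583 (iv D2650)
def n3584 : Q := act 2 n2640
theorem D3584 : act 2 n2640 = n3584 := rfl
theorem F5814 : act 0 n3584 = n2642 := d1_1 D3584 (iv D2642) (iv F4260)
theorem F5815 : act 3 n3584 = n2712 := d15_1 D3584 (iv D2712) (iv D1978) F2337 (iv F2306) (iv F3129) (iv F4265) (iv D2644) (iv F4260)
def n3585 : Q := act 4 n2640
theorem D3585 : act 4 n2640 = n3585 := rfl
theorem F5816 : act 0 n3585 = n2643 := d3_1 D3585 (iv D2643) (iv F4260)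
def n3586 : Q := act 5 n2640
theorem D3586 : act 5 n2640 = n3586 := rfl
theorem F5817 : act 0 n3586 = n2644 := d4_1 D3586 (iv D2644) (iv F4260)
theorem F5818 : act 1 n3586 = n2704 := d8_1 D3586 F5791 F5789
theorem F5819 : act 3 n3586 = n2641 := d13_1 D3586 (iv D2641) D2640
def n3587 : Q := act 4 n2641
theorem D3587 : act 4 n2641 = n3587 := rfl
theorem F5820 : act 0 n3587 = n2645 := d3_1 D3587 (iv D2645) (iv F4261)
theorem F5821 : act 2 n3587 = n2678 := d10_1 D3587 (iv D2678) (iv F4262)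
def n3588 : Q := act 1 n2642
theorem D3588 : act 1 n2642 = n3588 := rfl
theorem F5822 : act 2 n3588 = n2646 := d5_2 D2642 D3588 (iv D2646) (iv D1928) (iv F3127)
theorem F5823 : act 0 n3255 = n3588 := d1_3 F5822 F4268 D3255
theorem F5824 : act 5 n2695 = n3588 := d11_0 F5822 F4270 D2695
def n3589 : Q := act 3 n2642
theorem D3589 : act 3 n2642 = n3589 := rfl
theorem F5825 : act 0 n3589 = n2712 := d2_1 D3589 (iv F5815) F5814
theorem F5826 : act 2 n3589 = n2711 := d15_2 D2642 D3589 (iv D2711) F3214 (iv F3170) (iv F4262) (iv F5819) (iv D3586) F4260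
def n3590 : Q := act 4 n2642
theorem D3590 : act 4 n2642 = n3590 := rfl
theorem F5827 : act 2 n3590 = n2643 := d10_1 D3590 (iv D2643) D2642
def n3591 : Q := act 5 n2642
theorem D3591 : act 5 n2642 = n3591 := rfl
theorem F5828 : act 1 n3591 = n2695 := d8_1 D3591 F5824 (iv D3588)
theorem F5829 : act 2 n3591 = n2644 := d11_1 D3591 (iv D2644) D2642
def n3592 : Q := act 5 n2643
theorem D3592 : act 5 n2643 = n3592 := rfl
theorem F5830 : act 1 n3592 = n2648 := d8_1 D3592 (iv D2648) (iv F4263)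
def n3593 : Q := act 4 n2644
theorem D3593 : act 4 n2644 = n3593 := rfl
theorem F5831 : act 1 n3593 = n2649 := d7_1 D3593 (iv D2649) (iv F4264)
def n3594 : Q := act 3 n2645
theorem D3594 : act 3 n2645 = n3594 := rfl
theorem F5832 : act 1 n3594 = n2650 := d6_1 D3594 (iv D2650) (iv F4266)
def n3595 : Q := act 4 n2646
theorem D3595 : act 4 n2646 = n3595 := rfl
theorem F5833 : act 0 n3595 = n3256 := d3_1 D3595 (iv D3256) (iv F4268)
theorem F5834 : act 1 n3595 = n2647 := d7_1 D3595 (iv D2647) D2646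
def n3596 : Q := act 3 n2647
theorem D3596 : act 3 n2647 = n3596 := rfl
theorem F5835 : act 0 n3596 = n2709 := d2_1 D3596 (iv D2709) (iv F4271)
theorem F5836 : act 4 n3596 = n2699 := d12_2 D2647 D3596 (iv D2699) (iv D1968) (iv F3131)
theorem F5837 : act 2 n2796 = n3596 := d10_3 F5836 F4355 D2796
def n3597 : Q := act 5 n2647
theorem D3597 : act 5 n2647 = n3597 := rfl
theorem F5838 : act 0 n3597 = n2708 := d4_1 D3597 F4370 (iv F4271)
theorem F5839 : act 2 n3597 = n2648 := d11_1 D3597 (iv D2648) (iv F4272)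
theorem F5840 : act 4 n3597 = n2698 := d14_1 D3597 (iv D2698) (iv D1967) F3132 D2647
def n3598 : Q := act 4 n2648
theorem D3598 : act 4 n2648 = n3598 := rfl
theorem F5841 : act 0 n3598 = n2707 := d3_1 D3598 (iv F5801) F5799
theorem F5842 : act 2 n3598 = n2698 := d10_1 D3598 (iv F5840) F5839
theorem F5843 : act 5 n3598 = n2649 := d14_2 D2648 D3598 (iv D2649) (iv D1930) D1929
def n3599 : Q := act 3 n2649
theorem D3599 : act 3 n2649 = n3599 := rfl
theorem F5844 : act 0 n3599 = n2706 := d2_1 D3599 (iv D2706) (iv F4273)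
theorem F5845 : act 4 n3599 = n2650 := d12_2 D2649 D3599 (iv D2650) (iv D1931) (iv F3135)
def n3600 : Q := act 2 n2650
theorem D3600 : act 2 n2650 = n3600 := rfl
def n3601 : Q := act 0 n2651
theorem D3601 : act 0 n2651 = n3601 := rfl
theorem F5846 : act 2 n3601 = n2655 := d1_2 (iv F4275) D3601 (iv D2655)
theorem F5847 : act 4 n3601 = n3556 := d3_2 (iv F4276) D3601 (iv D3556)
def n3602 : Q := act 3 n2651
theorem D3602 : act 3 n2651 = n3602 := rfl
theorem F5848 : act 1 n3602 = n2652 := d6_1 D3602 (iv D2652) D2651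
def n3603 : Q := act 5 n2651
theorem D3603 : act 5 n2651 = n3603 := rfl
theorem F5849 : act 1 n3603 = n2653 := d8_1 D3603 (iv D2653) D2651
theorem F5850 : act 2 n3603 = n2657 := d11_1 D3603 (iv D2657) (iv F4275)
def n3604 : Q := act 2 n2652
theorem D3604 : act 2 n2652 = n3604 := rfl
theorem F5851 : act 3 n3604 = n2653 := d15_3 D1932 D2652 D3604 F4277 F3139 (iv F2448) (iv F3352) (iv D2063) F2443
theorem F5852 : act 5 n2652 = n3604 := d13_0 F5851 (iv D2653) D2652
def n3605 : Q := act 4 n2652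
theorem D3605 : act 4 n2652 = n3605 := rfl
theorem F5853 : act 3 n3605 = n3558 := d12_1 D3605 (iv D3558) (iv D2619) (iv F3137) D2652
def n3606 : Q := act 4 n2653
theorem D3606 : act 4 n2653 = n3606 := rfl
theorem F5854 : act 2 n3606 = n2654 := d10_1 D3606 (iv D2654) (iv F4277)
theorem F5855 : act 5 n3606 = n3554 := d14_2 D2653 D3606 F5753 F4219 (iv F3137)
def n3607 : Q := act 3 n2655
theorem D3607 : act 3 n2655 = n3607 := rfl
theorem F5856 : act 0 n3607 = n2656 := d2_1 D3607 (iv D2656) D2655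
def n3608 : Q := act 5 n2655
theorem D3608 : act 5 n2655 = n3608 := rfl
theorem F5857 : act 0 n3608 = n2657 := d4_1 D3608 (iv D2657) D2655
def n3609 : Q := act 2 n2656
theorem D3609 : act 2 n2656 = n3609 := rfl
def n3610 : Q := act 4 n2656
theorem D3610 : act 4 n2656 = n3610 := rfl
theorem F5858 : act 1 n3610 = n2658 := d7_1 D3610 (iv D2658) (iv F4282)
theorem F5859 : act 3 n3610 = n3253 := d12_1 D3610 F5295 F3877 (iv F3140) D2656
def n3611 : Q := act 4 n2657
theorem D3611 : act 4 n2657 = n3611 := rfl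
theorem F5860 : act 1 n3611 = n2659 := d7_1 D3611 (iv D2659) (iv F4283)
theorem F5861 : act 5 n3611 = n3565 := d14_2 D2657 D3611 F5776 F4238 (iv F3140)
def n3612 : Q := act 5 n2658
theorem D3612 : act 5 n2658 = n3612 := rfl
theorem F5862 : act 2 n3612 = n2743 := d11_1 D3612 (iv F5775) F5773
theorem F5863 : act 3 n3612 = n3252 := d13_1 D3612 F5294 (iv F4284)
theorem F5864 : act 4 n3612 = n2744 := d14_1 D3612 F4433 (iv F4230) (iv F4231) D2658
def n3613 : Q := act 3 n2659
theorem D3613 : act 3 n2659 = n3613 := rfl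
theorem F5865 : act 4 n3613 = n2756 := d12_2 D2659 D3613 (iv D2756) (iv F4230) F4229
theorem F5866 : act 5 n3613 = n3566 := d13_2 (iv F4286) D3613 (iv D3566)
def n3614 : Q := act 2 n2660
theorem D3614 : act 2 n2660 = n3614 := rfl
theorem F5867 : act 0 n3614 = n2662 := d1_1 D3614 (iv D2662) (iv F4287)
def n3615 : Q := act 4 n2660
theorem D3615 : act 4 n2660 = n3615 := rfl
theorem F5868 : act 0 n3615 = n2663 := d3_1 D3615 (iv D2663) (iv F4287)
theorem F5869 : act 1 n3615 = n2749 := d7_1 D3615 (iv F5762) F5761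
theorem F5870 : act 3 n3615 = n2677 := d12_1 D3615 (iv D2677) (iv D1949) (iv F3144) D2660
def n3616 : Q := act 5 n2660
theorem D3616 : act 5 n2660 = n3616 := rfl
theorem F5871 : act 0 n3616 = n2664 := d4_1 D3616 (iv D2664) (iv F4287)
theorem F5872 : act 3 n3616 = n2661 := d13_1 D3616 (iv D2661) D2660
def n3617 : Q := act 4 n2661
theorem D3617 : act 4 n2661 = n3617 := rfl
theorem F5873 : act 0 n3617 = n2665 := d3_1 D3617 (iv D2665) (iv F4288)
theorem F5874 : act 1 n3617 = n2748 := d7_1 D3617 (iv F5765) F5764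
theorem F5875 : act 5 n3617 = n2678 := d14_2 D2661 D3617 (iv D2678) (iv D1950) (iv F3144)
def n3618 : Q := act 1 n2662
theorem D3618 : act 1 n2662 = n3618 := rfl
theorem F5876 : act 2 n3618 = n2666 := d5_2 D2662 D3618 (iv D2666) (iv D1941) (iv F3145)
def n3619 : Q := act 3 n2662
theorem D3619 : act 3 n2662 = n3619 := rfl
def n3620 : Q := act 4 n2662
theorem D3620 : act 4 n2662 = n3620 := rfl
theorem F5877 : act 2 n3620 = n2663 := d10_1 D3620 (iv D2663) D2662
def n3621 : Q := act 5 n2662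
theorem D3621 : act 5 n2662 = n3621 := rfl
theorem F5878 : act 2 n3621 = n2664 := d11_1 D3621 (iv D2664) D2662
def n3622 : Q := act 5 n2663
theorem D3622 : act 5 n2663 = n3622 := rfl
theorem F5879 : act 1 n3622 = n2668 := d8_1 D3622 (iv D2668) (iv F4289)
theorem F5880 : act 3 n3622 = n2680 := d13_1 D3622 F4326 (iv F4290)
def n3623 : Q := act 4 n2664
theorem D3623 : act 4 n2664 = n3623 := rfl
theorem F5881 : act 1 n3623 = n2669 := d7_1 D3623 (iv D2669) (iv F4291)
def n3624 : Q := act 3 n2665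
theorem D3624 : act 3 n2665 = n3624 := rfl
theorem F5882 : act 1 n3624 = n2670 := d6_1 D3624 (iv D2670) (iv F4293)
theorem F5883 : act 5 n3624 = n2681 := d13_2 (iv F4294) D3624 (iv D2681)
def n3625 : Q := act 0 n2666
theorem D3625 : act 0 n2666 = n3625 := rfl
def n3626 : Q := act 4 n2666
theorem D3626 : act 4 n2666 = n3626 := rfl
theorem F5884 : act 1 n3626 = n2667 := d7_1 D3626 (iv D2667) D2666
def n3627 : Q := act 4 n2668
theorem D3627 : act 4 n2668 = n3627 := rfl
theorem F5885 : act 0 n3627 = n2743 := d3_1 D3627 F4432 (iv F4297)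
theorem F5886 : act 3 n3627 = n2714 := d12_1 D3627 (iv D2714) F3222 (iv F3177) (iv F4298)
theorem F5887 : act 5 n3627 = n2669 := d14_2 D2668 D3627 (iv D2669) (iv D1943) D1942
def n3628 : Q := act 3 n2669
theorem D3628 : act 3 n2669 = n3628 := rfl
theorem F5888 : act 0 n3628 = n2742 := d2_1 D3628 (iv F5774) F5772
theorem F5889 : act 2 n3628 = n2725 := d9_1 D3628 F4404 F3736 D2387 D3252 (iv F5863) F5862 (iv D2743) F3258 F2681 (iv F2744) D2303 (iv F3761) (iv F4314) F4313
theorem F5890 : act 4 n3628 = n2670 := d12_2 D2669 D3628 (iv D2670) (iv D1944) (iv F3149)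
theorem F5891 : act 5 n3628 = n2714 := d13_2 F5887 D3628 (iv F5886)
def n3629 : Q := act 2 n2670
theorem D3629 : act 2 n2670 = n3629 := rfl
theorem F5892 : act 0 n3629 = n2741 := d1_1 D3629 F4428 (iv F4299)
theorem F5893 : act 4 n3629 = n2725 := d10_2 F5890 D3629 (iv F5889)
theorem F5894 : act 5 n3629 = n2682 := d11_2 (iv F4300) D3629 (iv D2682)
theorem F5895 : act 3 n3629 = n3251 := d15_1 D3629 F5779 (iv D3566) (iv D2625) (iv D1912) F2272 (iv F2366) D1999 (iv F4299)
def n3630 : Q := act 1 n2671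
theorem D3630 : act 1 n2671 = n3630 := rfl
theorem F5896 : act 2 n3630 = n2863 := d5_2 D2671 D3630 F4630 F3389 (iv F3154)
theorem F5897 : act 4 n3630 = n2672 := d7_2 (iv F4302) D3630 (iv D2672)
theorem F5898 : act 5 n3630 = n2683 := d8_2 (iv F4303) D3630 (iv D2683)
def n3631 : Q := act 3 n2671
theorem D3631 : act 3 n2671 = n3631 := rfl
theorem F5899 : act 0 n3631 = n3613 := d2_1 D3631 (iv D3613) (iv F4301)
theorem F5900 : act 2 n3631 = n2740 := d9_1 D3631 (iv D2740) F3256 F2366 (iv F2272) D1912 D2625 D3566 (iv F5779) (iv F5895) (iv D3629) (iv D2670) F3151 D1945 D2671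
theorem F5901 : act 4 n3631 = n3078 := d12_2 (iv F4302) D3631 F5017 (iv D2667) (iv F3159)
theorem F5902 : act 5 n3631 = n2684 := d13_2 (iv F4303) D3631 (iv D2684)
def n3632 : Q := act 0 n2672
theorem D3632 : act 0 n2672 = n3632 := rfl
theorem F5903 : act 1 n3632 = n3608 := d0_2 D2672 D3632 F5857 F4283 (iv F3157)
theorem F5904 : act 2 n3632 = n2859 := d1_2 (iv F4304) D3632 F4625
theorem F5905 : act 3 n3632 = n3625 := d2_2 (iv F4305) D3632 (iv D3625)
theorem F5906 : act 5 n3632 = n2673 := d4_2 (iv F4306) D3632 (iv D2673)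
def n3633 : Q := act 3 n2673
theorem D3633 : act 3 n2673 = n3633 := rfl
theorem F5907 : act 0 n3633 = n2674 := d2_1 D3633 (iv D2674) D2673
theorem F5908 : act 1 n3633 = n3607 := d6_1 D3633 (iv D3607) (iv F4307)
theorem F5909 : act 5 n3633 = n3625 := d13_2 F5906 D3633 (iv F5905)
def n3634 : Q := act 2 n2674
theorem D3634 : act 2 n2674 = n3634 := rfl
theorem F5910 : act 1 n3634 = n3621 := d5_1 D3634 F5878 F4291 (iv F3164) (iv F4310)
theorem F5911 : act 5 n3634 = n3618 := d11_2 (iv F4311) D3634 F5876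
def n3635 : Q := act 4 n2674
theorem D3635 : act 4 n2674 = n3635 := rfl
theorem F5912 : act 1 n3635 = n2675 := d7_1 D3635 (iv D2675) (iv F4310)
theorem F5913 : act 3 n3635 = n2688 := d12_1 D3635 (iv D2688) (iv D1959) (iv F3161) D2674
def n3636 : Q := act 5 n2675
theorem D3636 : act 5 n2675 = n3636 := rfl
theorem F5914 : act 0 n3636 = n3612 := d4_1 D3636 (iv D3612) (iv F4312)
theorem F5915 : act 2 n3636 = n3627 := d11_1 D3636 F5887 (iv F4313)
theorem F5916 : act 3 n3636 = n2689 := d13_1 D3636 (iv D2689) (iv F4314)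
theorem F5917 : act 4 n3636 = n3144 := d14_1 D3636 F5151 (iv D2667) (iv F3163) D2675
def n3637 : Q := act 3 n2676
theorem D3637 : act 3 n2676 = n3637 := rfl
theorem F5918 : act 0 n3637 = n2679 := d2_1 D3637 (iv D2679) (iv F4315)
theorem F5919 : act 1 n3637 = n2729 := d6_1 D3637 F4411 (iv F4316)
theorem F5920 : act 5 n3637 = n2711 := d13_2 (iv F4317) D3637 (iv D2711)
def n3638 : Q := act 4 n2676
theorem D3638 : act 4 n2676 = n3638 := rfl
theorem F5921 : act 0 n3638 = n2680 := d3_1 D3638 (iv D2680) (iv F4315)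
theorem F5922 : act 1 n3638 = n2730 := d7_1 D3638 (iv D2730) (iv F4316)
theorem F5923 : act 2 n3638 = n2677 := d10_1 D3638 (iv D2677) D2676
theorem F5924 : act 5 n3638 = n2677 := d14_2 (iv F4317) D3638 (iv D2677) (iv F3167) (iv F3215)
def n3639 : Q := act 3 n2678
theorem D3639 : act 3 n2678 = n3639 := rfl
theorem F5925 : act 0 n3639 = n2681 := d2_1 D3639 (iv D2681) (iv F4320)
theorem F5926 : act 1 n3639 = n2728 := d6_1 D3639 F4409 (iv F4321)
theorem F5927 : act 4 n3639 = n2711 := d12_2 D2678 D3639 (iv D2711) F3215 (iv F3170)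
def n3640 : Q := act 2 n2679
theorem D3640 : act 2 n2679 = n3640 := rfl
theorem F5928 : act 1 n3640 = n2722 := d5_1 D3640 (iv D2722) F3238 (iv F3221) (iv F4322)
theorem F5929 : act 5 n3640 = n2712 := d11_2 (iv F4323) D3640 (iv D2712)
def n3641 : Q := act 4 n2679
theorem D3641 : act 4 n2679 = n3641 := rfl
theorem F5930 : act 1 n3641 = n2714 := d7_1 D3641 (iv D2714) (iv F4322)
def n3642 : Q := act 2 n2681
theorem D3642 : act 2 n2681 = n3642 := rfl
theorem F5931 : act 4 n3642 = n2712 := d10_2 (iv F4328) D3642 (iv D2712)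
def n3643 : Q := act 1 n2682
theorem D3643 : act 1 n2682 = n3643 := rfl
theorem F5932 : act 4 n3643 = n2713 := d7_2 (iv F4330) D3643 (iv D2713)
def n3644 : Q := act 3 n2682
theorem D3644 : act 3 n2682 = n3644 := rfl
theorem F5933 : act 0 n3644 = n2740 := d2_1 D3644 (iv D2740) (iv F4329)
theorem F5934 : act 4 n3644 = n2726 := d12_2 (iv F4330) D3644 (iv D2726) (iv D1990) (iv F3218)
theorem F5935 : act 5 n3644 = n3251 := d13_2 F5894 D3644 (iv F5895)
theorem F5936 : act 2 n3644 = n3613 := d15_2 D2682 D3644 (iv D3613) F4285 F3142 F3098 (iv F3257) (iv D1999) (iv F3178)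
def n3645 : Q := act 0 n2683
theorem D3645 : act 0 n2683 = n3645 := rfl
theorem F5937 : act 2 n3645 = n2871 := d1_2 (iv F4331) D3645 F4640
theorem F5938 : act 4 n3645 = n2685 := d3_2 (iv F4332) D3645 (iv D2685)
def n3646 : Q := act 3 n2683
theorem D3646 : act 3 n2683 = n3646 := rfl
theorem F5939 : act 1 n3646 = n2684 := d6_1 D3646 (iv D2684) D2683
def n3647 : Q := act 2 n2684
theorem D3647 : act 2 n2684 = n3647 := rfl
theorem F5940 : act 0 n3647 = n3251 := d1_1 D3647 F5779 F5777
theorem F5941 : act 3 n3647 = n2741 := d9_2 D2684 D3647 F4428 F3257 (iv F3098) (iv F3142) (iv F4285) D3613 (iv F5936) (iv D3644) (iv D2682) (iv D1955) F2310 D1414 D1956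
theorem F5942 : act 4 n3647 = n3141 := d10_2 F4460 D3647 F5143
theorem F5943 : act 5 n3647 = n2740 := d11_2 F5902 D3647 (iv F5900)
def n3648 : Q := act 2 n2686
theorem D3648 : act 2 n2686 = n3648 := rfl
theorem F5944 : act 0 n3648 = n2687 := d1_1 D3648 (iv D2687) (iv F4335)
def n3649 : Q := act 4 n2686
theorem D3649 : act 4 n2686 = n3649 := rfl
theorem F5945 : act 0 n3649 = n2688 := d3_1 D3649 (iv D2688) (iv F4335)
def n3650 : Q := act 3 n2687
theorem D3650 : act 3 n2687 = n3650 := rfl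
def n3651 : Q := act 4 n2687
theorem D3651 : act 4 n2687 = n3651 := rfl
theorem F5946 : act 2 n3651 = n2688 := d10_1 D3651 (iv D2688) D2687
def n3652 : Q := act 5 n2688
theorem D3652 : act 5 n2688 = n3652 := rfl
theorem F5947 : act 1 n3652 = n2689 := d8_1 D3652 (iv D2689) (iv F4336)
def n3653 : Q := act 4 n2690
theorem D3653 : act 4 n2690 = n3653 := rfl
theorem F5948 : act 0 n3653 = n2691 := d3_1 D3653 (iv D2691) D2690
def n3654 : Q := act 3 n2691
theorem D3654 : act 3 n2691 = n3654 := rfl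
theorem F5949 : act 1 n3654 = n2692 := d6_1 D3654 (iv D2692) (iv F4337)
theorem F5950 : act 5 n3250 = n3654 := d8_0 F5949 (iv F4339) D3250
def n3655 : Q := act 5 n2691
theorem D3655 : act 5 n2691 = n3655 := rfl
theorem F5951 : act 1 n3655 = n2693 := d8_1 D3655 (iv D2693) (iv F4337)
theorem F5952 : act 3 n3655 = n3250 := d13_1 D3655 F5950 (iv D3654)
def n3656 : Q := act 2 n2694
theorem D3656 : act 2 n2694 = n3656 := rfl
theorem F5953 : act 0 n3656 = n2695 := d1_1 D3656 (iv D2695) (iv F4342)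
theorem F5954 : act 1 n3656 = n3231 := d5_1 D3656 (iv D3231) F3856 (iv F3202) (iv F4343)
theorem F5955 : act 5 n3656 = n3255 := d11_2 (iv F4344) D3656 (iv D3255)
def n3657 : Q := act 4 n2694
theorem D3657 : act 4 n2694 = n3657 := rfl
theorem F5956 : act 0 n3657 = n2696 := d3_1 D3657 (iv D2696) (iv F4342)
theorem F5957 : act 1 n3657 = n2700 := d7_1 D3657 (iv D2700) (iv F4343)
theorem F5958 : act 3 n3657 = n2845 := d12_1 D3657 (iv D2845) (iv D2073) (iv F3189) D2694
def n3658 : Q := act 3 n2695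
theorem D3658 : act 3 n2695 = n3658 := rfl
def n3659 : Q := act 4 n2695
theorem D3659 : act 4 n2695 = n3659 := rfl
theorem F5959 : act 2 n3659 = n2696 := d10_1 D3659 (iv D2696) D2695
def n3660 : Q := act 5 n2696
theorem D3660 : act 5 n2696 = n3660 := rfl
theorem F5960 : act 1 n3660 = n2698 := d8_1 D3660 (iv D2698) (iv F4345)
theorem F5961 : act 3 n3660 = n2848 := d13_1 D3660 (iv D2848) (iv F4346)
def n3661 : Q := act 3 n2697
theorem D3661 : act 3 n2697 = n3661 := rfl
theorem F5962 : act 0 n3661 = n3070 := d2_1 D3661 (iv D3070) (iv F4347)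
theorem F5963 : act 1 n3661 = n2699 := d6_1 D3661 (iv D2699) (iv F4348)
theorem F5964 : act 5 n3661 = n2787 := d13_2 (iv F4350) D3661 (iv D2787)
def n3662 : Q := act 5 n2700
theorem D3662 : act 5 n2700 = n3662 := rfl
theorem F5965 : act 0 n3662 = n2703 := d4_1 D3662 (iv D2703) (iv F4356)
theorem F5966 : act 2 n3662 = n3236 := d11_1 D3662 (iv D3236) (iv F4357)
theorem F5967 : act 3 n3662 = n2879 := d13_1 D3662 (iv D2879) (iv F4358)
theorem F5968 : act 4 n3662 = n3257 := d14_1 D3662 (iv D3257) (iv D2391) (iv F3201) D2700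
def n3663 : Q := act 0 n2701
theorem D3663 : act 0 n2701 = n3663 := rfl
theorem F5969 : act 1 n3663 = n3229 := d0_2 D2701 D3663 F5266 F3856 (iv F3203)
theorem F5970 : act 2 n3663 = n2704 := d1_2 (iv F4359) D3663 (iv D2704)
theorem F5971 : act 3 n3663 = n3220 := d2_2 (iv F4360) D3663 (iv D3220)
theorem F5972 : act 5 n3663 = n3258 := d4_2 (iv F4361) D3663 (iv D3258)
def n3664 : Q := act 4 n2701
theorem D3664 : act 4 n2701 = n3664 := rfl
theorem F5973 : act 1 n3664 = n2702 := d7_1 D3664 (iv D2702) D2701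
theorem F5974 : act 2 n3664 = n2705 := d10_1 D3664 (iv D2705) (iv F4359)
def n3665 : Q := act 3 n2702
theorem D3665 : act 3 n2702 = n3665 := rfl
theorem F5975 : act 0 n3665 = n3235 := d2_1 D3665 (iv D3235) (iv F4362)
theorem F5976 : act 4 n3665 = n3223 := d12_2 D2702 D3665 (iv D3223) (iv D2366) (iv F3205)
def n3666 : Q := act 5 n2702
theorem D3666 : act 5 n2702 = n3666 := rfl
theorem F5977 : act 0 n3666 = n3236 := d4_1 D3666 (iv D3236) (iv F4362)
theorem F5978 : act 2 n3666 = n2703 := d11_1 D3666 (iv D2703) (iv F4363)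
theorem F5979 : act 4 n3666 = n3261 := d14_1 D3666 (iv D3261) (iv D2393) (iv F3204) D2702
def n3667 : Q := act 4 n2704
theorem D3667 : act 4 n2704 = n3667 := rfl
theorem F5980 : act 0 n3667 = n2705 := d3_1 D3667 (iv D2705) D2704
def n3668 : Q := act 3 n2705
theorem D3668 : act 3 n2705 = n3668 := rfl
theorem F5981 : act 1 n3668 = n2706 := d6_1 D3668 (iv D2706) (iv F4367)
def n3669 : Q := act 5 n2705
theorem D3669 : act 5 n2705 = n3669 := rfl
theorem F5982 : act 1 n3669 = n2707 := d8_1 D3669 (iv D2707) (iv F4367)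
def n3670 : Q := act 2 n2706
theorem D3670 : act 2 n2706 = n3670 := rfl
def n3671 : Q := act 5 n2706
theorem D3671 : act 5 n2706 = n3671 := rfl
theorem F5983 : act 3 n3671 = n2707 := d13_1 D3671 (iv D2707) D2706
def n3672 : Q := act 3 n2708
theorem D3672 : act 3 n2708 = n3672 := rfl
theorem F5984 : act 1 n3672 = n3074 := d6_1 D3672 F5009 (iv F4369)
theorem F5985 : act 4 n3672 = n2823 := d12_2 D2708 D3672 F4563 F3347 (iv F3209)
theorem F5986 : act 5 n3672 = n2709 := d13_2 (iv F4370) D3672 (iv D2709)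
def n3673 : Q := act 2 n2709
theorem D3673 : act 2 n2709 = n3673 := rfl
theorem F5987 : act 0 n3673 = n2796 := d1_1 D3673 F5837 F5835
theorem F5988 : act 4 n3673 = n2710 := d10_2 (iv F4372) D3673 (iv D2710)
def n3674 : Q := act 1 n2710
theorem D3674 : act 1 n2710 = n3674 := rfl
theorem F5989 : act 2 n3674 = n3072 := d5_2 D2710 D3674 (iv D3072) (iv D2248) (iv F3211)
theorem F5990 : act 3 n3674 = n2785 := d6_2 (iv F4375) D3674 (iv D2785)
theorem F5991 : act 5 n3674 = n2821 := d8_2 (iv F4374) D3674 (iv D2821)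
def n3675 : Q := act 1 n2712
theorem D3675 : act 1 n2712 = n3675 := rfl
theorem F5992 : act 2 n3675 = n2713 := d5_2 D2712 D3675 (iv D2713) (iv D1979) (iv F3216)
theorem F5993 : act 5 n3675 = n2722 := d8_2 F5929 D3675 (iv F5928)
def n3676 : Q := act 0 n2713
theorem D3676 : act 0 n2713 = n3676 := rfl
theorem F5994 : act 1 n3676 = n2738 := d0_2 D2713 D3676 (iv D2738) (iv D1997) (iv F3217)
theorem F5995 : act 3 n3676 = n2721 := d2_2 (iv F4378) D3676 F4395
theorem F5996 : act 5 n3676 = n2720 := d4_2 (iv F4379) D3676 F4393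
def n3677 : Q := act 3 n2715
theorem D3677 : act 3 n2715 = n3677 := rfl
theorem F5997 : act 0 n3677 = n2718 := d2_1 D3677 (iv D2718) (iv F4382)
theorem F5998 : act 1 n3677 = n2999 := d6_1 D3677 F4879 (iv F4383)
theorem F5999 : act 4 n3677 = n2996 := d12_2 D2715 D3677 (iv D2996) F3544 (iv F3225)
def n3678 : Q := act 5 n2715
theorem D3678 : act 5 n2715 = n3678 := rfl
theorem F6000 : act 0 n3678 = n2719 := d4_1 D3678 (iv D2719) (iv F4382)
theorem F6001 : act 1 n3678 = n3286 := d8_1 D3678 (iv D3286) (iv F4383)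
theorem F6002 : act 2 n3678 = n2716 := d11_1 D3678 (iv D2716) (iv F4384)
def n3679 : Q := act 3 n2717
theorem D3679 : act 3 n2717 = n3679 := rfl
theorem F6003 : act 0 n3679 = n2996 := d2_1 D3679 (iv D2996) (iv F4387)
theorem F6004 : act 1 n3679 = n3045 := d6_1 D3679 (iv D3045) (iv F4388)
theorem F6005 : act 4 n3679 = n2718 := d12_2 D2717 D3679 (iv D2718) (iv D1984) D1983
def n3680 : Q := act 5 n2717
theorem D3680 : act 5 n2717 = n3680 := rfl
theorem F6006 : act 0 n3680 = n2997 := d4_1 D3680 (iv D2997) (iv F4387)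
theorem F6007 : act 1 n3680 = n3046 := d8_1 D3680 (iv D3046) (iv F4388)
theorem F6008 : act 2 n3680 = n3003 := d11_1 D3680 (iv D3003) (iv F4389)
theorem F6009 : act 4 n3680 = n3196 := d14_1 D3680 (iv D3196) (iv D2346) (iv F3230) D2717
def n3681 : Q := act 2 n2718
theorem D3681 : act 2 n2718 = n3681 := rfl
def n3682 : Q := act 5 n2718
theorem D3682 : act 5 n2718 = n3682 := rfl
theorem F6010 : act 1 n3682 = n3279 := d8_1 D3682 (iv D3279) (iv F4390)
theorem F6011 : act 3 n3682 = n2719 := d13_1 D3682 (iv D2719) D2718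
def n3683 : Q := act 2 n2720
theorem D3683 : act 2 n2720 = n3683 := rfl
theorem F6012 : act 0 n3683 = n2722 := d1_1 D3683 (iv D2722) (iv F4393)
theorem F6013 : act 3 n3683 = n3231 := d15_1 D3683 (iv D3231) (iv D2372) F2819 (iv F2728) (iv F3240) (iv F4378) F4379 (iv F4393)
def n3684 : Q := act 4 n2720
theorem D3684 : act 4 n2720 = n3684 := rfl
theorem F6014 : act 0 n3684 = n2723 := d3_1 D3684 (iv D2723) (iv F4393)
theorem F6015 : act 1 n3684 = n3075 := d7_1 D3684 (iv D3075) (iv F4394)
theorem F6016 : act 3 n3684 = n3114 := d12_1 D3684 (iv D3114) (iv D2283) (iv F3237) D2720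
def n3685 : Q := act 4 n2721
theorem D3685 : act 4 n2721 = n3685 := rfl
theorem F6017 : act 0 n3685 = n2724 := d3_1 D3685 (iv D2724) (iv F4395)
theorem F6018 : act 1 n3685 = n3023 := d7_1 D3685 (iv D3023) (iv F4396)
theorem F6019 : act 2 n3685 = n3115 := d10_1 D3685 (iv D3115) (iv F4397)
theorem F6020 : act 5 n3685 = n3115 := d14_2 D2721 D3685 (iv D3115) (iv D2284) (iv F3237)
def n3686 : Q := act 3 n2722
theorem D3686 : act 3 n2722 = n3686 := rfl
theorem F6021 : act 0 n3686 = n3231 := d2_1 D3686 (iv F6013) F6012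
theorem F6022 : act 2 n3686 = n3229 := d15_2 D2722 D3686 (iv D3229) F3855 (iv F3730) (iv F4397) (iv F5995) F5996 F4393
def n3687 : Q := act 4 n2722
theorem D3687 : act 4 n2722 = n3687 := rfl
theorem F6023 : act 2 n3687 = n2723 := d10_1 D3687 (iv D2723) D2722
def n3688 : Q := act 5 n2723
theorem D3688 : act 5 n2723 = n3688 := rfl
theorem F6024 : act 1 n3688 = n2725 := d8_1 D3688 (iv D2725) (iv F4398)
theorem F6025 : act 3 n3688 = n3118 := d13_1 D3688 (iv D3118) (iv F4399)
def n3689 : Q := act 3 n2724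
theorem D3689 : act 3 n2724 = n3689 := rfl
theorem F6026 : act 1 n3689 = n2726 := d6_1 D3689 (iv D2726) (iv F4400)
theorem F6027 : act 5 n3689 = n3119 := d13_2 (iv F4402) D3689 (iv D3119)
def n3690 : Q := act 1 n2727
theorem D3690 : act 1 n2727 = n3690 := rfl
theorem F6028 : act 3 n3690 = n3051 := d6_2 F5199 D3690 (iv F5198)
theorem F6029 : act 0 n3053 = n3690 := d2_3 F6028 F4988 D3053
def n3691 : Q := act 4 n2727
theorem D3691 : act 4 n2727 = n3691 := rfl
theorem F6030 : act 0 n3691 = n2733 := d3_1 D3691 (iv D2733) (iv F4407)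
theorem F6031 : act 2 n3691 = n2728 := d10_1 D3691 (iv D2728) D2727
def n3692 : Q := act 5 n2727
theorem D3692 : act 5 n2727 = n3692 := rfl
theorem F6032 : act 0 n3692 = n2734 := d4_1 D3692 (iv D2734) (iv F4407)
theorem F6033 : act 2 n3692 = n2729 := d11_1 D3692 (iv D2729) D2727
def n3693 : Q := act 5 n2728
theorem D3693 : act 5 n2728 = n3693 := rfl
theorem F6034 : act 0 n3693 = n2735 := d4_1 D3693 (iv D2735) (iv F4408)
theorem F6035 : act 3 n3693 = n2748 := d13_1 D3693 (iv D2748) (iv F4409)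
def n3694 : Q := act 4 n2729
theorem D3694 : act 4 n2729 = n3694 := rfl
theorem F6036 : act 0 n3694 = n2736 := d3_1 D3694 (iv D2736) (iv F4410)
def n3695 : Q := act 3 n2730
theorem D3695 : act 3 n2730 = n3695 := rfl
theorem F6037 : act 0 n3695 = n2737 := d2_1 D3695 (iv D2737) (iv F4412)
theorem F6038 : act 5 n3695 = n2749 := d13_2 (iv F4413) D3695 (iv D2749)
def n3696 : Q := act 0 n2731
theorem D3696 : act 0 n2731 = n3696 := rfl
theorem F6039 : act 1 n3696 = n3053 := d0_2 D2731 D3696 F6029 (iv D3690) F4407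
theorem F6040 : act 2 n3696 = n2738 := d1_2 (iv F4414) D3696 (iv D2738)
theorem F6041 : act 5 n3696 = n2984 := d4_2 F4415 D3696 F4853
theorem F6042 : act 3 n2986 = n3696 := d13_3 F6041 (iv D2984) D2986
def n3697 : Q := act 3 n2731
theorem D3697 : act 3 n2731 = n3697 := rfl
theorem F6043 : act 0 n3697 = n2986 := d2_1 D3697 F6042 (iv D3696)
theorem F6044 : act 1 n3697 = n2732 := d6_1 D3697 (iv D2732) D2731
theorem F6045 : act 2 n3697 = n2981 := d9_1 D3697 F4848 F3531 F2628 (iv F2678) D2250 (iv F4854) (iv D2984) (iv D2173) (iv D1572) F1867 D1144 D1597 (iv F3254) (iv F4414)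
theorem F6046 : act 5 n3697 = n2979 := d13_2 F4415 D3697 F4844
def n3698 : Q := act 4 n2731
theorem D3698 : act 4 n2731 = n3698 := rfl
theorem F6047 : act 1 n3698 = n2733 := d7_1 D3698 (iv D2733) D2731
theorem F6048 : act 2 n3698 = n2739 := d10_1 D3698 (iv D2739) (iv F4414)
def n3699 : Q := act 4 n2732
theorem D3699 : act 4 n2732 = n3699 := rfl
def n3700 : Q := act 5 n2732
theorem D3700 : act 5 n2732 = n3700 := rfl
theorem F6049 : act 1 n3700 = n2979 := d8_1 D3700 (iv F6046) F6044
theorem F6050 : act 3 n3700 = n2734 := d13_1 D3700 (iv D2734) D2732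
def n3701 : Q := act 3 n2733
theorem D3701 : act 3 n2733 = n3701 := rfl
def n3702 : Q := act 5 n2733
theorem D3702 : act 5 n2733 = n3702 := rfl
theorem F6051 : act 2 n3702 = n2735 := d11_1 D3702 (iv D2735) (iv F4416)
def n3703 : Q := act 4 n2734
theorem D3703 : act 4 n2734 = n3703 := rfl
theorem F6052 : act 1 n3703 = n3076 := d7_1 D3703 (iv D3076) (iv F4417)
theorem F6053 : act 2 n3703 = n2736 := d10_1 D3703 (iv D2736) (iv F4418)
def n3704 : Q := act 4 n2735
theorem D3704 : act 4 n2735 = n3704 := rfl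
theorem F6054 : act 1 n3704 = n2742 := d7_1 D3704 (iv D2742) (iv F4419)
theorem F6055 : act 5 n3704 = n2736 := d14_2 D2735 D3704 (iv D2736) (iv D1995) D1994
def n3705 : Q := act 3 n2736
theorem D3705 : act 3 n2736 = n3705 := rfl
theorem F6056 : act 1 n3705 = n2743 := d6_1 D3705 (iv D2743) (iv F4421)
theorem F6057 : act 4 n3705 = n2737 := d12_2 D2736 D3705 (iv D2737) (iv D1996) (iv F3251)
def n3706 : Q := act 2 n2737
theorem D3706 : act 2 n2737 = n3706 := rfl
theorem F6058 : act 5 n3706 = n2754 := d11_2 (iv F4423) D3706 (iv D2754)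
def n3707 : Q := act 4 n2738
theorem D3707 : act 4 n2738 = n3707 := rfl
theorem F6059 : act 0 n3707 = n2739 := d3_1 D3707 (iv D2739) D2738
def n3708 : Q := act 3 n2739
theorem D3708 : act 3 n2739 = n3708 := rfl
theorem F6060 : act 1 n3708 = n2740 := d6_1 D3708 (iv D2740) (iv F4426)
theorem F6061 : act 4 n3708 = n3024 := d12_2 D2739 D3708 (iv D3024) (iv D2206) (iv F3254)
def n3709 : Q := act 5 n2739
theorem D3709 : act 5 n2739 = n3709 := rfl
theorem F6062 : act 1 n3709 = n2741 := d8_1 D3709 (iv D2741) (iv F4426)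
theorem F6063 : act 4 n3709 = n3077 := d14_1 D3709 (iv D3077) (iv D2252) (iv F3255) D2739
def n3710 : Q := act 1 n2744
theorem D3710 : act 1 n2744 = n3710 := rfl
theorem F6064 : act 5 n3710 = n2755 := d8_2 (iv F4433) D3710 (iv D2755)
def n3711 : Q := act 3 n2745
theorem D3711 : act 3 n2745 = n3711 := rfl
theorem F6065 : act 0 n3711 = n2919 := d2_1 D3711 (iv F5725) F5722
theorem F6066 : act 1 n3711 = n2746 := d6_1 D3711 (iv D2746) D2745
def n3712 : Q := act 4 n2745
theorem D3712 : act 4 n2745 = n3712 := rfl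
theorem F6067 : act 1 n3712 = n2747 := d7_1 D3712 (iv D2747) D2745
def n3713 : Q := act 4 n2746
theorem D3713 : act 4 n2746 = n3713 := rfl
theorem F6068 : act 0 n3713 = n2751 := d3_1 D3713 (iv D2751) (iv F4434)
def n3714 : Q := act 3 n2747
theorem D3714 : act 3 n2747 = n3714 := rfl
theorem F6069 : act 0 n3714 = n2752 := d2_1 D3714 (iv D2752) (iv F4435)
def n3715 : Q := act 5 n2747
theorem D3715 : act 5 n2747 = n3715 := rfl
theorem F6070 : act 0 n3715 = n2753 := d4_1 D3715 (iv D2753) (iv F4435)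
theorem F6071 : act 2 n3715 = n2748 := d11_1 D3715 (iv D2748) (iv F4436)
def n3716 : Q := act 2 n2749
theorem D3716 : act 2 n2749 = n3716 := rfl
theorem F6072 : act 0 n3716 = n2754 := d1_1 D3716 (iv D2754) (iv F4438)
def n3717 : Q := act 1 n2750
theorem D3717 : act 1 n2750 = n3717 := rfl
theorem F6073 : act 2 n3717 = n2905 := d5_2 D2750 D3717 F4703 (iv F4211) F4210
def n3718 : Q := act 4 n2750
theorem D3718 : act 4 n2750 = n3718 := rfl
theorem F6074 : act 2 n3718 = n2751 := d10_1 D3718 (iv D2751) D2750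
def n3719 : Q := act 3 n2751
theorem D3719 : act 3 n2751 = n3719 := rfl
theorem F6075 : act 4 n3719 = n2752 := d12_2 D2751 D3719 (iv D2752) (iv D2006) D2005
def n3720 : Q := act 5 n2751
theorem D3720 : act 5 n2751 = n3720 := rfl
def n3721 : Q := act 2 n2752
theorem D3721 : act 2 n2752 = n3721 := rfl
def n3722 : Q := act 5 n2752
theorem D3722 : act 5 n2752 = n3722 := rfl
theorem F6076 : act 3 n3722 = n2753 := d13_1 D3722 (iv D2753) D2752
def n3723 : Q := act 1 n2754
theorem D3723 : act 1 n2754 = n3723 := rfl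
theorem F6077 : act 2 n3723 = n2755 := d5_2 D2754 D3723 (iv D2755) (iv D2009) (iv F3265)
def n3724 : Q := act 3 n2754
theorem D3724 : act 3 n2754 = n3724 := rfl
def n3725 : Q := act 0 n2755
theorem D3725 : act 0 n2755 = n3725 := rfl
def n3726 : Q := act 3 n2755
theorem D3726 : act 3 n2755 = n3726 := rfl
theorem F6078 : act 1 n3726 = n2756 := d6_1 D3726 (iv D2756) D2755
def n3727 : Q := act 3 n2757
theorem D3727 : act 3 n2757 = n3727 := rfl
theorem F6079 : act 0 n3727 = n2758 := d2_1 D3727 (iv D2758) (iv F4441)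
theorem F6080 : act 1 n3727 = n3300 := d6_1 D3727 (iv D3300) (iv F4442)
def n3728 : Q := act 5 n2757
theorem D3728 : act 5 n2757 = n3728 := rfl
theorem F6081 : act 0 n3728 = n2759 := d4_1 D3728 (iv D2759) (iv F4441)
theorem F6082 : act 1 n3728 = n3301 := d8_1 D3728 (iv D3301) (iv F4442)
theorem F6083 : act 2 n3728 = n2763 := d11_1 D3728 (iv D2763) (iv F4443)
theorem F6084 : act 4 n3728 = n3678 := d14_1 D3728 (iv D3678) (iv D2715) (iv F3269) D2757
def n3729 : Q := act 2 n2758
theorem D3729 : act 2 n2758 = n3729 := rfl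
def n3730 : Q := act 5 n2758
theorem D3730 : act 5 n2758 = n3730 := rfl
theorem F6085 : act 1 n3730 = n2761 := d8_1 D3730 (iv D2761) (iv F4444)
theorem F6086 : act 3 n3730 = n2759 := d13_1 D3730 (iv D2759) D2758
def n3731 : Q := act 1 n2760
theorem D3731 : act 1 n2760 = n3731 := rfl
def n3732 : Q := act 3 n2760
theorem D3732 : act 3 n2760 = n3732 := rfl
def n3733 : Q := act 5 n2760
theorem D3733 : act 5 n2760 = n3733 := rfl
theorem F6087 : act 2 n3733 = n2761 := d11_1 D3733 (iv D2761) D2760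
def n3734 : Q := act 4 n2761
theorem D3734 : act 4 n2761 = n3734 := rfl
def n3735 : Q := act 2 n2762
theorem D3735 : act 2 n2762 = n3735 := rfl
theorem F6088 : act 0 n3735 = n2764 := d1_1 D3735 (iv D2764) (iv F4449)
theorem F6089 : act 4 n3735 = n3274 := d10_2 (iv F4451) D3735 (iv D3274)
def n3736 : Q := act 5 n2762
theorem D3736 : act 5 n2762 = n3736 := rfl
theorem F6090 : act 0 n3736 = n2765 := d4_1 D3736 (iv D2765) (iv F4449)
theorem F6091 : act 1 n3736 = n3276 := d8_1 D3736 (iv D3276) (iv F4450)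
theorem F6092 : act 3 n3736 = n2763 := d13_1 D3736 (iv D2763) D2762
def n3737 : Q := act 1 n2764
theorem D3737 : act 1 n2764 = n3737 := rfl
theorem F6093 : act 2 n3737 = n2766 := d5_2 D2764 D3737 (iv D2766) (iv D2018) (iv F3275)
theorem F6094 : act 4 n3737 = n3568 := d7_2 (iv F4455) D3737 (iv D3568)
def n3738 : Q := act 3 n2764
theorem D3738 : act 3 n2764 = n3738 := rfl
def n3739 : Q := act 5 n2764
theorem D3739 : act 5 n2764 = n3739 := rfl
theorem F6095 : act 2 n3739 = n2765 := d11_1 D3739 (iv D2765) D2764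
def n3740 : Q := act 4 n2765
theorem D3740 : act 4 n2765 = n3740 := rfl
theorem F6096 : act 1 n3740 = n2769 := d7_1 D3740 (iv D2769) (iv F4456)
theorem F6097 : act 3 n3740 = n3140 := d12_1 D3740 F5141 F3842 (iv F3278) (iv F4457)
theorem F6098 : act 5 n3740 = n3139 := d14_2 D2765 D3740 F5139 F3844 (iv F3276)
def n3741 : Q := act 0 n2766
theorem D3741 : act 0 n2766 = n3741 := rfl
theorem F6099 : act 1 n3741 = n3653 := d0_2 D2766 D3741 F5948 F4337 (iv F3279)
theorem F6100 : act 4 n3741 = n3570 := d3_2 (iv F4458) D3741 (iv D3570)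
def n3742 : Q := act 3 n2766
theorem D3742 : act 3 n2766 = n3742 := rfl
theorem F6101 : act 1 n3742 = n2767 := d6_1 D3742 (iv D2767) D2766
theorem F6102 : act 4 n3742 = n3646 := d12_2 (iv F4458) D3742 (iv D3646) F4332 (iv F4240)
def n3743 : Q := act 5 n2766
theorem D3743 : act 5 n2766 = n3743 := rfl
theorem F6103 : act 1 n3743 = n2768 := d8_1 D3743 (iv D2768) D2766
theorem F6104 : act 4 n3743 = n3652 := d14_1 D3743 (iv D3652) (iv D2688) (iv F4241) (iv F4458)
def n3744 : Q := act 1 n2770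
theorem D3744 : act 1 n2770 = n3744 := rfl
theorem F6105 : act 2 n3744 = n2785 := d5_2 D2770 D3744 (iv D2785) (iv D2031) (iv F3284)
def n3745 : Q := act 3 n2770
theorem D3745 : act 3 n2770 = n3745 := rfl
theorem F6106 : act 0 n3745 = n2775 := d2_1 D3745 (iv D2775) (iv F4468)
def n3746 : Q := act 5 n2770
theorem D3746 : act 5 n2770 = n3746 := rfl
theorem F6107 : act 0 n3746 = n2776 := d4_1 D3746 (iv D2776) (iv F4468)
theorem F6108 : act 2 n3746 = n2771 := d11_1 D3746 (iv D2771) D2770
def n3747 : Q := act 4 n2771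
theorem D3747 : act 4 n2771 = n3747 := rfl
theorem F6109 : act 0 n3747 = n2777 := d3_1 D3747 (iv D2777) (iv F4469)
theorem F6110 : act 1 n3747 = n2783 := d7_1 D3747 F4493 (iv F4470)
theorem F6111 : act 3 n3747 = n2777 := d12_1 D3747 (iv D2777) F3292 (iv F3287) (iv F4471)
def n3748 : Q := act 1 n2772
theorem D3748 : act 1 n2772 = n3748 := rfl
theorem F6112 : act 2 n3748 = n2778 := d5_2 D2772 D3748 (iv D2778) (iv D2026) (iv F3288)
theorem F6113 : act 4 n3748 = n2774 := d7_2 (iv F4472) D3748 (iv D2774)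
def n3749 : Q := act 3 n2772
theorem D3749 : act 3 n2772 = n3749 := rfl
def n3750 : Q := act 5 n2772
theorem D3750 : act 5 n2772 = n3750 := rfl
theorem F6114 : act 2 n3750 = n2773 := d11_1 D3750 (iv D2773) D2772
def n3751 : Q := act 4 n2773
theorem D3751 : act 4 n2773 = n3751 := rfl
theorem F6115 : act 1 n3751 = n2781 := d7_1 D3751 (iv D2781) (iv F4473)
theorem F6116 : act 5 n3751 = n2777 := d14_2 D2773 D3751 (iv D2777) (iv D2025) (iv F3289)
def n3752 : Q := act 0 n2774
theorem D3752 : act 0 n2774 = n3752 := rfl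
theorem F6117 : act 2 n3752 = n2782 := d1_2 (iv F4475) D3752 (iv D2782)
theorem F6118 : act 5 n3752 = n2869 := d4_2 F4476 D3752 F4638
def n3753 : Q := act 3 n2774
theorem D3753 : act 3 n2774 = n3753 := rfl
theorem F6119 : act 1 n3753 = n2775 := d6_1 D3753 (iv D2775) D2774
theorem F6120 : act 5 n3753 = n2872 := d13_2 F4476 D3753 (iv D2872)
def n3754 : Q := act 2 n2775
theorem D3754 : act 2 n2775 = n3754 := rfl
def n3755 : Q := act 4 n2775
theorem D3755 : act 4 n2775 = n3755 := rfl
def n3756 : Q := act 5 n2775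
theorem D3756 : act 5 n2775 = n3756 := rfl
theorem F6121 : act 1 n3756 = n2872 := d8_1 D3756 (iv F6120) F6119
theorem F6122 : act 3 n3756 = n2776 := d13_1 D3756 (iv D2776) D2775
def n3757 : Q := act 4 n2776
theorem D3757 : act 4 n2776 = n3757 := rfl
theorem F6123 : act 1 n3757 = n2873 := d7_1 D3757 (iv D2873) (iv F4477)
theorem F6124 : act 2 n3757 = n2777 := d10_1 D3757 (iv D2777) (iv F4478)
def n3758 : Q := act 0 n2778
theorem D3758 : act 0 n2778 = n3758 := rfl
theorem F6125 : act 1 n3758 = n2804 := d0_2 D2778 D3758 (iv D2804) (iv D2045) (iv F3293)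
theorem F6126 : act 4 n3758 = n2782 := d3_2 (iv F4480) D3758 (iv D2782)
def n3759 : Q := act 3 n2778
theorem D3759 : act 3 n2778 = n3759 := rfl
theorem F6127 : act 1 n3759 = n2779 := d6_1 D3759 (iv D2779) D2778
theorem F6128 : act 4 n3759 = n2875 := d12_2 (iv F4480) D3759 (iv D2875) (iv D2094) (iv F3297)
def n3760 : Q := act 5 n2778
theorem D3760 : act 5 n2778 = n3760 := rfl
theorem F6129 : act 1 n3760 = n2780 := d8_1 D3760 (iv D2780) D2778
theorem F6130 : act 4 n3760 = n2874 := d14_1 D3760 (iv D2874) (iv D2093) (iv F3298) (iv F4480)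
def n3761 : Q := act 2 n2779
theorem D3761 : act 2 n2779 = n3761 := rfl
theorem F6131 : act 0 n3761 = n2807 := d1_1 D3761 (iv D2807) (iv F4481)
theorem F6132 : act 3 n3761 = n2802 := d9_2 D2779 D3761 F4523 F3325 F2423 (iv F2426) (iv F3327) (iv F4535) F4534 (iv D2790) (iv D2035) (iv D1478) F1755 D1470 D2026
theorem F6133 : act 4 n3761 = n2876 := d10_2 (iv F4482) D3761 (iv D2876)
theorem F6134 : act 5 n2801 = n3761 := d13_0 F6132 (iv D2802) D2801
def n3762 : Q := act 5 n2779
theorem D3762 : act 5 n2779 = n3762 := rfl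
theorem F6135 : act 0 n3762 = n2809 := d4_1 D3762 (iv D2809) (iv F4481)
theorem F6136 : act 2 n3762 = n2801 := d11_1 D3762 F6134 (iv D3761)
theorem F6137 : act 3 n3762 = n2780 := d13_1 D3762 (iv D2780) D2779
def n3763 : Q := act 2 n2783
theorem D3763 : act 2 n2783 = n3763 := rfl
theorem F6138 : act 0 n3763 = n2797 := d1_1 D3763 F4514 (iv F4492)
theorem F6139 : act 4 n3763 = n2784 := d10_2 (iv F4493) D3763 (iv D2784)
def n3764 : Q := act 1 n2784
theorem D3764 : act 1 n2784 = n3764 := rfl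
theorem F6140 : act 3 n3764 = n2821 := d6_2 (iv F4495) D3764 (iv D2821)
theorem F6141 : act 5 n3764 = n2785 := d8_2 (iv F4496) D3764 (iv D2785)
def n3765 : Q := act 0 n2785
theorem D3765 : act 0 n2785 = n3765 := rfl
theorem F6142 : act 1 n3765 = n2793 := d0_2 D2785 D3765 (iv D2793) (iv D2037) (iv F3303)
def n3766 : Q := act 3 n2786
theorem D3766 : act 3 n2786 = n3766 := rfl
theorem F6143 : act 0 n3766 = n2787 := d2_1 D3766 (iv D2787) D2786
theorem F6144 : act 1 n3766 = n2818 := d6_1 D3766 (iv D2818) (iv F4497)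
theorem F6145 : act 5 n3766 = n3070 := d13_2 (iv F4499) D3766 (iv D3070)
def n3767 : Q := act 2 n2787
theorem D3767 : act 2 n2787 = n3767 := rfl
def n3768 : Q := act 1 n2788
theorem D3768 : act 1 n2788 = n3768 := rfl
theorem F6146 : act 3 n3768 = n2795 := d6_2 (iv F4502) D3768 F4512
theorem F6147 : act 5 n3768 = n2794 := d8_2 (iv F4503) D3768 F4511
def n3769 : Q := act 0 n2789
theorem D3769 : act 0 n2789 = n3769 := rfl
theorem F6148 : act 2 n3769 = n2804 := d1_2 (iv F4504) D3769 (iv D2804)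
theorem F6149 : act 4 n3769 = n2793 := d3_2 (iv F4505) D3769 (iv D2793)
def n3770 : Q := act 3 n2789
theorem D3770 : act 3 n2789 = n3770 := rfl
theorem F6150 : act 1 n3770 = n2790 := d6_1 D3770 (iv D2790) D2789
def n3771 : Q := act 5 n2789
theorem D3771 : act 5 n2789 = n3771 := rfl
theorem F6151 : act 1 n3771 = n2791 := d8_1 D3771 (iv D2791) D2789
theorem F6152 : act 2 n3771 = n2806 := d11_1 D3771 (iv D2806) (iv F4504)
def n3772 : Q := act 4 n2790
theorem D3772 : act 4 n2790 = n3772 := rfl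
theorem F6153 : act 3 n3772 = n2796 := d12_1 D3772 (iv D2796) (iv D2038) (iv F3308) D2790
def n3773 : Q := act 4 n2791
theorem D3773 : act 4 n2791 = n3773 := rfl
theorem F6154 : act 2 n3773 = n2792 := d10_1 D3773 (iv D2792) (iv F4506)
theorem F6155 : act 5 n3773 = n2797 := d14_2 D2791 D3773 (iv D2797) (iv D2039) (iv F3308)
def n3774 : Q := act 3 n2793
theorem D3774 : act 3 n2793 = n3774 := rfl
theorem F6156 : act 0 n3774 = n2794 := d2_1 D3774 (iv D2794) D2793
def n3775 : Q := act 5 n2793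
theorem D3775 : act 5 n2793 = n3775 := rfl
theorem F6157 : act 0 n3775 = n2795 := d4_1 D3775 (iv D2795) D2793
theorem F6158 : act 2 n3775 = n2812 := d11_1 D3775 (iv D2812) (iv F4510)
def n3776 : Q := act 2 n2794
theorem D3776 : act 2 n2794 = n3776 := rfl
def n3777 : Q := act 4 n2794
theorem D3777 : act 4 n2794 = n3777 := rfl
theorem F6159 : act 1 n3777 = n2796 := d7_1 D3777 (iv D2796) (iv F4511)
def n3778 : Q := act 4 n2795
theorem D3778 : act 4 n2795 = n3778 := rfl
theorem F6160 : act 1 n3778 = n2797 := d7_1 D3778 (iv D2797) (iv F4512)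
theorem F6161 : act 2 n3778 = n2815 := d10_1 D3778 (iv D2815) (iv F4513)
def n3779 : Q := act 5 n2796
theorem D3779 : act 5 n2796 = n3779 := rfl
def n3780 : Q := act 3 n2797
theorem D3780 : act 3 n2797 = n3780 := rfl
def n3781 : Q := act 1 n2798
theorem D3781 : act 1 n2798 = n3781 := rfl
theorem F6162 : act 2 n3781 = n2800 := d5_2 D2798 D3781 (iv D2800) (iv D2043) (iv F3316)
theorem F6163 : act 4 n3781 = n3744 := d7_2 (iv F4516) D3781 (iv D3744)
def n3782 : Q := act 3 n2798
theorem D3782 : act 3 n2798 = n3782 := rfl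
theorem F6164 : act 0 n3782 = n3749 := d2_1 D3782 (iv D3749) (iv F4515)
def n3783 : Q := act 5 n2798
theorem D3783 : act 5 n2798 = n3783 := rfl
theorem F6165 : act 0 n3783 = n3750 := d4_1 D3783 (iv D3750) (iv F4515)
theorem F6166 : act 2 n3783 = n2799 := d11_1 D3783 (iv D2799) D2798
def n3784 : Q := act 4 n2799
theorem D3784 : act 4 n2799 = n3784 := rfl
theorem F6167 : act 0 n3784 = n3751 := d3_1 D3784 (iv D3751) (iv F4517)
theorem F6168 : act 1 n3784 = n2803 := d7_1 D3784 (iv D2803) (iv F4518)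
theorem F6169 : act 3 n3784 = n3751 := d12_1 D3784 (iv D3751) F4474 (iv F3321) (iv F4519)
theorem F6170 : act 5 n3784 = n3747 := d14_2 D2799 D3784 (iv D3747) (iv D2771) (iv F3317)
def n3785 : Q := act 0 n2800
theorem D3785 : act 0 n2800 = n3785 := rfl
theorem F6171 : act 1 n3785 = n3769 := d0_2 D2800 D3785 (iv D3769) (iv D2789) (iv F3322)
theorem F6172 : act 4 n3785 = n3765 := d3_2 (iv F4520) D3785 (iv D3765)
def n3786 : Q := act 3 n2800
theorem D3786 : act 3 n2800 = n3786 := rfl
theorem F6173 : act 1 n3786 = n2801 := d6_1 D3786 (iv D2801) D2800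
def n3787 : Q := act 5 n2800
theorem D3787 : act 5 n2800 = n3787 := rfl
theorem F6174 : act 1 n3787 = n2802 := d8_1 D3787 (iv D2802) D2800
def n3788 : Q := act 4 n2801
theorem D3788 : act 4 n2801 = n3788 := rfl
theorem F6175 : act 0 n3788 = n3772 := d3_1 D3788 (iv D3772) (iv F4521)
theorem F6176 : act 3 n3788 = n3673 := d12_1 D3788 F5988 F4375 (iv F3323) D2801
def n3789 : Q := act 4 n2802
theorem D3789 : act 4 n2802 = n3789 := rfl
theorem F6177 : act 0 n3789 = n3773 := d3_1 D3789 (iv D3773) (iv F4522)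
theorem F6178 : act 2 n3789 = n2803 := d10_1 D3789 (iv D2803) (iv F4523)
theorem F6179 : act 5 n3789 = n3763 := d14_2 D2802 D3789 F6139 F4496 (iv F3323)
def n3790 : Q := act 3 n2804
theorem D3790 : act 3 n2804 = n3790 := rfl
theorem F6180 : act 0 n3790 = n2805 := d2_1 D3790 (iv D2805) D2804
def n3791 : Q := act 5 n2804
theorem D3791 : act 5 n2804 = n3791 := rfl
theorem F6181 : act 0 n3791 = n2806 := d4_1 D3791 (iv D2806) D2804
def n3792 : Q := act 2 n2805
theorem D3792 : act 2 n2805 = n3792 := rfl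
def n3793 : Q := act 4 n2805
theorem D3793 : act 4 n2805 = n3793 := rfl
theorem F6182 : act 1 n3793 = n2808 := d7_1 D3793 (iv D2808) (iv F4528)
theorem F6183 : act 3 n3793 = n2814 := d12_1 D3793 (iv D2814) (iv D2050) (iv F3326) D2805
def n3794 : Q := act 5 n2805
theorem D3794 : act 5 n2805 = n3794 := rfl
theorem F6184 : act 1 n3794 = n2809 := d8_1 D3794 (iv D2809) (iv F4528)
theorem F6185 : act 3 n3794 = n2806 := d13_1 D3794 (iv D2806) D2805
def n3795 : Q := act 4 n2806
theorem D3795 : act 4 n2806 = n3795 := rfl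
theorem F6186 : act 1 n3795 = n2810 := d7_1 D3795 (iv D2810) (iv F4529)
theorem F6187 : act 5 n3795 = n2815 := d14_2 D2806 D3795 (iv D2815) (iv D2051) (iv F3326)
def n3796 : Q := act 1 n2807
theorem D3796 : act 1 n2807 = n3796 := rfl
theorem F6188 : act 3 n3796 = n3771 := d6_2 (iv F4530) D3796 F6151
theorem F6189 : act 5 n3796 = n3770 := d8_2 F4531 D3796 F6150
def n3797 : Q := act 4 n2807
theorem D3797 : act 4 n2807 = n3797 := rfl
theorem F6190 : act 0 n3797 = n2876 := d3_1 D3797 (iv F6133) F6131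
theorem F6191 : act 2 n3797 = n2808 := d10_1 D3797 (iv D2808) D2807
def n3798 : Q := act 5 n2808
theorem D3798 : act 5 n2808 = n3798 := rfl
theorem F6192 : act 0 n3798 = n2868 := d4_1 D3798 F4637 (iv F4532)
theorem F6193 : act 3 n3798 = n2816 := d13_1 D3798 (iv D2816) (iv F4533)
def n3799 : Q := act 4 n2809
theorem D3799 : act 4 n2809 = n3799 := rfl
theorem F6194 : act 2 n3799 = n3772 := d10_1 D3799 (iv D3772) (iv F4534)
def n3800 : Q := act 3 n2810
theorem D3800 : act 3 n2810 = n3800 := rfl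
theorem F6195 : act 0 n3800 = n2866 := d2_1 D3800 F4635 (iv F4536)
theorem F6196 : act 5 n3800 = n2817 := d13_2 (iv F4538) D3800 (iv D2817)
def n3801 : Q := act 2 n2811
theorem D3801 : act 2 n2811 = n3801 := rfl
theorem F6197 : act 0 n3801 = n2813 := d1_1 D3801 (iv D2813) (iv F4539)
theorem F6198 : act 5 n3801 = n2833 := d11_2 F4541 D3801 F4582
def n3802 : Q := act 4 n2811
theorem D3802 : act 4 n2811 = n3802 := rfl
theorem F6199 : act 0 n3802 = n2814 := d3_1 D3802 (iv D2814) (iv F4539)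
theorem F6200 : act 1 n3802 = n2871 := d7_1 D3802 (iv D2871) (iv F4540)
def n3803 : Q := act 4 n2812
theorem D3803 : act 4 n2812 = n3803 := rfl
theorem F6201 : act 0 n3803 = n2815 := d3_1 D3803 (iv D2815) (iv F4542)
theorem F6202 : act 1 n3803 = n2870 := d7_1 D3803 (iv D2870) (iv F4543)
def n3804 : Q := act 3 n2813
theorem D3804 : act 3 n2813 = n3804 := rfl
theorem F6203 : act 1 n3804 = n2837 := d6_1 D3804 F4587 (iv F4545)
theorem F6204 : act 5 n3804 = n2834 := d13_2 (iv F4546) D3804 (iv D2834)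
def n3805 : Q := act 4 n2813
theorem D3805 : act 4 n2813 = n3805 := rfl
theorem F6205 : act 1 n3805 = n2838 := d7_1 D3805 (iv D2838) (iv F4545)
theorem F6206 : act 2 n3805 = n2814 := d10_1 D3805 (iv D2814) D2813
def n3806 : Q := act 5 n2814
theorem D3806 : act 5 n2814 = n3806 := rfl
theorem F6207 : act 1 n3806 = n2816 := d8_1 D3806 (iv D2816) (iv F4547)
theorem F6208 : act 4 n3806 = n2841 := d14_1 D3806 (iv D2841) F3356 F3330 D2814
def n3807 : Q := act 3 n2815
theorem D3807 : act 3 n2815 = n3807 := rfl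
theorem F6209 : act 1 n3807 = n2817 := d6_1 D3807 (iv D2817) (iv F4548)
theorem F6210 : act 4 n3807 = n2840 := d12_2 D2815 D3807 (iv D2840) F3356 (iv F3332)
def n3808 : Q := act 2 n2817
theorem D3808 : act 2 n2817 = n3808 := rfl
theorem F6211 : act 0 n3808 = n2865 := d1_1 D3808 F4634 (iv F4552)
theorem F6212 : act 4 n3808 = n2842 := d10_2 (iv F4553) D3808 (iv D2842)
def n3809 : Q := act 4 n2818
theorem D3809 : act 4 n2818 = n3809 := rfl
theorem F6213 : act 0 n3809 = n2820 := d3_1 D3809 (iv D2820) (iv F4554)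
theorem F6214 : act 2 n3809 = n3041 := d10_1 D3809 (iv D3041) (iv F4556)
theorem F6215 : act 3 n3809 = n2825 := d12_1 D3809 (iv D2825) (iv D2058) (iv F3338) D2818
def n3810 : Q := act 1 n2819
theorem D3810 : act 1 n2819 = n3810 := rfl
theorem F6216 : act 2 n3810 = n2821 := d5_2 D2819 D3810 (iv D2821) (iv D2056) (iv F3340)
theorem F6217 : act 3 n3810 = n3035 := d6_2 (iv F4559) D3810 (iv D3035)
theorem F6218 : act 5 n3810 = n3072 := d8_2 (iv F4558) D3810 (iv D3072)
def n3811 : Q := act 4 n2819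
theorem D3811 : act 4 n2819 = n3811 := rfl
theorem F6219 : act 0 n3811 = n3041 := d3_1 D3811 (iv D3041) (iv F4557)
theorem F6220 : act 2 n3811 = n2820 := d10_1 D3811 (iv D2820) D2819
def n3812 : Q := act 5 n2820
theorem D3812 : act 5 n2820 = n3812 := rfl
theorem F6221 : act 1 n3812 = n2823 := d8_1 D3812 (iv D2823) (iv F4560)
theorem F6222 : act 3 n3812 = n2828 := d13_1 D3812 (iv D2828) (iv F4561)
theorem F6223 : act 4 n3812 = n3074 := d14_1 D3812 (iv D3074) (iv D2249) (iv F3341) D2820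
def n3813 : Q := act 0 n2821
theorem D3813 : act 0 n2821 = n3813 := rfl
def n3814 : Q := act 4 n2821
theorem D3814 : act 4 n2821 = n3814 := rfl
theorem F6224 : act 1 n3814 = n2822 := d7_1 D3814 (iv D2822) D2821
def n3815 : Q := act 3 n2822
theorem D3815 : act 3 n2822 = n3815 := rfl
theorem F6225 : act 2 n3815 = n3671 := d15_2 (iv F4562) D3815 F5983 F4368 F3209 (iv F3411) (iv F4666) (iv D2890) F3408
theorem F6226 : act 5 n3670 = n3815 := d11_0 F6225 (iv D3671) D3670
def n3816 : Q := act 5 n2822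
theorem D3816 : act 5 n2822 = n3816 := rfl
theorem F6227 : act 2 n3816 = n2823 := d11_1 D3816 (iv D2823) (iv F4562)
theorem F6228 : act 3 n3816 = n3670 := d13_1 D3816 F6226 (iv D3815)
def n3817 : Q := act 1 n2824
theorem D3817 : act 1 n2824 = n3817 := rfl
theorem F6229 : act 3 n3817 = n2895 := d6_2 (iv F4565) D3817 (iv D2895)
theorem F6230 : act 5 n3817 = n2877 := d8_2 (iv F4566) D3817 (iv D2877)
def n3818 : Q := act 4 n2824
theorem D3818 : act 4 n2824 = n3818 := rfl
theorem F6231 : act 0 n3818 = n2827 := d3_1 D3818 (iv D2827) (iv F4564)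
theorem F6232 : act 2 n3818 = n2825 := d10_1 D3818 (iv D2825) D2824
def n3819 : Q := act 5 n2825
theorem D3819 : act 5 n2825 = n3819 := rfl
theorem F6233 : act 0 n3819 = n2828 := d4_1 D3819 (iv D2828) (iv F4567)
theorem F6234 : act 4 n3819 = n2879 := d14_1 D3819 (iv D2879) (iv D2098) (iv F3344) D2825
def n3820 : Q := act 4 n2826
theorem D3820 : act 4 n2826 = n3820 := rfl
theorem F6235 : act 0 n3820 = n2896 := d3_1 D3820 (iv D2896) (iv F4568)
theorem F6236 : act 2 n3820 = n2893 := d10_1 D3820 (iv D2893) (iv F4569)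
def n3821 : Q := act 3 n2827
theorem D3821 : act 3 n2827 = n3821 := rfl
def n3822 : Q := act 5 n2827
theorem D3822 : act 5 n2827 = n3822 := rfl
theorem F6237 : act 2 n3822 = n2828 := d11_1 D3822 (iv D2828) (iv F4571)
theorem F6238 : act 4 n3822 = n2885 := d14_1 D3822 (iv D2885) (iv D2101) (iv F3345) D2827
def n3823 : Q := act 0 n2829
theorem D3823 : act 0 n2829 = n3823 := rfl
theorem F6239 : act 1 n3823 = n3601 := d0_2 D2829 D3823 (iv D3601) (iv D2651) (iv F3348)
theorem F6240 : act 2 n3823 = n2839 := d1_2 (iv F4574) D3823 (iv D2839)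
theorem F6241 : act 4 n3823 = n2833 := d3_2 (iv F4575) D3823 (iv D2833)
def n3824 : Q := act 3 n2829
theorem D3824 : act 3 n2829 = n3824 := rfl
theorem F6242 : act 1 n3824 = n2830 := d6_1 D3824 (iv D2830) D2829
def n3825 : Q := act 5 n2829
theorem D3825 : act 5 n2829 = n3825 := rfl
theorem F6243 : act 1 n3825 = n2831 := d8_1 D3825 (iv D2831) D2829
theorem F6244 : act 2 n3825 = n2841 := d11_1 D3825 (iv D2841) (iv F4574)
def n3826 : Q := act 2 n2830
theorem D3826 : act 2 n2830 = n3826 := rfl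
theorem F6245 : act 0 n3826 = n3604 := d1_1 D3826 (iv D3604) (iv F4576)
theorem F6246 : act 3 n3826 = n2831 := d9_2 D2830 D3826 F4578 F3352 F2448 (iv F3139) (iv F4277) (iv F5851) (iv D3604) (iv D2652) (iv D1932) (iv D1399) (iv F1779) D1497 D2062
theorem F6247 : act 5 n2830 = n3826 := d13_0 F6246 (iv D2831) D2830
def n3827 : Q := act 4 n2830
theorem D3827 : act 4 n2830 = n3827 := rfl
theorem F6248 : act 0 n3827 = n3605 := d3_1 D3827 (iv D3605) (iv F4576)
theorem F6249 : act 3 n3827 = n2836 := d12_1 D3827 (iv D2836) (iv D2065) (iv F3349) D2830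
def n3828 : Q := act 4 n2831
theorem D3828 : act 4 n2831 = n3828 := rfl
theorem F6250 : act 0 n3828 = n3606 := d3_1 D3828 (iv D3606) (iv F4577)
theorem F6251 : act 2 n3828 = n2832 := d10_1 D3828 (iv D2832) (iv F4578)
theorem F6252 : act 5 n3828 = n2838 := d14_2 D2831 D3828 (iv D2838) (iv D2066) (iv F3349)
def n3829 : Q := act 3 n2833
theorem D3829 : act 3 n2833 = n3829 := rfl
theorem F6253 : act 0 n3829 = n2834 := d2_1 D3829 (iv D2834) D2833
def n3830 : Q := act 2 n2834
theorem D3830 : act 2 n2834 = n3830 := rfl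
def n3831 : Q := act 4 n2834
theorem D3831 : act 4 n2834 = n3831 := rfl
theorem F6254 : act 1 n3831 = n2836 := d7_1 D3831 (iv D2836) (iv F4583)
def n3832 : Q := act 1 n2835
theorem D3832 : act 1 n2835 = n3832 := rfl
theorem F6255 : act 3 n3832 = n2925 := d6_2 (iv F4584) D3832 (iv D2925)
theorem F6256 : act 5 n3832 = n2927 := d8_2 F4585 D3832 F4742
def n3833 : Q := act 4 n2835
theorem D3833 : act 4 n2835 = n3833 := rfl
theorem F6257 : act 2 n3833 = n2836 := d10_1 D3833 (iv D2836) D2835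
def n3834 : Q := act 5 n2836
theorem D3834 : act 5 n2836 = n3834 := rfl
def n3835 : Q := act 4 n2837
theorem D3835 : act 4 n2837 = n3835 := rfl
theorem F6258 : act 2 n3835 = n2928 := d10_1 D3835 (iv D2928) (iv F4586)
def n3836 : Q := act 3 n2838
theorem D3836 : act 3 n2838 = n3836 := rfl
def n3837 : Q := act 3 n2839
theorem D3837 : act 3 n2839 = n3837 := rfl
theorem F6259 : act 0 n3837 = n2840 := d2_1 D3837 (iv D2840) D2839
theorem F6260 : act 1 n3837 = n2858 := d6_1 D3837 (iv D2858) (iv F4589)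
def n3838 : Q := act 5 n2839
theorem D3838 : act 5 n2839 = n3838 := rfl
theorem F6261 : act 0 n3838 = n2841 := d4_1 D3838 (iv D2841) D2839
theorem F6262 : act 1 n3838 = n2859 := d8_1 D3838 (iv D2859) (iv F4589)
def n3839 : Q := act 2 n2840
theorem D3839 : act 2 n2840 = n3839 := rfl
def n3840 : Q := act 5 n2840
theorem D3840 : act 5 n2840 = n3840 := rfl
theorem F6263 : act 1 n3840 = n2843 := d8_1 D3840 (iv D2843) (iv F4591)
theorem F6264 : act 3 n3840 = n2841 := d13_1 D3840 (iv D2841) D2840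
def n3841 : Q := act 1 n2842
theorem D3841 : act 1 n2842 = n3841 := rfl
theorem F6265 : act 3 n3841 = n2855 := d6_2 (iv F4594) D3841 F4618
theorem F6266 : act 5 n3841 = n2854 := d8_2 F4595 D3841 F4617
def n3842 : Q := act 4 n2843
theorem D3842 : act 4 n2843 = n3842 := rfl
theorem F6267 : act 0 n3842 = n2867 := d3_1 D3842 (iv D2867) (iv F4596)
theorem F6268 : act 2 n3842 = n2856 := d10_1 D3842 (iv D2856) (iv F4597)
def n3843 : Q := act 1 n2844
theorem D3843 : act 1 n2844 = n3843 := rfl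
theorem F6269 : act 0 n3843 = n3817 := d0_1 D3843 (iv D3817) F4564 (iv F3365) (iv F4599)
theorem F6270 : act 2 n3843 = n2877 := d5_2 D2844 D3843 (iv D2877) (iv D2097) (iv F3364)
def n3844 : Q := act 3 n2844
theorem D3844 : act 3 n2844 = n3844 := rfl
theorem F6271 : act 0 n3844 = n2846 := d2_1 D3844 (iv D2846) (iv F4599)
def n3845 : Q := act 4 n2844
theorem D3845 : act 4 n2844 = n3845 := rfl
theorem F6272 : act 0 n3845 = n2847 := d3_1 D3845 (iv D2847) (iv F4599)
theorem F6273 : act 2 n3845 = n2845 := d10_1 D3845 (iv D2845) D2844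
def n3846 : Q := act 5 n2845
theorem D3846 : act 5 n2845 = n3846 := rfl
theorem F6274 : act 0 n3846 = n2848 := d4_1 D3846 (iv D2848) (iv F4600)
theorem F6275 : act 1 n3846 = n2879 := d8_1 D3846 (iv D2879) (iv F4601)
def n3847 : Q := act 2 n2846
theorem D3847 : act 2 n2846 = n3847 := rfl
def n3848 : Q := act 4 n2846
theorem D3848 : act 4 n2846 = n3848 := rfl
theorem F6276 : act 1 n3848 = n3820 := d7_1 D3848 (iv D3820) (iv F4602)
def n3849 : Q := act 3 n2847
theorem D3849 : act 3 n2847 = n3849 := rfl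
theorem F6277 : act 1 n3849 = n3821 := d6_1 D3849 (iv D3821) (iv F4603)
def n3850 : Q := act 5 n2847
theorem D3850 : act 5 n2847 = n3850 := rfl
theorem F6278 : act 1 n3850 = n3822 := d8_1 D3850 (iv D3822) (iv F4603)
theorem F6279 : act 2 n3850 = n2848 := d11_1 D3850 (iv D2848) (iv F4604)
def n3851 : Q := act 0 n2849
theorem D3851 : act 0 n2849 = n3851 := rfl
theorem F6280 : act 1 n3851 = n3542 := d0_2 D2849 D3851 (iv D3542) (iv D2606) (iv F3369)
theorem F6281 : act 2 n3851 = n2853 := d1_2 (iv F4606) D3851 (iv D2853)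
theorem F6282 : act 4 n3851 = n3537 := d3_2 (iv F4607) D3851 (iv D3537)
def n3852 : Q := act 3 n2849
theorem D3852 : act 3 n2849 = n3852 := rfl
theorem F6283 : act 1 n3852 = n2850 := d6_1 D3852 (iv D2850) D2849
def n3853 : Q := act 5 n2849
theorem D3853 : act 5 n2849 = n3853 := rfl
theorem F6284 : act 1 n3853 = n2851 := d8_1 D3853 (iv D2851) D2849
theorem F6285 : act 2 n3853 = n2855 := d11_1 D3853 (iv D2855) (iv F4606)
def n3854 : Q := act 2 n2850
theorem D3854 : act 2 n2850 = n3854 := rfl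
theorem F6286 : act 0 n3854 = n3545 := d1_1 D3854 (iv D3545) (iv F4608)
theorem F6287 : act 3 n3854 = n2851 := d9_2 D2850 D3854 F4610 F3373 F2465 (iv F3081) (iv F4199) (iv F5736) (iv D3545) (iv D2607) (iv D1899) (iv D1377) (iv F1793) D1508 D2077
theorem F6288 : act 5 n2850 = n3854 := d13_0 F6287 (iv D2851) D2850
def n3855 : Q := act 4 n2850
theorem D3855 : act 4 n2850 = n3855 := rfl
theorem F6289 : act 0 n3855 = n3546 := d3_1 D3855 (iv D3546) (iv F4608)
theorem F6290 : act 3 n3855 = n3540 := d12_1 D3855 (iv D3540) (iv D2603) (iv F3370) D2850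
def n3856 : Q := act 4 n2851
theorem D3856 : act 4 n2851 = n3856 := rfl
theorem F6291 : act 0 n3856 = n3547 := d3_1 D3856 (iv D3547) (iv F4609)
theorem F6292 : act 2 n3856 = n2852 := d10_1 D3856 (iv D2852) (iv F4610)
theorem F6293 : act 5 n3856 = n3541 := d14_2 D2851 D3856 (iv D3541) (iv D2604) (iv F3370)
def n3857 : Q := act 3 n2853
theorem D3857 : act 3 n2853 = n3857 := rfl
theorem F6294 : act 0 n3857 = n2854 := d2_1 D3857 (iv D2854) D2853
theorem F6295 : act 1 n3857 = n3577 := d6_1 D3857 (iv D3577) (iv F4615)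
def n3858 : Q := act 5 n2853
theorem D3858 : act 5 n2853 = n3858 := rfl
theorem F6296 : act 0 n3858 = n2855 := d4_1 D3858 (iv D2855) D2853
theorem F6297 : act 1 n3858 = n3578 := d8_1 D3858 (iv D3578) (iv F4615)
def n3859 : Q := act 2 n2854
theorem D3859 : act 2 n2854 = n3859 := rfl
def n3860 : Q := act 4 n2854
theorem D3860 : act 4 n2854 = n3860 := rfl
theorem F6298 : act 1 n3860 = n2856 := d7_1 D3860 (iv D2856) (iv F4617)
theorem F6299 : act 3 n3860 = n3573 := d12_1 D3860 (iv D3573) (iv D2631) (iv F3374) D2854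
def n3861 : Q := act 4 n2855
theorem D3861 : act 4 n2855 = n3861 := rfl
theorem F6300 : act 1 n3861 = n2857 := d7_1 D3861 (iv D2857) (iv F4618)
theorem F6301 : act 5 n3861 = n3574 := d14_2 D2855 D3861 (iv D3574) (iv D2632) (iv F3374)
def n3862 : Q := act 5 n2856
theorem D3862 : act 5 n2856 = n3862 := rfl
theorem F6302 : act 0 n3862 = n3582 := d4_1 D3862 (iv D3582) (iv F4619)
theorem F6303 : act 3 n3862 = n3575 := d13_1 D3862 (iv D3575) (iv F4620)
def n3863 : Q := act 3 n2857
theorem D3863 : act 3 n2857 = n3863 := rfl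
theorem F6304 : act 0 n3863 = n3583 := d2_1 D3863 (iv D3583) (iv F4621)
theorem F6305 : act 5 n3863 = n3576 := d13_2 (iv F4623) D3863 (iv D3576)
def n3864 : Q := act 2 n2858
theorem D3864 : act 2 n2858 = n3864 := rfl
theorem F6306 : act 0 n3864 = n2860 := d1_1 D3864 (iv D2860) (iv F4624)
def n3865 : Q := act 4 n2858
theorem D3865 : act 4 n2858 = n3865 := rfl
theorem F6307 : act 0 n3865 = n2861 := d3_1 D3865 (iv D2861) (iv F4624)
theorem F6308 : act 3 n3865 = n2870 := d12_1 D3865 (iv D2870) (iv D2090) (iv F3381) D2858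
def n3866 : Q := act 5 n2858
theorem D3866 : act 5 n2858 = n3866 := rfl
theorem F6309 : act 0 n3866 = n2862 := d4_1 D3866 (iv D2862) (iv F4624)
theorem F6310 : act 3 n3866 = n2859 := d13_1 D3866 (iv D2859) D2858
def n3867 : Q := act 4 n2859
theorem D3867 : act 4 n2859 = n3867 := rfl
theorem F6311 : act 0 n3867 = n2863 := d3_1 D3867 (iv D2863) (iv F4625)
theorem F6312 : act 5 n3867 = n2871 := d14_2 D2859 D3867 (iv D2871) (iv D2091) (iv F3381)
def n3868 : Q := act 1 n2860
theorem D3868 : act 1 n2860 = n3868 := rfl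
theorem F6313 : act 2 n3868 = n2864 := d5_2 D2860 D3868 (iv D2864) (iv D2086) (iv F3382)
theorem F6314 : act 5 n3579 = n3868 := d11_0 F6313 F4633 D3579
def n3869 : Q := act 3 n2860
theorem D3869 : act 3 n2860 = n3869 := rfl
def n3870 : Q := act 4 n2860
theorem D3870 : act 4 n2860 = n3870 := rfl
theorem F6315 : act 2 n3870 = n2861 := d10_1 D3870 (iv D2861) D2860
def n3871 : Q := act 5 n2860
theorem D3871 : act 5 n2860 = n3871 := rfl
theorem F6316 : act 1 n3871 = n3579 := d8_1 D3871 F6314 (iv D3868)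
theorem F6317 : act 2 n3871 = n2862 := d11_1 D3871 (iv D2862) D2860
def n3872 : Q := act 5 n2861
theorem D3872 : act 5 n2861 = n3872 := rfl
theorem F6318 : act 1 n3872 = n2866 := d8_1 D3872 (iv D2866) (iv F4626)
theorem F6319 : act 3 n3872 = n2874 := d13_1 D3872 (iv D2874) (iv F4627)
def n3873 : Q := act 4 n2862
theorem D3873 : act 4 n2862 = n3873 := rfl
theorem F6320 : act 1 n3873 = n2867 := d7_1 D3873 (iv D2867) (iv F4628)
def n3874 : Q := act 3 n2863
theorem D3874 : act 3 n2863 = n3874 := rfl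
theorem F6321 : act 1 n3874 = n2868 := d6_1 D3874 (iv D2868) (iv F4630)
theorem F6322 : act 5 n3874 = n2875 := d13_2 (iv F4631) D3874 (iv D2875)
def n3875 : Q := act 0 n2864
theorem D3875 : act 0 n2864 = n3875 := rfl
theorem F6323 : act 3 n3875 = n3578 := d2_2 (iv F4632) D3875 F5805
theorem F6324 : act 5 n3875 = n3577 := d4_2 (iv F4633) D3875 F5804
def n3876 : Q := act 4 n2864
theorem D3876 : act 4 n2864 = n3876 := rfl
theorem F6325 : act 1 n3876 = n2865 := d7_1 D3876 (iv D2865) D2864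
def n3877 : Q := act 3 n2865
theorem D3877 : act 3 n2865 = n3877 := rfl
theorem F6326 : act 4 n3877 = n3583 := d12_2 D2865 D3877 (iv D3583) (iv D2639) (iv F3384)
def n3878 : Q := act 5 n2865
theorem D3878 : act 5 n2865 = n3878 := rfl
theorem F6327 : act 2 n3878 = n2866 := d11_1 D3878 (iv D2866) (iv F4634)
theorem F6328 : act 4 n3878 = n3582 := d14_1 D3878 (iv D3582) (iv D2638) F3385 D2865
def n3879 : Q := act 4 n2866
theorem D3879 : act 4 n2866 = n3879 := rfl
theorem F6329 : act 2 n3879 = n3582 := d10_1 D3879 (iv F6328) F6327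
theorem F6330 : act 5 n3879 = n2867 := d14_2 D2866 D3879 (iv D2867) (iv D2088) D2087
def n3880 : Q := act 3 n2867
theorem D3880 : act 3 n2867 = n3880 := rfl
theorem F6331 : act 4 n3880 = n2868 := d12_2 D2867 D3880 (iv D2868) (iv D2089) (iv F3388)
def n3881 : Q := act 2 n2868
theorem D3881 : act 2 n2868 = n3881 := rfl
theorem F6332 : act 5 n3881 = n2876 := d11_2 (iv F4637) D3881 (iv D2876)
def n3882 : Q := act 1 n2869
theorem D3882 : act 1 n2869 = n3882 := rfl
def n3883 : Q := act 3 n2869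
theorem D3883 : act 3 n2869 = n3883 := rfl
theorem F6333 : act 0 n3883 = n2872 := d2_1 D3883 (iv D2872) (iv F4638)
def n3884 : Q := act 4 n2869
theorem D3884 : act 4 n2869 = n3884 := rfl
theorem F6334 : act 0 n3884 = n2873 := d3_1 D3884 (iv D2873) (iv F4638)
theorem F6335 : act 2 n3884 = n2870 := d10_1 D3884 (iv D2870) D2869
def n3885 : Q := act 5 n2870
theorem D3885 : act 5 n2870 = n3885 := rfl
theorem F6336 : act 0 n3885 = n2874 := d4_1 D3885 (iv D2874) (iv F4639)
def n3886 : Q := act 3 n2871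
theorem D3886 : act 3 n2871 = n3886 := rfl
theorem F6337 : act 0 n3886 = n2875 := d2_1 D3886 (iv D2875) (iv F4640)
def n3887 : Q := act 2 n2872
theorem D3887 : act 2 n2872 = n3887 := rfl
def n3888 : Q := act 4 n2872
theorem D3888 : act 4 n2872 = n3888 := rfl
def n3889 : Q := act 3 n2873
theorem D3889 : act 3 n2873 = n3889 := rfl
def n3890 : Q := act 5 n2873
theorem D3890 : act 5 n2873 = n3890 := rfl
theorem F6338 : act 2 n3890 = n2874 := d11_1 D3890 (iv D2874) (iv F4641)
def n3891 : Q := act 2 n2875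
theorem D3891 : act 2 n2875 = n3891 := rfl
def n3892 : Q := act 1 n2876
theorem D3892 : act 1 n2876 = n3892 := rfl
def n3893 : Q := act 3 n2876
theorem D3893 : act 3 n2876 = n3893 := rfl
theorem F6339 : act 2 n3893 = n3863 := d15_2 D2876 D3893 (iv D3863) F4622 F3379 (iv F4550) (iv F6193) (iv D3798) F4532
def n3894 : Q := act 0 n2877
theorem D3894 : act 0 n2877 = n3894 := rfl
theorem F6340 : act 1 n3894 = n2880 := d0_2 D2877 D3894 (iv D2880) (iv D2099) (iv F3395)
theorem F6341 : act 2 n3894 = n3817 := d1_2 F6270 D3894 (iv F6269)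
theorem F6342 : act 3 n3894 = n3528 := d2_2 (iv F4644) D3894 (iv D3528)
theorem F6343 : act 5 n3894 = n3843 := d4_2 F6230 D3894 F6269
def n3895 : Q := act 4 n2877
theorem D3895 : act 4 n2877 = n3895 := rfl
theorem F6344 : act 1 n3895 = n2878 := d7_1 D3895 (iv D2878) D2877
def n3896 : Q := act 3 n2878
theorem D3896 : act 3 n2878 = n3896 := rfl
theorem F6345 : act 0 n3896 = n2884 := d2_1 D3896 (iv D2884) (iv F4645)
theorem F6346 : act 4 n3896 = n3530 := d12_2 D2878 D3896 (iv D3530) (iv D2596) (iv F3396)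
def n3897 : Q := act 5 n2878
theorem D3897 : act 5 n2878 = n3897 := rfl
theorem F6347 : act 0 n3897 = n2885 := d4_1 D3897 (iv D2885) (iv F4645)
theorem F6348 : act 2 n3897 = n2879 := d11_1 D3897 (iv D2879) (iv F4646)
def n3898 : Q := act 3 n2880
theorem D3898 : act 3 n2880 = n3898 := rfl
theorem F6349 : act 0 n3898 = n2881 := d2_1 D3898 (iv D2881) D2880
theorem F6350 : act 1 n3898 = n3528 := d6_1 D3898 (iv F6342) F6340
theorem F6351 : act 5 n3898 = n3844 := d13_2 (iv F4649) D3898 (iv D3844)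
theorem F6352 : act 2 n3898 = n3500 := d15_2 (iv F4648) D3898 (iv D3500) (iv D2573) (iv D1878) F2230 D1506 (iv F2480) D2103
def n3899 : Q := act 4 n2880
theorem D3899 : act 4 n2880 = n3899 := rfl
theorem F6353 : act 0 n3899 = n2882 := d3_1 D3899 (iv D2882) D2880
theorem F6354 : act 2 n3899 = n2886 := d10_1 D3899 (iv D2886) (iv F4648)
def n3900 : Q := act 2 n2881
theorem D3900 : act 2 n2881 = n3900 := rfl
theorem F6355 : act 0 n3900 = n3500 := d1_1 D3900 (iv F6352) F6349
theorem F6356 : act 1 n3900 = n3498 := d5_1 D3900 (iv D3498) F4155 (iv F3401) (iv F4650)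
theorem F6357 : act 5 n3900 = n3847 := d11_2 (iv F4651) D3900 (iv D3847)
theorem F6358 : act 3 n3900 = n3498 := d15_1 D3900 (iv D3498) (iv D2572) F3052 D2073 D2844 D3844 (iv F6351) F6349
def n3901 : Q := act 4 n2881
theorem D3901 : act 4 n2881 = n3901 := rfl
theorem F6359 : act 1 n3901 = n2883 := d7_1 D3901 (iv D2883) (iv F4650)
def n3902 : Q := act 3 n2882
theorem D3902 : act 3 n2882 = n3902 := rfl
theorem F6360 : act 1 n3902 = n2884 := d6_1 D3902 (iv D2884) (iv F4652)
def n3903 : Q := act 5 n2882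
theorem D3903 : act 5 n2882 = n3903 := rfl
theorem F6361 : act 1 n3903 = n2885 := d8_1 D3903 (iv D2885) (iv F4652)
theorem F6362 : act 2 n3903 = n2888 := d11_1 D3903 (iv D2888) (iv F4653)
theorem F6363 : act 4 n3903 = n3850 := d14_1 D3903 (iv D3850) (iv D2847) (iv F3399) D2882
def n3904 : Q := act 3 n2883
theorem D3904 : act 3 n2883 = n3904 := rfl
theorem F6364 : act 0 n3904 = n3530 := d2_1 D3904 (iv D3530) (iv F4654)
theorem F6365 : act 4 n3904 = n2884 := d12_2 D2883 D3904 (iv D2884) (iv D2101) D2100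
def n3905 : Q := act 5 n2883
theorem D3905 : act 5 n2883 = n3905 := rfl
theorem F6366 : act 0 n3905 = n3531 := d4_1 D3905 (iv D3531) (iv F4654)
theorem F6367 : act 2 n3905 = n3527 := d11_1 D3905 (iv D3527) (iv F4655)
def n3906 : Q := act 2 n2884
theorem D3906 : act 2 n2884 = n3906 := rfl
def n3907 : Q := act 5 n2884
theorem D3907 : act 5 n2884 = n3907 := rfl
theorem F6368 : act 3 n3907 = n2885 := d13_1 D3907 (iv D2885) D2884
def n3908 : Q := act 3 n2886
theorem D3908 : act 3 n2886 = n3908 := rfl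
theorem F6369 : act 0 n3908 = n2887 := d2_1 D3908 (iv D2887) (iv F4657)
theorem F6370 : act 1 n3908 = n3809 := d6_1 D3908 F6215 (iv F4658)
theorem F6371 : act 4 n3908 = n3766 := d12_2 D2886 D3908 (iv D3766) F4498 (iv F3405)
def n3909 : Q := act 5 n2886
theorem D3909 : act 5 n2886 = n3909 := rfl
theorem F6372 : act 0 n3909 = n2888 := d4_1 D3909 (iv D2888) (iv F4657)
theorem F6373 : act 1 n3909 = n3819 := d8_1 D3909 (iv D3819) (iv F4658)
theorem F6374 : act 4 n3909 = n3846 := d14_1 D3909 (iv D3846) (iv D2845) (iv F3406) D2886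
def n3910 : Q := act 2 n2887
theorem D3910 : act 2 n2887 = n3910 := rfl
theorem F6375 : act 4 n3910 = n3767 := d10_2 (iv F4660) D3910 (iv D3767)
def n3911 : Q := act 5 n2887
theorem D3911 : act 5 n2887 = n3911 := rfl
theorem F6376 : act 1 n3911 = n2890 := d8_1 D3911 (iv D2890) (iv F4659)
theorem F6377 : act 3 n3911 = n2888 := d13_1 D3911 (iv D2888) D2887
def n3912 : Q := act 1 n2889
theorem D3912 : act 1 n2889 = n3912 := rfl
theorem F6378 : act 4 n3912 = n3768 := d7_2 (iv F4664) D3912 (iv D3768)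
def n3913 : Q := act 3 n2889
theorem D3913 : act 3 n2889 = n3913 := rfl
theorem F6379 : act 0 n3913 = n3815 := d2_1 D3913 (iv D3815) (iv F4663)
theorem F6380 : act 4 n3913 = n3780 := d12_2 (iv F4664) D3913 (iv D3780) (iv D2797) (iv F4502)
def n3914 : Q := act 5 n2889
theorem D3914 : act 5 n2889 = n3914 := rfl
theorem F6381 : act 0 n3914 = n3816 := d4_1 D3914 (iv D3816) (iv F4663)
theorem F6382 : act 2 n3914 = n2890 := d11_1 D3914 (iv D2890) D2889
theorem F6383 : act 4 n3914 = n3779 := d14_1 D3914 (iv D3779) (iv D2796) (iv F4503) (iv F4664)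
def n3915 : Q := act 4 n2890
theorem D3915 : act 4 n2890 = n3915 := rfl
theorem F6384 : act 0 n3915 = n3672 := d3_1 D3915 F5985 (iv F4665)
theorem F6385 : act 2 n3915 = n3779 := d10_1 D3915 (iv F6383) F6382
theorem F6386 : act 3 n3915 = n3597 := d12_1 D3915 F5840 F4352 (iv F3412) (iv F4666)
theorem F6387 : act 5 n3915 = n3596 := d14_2 D2890 D3915 F5836 F4354 (iv F3409)
def n3916 : Q := act 2 n2891
theorem D3916 : act 2 n2891 = n3916 := rfl
theorem F6388 : act 0 n3916 = n3429 := d1_1 D3916 F5553 (iv F4667)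
theorem F6389 : act 1 n3916 = n3847 := d5_1 D3916 (iv D3847) F4602 F4569 (iv F4668)
theorem F6390 : act 3 n3916 = n3847 := d9_2 D2891 D3916 (iv D3847) (iv D2846) (iv D2074) (iv D1506) (iv F2230) D1878 D2573 D3500 (iv F6352) (iv D3898) F4648 F3405 (iv F3414)
theorem F6391 : act 5 n3916 = n3498 := d11_2 (iv F4669) D3916 (iv D3498)
def n3917 : Q := act 4 n2891
theorem D3917 : act 4 n2891 = n3917 := rfl
theorem F6392 : act 0 n3917 = n3432 := d3_1 D3917 (iv D3432) (iv F4667)
theorem F6393 : act 1 n3917 = n2893 := d7_1 D3917 (iv D2893) (iv F4668)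
def n3918 : Q := act 3 n2892
theorem D3918 : act 3 n2892 = n3918 := rfl
theorem F6394 : act 0 n3918 = n3453 := d2_1 D3918 (iv D3453) (iv F4670)
theorem F6395 : act 1 n3918 = n2894 := d6_1 D3918 (iv D2894) (iv F4671)
theorem F6396 : act 5 n3918 = n3264 := d13_2 (iv F4673) D3918 (iv D3264)
def n3919 : Q := act 3 n2893
theorem D3919 : act 3 n2893 = n3919 := rfl
theorem F6397 : act 0 n3919 = n2897 := d2_1 D3919 (iv D2897) (iv F4674)
theorem F6398 : act 4 n3919 = n2894 := d12_2 D2893 D3919 (iv D2894) (iv D2109) D2108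
theorem F6399 : act 2 n3285 = n3919 := d10_3 F6398 F4677 D3285
def n3920 : Q := act 5 n2893
theorem D3920 : act 5 n2893 = n3920 := rfl
theorem F6400 : act 0 n3920 = n2898 := d4_1 D3920 (iv D2898) (iv F4674)
theorem F6401 : act 4 n3920 = n3527 := d14_1 D3920 (iv D3527) (iv D2594) (iv F3417) D2893
def n3921 : Q := act 0 n2895
theorem D3921 : act 0 n2895 = n3921 := rfl
theorem F6402 : act 1 n3921 = n3844 := d0_2 D2895 D3921 F6271 F4602 F4568
theorem F6403 : act 2 n3921 = n3394 := d1_2 (iv F4678) D3921 F5501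
theorem F6404 : act 3 n3921 = n3843 := d2_2 F6229 D3921 F6269
theorem F6405 : act 5 n3921 = n3528 := d4_2 (iv F4679) D3921 (iv D3528)
def n3922 : Q := act 4 n2895
theorem D3922 : act 4 n2895 = n3922 := rfl
theorem F6406 : act 1 n3922 = n2896 := d7_1 D3922 (iv D2896) D2895
theorem F6407 : act 2 n3922 = n3395 := d10_1 D3922 (iv D3395) (iv F4678)
def n3923 : Q := act 3 n2896
theorem D3923 : act 3 n2896 = n3923 := rfl
def n3924 : Q := act 5 n2896
theorem D3924 : act 5 n2896 = n3924 := rfl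
theorem F6408 : act 2 n3924 = n2898 := d11_1 D3924 (iv D2898) (iv F4680)
theorem F6409 : act 4 n3924 = n3531 := d14_1 D3924 (iv D3531) (iv D2596) (iv F3421) D2896
def n3925 : Q := act 2 n2897
theorem D3925 : act 2 n2897 = n3925 := rfl
theorem F6410 : act 0 n3925 = n3285 := d1_1 D3925 F6399 F6397
theorem F6411 : act 4 n3925 = n2899 := d10_2 (iv F4682) D3925 (iv D2899)
def n3926 : Q := act 5 n2897
theorem D3926 : act 5 n2897 = n3926 := rfl
theorem F6412 : act 1 n3926 = n3486 := d8_1 D3926 (iv D3486) (iv F4681)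
theorem F6413 : act 3 n3926 = n2898 := d13_1 D3926 (iv D2898) D2897
theorem F6414 : act 4 n3926 = n3272 := d14_1 D3926 (iv D3272) F3894 (iv F3424) (iv F4682)
def n3927 : Q := act 1 n2899
theorem D3927 : act 1 n2899 = n3927 := rfl
theorem F6415 : act 2 n3927 = n3484 := d5_2 D2899 D3927 (iv D3484) (iv D2560) (iv F3423)
theorem F6416 : act 3 n3927 = n3277 := d6_2 (iv F4687) D3927 (iv D3277)
theorem F6417 : act 5 n3927 = n3273 := d8_2 (iv F4686) D3927 (iv D3273)
def n3928 : Q := act 0 n2900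
theorem D3928 : act 0 n2900 = n3928 := rfl
theorem F6418 : act 1 n3928 = n2909 := d0_2 D2900 D3928 (iv D2909) (iv D2119) (iv F3425)
theorem F6419 : act 2 n3928 = n2946 := d1_2 (iv F4688) D3928 (iv D2946)
theorem F6420 : act 4 n3928 = n2904 := d3_2 (iv F4689) D3928 (iv D2904)
def n3929 : Q := act 3 n2900
theorem D3929 : act 3 n2900 = n3929 := rfl
theorem F6421 : act 1 n3929 = n2901 := d6_1 D3929 (iv D2901) D2900
theorem F6422 : act 5 n3315 = n3929 := d8_0 F6421 (iv F4692) D3315
def n3930 : Q := act 5 n2900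
theorem D3930 : act 5 n2900 = n3930 := rfl
theorem F6423 : act 1 n3930 = n2902 := d8_1 D3930 (iv D2902) D2900
theorem F6424 : act 2 n3930 = n2948 := d11_1 D3930 (iv D2948) (iv F4688)
theorem F6425 : act 3 n3930 = n3315 := d13_1 D3930 F6422 (iv D3929)
def n3931 : Q := act 4 n2901
theorem D3931 : act 4 n2901 = n3931 := rfl
theorem F6426 : act 0 n3931 = n2913 := d3_1 D3931 (iv D2913) (iv F4690)
theorem F6427 : act 2 n3931 = n3318 := d10_1 D3931 (iv D3318) (iv F4691)
theorem F6428 : act 3 n3931 = n2907 := d12_1 D3931 (iv D2907) (iv D2116) (iv F3426) D2901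
def n3932 : Q := act 4 n2902
theorem D3932 : act 4 n2902 = n3932 := rfl
theorem F6429 : act 0 n3932 = n2915 := d3_1 D3932 (iv D2915) (iv F4693)
theorem F6430 : act 2 n3932 = n2903 := d10_1 D3932 (iv D2903) (iv F4694)
theorem F6431 : act 5 n3932 = n2908 := d14_2 D2902 D3932 (iv D2908) (iv D2117) (iv F3426)
def n3933 : Q := act 3 n2904
theorem D3933 : act 3 n2904 = n3933 := rfl
theorem F6432 : act 0 n3933 = n2905 := d2_1 D3933 (iv D2905) D2904
theorem F6433 : act 1 n3933 = n2916 := d6_1 D3933 (iv D2916) (iv F4700)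
theorem F6434 : act 5 n3933 = n3145 := d13_2 F4702 D3933 (iv D3145)
def n3934 : Q := act 4 n2905
theorem D3934 : act 4 n2905 = n3934 := rfl
theorem F6435 : act 1 n3934 = n2907 := d7_1 D3934 (iv D2907) (iv F4703)
def n3935 : Q := act 4 n2906
theorem D3935 : act 4 n2906 = n3935 := rfl
theorem F6436 : act 0 n3935 = n3146 := d3_1 D3935 (iv D3146) (iv F4704)
theorem F6437 : act 1 n3935 = n2908 := d7_1 D3935 (iv D2908) (iv F4705)
theorem F6438 : act 2 n3935 = n2956 := d10_1 D3935 (iv D2956) (iv F4706)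
def n3936 : Q := act 5 n2907
theorem D3936 : act 5 n2907 = n3936 := rfl
theorem F6439 : act 0 n3936 = n2921 := d4_1 D3936 (iv D2921) (iv F4707)
def n3937 : Q := act 3 n2908
theorem D3937 : act 3 n2908 = n3937 := rfl
theorem F6440 : act 0 n3937 = n2923 := d2_1 D3937 (iv D2923) (iv F4708)
def n3938 : Q := act 3 n2909
theorem D3938 : act 3 n2909 = n3938 := rfl
theorem F6441 : act 0 n3938 = n2910 := d2_1 D3938 (iv D2910) D2909
def n3939 : Q := act 5 n2909
theorem D3939 : act 5 n2909 = n3939 := rfl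
theorem F6442 : act 0 n3939 = n2911 := d4_1 D3939 (iv D2911) D2909
theorem F6443 : act 2 n3939 = n2930 := d11_1 D3939 (iv D2930) (iv F4710)
theorem F6444 : act 4 n3939 = n3149 := d14_1 D3939 (iv D3149) (iv D2310) (iv F3443) (iv F4711)
def n3940 : Q := act 2 n2910
theorem D3940 : act 2 n2910 = n3940 := rfl
def n3941 : Q := act 4 n2910
theorem D3941 : act 4 n2910 = n3941 := rfl
theorem F6445 : act 1 n3941 = n2913 := d7_1 D3941 (iv D2913) (iv F4712)
theorem F6446 : act 3 n3941 = n2918 := d12_1 D3941 (iv D2918) (iv D2124) (iv F3437) D2910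
def n3942 : Q := act 5 n2910
theorem D3942 : act 5 n2910 = n3942 := rfl
theorem F6447 : act 1 n3942 = n2914 := d8_1 D3942 (iv D2914) (iv F4712)
theorem F6448 : act 3 n3942 = n2911 := d13_1 D3942 (iv D2911) D2910
def n3943 : Q := act 1 n2912
theorem D3943 : act 1 n2912 = n3943 := rfl
theorem F6449 : act 3 n3943 = n3306 := d6_2 (iv F4717) D3943 F5352
theorem F6450 : act 5 n3943 = n3305 := d8_2 F4718 D3943 F5351
def n3944 : Q := act 4 n2912
theorem D3944 : act 4 n2912 = n3944 := rfl
theorem F6451 : act 0 n3944 = n3318 := d3_1 D3944 (iv D3318) (iv F4716)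
theorem F6452 : act 2 n3944 = n2913 := d10_1 D3944 (iv D2913) D2912
def n3945 : Q := act 5 n2913
theorem D3945 : act 5 n2913 = n3945 := rfl
theorem F6453 : act 3 n3945 = n2921 := d13_1 D3945 (iv D2921) (iv F4719)
def n3946 : Q := act 4 n2914
theorem D3946 : act 4 n2914 = n3946 := rfl
theorem F6454 : act 0 n3946 = n3316 := d3_1 D3946 (iv D3316) (iv F4720)
theorem F6455 : act 2 n3946 = n3307 := d10_1 D3946 (iv D3307) (iv F4721)
def n3947 : Q := act 3 n2915
theorem D3947 : act 3 n2915 = n3947 := rfl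
theorem F6456 : act 1 n3947 = n3156 := d6_1 D3947 F5161 (iv F4723)
theorem F6457 : act 5 n3947 = n2923 := d13_2 (iv F4725) D3947 (iv D2923)
def n3948 : Q := act 4 n2916
theorem D3948 : act 4 n2916 = n3948 := rfl
theorem F6458 : act 0 n3948 = n2918 := d3_1 D3948 (iv D2918) (iv F4726)
theorem F6459 : act 2 n3948 = n3130 := d10_1 D3948 (iv D3130) (iv F4728)
def n3949 : Q := act 1 n2917
theorem D3949 : act 1 n2917 = n3949 := rfl
theorem F6460 : act 2 n3949 = n2919 := d5_2 D2917 D3949 (iv D2919) (iv D2125) (iv F3444)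
theorem F6461 : act 3 n3949 = n3121 := d6_2 (iv F4731) D3949 (iv D3121)
theorem F6462 : act 5 n3949 = n3151 := d8_2 (iv F4730) D3949 (iv D3151)
def n3950 : Q := act 4 n2917
theorem D3950 : act 4 n2917 = n3950 := rfl
theorem F6463 : act 0 n3950 = n3130 := d3_1 D3950 (iv D3130) (iv F4729)
theorem F6464 : act 2 n3950 = n2918 := d10_1 D3950 (iv D2918) D2917
def n3951 : Q := act 5 n2918
theorem D3951 : act 5 n2918 = n3951 := rfl
theorem F6465 : act 1 n3951 = n2921 := d8_1 D3951 (iv D2921) (iv F4732)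
theorem F6466 : act 4 n3951 = n3154 := d14_1 D3951 (iv D3154) (iv D2314) (iv F3445) D2918
def n3952 : Q := act 4 n2919
theorem D3952 : act 4 n2919 = n3952 := rfl
theorem F6467 : act 1 n3952 = n2920 := d7_1 D3952 (iv D2920) D2919
def n3953 : Q := act 3 n2920
theorem D3953 : act 3 n2920 = n3953 := rfl
def n3954 : Q := act 5 n2920
theorem D3954 : act 5 n2920 = n3954 := rfl
theorem F6468 : act 2 n3954 = n2921 := d11_1 D3954 (iv D2921) (iv F4733)
def n3955 : Q := act 4 n2921
theorem D3955 : act 4 n2921 = n3955 := rfl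
theorem F6469 : act 1 n3955 = n3154 := d7_1 D3955 (iv F6466) F6465
theorem F6470 : act 5 n3955 = n2922 := d14_2 D2921 D3955 (iv D2922) (iv D2127) D2126
def n3956 : Q := act 3 n2922
theorem D3956 : act 3 n2922 = n3956 := rfl
theorem F6471 : act 1 n3956 = n3153 := d6_1 D3956 (iv D3153) (iv F4734)
theorem F6472 : act 4 n3956 = n2923 := d12_2 D2922 D3956 (iv D2923) (iv D2128) (iv F3447)
def n3957 : Q := act 2 n2923
theorem D3957 : act 2 n2923 = n3957 := rfl
def n3958 : Q := act 1 n2924
theorem D3958 : act 1 n2924 = n3958 := rfl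
theorem F6473 : act 2 n3958 = n2934 := d5_2 D2924 D3958 (iv D2934) (iv D2138) (iv F3450)
theorem F6474 : act 4 n3958 = n2925 := d7_2 (iv F4736) D3958 (iv D2925)
theorem F6475 : act 5 n3958 = n3314 := d8_2 (iv F4737) D3958 F5362
def n3959 : Q := act 3 n2924
theorem D3959 : act 3 n2924 = n3959 := rfl
theorem F6476 : act 5 n3959 = n3319 := d13_2 (iv F4737) D3959 (iv D3319)
def n3960 : Q := act 0 n2925
theorem D3960 : act 0 n2925 = n3960 := rfl
theorem F6477 : act 2 n3960 = n2935 := d1_2 (iv F4738) D3960 (iv D2935)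
theorem F6478 : act 5 n3960 = n2926 := d4_2 (iv F4739) D3960 (iv D2926)
def n3961 : Q := act 3 n2926
theorem D3961 : act 3 n2926 = n3961 := rfl
theorem F6479 : act 0 n3961 = n2927 := d2_1 D3961 (iv D2927) D2926
def n3962 : Q := act 2 n2927
theorem D3962 : act 2 n2927 = n3962 := rfl
def n3963 : Q := act 4 n2927
theorem D3963 : act 4 n2927 = n3963 := rfl
theorem F6480 : act 1 n3963 = n2928 := d7_1 D3963 (iv D2928) (iv F4742)
theorem F6481 : act 3 n3963 = n3312 := d12_1 D3963 (iv D3312) (iv D2434) (iv F3455) D2927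
def n3964 : Q := act 5 n2928
theorem D3964 : act 5 n2928 = n3964 := rfl
theorem F6482 : act 3 n3964 = n3317 := d13_1 D3964 (iv D3317) (iv F4743)
def n3965 : Q := act 2 n2929
theorem D3965 : act 2 n2929 = n3965 := rfl
theorem F6483 : act 0 n3965 = n2931 := d1_1 D3965 (iv D2931) (iv F4744)
theorem F6484 : act 4 n3965 = n3150 := d10_2 (iv F4746) D3965 (iv D3150)
def n3966 : Q := act 5 n2929
theorem D3966 : act 5 n2929 = n3966 := rfl
theorem F6485 : act 0 n3966 = n2932 := d4_1 D3966 (iv D2932) (iv F4744)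
theorem F6486 : act 1 n3966 = n3009 := d8_1 D3966 (iv D3009) (iv F4745)
theorem F6487 : act 3 n3966 = n2930 := d13_1 D3966 (iv D2930) D2929
theorem F6488 : act 4 n3966 = n3009 := d14_1 D3966 (iv D3009) D3008 (iv F4902) (iv F4746)
def n3967 : Q := act 1 n2931
theorem D3967 : act 1 n2931 = n3967 := rfl
theorem F6489 : act 2 n3967 = n2933 := d5_2 D2931 D3967 (iv D2933) (iv D2136) (iv F3458)
theorem F6490 : act 4 n3967 = n3157 := d7_2 (iv F4750) D3967 (iv D3157)
theorem F6491 : act 5 n3004 = n3967 := d11_0 F6489 F4756 D3004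
def n3968 : Q := act 3 n2931
theorem D3968 : act 3 n2931 = n3968 := rfl
def n3969 : Q := act 5 n2931
theorem D3969 : act 5 n2931 = n3969 := rfl
theorem F6492 : act 1 n3969 = n3004 := d8_1 D3969 F6491 (iv D3967)
theorem F6493 : act 2 n3969 = n2932 := d11_1 D3969 (iv D2932) D2931
theorem F6494 : act 4 n3969 = n3014 := d14_1 D3969 (iv D3014) D3013 (iv F4912) (iv F4750)
def n3970 : Q := act 0 n2933
theorem D3970 : act 0 n2933 = n3970 := rfl
theorem F6495 : act 1 n3970 = n3015 := d0_2 D2933 D3970 (iv D3015) (iv D2196) (iv F3462)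
theorem F6496 : act 3 n3970 = n3003 := d2_2 (iv F4754) D3970 F4889
theorem F6497 : act 4 n3970 = n3159 := d3_2 (iv F4755) D3970 (iv D3159)
theorem F6498 : act 5 n3970 = n3002 := d4_2 (iv F4756) D3970 F4886
def n3971 : Q := act 0 n2934
theorem D3971 : act 0 n2934 = n3971 := rfl
theorem F6499 : act 1 n3971 = n3025 := d0_2 D2934 D3971 (iv D3025) (iv D2207) (iv F3470)
theorem F6500 : act 3 n3971 = n3322 := d2_2 (iv F4757) D3971 F5367
theorem F6501 : act 4 n3971 = n2935 := d3_2 (iv F4758) D3971 (iv D2935)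
theorem F6502 : act 5 n3971 = n3322 := d4_2 (iv F4759) D3971 F5367
def n3972 : Q := act 2 n2936
theorem D3972 : act 2 n2936 = n3972 := rfl
theorem F6503 : act 0 n3972 = n2937 := d1_1 D3972 (iv D2937) (iv F4763)
theorem F6504 : act 5 n3972 = n3038 := d11_2 (iv F4765) D3972 F4963
def n3973 : Q := act 4 n2936
theorem D3973 : act 4 n2936 = n3973 := rfl
theorem F6505 : act 0 n3973 = n2938 := d3_1 D3973 (iv D2938) (iv F4763)
theorem F6506 : act 1 n3973 = n3027 := d7_1 D3973 (iv D3027) (iv F4764)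
theorem F6507 : act 3 n3973 = n3321 := d12_1 D3973 (iv D3321) (iv D2440) (iv F3477) D2936
theorem F6508 : act 5 n3973 = n3321 := d14_2 (iv F4765) D3973 (iv D3321) F4973 (iv D3044)
def n3974 : Q := act 3 n2937
theorem D3974 : act 3 n2937 = n3974 := rfl
theorem F6509 : act 1 n3974 = n3032 := d6_1 D3974 (iv D3032) (iv F4766)
theorem F6510 : act 5 n3974 = n3039 := d13_2 (iv F4767) D3974 (iv D3039)
def n3975 : Q := act 4 n2937
theorem D3975 : act 4 n2937 = n3975 := rfl
theorem F6511 : act 1 n3975 = n3033 := d7_1 D3975 (iv D3033) (iv F4766)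
theorem F6512 : act 2 n3975 = n2938 := d10_1 D3975 (iv D2938) D2937
theorem F6513 : act 5 n3975 = n3324 := d14_2 (iv F4767) D3975 (iv D3324) F4967 (iv D3040)
def n3976 : Q := act 2 n2939
theorem D3976 : act 2 n2939 = n3976 := rfl
theorem F6514 : act 0 n3976 = n2940 := d1_1 D3976 (iv D2940) (iv F4771)
theorem F6515 : act 5 n3976 = n2942 := d11_2 (iv F4773) D3976 (iv D2942)
def n3977 : Q := act 4 n2939
theorem D3977 : act 4 n2939 = n3977 := rfl
theorem F6516 : act 0 n3977 = n2941 := d3_1 D3977 (iv D2941) (iv F4771)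
theorem F6517 : act 1 n3977 = n3031 := d7_1 D3977 (iv D3031) (iv F4772)
theorem F6518 : act 3 n3977 = n3087 := d12_1 D3977 (iv D3087) (iv D2262) (iv F3485) D2939
theorem F6519 : act 5 n3977 = n3328 := d14_2 (iv F4773) D3977 (iv D3328) (iv D2446) (iv F3495)
def n3978 : Q := act 3 n2940
theorem D3978 : act 3 n2940 = n3978 := rfl
theorem F6520 : act 1 n3978 = n3028 := d6_1 D3978 (iv D3028) (iv F4774)
theorem F6521 : act 5 n3978 = n2944 := d13_2 (iv F4775) D3978 (iv D2944)
def n3979 : Q := act 4 n2940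
theorem D3979 : act 4 n2940 = n3979 := rfl
theorem F6522 : act 1 n3979 = n3029 := d7_1 D3979 (iv D3029) (iv F4774)
theorem F6523 : act 2 n3979 = n2941 := d10_1 D3979 (iv D2941) D2940
theorem F6524 : act 5 n3979 = n3334 := d14_2 (iv F4775) D3979 (iv D3334) (iv D2449) (iv F3496)
def n3980 : Q := act 1 n2942
theorem D3980 : act 1 n2942 = n3980 := rfl
theorem F6525 : act 2 n3980 = n3035 := d5_2 D2942 D3980 (iv D3035) (iv D2216) (iv F3494)
theorem F6526 : act 4 n3980 = n3325 := d7_2 (iv F4780) D3980 (iv D3325)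
def n3981 : Q := act 3 n2942
theorem D3981 : act 3 n2942 = n3981 := rfl
theorem F6527 : act 0 n3981 = n2944 := d2_1 D3981 (iv D2944) (iv F4779)
def n3982 : Q := act 0 n2943
theorem D3982 : act 0 n2943 = n3982 := rfl
theorem F6528 : act 2 n3982 = n2945 := d1_2 (iv F4781) D3982 (iv D2945)
theorem F6529 : act 4 n3982 = n3329 := d3_2 (iv F4782) D3982 (iv D3329)
theorem F6530 : act 5 n3982 = n3026 := d4_2 (iv F4783) D3982 F4943
def n3983 : Q := act 3 n2943
theorem D3983 : act 3 n2943 = n3983 := rfl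
theorem F6531 : act 1 n3983 = n2944 := d6_1 D3983 (iv D2944) D2943
theorem F6532 : act 5 n3983 = n3028 := d13_2 (iv F4783) D3983 (iv D3028)
def n3984 : Q := act 2 n2944
theorem D3984 : act 2 n2944 = n3984 := rfl
def n3985 : Q := act 4 n2944
theorem D3985 : act 4 n2944 = n3985 := rfl
theorem F6533 : act 3 n3985 = n3332 := d12_1 D3985 (iv D3332) (iv D2448) (iv F3496) D2944
def n3986 : Q := act 3 n2946
theorem D3986 : act 3 n2946 = n3986 := rfl
theorem F6534 : act 0 n3986 = n2947 := d2_1 D3986 (iv D2947) D2946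
theorem F6535 : act 1 n3986 = n2968 := d6_1 D3986 (iv D2968) (iv F4788)
def n3987 : Q := act 5 n2946
theorem D3987 : act 5 n2946 = n3987 := rfl
theorem F6536 : act 0 n3987 = n2948 := d4_1 D3987 (iv D2948) D2946
theorem F6537 : act 1 n3987 = n2969 := d8_1 D3987 (iv D2969) (iv F4788)
def n3988 : Q := act 2 n2947
theorem D3988 : act 2 n2947 = n3988 := rfl
def n3989 : Q := act 4 n2947
theorem D3989 : act 4 n2947 = n3989 := rfl
theorem F6538 : act 1 n3989 = n2950 := d7_1 D3989 (iv D2950) (iv F4790)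
theorem F6539 : act 3 n3989 = n2955 := d12_1 D3989 (iv D2955) (iv D2154) (iv F3500) D2947
def n3990 : Q := act 5 n2947
theorem D3990 : act 5 n2947 = n3990 := rfl
theorem F6540 : act 1 n3990 = n2951 := d8_1 D3990 (iv D2951) (iv F4790)
theorem F6541 : act 3 n3990 = n2948 := d13_1 D3990 (iv D2948) D2947
def n3991 : Q := act 4 n2948
theorem D3991 : act 4 n2948 = n3991 := rfl
theorem F6542 : act 1 n3991 = n2952 := d7_1 D3991 (iv D2952) (iv F4791)
theorem F6543 : act 5 n3991 = n2956 := d14_2 D2948 D3991 (iv D2956) (iv D2155) (iv F3500)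
def n3992 : Q := act 1 n2949
theorem D3992 : act 1 n2949 = n3992 := rfl
theorem F6544 : act 3 n3992 = n2965 := d6_2 (iv F4793) D3992 F4828
theorem F6545 : act 5 n3992 = n2964 := d8_2 F4794 D3992 F4827
def n3993 : Q := act 4 n2949
theorem D3993 : act 4 n2949 = n3993 := rfl
theorem F6546 : act 0 n3993 = n2975 := d3_1 D3993 (iv D2975) (iv F4792)
theorem F6547 : act 2 n3993 = n2950 := d10_1 D3993 (iv D2950) D2949
def n3994 : Q := act 5 n2950
theorem D3994 : act 5 n2950 = n3994 := rfl
theorem F6548 : act 0 n3994 = n2976 := d4_1 D3994 (iv D2976) (iv F4795)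
theorem F6549 : act 3 n3994 = n2957 := d13_1 D3994 (iv D2957) (iv F4796)
def n3995 : Q := act 4 n2951
theorem D3995 : act 4 n2951 = n3995 := rfl
theorem F6550 : act 0 n3995 = n2977 := d3_1 D3995 (iv D2977) (iv F4797)
theorem F6551 : act 2 n3995 = n2966 := d10_1 D3995 (iv D2966) (iv F4798)
def n3996 : Q := act 3 n2952
theorem D3996 : act 3 n2952 = n3996 := rfl
theorem F6552 : act 0 n3996 = n2978 := d2_1 D3996 (iv D2978) (iv F4800)
theorem F6553 : act 5 n3996 = n2958 := d13_2 (iv F4802) D3996 (iv D2958)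
def n3997 : Q := act 4 n2953
theorem D3997 : act 4 n2953 = n3997 := rfl
theorem F6554 : act 0 n3997 = n2955 := d3_1 D3997 (iv D2955) (iv F4803)
theorem F6555 : act 1 n3997 = n2980 := d7_1 D3997 (iv D2980) (iv F4804)
def n3998 : Q := act 4 n2954
theorem D3998 : act 4 n2954 = n3998 := rfl
theorem F6556 : act 0 n3998 = n2956 := d3_1 D3998 (iv D2956) (iv F4806)
theorem F6557 : act 1 n3998 = n2982 := d7_1 D3998 (iv D2982) (iv F4807)
theorem F6558 : act 2 n3998 = n3146 := d10_1 D3998 (iv D3146) (iv F4808)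
def n3999 : Q := act 5 n2955
theorem D3999 : act 5 n2955 = n3999 := rfl
theorem F6559 : act 1 n3999 = n2957 := d8_1 D3999 (iv D2957) (iv F4810)
theorem F6560 : act 4 n3999 = n3064 := d14_1 D3999 (iv D3064) (iv D2240) F3508 D2955
def n4000 : Q := act 3 n2956
theorem D4000 : act 3 n2956 = n4000 := rfl
theorem F6561 : act 1 n4000 = n2958 := d6_1 D4000 (iv D2958) (iv F4811)
theorem F6562 : act 4 n4000 = n3063 := d12_2 D2956 D4000 (iv D3063) (iv D2240) (iv F3510)
def n4001 : Q := act 2 n2958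
theorem D4001 : act 2 n2958 = n4001 := rfl
theorem F6563 : act 0 n4001 = n2995 := d1_1 D4001 (iv D2995) (iv F4815)
theorem F6564 : act 4 n4001 = n3065 := d10_2 (iv F4816) D4001 (iv D3065)
def n4002 : Q := act 0 n2959
theorem D4002 : act 0 n2959 = n4002 := rfl
theorem F6565 : act 1 n4002 = n3291 := d0_2 D2959 D4002 (iv D3291) (iv D2417) (iv F3515)
theorem F6566 : act 2 n4002 = n2963 := d1_2 (iv F4817) D4002 (iv D2963)
def n4003 : Q := act 3 n2959
theorem D4003 : act 3 n2959 = n4003 := rfl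
theorem F6567 : act 1 n4003 = n2960 := d6_1 D4003 (iv D2960) D2959
theorem F6568 : act 5 n3296 = n4003 := d8_0 F6567 (iv F4820) D3296
def n4004 : Q := act 5 n2959
theorem D4004 : act 5 n2959 = n4004 := rfl
theorem F6569 : act 1 n4004 = n2961 := d8_1 D4004 (iv D2961) D2959
theorem F6570 : act 2 n4004 = n2965 := d11_1 D4004 (iv D2965) (iv F4817)
theorem F6571 : act 3 n4004 = n3296 := d13_1 D4004 F6568 (iv D4003)
def n4005 : Q := act 4 n2960
theorem D4005 : act 4 n2960 = n4005 := rfl
theorem F6572 : act 0 n4005 = n3294 := d3_1 D4005 (iv D3294) (iv F4818)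
theorem F6573 : act 2 n4005 = n3299 := d10_1 D4005 (iv D3299) (iv F4819)
def n4006 : Q := act 4 n2961
theorem D4006 : act 4 n2961 = n4006 := rfl
theorem F6574 : act 0 n4006 = n3295 := d3_1 D4006 (iv D3295) (iv F4821)
theorem F6575 : act 2 n4006 = n2962 := d10_1 D4006 (iv D2962) (iv F4822)
def n4007 : Q := act 3 n2963
theorem D4007 : act 3 n2963 = n4007 := rfl
theorem F6576 : act 0 n4007 = n2964 := d2_1 D4007 (iv D2964) D2963
def n4008 : Q := act 5 n2963
theorem D4008 : act 5 n2963 = n4008 := rfl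
theorem F6577 : act 0 n4008 = n2965 := d4_1 D4008 (iv D2965) D2963
def n4009 : Q := act 2 n2964
theorem D4009 : act 2 n2964 = n4009 := rfl
def n4010 : Q := act 4 n2964
theorem D4010 : act 4 n2964 = n4010 := rfl
theorem F6578 : act 1 n4010 = n2966 := d7_1 D4010 (iv D2966) (iv F4827)
def n4011 : Q := act 4 n2965
theorem D4011 : act 4 n2965 = n4011 := rfl
theorem F6579 : act 1 n4011 = n2967 := d7_1 D4011 (iv D2967) (iv F4828)
def n4012 : Q := act 5 n2966
theorem D4012 : act 5 n2966 = n4012 := rfl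
def n4013 : Q := act 3 n2967
theorem D4013 : act 3 n2967 = n4013 := rfl
def n4014 : Q := act 2 n2968
theorem D4014 : act 2 n2968 = n4014 := rfl
theorem F6580 : act 0 n4014 = n2970 := d1_1 D4014 (iv D2970) (iv F4830)
def n4015 : Q := act 4 n2968
theorem D4015 : act 4 n2968 = n4015 := rfl
theorem F6581 : act 0 n4015 = n2971 := d3_1 D4015 (iv D2971) (iv F4830)
theorem F6582 : act 3 n4015 = n2980 := d12_1 D4015 (iv D2980) (iv D2171) (iv F3521) D2968
def n4016 : Q := act 5 n2968
theorem D4016 : act 5 n2968 = n4016 := rfl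
theorem F6583 : act 0 n4016 = n2972 := d4_1 D4016 (iv D2972) (iv F4830)
theorem F6584 : act 3 n4016 = n2969 := d13_1 D4016 (iv D2969) D2968
def n4017 : Q := act 4 n2969
theorem D4017 : act 4 n2969 = n4017 := rfl
theorem F6585 : act 0 n4017 = n2973 := d3_1 D4017 (iv D2973) (iv F4831)
theorem F6586 : act 2 n4017 = n3010 := d10_1 D4017 (iv D3010) (iv F4832)
theorem F6587 : act 5 n4017 = n2982 := d14_2 D2969 D4017 (iv D2982) (iv D2172) (iv F3521)
def n4018 : Q := act 1 n2970
theorem D4018 : act 1 n2970 = n4018 := rfl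
theorem F6588 : act 2 n4018 = n2974 := d5_2 D2970 D4018 (iv D2974) (iv D2167) (iv F3522)
def n4019 : Q := act 3 n2970
theorem D4019 : act 3 n2970 = n4019 := rfl
def n4020 : Q := act 4 n2970
theorem D4020 : act 4 n2970 = n4020 := rfl
theorem F6589 : act 2 n4020 = n2971 := d10_1 D4020 (iv D2971) D2970
def n4021 : Q := act 5 n2970
theorem D4021 : act 5 n2970 = n4021 := rfl
theorem F6590 : act 2 n4021 = n2972 := d11_1 D4021 (iv D2972) D2970
def n4022 : Q := act 5 n2971
theorem D4022 : act 5 n2971 = n4022 := rfl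
theorem F6591 : act 1 n4022 = n2976 := d8_1 D4022 (iv D2976) (iv F4833)
theorem F6592 : act 3 n4022 = n2987 := d13_1 D4022 (iv D2987) (iv F4834)
def n4023 : Q := act 4 n2972
theorem D4023 : act 4 n2972 = n4023 := rfl
theorem F6593 : act 1 n4023 = n2977 := d7_1 D4023 (iv D2977) (iv F4835)
def n4024 : Q := act 3 n2973
theorem D4024 : act 3 n2973 = n4024 := rfl
theorem F6594 : act 1 n4024 = n2978 := d6_1 D4024 (iv D2978) (iv F4837)
theorem F6595 : act 5 n4024 = n2989 := d13_2 (iv F4839) D4024 (iv D2989)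
def n4025 : Q := act 0 n2974
theorem D4025 : act 0 n2974 = n4025 := rfl
def n4026 : Q := act 4 n2974
theorem D4026 : act 4 n2974 = n4026 := rfl
theorem F6596 : act 1 n4026 = n2975 := d7_1 D4026 (iv D2975) D2974
def n4027 : Q := act 3 n2975
theorem D4027 : act 3 n2975 = n4027 := rfl
def n4028 : Q := act 5 n2975
theorem D4028 : act 5 n2975 = n4028 := rfl
theorem F6597 : act 2 n4028 = n2976 := d11_1 D4028 (iv D2976) (iv F4840)
def n4029 : Q := act 4 n2976
theorem D4029 : act 4 n2976 = n4029 := rfl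
theorem F6598 : act 5 n4029 = n2977 := d14_2 D2976 D4029 (iv D2977) (iv D2169) D2168
def n4030 : Q := act 3 n2977
theorem D4030 : act 3 n2977 = n4030 := rfl
theorem F6599 : act 4 n4030 = n2978 := d12_2 D2977 D4030 (iv D2978) (iv D2170) (iv F3526)
def n4031 : Q := act 2 n2978
theorem D4031 : act 2 n2978 = n4031 := rfl
theorem F6600 : act 5 n4031 = n2995 := d11_2 (iv F4842) D4031 (iv D2995)
def n4032 : Q := act 4 n2979
theorem D4032 : act 4 n2979 = n4032 := rfl
theorem F6601 : act 0 n4032 = n2985 := d3_1 D4032 (iv D2985) (iv F4843)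
theorem F6602 : act 2 n4032 = n2980 := d10_1 D4032 (iv D2980) D2979
def n4033 : Q := act 5 n2980
theorem D4033 : act 5 n2980 = n4033 := rfl
theorem F6603 : act 0 n4033 = n2987 := d4_1 D4033 (iv D2987) (iv F4845)
def n4034 : Q := act 4 n2981
theorem D4034 : act 4 n2981 = n4034 := rfl
theorem F6604 : act 0 n4034 = n2988 := d3_1 D4034 (iv D2988) (iv F4846)
theorem F6605 : act 1 n4034 = n3062 := d7_1 D4034 (iv D3062) (iv F4847)
def n4035 : Q := act 3 n2982
theorem D4035 : act 3 n2982 = n4035 := rfl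
theorem F6606 : act 0 n4035 = n2989 := d2_1 D4035 (iv D2989) (iv F4849)
def n4036 : Q := act 3 n2983
theorem D4036 : act 3 n2983 = n4036 := rfl
theorem F6607 : act 1 n4036 = n2984 := d6_1 D4036 (iv D2984) D2983
theorem F6608 : act 5 n4036 = n3053 := d13_2 F4852 D4036 (iv D3053)
def n4037 : Q := act 4 n2983
theorem D4037 : act 4 n2983 = n4037 := rfl
theorem F6609 : act 1 n4037 = n2985 := d7_1 D4037 (iv D2985) D2983
theorem F6610 : act 2 n4037 = n2990 := d10_1 D4037 (iv D2990) (iv F4851)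
def n4038 : Q := act 4 n2984
theorem D4038 : act 4 n2984 = n4038 := rfl
theorem F6611 : act 0 n4038 = n3076 := d3_1 D4038 (iv D3076) (iv F4853)
theorem F6612 : act 2 n4038 = n3075 := d10_1 D4038 (iv D3075) (iv F4854)
def n4039 : Q := act 3 n2985
theorem D4039 : act 3 n2985 = n4039 := rfl
def n4040 : Q := act 5 n2985
theorem D4040 : act 5 n2985 = n4040 := rfl
theorem F6613 : act 2 n4040 = n2987 := d11_1 D4040 (iv D2987) (iv F4855)
def n4041 : Q := act 4 n2986
theorem D4041 : act 4 n2986 = n4041 := rfl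
theorem F6614 : act 1 n4041 = n3054 := d7_1 D4041 (iv D3054) (iv F4856)
theorem F6615 : act 2 n4041 = n2988 := d10_1 D4041 (iv D2988) (iv F4857)
def n4042 : Q := act 4 n2987
theorem D4042 : act 4 n2987 = n4042 := rfl
theorem F6616 : act 1 n4042 = n2993 := d7_1 D4042 (iv D2993) (iv F4858)
theorem F6617 : act 5 n4042 = n2988 := d14_2 D2987 D4042 (iv D2988) (iv D2175) D2174
def n4043 : Q := act 3 n2988
theorem D4043 : act 3 n2988 = n4043 := rfl
theorem F6618 : act 1 n4043 = n2994 := d6_1 D4043 (iv D2994) (iv F4859)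
theorem F6619 : act 4 n4043 = n2989 := d12_2 D2988 D4043 (iv D2989) (iv D2176) (iv F3534)
def n4044 : Q := act 2 n2989
theorem D4044 : act 2 n2989 = n4044 := rfl
def n4045 : Q := act 3 n2990
theorem D4045 : act 3 n2990 = n4045 := rfl
theorem F6620 : act 1 n4045 = n2991 := d6_1 D4045 (iv D2991) (iv F4861)
theorem F6621 : act 4 n4045 = n3056 := d12_2 D2990 D4045 (iv D3056) (iv D2232) (iv F3537)
def n4046 : Q := act 5 n2990
theorem D4046 : act 5 n2990 = n4046 := rfl
theorem F6622 : act 1 n4046 = n2992 := d8_1 D4046 (iv D2992) (iv F4861)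
theorem F6623 : act 4 n4046 = n3055 := d14_1 D4046 (iv D3055) (iv D2231) (iv F3538) D2990
def n4047 : Q := act 5 n2991
theorem D4047 : act 5 n2991 = n4047 := rfl
theorem F6624 : act 0 n4047 = n3067 := d4_1 D4047 F5003 (iv F4862)
theorem F6625 : act 3 n4047 = n2992 := d13_1 D4047 (iv D2992) D2991
def n4048 : Q := act 3 n2993
theorem D4048 : act 3 n2993 = n4048 := rfl
theorem F6626 : act 0 n4048 = n3066 := d2_1 D4048 F5002 (iv F4867)
theorem F6627 : act 5 n4048 = n2994 := d13_2 (iv F4869) D4048 (iv D2994)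
def n4049 : Q := act 2 n2994
theorem D4049 : act 2 n2994 = n4049 := rfl
theorem F6628 : act 0 n4049 = n3065 := d1_1 D4049 (iv D3065) (iv F4870)
theorem F6629 : act 4 n4049 = n2995 := d10_2 (iv F4871) D4049 (iv D2995)
def n4050 : Q := act 1 n2995
theorem D4050 : act 1 n2995 = n4050 := rfl
def n4051 : Q := act 3 n2995
theorem D4051 : act 3 n2995 = n4051 := rfl
def n4052 : Q := act 2 n2996
theorem D4052 : act 2 n2996 = n4052 := rfl
def n4053 : Q := act 5 n2996
theorem D4053 : act 5 n2996 = n4053 := rfl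
theorem F6630 : act 1 n4053 = n3000 := d8_1 D4053 (iv D3000) (iv F4872)
theorem F6631 : act 3 n4053 = n2997 := d13_1 D4053 (iv D2997) D2996
def n4054 : Q := act 4 n2997
theorem D4054 : act 4 n2997 = n4054 := rfl
theorem F6632 : act 0 n4054 = n3196 := d3_1 D4054 (iv F6009) F6006
theorem F6633 : act 1 n4054 = n3001 := d7_1 D4054 (iv D3001) (iv F4873)
theorem F6634 : act 2 n4054 = n3005 := d10_1 D4054 (iv D3005) (iv F4874)
theorem F6635 : act 5 n4054 = n3109 := d14_2 D2997 D4054 (iv D3109) F3719 (iv F3544)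
def n4055 : Q := act 1 n2998
theorem D4055 : act 1 n2998 = n4055 := rfl
theorem F6636 : act 3 n4055 = n3293 := d6_2 (iv F4876) D4055 F5340
theorem F6637 : act 5 n4055 = n3292 := d8_2 F4877 D4055 F5339
def n4056 : Q := act 4 n2998
theorem D4056 : act 4 n2998 = n4056 := rfl
theorem F6638 : act 0 n4056 = n3297 := d3_1 D4056 (iv D3297) (iv F4875)
theorem F6639 : act 2 n4056 = n2999 := d10_1 D4056 (iv D2999) D2998
def n4057 : Q := act 5 n2999
theorem D4057 : act 5 n2999 = n4057 := rfl
theorem F6640 : act 0 n4057 = n3298 := d4_1 D4057 (iv D3298) (iv F4878)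
theorem F6641 : act 3 n4057 = n3286 := d13_1 D4057 (iv D3286) (iv F4879)
def n4058 : Q := act 4 n3000
theorem D4058 : act 4 n3000 = n4058 := rfl
theorem F6642 : act 0 n4058 = n3299 := d3_1 D4058 (iv D3299) (iv F4880)
theorem F6643 : act 2 n4058 = n3294 := d10_1 D4058 (iv D3294) (iv F4881)
def n4059 : Q := act 3 n3001
theorem D4059 : act 3 n3001 = n4059 := rfl
theorem F6644 : act 0 n4059 = n3203 := d2_1 D4059 F5226 (iv F4883)
theorem F6645 : act 5 n4059 = n3199 := d13_2 (iv F4885) D4059 (iv D3199)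
def n4060 : Q := act 2 n3002
theorem D4060 : act 2 n3002 = n4060 := rfl
theorem F6646 : act 0 n4060 = n3004 := d1_1 D4060 (iv D3004) (iv F4886)
theorem F6647 : act 4 n4060 = n3302 := d10_2 (iv F4888) D4060 (iv D3302)
def n4061 : Q := act 4 n3003
theorem D4061 : act 4 n3003 = n4061 := rfl
theorem F6648 : act 0 n4061 = n3005 := d3_1 D4061 (iv D3005) (iv F4889)
theorem F6649 : act 1 n4061 = n3108 := d7_1 D4061 F5081 (iv F4890)
theorem F6650 : act 2 n4061 = n3196 := d10_1 D4061 (iv F6009) F6008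
theorem F6651 : act 5 n4061 = n3106 := d14_2 D3003 D4061 (iv D3106) F3709 (iv F3553)
def n4062 : Q := act 3 n3004
theorem D4062 : act 3 n3004 = n4062 := rfl
def n4063 : Q := act 3 n3005
theorem D4063 : act 3 n3005 = n4063 := rfl
theorem F6652 : act 1 n4063 = n3006 := d6_1 D4063 (iv D3006) (iv F4892)
theorem F6653 : act 4 n4063 = n3160 := d12_2 D3005 D4063 (iv D3160) (iv F4755) F4754
theorem F6654 : act 5 n4063 = n3110 := d13_2 (iv F4893) D4063 (iv D3110)
def n4064 : Q := act 1 n3007
theorem D4064 : act 1 n3007 = n4064 := rfl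
def n4065 : Q := act 3 n3007
theorem D4065 : act 3 n3007 = n4065 := rfl
theorem F6655 : act 0 n4065 = n3012 := d2_1 D4065 (iv D3012) (iv F4898)
def n4066 : Q := act 4 n3007
theorem D4066 : act 4 n3007 = n4066 := rfl
theorem F6656 : act 0 n4066 = n3013 := d3_1 D4066 (iv D3013) (iv F4898)
theorem F6657 : act 2 n4066 = n3008 := d10_1 D4066 (iv D3008) D3007
theorem F6658 : act 5 n3150 = n4066 := d11_0 F6657 (iv F4902) D3150
def n4067 : Q := act 5 n3007
theorem D4067 : act 5 n3007 = n4067 := rfl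
theorem F6659 : act 0 n4067 = n3014 := d4_1 D4067 (iv D3014) (iv F4898)
theorem F6660 : act 2 n4067 = n3009 := d11_1 D4067 (iv D3009) D3007
def n4068 : Q := act 0 n3011
theorem D4068 : act 0 n3011 = n4068 := rfl
theorem F6661 : act 2 n4068 = n3015 := d1_2 (iv F4909) D4068 (iv D3015)
theorem F6662 : act 5 n4068 = n3302 := d4_2 F4910 D4068 F5349
theorem F6663 : act 3 n3331 = n4068 := d15_7 (iv D2428) (iv D1768) F2083 D1289 D1785 D2448 D3331 F6662 F5349
def n4069 : Q := act 3 n3011
theorem D4069 : act 3 n3011 = n4069 := rfl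
theorem F6664 : act 0 n4069 = n3331 := d2_1 D4069 F6663 (iv D4068)
theorem F6665 : act 1 n4069 = n3012 := d6_1 D4069 (iv D3012) D3011
theorem F6666 : act 5 n4069 = n3303 := d13_2 F4910 D4069 (iv D3303)
theorem F6667 : act 2 n4069 = n3326 := d15_2 (iv F4909) D4069 (iv D3326) (iv D2445) (iv D1783) (iv F2867) D2426 (iv F4916) (iv D3015)
def n4070 : Q := act 4 n3011
theorem D4070 : act 4 n3011 = n4070 := rfl
theorem F6668 : act 1 n4070 = n3013 := d7_1 D4070 (iv D3013) D3011
theorem F6669 : act 2 n4070 = n3016 := d10_1 D4070 (iv D3016) (iv F4909)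
theorem F6670 : act 5 n4070 = n3157 := d14_2 F4910 D4070 (iv F6490) (iv F6491) F4891
def n4071 : Q := act 2 n3012
theorem D4071 : act 2 n3012 = n4071 := rfl
def n4072 : Q := act 4 n3012
theorem D4072 : act 4 n3012 = n4072 := rfl
def n4073 : Q := act 5 n3012
theorem D4073 : act 5 n3012 = n4073 := rfl
theorem F6671 : act 1 n4073 = n3303 := d8_1 D4073 (iv F6666) F6665
theorem F6672 : act 3 n4073 = n3014 := d13_1 D4073 (iv D3014) D3012
def n4074 : Q := act 3 n3013
theorem D4074 : act 3 n3013 = n4074 := rfl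
theorem F6673 : act 5 n4074 = n3158 := d13_2 F4912 D4074 (iv D3158)
def n4075 : Q := act 4 n3015
theorem D4075 : act 4 n3015 = n4075 := rfl
theorem F6674 : act 0 n4075 = n3016 := d3_1 D4075 (iv D3016) D3015
theorem F6675 : act 1 n4075 = n3159 := d7_1 D4075 (iv F6497) F6495
theorem F6676 : act 5 n4075 = n3159 := d14_2 (iv F4916) D4075 (iv F6497) F6498 F4888
def n4076 : Q := act 3 n3016
theorem D4076 : act 3 n3016 = n4076 := rfl
theorem F6677 : act 1 n4076 = n3017 := d6_1 D4076 (iv D3017) (iv F4917)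
theorem F6678 : act 4 n4076 = n3112 := d12_2 D3016 D4076 F5088 F3724 (iv F3570)
theorem F6679 : act 5 n4076 = n3160 := d13_2 (iv F4918) D4076 (iv D3160)
def n4077 : Q := act 0 n3018
theorem D4077 : act 0 n3018 = n4077 := rfl
theorem F6680 : act 1 n4077 = n3322 := d0_2 D3018 D4077 F5367 F3935 (iv F3575)
theorem F6681 : act 3 n4077 = n3025 := d2_2 (iv F4923) D4077 (iv D3025)
theorem F6682 : act 4 n4077 = n3019 := d3_2 (iv F4924) D4077 (iv D3019)
theorem F6683 : act 5 n4077 = n3025 := d4_2 (iv F4925) D4077 (iv D3025)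
def n4078 : Q := act 2 n3020
theorem D4078 : act 2 n3020 = n4078 := rfl
theorem F6684 : act 0 n4078 = n3021 := d1_1 D4078 (iv D3021) (iv F4929)
theorem F6685 : act 5 n4078 = n3329 := d11_2 (iv F4931) D4078 F5373
def n4079 : Q := act 4 n3020
theorem D4079 : act 4 n3020 = n4079 := rfl
theorem F6686 : act 0 n4079 = n3022 := d3_1 D4079 (iv D3022) (iv F4929)
theorem F6687 : act 1 n4079 = n3321 := d7_1 D4079 (iv D3321) (iv F4930)
theorem F6688 : act 3 n4079 = n3027 := d12_1 D4079 (iv D3027) (iv D2209) (iv F3582) D3020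
theorem F6689 : act 5 n4079 = n3027 := d14_2 (iv F4931) D4079 (iv D3027) (iv F4787) F4786
def n4080 : Q := act 3 n3021
theorem D4080 : act 3 n3021 = n4080 := rfl
theorem F6690 : act 1 n4080 = n3333 := d6_1 D4080 F5375 (iv F4932)
theorem F6691 : act 5 n4080 = n3330 := d13_2 (iv F4933) D4080 (iv D3330)
def n4081 : Q := act 4 n3021
theorem D4081 : act 4 n3021 = n4081 := rfl
theorem F6692 : act 1 n4081 = n3334 := d7_1 D4081 (iv D3334) (iv F4932)
theorem F6693 : act 2 n4081 = n3022 := d10_1 D4081 (iv D3022) D3021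
theorem F6694 : act 5 n4081 = n3029 := d14_2 (iv F4933) D4081 (iv D3029) (iv F4783) F4782
def n4082 : Q := act 3 n3023
theorem D4082 : act 3 n3023 = n4082 := rfl
theorem F6695 : act 0 n4082 = n3024 := d2_1 D4082 (iv D3024) (iv F4937)
theorem F6696 : act 5 n4082 = n3126 := d13_2 (iv F4939) D4082 (iv D3126)
def n4083 : Q := act 2 n3024
theorem D4083 : act 2 n3024 = n4083 := rfl
theorem F6697 : act 5 n4083 = n3137 := d11_2 (iv F4941) D4083 (iv D3137)
def n4084 : Q := act 1 n3026
theorem D4084 : act 1 n3026 = n4084 := rfl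
def n4085 : Q := act 3 n3026
theorem D4085 : act 3 n3026 = n4085 := rfl
theorem F6698 : act 0 n4085 = n3028 := d2_1 D4085 (iv D3028) (iv F4943)
def n4086 : Q := act 4 n3026
theorem D4086 : act 4 n3026 = n4086 := rfl
theorem F6699 : act 0 n4086 = n3029 := d3_1 D4086 (iv D3029) (iv F4943)
theorem F6700 : act 2 n4086 = n3027 := d10_1 D4086 (iv D3027) D3026
def n4087 : Q := act 2 n3028
theorem D4087 : act 2 n3028 = n4087 := rfl
def n4088 : Q := act 4 n3028
theorem D4088 : act 4 n3028 = n4088 := rfl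
def n4089 : Q := act 3 n3029
theorem D4089 : act 3 n3029 = n4089 := rfl
def n4090 : Q := act 1 n3030
theorem D4090 : act 1 n3030 = n4090 := rfl
theorem F6701 : act 3 n4090 = n3072 := d6_2 (iv F4947) D4090 (iv D3072)
theorem F6702 : act 5 n4090 = n3035 := d8_2 (iv F4948) D4090 (iv D3035)
def n4091 : Q := act 4 n3030
theorem D4091 : act 4 n3030 = n4091 := rfl
theorem F6703 : act 0 n4091 = n3033 := d3_1 D4091 (iv D3033) (iv F4946)
theorem F6704 : act 2 n4091 = n3031 := d10_1 D4091 (iv D3031) D3030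
def n4092 : Q := act 5 n3031
theorem D4092 : act 5 n3031 = n4092 := rfl
theorem F6705 : act 0 n4092 = n3034 := d4_1 D4092 (iv D3034) (iv F4949)
theorem F6706 : act 1 n4092 = n3328 := d8_1 D4092 (iv F6519) F6517
theorem F6707 : act 3 n4092 = n3173 := d13_1 D4092 (iv D3173) (iv F4950)
theorem F6708 : act 4 n4092 = n3037 := d14_1 D4092 (iv D3037) (iv D2217) (iv F3605) D3031
def n4093 : Q := act 4 n3032
theorem D4093 : act 4 n3032 = n4093 := rfl
theorem F6709 : act 0 n4093 = n3073 := d3_1 D4093 (iv D3073) (iv F4951)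
theorem F6710 : act 2 n4093 = n3071 := d10_1 D4093 (iv D3071) (iv F4952)
def n4094 : Q := act 3 n3033
theorem D4094 : act 3 n3033 = n4094 := rfl
def n4095 : Q := act 5 n3033
theorem D4095 : act 5 n3033 = n4095 := rfl
theorem F6711 : act 1 n4095 = n3324 := d8_1 D4095 (iv F6513) F6511
theorem F6712 : act 2 n4095 = n3034 := d11_1 D4095 (iv D3034) (iv F4954)
theorem F6713 : act 4 n4095 = n3043 := d14_1 D4095 (iv D3043) (iv D2220) (iv F3606) D3033
def n4096 : Q := act 0 n3035
theorem D4096 : act 0 n3035 = n4096 := rfl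
theorem F6714 : act 1 n4096 = n3038 := d0_2 D3035 D4096 (iv D3038) (iv D2218) (iv F3613)
def n4097 : Q := act 4 n3035
theorem D4097 : act 4 n3035 = n4097 := rfl
theorem F6715 : act 1 n4097 = n3036 := d7_1 D4097 (iv D3036) D3035
theorem F6716 : act 2 n4097 = n3325 := d10_1 D4097 (iv F6526) F6525
def n4098 : Q := act 3 n3036
theorem D4098 : act 3 n3036 = n4098 := rfl
theorem F6717 : act 0 n4098 = n3042 := d2_1 D4098 (iv D3042) (iv F4958)
def n4099 : Q := act 5 n3036
theorem D4099 : act 5 n3036 = n4099 := rfl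
theorem F6718 : act 0 n4099 = n3043 := d4_1 D4099 (iv D3043) (iv F4958)
theorem F6719 : act 2 n4099 = n3037 := d11_1 D4099 (iv D3037) (iv F4959)
def n4100 : Q := act 3 n3038
theorem D4100 : act 3 n3038 = n4100 := rfl
theorem F6720 : act 0 n4100 = n3039 := d2_1 D4100 (iv D3039) D3038
def n4101 : Q := act 4 n3038
theorem D4101 : act 4 n3038 = n4101 := rfl
theorem F6721 : act 0 n4101 = n3040 := d3_1 D4101 (iv D3040) D3038
theorem F6722 : act 2 n4101 = n3044 := d10_1 D4101 (iv D3044) (iv F4963)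
theorem F6723 : act 5 n3320 = n4101 := d11_0 F6722 (iv F4973) D3320
def n4102 : Q := act 2 n3039
theorem D4102 : act 2 n3039 = n4102 := rfl
def n4103 : Q := act 4 n3039
theorem D4103 : act 4 n3039 = n4103 := rfl
theorem F6724 : act 1 n4103 = n3041 := d7_1 D4103 (iv D3041) (iv F4964)
def n4104 : Q := act 3 n3040
theorem D4104 : act 3 n3040 = n4104 := rfl
theorem F6725 : act 1 n4104 = n3042 := d6_1 D4104 (iv D3042) (iv F4965)
theorem F6726 : act 5 n4104 = n3323 := d13_2 F4967 D4104 (iv D3323)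
def n4105 : Q := act 3 n3041
theorem D4105 : act 3 n3041 = n4105 := rfl
theorem F6727 : act 4 n4105 = n3042 := d12_2 D3041 D4105 (iv D3042) (iv D2220) D2219
def n4106 : Q := act 5 n3041
theorem D4106 : act 5 n3041 = n4106 := rfl
def n4107 : Q := act 2 n3042
theorem D4107 : act 2 n3042 = n4107 := rfl
def n4108 : Q := act 5 n3042
theorem D4108 : act 5 n3042 = n4108 := rfl
theorem F6728 : act 1 n4108 = n3323 := d8_1 D4108 (iv F6726) F6725
theorem F6729 : act 3 n4108 = n3043 := d13_1 D4108 (iv D3043) D3042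
def n4109 : Q := act 2 n3045
theorem D4109 : act 2 n3045 = n4109 := rfl
theorem F6730 : act 0 n4109 = n3049 := d1_1 D4109 (iv D3049) (iv F4974)
theorem F6731 : act 4 n4109 = n3278 := d10_2 (iv F4975) D4109 (iv D3278)
def n4110 : Q := act 5 n3045
theorem D4110 : act 5 n3045 = n4110 := rfl
theorem F6732 : act 0 n4110 = n3050 := d4_1 D4110 (iv D3050) (iv F4974)
theorem F6733 : act 3 n4110 = n3046 := d13_1 D4110 (iv D3046) D3045
def n4111 : Q := act 2 n3047
theorem D4111 : act 2 n3047 = n4111 := rfl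
theorem F6734 : act 0 n4111 = n3278 := d1_1 D4111 (iv D3278) (iv F4979)
theorem F6735 : act 4 n4111 = n3049 := d10_2 (iv F4981) D4111 (iv D3049)
def n4112 : Q := act 5 n3047
theorem D4112 : act 5 n3047 = n4112 := rfl
theorem F6736 : act 0 n4112 = n3279 := d4_1 D4112 (iv D3279) (iv F4979)
theorem F6737 : act 1 n4112 = n3298 := d8_1 D4112 (iv D3298) (iv F4980)
theorem F6738 : act 3 n4112 = n3048 := d13_1 D4112 (iv D3048) D3047
def n4113 : Q := act 1 n3049
theorem D4113 : act 1 n3049 = n4113 := rfl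
theorem F6739 : act 2 n4113 = n3296 := d5_2 D3049 D4113 (iv D3296) (iv D2421) (iv F3632)
def n4114 : Q := act 3 n3049
theorem D4114 : act 3 n3049 = n4114 := rfl
def n4115 : Q := act 5 n3049
theorem D4115 : act 5 n3049 = n4115 := rfl
theorem F6740 : act 2 n4115 = n3050 := d11_1 D4115 (iv D3050) D3049
def n4116 : Q := act 4 n3050
theorem D4116 : act 4 n3050 = n4116 := rfl
theorem F6741 : act 1 n4116 = n3299 := d7_1 D4116 (iv D3299) (iv F4986)
theorem F6742 : act 3 n4116 = n3209 := d12_1 D4116 (iv D3209) F3829 (iv F3635) (iv F4987)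
def n4117 : Q := act 4 n3051
theorem D4117 : act 4 n3051 = n4117 := rfl
theorem F6743 : act 0 n4117 = n3054 := d3_1 D4117 (iv D3054) (iv F4988)
theorem F6744 : act 2 n4117 = n3052 := d10_1 D4117 (iv D3052) D3051
def n4118 : Q := act 5 n3052
theorem D4118 : act 5 n3052 = n4118 := rfl
theorem F6745 : act 0 n4118 = n3055 := d4_1 D4118 (iv D3055) (iv F4989)
theorem F6746 : act 1 n4118 = n3057 := d8_1 D4118 (iv D3057) (iv F4990)
def n4119 : Q := act 2 n3053
theorem D4119 : act 2 n3053 = n4119 := rfl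
theorem F6747 : act 3 n4119 = n3255 := d15_3 D2230 D3053 D4119 (iv D3255) (iv D2390) (iv F2836) D2395 F3884 F3636
def n4120 : Q := act 4 n3053
theorem D4120 : act 4 n3053 = n4120 := rfl
def n4121 : Q := act 3 n3054
theorem D4121 : act 3 n3054 = n4121 := rfl
def n4122 : Q := act 5 n3054
theorem D4122 : act 5 n3054 = n4122 := rfl
theorem F6748 : act 2 n4122 = n3055 := d11_1 D4122 (iv D3055) (iv F4991)
def n4123 : Q := act 2 n3056
theorem D4123 : act 2 n3056 = n4123 := rfl
def n4124 : Q := act 4 n3058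
theorem D4124 : act 4 n3058 = n4124 := rfl
theorem F6749 : act 0 n4124 = n3059 := d3_1 D4124 (iv D3059) D3058
theorem F6750 : act 2 n4124 = n3062 := d10_1 D4124 (iv D3062) (iv F4995)
def n4125 : Q := act 3 n3059
theorem D4125 : act 3 n3059 = n4125 := rfl
theorem F6751 : act 1 n4125 = n3060 := d6_1 D4125 (iv D3060) (iv F4996)
def n4126 : Q := act 5 n3059
theorem D4126 : act 5 n3059 = n4126 := rfl
theorem F6752 : act 1 n4126 = n3061 := d8_1 D4126 (iv D3061) (iv F4996)
theorem F6753 : act 2 n4126 = n3064 := d11_1 D4126 (iv D3064) (iv F4997)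
def n4127 : Q := act 2 n3060
theorem D4127 : act 2 n3060 = n4127 := rfl
def n4128 : Q := act 5 n3060
theorem D4128 : act 5 n3060 = n4128 := rfl
theorem F6754 : act 3 n4128 = n3061 := d13_1 D4128 (iv D3061) D3060
def n4129 : Q := act 3 n3062
theorem D4129 : act 3 n3062 = n4129 := rfl
theorem F6755 : act 0 n4129 = n3063 := d2_1 D4129 (iv D3063) (iv F4999)
def n4130 : Q := act 5 n3062
theorem D4130 : act 5 n3062 = n4130 := rfl
theorem F6756 : act 0 n4130 = n3064 := d4_1 D4130 (iv D3064) (iv F4999)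
def n4131 : Q := act 2 n3063
theorem D4131 : act 2 n3063 = n4131 := rfl
def n4132 : Q := act 5 n3063
theorem D4132 : act 5 n3063 = n4132 := rfl
theorem F6757 : act 1 n4132 = n3066 := d8_1 D4132 (iv D3066) (iv F5000)
theorem F6758 : act 3 n4132 = n3064 := d13_1 D4132 (iv D3064) D3063
def n4133 : Q := act 1 n3065
theorem D4133 : act 1 n3065 = n4133 := rfl
def n4134 : Q := act 3 n3065
theorem D4134 : act 3 n3065 = n4134 := rfl
def n4135 : Q := act 5 n3065
theorem D4135 : act 5 n3065 = n4135 := rfl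
theorem F6759 : act 2 n4135 = n3066 := d11_1 D4135 (iv D3066) D3065
def n4136 : Q := act 4 n3066
theorem D4136 : act 4 n3066 = n4136 := rfl
def n4137 : Q := act 2 n3067
theorem D4137 : act 2 n3067 = n4137 := rfl
theorem F6760 : act 5 n4137 = n3068 := d11_2 (iv F5003) D4137 (iv D3068)
def n4138 : Q := act 1 n3068
theorem D4138 : act 1 n3068 = n4138 := rfl
theorem F6761 : act 4 n4138 = n3069 := d7_2 (iv F5004) D4138 (iv D3069)
def n4139 : Q := act 3 n3068
theorem D4139 : act 3 n3068 = n4139 := rfl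
def n4140 : Q := act 0 n3069
theorem D4140 : act 0 n3069 = n4140 := rfl
def n4141 : Q := act 2 n3070
theorem D4141 : act 2 n3070 = n4141 := rfl
def n4142 : Q := act 4 n3070
theorem D4142 : act 4 n3070 = n4142 := rfl
theorem F6762 : act 1 n4142 = n3071 := d7_1 D4142 (iv D3071) (iv F5005)
theorem F6763 : act 3 n4142 = n3256 := d12_1 D4142 (iv D3256) (iv D2390) (iv F3650) D3070
def n4143 : Q := act 5 n3071
theorem D4143 : act 5 n3071 = n4143 := rfl
theorem F6764 : act 0 n4143 = n3074 := d4_1 D4143 (iv D3074) (iv F5006)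
theorem F6765 : act 3 n4143 = n3257 := d13_1 D4143 (iv D3257) (iv F5007)
def n4144 : Q := act 0 n3072
theorem D4144 : act 0 n3072 = n4144 := rfl
def n4145 : Q := act 4 n3072
theorem D4145 : act 4 n3072 = n4145 := rfl
theorem F6766 : act 1 n4145 = n3073 := d7_1 D4145 (iv D3073) D3072
def n4146 : Q := act 3 n3073
theorem D4146 : act 3 n3073 = n4146 := rfl
def n4147 : Q := act 5 n3073
theorem D4147 : act 5 n3073 = n4147 := rfl
theorem F6767 : act 2 n4147 = n3074 := d11_1 D4147 (iv D3074) (iv F5008)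
def n4148 : Q := act 5 n3075
theorem D4148 : act 5 n3075 = n4148 := rfl
theorem F6768 : act 0 n4148 = n3077 := d4_1 D4148 (iv D3077) (iv F5010)
theorem F6769 : act 3 n4148 = n3124 := d13_1 D4148 (iv D3124) (iv F5011)
def n4149 : Q := act 3 n3076
theorem D4149 : act 3 n3076 = n4149 := rfl
def n4150 : Q := act 5 n3076
theorem D4150 : act 5 n3076 = n4150 := rfl
theorem F6770 : act 2 n4150 = n3077 := d11_1 D4150 (iv D3077) (iv F5012)
def n4151 : Q := act 1 n3078
theorem D4151 : act 1 n3078 = n4151 := rfl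
theorem F6771 : act 3 n4151 = n3626 := d6_2 (iv F5017) D4151 F5884
theorem F6772 : act 5 n4151 = n3143 := d8_2 (iv F5016) D4151 (iv D3143)
def n4152 : Q := act 3 n3079
theorem D4152 : act 3 n3079 = n4152 := rfl
theorem F6773 : act 0 n4152 = n3080 := d2_1 D4152 (iv D3080) D3079
theorem F6774 : act 1 n4152 = n3161 := d6_1 D4152 (iv D3161) (iv F5018)
theorem F6775 : act 4 n4152 = n3191 := d12_2 (iv F5020) D4152 (iv D3191) (iv D2341) (iv F3666)
theorem F6776 : act 5 n4152 = n3161 := d13_2 (iv F5021) D4152 (iv D3161)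
def n4153 : Q := act 2 n3080
theorem D4153 : act 2 n3080 = n4153 := rfl
theorem F6777 : act 4 n4153 = n3193 := d10_2 (iv F5023) D4153 (iv D3193)
theorem F6778 : act 5 n4153 = n3162 := d11_2 (iv F5024) D4153 (iv D3162)
def n4154 : Q := act 1 n3081
theorem D4154 : act 1 n3081 = n4154 := rfl
theorem F6779 : act 0 n4154 = n3171 := d0_1 D4154 (iv D3171) F3784 (iv F3671) (iv F5025)
theorem F6780 : act 2 n4154 = n3163 := d5_2 D3081 D4154 (iv D3163) (iv D2322) (iv F3669)
theorem F6781 : act 5 n4154 = n3177 := d8_2 (iv F5026) D4154 F5185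
theorem F6782 : act 3 n3267 = n4154 := d13_3 F6781 F5186 (iv F5314)
def n4155 : Q := act 3 n3081
theorem D4155 : act 3 n3081 = n4155 := rfl
theorem F6783 : act 0 n4155 = n3083 := d2_1 D4155 (iv D3083) (iv F5025)
theorem F6784 : act 1 n4155 = n3267 := d6_1 D4155 F6782 (iv D4154)
theorem F6785 : act 2 n4155 = n3700 := d9_1 D4155 F6050 F4418 F3251 (iv F2687) F2688 (iv F2768) D2336 D3183 F5199 (iv D2727) (iv D1991) (iv F2691) D2258 D3081
theorem F6786 : act 5 n4155 = n3181 := d13_2 (iv F5026) D4155 (iv D3181)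
def n4156 : Q := act 4 n3081
theorem D4156 : act 4 n3081 = n4156 := rfl
theorem F6787 : act 0 n4156 = n3084 := d3_1 D4156 (iv D3084) (iv F5025)
theorem F6788 : act 2 n4156 = n3082 := d10_1 D4156 (iv D3082) D3081
def n4157 : Q := act 5 n3082
theorem D4157 : act 5 n3082 = n4157 := rfl
theorem F6789 : act 0 n4157 = n3085 := d4_1 D4157 (iv D3085) (iv F5027)
theorem F6790 : act 1 n4157 = n3166 := d8_1 D4157 (iv D3166) (iv F5028)
theorem F6791 : act 3 n4157 = n3166 := d13_1 D4157 (iv D3166) (iv F5029)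
theorem F6792 : act 4 n4157 = n3192 := d14_1 D4157 (iv D3192) (iv D2341) (iv F3670) D3082
def n4158 : Q := act 2 n3083
theorem D4158 : act 2 n3083 = n4158 := rfl
theorem F6793 : act 0 n4158 = n3700 := d1_1 D4158 (iv F6785) F6783
theorem F6794 : act 1 n4158 = n3262 := d5_1 D4158 (iv D3262) F3883 (iv F3789) (iv F5030)
theorem F6795 : act 3 n4158 = n3692 := d9_2 D3083 D4158 F6033 F4411 (iv F3665) F3666 (iv F3799) D3181 F5194 (iv D2732) (iv D1993) (iv D1445) (iv F1945) D1641 D2259
theorem F6796 : act 5 n4158 = n3183 := d11_2 (iv F5031) D4158 (iv D3183)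
def n4159 : Q := act 4 n3083
theorem D4159 : act 4 n3083 = n4159 := rfl
theorem F6797 : act 1 n4159 = n3174 := d7_1 D4159 (iv D3174) (iv F5030)
def n4160 : Q := act 3 n3084
theorem D4160 : act 3 n3084 = n4160 := rfl
theorem F6798 : act 1 n4160 = n3175 := d6_1 D4160 (iv D3175) (iv F5032)
def n4161 : Q := act 5 n3084
theorem D4161 : act 5 n3084 = n4161 := rfl
theorem F6799 : act 1 n4161 = n3176 := d8_1 D4161 (iv D3176) (iv F5032)
theorem F6800 : act 2 n4161 = n3085 := d11_1 D4161 (iv D3085) (iv F5033)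
theorem F6801 : act 4 n4161 = n3186 := d14_1 D4161 (iv D3186) (iv D2337) (iv F3672) D3084
def n4162 : Q := act 1 n3086
theorem D4162 : act 1 n3086 = n4162 := rfl
theorem F6802 : act 0 n4162 = n3163 := d0_1 D4162 (iv D3163) F3780 (iv F3682) (iv F5037)
theorem F6803 : act 2 n4162 = n3171 := d5_2 D3086 D4162 (iv D3171) (iv D2327) (iv F3680)
theorem F6804 : act 5 n4162 = n3091 := d8_2 (iv F5038) D4162 (iv D3091)
def n4163 : Q := act 4 n3086
theorem D4163 : act 4 n3086 = n4163 := rfl
theorem F6805 : act 0 n4163 = n3089 := d3_1 D4163 (iv D3089) (iv F5037)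
theorem F6806 : act 2 n4163 = n3087 := d10_1 D4163 (iv D3087) D3086
def n4164 : Q := act 5 n3087
theorem D4164 : act 5 n3087 = n4164 := rfl
theorem F6807 : act 0 n4164 = n3090 := d4_1 D4164 (iv D3090) (iv F5039)
theorem F6808 : act 1 n4164 = n3173 := d8_1 D4164 (iv D3173) (iv F5040)
theorem F6809 : act 3 n4164 = n3328 := d13_1 D4164 (iv F6519) F6518
theorem F6810 : act 4 n4164 = n3094 := d14_1 D4164 (iv D3094) (iv D2267) (iv F3681) D3087
def n4165 : Q := act 4 n3088
theorem D4165 : act 4 n3088 = n4165 := rfl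
theorem F6811 : act 1 n4165 = n3168 := d7_1 D4165 (iv D3168) (iv F5041)
def n4166 : Q := act 3 n3089
theorem D4166 : act 3 n3089 = n4166 := rfl
theorem F6812 : act 1 n4166 = n3169 := d6_1 D4166 (iv D3169) (iv F5043)
def n4167 : Q := act 5 n3089
theorem D4167 : act 5 n3089 = n4167 := rfl
theorem F6813 : act 1 n4167 = n3170 := d8_1 D4167 (iv D3170) (iv F5043)
theorem F6814 : act 2 n4167 = n3090 := d11_1 D4167 (iv D3090) (iv F5044)
theorem F6815 : act 4 n4167 = n3101 := d14_1 D4167 (iv D3101) (iv D2270) (iv F3683) D3089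
def n4168 : Q := act 0 n3091
theorem D4168 : act 0 n3091 = n4168 := rfl
theorem F6816 : act 1 n4168 = n3095 := d0_2 D3091 D4168 (iv D3095) (iv D2268) (iv F3689)
theorem F6817 : act 2 n4168 = n3177 := d1_2 (iv F5048) D4168 (iv D3177)
theorem F6818 : act 5 n4168 = n3163 := d4_2 F6804 D4168 (iv F6802)
theorem F6819 : act 3 n3717 = n4168 := d15_7 F6803 F5175 F3890 (iv D2154) (iv F3430) D2905 (iv F6073) F6818 (iv F6802)
def n4169 : Q := act 3 n3091
theorem D4169 : act 3 n3091 = n4169 := rfl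
theorem F6820 : act 0 n4169 = n3717 := d2_1 D4169 F6819 (iv D4168)
theorem F6821 : act 1 n4169 = n3092 := d6_1 D4169 (iv D3092) D3091
theorem F6822 : act 2 n4169 = n3933 := d15_2 (iv F5048) D4169 (iv D3933) F4701 D2953 (iv F5313) F6782 F6781 (iv D3177)
def n4170 : Q := act 4 n3091
theorem D4170 : act 4 n3091 = n4170 := rfl
theorem F6823 : act 1 n4170 = n3093 := d7_1 D4170 (iv D3093) D3091
theorem F6824 : act 2 n4170 = n3178 := d10_1 D4170 (iv D3178) (iv F5048)
def n4171 : Q := act 4 n3092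
theorem D4171 : act 4 n3092 = n4171 := rfl
theorem F6825 : act 0 n4171 = n3099 := d3_1 D4171 (iv D3099) (iv F5049)
def n4172 : Q := act 3 n3093
theorem D4172 : act 3 n3093 = n4172 := rfl
theorem F6826 : act 0 n4172 = n3100 := d2_1 D4172 (iv D3100) (iv F5050)
def n4173 : Q := act 5 n3093
theorem D4173 : act 5 n3093 = n4173 := rfl
theorem F6827 : act 0 n4173 = n3101 := d4_1 D4173 (iv D3101) (iv F5050)
theorem F6828 : act 2 n4173 = n3094 := d11_1 D4173 (iv D3094) (iv F5051)
def n4174 : Q := act 4 n3095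
theorem D4174 : act 4 n3095 = n4174 := rfl
theorem F6829 : act 0 n4174 = n3097 := d3_1 D4174 (iv D3097) D3095
theorem F6830 : act 2 n4174 = n3102 := d10_1 D4174 (iv D3102) (iv F5055)
def n4175 : Q := act 4 n3096
theorem D4175 : act 4 n3096 = n4175 := rfl
theorem F6831 : act 0 n4175 = n3718 := d3_1 D4175 (iv D3718) (iv F5058)
theorem F6832 : act 1 n4175 = n3099 := d7_1 D4175 (iv D3099) (iv F5059)
theorem F6833 : act 2 n4175 = n3713 := d10_1 D4175 (iv D3713) (iv F5061)
def n4176 : Q := act 3 n3097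
theorem D4176 : act 3 n3097 = n4176 := rfl
theorem F6834 : act 1 n4176 = n3100 := d6_1 D4176 (iv D3100) (iv F5062)
def n4177 : Q := act 5 n3097
theorem D4177 : act 5 n3097 = n4177 := rfl
theorem F6835 : act 1 n4177 = n3101 := d8_1 D4177 (iv D3101) (iv F5062)
theorem F6836 : act 2 n4177 = n3104 := d11_1 D4177 (iv D3104) (iv F5063)
theorem F6837 : act 4 n4177 = n3170 := d14_1 D4177 (iv D3170) (iv D2325) (iv F3694) D3097
def n4178 : Q := act 1 n3098
theorem D4178 : act 1 n3098 = n4178 := rfl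
theorem F6838 : act 0 n4178 = n3949 := d0_1 D4178 (iv D3949) F4729 (iv F5120) F5119
theorem F6839 : act 2 n4178 = n3711 := d5_2 D3098 D4178 F6066 (iv F5061) F5059
def n4179 : Q := act 4 n3098
theorem D4179 : act 4 n3098 = n4179 := rfl
theorem F6840 : act 2 n4179 = n3099 := d10_1 D4179 (iv D3099) D3098
def n4180 : Q := act 3 n3099
theorem D4180 : act 3 n3099 = n4180 := rfl
theorem F6841 : act 4 n4180 = n3100 := d12_2 D3099 D4180 (iv D3100) (iv D2270) D2269
def n4181 : Q := act 5 n3099
theorem D4181 : act 5 n3099 = n4181 := rfl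
def n4182 : Q := act 2 n3100
theorem D4182 : act 2 n3100 = n4182 := rfl
def n4183 : Q := act 5 n3100
theorem D4183 : act 5 n3100 = n4183 := rfl
theorem F6842 : act 3 n4183 = n3101 := d13_1 D4183 (iv D3101) D3100
def n4184 : Q := act 3 n3102
theorem D4184 : act 3 n3102 = n4184 := rfl
theorem F6843 : act 0 n4184 = n3103 := d2_1 D4184 (iv D3103) (iv F5065)
theorem F6844 : act 1 n4184 = n3191 := d6_1 D4184 (iv D3191) (iv F5066)
theorem F6845 : act 4 n4184 = n3161 := d12_2 D3102 D4184 (iv D3161) F3778 (iv F3699)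
def n4185 : Q := act 5 n3102
theorem D4185 : act 5 n3102 = n4185 := rfl
theorem F6846 : act 0 n4185 = n3104 := d4_1 D4185 (iv D3104) (iv F5065)
theorem F6847 : act 1 n4185 = n3192 := d8_1 D4185 (iv D3192) (iv F5066)
theorem F6848 : act 4 n4185 = n3166 := d14_1 D4185 (iv D3166) (iv D2323) (iv F3700) D3102
def n4186 : Q := act 2 n3103
theorem D4186 : act 2 n3103 = n4186 := rfl
theorem F6849 : act 4 n4186 = n3162 := d10_2 (iv F5068) D4186 (iv D3162)
def n4187 : Q := act 5 n3103
theorem D4187 : act 5 n3103 = n4187 := rfl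
theorem F6850 : act 1 n4187 = n3105 := d8_1 D4187 (iv D3105) (iv F5067)
theorem F6851 : act 3 n4187 = n3104 := d13_1 D4187 (iv D3104) D3103
theorem F6852 : act 4 n4187 = n3194 := d14_1 D4187 (iv D3194) (iv F5023) F5024 (iv F5068)
def n4188 : Q := act 3 n3106
theorem D4188 : act 3 n3106 = n4188 := rfl
theorem F6853 : act 0 n4188 = n3110 := d2_1 D4188 (iv D3110) (iv F5075)
theorem F6854 : act 1 n4188 = n3107 := d6_1 D4188 (iv D3107) (iv F5076)
theorem F6855 : act 4 n4188 = n3107 := d12_2 D3106 D4188 (iv D3107) (iv D2277) F3710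
def n4189 : Q := act 2 n3107
theorem D4189 : act 2 n3107 = n4189 := rfl
theorem F6856 : act 0 n4189 = n3111 := d1_1 D4189 (iv D3111) (iv F5078)
def n4190 : Q := act 5 n3107
theorem D4190 : act 5 n3107 = n4190 := rfl
theorem F6857 : act 0 n4190 = n3112 := d4_1 D4190 (iv D3112) (iv F5078)
theorem F6858 : act 3 n4190 = n3108 := d13_1 D4190 (iv D3108) D3107
def n4191 : Q := act 3 n3109
theorem D4191 : act 3 n3109 = n4191 := rfl
theorem F6859 : act 0 n4191 = n3195 := d2_1 D4191 (iv D3195) (iv F5082)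
theorem F6860 : act 1 n4191 = n3199 := d6_1 D4191 (iv D3199) (iv F5083)
theorem F6861 : act 4 n4191 = n3727 := d12_2 D3109 D4191 (iv D3727) (iv D2757) (iv F3718)
def n4192 : Q := act 2 n3110
theorem D4192 : act 2 n3110 = n4192 := rfl
theorem F6862 : act 4 n4192 = n3111 := d10_2 (iv F5086) D4192 (iv D3111)
def n4193 : Q := act 1 n3111
theorem D4193 : act 1 n3111 = n4193 := rfl
theorem F6863 : act 2 n4193 = n3194 := d5_2 D3111 D4193 F5211 F3811 (iv F3721)
theorem F6864 : act 5 n3193 = n4193 := d11_0 F6863 (iv D3194) D3193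
def n4194 : Q := act 3 n3111
theorem D4194 : act 3 n3111 = n4194 := rfl
def n4195 : Q := act 5 n3111
theorem D4195 : act 5 n3111 = n4195 := rfl
theorem F6865 : act 1 n4195 = n3193 := d8_1 D4195 F6864 (iv D4193)
theorem F6866 : act 2 n4195 = n3112 := d11_1 D4195 (iv D3112) D3111
def n4196 : Q := act 1 n3113
theorem D4196 : act 1 n3113 = n4196 := rfl
theorem F6867 : act 0 n4196 = n3222 := d0_1 D4196 F5252 F3847 (iv F3731) (iv F5089)
theorem F6868 : act 2 n4196 = n3121 := d5_2 D3113 D4196 (iv D3121) (iv D2290) (iv F3726)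
theorem F6869 : act 5 n4196 = n3220 := d8_2 (iv F5090) D4196 F5250
theorem F6870 : act 3 n3258 = n4196 := d13_3 F6869 (iv F5971) F5972
def n4197 : Q := act 3 n3113
theorem D4197 : act 3 n3113 = n4197 := rfl
theorem F6871 : act 0 n4197 = n3116 := d2_1 D4197 (iv D3116) (iv F5089)
theorem F6872 : act 1 n4197 = n3258 := d6_1 D4197 F6870 (iv D4196)
theorem F6873 : act 5 n4197 = n3229 := d13_2 (iv F5090) D4197 (iv D3229)
def n4198 : Q := act 4 n3113
theorem D4198 : act 4 n3113 = n4198 := rfl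
theorem F6874 : act 0 n4198 = n3117 := d3_1 D4198 (iv D3117) (iv F5089)
theorem F6875 : act 2 n4198 = n3114 := d10_1 D4198 (iv D3114) D3113
def n4199 : Q := act 5 n3114
theorem D4199 : act 5 n3114 = n4199 := rfl
theorem F6876 : act 0 n4199 = n3118 := d4_1 D4199 (iv D3118) (iv F5091)
theorem F6877 : act 1 n4199 = n3124 := d8_1 D4199 (iv D3124) (iv F5092)
theorem F6878 : act 4 n4199 = n3247 := d14_1 D4199 (iv D3247) (iv D2382) F3727 D3114
def n4200 : Q := act 3 n3115
theorem D4200 : act 3 n3115 = n4200 := rfl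
theorem F6879 : act 0 n4200 = n3119 := d2_1 D4200 (iv D3119) (iv F5093)
theorem F6880 : act 1 n4200 = n3126 := d6_1 D4200 (iv D3126) (iv F5094)
theorem F6881 : act 4 n4200 = n3246 := d12_2 D3115 D4200 (iv D3246) (iv D2382) (iv F3730)
def n4201 : Q := act 2 n3116
theorem D4201 : act 2 n3116 = n4201 := rfl
theorem F6882 : act 1 n4201 = n3255 := d5_1 D4201 (iv D3255) F3879 (iv F3860) (iv F5095)
theorem F6883 : act 5 n4201 = n3231 := d11_2 (iv F5096) D4201 (iv D3231)
def n4202 : Q := act 4 n3116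
theorem D4202 : act 4 n3116 = n4202 := rfl
theorem F6884 : act 1 n4202 = n3237 := d7_1 D4202 (iv D3237) (iv F5095)
def n4203 : Q := act 3 n3117
theorem D4203 : act 3 n3117 = n4203 := rfl
theorem F6885 : act 1 n4203 = n3241 := d6_1 D4203 (iv D3241) (iv F5097)
def n4204 : Q := act 5 n3117
theorem D4204 : act 5 n3117 = n4204 := rfl
theorem F6886 : act 1 n4204 = n3240 := d8_1 D4204 F5278 (iv F5097)
theorem F6887 : act 2 n4204 = n3118 := d11_1 D4204 (iv D3118) (iv F5098)
theorem F6888 : act 4 n4204 = n3234 := d14_1 D4204 (iv D3234) (iv D2373) (iv F3732) D3117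
def n4205 : Q := act 2 n3119
theorem D4205 : act 2 n3119 = n4205 := rfl
theorem F6889 : act 4 n4205 = n3248 := d10_2 (iv F5102) D4205 (iv D3248)
def n4206 : Q := act 1 n3120
theorem D4206 : act 1 n3120 = n4206 := rfl
theorem F6890 : act 3 n4206 = n3710 := d6_2 (iv F5104) D4206 (iv D3710)
theorem F6891 : act 4 n4206 = n3250 := d7_2 (iv F5105) D4206 (iv D3250)
theorem F6892 : act 5 n4206 = n3726 := d8_2 (iv F5106) D4206 F6078
def n4207 : Q := act 0 n3121
theorem D4207 : act 0 n3121 = n4207 := rfl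
theorem F6893 : act 1 n4207 = n3127 := d0_2 D3121 D4207 (iv D3127) (iv D2294) (iv F3740)
theorem F6894 : act 2 n4207 = n3222 := d1_2 F6868 D4207 (iv F6867)
theorem F6895 : act 3 n4207 = n4178 := d2_2 F6461 D4207 F6838
theorem F6896 : act 5 n3210 = n4207 := d11_0 F6894 (iv D3222) (iv F5232)
def n4208 : Q := act 4 n3121
theorem D4208 : act 4 n3121 = n4208 := rfl
theorem F6897 : act 1 n4208 = n3122 := d7_1 D4208 (iv D3122) D3121
def n4209 : Q := act 5 n3121
theorem D4209 : act 5 n3121 = n4209 := rfl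
theorem F6898 : act 0 n4209 = n3210 := d4_1 D4209 F6896 (iv D4207)
theorem F6899 : act 1 n4209 = n3123 := d8_1 D4209 (iv D3123) D3121
theorem F6900 : act 2 n4209 = n3220 := d11_1 D4209 (iv F6869) F6868
theorem F6901 : act 3 n4209 = n3151 := d13_1 D4209 (iv F6462) F6461
def n4210 : Q := act 3 n3122
theorem D4210 : act 3 n3122 = n4210 := rfl
theorem F6902 : act 0 n4210 = n3132 := d2_1 D4210 (iv D3132) (iv F5107)
def n4211 : Q := act 5 n3122
theorem D4211 : act 5 n3122 = n4211 := rfl
theorem F6903 : act 0 n4211 = n3133 := d4_1 D4211 (iv D3133) (iv F5107)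
theorem F6904 : act 2 n4211 = n3124 := d11_1 D4211 (iv D3124) (iv F5108)
def n4212 : Q := act 4 n3123
theorem D4212 : act 4 n3123 = n4212 := rfl
theorem F6905 : act 0 n4212 = n3134 := d3_1 D4212 (iv D3134) (iv F5109)
theorem F6906 : act 2 n4212 = n3125 := d10_1 D4212 (iv D3125) (iv F5110)
def n4213 : Q := act 4 n3124
theorem D4213 : act 4 n3124 = n4213 := rfl
theorem F6907 : act 0 n4213 = n3135 := d3_1 D4213 (iv D3135) (iv F5112)
theorem F6908 : act 1 n4213 = n3247 := d7_1 D4213 (iv F6878) F6877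
theorem F6909 : act 5 n4213 = n3125 := d14_2 D3124 D4213 (iv D3125) (iv D2292) D2291
def n4214 : Q := act 3 n3125
theorem D4214 : act 3 n3125 = n4214 := rfl
theorem F6910 : act 0 n4214 = n3136 := d2_1 D4214 (iv D3136) (iv F5113)
theorem F6911 : act 1 n4214 = n3246 := d6_1 D4214 (iv D3246) (iv F5114)
theorem F6912 : act 4 n4214 = n3126 := d12_2 D3125 D4214 (iv D3126) (iv D2293) (iv F3744)
def n4215 : Q := act 2 n3126
theorem D4215 : act 2 n3126 = n4215 := rfl
theorem F6913 : act 0 n4215 = n3137 := d1_1 D4215 (iv D3137) (iv F5115)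
def n4216 : Q := act 4 n3127
theorem D4216 : act 4 n3127 = n4216 := rfl
theorem F6914 : act 0 n4216 = n3129 := d3_1 D4216 (iv D3129) D3127
theorem F6915 : act 2 n4216 = n3138 := d10_1 D4216 (iv D3138) (iv F5116)
def n4217 : Q := act 4 n3128
theorem D4217 : act 4 n3128 = n4217 := rfl
theorem F6916 : act 0 n4217 = n4179 := d3_1 D4217 (iv D4179) (iv F5119)
theorem F6917 : act 1 n4217 = n3130 := d7_1 D4217 (iv D3130) (iv F5120)
theorem F6918 : act 2 n4217 = n4171 := d10_1 D4217 (iv D4171) (iv F5122)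
def n4218 : Q := act 3 n3129
theorem D4218 : act 3 n3129 = n4218 := rfl
theorem F6919 : act 1 n4218 = n3132 := d6_1 D4218 (iv D3132) (iv F5123)
def n4219 : Q := act 5 n3129
theorem D4219 : act 5 n3129 = n4219 := rfl
theorem F6920 : act 1 n4219 = n3133 := d8_1 D4219 (iv D3133) (iv F5123)
theorem F6921 : act 2 n4219 = n3140 := d11_1 D4219 (iv D3140) (iv F5124)
theorem F6922 : act 4 n4219 = n3218 := d14_1 D4219 (iv D3218) (iv D2362) F3748 D3129
def n4220 : Q := act 3 n3130
theorem D4220 : act 3 n3130 = n4220 := rfl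
theorem F6923 : act 4 n4220 = n3132 := d12_2 D3130 D4220 (iv D3132) (iv D2296) D2295
def n4221 : Q := act 5 n3130
theorem D4221 : act 5 n3130 = n4221 := rfl
def n4222 : Q := act 4 n3131
theorem D4222 : act 4 n3131 = n4222 := rfl
theorem F6924 : act 0 n4222 = n3152 := d3_1 D4222 (iv D3152) (iv F5125)
theorem F6925 : act 1 n4222 = n3216 := d7_1 D4222 (iv D3216) (iv F5126)
theorem F6926 : act 2 n4222 = n3147 := d10_1 D4222 (iv D3147) (iv F5127)
def n4223 : Q := act 2 n3132
theorem D4223 : act 2 n3132 = n4223 := rfl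
def n4224 : Q := act 5 n3132
theorem D4224 : act 5 n3132 = n4224 := rfl
theorem F6927 : act 3 n4224 = n3133 := d13_1 D4224 (iv D3133) D3132
def n4225 : Q := act 4 n3133
theorem D4225 : act 4 n3133 = n4225 := rfl
theorem F6928 : act 1 n4225 = n3218 := d7_1 D4225 (iv F6922) F6920
theorem F6929 : act 2 n4225 = n3135 := d10_1 D4225 (iv D3135) (iv F5129)
theorem F6930 : act 5 n4225 = n3134 := d14_2 D3133 D4225 (iv D3134) (iv D2297) D2296
def n4226 : Q := act 3 n3134
theorem D4226 : act 3 n3134 = n4226 := rfl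
theorem F6931 : act 1 n4226 = n3217 := d6_1 D4226 (iv D3217) (iv F5130)
def n4227 : Q := act 3 n3135
theorem D4227 : act 3 n3135 = n4227 := rfl
theorem F6932 : act 1 n4227 = n3141 := d6_1 D4227 (iv D3141) (iv F5132)
theorem F6933 : act 5 n4227 = n3136 := d13_2 (iv F5133) D4227 (iv D3136)
def n4228 : Q := act 2 n3136
theorem D4228 : act 2 n3136 = n4228 := rfl
theorem F6934 : act 4 n4228 = n3137 := d10_2 (iv F5135) D4228 (iv D3137)
def n4229 : Q := act 1 n3137
theorem D4229 : act 1 n3137 = n4229 := rfl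
theorem F6935 : act 2 n4229 = n3143 := d5_2 D3137 D4229 (iv D3143) (iv D2307) (iv F3754)
def n4230 : Q := act 3 n3137
theorem D4230 : act 3 n3137 = n4230 := rfl
def n4231 : Q := act 3 n3138
theorem D4231 : act 3 n3138 = n4231 := rfl
theorem F6936 : act 0 n4231 = n3139 := d2_1 D4231 (iv D3139) (iv F5136)
theorem F6937 : act 1 n4231 = n3227 := d6_1 D4231 (iv D3227) (iv F5137)
theorem F6938 : act 4 n4231 = n3214 := d12_2 D3138 D4231 (iv D3214) (iv D2360) (iv F3756)
def n4232 : Q := act 5 n3138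
theorem D4232 : act 5 n3138 = n4232 := rfl
theorem F6939 : act 0 n4232 = n3140 := d4_1 D4232 (iv D3140) (iv F5136)
theorem F6940 : act 1 n4232 = n3226 := d8_1 D4232 F5260 (iv F5137)
theorem F6941 : act 4 n4232 = n3213 := d14_1 D4232 (iv D3213) (iv D2359) (iv F3757) D3138
def n4233 : Q := act 2 n3139
theorem D4233 : act 2 n3139 = n4233 := rfl
theorem F6942 : act 1 n4233 = n3651 := d5_1 D4233 F5946 F4336 F3761 (iv F5138)
theorem F6943 : act 4 n4233 = n3219 := d10_2 (iv F5139) D4233 (iv D3219)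
def n4234 : Q := act 1 n3142
theorem D4234 : act 1 n3142 = n4234 := rfl
theorem F6944 : act 3 n4234 = n3743 := d6_2 (iv F5146) D4234 F6103
theorem F6945 : act 4 n4234 = n3143 := d7_2 (iv F5147) D4234 (iv D3143)
theorem F6946 : act 5 n4234 = n3742 := d8_2 (iv F5148) D4234 F6101
def n4235 : Q := act 0 n3143
theorem D4235 : act 0 n3143 = n4235 := rfl
def n4236 : Q := act 3 n3143
theorem D4236 : act 3 n3143 = n4236 := rfl
theorem F6947 : act 1 n4236 = n3144 := d6_1 D4236 (iv D3144) D3143
theorem F6948 : act 5 n4236 = n3626 := d13_2 F6772 D4236 (iv F6771)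
def n4237 : Q := act 2 n3145
theorem D4237 : act 2 n3145 = n4237 := rfl
theorem F6949 : act 1 n4237 = n3215 := d5_1 D4237 (iv D3215) (iv F5126) F5127 (iv F5152)
theorem F6950 : act 3 n4237 = n4162 := d9_2 D3145 D4237 F6803 F5175 F3890 (iv D2154) (iv F3430) D2905 (iv F6073) F6819 F6817 F5186 F4995 (iv F4809) F4808
theorem F6951 : act 5 n4237 = n4169 := d11_2 F6434 D4237 F6822
def n4238 : Q := act 4 n3145
theorem D4238 : act 4 n3145 = n4238 := rfl
theorem F6952 : act 1 n4238 = n3147 := d7_1 D4238 (iv D3147) (iv F5152)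
def n4239 : Q := act 3 n3146
theorem D4239 : act 3 n3146 = n4239 := rfl
theorem F6953 : act 1 n4239 = n3148 := d6_1 D4239 (iv D3148) (iv F5153)
def n4240 : Q := act 5 n3146
theorem D4240 : act 5 n3146 = n4240 := rfl
theorem F6954 : act 1 n4240 = n3149 := d8_1 D4240 (iv D3149) (iv F5153)
def n4241 : Q := act 3 n3147
theorem D4241 : act 3 n3147 = n4241 := rfl
theorem F6955 : act 0 n4241 = n3153 := d2_1 D4241 (iv D3153) (iv F5154)
theorem F6956 : act 4 n4241 = n3148 := d12_2 D3147 D4241 (iv D3148) (iv D2310) D2309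
def n4242 : Q := act 5 n3147
theorem D4242 : act 5 n3147 = n4242 := rfl
theorem F6957 : act 0 n4242 = n3154 := d4_1 D4242 (iv D3154) (iv F5154)
def n4243 : Q := act 2 n3148
theorem D4243 : act 2 n3148 = n4243 := rfl
theorem F6958 : act 0 n4243 = n3155 := d1_1 D4243 (iv D3155) (iv F5155)
def n4244 : Q := act 5 n3148
theorem D4244 : act 5 n3148 = n4244 := rfl
theorem F6959 : act 0 n4244 = n3156 := d4_1 D4244 (iv D3156) (iv F5155)
theorem F6960 : act 3 n4244 = n3149 := d13_1 D4244 (iv D3149) D3148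
def n4245 : Q := act 1 n3150
theorem D4245 : act 1 n3150 = n4245 := rfl
def n4246 : Q := act 3 n3150
theorem D4246 : act 3 n3150 = n4246 := rfl
theorem F6961 : act 0 n4246 = n3158 := d2_1 D4246 (iv D3158) (iv F5158)
def n4247 : Q := act 0 n3151
theorem D4247 : act 0 n3151 = n4247 := rfl
theorem F6962 : act 1 n4247 = n3211 := d0_2 D3151 D4247 F5233 (iv F5126) F5125
theorem F6963 : act 3 n4247 = n3210 := d2_2 F6901 D4247 (iv F6898)
theorem F6964 : act 5 n4247 = n4178 := d4_2 F6462 D4247 F6838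
def n4248 : Q := act 4 n3151
theorem D4248 : act 4 n3151 = n4248 := rfl
theorem F6965 : act 1 n4248 = n3152 := d7_1 D4248 (iv D3152) D3151
def n4249 : Q := act 3 n3152
theorem D4249 : act 3 n3152 = n4249 := rfl
def n4250 : Q := act 5 n3152
theorem D4250 : act 5 n3152 = n4250 := rfl
theorem F6966 : act 2 n4250 = n3154 := d11_1 D4250 (iv D3154) (iv F5159)
def n4251 : Q := act 2 n3153
theorem D4251 : act 2 n3153 = n4251 := rfl
theorem F6967 : act 4 n4251 = n3155 := d10_2 (iv F5160) D4251 (iv D3155)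
def n4252 : Q := act 5 n3153
theorem D4252 : act 5 n3153 = n4252 := rfl
theorem F6968 : act 3 n4252 = n3154 := d13_1 D4252 (iv D3154) D3153
def n4253 : Q := act 1 n3155
theorem D4253 : act 1 n3155 = n4253 := rfl
def n4254 : Q := act 3 n3155
theorem D4254 : act 3 n3155 = n4254 := rfl
def n4255 : Q := act 5 n3155
theorem D4255 : act 5 n3155 = n4255 := rfl
theorem F6969 : act 2 n4255 = n3156 := d11_1 D4255 (iv D3156) D3155
def n4256 : Q := act 4 n3156
theorem D4256 : act 4 n3156 = n4256 := rfl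
def n4257 : Q := act 0 n3157
theorem D4257 : act 0 n3157 = n4257 := rfl
theorem F6970 : act 2 n4257 = n3159 := d1_2 (iv F5162) D4257 (iv D3159)
def n4258 : Q := act 3 n3157
theorem D4258 : act 3 n3157 = n4258 := rfl
theorem F6971 : act 1 n4258 = n3158 := d6_1 D4258 (iv D3158) D3157
def n4259 : Q := act 2 n3158
theorem D4259 : act 2 n3158 = n4259 := rfl
def n4260 : Q := act 4 n3158
theorem D4260 : act 4 n3158 = n4260 := rfl
def n4261 : Q := act 3 n3159
theorem D4261 : act 3 n3159 = n4261 := rfl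
theorem F6972 : act 0 n4261 = n3160 := d2_1 D4261 (iv D3160) D3159
def n4262 : Q := act 2 n3160
theorem D4262 : act 2 n3160 = n4262 := rfl
theorem F6973 : act 1 n4262 = n3162 := d5_1 D4262 (iv D3162) F3779 (iv F3776) (iv F5163)
def n4263 : Q := act 2 n3161
theorem D4263 : act 2 n3161 = n4263 := rfl
theorem F6974 : act 0 n4263 = n3162 := d1_1 D4263 (iv D3162) (iv F5164)
def n4264 : Q := act 3 n3162
theorem D4264 : act 3 n3162 = n4264 := rfl
def n4265 : Q := act 3 n3163
theorem D4265 : act 3 n3163 = n4265 := rfl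
theorem F6975 : act 0 n4265 = n4237 := d2_1 D4265 F6950 F6802
theorem F6976 : act 1 n4265 = n3164 := d6_1 D4265 (iv D3164) D3163
theorem F6977 : act 2 n4265 = n3549 := d9_1 D4265 F5744 F4706 F3510 (iv F3643) (iv F3794) (iv F5048) D4169 F6822 (iv D3933) F4701 D2953 (iv F5313) F6782 F6780
theorem F6978 : act 5 n4265 = n3717 := d13_2 F6818 D4265 F6819
def n4266 : Q := act 4 n3163
theorem D4266 : act 4 n3163 = n4266 := rfl
theorem F6979 : act 1 n4266 = n3165 := d7_1 D4266 (iv D3165) D3163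
def n4267 : Q := act 4 n3164
theorem D4267 : act 4 n3164 = n4267 := rfl
theorem F6980 : act 0 n4267 = n3168 := d3_1 D4267 (iv D3168) (iv F5165)
theorem F6981 : act 2 n4267 = n3548 := d10_1 D4267 (iv D3548) (iv F5166)
def n4268 : Q := act 3 n3165
theorem D4268 : act 3 n3165 = n4268 := rfl
theorem F6982 : act 0 n4268 = n3169 := d2_1 D4268 (iv D3169) (iv F5168)
def n4269 : Q := act 5 n3165
theorem D4269 : act 5 n3165 = n4269 := rfl
theorem F6983 : act 0 n4269 = n3170 := d4_1 D4269 (iv D3170) (iv F5168)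
theorem F6984 : act 2 n4269 = n3166 := d11_1 D4269 (iv D3166) (iv F5169)
def n4270 : Q := act 1 n3167
theorem D4270 : act 1 n3167 = n4270 := rfl
theorem F6985 : act 0 n4270 = n3538 := d0_1 D4270 F5719 F4188 (iv F4204) (iv F5171)
theorem F6986 : act 2 n4270 = n4247 := d5_2 D3167 D4270 F6962 F5234 F5041
theorem F6987 : act 3 n4270 = n3537 := d6_2 (iv F5172) D4270 F5716
theorem F6988 : act 5 n4270 = n3711 := d8_2 (iv F5173) D4270 F6066
def n4271 : Q := act 4 n3167
theorem D4271 : act 4 n3167 = n4271 := rfl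
theorem F6989 : act 0 n4271 = n3548 := d3_1 D4271 (iv D3548) (iv F5171)
theorem F6990 : act 2 n4271 = n3168 := d10_1 D4271 (iv D3168) D3167
def n4272 : Q := act 3 n3168
theorem D4272 : act 3 n3168 = n4272 := rfl
theorem F6991 : act 4 n4272 = n3169 := d12_2 D3168 D4272 (iv D3169) (iv D2325) D2324
def n4273 : Q := act 5 n3168
theorem D4273 : act 5 n3168 = n4273 := rfl
def n4274 : Q := act 2 n3169
theorem D4274 : act 2 n3169 = n4274 := rfl
def n4275 : Q := act 5 n3169
theorem D4275 : act 5 n3169 = n4275 := rfl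
theorem F6992 : act 3 n4275 = n3170 := d13_1 D4275 (iv D3170) D3169
def n4276 : Q := act 4 n3171
theorem D4276 : act 4 n3171 = n4276 := rfl
theorem F6993 : act 1 n4276 = n3172 := d7_1 D4276 (iv D3172) D3171
def n4277 : Q := act 3 n3172
theorem D4277 : act 3 n3172 = n4277 := rfl
theorem F6994 : act 0 n4277 = n3175 := d2_1 D4277 (iv D3175) (iv F5177)
theorem F6995 : act 4 n4277 = n3269 := d12_2 D3172 D4277 (iv D3269) (iv D2400) (iv F3785)
def n4278 : Q := act 5 n3172
theorem D4278 : act 5 n3172 = n4278 := rfl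
theorem F6996 : act 0 n4278 = n3176 := d4_1 D4278 (iv D3176) (iv F5177)
theorem F6997 : act 2 n4278 = n3173 := d11_1 D4278 (iv D3173) (iv F5178)
theorem F6998 : act 4 n4278 = n3180 := d14_1 D4278 (iv D3180) (iv D2333) (iv F3786) D3172
def n4279 : Q := act 3 n3174
theorem D4279 : act 3 n3174 = n4279 := rfl
theorem F6999 : act 0 n4279 = n3269 := d2_1 D4279 (iv D3269) (iv F5181)
theorem F7000 : act 4 n4279 = n3175 := d12_2 D3174 D4279 (iv D3175) (iv D2330) D2329
def n4280 : Q := act 5 n3174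
theorem D4280 : act 5 n3174 = n4280 := rfl
theorem F7001 : act 0 n4280 = n3270 := d4_1 D4280 (iv D3270) (iv F5181)
theorem F7002 : act 2 n4280 = n3266 := d11_1 D4280 (iv D3266) (iv F5182)
theorem F7003 : act 4 n4280 = n3188 := d14_1 D4280 (iv D3188) (iv D2338) (iv F3790) D3174
def n4281 : Q := act 2 n3175
theorem D4281 : act 2 n3175 = n4281 := rfl
def n4282 : Q := act 5 n3175
theorem D4282 : act 5 n3175 = n4282 := rfl
theorem F7004 : act 3 n4282 = n3176 := d13_1 D4282 (iv D3176) D3175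
def n4283 : Q := act 4 n3177
theorem D4283 : act 4 n3177 = n4283 := rfl
theorem F7005 : act 0 n4283 = n3178 := d3_1 D4283 (iv D3178) D3177
theorem F7006 : act 1 n4283 = n3182 := d7_1 D4283 (iv D3182) (iv F5185)
def n4284 : Q := act 3 n3178
theorem D4284 : act 3 n3178 = n4284 := rfl
theorem F7007 : act 1 n4284 = n3179 := d6_1 D4284 (iv D3179) (iv F5187)
theorem F7008 : act 4 n4284 = n4125 := d12_2 D3178 D4284 (iv D4125) (iv D3059) (iv F3794)
def n4285 : Q := act 5 n3178
theorem D4285 : act 5 n3178 = n4285 := rfl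
theorem F7009 : act 1 n4285 = n3180 := d8_1 D4285 (iv D3180) (iv F5187)
def n4286 : Q := act 2 n3179
theorem D4286 : act 2 n3179 = n4286 := rfl
theorem F7010 : act 0 n4286 = n3189 := d1_1 D4286 (iv D3189) (iv F5188)
theorem F7011 : act 4 n4286 = n4127 := d10_2 (iv F5189) D4286 (iv D4127)
theorem F7012 : act 3 n4286 = n3208 := d15_1 D4286 F5231 F3829 F2788 (iv F2773) (iv F3805) (iv F5208) (iv D3190) (iv F5188)
theorem F7013 : act 5 n3207 = n4286 := d13_0 F7012 (iv D3208) D3207
def n4287 : Q := act 5 n3179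
theorem D4287 : act 5 n3179 = n4287 := rfl
theorem F7014 : act 0 n4287 = n3190 := d4_1 D4287 (iv D3190) (iv F5188)
theorem F7015 : act 2 n4287 = n3207 := d11_1 D4287 F7013 (iv D4286)
theorem F7016 : act 3 n4287 = n3180 := d13_1 D4287 (iv D3180) D3179
def n4288 : Q := act 4 n3181
theorem D4288 : act 4 n3181 = n4288 := rfl
theorem F7017 : act 0 n4288 = n3184 := d3_1 D4288 (iv D3184) (iv F5192)
theorem F7018 : act 1 n4288 = n4124 := d7_1 D4288 (iv D4124) (iv F5193)
theorem F7019 : act 2 n4288 = n3699 := d10_1 D4288 (iv D3699) (iv F5194)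
def n4289 : Q := act 3 n3182
theorem D4289 : act 3 n3182 = n4289 := rfl
theorem F7020 : act 0 n4289 = n3185 := d2_1 D4289 (iv D3185) (iv F5195)
def n4290 : Q := act 5 n3182
theorem D4290 : act 5 n3182 = n4290 := rfl
theorem F7021 : act 0 n4290 = n3186 := d4_1 D4290 (iv D3186) (iv F5195)
theorem F7022 : act 2 n4290 = n3192 := d11_1 D4290 (iv D3192) (iv F5196)
def n4291 : Q := act 4 n3183
theorem D4291 : act 4 n3183 = n4291 := rfl
theorem F7023 : act 0 n4291 = n3699 := d3_1 D4291 (iv D3699) (iv F5197)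
theorem F7024 : act 1 n4291 = n4117 := d7_1 D4291 (iv D4117) (iv F5198)
theorem F7025 : act 2 n4291 = n3184 := d10_1 D4291 (iv D3184) D3183
def n4292 : Q := act 3 n3184
theorem D4292 : act 3 n3184 = n4292 := rfl
theorem F7026 : act 1 n4292 = n3187 := d6_1 D4292 (iv D3187) (iv F5200)
theorem F7027 : act 4 n4292 = n3185 := d12_2 D3184 D4292 (iv D3185) (iv D2337) D2336
def n4293 : Q := act 5 n3184
theorem D4293 : act 5 n3184 = n4293 := rfl
theorem F7028 : act 1 n4293 = n3188 := d8_1 D4293 (iv D3188) (iv F5200)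
def n4294 : Q := act 2 n3185
theorem D4294 : act 2 n3185 = n4294 := rfl
def n4295 : Q := act 5 n3185
theorem D4295 : act 5 n3185 = n4295 := rfl
theorem F7029 : act 1 n4295 = n3190 := d8_1 D4295 (iv D3190) (iv F5201)
theorem F7030 : act 3 n4295 = n3186 := d13_1 D4295 (iv D3186) D3185
def n4296 : Q := act 2 n3187
theorem D4296 : act 2 n3187 = n4296 := rfl
theorem F7031 : act 0 n4296 = n4127 := d1_1 D4296 (iv D4127) (iv F5204)
theorem F7032 : act 4 n4296 = n3189 := d10_2 (iv F5205) D4296 (iv D3189)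
def n4297 : Q := act 5 n3187
theorem D4297 : act 5 n3187 = n4297 := rfl
theorem F7033 : act 0 n4297 = n4128 := d4_1 D4297 (iv D4128) (iv F5204)
theorem F7034 : act 3 n4297 = n3188 := d13_1 D4297 (iv D3188) D3187
def n4298 : Q := act 1 n3189
theorem D4298 : act 1 n3189 = n4298 := rfl
def n4299 : Q := act 3 n3189
theorem D4299 : act 3 n3189 = n4299 := rfl
theorem F7035 : act 0 n4299 = n3208 := d2_1 D4299 (iv F7012) F7010
theorem F7036 : act 2 n4299 = n3198 := d9_1 D4299 F5219 F3817 (iv F3798) (iv F5191) (iv F7016) F7015 (iv D3207) (iv D2355) (iv D1709) F2015 (iv F2005) (iv F2771) D2339 D3189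
theorem F7037 : act 5 n4299 = n3197 := d15_8 (iv D2355) (iv D1709) F2015 (iv F2005) (iv F2771) D2339 D3189 D4299 F5216
def n4300 : Q := act 5 n3189
theorem D4300 : act 5 n3189 = n4300 := rfl
theorem F7038 : act 0 n4300 = n3207 := d4_1 D4300 F7013 F7010
theorem F7039 : act 2 n4300 = n3190 := d11_1 D4300 (iv D3190) D3189
theorem F7040 : act 3 n4300 = n3197 := d13_1 D4300 (iv F7037) (iv D4299)
def n4301 : Q := act 4 n3190
theorem D4301 : act 4 n3190 = n4301 := rfl
def n4302 : Q := act 2 n3191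
theorem D4302 : act 2 n3191 = n4302 := rfl
theorem F7041 : act 0 n4302 = n3193 := d1_1 D4302 (iv D3193) (iv F5209)
def n4303 : Q := act 5 n3191
theorem D4303 : act 5 n3191 = n4303 := rfl
theorem F7042 : act 0 n4303 = n3194 := d4_1 D4303 (iv D3194) (iv F5209)
theorem F7043 : act 3 n4303 = n3192 := d13_1 D4303 (iv D3192) D3191
def n4304 : Q := act 3 n3193
theorem D4304 : act 3 n3193 = n4304 := rfl
def n4305 : Q := act 2 n3195
theorem D4305 : act 2 n3195 = n4305 := rfl
theorem F7044 : act 4 n4305 = n3729 := d10_2 (iv F5214) D4305 (iv D3729)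
def n4306 : Q := act 5 n3195
theorem D4306 : act 5 n3195 = n4306 := rfl
theorem F7045 : act 1 n4306 = n3198 := d8_1 D4306 (iv D3198) (iv F5213)
theorem F7046 : act 3 n4306 = n3196 := d13_1 D4306 (iv D3196) D3195
def n4307 : Q := act 1 n3197
theorem D4307 : act 1 n3197 = n4307 := rfl
theorem F7047 : act 4 n4307 = n3731 := d7_2 (iv F5217) D4307 (iv D3731)
def n4308 : Q := act 4 n3198
theorem D4308 : act 4 n3198 = n4308 := rfl
theorem F7048 : act 0 n4308 = n3209 := d3_1 D4308 (iv D3209) (iv F5218)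
theorem F7049 : act 5 n4308 = n3734 := d14_2 D3198 D4308 (iv D3734) (iv D2761) (iv F3815)
def n4309 : Q := act 2 n3199
theorem D4309 : act 2 n3199 = n4309 := rfl
theorem F7050 : act 0 n4309 = n3202 := d1_1 D4309 (iv D3202) (iv F5220)
def n4310 : Q := act 2 n3200
theorem D4310 : act 2 n3200 = n4310 := rfl
theorem F7051 : act 4 n4310 = n3202 := d10_2 (iv F5222) D4310 (iv D3202)
def n4311 : Q := act 5 n3200
theorem D4311 : act 5 n3200 = n4311 := rfl
theorem F7052 : act 1 n4311 = n3205 := d8_1 D4311 (iv D3205) (iv F5221)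
theorem F7053 : act 3 n4311 = n3201 := d13_1 D4311 (iv D3201) D3200
def n4312 : Q := act 1 n3202
theorem D4312 : act 1 n3202 = n4312 := rfl
theorem F7054 : act 2 n4312 = n3206 := d5_2 D3202 D4312 (iv D3206) (iv D2355) (iv F3821)
def n4313 : Q := act 3 n3202
theorem D4313 : act 3 n3202 = n4313 := rfl
theorem F7055 : act 2 n4313 = n3203 := d15_2 D3202 D4313 F5226 F3823 (iv F3550) (iv F4884) D4059 F6645 F5220
theorem F7056 : act 5 n4313 = n3202 := d15_8 (iv D4309) (iv D3199) F3819 F2791 (iv F2785) D2351 D3202 D4313 (iv F7050)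
def n4314 : Q := act 4 n3203
theorem D4314 : act 4 n3203 = n4314 := rfl
theorem F7057 : act 1 n4314 = n3209 := d7_1 D4314 (iv D3209) (iv F5225)
theorem F7058 : act 3 n4314 = n3299 := d12_1 D4314 (iv D3299) F3916 (iv F3824) (iv F5226)
def n4315 : Q := act 1 n3204
theorem D4315 : act 1 n3204 = n4315 := rfl
theorem F7059 : act 4 n4315 = n3206 := d7_2 (iv F5228) D4315 (iv D3206)
def n4316 : Q := act 3 n3204
theorem D4316 : act 3 n3204 = n4316 := rfl
theorem F7060 : act 0 n4316 = n3732 := d2_1 D4316 (iv D3732) (iv F5227)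
theorem F7061 : act 2 n4316 = n3239 := d15_2 D3204 D4316 F5276 F3862 F2823 (iv F3272) (iv F4448) (iv D2761) (iv F3825)
theorem F7062 : act 5 n3238 = n4316 := d11_0 F7061 (iv D3239) D3238
def n4317 : Q := act 5 n3204
theorem D4317 : act 5 n3204 = n4317 := rfl
theorem F7063 : act 0 n4317 = n3733 := d4_1 D4317 (iv D3733) (iv F5227)
theorem F7064 : act 2 n4317 = n3205 := d11_1 D4317 (iv D3205) D3204
theorem F7065 : act 3 n4317 = n3238 := d13_1 D4317 F7062 (iv D4316)
def n4318 : Q := act 4 n3205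
theorem D4318 : act 4 n3205 = n4318 := rfl
theorem F7066 : act 0 n4318 = n3734 := d3_1 D4318 (iv D3734) (iv F5229)
theorem F7067 : act 5 n4318 = n3209 := d14_2 D3205 D4318 (iv D3209) (iv D2356) (iv F3826)
def n4319 : Q := act 0 n3206
theorem D4319 : act 0 n3206 = n4319 := rfl
def n4320 : Q := act 3 n3206
theorem D4320 : act 3 n3206 = n4320 := rfl
theorem F7068 : act 1 n4320 = n3207 := d6_1 D4320 (iv D3207) D3206
def n4321 : Q := act 5 n3206
theorem D4321 : act 5 n3206 = n4321 := rfl
theorem F7069 : act 1 n4321 = n3208 := d8_1 D4321 (iv D3208) D3206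
def n4322 : Q := act 4 n3207
theorem D4322 : act 4 n3207 = n4322 := rfl
def n4323 : Q := act 4 n3208
theorem D4323 : act 4 n3208 = n4323 := rfl
theorem F7070 : act 2 n4323 = n3209 := d10_1 D4323 (iv D3209) (iv F5231)
def n4324 : Q := act 4 n3210
theorem D4324 : act 4 n3210 = n4324 := rfl
theorem F7071 : act 1 n4324 = n3212 := d7_1 D4324 (iv D3212) D3210
theorem F7072 : act 2 n4324 = n3221 := d10_1 D4324 (iv D3221) (iv F5232)
def n4325 : Q := act 4 n3211
theorem D4325 : act 4 n3211 = n4325 := rfl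
theorem F7073 : act 0 n4325 = n3216 := d3_1 D4325 (iv D3216) (iv F5233)
theorem F7074 : act 2 n4325 = n4165 := d10_1 D4325 (iv D4165) (iv F5234)
def n4326 : Q := act 3 n3212
theorem D4326 : act 3 n3212 = n4326 := rfl
theorem F7075 : act 0 n4326 = n3217 := d2_1 D4326 (iv D3217) (iv F5236)
def n4327 : Q := act 5 n3212
theorem D4327 : act 5 n3212 = n4327 := rfl
theorem F7076 : act 0 n4327 = n3218 := d4_1 D4327 (iv D3218) (iv F5236)
theorem F7077 : act 2 n4327 = n3213 := d11_1 D4327 (iv D3213) (iv F5237)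
def n4328 : Q := act 2 n3214
theorem D4328 : act 2 n3214 = n4328 := rfl
theorem F7078 : act 0 n4328 = n3219 := d1_1 D4328 (iv D3219) (iv F5241)
theorem F7079 : act 5 n4328 = n3274 := d11_2 (iv F5243) D4328 (iv D3274)
theorem F7080 : act 3 n4328 = n3984 := d15_1 D4328 (iv D3984) (iv D2944) (iv D2147) (iv D1555) (iv F2276) D1915 (iv F3844) (iv F5241)
def n4329 : Q := act 4 n3215
theorem D4329 : act 4 n3215 = n4329 := rfl
theorem F7081 : act 0 n4329 = n4165 := d3_1 D4329 (iv D4165) (iv F5244)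
theorem F7082 : act 2 n4329 = n3216 := d10_1 D4329 (iv D3216) D3215
def n4330 : Q := act 3 n3216
theorem D4330 : act 3 n3216 = n4330 := rfl
theorem F7083 : act 4 n4330 = n3217 := d12_2 D3216 D4330 (iv D3217) (iv D2362) D2361
def n4331 : Q := act 5 n3216
theorem D4331 : act 5 n3216 = n4331 := rfl
def n4332 : Q := act 2 n3217
theorem D4332 : act 2 n3217 = n4332 := rfl
def n4333 : Q := act 5 n3217
theorem D4333 : act 5 n3217 = n4333 := rfl
theorem F7084 : act 3 n4333 = n3218 := d13_1 D4333 (iv D3218) D3217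
def n4334 : Q := act 3 n3219
theorem D4334 : act 3 n3219 = n4334 := rfl
theorem F7085 : act 0 n4334 = n3984 := d2_1 D4334 (iv F7080) F7078
theorem F7086 : act 1 n4334 = n3650 := d6_1 D4334 (iv D3650) (iv F5248)
theorem F7087 : act 5 n4334 = n3569 := d13_2 (iv F5249) D4334 (iv D3569)
theorem F7088 : act 2 n4334 = n3981 := d15_2 D3219 D4334 (iv D3981) (iv D2942) (iv D2146) (iv F2847) D2404 (iv F5243) F5241
def n4335 : Q := act 4 n3220
theorem D4335 : act 4 n3220 = n4335 := rfl
theorem F7089 : act 0 n4335 = n3221 := d3_1 D4335 (iv D3221) D3220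
theorem F7090 : act 1 n4335 = n3230 := d7_1 D4335 (iv D3230) (iv F5250)
def n4336 : Q := act 3 n3221
theorem D4336 : act 3 n3221 = n4336 := rfl
theorem F7091 : act 1 n4336 = n3223 := d6_1 D4336 (iv D3223) (iv F5251)
def n4337 : Q := act 5 n3221
theorem D4337 : act 5 n3221 = n4337 := rfl
theorem F7092 : act 1 n4337 = n3224 := d8_1 D4337 (iv D3224) (iv F5251)
def n4338 : Q := act 4 n3222
theorem D4338 : act 4 n3222 = n4338 := rfl
theorem F7093 : act 1 n4338 = n3225 := d7_1 D4338 (iv D3225) (iv F5252)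
def n4339 : Q := act 2 n3223
theorem D4339 : act 2 n3223 = n4339 := rfl
theorem F7094 : act 0 n4339 = n3238 := d1_1 D4339 (iv D3238) (iv F5254)
theorem F7095 : act 3 n4339 = n3733 := d9_2 D3223 D4339 F6087 F4448 F3272 (iv F2823) (iv F3862) (iv F5276) (iv F7061) (iv D4316) (iv D3204) (iv D2353) F2787 (iv F2813) (iv F3846)
theorem F7096 : act 5 n3732 = n4339 := d13_0 F7095 (iv D3733) D3732
def n4340 : Q := act 5 n3223
theorem D4340 : act 5 n3223 = n4340 := rfl
theorem F7097 : act 0 n4340 = n3239 := d4_1 D4340 (iv D3239) (iv F5254)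
theorem F7098 : act 2 n4340 = n3732 := d11_1 D4340 F7096 (iv D4339)
theorem F7099 : act 3 n4340 = n3224 := d13_1 D4340 (iv D3224) D3223
def n4341 : Q := act 4 n3224
theorem D4341 : act 4 n3224 = n4341 := rfl
theorem F7100 : act 0 n4341 = n3240 := d3_1 D4341 (iv D3240) (iv F5255)
theorem F7101 : act 2 n4341 = n3226 := d10_1 D4341 (iv D3226) (iv F5256)
theorem F7102 : act 5 n4341 = n3225 := d14_2 D3224 D4341 (iv D3225) (iv D2367) D2366
def n4342 : Q := act 3 n3225
theorem D4342 : act 3 n3225 = n4342 := rfl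
theorem F7103 : act 0 n4342 = n3241 := d2_1 D4342 (iv D3241) (iv F5257)
theorem F7104 : act 4 n4342 = n3260 := d12_2 D3225 D4342 (iv D3260) (iv D2393) (iv F3849)
def n4343 : Q := act 3 n3226
theorem D4343 : act 3 n3226 = n4343 := rfl
theorem F7105 : act 0 n4343 = n3242 := d2_1 D4343 (iv D3242) (iv F5259)
theorem F7106 : act 4 n4343 = n3276 := d12_2 D3226 D4343 F5327 F3902 (iv F3851)
theorem F7107 : act 5 n4343 = n3227 := d13_2 (iv F5260) D4343 (iv D3227)
def n4344 : Q := act 2 n3227
theorem D4344 : act 2 n3227 = n4344 := rfl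
theorem F7108 : act 0 n4344 = n3243 := d1_1 D4344 (iv D3243) (iv F5261)
theorem F7109 : act 4 n4344 = n3228 := d10_2 (iv F5262) D4344 (iv D3228)
def n4345 : Q := act 1 n3228
theorem D4345 : act 1 n3228 = n4345 := rfl
theorem F7110 : act 3 n4345 = n3273 := d6_2 (iv F5264) D4345 (iv D3273)
theorem F7111 : act 5 n4345 = n3277 := d8_2 (iv F5265) D4345 (iv D3277)
def n4346 : Q := act 4 n3229
theorem D4346 : act 4 n3229 = n4346 := rfl
theorem F7112 : act 0 n4346 = n3232 := d3_1 D4346 (iv D3232) (iv F5266)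
def n4347 : Q := act 3 n3230
theorem D4347 : act 3 n3230 = n4347 := rfl
theorem F7113 : act 0 n4347 = n3233 := d2_1 D4347 (iv D3233) (iv F5267)
def n4348 : Q := act 5 n3230
theorem D4348 : act 5 n3230 = n4348 := rfl
theorem F7114 : act 0 n4348 = n3234 := d4_1 D4348 (iv D3234) (iv F5267)
theorem F7115 : act 2 n4348 = n3247 := d11_1 D4348 (iv D3247) (iv F5268)
def n4349 : Q := act 4 n3231
theorem D4349 : act 4 n3231 = n4349 := rfl
theorem F7116 : act 2 n4349 = n3232 := d10_1 D4349 (iv D3232) D3231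
def n4350 : Q := act 3 n3232
theorem D4350 : act 3 n3232 = n4350 := rfl
theorem F7117 : act 1 n4350 = n3235 := d6_1 D4350 (iv D3235) (iv F5269)
theorem F7118 : act 4 n4350 = n3233 := d12_2 D3232 D4350 (iv D3233) (iv D2373) D2372
def n4351 : Q := act 5 n3232
theorem D4351 : act 5 n3232 = n4351 := rfl
theorem F7119 : act 1 n4351 = n3236 := d8_1 D4351 (iv D3236) (iv F5269)
def n4352 : Q := act 2 n3233
theorem D4352 : act 2 n3233 = n4352 := rfl
def n4353 : Q := act 5 n3233
theorem D4353 : act 5 n3233 = n4353 := rfl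
theorem F7120 : act 1 n4353 = n3239 := d8_1 D4353 (iv D3239) (iv F5270)
theorem F7121 : act 3 n4353 = n3234 := d13_1 D4353 (iv D3234) D3233
def n4354 : Q := act 2 n3235
theorem D4354 : act 2 n3235 = n4354 := rfl
theorem F7122 : act 4 n4354 = n3238 := d10_2 (iv F5273) D4354 (iv D3238)
def n4355 : Q := act 5 n3235
theorem D4355 : act 5 n3235 = n4355 := rfl
theorem F7123 : act 3 n4355 = n3236 := d13_1 D4355 (iv D3236) D3235
def n4356 : Q := act 4 n3236
theorem D4356 : act 4 n3236 = n4356 := rfl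
theorem F7124 : act 0 n4356 = n3261 := d3_1 D4356 (iv F5979) F5977
theorem F7125 : act 2 n4356 = n3257 := d10_1 D4356 (iv F5968) F5966
theorem F7126 : act 5 n4356 = n3237 := d14_2 D3236 D4356 (iv D3237) (iv D2375) D2374
def n4357 : Q := act 3 n3237
theorem D4357 : act 3 n3237 = n4357 := rfl
theorem F7127 : act 0 n4357 = n3260 := d2_1 D4357 (iv D3260) (iv F5274)
theorem F7128 : act 4 n4357 = n3241 := d12_2 D3237 D4357 (iv D3241) (iv D2378) (iv F3861)
def n4358 : Q := act 1 n3238
theorem D4358 : act 1 n3238 = n4358 := rfl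
def n4359 : Q := act 4 n3239
theorem D4359 : act 4 n3239 = n4359 := rfl
def n4360 : Q := act 3 n3240
theorem D4360 : act 3 n3240 = n4360 := rfl
theorem F7129 : act 5 n4360 = n3241 := d13_2 (iv F5278) D4360 (iv D3241)
def n4361 : Q := act 2 n3241
theorem D4361 : act 2 n3241 = n4361 := rfl
def n4362 : Q := act 2 n3242
theorem D4362 : act 2 n3242 = n4362 := rfl
theorem F7130 : act 4 n4362 = n3282 := d10_2 (iv F5280) D4362 F5331
theorem F7131 : act 5 n4362 = n3243 := d11_2 (iv F5281) D4362 (iv D3243)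
def n4363 : Q := act 1 n3243
theorem D4363 : act 1 n3243 = n4363 := rfl
theorem F7132 : act 2 n4363 = n3253 := d5_2 D3243 D4363 (iv D3253) (iv D2388) (iv F3866)
theorem F7133 : act 4 n4363 = n3244 := d7_2 (iv F5282) D4363 (iv D3244)
def n4364 : Q := act 3 n3243
theorem D4364 : act 3 n3243 = n4364 := rfl
def n4365 : Q := act 0 n3244
theorem D4365 : act 0 n3244 = n4365 := rfl
theorem F7134 : act 2 n4365 = n3254 := d1_2 (iv F5283) D4365 (iv D3254)
theorem F7135 : act 5 n4365 = n3283 := d4_2 (iv F5284) D4365 (iv D3283)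
def n4366 : Q := act 3 n3244
theorem D4366 : act 3 n3244 = n4366 := rfl
theorem F7136 : act 1 n4366 = n3245 := d6_1 D4366 (iv D3245) D3244
theorem F7137 : act 5 n4366 = n3284 := d13_2 (iv F5284) D4366 (iv D3284)
def n4367 : Q := act 4 n3245
theorem D4367 : act 4 n3245 = n4367 := rfl
theorem F7138 : act 0 n4367 = n3271 := d3_1 D4367 F5319 (iv F5285)
theorem F7139 : act 2 n4367 = n3265 := d10_1 D4367 F5310 (iv F5286)
def n4368 : Q := act 2 n3246
theorem D4368 : act 2 n3246 = n4368 := rfl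
theorem F7140 : act 0 n4368 = n3248 := d1_1 D4368 (iv D3248) (iv F5288)
def n4369 : Q := act 5 n3246
theorem D4369 : act 5 n3246 = n4369 := rfl
theorem F7141 : act 0 n4369 = n3249 := d4_1 D4369 (iv D3249) (iv F5288)
theorem F7142 : act 3 n4369 = n3247 := d13_1 D4369 (iv D3247) D3246
def n4370 : Q := act 1 n3248
theorem D4370 : act 1 n3248 = n4370 := rfl
theorem F7143 : act 2 n4370 = n3250 := d5_2 D3248 D4370 (iv D3250) (iv D2385) (iv F3870)
def n4371 : Q := act 3 n3248
theorem D4371 : act 3 n3248 = n4371 := rfl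
def n4372 : Q := act 5 n3248
theorem D4372 : act 5 n3248 = n4372 := rfl
theorem F7144 : act 2 n4372 = n3249 := d11_1 D4372 (iv D3249) D3248
def n4373 : Q := act 4 n3249
theorem D4373 : act 4 n3249 = n4373 := rfl
theorem F7145 : act 1 n4373 = n3251 := d7_1 D4373 (iv D3251) (iv F5290)
def n4374 : Q := act 0 n3250
theorem D4374 : act 0 n3250 = n4374 := rfl
def n4375 : Q := act 1 n3252
theorem D4375 : act 1 n3252 = n4375 := rfl
theorem F7146 : act 4 n4375 = n3655 := d7_2 (iv F5293) D4375 F5951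
theorem F7147 : act 5 n4375 = n3253 := d8_2 (iv F5294) D4375 (iv D3253)
def n4376 : Q := act 0 n3253
theorem D4376 : act 0 n3253 = n4376 := rfl
theorem F7148 : act 1 n4376 = n3649 := d0_2 D3253 D4376 F5945 F4336 (iv F3875)
theorem F7149 : act 4 n4376 = n3254 := d3_2 (iv F5295) D4376 (iv D3254)
def n4377 : Q := act 4 n3255
theorem D4377 : act 4 n3255 = n4377 := rfl
theorem F7150 : act 2 n4377 = n3256 := d10_1 D4377 (iv D3256) D3255
def n4378 : Q := act 5 n3256
theorem D4378 : act 5 n3256 = n4378 := rfl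
theorem F7151 : act 1 n4378 = n3257 := d8_1 D4378 (iv D3257) (iv F5299)
def n4379 : Q := act 4 n3258
theorem D4379 : act 4 n3258 = n4379 := rfl
theorem F7152 : act 0 n4379 = n3259 := d3_1 D4379 (iv D3259) D3258
def n4380 : Q := act 3 n3259
theorem D4380 : act 3 n3259 = n4380 := rfl
theorem F7153 : act 1 n4380 = n3260 := d6_1 D4380 (iv D3260) (iv F5301)
def n4381 : Q := act 5 n3259
theorem D4381 : act 5 n3259 = n4381 := rfl
theorem F7154 : act 1 n4381 = n3261 := d8_1 D4381 (iv D3261) (iv F5301)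
def n4382 : Q := act 2 n3260
theorem D4382 : act 2 n3260 = n4382 := rfl
def n4383 : Q := act 5 n3260
theorem D4383 : act 5 n3260 = n4383 := rfl
theorem F7155 : act 3 n4383 = n3261 := d13_1 D4383 (iv D3261) D3260
def n4384 : Q := act 3 n3262
theorem D4384 : act 3 n3262 = n4384 := rfl
theorem F7156 : act 0 n4384 = n4036 := d2_1 D4384 (iv D4036) (iv F5303)
theorem F7157 : act 1 n4384 = n3692 := d6_1 D4384 (iv F6795) F6794
theorem F7158 : act 2 n4384 = n3658 := d9_1 D4384 (iv D3658) (iv D2695) (iv D1965) F2317 D1620 D2230 D3053 D4119 F6747 (iv D3255) (iv D2390) (iv F2836) D2395 D3262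
theorem F7159 : act 5 n4384 = n3690 := d13_2 (iv F5304) D4384 F6028
def n4385 : Q := act 4 n3262
theorem D4385 : act 4 n3262 = n4385 := rfl
theorem F7160 : act 0 n4385 = n4037 := d3_1 D4385 (iv D4037) (iv F5303)
theorem F7161 : act 2 n4385 = n3263 := d10_1 D4385 (iv D3263) D3262
def n4386 : Q := act 3 n3263
theorem D4386 : act 3 n3263 = n4386 := rfl
theorem F7162 : act 0 n4386 = n4045 := d2_1 D4386 (iv D4045) (iv F5305)
theorem F7163 : act 1 n4386 = n3265 := d6_1 D4386 (iv D3265) (iv F5306)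
theorem F7164 : act 4 n4386 = n3264 := d12_2 D3263 D4386 (iv D3264) (iv D2396) D2395
def n4387 : Q := act 5 n3263
theorem D4387 : act 5 n3263 = n4387 := rfl
theorem F7165 : act 0 n4387 = n4046 := d4_1 D4387 (iv D4046) (iv F5305)
theorem F7166 : act 1 n4387 = n3266 := d8_1 D4387 (iv D3266) (iv F5306)
theorem F7167 : act 4 n4387 = n4118 := d14_1 D4387 (iv D4118) (iv D3052) (iv F3884) D3263
def n4388 : Q := act 2 n3264
theorem D4388 : act 2 n3264 = n4388 := rfl
theorem F7168 : act 0 n4388 = n4123 := d1_1 D4388 (iv D4123) (iv F5307)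
def n4389 : Q := act 5 n3265
theorem D4389 : act 5 n3265 = n4389 := rfl
theorem F7169 : act 0 n4389 = n3272 := d4_1 D4389 (iv D3272) (iv F5309)
theorem F7170 : act 3 n4389 = n3266 := d13_1 D4389 (iv D3266) D3265
def n4390 : Q := act 4 n3267
theorem D4390 : act 4 n3267 = n4390 := rfl
theorem F7171 : act 0 n4390 = n3268 := d3_1 D4390 (iv D3268) D3267
theorem F7172 : act 2 n4390 = n3997 := d10_1 D4390 (iv D3997) (iv F5313)
def n4391 : Q := act 3 n3268
theorem D4391 : act 3 n3268 = n4391 := rfl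
theorem F7173 : act 1 n4391 = n3269 := d6_1 D4391 (iv D3269) (iv F5315)
def n4392 : Q := act 5 n3268
theorem D4392 : act 5 n3268 = n4392 := rfl
theorem F7174 : act 1 n4392 = n3270 := d8_1 D4392 (iv D3270) (iv F5315)
theorem F7175 : act 2 n4392 = n3999 := d11_1 D4392 (iv D3999) (iv F5316)
theorem F7176 : act 4 n4392 = n4126 := d14_1 D4392 (iv D4126) (iv D3059) (iv F3891) D3268
def n4393 : Q := act 2 n3269
theorem D4393 : act 2 n3269 = n4393 := rfl
def n4394 : Q := act 5 n3269
theorem D4394 : act 5 n3269 = n4394 := rfl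
theorem F7177 : act 3 n4394 = n3270 := d13_1 D4394 (iv D3270) D3269
def n4395 : Q := act 1 n3271
theorem D4395 : act 1 n3271 = n4395 := rfl
theorem F7178 : act 2 n4395 = n4138 := d5_2 D3271 D4395 (iv D4138) (iv D3068) (iv F3893)
theorem F7179 : act 4 n4395 = n3273 := d7_2 (iv F5319) D4395 (iv D3273)
def n4396 : Q := act 3 n3271
theorem D4396 : act 3 n3271 = n4396 := rfl
def n4397 : Q := act 5 n3271
theorem D4397 : act 5 n3271 = n4397 := rfl
theorem F7180 : act 2 n4397 = n3272 := d11_1 D4397 (iv D3272) D3271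
def n4398 : Q := act 0 n3273
theorem D4398 : act 0 n3273 = n4398 := rfl
theorem F7181 : act 2 n4398 = n4140 := d1_2 (iv F5322) D4398 (iv D4140)
def n4399 : Q := act 1 n3274
theorem D4399 : act 1 n3274 = n4399 := rfl
theorem F7182 : act 2 n4399 = n3277 := d5_2 D3274 D4399 (iv D3277) (iv D2407) (iv F3898)
def n4400 : Q := act 3 n3274
theorem D4400 : act 3 n3274 = n4400 := rfl
theorem F7183 : act 0 n4400 = n3569 := d2_1 D4400 (iv D3569) (iv F5323)
theorem F7184 : act 2 n4400 = n3978 := d9_1 D4400 (iv D3978) (iv D2940) (iv D2144) (iv F2804) D2364 D3219 D4334 F7088 (iv D3981) (iv D2942) (iv D2146) (iv F2847) D2404 D3274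
theorem F7185 : act 5 n4400 = n3984 := d13_2 F7079 D4400 (iv F7080)
def n4401 : Q := act 1 n3275
theorem D4401 : act 1 n3275 = n4401 := rfl
theorem F7186 : act 4 n4401 = n3277 := d7_2 (iv F5325) D4401 (iv D3277)
def n4402 : Q := act 3 n3275
theorem D4402 : act 3 n3275 = n4402 := rfl
theorem F7187 : act 0 n4402 = n3281 := d2_1 D4402 (iv D3281) (iv F5324)
def n4403 : Q := act 5 n3275
theorem D4403 : act 5 n3275 = n4403 := rfl
theorem F7188 : act 0 n4403 = n3282 := d4_1 D4403 (iv D3282) (iv F5324)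
theorem F7189 : act 2 n4403 = n3276 := d11_1 D4403 (iv D3276) D3275
def n4404 : Q := act 0 n3277
theorem D4404 : act 0 n3277 = n4404 := rfl
theorem F7190 : act 1 n4404 = n3283 := d0_2 D3277 D4404 (iv D3283) (iv D2412) (iv F3903)
def n4405 : Q := act 1 n3278
theorem D4405 : act 1 n3278 = n4405 := rfl
def n4406 : Q := act 3 n3278
theorem D4406 : act 3 n3278 = n4406 := rfl
def n4407 : Q := act 5 n3278
theorem D4407 : act 5 n3278 = n4407 := rfl
theorem F7191 : act 2 n4407 = n3279 := d11_1 D4407 (iv D3279) D3278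
def n4408 : Q := act 4 n3279
theorem D4408 : act 4 n3279 = n4408 := rfl
theorem F7192 : act 3 n4408 = n3734 := d12_1 D4408 (iv D3734) F4448 (iv F3905) (iv F5328)
def n4409 : Q := act 0 n3280
theorem D4409 : act 0 n3280 = n4409 := rfl
theorem F7193 : act 2 n4409 = n3653 := d1_2 (iv F5329) D4409 F5948
theorem F7194 : act 4 n4409 = n3283 := d3_2 (iv F5330) D4409 (iv D3283)
def n4410 : Q := act 3 n3280
theorem D4410 : act 3 n3280 = n4410 := rfl
theorem F7195 : act 1 n4410 = n3281 := d6_1 D4410 (iv D3281) D3280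
def n4411 : Q := act 5 n3280
theorem D4411 : act 5 n3280 = n4411 := rfl
theorem F7196 : act 1 n4411 = n3282 := d8_1 D4411 (iv D3282) D3280
theorem F7197 : act 2 n4411 = n3655 := d11_1 D4411 (iv D3655) (iv F5329)
def n4412 : Q := act 2 n3281
theorem D4412 : act 2 n3281 = n4412 := rfl
def n4413 : Q := act 4 n3281
theorem D4413 : act 4 n3281 = n4413 := rfl
theorem F7198 : act 3 n4413 = n3285 := d12_1 D4413 (iv D3285) (iv D2413) (iv F3906) D3281
def n4414 : Q := act 5 n3281
theorem D4414 : act 5 n3281 = n4414 := rfl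
theorem F7199 : act 3 n4414 = n3282 := d13_1 D4414 (iv D3282) D3281
def n4415 : Q := act 3 n3283
theorem D4415 : act 3 n3283 = n4415 := rfl
theorem F7200 : act 0 n4415 = n3284 := d2_1 D4415 (iv D3284) D3283
def n4416 : Q := act 2 n3284
theorem D4416 : act 2 n3284 = n4416 := rfl
def n4417 : Q := act 4 n3284
theorem D4417 : act 4 n3284 = n4417 := rfl
theorem F7201 : act 1 n4417 = n3285 := d7_1 D4417 (iv D3285) (iv F5333)
def n4418 : Q := act 5 n3285
theorem D4418 : act 5 n3285 = n4418 := rfl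
def n4419 : Q := act 0 n3287
theorem D4419 : act 0 n3287 = n4419 := rfl
theorem F7202 : act 4 n4419 = n3291 := d3_2 (iv F5336) D4419 (iv D3291)
def n4420 : Q := act 3 n3287
theorem D4420 : act 3 n3287 = n4420 := rfl
theorem F7203 : act 1 n4420 = n3288 := d6_1 D4420 (iv D3288) D3287
def n4421 : Q := act 5 n3287
theorem D4421 : act 5 n3287 = n4421 := rfl
theorem F7204 : act 1 n4421 = n3289 := d8_1 D4421 (iv D3289) D3287
def n4422 : Q := act 2 n3288
theorem D4422 : act 2 n3288 = n4422 := rfl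
theorem F7205 : act 3 n4422 = n3381 := d15_3 D2415 D3288 D4422 F5468 F4017 F2946 (iv F4017) (iv D2486) F2941
theorem F7206 : act 5 n3380 = n4422 := d13_0 F7205 (iv D3381) D3380
def n4423 : Q := act 4 n3288
theorem D4423 : act 4 n3288 = n4423 := rfl
theorem F7207 : act 3 n4423 = n3294 := d12_1 D4423 (iv D3294) (iv D2418) (iv F3912) D3288
def n4424 : Q := act 5 n3288
theorem D4424 : act 5 n3288 = n4424 := rfl
theorem F7208 : act 0 n4424 = n4422 := d4_1 D4424 (iv F7206) F5466
theorem F7209 : act 2 n4424 = n3380 := d11_1 D4424 F7206 (iv D4422)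
theorem F7210 : act 3 n4424 = n3289 := d13_1 D4424 (iv D3289) D3288
def n4425 : Q := act 4 n3289
theorem D4425 : act 4 n3289 = n4425 := rfl
theorem F7211 : act 2 n4425 = n3290 := d10_1 D4425 (iv D3290) (iv F5337)
theorem F7212 : act 5 n4425 = n3295 := d14_2 D3289 D4425 (iv D3295) (iv D2419) (iv F3912)
def n4426 : Q := act 3 n3291
theorem D4426 : act 3 n3291 = n4426 := rfl
theorem F7213 : act 0 n4426 = n3292 := d2_1 D4426 (iv D3292) D3291
def n4427 : Q := act 5 n3291
theorem D4427 : act 5 n3291 = n4427 := rfl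
theorem F7214 : act 0 n4427 = n3293 := d4_1 D4427 (iv D3293) D3291
def n4428 : Q := act 2 n3292
theorem D4428 : act 2 n3292 = n4428 := rfl
def n4429 : Q := act 4 n3292
theorem D4429 : act 4 n3292 = n4429 := rfl
theorem F7215 : act 1 n4429 = n3294 := d7_1 D4429 (iv D3294) (iv F5339)
def n4430 : Q := act 4 n3293
theorem D4430 : act 4 n3293 = n4430 := rfl
theorem F7216 : act 1 n4430 = n3295 := d7_1 D4430 (iv D3295) (iv F5340)
def n4431 : Q := act 5 n3294
theorem D4431 : act 5 n3294 = n4431 := rfl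
def n4432 : Q := act 3 n3295
theorem D4432 : act 3 n3295 = n4432 := rfl
def n4433 : Q := act 0 n3296
theorem D4433 : act 0 n3296 = n4433 := rfl
def n4434 : Q := act 4 n3296
theorem D4434 : act 4 n3296 = n4434 := rfl
theorem F7217 : act 1 n4434 = n3297 := d7_1 D4434 (iv D3297) D3296
def n4435 : Q := act 3 n3297
theorem D4435 : act 3 n3297 = n4435 := rfl
def n4436 : Q := act 5 n3297
theorem D4436 : act 5 n3297 = n4436 := rfl
theorem F7218 : act 2 n4436 = n3298 := d11_1 D4436 (iv D3298) (iv F5342)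
def n4437 : Q := act 4 n3298
theorem D4437 : act 4 n3298 = n4437 := rfl
theorem F7219 : act 5 n4437 = n3299 := d14_2 D3298 D4437 (iv D3299) (iv D2423) D2422
def n4438 : Q := act 2 n3300
theorem D4438 : act 2 n3300 = n4438 := rfl
theorem F7220 : act 0 n4438 = n4310 := d1_1 D4438 (iv D4310) (iv F5344)
theorem F7221 : act 4 n4438 = n4309 := d10_2 (iv F5345) D4438 (iv D4309)
def n4439 : Q := act 5 n3300
theorem D4439 : act 5 n3300 = n4439 := rfl
theorem F7222 : act 0 n4439 = n4311 := d4_1 D4439 (iv D4311) (iv F5344)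
theorem F7223 : act 3 n4439 = n3301 := d13_1 D4439 (iv D3301) D3300
def n4440 : Q := act 1 n3302
theorem D4440 : act 1 n3302 = n4440 := rfl
def n4441 : Q := act 3 n3302
theorem D4441 : act 3 n3302 = n4441 := rfl
theorem F7224 : act 0 n4441 = n3303 := d2_1 D4441 (iv D3303) (iv F5349)
theorem F7225 : act 2 n4441 = n3333 := d9_1 D4441 F5375 F3940 F2886 (iv F2871) (iv F3570) (iv F4909) D4069 F6667 (iv D3326) (iv D2445) (iv D1783) (iv F2867) D2426 D3302
theorem F7226 : act 5 n4441 = n3331 := d13_2 F6662 D4441 F6663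
def n4442 : Q := act 2 n3303
theorem D4442 : act 2 n3303 = n4442 := rfl
theorem F7227 : act 0 n4442 = n3333 := d1_1 D4442 (iv F7225) F7224
theorem F7228 : act 3 n4442 = n3327 := d9_2 D3303 D4442 F5371 F3938 (iv F3921) (iv F4915) (iv F6661) (iv F6663) (iv D3331) (iv D2448) (iv D1785) (iv D1289) (iv F2083) D1768 D2428
theorem F7229 : act 5 n4442 = n3326 := d11_2 F6666 D4442 (iv F6667)
def n4443 : Q := act 4 n3303
theorem D4443 : act 4 n3303 = n4443 := rfl
def n4444 : Q := act 3 n3304
theorem D4444 : act 3 n3304 = n4444 := rfl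
theorem F7230 : act 0 n4444 = n3305 := d2_1 D4444 (iv D3305) D3304
theorem F7231 : act 1 n4444 = n3309 := d6_1 D4444 (iv D3309) (iv F5350)
def n4445 : Q := act 5 n3304
theorem D4445 : act 5 n3304 = n4445 := rfl
theorem F7232 : act 0 n4445 = n3306 := d4_1 D4445 (iv D3306) D3304
theorem F7233 : act 1 n4445 = n3310 := d8_1 D4445 (iv D3310) (iv F5350)
def n4446 : Q := act 2 n3305
theorem D4446 : act 2 n3305 = n4446 := rfl
def n4447 : Q := act 4 n3305
theorem D4447 : act 4 n3305 = n4447 := rfl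
theorem F7234 : act 1 n4447 = n3307 := d7_1 D4447 (iv D3307) (iv F5351)
def n4448 : Q := act 4 n3306
theorem D4448 : act 4 n3306 = n4448 := rfl
theorem F7235 : act 1 n4448 = n3308 := d7_1 D4448 (iv D3308) (iv F5352)
def n4449 : Q := act 5 n3307
theorem D4449 : act 5 n3307 = n4449 := rfl
theorem F7236 : act 0 n4449 = n3317 := d4_1 D4449 (iv D3317) (iv F5353)
def n4450 : Q := act 3 n3308
theorem D4450 : act 3 n3308 = n4450 := rfl
theorem F7237 : act 0 n4450 = n3319 := d2_1 D4450 (iv D3319) (iv F5354)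
def n4451 : Q := act 2 n3309
theorem D4451 : act 2 n3309 = n4451 := rfl
theorem F7238 : act 0 n4451 = n3311 := d1_1 D4451 (iv D3311) (iv F5356)
def n4452 : Q := act 4 n3309
theorem D4452 : act 4 n3309 = n4452 := rfl
theorem F7239 : act 0 n4452 = n3312 := d3_1 D4452 (iv D3312) (iv F5356)
def n4453 : Q := act 5 n3309
theorem D4453 : act 5 n3309 = n4453 := rfl
theorem F7240 : act 0 n4453 = n3313 := d4_1 D4453 (iv D3313) (iv F5356)
theorem F7241 : act 3 n4453 = n3310 := d13_1 D4453 (iv D3310) D3309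
def n4454 : Q := act 4 n3310
theorem D4454 : act 4 n3310 = n4454 := rfl
theorem F7242 : act 0 n4454 = n3314 := d3_1 D4454 (iv D3314) (iv F5357)
theorem F7243 : act 2 n4454 = n3322 := d10_1 D4454 (iv D3322) (iv F5358)
def n4455 : Q := act 1 n3311
theorem D4455 : act 1 n3311 = n4455 := rfl
theorem F7244 : act 2 n4455 = n3315 := d5_2 D3311 D4455 (iv D3315) (iv D2436) (iv F3927)
def n4456 : Q := act 3 n3311
theorem D4456 : act 3 n3311 = n4456 := rfl
def n4457 : Q := act 4 n3311
theorem D4457 : act 4 n3311 = n4457 := rfl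
theorem F7245 : act 2 n4457 = n3312 := d10_1 D4457 (iv D3312) D3311
def n4458 : Q := act 5 n3311
theorem D4458 : act 5 n3311 = n4458 := rfl
theorem F7246 : act 2 n4458 = n3313 := d11_1 D4458 (iv D3313) D3311
def n4459 : Q := act 5 n3312
theorem D4459 : act 5 n3312 = n4459 := rfl
theorem F7247 : act 1 n4459 = n3317 := d8_1 D4459 (iv D3317) (iv F5359)
def n4460 : Q := act 4 n3313
theorem D4460 : act 4 n3313 = n4460 := rfl
theorem F7248 : act 1 n4460 = n3318 := d7_1 D4460 (iv D3318) (iv F5360)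
def n4461 : Q := act 3 n3314
theorem D4461 : act 3 n3314 = n4461 := rfl
theorem F7249 : act 1 n4461 = n3319 := d6_1 D4461 (iv D3319) (iv F5362)
def n4462 : Q := act 0 n3315
theorem D4462 : act 0 n3315 = n4462 := rfl
def n4463 : Q := act 4 n3315
theorem D4463 : act 4 n3315 = n4463 := rfl
theorem F7250 : act 1 n4463 = n3316 := d7_1 D4463 (iv D3316) D3315
def n4464 : Q := act 3 n3316
theorem D4464 : act 3 n3316 = n4464 := rfl
def n4465 : Q := act 5 n3316
theorem D4465 : act 5 n3316 = n4465 := rfl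
theorem F7251 : act 2 n4465 = n3317 := d11_1 D4465 (iv D3317) (iv F5364)
def n4466 : Q := act 4 n3317
theorem D4466 : act 4 n3317 = n4466 := rfl
theorem F7252 : act 5 n4466 = n3318 := d14_2 D3317 D4466 (iv D3318) (iv D2438) D2437
def n4467 : Q := act 3 n3318
theorem D4467 : act 3 n3318 = n4467 := rfl
theorem F7253 : act 4 n4467 = n3319 := d12_2 D3318 D4467 (iv D3319) (iv D2439) (iv F3930)
def n4468 : Q := act 2 n3319
theorem D4468 : act 2 n3319 = n4468 := rfl
def n4469 : Q := act 1 n3320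
theorem D4469 : act 1 n3320 = n4469 := rfl
def n4470 : Q := act 3 n3320
theorem D4470 : act 3 n3320 = n4470 := rfl
theorem F7254 : act 0 n4470 = n3323 := d2_1 D4470 (iv D3323) (iv F5365)
def n4471 : Q := act 4 n3320
theorem D4471 : act 4 n3320 = n4471 := rfl
theorem F7255 : act 0 n4471 = n3324 := d3_1 D4471 (iv D3324) (iv F5365)
theorem F7256 : act 2 n4471 = n3321 := d10_1 D4471 (iv D3321) D3320
def n4472 : Q := act 2 n3323
theorem D4472 : act 2 n3323 = n4472 := rfl
def n4473 : Q := act 4 n3323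
theorem D4473 : act 4 n3323 = n4473 := rfl
def n4474 : Q := act 3 n3324
theorem D4474 : act 3 n3324 = n4474 := rfl
def n4475 : Q := act 0 n3325
theorem D4475 : act 0 n3325 = n4475 := rfl
theorem F7257 : act 1 n4475 = n3329 := d0_2 D3325 D4475 (iv D3329) (iv D2447) (iv F3936)
def n4476 : Q := act 3 n3325
theorem D4476 : act 3 n3325 = n4476 := rfl
theorem F7258 : act 1 n4476 = n3326 := d6_1 D4476 (iv D3326) D3325
def n4477 : Q := act 5 n3325
theorem D4477 : act 5 n3325 = n4477 := rfl
theorem F7259 : act 1 n4477 = n3327 := d8_1 D4477 (iv D3327) D3325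
def n4478 : Q := act 4 n3326
theorem D4478 : act 4 n3326 = n4478 := rfl
theorem F7260 : act 0 n4478 = n3332 := d3_1 D4478 (iv D3332) (iv F5369)
def n4479 : Q := act 4 n3327
theorem D4479 : act 4 n3327 = n4479 := rfl
theorem F7261 : act 0 n4479 = n3334 := d3_1 D4479 (iv D3334) (iv F5370)
theorem F7262 : act 2 n4479 = n3328 := d10_1 D4479 (iv D3328) (iv F5371)
def n4480 : Q := act 3 n3329
theorem D4480 : act 3 n3329 = n4480 := rfl
theorem F7263 : act 0 n4480 = n3330 := d2_1 D4480 (iv D3330) D3329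
def n4481 : Q := act 2 n3330
theorem D4481 : act 2 n3330 = n4481 := rfl
def n4482 : Q := act 4 n3330
theorem D4482 : act 4 n3330 = n4482 := rfl
theorem F7264 : act 1 n4482 = n3332 := d7_1 D4482 (iv D3332) (iv F5374)
def n4483 : Q := act 1 n3331
theorem D4483 : act 1 n3331 = n4483 := rfl
def n4484 : Q := act 4 n3331
theorem D4484 : act 4 n3331 = n4484 := rfl
theorem F7265 : act 2 n4484 = n3332 := d10_1 D4484 (iv D3332) D3331
def n4485 : Q := act 5 n3332
theorem D4485 : act 5 n3332 = n4485 := rfl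
def n4486 : Q := act 4 n3333
theorem D4486 : act 4 n3333 = n4486 := rfl
def n4487 : Q := act 3 n3334
theorem D4487 : act 3 n3334 = n4487 := rfl
def n4488 : Q := act 2 n3335
theorem D4488 : act 2 n3335 = n4488 := rfl
theorem F7266 : act 0 n4488 = n3339 := d1_1 D4488 (iv D3339) (iv F5377)
theorem F7267 : act 4 n4488 = n3464 := d10_2 (iv F5379) D4488 (iv D3464)
def n4489 : Q := act 5 n3335
theorem D4489 : act 5 n3335 = n4489 := rfl
theorem F7268 : act 0 n4489 = n3340 := d4_1 D4489 (iv D3340) (iv F5377)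
theorem F7269 : act 1 n4489 = n3345 := d8_1 D4489 F5402 (iv F5378)
theorem F7270 : act 3 n4489 = n3336 := d13_1 D4489 (iv D3336) D3335
def n4490 : Q := act 2 n3337
theorem D4490 : act 2 n3337 = n4490 := rfl
theorem F7271 : act 0 n4490 = n3464 := d1_1 D4490 (iv D3464) (iv F5384)
theorem F7272 : act 4 n4490 = n3339 := d10_2 (iv F5386) D4490 (iv D3339)
def n4491 : Q := act 5 n3337
theorem D4491 : act 5 n3337 = n4491 := rfl
theorem F7273 : act 0 n4491 = n3465 := d4_1 D4491 (iv D3465) (iv F5384)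
theorem F7274 : act 1 n4491 = n3342 := d8_1 D4491 (iv D3342) (iv F5385)
theorem F7275 : act 3 n4491 = n3338 := d13_1 D4491 (iv D3338) D3337
def n4492 : Q := act 1 n3339
theorem D4492 : act 1 n3339 = n4492 := rfl
theorem F7276 : act 2 n4492 = n3343 := d5_2 D3339 D4492 (iv D3343) (iv D2458) (iv F3948)
theorem F7277 : act 5 n3413 = n4492 := d11_0 F7276 F5398 D3413
def n4493 : Q := act 3 n3339
theorem D4493 : act 3 n3339 = n4493 := rfl
def n4494 : Q := act 5 n3339
theorem D4494 : act 5 n3339 = n4494 := rfl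
theorem F7278 : act 1 n4494 = n3413 := d8_1 D4494 F7277 (iv D4492)
theorem F7279 : act 2 n4494 = n3340 := d11_1 D4494 (iv D3340) D3339
def n4495 : Q := act 4 n3340
theorem D4495 : act 4 n3340 = n4495 := rfl
theorem F7280 : act 1 n4495 = n3344 := d7_1 D4495 (iv D3344) (iv F5391)
def n4496 : Q := act 1 n3341
theorem D4496 : act 1 n3341 = n4496 := rfl
theorem F7281 : act 4 n4496 = n3343 := d7_2 (iv F5394) D4496 (iv D3343)
def n4497 : Q := act 3 n3341
theorem D4497 : act 3 n3341 = n4497 := rfl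
theorem F7282 : act 0 n4497 = n3362 := d2_1 D4497 (iv D3362) (iv F5393)
theorem F7283 : act 4 n4497 = n3417 := d12_2 (iv F5394) D4497 (iv D3417) (iv D2511) (iv F3957)
def n4498 : Q := act 5 n3341
theorem D4498 : act 5 n3341 = n4498 := rfl
theorem F7284 : act 0 n4498 = n3363 := d4_1 D4498 (iv D3363) (iv F5393)
theorem F7285 : act 2 n4498 = n3342 := d11_1 D4498 (iv D3342) D3341
theorem F7286 : act 4 n4498 = n3416 := d14_1 D4498 (iv D3416) (iv D2510) F3958 (iv F5394)
def n4499 : Q := act 4 n3342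
theorem D4499 : act 4 n3342 = n4499 := rfl
theorem F7287 : act 0 n4499 = n3364 := d3_1 D4499 (iv D3364) (iv F5395)
theorem F7288 : act 2 n4499 = n3416 := d10_1 D4499 (iv F7286) F7285
theorem F7289 : act 3 n4499 = n3469 := d12_1 D4499 (iv D3469) F4120 (iv F3955) (iv F5396)
theorem F7290 : act 5 n4499 = n3344 := d14_2 D3342 D4499 (iv D3344) (iv D2459) (iv F3952)
def n4500 : Q := act 0 n3343
theorem D4500 : act 0 n3343 = n4500 := rfl
theorem F7291 : act 1 n4500 = n3365 := d0_2 D3343 D4500 (iv D3365) (iv D2474) (iv F3956)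
theorem F7292 : act 3 n4500 = n3412 := d2_2 (iv F5397) D4500 F5538
theorem F7293 : act 5 n4500 = n3411 := d4_2 (iv F5398) D4500 F5537
def n4501 : Q := act 3 n3344
theorem D4501 : act 3 n3344 = n4501 := rfl
theorem F7294 : act 0 n4501 = n3356 := d2_1 D4501 F5424 (iv F5399)
theorem F7295 : act 4 n4501 = n3345 := d12_2 D3344 D4501 (iv D3345) (iv D2460) (iv F3961)
theorem F7296 : act 5 n4501 = n3469 := d13_2 F7290 D4501 (iv F7289)
def n4502 : Q := act 2 n3345
theorem D4502 : act 2 n3345 = n4502 := rfl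
theorem F7297 : act 0 n4502 = n3355 := d1_1 D4502 F5422 (iv F5401)
theorem F7298 : act 5 n4502 = n3346 := d11_2 (iv F5402) D4502 (iv D3346)
theorem F7299 : act 3 n4502 = n3373 := d15_1 D4502 (iv D3373) (iv D2480) (iv D1809) (iv D1307) (iv F2122) D1800 D2468 (iv F5401)
def n4503 : Q := act 1 n3346
theorem D4503 : act 1 n3346 = n4503 := rfl
theorem F7300 : act 4 n4503 = n3466 := d7_2 (iv F5404) D4503 (iv D3466)
def n4504 : Q := act 3 n3346
theorem D4504 : act 3 n3346 = n4504 := rfl
theorem F7301 : act 0 n4504 = n3354 := d2_1 D4504 (iv D3354) (iv F5403)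
theorem F7302 : act 5 n4504 = n3373 := d13_2 F7298 D4504 (iv F7299)
theorem F7303 : act 2 n4504 = n3370 := d15_2 D3346 D4504 (iv D3370) (iv D2478) (iv D1808) (iv F2918) (iv F3984) (iv D2468) (iv F3965)
def n4505 : Q := act 1 n3347
theorem D4505 : act 1 n3347 = n4505 := rfl
theorem F7304 : act 2 n4505 = n4505 := d5_2 D3347 D4505 (iv D4505) (iv D3347) F3968
theorem F7305 : act 4 n4505 = n3388 := d7_2 (iv F5406) D4505 (iv D3388)
theorem F7306 : act 5 n4505 = n3348 := d8_2 (iv F5407) D4505 (iv D3348)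
def n4506 : Q := act 3 n3347
theorem D4506 : act 3 n3347 = n4506 := rfl
theorem F7307 : act 0 n4506 = n3370 := d2_1 D4506 (iv D3370) (iv F5405)
theorem F7308 : act 2 n4506 = n3354 := d9_1 D4506 (iv D3354) (iv D2467) (iv D1800) F2122 D1307 D1809 D2480 D3373 (iv F7299) (iv D4502) (iv D3345) F3963 D2462 D3347
theorem F7309 : act 5 n4506 = n3349 := d13_2 (iv F5407) D4506 (iv D3349)
def n4507 : Q := act 0 n3348
theorem D4507 : act 0 n3348 = n4507 := rfl
theorem F7310 : act 1 n4507 = n3371 := d0_2 D3348 D4507 (iv D3371) (iv D2479) (iv F3971)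
theorem F7311 : act 2 n4507 = n4507 := d1_2 F5408 D4507 (iv D4507)
theorem F7312 : act 4 n4507 = n3350 := d3_2 (iv F5409) D4507 (iv D3350)
def n4508 : Q := act 3 n3348
theorem D4508 : act 3 n3348 = n4508 := rfl
theorem F7313 : act 1 n4508 = n3349 := d6_1 D4508 (iv D3349) D3348
theorem F7314 : act 4 n4508 = n3533 := d12_2 (iv F5409) D4508 (iv D3533) (iv D2599) (iv F3974)
def n4509 : Q := act 2 n3349
theorem D4509 : act 2 n3349 = n4509 := rfl
theorem F7315 : act 0 n4509 = n3373 := d1_1 D4509 (iv D3373) (iv F5410)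
theorem F7316 : act 3 n4509 = n3355 := d9_2 D3349 D4509 F5422 F3984 F2918 D1808 D2478 D3370 (iv F7303) (iv D4504) (iv D3346) (iv D2461) F2903 D1797 D2463
theorem F7317 : act 4 n4509 = n3535 := d10_2 (iv F5411) D4509 (iv D3535)
theorem F7318 : act 5 n4509 = n3354 := d11_2 F7309 D4509 (iv F7308)
def n4510 : Q := act 1 n3351
theorem D4510 : act 1 n3351 = n4510 := rfl
theorem F7319 : act 2 n4510 = n3361 := d5_2 D3351 D4510 (iv D3361) (iv D2472) (iv F3977)
theorem F7320 : act 4 n4510 = n3353 := d7_2 (iv F5417) D4510 (iv D3353)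
def n4511 : Q := act 3 n3351
theorem D4511 : act 3 n3351 = n4511 := rfl
theorem F7321 : act 0 n4511 = n3467 := d2_1 D4511 (iv D3467) (iv F5416)
theorem F7322 : act 2 n4511 = n3475 := d15_2 D3351 D4511 F5624 F4122 F3031 (iv F3029) (iv F4120) (iv D2550) (iv F3976)
theorem F7323 : act 5 n3473 = n4511 := d11_0 F7322 (iv D3475) D3473
def n4512 : Q := act 5 n3351
theorem D4512 : act 5 n3351 = n4512 := rfl
theorem F7324 : act 0 n4512 = n3468 := d4_1 D4512 (iv D3468) (iv F5416)
theorem F7325 : act 2 n4512 = n3352 := d11_1 D4512 (iv D3352) D3351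
theorem F7326 : act 3 n4512 = n3473 := d13_1 D4512 F7323 (iv D4511)
def n4513 : Q := act 4 n3352
theorem D4513 : act 4 n3352 = n4513 := rfl
theorem F7327 : act 0 n4513 = n3469 := d3_1 D4513 (iv D3469) (iv F5418)
theorem F7328 : act 1 n4513 = n3364 := d7_1 D4513 (iv D3364) (iv F5419)
theorem F7329 : act 3 n4513 = n3364 := d12_1 D4513 (iv D3364) F3994 (iv F3982) (iv F5420)
theorem F7330 : act 5 n4513 = n3356 := d14_2 D3352 D4513 (iv D3356) (iv D2468) (iv F3978)
def n4514 : Q := act 0 n3353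
theorem D4514 : act 0 n3353 = n4514 := rfl
theorem F7331 : act 2 n4514 = n3365 := d1_2 (iv F5421) D4514 (iv D3365)
def n4515 : Q := act 3 n3353
theorem D4515 : act 3 n3353 = n4515 := rfl
theorem F7332 : act 1 n4515 = n3354 := d6_1 D4515 (iv D3354) D3353
def n4516 : Q := act 5 n3353
theorem D4516 : act 5 n3353 = n4516 := rfl
theorem F7333 : act 1 n4516 = n3355 := d8_1 D4516 (iv D3355) D3353
theorem F7334 : act 2 n4516 = n3367 := d11_1 D4516 (iv D3367) (iv F5421)
def n4517 : Q := act 4 n3354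
theorem D4517 : act 4 n3354 = n4517 := rfl
def n4518 : Q := act 4 n3355
theorem D4518 : act 4 n3355 = n4518 := rfl
theorem F7335 : act 2 n4518 = n3356 := d10_1 D4518 (iv D3356) (iv F5422)
def n4519 : Q := act 2 n3357
theorem D4519 : act 2 n3357 = n4519 := rfl
theorem F7336 : act 0 n4519 = n3439 := d1_1 D4519 (iv D3439) (iv F5425)
theorem F7337 : act 4 n4519 = n3437 := d10_2 (iv F5427) D4519 (iv D3437)
def n4520 : Q := act 5 n3357
theorem D4520 : act 5 n3357 = n4520 := rfl
theorem F7338 : act 0 n4520 = n3440 := d4_1 D4520 (iv D3440) (iv F5425)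
theorem F7339 : act 1 n4520 = n3360 := d8_1 D4520 (iv D3360) (iv F5426)
theorem F7340 : act 3 n4520 = n3358 := d13_1 D4520 (iv D3358) D3357
def n4521 : Q := act 1 n3359
theorem D4521 : act 1 n3359 = n4521 := rfl
theorem F7341 : act 4 n4521 = n3452 := d7_2 (iv F5433) D4521 (iv D3452)
def n4522 : Q := act 3 n3359
theorem D4522 : act 3 n3359 = n4522 := rfl
theorem F7342 : act 0 n4522 = n3456 := d2_1 D4522 (iv D3456) (iv F5432)
theorem F7343 : act 4 n4522 = n4139 := d12_2 (iv F5433) D4522 (iv D4139) F5004 (iv F4103)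
def n4523 : Q := act 5 n3359
theorem D4523 : act 5 n3359 = n4523 := rfl
theorem F7344 : act 0 n4523 = n3457 := d4_1 D4523 (iv D3457) (iv F5432)
theorem F7345 : act 2 n4523 = n3360 := d11_1 D4523 (iv D3360) D3359
def n4524 : Q := act 4 n3360
theorem D4524 : act 4 n3360 = n4524 := rfl
theorem F7346 : act 0 n4524 = n3458 := d3_1 D4524 (iv D3458) (iv F5434)
theorem F7347 : act 3 n4524 = n3448 := d12_1 D4524 (iv D3448) F4095 (iv F3992) (iv F5435)
theorem F7348 : act 5 n4524 = n3450 := d14_2 D3360 D4524 F5593 F4101 (iv F3989)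
def n4525 : Q := act 0 n3361
theorem D4525 : act 0 n3361 = n4525 := rfl
theorem F7349 : act 4 n4525 = n3365 := d3_2 (iv F5436) D4525 (iv D3365)
def n4526 : Q := act 3 n3361
theorem D4526 : act 3 n3361 = n4526 := rfl
theorem F7350 : act 1 n4526 = n3362 := d6_1 D4526 (iv D3362) D3361
def n4527 : Q := act 5 n3361
theorem D4527 : act 5 n3361 = n4527 := rfl
theorem F7351 : act 1 n4527 = n3363 := d8_1 D4527 (iv D3363) D3361
def n4528 : Q := act 2 n3362
theorem D4528 : act 2 n3362 = n4528 := rfl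
theorem F7352 : act 3 n4528 = n3457 := d15_3 D2472 D3362 D4528 F5605 F4111 (iv F3954) (iv F5396) (iv D3342) F3951
theorem F7353 : act 5 n3456 = n4528 := d13_0 F7352 (iv D3457) D3456
def n4529 : Q := act 4 n3362
theorem D4529 : act 4 n3362 = n4529 := rfl
theorem F7354 : act 0 n4529 = n3417 := d3_1 D4529 (iv F7283) F7282
theorem F7355 : act 3 n4529 = n3368 := d12_1 D4529 (iv D3368) (iv D2475) (iv F3993) D3362
theorem F7356 : act 5 n4013 = n4529 := d13_0 F7355 F5445 D4013
def n4530 : Q := act 5 n3362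
theorem D4530 : act 5 n3362 = n4530 := rfl
theorem F7357 : act 2 n4530 = n3456 := d11_1 D4530 F7353 (iv D4528)
theorem F7358 : act 3 n4530 = n3363 := d13_1 D4530 (iv D3363) D3362
def n4531 : Q := act 4 n3363
theorem D4531 : act 4 n3363 = n4531 := rfl
theorem F7359 : act 0 n4531 = n3416 := d3_1 D4531 (iv F7286) F7284
theorem F7360 : act 2 n4531 = n3364 := d10_1 D4531 (iv D3364) (iv F5437)
theorem F7361 : act 5 n4531 = n3369 := d14_2 D3363 D4531 (iv D3369) (iv D2476) (iv F3993)
theorem F7362 : act 3 n4012 = n4531 := d13_3 F7361 F5448 D4012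
def n4532 : Q := act 3 n3365
theorem D4532 : act 3 n3365 = n4532 := rfl
theorem F7363 : act 0 n4532 = n3366 := d2_1 D4532 (iv D3366) D3365
theorem F7364 : act 1 n4532 = n3412 := d6_1 D4532 (iv F7292) F7291
theorem F7365 : act 5 n3383 = n4532 := d8_0 F7364 (iv D3412) (iv F5473)
def n4533 : Q := act 5 n3365
theorem D4533 : act 5 n3365 = n4533 := rfl
theorem F7366 : act 0 n4533 = n3367 := d4_1 D4533 (iv D3367) D3365
theorem F7367 : act 1 n4533 = n3411 := d8_1 D4533 (iv F7293) F7291
theorem F7368 : act 3 n4533 = n3383 := d13_1 D4533 F7365 (iv D4532)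
def n4534 : Q := act 2 n3366
theorem D4534 : act 2 n3366 = n4534 := rfl
theorem F7369 : act 1 n4534 = n3381 := d5_1 D4534 F5468 F4016 (iv F3996) (iv F5439)
theorem F7370 : act 5 n4534 = n3379 := d11_2 F5440 D4534 F5464
def n4535 : Q := act 4 n3366
theorem D4535 : act 4 n3366 = n4535 := rfl
theorem F7371 : act 1 n4535 = n3368 := d7_1 D4535 (iv D3368) (iv F5439)
theorem F7372 : act 5 n4535 = n4011 := d14_2 F5440 D4535 (iv D4011) (iv D2965) (iv F4018)
def n4536 : Q := act 4 n3367
theorem D4536 : act 4 n3367 = n4536 := rfl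
theorem F7373 : act 1 n4536 = n3369 := d7_1 D4536 (iv D3369) (iv F5441)
theorem F7374 : act 3 n4536 = n4010 := d12_1 D4536 (iv D4010) (iv D2964) (iv F4018) (iv F5442)
def n4537 : Q := act 4 n3370
theorem D4537 : act 4 n3370 = n4537 := rfl
theorem F7375 : act 3 n4537 = n3420 := d12_1 D4537 (iv D3420) (iv D2513) (iv F4001) D3370
def n4538 : Q := act 3 n3371
theorem D4538 : act 3 n3371 = n4538 := rfl
theorem F7376 : act 0 n4538 = n3372 := d2_1 D4538 (iv D3372) D3371
def n4539 : Q := act 2 n3372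
theorem D4539 : act 2 n3372 = n4539 := rfl
def n4540 : Q := act 4 n3372
theorem D4540 : act 4 n3372 = n4540 := rfl
theorem F7377 : act 1 n4540 = n3374 := d7_1 D4540 (iv D3374) (iv F5452)
theorem F7378 : act 3 n4540 = n3377 := d12_1 D4540 (iv D3377) (iv D2482) (iv F4004) D3372
def n4541 : Q := act 1 n3373
theorem D4541 : act 1 n3373 = n4541 := rfl
def n4542 : Q := act 4 n3373
theorem D4542 : act 4 n3373 = n4542 := rfl
theorem F7379 : act 0 n4542 = n3535 := d3_1 D4542 (iv F7317) F7315
theorem F7380 : act 2 n4542 = n3374 := d10_1 D4542 (iv D3374) D3373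
theorem F7381 : act 3 n4135 = n4542 := d15_1 (iv F6759) F7380 F5454 F4010 F3056 (iv F3542) D2994 (iv F6627) F6626
theorem F7382 : act 5 n4542 = n4134 := d13_2 D4135 F7381 (iv D4134)
def n4543 : Q := act 5 n3374
theorem D4543 : act 5 n3374 = n4543 := rfl
theorem F7383 : act 0 n4543 = n3536 := d4_1 D4543 (iv D3536) (iv F5453)
theorem F7384 : act 2 n4543 = n4134 := d11_1 D4543 (iv F7382) F7380
theorem F7385 : act 3 n4543 = n3378 := d13_1 D4543 (iv D3378) (iv F5454)
def n4544 : Q := act 2 n3375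
theorem D4544 : act 2 n3375 = n4544 := rfl
theorem F7386 : act 0 n4544 = n3376 := d1_1 D4544 (iv D3376) (iv F5455)
theorem F7387 : act 1 n4544 = n3500 := d5_1 D4544 (iv F6352) F6350 F5708 (iv F5456)
theorem F7388 : act 3 n4544 = n3376 := d9_2 D3375 D4544 (iv D3376) (iv D2482) F2932 F2137 (iv F2171) D1838 D2519 (iv F5551) (iv D3427) (iv D2518) F2985 (iv F2939) (iv F4005)
theorem F7389 : act 5 n4544 = n3427 := d11_2 (iv F5457) D4544 (iv D3427)
def n4545 : Q := act 4 n3375
theorem D4545 : act 4 n3375 = n4545 := rfl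
theorem F7390 : act 0 n4545 = n3377 := d3_1 D4545 (iv D3377) (iv F5455)
theorem F7391 : act 1 n4545 = n3532 := d7_1 D4545 (iv D3532) (iv F5456)
def n4546 : Q := act 4 n3376
theorem D4546 : act 4 n3376 = n4546 := rfl
theorem F7392 : act 1 n4546 = n3501 := d7_1 D4546 (iv D3501) (iv F5458)
theorem F7393 : act 2 n4546 = n3377 := d10_1 D4546 (iv D3377) D3376
def n4547 : Q := act 5 n3377
theorem D4547 : act 5 n3377 = n4547 := rfl
theorem F7394 : act 1 n4547 = n3378 := d8_1 D4547 (iv D3378) (iv F5460)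
theorem F7395 : act 4 n4547 = n3431 := d14_1 D4547 (iv D3431) (iv D2520) (iv F4008) D3377
def n4548 : Q := act 0 n3379
theorem D4548 : act 0 n3379 = n4548 := rfl
theorem F7396 : act 1 n4548 = n4419 := d0_2 D3379 D4548 (iv D4419) (iv D3287) (iv F4013)
theorem F7397 : act 2 n4548 = n3383 := d1_2 (iv F5464) D4548 (iv D3383)
theorem F7398 : act 4 n4548 = n4002 := d3_2 (iv F5465) D4548 (iv D4002)
def n4549 : Q := act 3 n3379
theorem D4549 : act 3 n3379 = n4549 := rfl
theorem F7399 : act 1 n4549 = n3380 := d6_1 D4549 (iv D3380) D3379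
def n4550 : Q := act 4 n3380
theorem D4550 : act 4 n3380 = n4550 := rfl
theorem F7400 : act 0 n4550 = n4423 := d3_1 D4550 (iv D4423) (iv F5466)
theorem F7401 : act 3 n4550 = n4005 := d12_1 D4550 (iv D4005) (iv D2960) (iv F4014) D3380
def n4551 : Q := act 4 n3381
theorem D4551 : act 4 n3381 = n4551 := rfl
theorem F7402 : act 0 n4551 = n4425 := d3_1 D4551 (iv D4425) (iv F5467)
theorem F7403 : act 2 n4551 = n3382 := d10_1 D4551 (iv D3382) (iv F5468)
theorem F7404 : act 5 n4551 = n4006 := d14_2 D3381 D4551 (iv D4006) (iv D2961) (iv F4014)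
def n4552 : Q := act 2 n3384
theorem D4552 : act 2 n3384 = n4552 := rfl
theorem F7405 : act 0 n4552 = n3405 := d1_1 D4552 F5524 (iv F5475)
theorem F7406 : act 4 n4552 = n3385 := d10_2 (iv F5477) D4552 (iv D3385)
theorem F7407 : act 5 n4552 = n3507 := d11_2 (iv F5478) D4552 F5685
def n4553 : Q := act 1 n3385
theorem D4553 : act 1 n3385 = n4553 := rfl
theorem F7408 : act 2 n4553 = n4421 := d5_2 D3385 D4553 F7204 F5337 (iv F4022)
theorem F7409 : act 3 n4553 = n3424 := d6_2 (iv F5481) D4553 (iv D3424)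
theorem F7410 : act 5 n4553 = n3386 := d8_2 (iv F5480) D4553 (iv D3386)
def n4554 : Q := act 0 n3386
theorem D4554 : act 0 n3386 = n4554 := rfl
theorem F7411 : act 1 n4554 = n3401 := d0_2 D3386 D4554 (iv D3401) (iv D2499) (iv F4024)
theorem F7412 : act 2 n4554 = n4419 := d1_2 (iv F5482) D4554 (iv D4419)
theorem F7413 : act 4 n4554 = n3503 := d3_2 (iv F5483) D4554 (iv D3503)
def n4555 : Q := act 3 n3386
theorem D4555 : act 3 n3386 = n4555 := rfl
theorem F7414 : act 1 n4555 = n3387 := d6_1 D4555 (iv D3387) D3386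
theorem F7415 : act 5 n4555 = n3424 := d13_2 F7410 D4555 (iv F7409)
def n4556 : Q := act 4 n3387
theorem D4556 : act 4 n3387 = n4556 := rfl
theorem F7416 : act 0 n4556 = n3404 := d3_1 D4556 (iv D3404) (iv F5484)
theorem F7417 : act 2 n4556 = n3420 := d10_1 D4556 (iv D3420) (iv F5486)
theorem F7418 : act 3 n4556 = n3506 := d12_1 D4556 (iv D3506) (iv D2577) (iv F4025) D3387
def n4557 : Q := act 0 n3388
theorem D4557 : act 0 n3388 = n4557 := rfl
theorem F7419 : act 1 n4557 = n3418 := d0_2 D3388 D4557 (iv D3418) (iv D2512) (iv F4026)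
theorem F7420 : act 2 n4557 = n4557 := d1_2 F5487 D4557 (iv D4557)
theorem F7421 : act 5 n4557 = n3390 := d4_2 (iv F5488) D4557 (iv D3390)
def n4558 : Q := act 3 n3388
theorem D4558 : act 3 n3388 = n4558 := rfl
theorem F7422 : act 1 n4558 = n3389 := d6_1 D4558 (iv D3389) D3388
theorem F7423 : act 5 n4558 = n3391 := d13_2 (iv F5488) D4558 (iv D3391)
def n4559 : Q := act 4 n3389
theorem D4559 : act 4 n3389 = n4559 := rfl
theorem F7424 : act 0 n4559 = n3420 := d3_1 D4559 (iv D3420) (iv F5489)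
theorem F7425 : act 2 n4559 = n3404 := d10_1 D4559 (iv D3404) (iv F5490)
def n4560 : Q := act 3 n3390
theorem D4560 : act 3 n3390 = n4560 := rfl
theorem F7426 : act 0 n4560 = n3391 := d2_1 D4560 (iv D3391) D3390
theorem F7427 : act 1 n4560 = n3421 := d6_1 D4560 (iv D3421) (iv F5492)
def n4561 : Q := act 2 n3391
theorem D4561 : act 2 n3391 = n4561 := rfl
def n4562 : Q := act 4 n3391
theorem D4562 : act 4 n3391 = n4562 := rfl
theorem F7428 : act 1 n4562 = n3393 := d7_1 D4562 (iv D3393) (iv F5495)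
theorem F7429 : act 3 n4562 = n3395 := d12_1 D4562 (iv D3395) (iv D2495) (iv F4029) D3391
def n4563 : Q := act 1 n3392
theorem D4563 : act 1 n3392 = n4563 := rfl
theorem F7430 : act 3 n4563 = n3403 := d6_2 (iv F5497) D4563 F5522
theorem F7431 : act 5 n4563 = n3402 := d8_2 (iv F5498) D4563 F5521
def n4564 : Q := act 4 n3392
theorem D4564 : act 4 n3392 = n4564 := rfl
theorem F7432 : act 0 n4564 = n3425 := d3_1 D4564 (iv D3425) (iv F5496)
theorem F7433 : act 2 n4564 = n3393 := d10_1 D4564 (iv D3393) D3392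
def n4565 : Q := act 5 n3393
theorem D4565 : act 5 n3393 = n4565 := rfl
theorem F7434 : act 0 n4565 = n3426 := d4_1 D4565 (iv D3426) (iv F5499)
theorem F7435 : act 3 n4565 = n3396 := d13_1 D4565 (iv D3396) (iv F5500)

end Cfsg.Agent.Helper17.ONS1TC
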