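import Cfsg.Agent.Helper17.ONS1TC.Facts1

set_option autoImplicit false
set_option linter.all false

noncomputable section

namespace Cfsg.Agent.Helper17.ONS1TC

def n4566 : Q := act 4 n3394
theorem D4566 : act 4 n3394 = n4566 := rfl
theorem F7436 : act 0 n4566 = n3395 := d3_1 D4566 (iv D3395) (iv F5501)
theorem F7437 : act 1 n4566 = n3428 := d7_1 D4566 (iv D3428) (iv F5502)
def n4567 : Q := act 5 n3395
theorem D4567 : act 5 n3395 = n4567 := rfl
theorem F7438 : act 1 n4567 = n3396 := d8_1 D4567 (iv D3396) (iv F5504)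
theorem F7439 : act 4 n4567 = n3534 := d14_1 D4567 (iv D3534) (iv D2599) (iv F4034) D3395
def n4568 : Q := act 0 n3397
theorem D4568 : act 0 n3397 = n4568 := rfl
theorem F7440 : act 1 n4568 = n3503 := d0_2 D3397 D4568 (iv D3503) (iv D2576) (iv F4037)
theorem F7441 : act 2 n4568 = n3406 := d1_2 (iv F5508) D4568 (iv D3406)
theorem F7442 : act 4 n4568 = n3401 := d3_2 (iv F5509) D4568 (iv D3401)
def n4569 : Q := act 3 n3397
theorem D4569 : act 3 n3397 = n4569 := rfl
theorem F7443 : act 1 n4569 = n3398 := d6_1 D4569 (iv D3398) D3397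
theorem F7444 : act 5 n3514 = n4569 := d8_0 F7443 (iv F5512) D3514
def n4570 : Q := act 5 n3397
theorem D4570 : act 5 n3397 = n4570 := rfl
theorem F7445 : act 1 n4570 = n3399 := d8_1 D4570 (iv D3399) D3397
theorem F7446 : act 2 n4570 = n3408 := d11_1 D4570 (iv D3408) (iv F5508)
theorem F7447 : act 3 n4570 = n3514 := d13_1 D4570 F7444 (iv D4569)
def n4571 : Q := act 4 n3398
theorem D4571 : act 4 n3398 = n4571 := rfl
theorem F7448 : act 0 n4571 = n3506 := d3_1 D4571 (iv D3506) (iv F5510)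
theorem F7449 : act 2 n4571 = n3517 := d10_1 D4571 (iv D3517) (iv F5511)
theorem F7450 : act 3 n4571 = n3404 := d12_1 D4571 (iv D3404) (iv D2500) (iv F4038) D3398
def n4572 : Q := act 4 n3399
theorem D4572 : act 4 n3399 = n4572 := rfl
theorem F7451 : act 0 n4572 = n3507 := d3_1 D4572 (iv D3507) (iv F5513)
theorem F7452 : act 2 n4572 = n3400 := d10_1 D4572 (iv D3400) (iv F5514)
theorem F7453 : act 5 n4572 = n3405 := d14_2 D3399 D4572 (iv D3405) (iv D2501) (iv F4038)
def n4573 : Q := act 3 n3401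
theorem D4573 : act 3 n3401 = n4573 := rfl
theorem F7454 : act 0 n4573 = n3402 := d2_1 D4573 (iv D3402) D3401
def n4574 : Q := act 5 n3401
theorem D4574 : act 5 n3401 = n4574 := rfl
theorem F7455 : act 0 n4574 = n3403 := d4_1 D4574 (iv D3403) D3401
theorem F7456 : act 2 n4574 = n3412 := d11_1 D4574 (iv D3412) (iv F5520)
def n4575 : Q := act 2 n3402
theorem D4575 : act 2 n3402 = n4575 := rfl
def n4576 : Q := act 4 n3402
theorem D4576 : act 4 n3402 = n4576 := rfl
theorem F7457 : act 1 n4576 = n3404 := d7_1 D4576 (iv D3404) (iv F5521)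
def n4577 : Q := act 4 n3403
theorem D4577 : act 4 n3403 = n4577 := rfl
theorem F7458 : act 1 n4577 = n3405 := d7_1 D4577 (iv D3405) (iv F5522)
theorem F7459 : act 2 n4577 = n3415 := d10_1 D4577 (iv D3415) (iv F5523)
def n4578 : Q := act 5 n3404
theorem D4578 : act 5 n3404 = n4578 := rfl
def n4579 : Q := act 3 n3405
theorem D4579 : act 3 n3405 = n4579 := rfl
def n4580 : Q := act 3 n3406
theorem D4580 : act 3 n3406 = n4580 := rfl
theorem F7460 : act 0 n4580 = n3407 := d2_1 D4580 (iv D3407) D3406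
theorem F7461 : act 1 n4580 = n4007 := d6_1 D4580 (iv D4007) (iv F5525)
theorem F7462 : act 5 n4025 = n4580 := d4_0 F7460 (iv F5528) D4025
def n4581 : Q := act 5 n3406
theorem D4581 : act 5 n3406 = n4581 := rfl
theorem F7463 : act 0 n4581 = n3408 := d4_1 D4581 (iv D3408) D3406
theorem F7464 : act 1 n4581 = n4008 := d8_1 D4581 (iv D4008) (iv F5525)
theorem F7465 : act 3 n4581 = n4025 := d13_1 D4581 F7462 (iv D4580)
def n4582 : Q := act 2 n3407
theorem D4582 : act 2 n3407 = n4582 := rfl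
theorem F7466 : act 1 n4582 = n4021 := d5_1 D4582 F6590 F4835 (iv F4048) (iv F5527)
theorem F7467 : act 5 n4582 = n4018 := d11_2 F5528 D4582 F6588
def n4583 : Q := act 4 n3407
theorem D4583 : act 4 n3407 = n4583 := rfl
theorem F7468 : act 1 n4583 = n3409 := d7_1 D4583 (iv D3409) (iv F5527)
theorem F7469 : act 3 n4583 = n3414 := d12_1 D4583 (iv D3414) (iv D2508) (iv F4046) D3407
def n4584 : Q := act 4 n3408
theorem D4584 : act 4 n3408 = n4584 := rfl
theorem F7470 : act 1 n4584 = n3410 := d7_1 D4584 (iv D3410) (iv F5529)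
theorem F7471 : act 5 n4584 = n3415 := d14_2 D3408 D4584 (iv D3415) (iv D2509) (iv F4046)
def n4585 : Q := act 5 n3409
theorem D4585 : act 5 n3409 = n4585 := rfl
theorem F7472 : act 0 n4585 = n4012 := d4_1 D4585 (iv D4012) (iv F5531)
theorem F7473 : act 2 n4585 = n4029 := d11_1 D4585 F6598 (iv F5532)
theorem F7474 : act 3 n4585 = n3416 := d13_1 D4585 (iv D3416) (iv F5533)
theorem F7475 : act 4 n4585 = n4028 := d14_1 D4585 (iv D4028) (iv D2975) F4049 D3409
def n4586 : Q := act 3 n3410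
theorem D4586 : act 3 n3410 = n4586 := rfl
theorem F7476 : act 0 n4586 = n4013 := d2_1 D4586 (iv D4013) (iv F5534)
theorem F7477 : act 4 n4586 = n4027 := d12_2 D3410 D4586 (iv D4027) (iv D2975) (iv F4052)
theorem F7478 : act 5 n4586 = n3417 := d13_2 (iv F5536) D4586 (iv D3417)
def n4587 : Q := act 2 n3411
theorem D4587 : act 2 n3411 = n4587 := rfl
theorem F7479 : act 0 n4587 = n3413 := d1_1 D4587 (iv D3413) (iv F5537)
def n4588 : Q := act 4 n3411
theorem D4588 : act 4 n3411 = n4588 := rfl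
theorem F7480 : act 0 n4588 = n3414 := d3_1 D4588 (iv D3414) (iv F5537)
def n4589 : Q := act 4 n3412
theorem D4589 : act 4 n3412 = n4589 := rfl
theorem F7481 : act 0 n4589 = n3415 := d3_1 D4589 (iv D3415) (iv F5538)
def n4590 : Q := act 3 n3413
theorem D4590 : act 3 n3413 = n4590 := rfl
def n4591 : Q := act 4 n3413
theorem D4591 : act 4 n3413 = n4591 := rfl
theorem F7482 : act 2 n4591 = n3414 := d10_1 D4591 (iv D3414) D3413
def n4592 : Q := act 5 n3414
theorem D4592 : act 5 n3414 = n4592 := rfl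
theorem F7483 : act 1 n4592 = n3416 := d8_1 D4592 (iv D3416) (iv F5539)
def n4593 : Q := act 3 n3415
theorem D4593 : act 3 n3415 = n4593 := rfl
theorem F7484 : act 1 n4593 = n3417 := d6_1 D4593 (iv D3417) (iv F5540)
def n4594 : Q := act 2 n3417
theorem D4594 : act 2 n3417 = n4594 := rfl
def n4595 : Q := act 3 n3418
theorem D4595 : act 3 n3418 = n4595 := rfl
theorem F7485 : act 0 n4595 = n3419 := d2_1 D4595 (iv D3419) D3418
theorem F7486 : act 5 n4595 = n3421 := d13_2 (iv F5542) D4595 (iv D3421)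
def n4596 : Q := act 2 n3419
theorem D4596 : act 2 n3419 = n4596 := rfl
theorem F7487 : act 5 n4596 = n3422 := d11_2 (iv F5544) D4596 (iv D3422)
def n4597 : Q := act 4 n3419
theorem D4597 : act 4 n3419 = n4597 := rfl
theorem F7488 : act 1 n4597 = n3420 := d7_1 D4597 (iv D3420) (iv F5543)
def n4598 : Q := act 5 n3420
theorem D4598 : act 5 n3420 = n4598 := rfl
theorem F7489 : act 4 n4598 = n3426 := d14_1 D4598 (iv D3426) (iv D2517) (iv F4060) D3420
def n4599 : Q := act 2 n3421
theorem D4599 : act 2 n3421 = n4599 := rfl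
theorem F7490 : act 0 n4599 = n3422 := d1_1 D4599 (iv D3422) (iv F5545)
theorem F7491 : act 3 n4599 = n4539 := d15_1 D4599 (iv D4539) (iv D3372) F4003 (iv F2995) (iv F4058) D3419 F5544 (iv F5545)
def n4600 : Q := act 4 n3421
theorem D4600 : act 4 n3421 = n4600 := rfl
theorem F7492 : act 0 n4600 = n3423 := d3_1 D4600 (iv D3423) (iv F5545)
theorem F7493 : act 3 n4600 = n3428 := d12_1 D4600 (iv D3428) (iv D2518) (iv F4062) D3421
def n4601 : Q := act 1 n3422
theorem D4601 : act 1 n3422 = n4601 := rfl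
theorem F7494 : act 2 n4601 = n3424 := d5_2 D3422 D4601 (iv D3424) (iv D2516) (iv F4063)
def n4602 : Q := act 3 n3422
theorem D4602 : act 3 n3422 = n4602 := rfl
theorem F7495 : act 0 n4602 = n4539 := d2_1 D4602 (iv F7491) F7490
theorem F7496 : act 2 n4602 = n4538 := d15_2 D3422 D4602 (iv D4538) F5450 (iv F4076) (iv F5541) D4595 F7486 F5545
def n4603 : Q := act 4 n3422
theorem D4603 : act 4 n3422 = n4603 := rfl
theorem F7497 : act 2 n4603 = n3423 := d10_1 D4603 (iv D3423) D3422
def n4604 : Q := act 5 n3423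
theorem D4604 : act 5 n3423 = n4604 := rfl
theorem F7498 : act 1 n4604 = n3426 := d8_1 D4604 (iv D3426) (iv F5546)
theorem F7499 : act 3 n4604 = n3431 := d13_1 D4604 (iv D3431) (iv F5547)
def n4605 : Q := act 0 n3424
theorem D4605 : act 0 n3424 = n4605 := rfl
def n4606 : Q := act 4 n3424
theorem D4606 : act 4 n3424 = n4606 := rfl
theorem F7500 : act 1 n4606 = n3425 := d7_1 D4606 (iv D3425) D3424
def n4607 : Q := act 3 n3425
theorem D4607 : act 3 n3425 = n4607 := rfl
def n4608 : Q := act 5 n3425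
theorem D4608 : act 5 n3425 = n4608 := rfl
theorem F7501 : act 2 n4608 = n3426 := d11_1 D4608 (iv D3426) (iv F5548)
def n4609 : Q := act 1 n3427
theorem D4609 : act 1 n3427 = n4609 := rfl
theorem F7502 : act 0 n4609 = n3847 := d0_1 D4609 (iv F6389) F6388 (iv D3429) (iv F5550)
theorem F7503 : act 2 n4609 = n3844 := d5_2 D3427 D4609 (iv F6402) F6403 F5502
theorem F7504 : act 3 n4609 = n3429 := d6_2 (iv F5551) D4609 (iv D3429)
theorem F7505 : act 5 n4609 = n3500 := d8_2 F7389 D4609 (iv F7387)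
def n4610 : Q := act 4 n3427
theorem D4610 : act 4 n3427 = n4610 := rfl
theorem F7506 : act 0 n4610 = n3430 := d3_1 D4610 (iv D3430) (iv F5550)
theorem F7507 : act 2 n4610 = n3428 := d10_1 D4610 (iv D3428) D3427
def n4611 : Q := act 5 n3428
theorem D4611 : act 5 n3428 = n4611 := rfl
theorem F7508 : act 0 n4611 = n3431 := d4_1 D4611 (iv D3431) (iv F5552)
def n4612 : Q := act 4 n3429
theorem D4612 : act 4 n3429 = n4612 := rfl
theorem F7509 : act 1 n4612 = n3430 := d7_1 D4612 (iv D3430) D3429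
theorem F7510 : act 2 n4612 = n3432 := d10_1 D4612 (iv D3432) (iv F5553)
def n4613 : Q := act 3 n3430
theorem D4613 : act 3 n3430 = n4613 := rfl
def n4614 : Q := act 5 n3430
theorem D4614 : act 5 n3430 = n4614 := rfl
theorem F7511 : act 2 n4614 = n3431 := d11_1 D4614 (iv D3431) (iv F5555)
def n4615 : Q := act 3 n3432
theorem D4615 : act 3 n3432 = n4615 := rfl
theorem F7512 : act 1 n4615 = n3433 := d6_1 D4615 (iv D3433) (iv F5557)
theorem F7513 : act 4 n4615 = n3453 := d12_2 D3432 D4615 (iv D3453) F4105 (iv F4067)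
def n4616 : Q := act 5 n3432
theorem D4616 : act 5 n3432 = n4616 := rfl
theorem F7514 : act 1 n4616 = n3434 := d8_1 D4616 (iv D3434) (iv F5557)
theorem F7515 : act 4 n4616 = n3502 := d14_1 D4616 (iv D3502) (iv D2574) (iv F4068) D3432
def n4617 : Q := act 2 n3433
theorem D4617 : act 2 n3433 = n4617 := rfl
theorem F7516 : act 0 n4617 = n3485 := d1_1 D4617 F5644 (iv F5558)
theorem F7517 : act 4 n4617 = n3454 := d10_2 (iv F5559) D4617 (iv D3454)
def n4618 : Q := act 5 n3433
theorem D4618 : act 5 n3433 = n4618 := rfl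
theorem F7518 : act 0 n4618 = n3486 := d4_1 D4618 (iv D3486) (iv F5558)
theorem F7519 : act 3 n4618 = n3434 := d13_1 D4618 (iv D3434) D3433
theorem F7520 : act 4 n4618 = n4047 := d14_1 D4618 (iv D4047) F4863 (iv F4108) (iv F5559)
def n4619 : Q := act 1 n3435
theorem D4619 : act 1 n3435 = n4619 := rfl
theorem F7521 : act 0 n4619 = n4505 := d0_1 D4619 (iv D4505) F5405 (iv F4078) (iv F5563)
theorem F7522 : act 2 n4619 = n4619 := d5_2 D3435 D4619 (iv D4619) (iv D3435) F4072
theorem F7523 : act 4 n4619 = n4557 := d7_2 (iv F5564) D4619 F7419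
theorem F7524 : act 5 n4619 = n4507 := d8_2 (iv F5565) D4619 F7310
def n4620 : Q := act 3 n3435
theorem D4620 : act 3 n3435 = n4620 := rfl
theorem F7525 : act 0 n4620 = n3436 := d2_1 D4620 (iv D3436) (iv F5563)
theorem F7526 : act 5 n4620 = n4538 := d13_2 (iv F5565) D4620 (iv D4538)
def n4621 : Q := act 2 n3436
theorem D4621 : act 2 n3436 = n4621 := rfl
theorem F7527 : act 5 n4621 = n4539 := d11_2 (iv F5567) D4621 (iv D4539)
def n4622 : Q := act 4 n3436
theorem D4622 : act 4 n3436 = n4622 := rfl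
theorem F7528 : act 1 n4622 = n4537 := d7_1 D4622 (iv D4537) (iv F5566)
theorem F7529 : act 3 n4622 = n4597 := d12_1 D4622 (iv D4597) (iv D3419) (iv F4079) D3436
def n4623 : Q := act 1 n3437
theorem D4623 : act 1 n3437 = n4623 := rfl
theorem F7530 : act 2 n4623 = n3452 := d5_2 D3437 D4623 (iv D3452) (iv D2538) (iv F4082)
def n4624 : Q := act 3 n3437
theorem D4624 : act 3 n3437 = n4624 := rfl
theorem F7531 : act 0 n4624 = n3442 := d2_1 D4624 (iv D3442) (iv F5568)
theorem F7532 : act 2 n4624 = n3756 := d15_2 D3437 D4624 F6122 F4478 F3292 (iv F3003) (iv F4091) (iv D2532) (iv F4081)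
theorem F7533 : act 5 n3754 = n4624 := d11_0 F7532 (iv D3756) D3754
def n4625 : Q := act 5 n3437
theorem D4625 : act 5 n3437 = n4625 := rfl
theorem F7534 : act 0 n4625 = n3443 := d4_1 D4625 (iv D3443) (iv F5568)
theorem F7535 : act 2 n4625 = n3438 := d11_1 D4625 (iv D3438) D3437
theorem F7536 : act 3 n4625 = n3754 := d13_1 D4625 F7533 (iv D4624)
def n4626 : Q := act 4 n3438
theorem D4626 : act 4 n3438 = n4626 := rfl
theorem F7537 : act 0 n4626 = n3444 := d3_1 D4626 (iv D3444) (iv F5569)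
theorem F7538 : act 1 n4626 = n3450 := d7_1 D4626 F5593 (iv F5570)
theorem F7539 : act 3 n4626 = n3444 := d12_1 D4626 (iv D3444) F4091 (iv F4086) (iv F5571)
def n4627 : Q := act 1 n3439
theorem D4627 : act 1 n3439 = n4627 := rfl
theorem F7540 : act 2 n4627 = n3445 := d5_2 D3439 D4627 (iv D3445) (iv D2533) (iv F4087)
theorem F7541 : act 4 n4627 = n3441 := d7_2 (iv F5572) D4627 (iv D3441)
def n4628 : Q := act 3 n3439
theorem D4628 : act 3 n3439 = n4628 := rfl
def n4629 : Q := act 5 n3439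
theorem D4629 : act 5 n3439 = n4629 := rfl
theorem F7542 : act 2 n4629 = n3440 := d11_1 D4629 (iv D3440) D3439
def n4630 : Q := act 4 n3440
theorem D4630 : act 4 n3440 = n4630 := rfl
theorem F7543 : act 1 n4630 = n3448 := d7_1 D4630 (iv D3448) (iv F5573)
theorem F7544 : act 5 n4630 = n3444 := d14_2 D3440 D4630 (iv D3444) (iv D2532) (iv F4088)
def n4631 : Q := act 0 n3441
theorem D4631 : act 0 n3441 = n4631 := rfl
theorem F7545 : act 2 n4631 = n3449 := d1_2 (iv F5575) D4631 (iv D3449)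
theorem F7546 : act 5 n4631 = n3519 := d4_2 F5576 D4631 F5699
theorem F7547 : act 3 n4087 = n4631 := d15_7 (iv D2589) (iv D1887) F2240 D1603 D2210 D3028 D4087 F7546 F5699
def n4632 : Q := act 3 n3441
theorem D4632 : act 3 n3441 = n4632 := rfl
theorem F7548 : act 0 n4632 = n4087 := d2_1 D4632 F7547 (iv D4631)
theorem F7549 : act 1 n4632 = n3442 := d6_1 D4632 (iv D3442) D3441
theorem F7550 : act 5 n4632 = n3522 := d13_2 F5576 D4632 (iv D3522)
theorem F7551 : act 2 n4632 = n4085 := d15_2 (iv F5575) D4632 (iv D4085) (iv D3026) (iv D2209) (iv F3065) D2587 (iv F5591) (iv D3449)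
def n4633 : Q := act 2 n3442
theorem D4633 : act 2 n3442 = n4633 := rfl
theorem F7552 : act 0 n4633 = n3756 := d1_1 D4633 (iv F7532) F7531
theorem F7553 : act 3 n4633 = n3746 := d9_2 D3442 D4633 F6108 F4471 (iv F4085) (iv F5571) (iv F7535) F7536 (iv D3754) (iv D2775) (iv D2024) (iv D1468) (iv F2186) D1846 D2531
theorem F7554 : act 5 n3745 = n4633 := d13_0 F7553 (iv D3746) D3745
def n4634 : Q := act 4 n3442
theorem D4634 : act 4 n3442 = n4634 := rfl
def n4635 : Q := act 5 n3442
theorem D4635 : act 5 n3442 = n4635 := rfl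
theorem F7555 : act 0 n4635 = n3754 := d4_1 D4635 F7533 F7531
theorem F7556 : act 1 n4635 = n3522 := d8_1 D4635 (iv F7550) F7549
theorem F7557 : act 2 n4635 = n3745 := d11_1 D4635 F7554 (iv D4633)
theorem F7558 : act 3 n4635 = n3443 := d13_1 D4635 (iv D3443) D3442
def n4636 : Q := act 4 n3443
theorem D4636 : act 4 n3443 = n4636 := rfl
theorem F7559 : act 1 n4636 = n3523 := d7_1 D4636 (iv D3523) (iv F5577)
theorem F7560 : act 2 n4636 = n3444 := d10_1 D4636 (iv D3444) (iv F5578)
def n4637 : Q := act 0 n3445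
theorem D4637 : act 0 n3445 = n4637 := rfl
theorem F7561 : act 1 n4637 = n3470 := d0_2 D3445 D4637 (iv D3470) (iv D2551) (iv F4092)
theorem F7562 : act 4 n4637 = n3449 := d3_2 (iv F5580) D4637 (iv D3449)
def n4638 : Q := act 3 n3445
theorem D4638 : act 3 n3445 = n4638 := rfl
theorem F7563 : act 1 n4638 = n3446 := d6_1 D4638 (iv D3446) D3445
theorem F7564 : act 4 n4638 = n3525 := d12_2 (iv F5580) D4638 (iv D3525) (iv D2591) (iv F4096)
def n4639 : Q := act 5 n3445
theorem D4639 : act 5 n3445 = n4639 := rfl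
theorem F7565 : act 1 n4639 = n3447 := d8_1 D4639 (iv D3447) D3445
theorem F7566 : act 4 n4639 = n3524 := d14_1 D4639 (iv D3524) (iv D2590) (iv F4097) (iv F5580)
def n4640 : Q := act 2 n3446
theorem D4640 : act 2 n3446 = n4640 := rfl
theorem F7567 : act 0 n4640 = n3473 := d1_1 D4640 (iv D3473) (iv F5581)
theorem F7568 : act 3 n4640 = n3468 := d9_2 D3446 D4640 F5618 F4120 F3029 (iv F3031) (iv F4122) (iv F5624) (iv F7322) (iv D4511) (iv D3351) (iv D2465) F2915 D1848 D2533
theorem F7569 : act 4 n4640 = n3526 := d10_2 (iv F5582) D4640 (iv D3526)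
theorem F7570 : act 5 n3467 = n4640 := d13_0 F7568 (iv D3468) D3467
def n4641 : Q := act 5 n3446
theorem D4641 : act 5 n3446 = n4641 := rfl
theorem F7571 : act 0 n4641 = n3475 := d4_1 D4641 (iv D3475) (iv F5581)
theorem F7572 : act 2 n4641 = n3467 := d11_1 D4641 F7570 (iv D4640)
theorem F7573 : act 3 n4641 = n3447 := d13_1 D4641 (iv D3447) D3446
def n4642 : Q := act 2 n3450
theorem D4642 : act 2 n3450 = n4642 := rfl
theorem F7574 : act 0 n4642 = n3463 := d1_1 D4642 F5615 (iv F5592)
theorem F7575 : act 4 n4642 = n3451 := d10_2 (iv F5593) D4642 (iv D3451)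
def n4643 : Q := act 1 n3451
theorem D4643 : act 1 n3451 = n4643 := rfl
theorem F7576 : act 3 n4643 = n3484 := d6_2 (iv F5595) D4643 (iv D3484)
theorem F7577 : act 5 n4643 = n3452 := d8_2 (iv F5596) D4643 (iv D3452)
def n4644 : Q := act 0 n3452
theorem D4644 : act 0 n3452 = n4644 := rfl
theorem F7578 : act 1 n4644 = n3459 := d0_2 D3452 D4644 (iv D3459) (iv D2543) (iv F4102)
theorem F7579 : act 3 n4644 = n4140 := d2_2 (iv F5597) D4644 (iv D4140)
def n4645 : Q := act 2 n3453
theorem D4645 : act 2 n3453 = n4645 := rfl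
theorem F7580 : act 5 n4645 = n4123 := d11_2 (iv F5599) D4645 (iv D4123)
def n4646 : Q := act 1 n3454
theorem D4646 : act 1 n3454 = n4646 := rfl
theorem F7581 : act 3 n4646 = n3461 := d6_2 (iv F5601) D4646 F5611
theorem F7582 : act 5 n4646 = n3460 := d8_2 (iv F5602) D4646 F5610
def n4647 : Q := act 0 n3455
theorem D4647 : act 0 n3455 = n4647 := rfl
theorem F7583 : act 2 n4647 = n3470 := d1_2 (iv F5603) D4647 (iv D3470)
theorem F7584 : act 4 n4647 = n3459 := d3_2 (iv F5604) D4647 (iv D3459)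
def n4648 : Q := act 3 n3455
theorem D4648 : act 3 n3455 = n4648 := rfl
theorem F7585 : act 1 n4648 = n3456 := d6_1 D4648 (iv D3456) D3455
def n4649 : Q := act 5 n3455
theorem D4649 : act 5 n3455 = n4649 := rfl
theorem F7586 : act 1 n4649 = n3457 := d8_1 D4649 (iv D3457) D3455
theorem F7587 : act 2 n4649 = n3472 := d11_1 D4649 (iv D3472) (iv F5603)
def n4650 : Q := act 4 n3456
theorem D4650 : act 4 n3456 = n4650 := rfl
theorem F7588 : act 0 n4650 = n4139 := d3_1 D4650 (iv F7343) F7342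
theorem F7589 : act 3 n4650 = n3462 := d12_1 D4650 (iv D3462) (iv D2544) (iv F4109) D3456
def n4651 : Q := act 4 n3457
theorem D4651 : act 4 n3457 = n4651 := rfl
theorem F7590 : act 2 n4651 = n3458 := d10_1 D4651 (iv D3458) (iv F5605)
theorem F7591 : act 5 n4651 = n3463 := d14_2 D3457 D4651 (iv D3463) (iv D2545) (iv F4109)
def n4652 : Q := act 3 n3459
theorem D4652 : act 3 n3459 = n4652 := rfl
theorem F7592 : act 0 n4652 = n3460 := d2_1 D4652 (iv D3460) D3459
theorem F7593 : act 1 n4652 = n4140 := d6_1 D4652 (iv F7579) F7578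
def n4653 : Q := act 5 n3459
theorem D4653 : act 5 n3459 = n4653 := rfl
theorem F7594 : act 0 n4653 = n3461 := d4_1 D4653 (iv D3461) D3459
theorem F7595 : act 2 n4653 = n3478 := d11_1 D4653 (iv D3478) (iv F5609)
def n4654 : Q := act 2 n3460
theorem D4654 : act 2 n3460 = n4654 := rfl
theorem F7596 : act 1 n4654 = n4123 := d5_1 D4654 (iv D4123) F4993 (iv F4114) (iv F5610)
def n4655 : Q := act 4 n3460
theorem D4655 : act 4 n3460 = n4655 := rfl
theorem F7597 : act 1 n4655 = n3462 := d7_1 D4655 (iv D3462) (iv F5610)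
def n4656 : Q := act 4 n3461
theorem D4656 : act 4 n3461 = n4656 := rfl
theorem F7598 : act 1 n4656 = n3463 := d7_1 D4656 (iv D3463) (iv F5611)
theorem F7599 : act 2 n4656 = n3481 := d10_1 D4656 (iv D3481) (iv F5612)
def n4657 : Q := act 5 n3462
theorem D4657 : act 5 n3462 = n4657 := rfl
theorem F7600 : act 0 n4657 = n4137 := d4_1 D4657 F6760 (iv F5613)
theorem F7601 : act 2 n4657 = n4047 := d11_1 D4657 (iv D4047) (iv F5614)
def n4658 : Q := act 3 n3463
theorem D4658 : act 3 n3463 = n4658 := rfl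
def n4659 : Q := act 1 n3464
theorem D4659 : act 1 n3464 = n4659 := rfl
theorem F7602 : act 2 n4659 = n3466 := d5_2 D3464 D4659 (iv D3466) (iv D2549) (iv F4118)
def n4660 : Q := act 3 n3464
theorem D4660 : act 3 n3464 = n4660 := rfl
def n4661 : Q := act 5 n3464
theorem D4661 : act 5 n3464 = n4661 := rfl
theorem F7603 : act 2 n4661 = n3465 := d11_1 D4661 (iv D3465) D3464
def n4662 : Q := act 4 n3465
theorem D4662 : act 4 n3465 = n4662 := rfl
theorem F7604 : act 1 n4662 = n3469 := d7_1 D4662 (iv D3469) (iv F5616)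
def n4663 : Q := act 0 n3466
theorem D4663 : act 0 n3466 = n4663 := rfl
def n4664 : Q := act 3 n3466
theorem D4664 : act 3 n3466 = n4664 := rfl
theorem F7605 : act 1 n4664 = n3467 := d6_1 D4664 (iv D3467) D3466
def n4665 : Q := act 5 n3466
theorem D4665 : act 5 n3466 = n4665 := rfl
theorem F7606 : act 1 n4665 = n3468 := d8_1 D4665 (iv D3468) D3466
def n4666 : Q := act 4 n3467
theorem D4666 : act 4 n3467 = n4666 := rfl
def n4667 : Q := act 4 n3468
theorem D4667 : act 4 n3468 = n4667 := rfl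
theorem F7607 : act 2 n4667 = n3469 := d10_1 D4667 (iv D3469) (iv F5618)
def n4668 : Q := act 3 n3470
theorem D4668 : act 3 n3470 = n4668 := rfl
theorem F7608 : act 0 n4668 = n3471 := d2_1 D4668 (iv D3471) D3470
def n4669 : Q := act 5 n3470
theorem D4669 : act 5 n3470 = n4669 := rfl
theorem F7609 : act 0 n4669 = n3472 := d4_1 D4669 (iv D3472) D3470
def n4670 : Q := act 2 n3471
theorem D4670 : act 2 n3471 = n4670 := rfl
def n4671 : Q := act 4 n3471
theorem D4671 : act 4 n3471 = n4671 := rfl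
theorem F7610 : act 1 n4671 = n3474 := d7_1 D4671 (iv D3474) (iv F5620)
theorem F7611 : act 3 n4671 = n3480 := d12_1 D4671 (iv D3480) (iv D2556) (iv F4121) D3471
def n4672 : Q := act 5 n3471
theorem D4672 : act 5 n3471 = n4672 := rfl
theorem F7612 : act 1 n4672 = n3475 := d8_1 D4672 (iv D3475) (iv F5620)
theorem F7613 : act 3 n4672 = n3472 := d13_1 D4672 (iv D3472) D3471
def n4673 : Q := act 4 n3472
theorem D4673 : act 4 n3472 = n4673 := rfl
theorem F7614 : act 1 n4673 = n3476 := d7_1 D4673 (iv D3476) (iv F5621)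
theorem F7615 : act 5 n4673 = n3481 := d14_2 D3472 D4673 (iv D3481) (iv D2557) (iv F4121)
def n4674 : Q := act 1 n3473
theorem D4674 : act 1 n3473 = n4674 := rfl
def n4675 : Q := act 4 n3473
theorem D4675 : act 4 n3473 = n4675 := rfl
theorem F7616 : act 0 n4675 = n3526 := d3_1 D4675 (iv F7569) F7567
theorem F7617 : act 2 n4675 = n3474 := d10_1 D4675 (iv D3474) D3473
theorem F7618 : act 3 n4031 = n4675 := d15_1 D4031 F7617 F5623 F4129 F3050 (iv F3514) D2958 (iv F6553) F6552
theorem F7619 : act 5 n4675 = n4051 := d13_2 (iv F6600) F7618 (iv D4051)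
def n4676 : Q := act 5 n3474
theorem D4676 : act 5 n3474 = n4676 := rfl
theorem F7620 : act 0 n4676 = n3518 := d4_1 D4676 F5698 (iv F5622)
theorem F7621 : act 2 n4676 = n4051 := d11_1 D4676 (iv F7619) F7617
theorem F7622 : act 3 n4676 = n3482 := d13_1 D4676 (iv D3482) (iv F5623)
def n4677 : Q := act 4 n3475
theorem D4677 : act 4 n3475 = n4677 := rfl
def n4678 : Q := act 3 n3476
theorem D4678 : act 3 n3476 = n4678 := rfl
theorem F7623 : act 0 n4678 = n3516 := d2_1 D4678 F5697 (iv F5625)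
theorem F7624 : act 5 n4678 = n3483 := d13_2 (iv F5627) D4678 (iv D3483)
def n4679 : Q := act 2 n3477
theorem D4679 : act 2 n3477 = n4679 := rfl
theorem F7625 : act 0 n4679 = n3479 := d1_1 D4679 (iv D3479) (iv F5628)
theorem F7626 : act 1 n4679 = n3960 := d5_1 D4679 F6477 F4760 (iv F4175) (iv F5629)
theorem F7627 : act 5 n4679 = n3487 := d11_2 F5630 D4679 F5648
def n4680 : Q := act 4 n3477
theorem D4680 : act 4 n3477 = n4680 := rfl
theorem F7628 : act 0 n4680 = n3480 := d3_1 D4680 (iv D3480) (iv F5628)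
theorem F7629 : act 1 n4680 = n3521 := d7_1 D4680 (iv D3521) (iv F5629)
def n4681 : Q := act 4 n3478
theorem D4681 : act 4 n3478 = n4681 := rfl
theorem F7630 : act 0 n4681 = n3481 := d3_1 D4681 (iv D3481) (iv F5631)
theorem F7631 : act 1 n4681 = n3520 := d7_1 D4681 (iv D3520) (iv F5632)
def n4682 : Q := act 3 n3479
theorem D4682 : act 3 n3479 = n4682 := rfl
theorem F7632 : act 1 n4682 = n3491 := d6_1 D4682 F5658 (iv F5634)
theorem F7633 : act 5 n4682 = n3488 := d13_2 (iv F5635) D4682 (iv D3488)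
def n4683 : Q := act 4 n3479
theorem D4683 : act 4 n3479 = n4683 := rfl
theorem F7634 : act 1 n4683 = n3492 := d7_1 D4683 (iv D3492) (iv F5634)
theorem F7635 : act 2 n4683 = n3480 := d10_1 D4683 (iv D3480) D3479
theorem F7636 : act 5 n4683 = n4448 := d14_2 (iv F5635) D4683 (iv D4448) (iv D3306) (iv F4136)
def n4684 : Q := act 5 n3480
theorem D4684 : act 5 n3480 = n4684 := rfl
theorem F7637 : act 1 n4684 = n3482 := d8_1 D4684 (iv D3482) (iv F5636)
theorem F7638 : act 2 n4684 = n4448 := d11_1 D4684 (iv F7636) F7635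
theorem F7639 : act 4 n4684 = n3495 := d14_1 D4684 (iv D3495) F4145 F4125 D3480
def n4685 : Q := act 3 n3481
theorem D4685 : act 3 n3481 = n4685 := rfl
theorem F7640 : act 1 n4685 = n3483 := d6_1 D4685 (iv D3483) (iv F5637)
theorem F7641 : act 4 n4685 = n3494 := d12_2 D3481 D4685 (iv D3494) F4145 (iv F4127)
def n4686 : Q := act 2 n3483
theorem D4686 : act 2 n3483 = n4686 := rfl
theorem F7642 : act 0 n4686 = n3515 := d1_1 D4686 F5696 (iv F5641)
theorem F7643 : act 4 n4686 = n3496 := d10_2 (iv F5642) D4686 (iv D3496)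
def n4687 : Q := act 0 n3484
theorem D4687 : act 0 n3484 = n4687 := rfl
theorem F7644 : act 5 n4687 = n4140 := d4_2 (iv F5643) D4687 (iv D4140)
def n4688 : Q := act 4 n3484
theorem D4688 : act 4 n3484 = n4688 := rfl
theorem F7645 : act 1 n4688 = n3485 := d7_1 D4688 (iv D3485) D3484
def n4689 : Q := act 3 n3485
theorem D4689 : act 3 n3485 = n4689 := rfl
def n4690 : Q := act 5 n3485
theorem D4690 : act 5 n3485 = n4690 := rfl
theorem F7646 : act 2 n4690 = n3486 := d11_1 D4690 (iv D3486) (iv F5644)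
theorem F7647 : act 4 n4690 = n4137 := d14_1 D4690 F6760 F5004 (iv F4132) D3485
def n4691 : Q := act 3 n3487
theorem D4691 : act 3 n3487 = n4691 := rfl
theorem F7648 : act 0 n4691 = n3488 := d2_1 D4691 (iv D3488) D3487
theorem F7649 : act 1 n4691 = n3961 := d6_1 D4691 (iv D3961) (iv F5647)
def n4692 : Q := act 2 n3488
theorem D4692 : act 2 n3488 = n4692 := rfl
def n4693 : Q := act 4 n3488
theorem D4693 : act 4 n3488 = n4693 := rfl
theorem F7650 : act 1 n4693 = n3490 := d7_1 D4693 (iv D3490) (iv F5650)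
theorem F7651 : act 3 n4693 = n4447 := d12_1 D4693 (iv D4447) (iv D3305) (iv F4136) D3488
def n4694 : Q := act 1 n3489
theorem D4694 : act 1 n3489 = n4694 := rfl
theorem F7652 : act 3 n4694 = n3555 := d6_2 (iv F5652) D4694 (iv D3555)
theorem F7653 : act 5 n4694 = n3557 := d8_2 F5653 D4694 F5758
def n4695 : Q := act 4 n3489
theorem D4695 : act 4 n3489 = n4695 := rfl
theorem F7654 : act 0 n4695 = n3835 := d3_1 D4695 (iv D3835) (iv F5651)
theorem F7655 : act 2 n4695 = n3490 := d10_1 D4695 (iv D3490) D3489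
def n4696 : Q := act 5 n3490
theorem D4696 : act 5 n3490 = n4696 := rfl
theorem F7656 : act 0 n4696 = n3964 := d4_1 D4696 (iv D3964) (iv F5654)
theorem F7657 : act 3 n4696 = n4449 := d13_1 D4696 (iv D4449) (iv F5655)
def n4697 : Q := act 4 n3491
theorem D4697 : act 4 n3491 = n4697 := rfl
theorem F7658 : act 0 n4697 = n3833 := d3_1 D4697 (iv D3833) (iv F5656)
theorem F7659 : act 2 n4697 = n3558 := d10_1 D4697 (iv D3558) (iv F5657)
def n4698 : Q := act 3 n3492
theorem D4698 : act 3 n3492 = n4698 := rfl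
theorem F7660 : act 0 n4698 = n3959 := d2_1 D4698 (iv D3959) (iv F5659)
theorem F7661 : act 5 n4698 = n4450 := d13_2 (iv F5661) D4698 (iv D4450)
def n4699 : Q := act 3 n3493
theorem D4699 : act 3 n3493 = n4699 := rfl
theorem F7662 : act 0 n4699 = n3494 := d2_1 D4699 (iv D3494) D3493
theorem F7663 : act 1 n4699 = n3508 := d6_1 D4699 (iv D3508) (iv F5662)
def n4700 : Q := act 5 n3493
theorem D4700 : act 5 n3493 = n4700 := rfl
theorem F7664 : act 0 n4700 = n3495 := d4_1 D4700 (iv D3495) D3493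
theorem F7665 : act 1 n4700 = n3509 := d8_1 D4700 (iv D3509) (iv F5662)
theorem F7666 : act 2 n4700 = n4445 := d11_1 D4700 (iv D4445) (iv F5663)
def n4701 : Q := act 2 n3494
theorem D4701 : act 2 n3494 = n4701 := rfl
def n4702 : Q := act 5 n3494
theorem D4702 : act 5 n3494 = n4702 := rfl
theorem F7667 : act 1 n4702 = n3497 := d8_1 D4702 (iv D3497) (iv F5665)
theorem F7668 : act 3 n4702 = n3495 := d13_1 D4702 (iv D3495) D3494
def n4703 : Q := act 1 n3496
theorem D4703 : act 1 n3496 = n4703 := rfl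
theorem F7669 : act 3 n4703 = n3505 := d6_2 (iv F5669) D4703 F5683
theorem F7670 : act 5 n4703 = n3504 := d8_2 F5670 D4703 F5682
def n4704 : Q := act 4 n3497
theorem D4704 : act 4 n3497 = n4704 := rfl
theorem F7671 : act 0 n4704 = n3517 := d3_1 D4704 (iv D3517) (iv F5671)
theorem F7672 : act 2 n4704 = n3506 := d10_1 D4704 (iv D3506) (iv F5672)
def n4705 : Q := act 4 n3498
theorem D4705 : act 4 n3498 = n4705 := rfl
theorem F7673 : act 0 n4705 = n3501 := d3_1 D4705 (iv D3501) (iv F5674)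
theorem F7674 : act 2 n4705 = n3499 := d10_1 D4705 (iv D3499) D3498
def n4706 : Q := act 5 n3499
theorem D4706 : act 5 n3499 = n4706 := rfl
theorem F7675 : act 0 n4706 = n3502 := d4_1 D4706 (iv D3502) (iv F5675)
theorem F7676 : act 1 n4706 = n3527 := d8_1 D4706 (iv D3527) (iv F5676)
theorem F7677 : act 3 n4706 = n4118 := d13_1 D4706 (iv D4118) (iv F5677)
def n4707 : Q := act 4 n3500
theorem D4707 : act 4 n3500 = n4707 := rfl
def n4708 : Q := act 3 n3501
theorem D4708 : act 3 n3501 = n4708 := rfl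
def n4709 : Q := act 5 n3501
theorem D4709 : act 5 n3501 = n4709 := rfl
theorem F7678 : act 2 n4709 = n3502 := d11_1 D4709 (iv D3502) (iv F5678)
def n4710 : Q := act 3 n3503
theorem D4710 : act 3 n3503 = n4710 := rfl
theorem F7679 : act 0 n4710 = n3504 := d2_1 D4710 (iv D3504) D3503
def n4711 : Q := act 5 n3503
theorem D4711 : act 5 n3503 = n4711 := rfl
theorem F7680 : act 0 n4711 = n3505 := d4_1 D4711 (iv D3505) D3503
theorem F7681 : act 2 n4711 = n4427 := d11_1 D4711 (iv D4427) (iv F5681)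
def n4712 : Q := act 2 n3504
theorem D4712 : act 2 n3504 = n4712 := rfl
def n4713 : Q := act 4 n3504
theorem D4713 : act 4 n3504 = n4713 := rfl
theorem F7682 : act 1 n4713 = n3506 := d7_1 D4713 (iv D3506) (iv F5682)
def n4714 : Q := act 4 n3505
theorem D4714 : act 4 n3505 = n4714 := rfl
theorem F7683 : act 1 n4714 = n3507 := d7_1 D4714 (iv D3507) (iv F5683)
theorem F7684 : act 2 n4714 = n4430 := d10_1 D4714 (iv D4430) (iv F5684)
def n4715 : Q := act 5 n3506
theorem D4715 : act 5 n3506 = n4715 := rfl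
def n4716 : Q := act 3 n3507
theorem D4716 : act 3 n3507 = n4716 := rfl
def n4717 : Q := act 2 n3508
theorem D4717 : act 2 n3508 = n4717 := rfl
theorem F7685 : act 0 n4717 = n3510 := d1_1 D4717 (iv D3510) (iv F5686)
theorem F7686 : act 3 n4717 = n4481 := d15_1 D4717 (iv D4481) (iv D3330) F3939 (iv F3579) (iv F4168) (iv F5692) (iv D3512) (iv F5686)
def n4718 : Q := act 4 n3508
theorem D4718 : act 4 n3508 = n4718 := rfl
theorem F7687 : act 0 n4718 = n3511 := d3_1 D4718 (iv D3511) (iv F5686)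
theorem F7688 : act 3 n4718 = n3520 := d12_1 D4718 (iv D3520) (iv D2587) (iv F4165) D3508
def n4719 : Q := act 5 n3508
theorem D4719 : act 5 n3508 = n4719 := rfl
theorem F7689 : act 0 n4719 = n3512 := d4_1 D4719 (iv D3512) (iv F5686)
theorem F7690 : act 3 n4719 = n3509 := d13_1 D4719 (iv D3509) D3508
def n4720 : Q := act 4 n3509
theorem D4720 : act 4 n3509 = n4720 := rfl
theorem F7691 : act 0 n4720 = n3513 := d3_1 D4720 (iv D3513) (iv F5687)
theorem F7692 : act 2 n4720 = n4077 := d10_1 D4720 F6682 (iv F5688)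
theorem F7693 : act 5 n4720 = n3521 := d14_2 D3509 D4720 (iv D3521) (iv D2588) (iv F4165)
def n4721 : Q := act 1 n3510
theorem D4721 : act 1 n3510 = n4721 := rfl
theorem F7694 : act 2 n4721 = n3514 := d5_2 D3510 D4721 (iv D3514) (iv D2583) (iv F4166)
def n4722 : Q := act 3 n3510
theorem D4722 : act 3 n3510 = n4722 := rfl
theorem F7695 : act 0 n4722 = n4481 := d2_1 D4722 (iv F7686) F7685
theorem F7696 : act 2 n4722 = n4480 := d15_2 D3510 D4722 (iv D4480) F5373 (iv F4927) (iv F5688) (iv F7690) (iv D4719) F5686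
def n4723 : Q := act 4 n3510
theorem D4723 : act 4 n3510 = n4723 := rfl
theorem F7697 : act 2 n4723 = n3511 := d10_1 D4723 (iv D3511) D3510
def n4724 : Q := act 5 n3510
theorem D4724 : act 5 n3510 = n4724 := rfl
theorem F7698 : act 2 n4724 = n3512 := d11_1 D4724 (iv D3512) D3510
def n4725 : Q := act 5 n3511
theorem D4725 : act 5 n3511 = n4725 := rfl
theorem F7699 : act 1 n4725 = n3516 := d8_1 D4725 (iv D3516) (iv F5689)
theorem F7700 : act 3 n4725 = n3524 := d13_1 D4725 (iv D3524) (iv F5690)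
def n4726 : Q := act 4 n3512
theorem D4726 : act 4 n3512 = n4726 := rfl
theorem F7701 : act 1 n4726 = n3517 := d7_1 D4726 (iv D3517) (iv F5691)
def n4727 : Q := act 3 n3513
theorem D4727 : act 3 n3513 = n4727 := rfl
theorem F7702 : act 1 n4727 = n3518 := d6_1 D4727 (iv D3518) (iv F5693)
theorem F7703 : act 5 n4727 = n3525 := d13_2 (iv F5695) D4727 (iv D3525)
def n4728 : Q := act 0 n3514
theorem D4728 : act 0 n3514 = n4728 := rfl
def n4729 : Q := act 4 n3514
theorem D4729 : act 4 n3514 = n4729 := rfl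
theorem F7704 : act 1 n4729 = n3515 := d7_1 D4729 (iv D3515) D3514
def n4730 : Q := act 3 n3515
theorem D4730 : act 3 n3515 = n4730 := rfl
def n4731 : Q := act 5 n3515
theorem D4731 : act 5 n3515 = n4731 := rfl
theorem F7705 : act 2 n4731 = n3516 := d11_1 D4731 (iv D3516) (iv F5696)
def n4732 : Q := act 4 n3516
theorem D4732 : act 4 n3516 = n4732 := rfl
theorem F7706 : act 5 n4732 = n3517 := d14_2 D3516 D4732 (iv D3517) (iv D2585) D2584
def n4733 : Q := act 3 n3517
theorem D4733 : act 3 n3517 = n4733 := rfl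
theorem F7707 : act 4 n4733 = n3518 := d12_2 D3517 D4733 (iv D3518) (iv D2586) (iv F4170)
def n4734 : Q := act 2 n3518
theorem D4734 : act 2 n3518 = n4734 := rfl
theorem F7708 : act 0 n4734 = n4051 := d1_1 D4734 (iv F7621) F7620
theorem F7709 : act 3 n4734 = n4001 := d9_2 D3518 D4734 (iv D4001) (iv D2958) F3514 (iv F3050) (iv F4129) (iv F5623) (iv F7617) (iv F7618) (iv D4031) (iv D2978) F3527 (iv F3063) (iv F4171)
theorem F7710 : act 5 n4734 = n3526 := d11_2 (iv F5698) D4734 (iv D3526)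
def n4735 : Q := act 1 n3519
theorem D4735 : act 1 n3519 = n4735 := rfl
def n4736 : Q := act 3 n3519
theorem D4736 : act 3 n3519 = n4736 := rfl
theorem F7711 : act 0 n4736 = n3522 := d2_1 D4736 (iv D3522) (iv F5699)
theorem F7712 : act 2 n4736 = n3983 := d9_1 D4736 (iv D3983) F4781 F3497 (iv F3068) (iv F4096) (iv F5575) D4632 F7551 (iv D4085) (iv D3026) (iv D2209) (iv F3065) D2587 D3519
theorem F7713 : act 5 n4736 = n4087 := d13_2 F7546 D4736 F7547
def n4737 : Q := act 4 n3519
theorem D4737 : act 4 n3519 = n4737 := rfl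
theorem F7714 : act 0 n4737 = n3523 := d3_1 D4737 (iv D3523) (iv F5699)
theorem F7715 : act 2 n4737 = n3520 := d10_1 D4737 (iv D3520) D3519
def n4738 : Q := act 5 n3520
theorem D4738 : act 5 n3520 = n4738 := rfl
theorem F7716 : act 0 n4738 = n3524 := d4_1 D4738 (iv D3524) (iv F5700)
def n4739 : Q := act 3 n3521
theorem D4739 : act 3 n3521 = n4739 := rfl
theorem F7717 : act 0 n4739 = n3525 := d2_1 D4739 (iv D3525) (iv F5701)
def n4740 : Q := act 2 n3522
theorem D4740 : act 2 n3522 = n4740 := rfl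
theorem F7718 : act 0 n4740 = n3983 := d1_1 D4740 (iv F7712) F7711
theorem F7719 : act 3 n4740 = n3982 := d9_2 D3522 D4740 F6528 F4785 (iv F4175) (iv F5590) (iv F7545) (iv F7547) (iv D4087) (iv D3028) (iv D2210) (iv D1603) (iv F2240) D1887 D2589
theorem F7720 : act 5 n4740 = n4085 := d11_2 F7550 D4740 (iv F7551)
def n4741 : Q := act 4 n3522
theorem D4741 : act 4 n3522 = n4741 := rfl
def n4742 : Q := act 3 n3523
theorem D4742 : act 3 n3523 = n4742 := rfl
def n4743 : Q := act 5 n3523
theorem D4743 : act 5 n3523 = n4743 := rfl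
theorem F7721 : act 2 n4743 = n3524 := d11_1 D4743 (iv D3524) (iv F5703)
def n4744 : Q := act 2 n3525
theorem D4744 : act 2 n3525 = n4744 := rfl
def n4745 : Q := act 1 n3526
theorem D4745 : act 1 n3526 = n4745 := rfl
def n4746 : Q := act 3 n3526
theorem D4746 : act 3 n3526 = n4746 := rfl
theorem F7722 : act 0 n4746 = n4031 := d2_1 D4746 F7618 F7616
theorem F7723 : act 2 n4746 = n3996 := d9_1 D4746 (iv D3996) F4801 (iv F4151) (iv F5639) (iv F7622) F7621 (iv D4051) (iv D2995) (iv D2181) F2585 (iv F2243) (iv F3069) D2593 D3526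
theorem F7724 : act 5 n4746 = n4001 := d13_2 F7710 D4746 (iv F7709)
def n4747 : Q := act 4 n3528
theorem D4747 : act 4 n3528 = n4747 := rfl
theorem F7725 : act 0 n4747 = n3529 := d3_1 D4747 (iv D3529) D3528
theorem F7726 : act 2 n4747 = n3532 := d10_1 D4747 (iv D3532) (iv F5708)
def n4748 : Q := act 3 n3529
theorem D4748 : act 3 n3529 = n4748 := rfl
theorem F7727 : act 1 n4748 = n3530 := d6_1 D4748 (iv D3530) (iv F5709)
def n4749 : Q := act 5 n3529
theorem D4749 : act 5 n3529 = n4749 := rfl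
theorem F7728 : act 1 n4749 = n3531 := d8_1 D4749 (iv D3531) (iv F5709)
theorem F7729 : act 2 n4749 = n3534 := d11_1 D4749 (iv D3534) (iv F5710)
def n4750 : Q := act 2 n3530
theorem D4750 : act 2 n3530 = n4750 := rfl
def n4751 : Q := act 5 n3530
theorem D4751 : act 5 n3530 = n4751 := rfl
theorem F7730 : act 3 n4751 = n3531 := d13_1 D4751 (iv D3531) D3530
def n4752 : Q := act 3 n3532
theorem D4752 : act 3 n3532 = n4752 := rfl
theorem F7731 : act 0 n4752 = n3533 := d2_1 D4752 (iv D3533) (iv F5712)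
def n4753 : Q := act 5 n3532
theorem D4753 : act 5 n3532 = n4753 := rfl
theorem F7732 : act 0 n4753 = n3534 := d4_1 D4753 (iv D3534) (iv F5712)
def n4754 : Q := act 2 n3533
theorem D4754 : act 2 n3533 = n4754 := rfl
def n4755 : Q := act 5 n3533
theorem D4755 : act 5 n3533 = n4755 := rfl
theorem F7733 : act 1 n4755 = n3536 := d8_1 D4755 (iv D3536) (iv F5713)
theorem F7734 : act 3 n4755 = n3534 := d13_1 D4755 (iv D3534) D3533
def n4756 : Q := act 1 n3535
theorem D4756 : act 1 n3535 = n4756 := rfl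
def n4757 : Q := act 3 n3535
theorem D4757 : act 3 n3535 = n4757 := rfl
theorem F7735 : act 0 n4757 = n4135 := d2_1 D4757 F7381 F7379
theorem F7736 : act 2 n4757 = n4048 := d9_1 D4757 (iv D4048) F4868 (iv F4159) (iv F5462) (iv F7385) F7384 (iv D4134) (iv D3065) (iv D2241) F2675 (iv F2247) (iv F3073) D2600 D3535
theorem F7737 : act 5 n4757 = n4049 := d15_8 (iv D3065) (iv D2241) F2675 (iv F2247) (iv F3073) D2600 D3535 D4757 F6628
def n4758 : Q := act 5 n3535
theorem D4758 : act 5 n3535 = n4758 := rfl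
theorem F7738 : act 0 n4758 = n4134 := d4_1 D4758 (iv F7382) F7379
theorem F7739 : act 2 n4758 = n3536 := d11_1 D4758 (iv D3536) D3535
theorem F7740 : act 3 n4758 = n4049 := d13_1 D4758 (iv F7737) (iv D4757)
def n4759 : Q := act 4 n3536
theorem D4759 : act 4 n3536 = n4759 := rfl
def n4760 : Q := act 4 n3538
theorem D4760 : act 4 n3538 = n4760 := rfl
theorem F7741 : act 1 n4760 = n3540 := d7_1 D4760 (iv D3540) (iv F5719)
theorem F7742 : act 2 n4760 = n4248 := d10_1 D4760 (iv D4248) F5720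
def n4761 : Q := act 4 n3539
theorem D4761 : act 4 n3539 = n4761 := rfl
theorem F7743 : act 0 n4761 = n3712 := d3_1 D4761 (iv D3712) (iv F5722)
theorem F7744 : act 1 n4761 = n3541 := d7_1 D4761 (iv D3541) (iv F5723)
theorem F7745 : act 2 n4761 = n3574 := d10_1 D4761 (iv D3574) (iv F5724)
def n4762 : Q := act 5 n3540
theorem D4762 : act 5 n3540 = n4762 := rfl
theorem F7746 : act 0 n4762 = n3551 := d4_1 D4762 (iv D3551) (iv F5726)
theorem F7747 : act 2 n4762 = n3955 := d11_1 D4762 F6470 (iv F5727)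
theorem F7748 : act 4 n4762 = n3954 := d14_1 D4762 (iv D3954) (iv D2920) F4190 D3540
def n4763 : Q := act 3 n3541
theorem D4763 : act 3 n3541 = n4763 := rfl
theorem F7749 : act 0 n4763 = n3553 := d2_1 D4763 (iv D3553) (iv F5728)
theorem F7750 : act 4 n4763 = n3953 := d12_2 D3541 D4763 (iv D3953) (iv D2920) (iv F4193)
def n4764 : Q := act 3 n3542
theorem D4764 : act 3 n3542 = n4764 := rfl
theorem F7751 : act 0 n4764 = n3543 := d2_1 D4764 (iv D3543) D3542
def n4765 : Q := act 5 n3542
theorem D4765 : act 5 n3542 = n4765 := rfl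
theorem F7752 : act 0 n4765 = n3544 := d4_1 D4765 (iv D3544) D3542
theorem F7753 : act 2 n4765 = n3560 := d11_1 D4765 (iv D3560) (iv F5730)
theorem F7754 : act 4 n4765 = n3715 := d14_1 D4765 (iv D3715) (iv D2747) (iv F4203) (iv F5731)
def n4766 : Q := act 2 n3543
theorem D4766 : act 2 n3543 = n4766 := rfl
def n4767 : Q := act 4 n3543
theorem D4767 : act 4 n3543 = n4767 := rfl
theorem F7755 : act 1 n4767 = n3546 := d7_1 D4767 (iv D3546) (iv F5732)
theorem F7756 : act 3 n4767 = n3548 := d12_1 D4767 (iv D3548) (iv D2611) (iv F4198) D3543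
def n4768 : Q := act 5 n3543
theorem D4768 : act 5 n3543 = n4768 := rfl
theorem F7757 : act 1 n4768 = n3545 := d8_1 D4768 (iv F5737) (iv F5732)
theorem F7758 : act 3 n4768 = n3544 := d13_1 D4768 (iv D3544) D3543
def n4769 : Q := act 4 n3545
theorem D4769 : act 4 n3545 = n4769 := rfl
theorem F7759 : act 2 n4769 = n3546 := d10_1 D4769 (iv D3546) D3545
def n4770 : Q := act 5 n3546
theorem D4770 : act 5 n3546 = n4770 := rfl
theorem F7760 : act 3 n4770 = n3551 := d13_1 D4770 (iv D3551) (iv F5738)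
def n4771 : Q := act 3 n3547
theorem D4771 : act 3 n3547 = n4771 := rfl
theorem F7761 : act 1 n4771 = n3722 := d6_1 D4771 F6076 (iv F5739)
theorem F7762 : act 5 n4771 = n3553 := d13_2 (iv F5741) D4771 (iv D3553)
def n4772 : Q := act 5 n3548
theorem D4772 : act 5 n3548 = n4772 := rfl
theorem F7763 : act 1 n4772 = n3551 := d8_1 D4772 (iv D3551) (iv F5742)
theorem F7764 : act 4 n4772 = n3720 := d14_1 D4772 (iv D3720) (iv D2751) (iv F4205) D3548
def n4773 : Q := act 4 n3549
theorem D4773 : act 4 n3549 = n4773 := rfl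
theorem F7765 : act 0 n4773 = n4238 := d3_1 D4773 (iv D4238) (iv F5743)
theorem F7766 : act 1 n4773 = n3550 := d7_1 D4773 (iv D3550) D3549
def n4774 : Q := act 3 n3550
theorem D4774 : act 3 n3550 = n4774 := rfl
theorem F7767 : act 0 n4774 = n3956 := d2_1 D4774 (iv D3956) (iv F5746)
theorem F7768 : act 4 n4774 = n3937 := d12_2 D3550 D4774 (iv D3937) (iv D2908) (iv F4207)
def n4775 : Q := act 5 n3550
theorem D4775 : act 5 n3550 = n4775 := rfl
theorem F7769 : act 0 n4775 = n3955 := d4_1 D4775 F6470 (iv F5746)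
theorem F7770 : act 2 n4775 = n3551 := d11_1 D4775 (iv D3551) (iv F5747)
theorem F7771 : act 4 n4775 = n3936 := d14_1 D4775 (iv D3936) (iv D2907) F4208 D3550
def n4776 : Q := act 4 n3551
theorem D4776 : act 4 n3551 = n4776 := rfl
theorem F7772 : act 0 n4776 = n3954 := d3_1 D4776 (iv F7748) F7746
theorem F7773 : act 1 n4776 = n3720 := d7_1 D4776 (iv F7764) F7763
theorem F7774 : act 2 n4776 = n3936 := d10_1 D4776 (iv F7771) F7770
theorem F7775 : act 5 n4776 = n3552 := d14_2 D3551 D4776 (iv D3552) (iv D2614) D2613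
def n4777 : Q := act 3 n3552
theorem D4777 : act 3 n3552 = n4777 := rfl
theorem F7776 : act 0 n4777 = n3953 := d2_1 D4777 (iv D3953) (iv F5748)
theorem F7777 : act 1 n4777 = n3719 := d6_1 D4777 (iv D3719) (iv F5749)
theorem F7778 : act 4 n4777 = n3553 := d12_2 D3552 D4777 (iv D3553) (iv D2615) (iv F4212)
def n4778 : Q := act 2 n3553
theorem D4778 : act 2 n3553 = n4778 := rfl
def n4779 : Q := act 1 n3554
theorem D4779 : act 1 n3554 = n4779 := rfl
theorem F7779 : act 2 n4779 = n3565 := d5_2 D3554 D4779 (iv D3565) (iv D2625) (iv F4216)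
theorem F7780 : act 4 n4779 = n3555 := d7_2 (iv F5753) D4779 (iv D3555)
def n4780 : Q := act 3 n3554
theorem D4780 : act 3 n3554 = n4780 := rfl
theorem F7781 : act 0 n4780 = n3836 := d2_1 D4780 (iv D3836) (iv F5752)
def n4781 : Q := act 0 n3555
theorem D4781 : act 0 n3555 = n4781 := rfl
theorem F7782 : act 1 n4781 = n3801 := d0_2 D3555 D4781 F6197 F4545 (iv F4218)
theorem F7783 : act 2 n4781 = n3567 := d1_2 (iv F5754) D4781 (iv D3567)
theorem F7784 : act 5 n4781 = n3556 := d4_2 (iv F5755) D4781 (iv D3556)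
def n4782 : Q := act 3 n3556
theorem D4782 : act 3 n3556 = n4782 := rfl
theorem F7785 : act 0 n4782 = n3557 := d2_1 D4782 (iv D3557) D3556
theorem F7786 : act 1 n4782 = n3829 := d6_1 D4782 (iv D3829) (iv F5756)
def n4783 : Q := act 2 n3557
theorem D4783 : act 2 n3557 = n4783 := rfl
def n4784 : Q := act 4 n3557
theorem D4784 : act 4 n3557 = n4784 := rfl
theorem F7787 : act 1 n4784 = n3558 := d7_1 D4784 (iv D3558) (iv F5758)
def n4785 : Q := act 5 n3558
theorem D4785 : act 5 n3558 = n4785 := rfl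
theorem F7788 : act 0 n4785 = n3834 := d4_1 D4785 (iv D3834) (iv F5759)
def n4786 : Q := act 2 n3559
theorem D4786 : act 2 n3559 = n4786 := rfl
theorem F7789 : act 0 n4786 = n3561 := d1_1 D4786 (iv D3561) (iv F5760)
theorem F7790 : act 4 n4786 = n3716 := d10_2 (iv F5762) D4786 (iv D3716)
def n4787 : Q := act 5 n3559
theorem D4787 : act 5 n3559 = n4787 := rfl
theorem F7791 : act 0 n4787 = n3562 := d4_1 D4787 (iv D3562) (iv F5760)
theorem F7792 : act 1 n4787 = n3616 := d8_1 D4787 (iv D3616) (iv F5761)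
theorem F7793 : act 3 n4787 = n3560 := d13_1 D4787 (iv D3560) D3559
def n4788 : Q := act 1 n3561
theorem D4788 : act 1 n3561 = n4788 := rfl
theorem F7794 : act 2 n4788 = n3563 := d5_2 D3561 D4788 (iv D3563) (iv D2623) (iv F4224)
theorem F7795 : act 4 n4788 = n3723 := d7_2 (iv F5766) D4788 (iv D3723)
theorem F7796 : act 5 n3609 = n4788 := d11_0 F7794 F5771 D3609
def n4789 : Q := act 3 n3561
theorem D4789 : act 3 n3561 = n4789 := rfl
def n4790 : Q := act 5 n3561
theorem D4790 : act 5 n3561 = n4790 := rfl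
theorem F7797 : act 1 n4790 = n3609 := d8_1 D4790 F7796 (iv D4788)
theorem F7798 : act 2 n4790 = n3562 := d11_1 D4790 (iv D3562) D3561
def n4791 : Q := act 4 n3562
theorem D4791 : act 4 n3562 = n4791 := rfl
theorem F7799 : act 1 n4791 = n3564 := d7_1 D4791 (iv D3564) (iv F5767)
theorem F7800 : act 3 n4791 = n3704 := d12_1 D4791 (iv D3704) F4420 (iv F4227) (iv F5768)
theorem F7801 : act 5 n4791 = n3705 := d14_2 D3562 D4791 F6057 F4423 (iv F4225)
def n4792 : Q := act 0 n3563
theorem D4792 : act 0 n3563 = n4792 := rfl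
theorem F7802 : act 1 n4792 = n3625 := d0_2 D3563 D4792 (iv D3625) (iv D2666) (iv F4228)
theorem F7803 : act 3 n4792 = n3608 := d2_2 (iv F5769) D4792 F5857
theorem F7804 : act 4 n4792 = n3725 := d3_2 (iv F5770) D4792 (iv D3725)
theorem F7805 : act 5 n4792 = n3607 := d4_2 (iv F5771) D4792 F5856
def n4793 : Q := act 0 n3565
theorem D4793 : act 0 n3565 = n4793 := rfl
theorem F7806 : act 1 n4793 = n3645 := d0_2 D3565 D4793 (iv D3645) (iv D2683) (iv F4235)
theorem F7807 : act 4 n4793 = n3567 := d3_2 (iv F5776) D4793 (iv D3567)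
def n4794 : Q := act 3 n3565
theorem D4794 : act 3 n3565 = n4794 := rfl
theorem F7808 : act 1 n4794 = n3566 := d6_1 D4794 (iv D3566) D3565
theorem F7809 : act 4 n4794 = n3654 := d12_2 (iv F5776) D4794 (iv D3654) (iv D2691) (iv F4237)
def n4795 : Q := act 0 n3568
theorem D4795 : act 0 n3568 = n4795 := rfl
theorem F7810 : act 2 n4795 = n3570 := d1_2 (iv F5783) D4795 (iv D3570)
theorem F7811 : act 5 n4795 = n3648 := d4_2 (iv F5784) D4795 F5944
theorem F7812 : act 3 n3887 = n4795 := d15_7 (iv D2687) (iv D1959) F2314 D1517 D2092 D2872 D3887 F7811 F5944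
def n4796 : Q := act 3 n3568
theorem D4796 : act 3 n3568 = n4796 := rfl
theorem F7813 : act 0 n4796 = n3887 := d2_1 D4796 F7812 (iv D4795)
theorem F7814 : act 1 n4796 = n3569 := d6_1 D4796 (iv D3569) D3568
theorem F7815 : act 5 n4796 = n3650 := d13_2 (iv F5784) D4796 (iv D3650)
theorem F7816 : act 2 n4796 = n3883 := d15_2 (iv F5783) D4796 (iv D3883) (iv D2869) (iv D2090) (iv F3183) D2686 (iv F5787) (iv D3570)
def n4797 : Q := act 2 n3569
theorem D4797 : act 2 n3569 = n4797 := rfl
theorem F7817 : act 0 n4797 = n3978 := d1_1 D4797 (iv F7184) F7183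
theorem F7818 : act 3 n4797 = n3976 := d9_2 D3569 D4797 (iv D3976) (iv D2939) (iv F3838) D3214 D4328 F7080 (iv D3984) (iv D2944) (iv D2147) (iv D1555) (iv F2276) D1915 D2628
theorem F7819 : act 5 n4797 = n3981 := d11_2 F7087 D4797 (iv F7088)
def n4798 : Q := act 4 n3569
theorem D4798 : act 4 n3569 = n4798 := rfl
def n4799 : Q := act 4 n3571
theorem D4799 : act 4 n3571 = n4799 := rfl
theorem F7820 : act 0 n4799 = n3573 := d3_1 D4799 (iv D3573) (iv F5788)
theorem F7821 : act 1 n4799 = n3585 := d7_1 D4799 (iv D3585) (iv F5789)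
theorem F7822 : act 2 n4799 = n4379 := d10_1 D4799 (iv D4379) F5790
def n4800 : Q := act 4 n3572
theorem D4800 : act 4 n3572 = n4800 := rfl
theorem F7823 : act 0 n4800 = n3574 := d3_1 D4800 (iv D3574) (iv F5792)
theorem F7824 : act 1 n4800 = n3587 := d7_1 D4800 (iv D3587) (iv F5793)
theorem F7825 : act 2 n4800 = n3712 := d10_1 D4800 (iv D3712) (iv F5794)
def n4801 : Q := act 5 n3573
theorem D4801 : act 5 n3573 = n4801 := rfl
theorem F7826 : act 1 n4801 = n3575 := d8_1 D4801 (iv D3575) (iv F5796)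
theorem F7827 : act 2 n4801 = n4381 := d11_1 D4801 (iv D4381) (iv F5797)
theorem F7828 : act 4 n4801 = n3669 := d14_1 D4801 (iv D3669) (iv D2705) F4245 D3573
def n4802 : Q := act 3 n3574
theorem D4802 : act 3 n3574 = n4802 := rfl
theorem F7829 : act 1 n4802 = n3576 := d6_1 D4802 (iv D3576) (iv F5798)
theorem F7830 : act 4 n4802 = n3668 := d12_2 D3574 D4802 (iv D3668) (iv D2705) (iv F4247)
def n4803 : Q := act 2 n3576
theorem D4803 : act 2 n3576 = n4803 := rfl
theorem F7831 : act 0 n4803 = n3600 := d1_1 D4803 (iv D3600) (iv F5802)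
theorem F7832 : act 4 n4803 = n3670 := d10_2 (iv F5803) D4803 (iv D3670)
theorem F7833 : act 5 n4803 = n3893 := d11_2 F6305 D4803 F6339
theorem F7834 : act 3 n4803 = n3881 := d15_1 D4803 (iv D3881) (iv D2868) F3389 (iv F3124) (iv F4258) D3583 F5813 (iv F5802)
def n4804 : Q := act 2 n3577
theorem D4804 : act 2 n3577 = n4804 := rfl
theorem F7835 : act 0 n4804 = n3579 := d1_1 D4804 (iv D3579) (iv F5804)
def n4805 : Q := act 4 n3577
theorem D4805 : act 4 n3577 = n4805 := rfl
theorem F7836 : act 0 n4805 = n3580 := d3_1 D4805 (iv D3580) (iv F5804)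
theorem F7837 : act 3 n4805 = n3585 := d12_1 D4805 (iv D3585) (iv D2640) (iv F4253) D3577
def n4806 : Q := act 4 n3578
theorem D4806 : act 4 n3578 = n4806 := rfl
theorem F7838 : act 0 n4806 = n3581 := d3_1 D4806 (iv D3581) (iv F5805)
theorem F7839 : act 2 n4806 = n3617 := d10_1 D4806 (iv D3617) (iv F5806)
theorem F7840 : act 5 n4806 = n3587 := d14_2 D3578 D4806 (iv D3587) (iv D2641) (iv F4253)
def n4807 : Q := act 3 n3579
theorem D4807 : act 3 n3579 = n4807 := rfl
def n4808 : Q := act 4 n3579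
theorem D4808 : act 4 n3579 = n4808 := rfl
theorem F7841 : act 2 n4808 = n3580 := d10_1 D4808 (iv D3580) D3579
def n4809 : Q := act 5 n3580
theorem D4809 : act 5 n3580 = n4809 := rfl
theorem F7842 : act 1 n4809 = n3582 := d8_1 D4809 (iv D3582) (iv F5807)
theorem F7843 : act 3 n4809 = n3592 := d13_1 D4809 (iv D3592) (iv F5808)
def n4810 : Q := act 3 n3581
theorem D4810 : act 3 n3581 = n4810 := rfl
theorem F7844 : act 1 n4810 = n3583 := d6_1 D4810 (iv D3583) (iv F5809)
theorem F7845 : act 5 n4810 = n3594 := d13_2 (iv F5811) D4810 (iv D3594)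
def n4811 : Q := act 2 n3583
theorem D4811 : act 2 n3583 = n4811 := rfl
theorem F7846 : act 0 n4811 = n3893 := d1_1 D4811 F6339 F6304
theorem F7847 : act 3 n4811 = n3797 := d9_2 D3583 D4811 F6191 F4533 F3334 (iv F3119) (iv F4251) D3576 D4803 F7834 (iv D3881) (iv D2868) F3389 (iv F3124) (iv F4258)
theorem F7848 : act 5 n4811 = n3600 := d11_2 (iv F5813) D4811 (iv D3600)
def n4812 : Q := act 1 n3584
theorem D4812 : act 1 n3584 = n4812 := rfl
theorem F7849 : act 0 n4812 = n4201 := d0_1 D4812 F6882 F5823 (iv D3588) (iv F5814)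
theorem F7850 : act 2 n4812 = n4197 := d5_2 D3584 D4812 F6872 F5790 F5789
theorem F7851 : act 3 n4812 = n3675 := d6_2 (iv F5815) D4812 (iv D3675)
theorem F7852 : act 5 n3686 = n4812 := d13_0 F7851 F5993 D3686
def n4813 : Q := act 4 n3584
theorem D4813 : act 4 n3584 = n4813 := rfl
theorem F7853 : act 0 n4813 = n3590 := d3_1 D4813 (iv D3590) (iv F5814)
theorem F7854 : act 2 n4813 = n3585 := d10_1 D4813 (iv D3585) D3584
def n4814 : Q := act 5 n3584
theorem D4814 : act 5 n3584 = n4814 := rfl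
theorem F7855 : act 0 n4814 = n3591 := d4_1 D4814 (iv D3591) (iv F5814)
theorem F7856 : act 1 n4814 = n3686 := d8_1 D4814 F7852 (iv D4812)
theorem F7857 : act 2 n4814 = n3586 := d11_1 D4814 (iv D3586) D3584
theorem F7858 : act 3 n4814 = n3640 := d13_1 D4814 F5929 (iv F5815)
def n4815 : Q := act 5 n3585
theorem D4815 : act 5 n3585 = n4815 := rfl
theorem F7859 : act 0 n4815 = n3592 := d4_1 D4815 (iv D3592) (iv F5816)
def n4816 : Q := act 4 n3586
theorem D4816 : act 4 n3586 = n4816 := rfl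
theorem F7860 : act 0 n4816 = n3593 := d3_1 D4816 (iv D3593) (iv F5817)
theorem F7861 : act 1 n4816 = n3667 := d7_1 D4816 (iv D3667) (iv F5818)
def n4817 : Q := act 3 n3587
theorem D4817 : act 3 n3587 = n4817 := rfl
theorem F7862 : act 0 n4817 = n3594 := d2_1 D4817 (iv D3594) (iv F5820)
def n4818 : Q := act 3 n3588
theorem D4818 : act 3 n3588 = n4818 := rfl
theorem F7863 : act 0 n4818 = n4119 := d2_1 D4818 F6747 F5823
theorem F7864 : act 1 n4818 = n3589 := d6_1 D4818 (iv D3589) D3588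
theorem F7865 : act 5 n4818 = n3658 := d13_2 F5824 D4818 (iv D3658)
theorem F7866 : act 2 n4818 = n3690 := d15_2 (iv F5822) D4818 F6028 (iv D3051) (iv D2229) (iv F3188) D2694 F4344 (iv F4268)
def n4819 : Q := act 4 n3588
theorem D4819 : act 4 n3588 = n4819 := rfl
theorem F7867 : act 0 n4819 = n4377 := d3_1 D4819 (iv D4377) F5823
theorem F7868 : act 1 n4819 = n3590 := d7_1 D4819 (iv D3590) D3588
theorem F7869 : act 2 n4819 = n3595 := d10_1 D4819 (iv D3595) (iv F5822)
def n4820 : Q := act 4 n3589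
theorem D4820 : act 4 n3589 = n4820 := rfl
theorem F7870 : act 0 n4820 = n3642 := d3_1 D4820 F5931 (iv F5825)
theorem F7871 : act 2 n4820 = n3639 := d10_1 D4820 F5927 (iv F5826)
def n4821 : Q := act 5 n3589
theorem D4821 : act 5 n3589 = n4821 := rfl
theorem F7872 : act 0 n4821 = n3640 := d4_1 D4821 F5929 (iv F5825)
theorem F7873 : act 1 n4821 = n3658 := d8_1 D4821 (iv F7865) F7864
theorem F7874 : act 2 n4821 = n3637 := d11_1 D4821 F5920 (iv F5826)
theorem F7875 : act 3 n4821 = n3591 := d13_1 D4821 (iv D3591) D3589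
def n4822 : Q := act 3 n3590
theorem D4822 : act 3 n3590 = n4822 := rfl
def n4823 : Q := act 5 n3590
theorem D4823 : act 5 n3590 = n4823 := rfl
theorem F7876 : act 2 n4823 = n3592 := d11_1 D4823 (iv D3592) (iv F5827)
def n4824 : Q := act 4 n3591
theorem D4824 : act 4 n3591 = n4824 := rfl
theorem F7877 : act 1 n4824 = n3659 := d7_1 D4824 (iv D3659) (iv F5828)
theorem F7878 : act 2 n4824 = n3593 := d10_1 D4824 (iv D3593) (iv F5829)
def n4825 : Q := act 4 n3592
theorem D4825 : act 4 n3592 = n4825 := rfl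
theorem F7879 : act 1 n4825 = n3598 := d7_1 D4825 (iv D3598) (iv F5830)
theorem F7880 : act 5 n4825 = n3593 := d14_2 D3592 D4825 (iv D3593) (iv D2644) D2643
def n4826 : Q := act 3 n3593
theorem D4826 : act 3 n3593 = n4826 := rfl
theorem F7881 : act 1 n4826 = n3599 := d6_1 D4826 (iv D3599) (iv F5831)
theorem F7882 : act 4 n4826 = n3594 := d12_2 D3593 D4826 (iv D3594) (iv D2645) (iv F4265)
def n4827 : Q := act 2 n3594
theorem D4827 : act 2 n3594 = n4827 := rfl
def n4828 : Q := act 3 n3595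
theorem D4828 : act 3 n3595 = n4828 := rfl
theorem F7883 : act 0 n4828 = n4142 := d2_1 D4828 F6763 (iv F5833)
theorem F7884 : act 1 n4828 = n3596 := d6_1 D4828 (iv D3596) (iv F5834)
theorem F7885 : act 4 n4828 = n3661 := d12_2 D3595 D4828 (iv D3661) (iv D2697) (iv F4269)
def n4829 : Q := act 5 n3595
theorem D4829 : act 5 n3595 = n4829 := rfl
theorem F7886 : act 0 n4829 = n4378 := d4_1 D4829 (iv D4378) (iv F5833)
theorem F7887 : act 1 n4829 = n3597 := d8_1 D4829 (iv D3597) (iv F5834)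
theorem F7888 : act 4 n4829 = n3660 := d14_1 D4829 (iv D3660) (iv D2696) (iv F4270) D3595
def n4830 : Q := act 3 n3598
theorem D4830 : act 3 n3598 = n4830 := rfl
theorem F7889 : act 0 n4830 = n3671 := d2_1 D4830 F5983 (iv F5841)
theorem F7890 : act 2 n4830 = n3913 := d9_1 D4830 (iv D3913) (iv D2889) (iv D2105) F2482 (iv F2331) (iv F3208) D2706 D3670 (iv F6228) F6227 F4563 (iv F3368) (iv F4352) (iv F5842)
theorem F7891 : act 5 n4830 = n3599 := d13_2 (iv F5843) D4830 (iv D3599)
def n4831 : Q := act 2 n3599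
theorem D4831 : act 2 n3599 = n4831 := rfl
theorem F7892 : act 0 n4831 = n3670 := d1_1 D4831 (iv D3670) (iv F5844)
theorem F7893 : act 3 n4831 = n3914 := d9_2 D3599 D4831 F6382 F4666 F3411 (iv F3209) (iv F4368) (iv F5983) (iv F6225) (iv D3815) F4562 F3342 (iv F2459) (iv F3196) (iv F4274)
theorem F7894 : act 4 n4831 = n3600 := d10_2 (iv F5845) D4831 (iv D3600)
theorem F7895 : act 5 n4831 = n3913 := d11_2 F7891 D4831 (iv F7890)
def n4832 : Q := act 1 n3600
theorem D4832 : act 1 n3600 = n4832 := rfl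
def n4833 : Q := act 3 n3600
theorem D4833 : act 3 n3600 = n4833 := rfl
theorem F7896 : act 0 n4833 = n3881 := d2_1 D4833 (iv F7834) F7831
theorem F7897 : act 2 n4833 = n3798 := d9_1 D4833 F6193 F4550 (iv F3379) (iv F4622) D3863 (iv F6339) (iv D3893) (iv D2876) (iv D2096) F2476 (iv F2288) (iv F3136) D2650 D3600
theorem F7898 : act 5 n4833 = n3797 := d13_2 F7848 D4833 (iv F7847)
def n4834 : Q := act 3 n3601
theorem D4834 : act 3 n3601 = n4834 := rfl
theorem F7899 : act 0 n4834 = n3602 := d2_1 D4834 (iv D3602) D3601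
def n4835 : Q := act 5 n3601
theorem D4835 : act 5 n3601 = n4835 := rfl
theorem F7900 : act 0 n4835 = n3603 := d4_1 D4835 (iv D3603) D3601
theorem F7901 : act 2 n4835 = n3608 := d11_1 D4835 (iv D3608) (iv F5846)
def n4836 : Q := act 2 n3602
theorem D4836 : act 2 n3602 = n4836 := rfl
def n4837 : Q := act 4 n3602
theorem D4837 : act 4 n3602 = n4837 := rfl
theorem F7902 : act 1 n4837 = n3605 := d7_1 D4837 (iv D3605) (iv F5848)
theorem F7903 : act 3 n4837 = n4784 := d12_1 D4837 (iv D4784) (iv D3557) (iv F4276) D3602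
def n4838 : Q := act 5 n3602
theorem D4838 : act 5 n3602 = n4838 := rfl
theorem F7904 : act 1 n4838 = n3604 := d8_1 D4838 (iv F5852) (iv F5848)
theorem F7905 : act 3 n4838 = n3603 := d13_1 D4838 (iv D3603) D3602
def n4839 : Q := act 4 n3603
theorem D4839 : act 4 n3603 = n4839 := rfl
theorem F7906 : act 1 n4839 = n3606 := d7_1 D4839 (iv D3606) (iv F5849)
theorem F7907 : act 2 n4839 = n3611 := d10_1 D4839 (iv D3611) (iv F5850)
theorem F7908 : act 5 n4839 = n4779 := d14_2 D3603 D4839 F7780 F5755 (iv F4276)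
def n4840 : Q := act 4 n3604
theorem D4840 : act 4 n3604 = n4840 := rfl
theorem F7909 : act 2 n4840 = n3605 := d10_1 D4840 (iv D3605) D3604
def n4841 : Q := act 5 n3605
theorem D4841 : act 5 n3605 = n4841 := rfl
theorem F7910 : act 3 n4841 = n4785 := d13_1 D4841 (iv D4785) (iv F5853)
def n4842 : Q := act 3 n3606
theorem D4842 : act 3 n3606 = n4842 := rfl
theorem F7911 : act 5 n4842 = n4780 := d13_2 (iv F5855) D4842 (iv D4780)
def n4843 : Q := act 2 n3607
theorem D4843 : act 2 n3607 = n4843 := rfl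
theorem F7912 : act 0 n4843 = n3609 := d1_1 D4843 (iv D3609) (iv F5856)
def n4844 : Q := act 4 n3607
theorem D4844 : act 4 n3607 = n4844 := rfl
theorem F7913 : act 0 n4844 = n3610 := d3_1 D4844 (iv D3610) (iv F5856)
theorem F7914 : act 3 n4844 = n4376 := d12_1 D4844 F7149 F5297 (iv F4281) D3607
def n4845 : Q := act 4 n3608
theorem D4845 : act 4 n3608 = n4845 := rfl
theorem F7915 : act 0 n4845 = n3611 := d3_1 D4845 (iv D3611) (iv F5857)
theorem F7916 : act 5 n4845 = n4793 := d14_2 D3608 D4845 F7807 F5782 (iv F4281)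
def n4846 : Q := act 3 n3609
theorem D4846 : act 3 n3609 = n4846 := rfl
def n4847 : Q := act 4 n3609
theorem D4847 : act 4 n3609 = n4847 := rfl
theorem F7917 : act 2 n4847 = n3610 := d10_1 D4847 (iv D3610) D3609
def n4848 : Q := act 5 n3610
theorem D4848 : act 5 n3610 = n4848 := rfl
theorem F7918 : act 1 n4848 = n3612 := d8_1 D4848 (iv D3612) (iv F5858)
theorem F7919 : act 3 n4848 = n4375 := d13_1 D4848 F7147 (iv F5859)
theorem F7920 : act 4 n4848 = n3710 := d14_1 D4848 F6064 (iv F5770) F5771 D3610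
def n4849 : Q := act 3 n3611
theorem D4849 : act 3 n3611 = n4849 := rfl
theorem F7921 : act 1 n4849 = n3613 := d6_1 D4849 (iv D3613) (iv F5860)
theorem F7922 : act 4 n4849 = n3726 := d12_2 D3611 D4849 (iv D3726) (iv F5770) F5769
theorem F7923 : act 5 n4849 = n4794 := d13_2 (iv F5861) D4849 (iv D4794)
def n4850 : Q := act 1 n3614
theorem D4850 : act 1 n3614 = n4850 := rfl
def n4851 : Q := act 3 n3614
theorem D4851 : act 3 n3614 = n4851 := rfl
theorem F7924 : act 0 n4851 = n3619 := d2_1 D4851 (iv D3619) (iv F5867)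
def n4852 : Q := act 4 n3614
theorem D4852 : act 4 n3614 = n4852 := rfl
theorem F7925 : act 0 n4852 = n3620 := d3_1 D4852 (iv D3620) (iv F5867)
theorem F7926 : act 2 n4852 = n3615 := d10_1 D4852 (iv D3615) D3614
def n4853 : Q := act 5 n3614
theorem D4853 : act 5 n3614 = n4853 := rfl
theorem F7927 : act 0 n4853 = n3621 := d4_1 D4853 (iv D3621) (iv F5867)
theorem F7928 : act 2 n4853 = n3616 := d11_1 D4853 (iv D3616) D3614
def n4854 : Q := act 5 n3615
theorem D4854 : act 5 n3615 = n4854 := rfl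
theorem F7929 : act 0 n4854 = n3622 := d4_1 D4854 (iv D3622) (iv F5868)
theorem F7930 : act 1 n4854 = n3695 := d8_1 D4854 F6038 (iv F5869)
theorem F7931 : act 3 n4854 = n3638 := d13_1 D4854 F5924 (iv F5870)
def n4855 : Q := act 4 n3616
theorem D4855 : act 4 n3616 = n4855 := rfl
theorem F7932 : act 0 n4855 = n3623 := d3_1 D4855 (iv D3623) (iv F5871)
def n4856 : Q := act 3 n3617
theorem D4856 : act 3 n3617 = n4856 := rfl
theorem F7933 : act 0 n4856 = n3624 := d2_1 D4856 (iv D3624) (iv F5873)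
theorem F7934 : act 1 n4856 = n3693 := d6_1 D4856 F6035 (iv F5874)
theorem F7935 : act 5 n4856 = n3639 := d13_2 (iv F5875) D4856 (iv D3639)
def n4857 : Q := act 0 n3618
theorem D4857 : act 0 n3618 = n4857 := rfl
theorem F7936 : act 2 n4857 = n3625 := d1_2 (iv F5876) D4857 (iv D3625)
def n4858 : Q := act 3 n3618
theorem D4858 : act 3 n3618 = n4858 := rfl
theorem F7937 : act 1 n4858 = n3619 := d6_1 D4858 (iv D3619) D3618
def n4859 : Q := act 4 n3618
theorem D4859 : act 4 n3618 = n4859 := rfl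
theorem F7938 : act 1 n4859 = n3620 := d7_1 D4859 (iv D3620) D3618
theorem F7939 : act 2 n4859 = n3626 := d10_1 D4859 (iv D3626) (iv F5876)
def n4860 : Q := act 2 n3619
theorem D4860 : act 2 n3619 = n4860 := rfl
def n4861 : Q := act 4 n3619
theorem D4861 : act 4 n3619 = n4861 := rfl
def n4862 : Q := act 5 n3619
theorem D4862 : act 5 n3619 = n4862 := rfl
theorem F7940 : act 3 n4862 = n3621 := d13_1 D4862 (iv D3621) D3619
def n4863 : Q := act 3 n3620
theorem D4863 : act 3 n3620 = n4863 := rfl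
def n4864 : Q := act 5 n3620
theorem D4864 : act 5 n3620 = n4864 := rfl
theorem F7941 : act 2 n4864 = n3622 := d11_1 D4864 (iv D3622) (iv F5877)
def n4865 : Q := act 4 n3621
theorem D4865 : act 4 n3621 = n4865 := rfl
theorem F7942 : act 2 n4865 = n3623 := d10_1 D4865 (iv D3623) (iv F5878)
def n4866 : Q := act 4 n3622
theorem D4866 : act 4 n3622 = n4866 := rfl
theorem F7943 : act 1 n4866 = n3627 := d7_1 D4866 (iv D3627) (iv F5879)
theorem F7944 : act 3 n4866 = n3641 := d12_1 D4866 (iv D3641) (iv D2679) D2680 (iv F5880)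
theorem F7945 : act 5 n4866 = n3623 := d14_2 D3622 D4866 (iv D3623) (iv D2664) D2663
def n4867 : Q := act 3 n3623
theorem D4867 : act 3 n3623 = n4867 := rfl
theorem F7946 : act 1 n4867 = n3628 := d6_1 D4867 (iv D3628) (iv F5881)
theorem F7947 : act 4 n4867 = n3624 := d12_2 D3623 D4867 (iv D3624) (iv D2665) (iv F4292)
theorem F7948 : act 5 n4867 = n3641 := d13_2 F7945 D4867 (iv F7944)
def n4868 : Q := act 2 n3624
theorem D4868 : act 2 n3624 = n4868 := rfl
theorem F7949 : act 5 n4868 = n3642 := d11_2 (iv F5883) D4868 (iv D3642)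
def n4869 : Q := act 4 n3625
theorem D4869 : act 4 n3625 = n4869 := rfl
theorem F7950 : act 0 n4869 = n3626 := d3_1 D4869 (iv D3626) D3625
theorem F7951 : act 1 n4869 = n3725 := d7_1 D4869 (iv F7804) F7802
def n4870 : Q := act 1 n3629
theorem D4870 : act 1 n3629 = n4870 := rfl
theorem F7952 : act 3 n4870 = n4373 := d6_2 (iv F5895) D4870 F7145
theorem F7953 : act 4 n4870 = n3688 := d7_2 (iv F5893) D4870 F6024
theorem F7954 : act 5 n4870 = n3643 := d8_2 (iv F5894) D4870 (iv D3643)
def n4871 : Q := act 0 n3630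
theorem D4871 : act 0 n3630 = n4871 := rfl
theorem F7955 : act 1 n4871 = n4845 := d0_2 D3630 D4871 F7915 F5860 (iv F4301)
theorem F7956 : act 2 n4871 = n3867 := d1_2 (iv F5896) D4871 F6311
theorem F7957 : act 4 n4871 = n3632 := d3_2 (iv F5897) D4871 (iv D3632)
theorem F7958 : act 5 n4871 = n3645 := d4_2 (iv F5898) D4871 (iv D3645)
def n4872 : Q := act 3 n3630
theorem D4872 : act 3 n3630 = n4872 := rfl
theorem F7959 : act 1 n4872 = n3631 := d6_1 D4872 (iv D3631) D3630
theorem F7960 : act 4 n4872 = n4151 := d12_2 (iv F5897) D4872 F6771 (iv D3626) (iv F4305)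
theorem F7961 : act 5 n4872 = n3646 := d13_2 (iv F5898) D4872 (iv D3646)
def n4873 : Q := act 2 n3633
theorem D4873 : act 2 n3633 = n4873 := rfl
theorem F7962 : act 0 n4873 = n3634 := d1_1 D4873 (iv D3634) (iv F5907)
theorem F7963 : act 5 n4873 = n4857 := d11_2 (iv F5909) D4873 F7936
def n4874 : Q := act 4 n3633
theorem D4874 : act 4 n3633 = n4874 := rfl
theorem F7964 : act 0 n4874 = n3635 := d3_1 D4874 (iv D3635) (iv F5907)
theorem F7965 : act 1 n4874 = n4844 := d7_1 D4874 (iv D4844) (iv F5908)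
theorem F7966 : act 3 n4874 = n3649 := d12_1 D4874 (iv D3649) (iv D2686) (iv F4309) D3633
def n4875 : Q := act 3 n3634
theorem D4875 : act 3 n3634 = n4875 := rfl
theorem F7967 : act 1 n4875 = n4862 := d6_1 D4875 F7940 (iv F5910)
theorem F7968 : act 5 n4875 = n4858 := d13_2 (iv F5911) D4875 (iv D4858)
def n4876 : Q := act 4 n3634
theorem D4876 : act 4 n3634 = n4876 := rfl
theorem F7969 : act 1 n4876 = n4865 := d7_1 D4876 (iv D4865) (iv F5910)
theorem F7970 : act 2 n4876 = n3635 := d10_1 D4876 (iv D3635) D3634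
def n4877 : Q := act 5 n3635
theorem D4877 : act 5 n3635 = n4877 := rfl
theorem F7971 : act 1 n4877 = n3636 := d8_1 D4877 (iv D3636) (iv F5912)
theorem F7972 : act 3 n4877 = n3652 := d13_1 D4877 (iv D3652) (iv F5913)
theorem F7973 : act 4 n4877 = n4236 := d14_1 D4877 F6948 (iv D3626) (iv F4311) D3635
def n4878 : Q := act 4 n3637
theorem D4878 : act 4 n3637 = n4878 := rfl
theorem F7974 : act 0 n4878 = n3641 := d3_1 D4878 (iv D3641) (iv F5918)
theorem F7975 : act 1 n4878 = n3694 := d7_1 D4878 (iv D3694) (iv F5919)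
def n4879 : Q := act 4 n3640
theorem D4879 : act 4 n3640 = n4879 := rfl
theorem F7976 : act 1 n4879 = n3687 := d7_1 D4879 (iv D3687) (iv F5928)
theorem F7977 : act 2 n4879 = n3641 := d10_1 D4879 (iv D3641) D3640
def n4880 : Q := act 1 n3642
theorem D4880 : act 1 n3642 = n4880 := rfl
theorem F7978 : act 2 n4880 = n3643 := d5_2 D3642 D4880 (iv D3643) (iv D2682) (iv F4327)
theorem F7979 : act 4 n4880 = n3675 := d7_2 (iv F5931) D4880 (iv D3675)
def n4881 : Q := act 3 n3642
theorem D4881 : act 3 n3642 = n4881 := rfl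
def n4882 : Q := act 0 n3643
theorem D4882 : act 0 n3643 = n4882 := rfl
theorem F7980 : act 1 n4882 = n3707 := d0_2 D3643 D4882 F6059 F4426 (iv F4329)
theorem F7981 : act 4 n4882 = n3676 := d3_2 (iv F5932) D4882 (iv D3676)
def n4883 : Q := act 3 n3643
theorem D4883 : act 3 n3643 = n4883 := rfl
theorem F7982 : act 1 n4883 = n3644 := d6_1 D4883 (iv D3644) D3643
theorem F7983 : act 4 n4883 = n3689 := d12_2 (iv F5932) D4883 (iv D3689) (iv D2724) (iv F4378)
theorem F7984 : act 5 n4883 = n4373 := d13_2 F7954 D4883 (iv F7952)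
def n4884 : Q := act 3 n3645
theorem D4884 : act 3 n3645 = n4884 := rfl
theorem F7985 : act 0 n4884 = n3646 := d2_1 D4884 (iv D3646) D3645
def n4885 : Q := act 2 n3646
theorem D4885 : act 2 n3646 = n4885 := rfl
def n4886 : Q := act 1 n3647
theorem D4886 : act 1 n3647 = n4886 := rfl
theorem F7986 : act 3 n4886 = n3709 := d6_2 (iv F5941) D4886 F6062
theorem F7987 : act 4 n4886 = n4227 := d7_2 (iv F5942) D4886 F6932
theorem F7988 : act 5 n4886 = n3708 := d8_2 (iv F5943) D4886 F6060
def n4887 : Q := act 1 n3648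
theorem D4887 : act 1 n3648 = n4887 := rfl
def n4888 : Q := act 3 n3648
theorem D4888 : act 3 n3648 = n4888 := rfl
theorem F7989 : act 0 n4888 = n3650 := d2_1 D4888 (iv D3650) (iv F5944)
theorem F7990 : act 2 n4888 = n3753 := d9_1 D4888 (iv D3753) F4475 F3297 (iv F3181) (iv F4240) (iv F5783) D4796 F7816 (iv D3883) (iv D2869) (iv D2090) (iv F3183) D2686 D3648
theorem F7991 : act 5 n4888 = n3887 := d13_2 F7811 D4888 F7812
def n4889 : Q := act 4 n3648
theorem D4889 : act 4 n3648 = n4889 := rfl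
theorem F7992 : act 0 n4889 = n3651 := d3_1 D4889 (iv D3651) (iv F5944)
theorem F7993 : act 2 n4889 = n3649 := d10_1 D4889 (iv D3649) D3648
def n4890 : Q := act 5 n3649
theorem D4890 : act 5 n3649 = n4890 := rfl
theorem F7994 : act 0 n4890 = n3652 := d4_1 D4890 (iv D3652) (iv F5945)
def n4891 : Q := act 2 n3650
theorem D4891 : act 2 n3650 = n4891 := rfl
theorem F7995 : act 0 n4891 = n3753 := d1_1 D4891 (iv F7990) F7989
theorem F7996 : act 3 n4891 = n3752 := d9_2 D3650 D4891 F6117 F4490 (iv F4333) (iv F5786) (iv F7810) (iv F7812) (iv D3887) (iv D2872) (iv D2092) (iv D1517) (iv F2314) D1959 D2687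
theorem F7997 : act 5 n4891 = n3883 := d11_2 F7815 D4891 (iv F7816)
def n4892 : Q := act 4 n3650
theorem D4892 : act 4 n3650 = n4892 := rfl
def n4893 : Q := act 3 n3651
theorem D4893 : act 3 n3651 = n4893 := rfl
def n4894 : Q := act 5 n3651
theorem D4894 : act 5 n3651 = n4894 := rfl
theorem F7998 : act 2 n4894 = n3652 := d11_1 D4894 (iv D3652) (iv F5946)
def n4895 : Q := act 3 n3653
theorem D4895 : act 3 n3653 = n4895 := rfl
theorem F7999 : act 0 n4895 = n3654 := d2_1 D4895 (iv D3654) (iv F5948)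
theorem F8000 : act 5 n4374 = n4895 := d4_0 F7999 (iv F5950) D4374
def n4896 : Q := act 5 n3653
theorem D4896 : act 5 n3653 = n4896 := rfl
theorem F8001 : act 0 n4896 = n3655 := d4_1 D4896 (iv D3655) (iv F5948)
theorem F8002 : act 3 n4896 = n4374 := d13_1 D4896 F8000 (iv D4895)
def n4897 : Q := act 2 n3654
theorem D4897 : act 2 n3654 = n4897 := rfl
theorem F8003 : act 1 n4897 = n4372 := d5_1 D4897 F7144 F5290 (iv F4338) (iv F5949)
theorem F8004 : act 5 n4897 = n4370 := d11_2 F5950 D4897 F7143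
def n4898 : Q := act 3 n3656
theorem D4898 : act 3 n3656 = n4898 := rfl
theorem F8005 : act 0 n4898 = n3658 := d2_1 D4898 (iv D3658) (iv F5953)
theorem F8006 : act 1 n4898 = n3683 := d6_1 D4898 F6013 (iv F5954)
theorem F8007 : act 2 n4898 = n4036 := d9_1 D4898 (iv D4036) F4851 F3537 (iv F3194) (iv F4269) (iv F5822) D4818 F7866 F6028 (iv D3051) (iv D2229) (iv F3188) D2694 D3656
theorem F8008 : act 5 n4898 = n4119 := d13_2 (iv F5955) D4898 F6747
def n4899 : Q := act 4 n3656
theorem D4899 : act 4 n3656 = n4899 := rfl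
theorem F8009 : act 0 n4899 = n3659 := d3_1 D4899 (iv D3659) (iv F5953)
theorem F8010 : act 1 n4899 = n4349 := d7_1 D4899 (iv D4349) (iv F5954)
theorem F8011 : act 2 n4899 = n3657 := d10_1 D4899 (iv D3657) D3656
def n4900 : Q := act 5 n3657
theorem D4900 : act 5 n3657 = n4900 := rfl
theorem F8012 : act 0 n4900 = n3660 := d4_1 D4900 (iv D3660) (iv F5956)
theorem F8013 : act 1 n4900 = n3662 := d8_1 D4900 (iv D3662) (iv F5957)
theorem F8014 : act 3 n4900 = n3846 := d13_1 D4900 (iv D3846) (iv F5958)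
theorem F8015 : act 4 n4900 = n4378 := d14_1 D4900 (iv D4378) (iv D3256) (iv F4344) D3657
def n4901 : Q := act 4 n3658
theorem D4901 : act 4 n3658 = n4901 := rfl
def n4902 : Q := act 3 n3659
theorem D4902 : act 3 n3659 = n4902 := rfl
def n4903 : Q := act 5 n3659
theorem D4903 : act 5 n3659 = n4903 := rfl
theorem F8016 : act 2 n4903 = n3660 := d11_1 D4903 (iv D3660) (iv F5959)
def n4904 : Q := act 2 n3661
theorem D4904 : act 2 n3661 = n4904 := rfl
theorem F8017 : act 0 n4904 = n4141 := d1_1 D4904 (iv D4141) (iv F5962)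
theorem F8018 : act 1 n4904 = n3776 := d5_1 D4904 (iv D3776) F4511 (iv F4355) (iv F5963)
theorem F8019 : act 5 n4904 = n3767 := d11_2 (iv F5964) D4904 (iv D3767)
def n4905 : Q := act 4 n3663
theorem D4905 : act 4 n3663 = n4905 := rfl
theorem F8020 : act 0 n4905 = n3664 := d3_1 D4905 (iv D3664) D3663
theorem F8021 : act 1 n4905 = n4346 := d7_1 D4905 (iv D4346) (iv F5969)
theorem F8022 : act 2 n4905 = n3667 := d10_1 D4905 (iv D3667) (iv F5970)
def n4906 : Q := act 3 n3664
theorem D4906 : act 3 n3664 = n4906 := rfl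
theorem F8023 : act 1 n4906 = n3665 := d6_1 D4906 (iv D3665) (iv F5973)
theorem F8024 : act 4 n4906 = n4336 := d12_2 D3664 D4906 (iv D4336) (iv D3221) (iv F4360)
def n4907 : Q := act 5 n3664
theorem D4907 : act 5 n3664 = n4907 := rfl
theorem F8025 : act 1 n4907 = n3666 := d8_1 D4907 (iv D3666) (iv F5973)
theorem F8026 : act 2 n4907 = n3669 := d11_1 D4907 (iv D3669) (iv F5974)
theorem F8027 : act 4 n4907 = n4381 := d14_1 D4907 (iv D4381) (iv D3259) (iv F4361) D3664
def n4908 : Q := act 2 n3665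
theorem D4908 : act 2 n3665 = n4908 := rfl
theorem F8028 : act 0 n4908 = n4354 := d1_1 D4908 (iv D4354) (iv F5975)
theorem F8029 : act 4 n4908 = n4339 := d10_2 (iv F5976) D4908 (iv D4339)
def n4909 : Q := act 5 n3665
theorem D4909 : act 5 n3665 = n4909 := rfl
theorem F8030 : act 0 n4909 = n4355 := d4_1 D4909 (iv D4355) (iv F5975)
theorem F8031 : act 3 n4909 = n3666 := d13_1 D4909 (iv D3666) D3665
def n4910 : Q := act 3 n3667
theorem D4910 : act 3 n3667 = n4910 := rfl
theorem F8032 : act 0 n4910 = n3668 := d2_1 D4910 (iv D3668) (iv F5980)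
def n4911 : Q := act 5 n3667
theorem D4911 : act 5 n3667 = n4911 := rfl
theorem F8033 : act 0 n4911 = n3669 := d4_1 D4911 (iv D3669) (iv F5980)
def n4912 : Q := act 2 n3668
theorem D4912 : act 2 n3668 = n4912 := rfl
def n4913 : Q := act 5 n3668
theorem D4913 : act 5 n3668 = n4913 := rfl
theorem F8034 : act 1 n4913 = n3671 := d8_1 D4913 (iv D3671) (iv F5981)
theorem F8035 : act 3 n4913 = n3669 := d13_1 D4913 (iv D3669) D3668
def n4914 : Q := act 1 n3670
theorem D4914 : act 1 n3670 = n4914 := rfl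
def n4915 : Q := act 4 n3671
theorem D4915 : act 4 n3671 = n4915 := rfl
def n4916 : Q := act 2 n3672
theorem D4916 : act 2 n3672 = n4916 := rfl
theorem F8036 : act 0 n4916 = n3779 := d1_1 D4916 (iv F6385) F6384
theorem F8037 : act 4 n4916 = n3816 := d10_2 (iv F5985) D4916 F6227
theorem F8038 : act 5 n4916 = n3673 := d11_2 (iv F5986) D4916 (iv D3673)
def n4917 : Q := act 1 n3673
theorem D4917 : act 1 n3673 = n4917 := rfl
theorem F8039 : act 2 n4917 = n4145 := d5_2 D3673 D4917 F6766 F5008 (iv F4371)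
theorem F8040 : act 4 n4917 = n3674 := d7_2 (iv F5988) D4917 (iv D3674)
def n4918 : Q := act 0 n3674
theorem D4918 : act 0 n3674 = n4918 := rfl
theorem F8041 : act 1 n4918 = n3774 := d0_2 D3674 D4918 F6156 F4511 (iv F4373)
theorem F8042 : act 2 n4918 = n4144 := d1_2 (iv F5989) D4918 (iv D4144)
theorem F8043 : act 3 n4918 = n3765 := d2_2 (iv F5990) D4918 (iv D3765)
theorem F8044 : act 5 n4918 = n3813 := d4_2 (iv F5991) D4918 (iv D3813)
def n4919 : Q := act 0 n3675
theorem D4919 : act 0 n3675 = n4919 := rfl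
theorem F8045 : act 1 n4919 = n4119 := d0_2 D3675 D4919 (iv F7863) F7864 F5825
theorem F8046 : act 2 n4919 = n3676 := d1_2 (iv F5992) D4919 (iv D3676)
theorem F8047 : act 3 n4919 = n4201 := d2_2 F7851 D4919 (iv F7849)
theorem F8048 : act 5 n4919 = n3683 := d4_2 (iv F5993) D4919 F6012
def n4920 : Q := act 2 n3677
theorem D4920 : act 2 n3677 = n4920 := rfl
theorem F8049 : act 0 n4920 = n3681 := d1_1 D4920 (iv D3681) (iv F5997)
theorem F8050 : act 4 n4920 = n4052 := d10_2 (iv F5999) D4920 (iv D4052)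
def n4921 : Q := act 5 n3677
theorem D4921 : act 5 n3677 = n4921 := rfl
theorem F8051 : act 0 n4921 = n3682 := d4_1 D4921 (iv D3682) (iv F5997)
theorem F8052 : act 1 n4921 = n4057 := d8_1 D4921 (iv D4057) (iv F5998)
theorem F8053 : act 3 n4921 = n3678 := d13_1 D4921 (iv D3678) D3677
def n4922 : Q := act 2 n3679
theorem D4922 : act 2 n3679 = n4922 := rfl
theorem F8054 : act 0 n4922 = n4052 := d1_1 D4922 (iv D4052) (iv F6003)
theorem F8055 : act 4 n4922 = n3681 := d10_2 (iv F6005) D4922 (iv D3681)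
def n4923 : Q := act 5 n3679
theorem D4923 : act 5 n3679 = n4923 := rfl
theorem F8056 : act 0 n4923 = n4053 := d4_1 D4923 (iv D4053) (iv F6003)
theorem F8057 : act 1 n4923 = n4110 := d8_1 D4923 (iv D4110) (iv F6004)
theorem F8058 : act 3 n4923 = n3680 := d13_1 D4923 (iv D3680) D3679
def n4924 : Q := act 1 n3681
theorem D4924 : act 1 n3681 = n4924 := rfl
theorem F8059 : act 2 n4924 = n4405 := d5_2 D3681 D4924 (iv D4405) (iv D3278) (iv F4390)
def n4925 : Q := act 3 n3681
theorem D4925 : act 3 n3681 = n4925 := rfl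
def n4926 : Q := act 5 n3681
theorem D4926 : act 5 n3681 = n4926 := rfl
theorem F8060 : act 2 n4926 = n3682 := d11_1 D4926 (iv D3682) D3681
def n4927 : Q := act 4 n3682
theorem D4927 : act 4 n3682 = n4927 := rfl
theorem F8061 : act 1 n4927 = n4408 := d7_1 D4927 (iv D4408) (iv F6010)
def n4928 : Q := act 4 n3683
theorem D4928 : act 4 n3683 = n4928 := rfl
theorem F8062 : act 0 n4928 = n3687 := d3_1 D4928 (iv D3687) (iv F6012)
theorem F8063 : act 2 n4928 = n3684 := d10_1 D4928 (iv D3684) D3683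
def n4929 : Q := act 5 n3684
theorem D4929 : act 5 n3684 = n4929 := rfl
theorem F8064 : act 0 n4929 = n3688 := d4_1 D4929 (iv D3688) (iv F6014)
theorem F8065 : act 1 n4929 = n4148 := d8_1 D4929 (iv D4148) (iv F6015)
theorem F8066 : act 3 n4929 = n4199 := d13_1 D4929 (iv D4199) (iv F6016)
def n4930 : Q := act 3 n3685
theorem D4930 : act 3 n3685 = n4930 := rfl
theorem F8067 : act 0 n4930 = n3689 := d2_1 D4930 (iv D3689) (iv F6017)
theorem F8068 : act 1 n4930 = n4082 := d6_1 D4930 (iv D4082) (iv F6018)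
theorem F8069 : act 5 n4930 = n4200 := d13_2 (iv F6020) D4930 (iv D4200)
def n4931 : Q := act 4 n3686
theorem D4931 : act 4 n3686 = n4931 := rfl
theorem F8070 : act 0 n4931 = n4349 := d3_1 D4931 (iv D4349) (iv F6021)
theorem F8071 : act 2 n4931 = n4346 := d10_1 D4931 (iv D4346) (iv F6022)
def n4932 : Q := act 3 n3687
theorem D4932 : act 3 n3687 = n4932 := rfl
def n4933 : Q := act 5 n3687
theorem D4933 : act 5 n3687 = n4933 := rfl
theorem F8072 : act 2 n4933 = n3688 := d11_1 D4933 (iv D3688) (iv F6023)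
def n4934 : Q := act 2 n3689
theorem D4934 : act 2 n3689 = n4934 := rfl
theorem F8073 : act 5 n4934 = n4205 := d11_2 (iv F6027) D4934 (iv D4205)
def n4935 : Q := act 4 n3690
theorem D4935 : act 4 n3690 = n4935 := rfl
theorem F8074 : act 0 n4935 = n4120 := d3_1 D4935 (iv D4120) F6029
theorem F8075 : act 1 n4935 = n3691 := d7_1 D4935 (iv D3691) D3690
def n4936 : Q := act 3 n3691
theorem D4936 : act 3 n3691 = n4936 := rfl
theorem F8076 : act 0 n4936 = n3701 := d2_1 D4936 (iv D3701) (iv F6030)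
def n4937 : Q := act 5 n3691
theorem D4937 : act 5 n3691 = n4937 := rfl
theorem F8077 : act 0 n4937 = n3702 := d4_1 D4937 (iv D3702) (iv F6030)
theorem F8078 : act 2 n4937 = n3693 := d11_1 D4937 (iv D3693) (iv F6031)
def n4938 : Q := act 4 n3692
theorem D4938 : act 4 n3692 = n4938 := rfl
theorem F8079 : act 0 n4938 = n3703 := d3_1 D4938 (iv D3703) (iv F6032)
theorem F8080 : act 2 n4938 = n3694 := d10_1 D4938 (iv D3694) (iv F6033)
def n4939 : Q := act 4 n3693
theorem D4939 : act 4 n3693 = n4939 := rfl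
theorem F8081 : act 0 n4939 = n3704 := d3_1 D4939 (iv D3704) (iv F6034)
theorem F8082 : act 5 n4939 = n3694 := d14_2 D3693 D4939 (iv D3694) (iv D2729) D2728
def n4940 : Q := act 3 n3694
theorem D4940 : act 3 n3694 = n4940 := rfl
theorem F8083 : act 0 n4940 = n3705 := d2_1 D4940 (iv D3705) (iv F6036)
theorem F8084 : act 4 n4940 = n3695 := d12_2 D3694 D4940 (iv D3695) (iv D2730) (iv F4411)
def n4941 : Q := act 2 n3695
theorem D4941 : act 2 n3695 = n4941 := rfl
theorem F8085 : act 0 n4941 = n3706 := d1_1 D4941 (iv D3706) (iv F6037)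
theorem F8086 : act 5 n4941 = n3716 := d11_2 (iv F6038) D4941 (iv D3716)
def n4942 : Q := act 4 n3696
theorem D4942 : act 4 n3696 = n4942 := rfl
theorem F8087 : act 0 n4942 = n3698 := d3_1 D4942 (iv D3698) D3696
theorem F8088 : act 1 n4942 = n4120 := d7_1 D4942 (iv D4120) (iv F6039)
theorem F8089 : act 2 n4942 = n3707 := d10_1 D4942 (iv D3707) (iv F6040)
def n4943 : Q := act 4 n3697
theorem D4943 : act 4 n3697 = n4943 := rfl
theorem F8090 : act 0 n4943 = n4041 := d3_1 D4943 (iv D4041) (iv F6043)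
theorem F8091 : act 1 n4943 = n3699 := d7_1 D4943 (iv D3699) (iv F6044)
theorem F8092 : act 2 n4943 = n4034 := d10_1 D4943 (iv D4034) (iv F6045)
def n4944 : Q := act 3 n3698
theorem D4944 : act 3 n3698 = n4944 := rfl
theorem F8093 : act 1 n4944 = n3701 := d6_1 D4944 (iv D3701) (iv F6047)
def n4945 : Q := act 5 n3698
theorem D4945 : act 5 n3698 = n4945 := rfl
theorem F8094 : act 1 n4945 = n3702 := d8_1 D4945 (iv D3702) (iv F6047)
theorem F8095 : act 2 n4945 = n3709 := d11_1 D4945 (iv D3709) (iv F6048)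
theorem F8096 : act 4 n4945 = n4150 := d14_1 D4945 (iv D4150) (iv D3076) F4415 D3698
def n4946 : Q := act 3 n3699
theorem D4946 : act 3 n3699 = n4946 := rfl
theorem F8097 : act 4 n4946 = n3701 := d12_2 D3699 D4946 (iv D3701) (iv D2733) D2732
def n4947 : Q := act 5 n3699
theorem D4947 : act 5 n3699 = n4947 := rfl
def n4948 : Q := act 4 n3700
theorem D4948 : act 4 n3700 = n4948 := rfl
theorem F8098 : act 1 n4948 = n4032 := d7_1 D4948 (iv D4032) (iv F6049)
def n4949 : Q := act 2 n3701
theorem D4949 : act 2 n3701 = n4949 := rfl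
def n4950 : Q := act 5 n3701
theorem D4950 : act 5 n3701 = n4950 := rfl
theorem F8099 : act 3 n4950 = n3702 := d13_1 D4950 (iv D3702) D3701
def n4951 : Q := act 4 n3702
theorem D4951 : act 4 n3702 = n4951 := rfl
theorem F8100 : act 1 n4951 = n4150 := d7_1 D4951 (iv F8096) F8094
theorem F8101 : act 2 n4951 = n3704 := d10_1 D4951 (iv D3704) (iv F6051)
theorem F8102 : act 5 n4951 = n3703 := d14_2 D3702 D4951 (iv D3703) (iv D2734) D2733
def n4952 : Q := act 3 n3703
theorem D4952 : act 3 n3703 = n4952 := rfl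
theorem F8103 : act 1 n4952 = n4149 := d6_1 D4952 (iv D4149) (iv F6052)
def n4953 : Q := act 2 n3705
theorem D4953 : act 2 n3705 = n4953 := rfl
theorem F8104 : act 4 n4953 = n3706 := d10_2 (iv F6057) D4953 (iv D3706)
def n4954 : Q := act 1 n3706
theorem D4954 : act 1 n3706 = n4954 := rfl
theorem F8105 : act 2 n4954 = n3710 := d5_2 D3706 D4954 (iv D3710) (iv D2744) (iv F4422)
theorem F8106 : act 5 n4954 = n3723 := d8_2 (iv F6058) D4954 (iv D3723)
def n4955 : Q := act 3 n3706
theorem D4955 : act 3 n3706 = n4955 := rfl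
theorem F8107 : act 5 n4955 = n3724 := d13_2 (iv F6058) D4955 (iv D3724)
def n4956 : Q := act 3 n3707
theorem D4956 : act 3 n3707 = n4956 := rfl
theorem F8108 : act 0 n4956 = n3708 := d2_1 D4956 (iv D3708) (iv F6059)
theorem F8109 : act 4 n4956 = n4082 := d12_2 D3707 D4956 (iv D4082) (iv D3023) (iv F4424)
def n4957 : Q := act 5 n3707
theorem D4957 : act 5 n3707 = n4957 := rfl
theorem F8110 : act 0 n4957 = n3709 := d4_1 D4957 (iv D3709) (iv F6059)
theorem F8111 : act 4 n4957 = n4148 := d14_1 D4957 (iv D4148) (iv D3075) (iv F4425) D3707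
def n4958 : Q := act 2 n3708
theorem D4958 : act 2 n3708 = n4958 := rfl
theorem F8112 : act 4 n4958 = n4083 := d10_2 (iv F6061) D4958 (iv D4083)
def n4959 : Q := act 0 n3710
theorem D4959 : act 0 n3710 = n4959 := rfl
theorem F8113 : act 5 n4959 = n3725 := d4_2 (iv F6064) D4959 (iv D3725)
def n4960 : Q := act 4 n3711
theorem D4960 : act 4 n3711 = n4960 := rfl
theorem F8114 : act 0 n4960 = n3952 := d3_1 D4960 (iv D3952) (iv F6065)
theorem F8115 : act 1 n4960 = n3713 := d7_1 D4960 (iv D3713) (iv F6066)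
def n4961 : Q := act 3 n3712
theorem D4961 : act 3 n3712 = n4961 := rfl
theorem F8116 : act 1 n4961 = n3714 := d6_1 D4961 (iv D3714) (iv F6067)
def n4962 : Q := act 5 n3712
theorem D4962 : act 5 n3712 = n4962 := rfl
theorem F8117 : act 1 n4962 = n3715 := d8_1 D4962 (iv D3715) (iv F6067)
def n4963 : Q := act 3 n3713
theorem D4963 : act 3 n3713 = n4963 := rfl
theorem F8118 : act 0 n4963 = n3719 := d2_1 D4963 (iv D3719) (iv F6068)
theorem F8119 : act 4 n4963 = n3714 := d12_2 D3713 D4963 (iv D3714) (iv D2747) D2746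
def n4964 : Q := act 5 n3713
theorem D4964 : act 5 n3713 = n4964 := rfl
theorem F8120 : act 0 n4964 = n3720 := d4_1 D4964 (iv D3720) (iv F6068)
def n4965 : Q := act 2 n3714
theorem D4965 : act 2 n3714 = n4965 := rfl
theorem F8121 : act 0 n4965 = n3721 := d1_1 D4965 (iv D3721) (iv F6069)
def n4966 : Q := act 5 n3714
theorem D4966 : act 5 n3714 = n4966 := rfl
theorem F8122 : act 0 n4966 = n3722 := d4_1 D4966 (iv D3722) (iv F6069)
theorem F8123 : act 3 n4966 = n3715 := d13_1 D4966 (iv D3715) D3714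
def n4967 : Q := act 1 n3716
theorem D4967 : act 1 n3716 = n4967 := rfl
def n4968 : Q := act 3 n3716
theorem D4968 : act 3 n3716 = n4968 := rfl
theorem F8124 : act 0 n4968 = n3724 := d2_1 D4968 (iv D3724) (iv F6072)
def n4969 : Q := act 4 n3717
theorem D4969 : act 4 n3717 = n4969 := rfl
theorem F8125 : act 1 n4969 = n3718 := d7_1 D4969 (iv D3718) D3717
theorem F8126 : act 2 n4969 = n3934 := d10_1 D4969 (iv D3934) (iv F6073)
def n4970 : Q := act 3 n3718
theorem D4970 : act 3 n3718 = n4970 := rfl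
def n4971 : Q := act 5 n3718
theorem D4971 : act 5 n3718 = n4971 := rfl
theorem F8127 : act 2 n4971 = n3720 := d11_1 D4971 (iv D3720) (iv F6074)
def n4972 : Q := act 2 n3719
theorem D4972 : act 2 n3719 = n4972 := rfl
theorem F8128 : act 4 n4972 = n3721 := d10_2 (iv F6075) D4972 (iv D3721)
def n4973 : Q := act 5 n3719
theorem D4973 : act 5 n3719 = n4973 := rfl
theorem F8129 : act 3 n4973 = n3720 := d13_1 D4973 (iv D3720) D3719
def n4974 : Q := act 1 n3721
theorem D4974 : act 1 n3721 = n4974 := rfl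
def n4975 : Q := act 3 n3721
theorem D4975 : act 3 n3721 = n4975 := rfl
def n4976 : Q := act 5 n3721
theorem D4976 : act 5 n3721 = n4976 := rfl
theorem F8130 : act 2 n4976 = n3722 := d11_1 D4976 (iv D3722) D3721
def n4977 : Q := act 4 n3722
theorem D4977 : act 4 n3722 = n4977 := rfl
def n4978 : Q := act 0 n3723
theorem D4978 : act 0 n3723 = n4978 := rfl
theorem F8131 : act 2 n4978 = n3725 := d1_2 (iv F6077) D4978 (iv D3725)
def n4979 : Q := act 3 n3723
theorem D4979 : act 3 n3723 = n4979 := rfl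
theorem F8132 : act 1 n4979 = n3724 := d6_1 D4979 (iv D3724) D3723
def n4980 : Q := act 2 n3724
theorem D4980 : act 2 n3724 = n4980 := rfl
def n4981 : Q := act 4 n3724
theorem D4981 : act 4 n3724 = n4981 := rfl
def n4982 : Q := act 3 n3725
theorem D4982 : act 3 n3725 = n4982 := rfl
theorem F8133 : act 0 n4982 = n3726 := d2_1 D4982 (iv D3726) D3725
def n4983 : Q := act 2 n3726
theorem D4983 : act 2 n3726 = n4983 := rfl
theorem F8134 : act 1 n4983 = n4934 := d5_1 D4983 (iv D4934) F6026 (iv F4440) (iv F6078)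
def n4984 : Q := act 2 n3727
theorem D4984 : act 2 n3727 = n4984 := rfl
theorem F8135 : act 0 n4984 = n3729 := d1_1 D4984 (iv D3729) (iv F6079)
def n4985 : Q := act 5 n3727
theorem D4985 : act 5 n3727 = n4985 := rfl
theorem F8136 : act 0 n4985 = n3730 := d4_1 D4985 (iv D3730) (iv F6079)
theorem F8137 : act 1 n4985 = n4439 := d8_1 D4985 (iv D4439) (iv F6080)
theorem F8138 : act 3 n4985 = n3728 := d13_1 D4985 (iv D3728) D3727
def n4986 : Q := act 1 n3729
theorem D4986 : act 1 n3729 = n4986 := rfl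
theorem F8139 : act 2 n4986 = n3731 := d5_2 D3729 D4986 (iv D3731) (iv D2760) (iv F4444)
def n4987 : Q := act 3 n3729
theorem D4987 : act 3 n3729 = n4987 := rfl
def n4988 : Q := act 5 n3729
theorem D4988 : act 5 n3729 = n4988 := rfl
theorem F8140 : act 2 n4988 = n3730 := d11_1 D4988 (iv D3730) D3729
def n4989 : Q := act 4 n3730
theorem D4989 : act 4 n3730 = n4989 := rfl
theorem F8141 : act 1 n4989 = n3734 := d7_1 D4989 (iv D3734) (iv F6085)
theorem F8142 : act 3 n4989 = n4927 := d12_1 D4989 (iv D4927) F6011 (iv F4447) (iv F6086)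
def n4990 : Q := act 0 n3731
theorem D4990 : act 0 n3731 = n4990 := rfl
def n4991 : Q := act 3 n3731
theorem D4991 : act 3 n3731 = n4991 := rfl
theorem F8143 : act 1 n4991 = n3732 := d6_1 D4991 (iv D3732) D3731
def n4992 : Q := act 5 n3731
theorem D4992 : act 5 n3731 = n4992 := rfl
theorem F8144 : act 1 n4992 = n3733 := d8_1 D4992 (iv D3733) D3731
def n4993 : Q := act 4 n3732
theorem D4993 : act 4 n3732 = n4993 := rfl
def n4994 : Q := act 4 n3733
theorem D4994 : act 4 n3733 = n4994 := rfl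
theorem F8145 : act 2 n4994 = n3734 := d10_1 D4994 (iv D3734) (iv F6087)
def n4995 : Q := act 1 n3735
theorem D4995 : act 1 n3735 = n4995 := rfl
theorem F8146 : act 2 n4995 = n4401 := d5_2 D3735 D4995 (iv D4401) (iv D3275) (iv F4450)
theorem F8147 : act 4 n4995 = n4399 := d7_2 (iv F6089) D4995 (iv D4399)
def n4996 : Q := act 3 n3735
theorem D4996 : act 3 n3735 = n4996 := rfl
theorem F8148 : act 0 n4996 = n3738 := d2_1 D4996 (iv D3738) (iv F6088)
def n4997 : Q := act 5 n3735
theorem D4997 : act 5 n3735 = n4997 := rfl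
theorem F8149 : act 0 n4997 = n3739 := d4_1 D4997 (iv D3739) (iv F6088)
theorem F8150 : act 2 n4997 = n3736 := d11_1 D4997 (iv D3736) D3735
def n4998 : Q := act 4 n3736
theorem D4998 : act 4 n3736 = n4998 := rfl
theorem F8151 : act 0 n4998 = n3740 := d3_1 D4998 (iv D3740) (iv F6090)
theorem F8152 : act 1 n4998 = n4343 := d7_1 D4998 F7106 (iv F6091)
theorem F8153 : act 3 n4998 = n4232 := d12_1 D4998 F6941 F5240 (iv F4454) (iv F6092)
theorem F8154 : act 5 n4998 = n4231 := d14_2 D3736 D4998 F6938 F5243 (iv F4451)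
def n4999 : Q := act 0 n3737
theorem D4999 : act 0 n3737 = n4999 := rfl
theorem F8155 : act 2 n4999 = n3741 := d1_2 (iv F6093) D4999 (iv D3741)
theorem F8156 : act 4 n4999 = n4795 := d3_2 (iv F6094) D4999 (iv D4795)
def n5000 : Q := act 3 n3737
theorem D5000 : act 3 n3737 = n5000 := rfl
theorem F8157 : act 1 n5000 = n3738 := d6_1 D5000 (iv D3738) D3737
def n5001 : Q := act 5 n3737
theorem D5001 : act 5 n3737 = n5001 := rfl
theorem F8158 : act 1 n5001 = n3739 := d8_1 D5001 (iv D3739) D3737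
theorem F8159 : act 2 n5001 = n3743 := d11_1 D5001 (iv D3743) (iv F6093)
theorem F8160 : act 4 n5001 = n4894 := d14_1 D5001 (iv D4894) (iv D3651) (iv F5784) (iv F6094)
def n5002 : Q := act 2 n3738
theorem D5002 : act 2 n3738 = n5002 := rfl
def n5003 : Q := act 4 n3738
theorem D5003 : act 4 n3738 = n5003 := rfl
theorem F8161 : act 3 n5003 = n4798 := d12_1 D5003 (iv D4798) (iv D3569) (iv F4455) D3738
def n5004 : Q := act 5 n3738
theorem D5004 : act 5 n3738 = n5004 := rfl
theorem F8162 : act 3 n5004 = n3739 := d13_1 D5004 (iv D3739) D3738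
def n5005 : Q := act 4 n3739
theorem D5005 : act 4 n3739 = n5005 := rfl
theorem F8163 : act 1 n5005 = n4894 := d7_1 D5005 (iv F8160) F8158
theorem F8164 : act 2 n5005 = n3740 := d10_1 D5005 (iv D3740) (iv F6095)
theorem F8165 : act 5 n5005 = n4233 := d14_2 D3739 D5005 F6943 F5249 (iv F4455)
def n5006 : Q := act 3 n3741
theorem D5006 : act 3 n3741 = n5006 := rfl
theorem F8166 : act 0 n5006 = n3742 := d2_1 D5006 (iv D3742) D3741
theorem F8167 : act 1 n5006 = n4895 := d6_1 D5006 (iv D4895) (iv F6099)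
theorem F8168 : act 4 n5006 = n4884 := d12_2 (iv F6100) D5006 (iv D4884) F5938 (iv F5786)
def n5007 : Q := act 5 n3741
theorem D5007 : act 5 n3741 = n5007 := rfl
theorem F8169 : act 0 n5007 = n3743 := d4_1 D5007 (iv D3743) D3741
theorem F8170 : act 1 n5007 = n4896 := d8_1 D5007 (iv D4896) (iv F6099)
theorem F8171 : act 4 n5007 = n4890 := d14_1 D5007 (iv D4890) (iv D3649) (iv F5787) (iv F6100)
def n5008 : Q := act 2 n3742
theorem D5008 : act 2 n3742 = n5008 := rfl
theorem F8172 : act 4 n5008 = n4885 := d10_2 (iv F6102) D5008 (iv D4885)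
def n5009 : Q := act 0 n3744
theorem D5009 : act 0 n3744 = n5009 := rfl
theorem F8173 : act 1 n5009 = n3752 := d0_2 D3744 D5009 (iv D3752) (iv D2774) (iv F4468)
theorem F8174 : act 2 n5009 = n3765 := d1_2 (iv F6105) D5009 (iv D3765)
theorem F8175 : act 5 n3882 = n5009 := d8_0 F8173 F6118 D3882
def n5010 : Q := act 3 n3744
theorem D5010 : act 3 n3744 = n5010 := rfl
theorem F8176 : act 1 n5010 = n3745 := d6_1 D5010 (iv D3745) D3744
def n5011 : Q := act 5 n3744
theorem D5011 : act 5 n3744 = n5011 := rfl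
theorem F8177 : act 0 n5011 = n3882 := d4_1 D5011 F8175 (iv D5009)
theorem F8178 : act 1 n5011 = n3746 := d8_1 D5011 (iv D3746) D3744
theorem F8179 : act 2 n5011 = n3764 := d11_1 D5011 F6141 (iv F6105)
def n5012 : Q := act 4 n3745
theorem D5012 : act 4 n3745 = n5012 := rfl
theorem F8180 : act 0 n5012 = n3755 := d3_1 D5012 (iv D3755) (iv F6106)
def n5013 : Q := act 4 n3746
theorem D5013 : act 4 n3746 = n5013 := rfl
theorem F8181 : act 0 n5013 = n3757 := d3_1 D5013 (iv D3757) (iv F6107)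
theorem F8182 : act 2 n5013 = n3747 := d10_1 D5013 (iv D3747) (iv F6108)
def n5014 : Q := act 0 n3748
theorem D5014 : act 0 n3748 = n5014 := rfl
theorem F8183 : act 2 n5014 = n3758 := d1_2 (iv F6112) D5014 (iv D3758)
theorem F8184 : act 4 n5014 = n3752 := d3_2 (iv F6113) D5014 (iv D3752)
def n5015 : Q := act 3 n3748
theorem D5015 : act 3 n3748 = n5015 := rfl
theorem F8185 : act 1 n5015 = n3749 := d6_1 D5015 (iv D3749) D3748
def n5016 : Q := act 5 n3748
theorem D5016 : act 5 n3748 = n5016 := rfl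
theorem F8186 : act 1 n5016 = n3750 := d8_1 D5016 (iv D3750) D3748
theorem F8187 : act 2 n5016 = n3760 := d11_1 D5016 (iv D3760) (iv F6112)
theorem F8188 : act 4 n5016 = n3890 := d14_1 D5016 (iv D3890) (iv D2873) F4476 (iv F6113)
def n5017 : Q := act 2 n3749
theorem D5017 : act 2 n3749 = n5017 := rfl
theorem F8189 : act 3 n5017 = n3750 := d15_3 D2772 D3749 D5017 F6114 F4474 (iv F3320) (iv F4519) (iv D2799) F3315
theorem F8190 : act 5 n3749 = n5017 := d13_0 F8189 (iv D3750) D3749
def n5018 : Q := act 4 n3749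
theorem D5018 : act 4 n3749 = n5018 := rfl
theorem F8191 : act 3 n5018 = n3755 := d12_1 D5018 (iv D3755) (iv D2775) (iv F4472) D3749
def n5019 : Q := act 4 n3750
theorem D5019 : act 4 n3750 = n5019 := rfl
theorem F8192 : act 1 n5019 = n3890 := d7_1 D5019 (iv F8188) F8186
theorem F8193 : act 2 n5019 = n3751 := d10_1 D5019 (iv D3751) (iv F6114)
theorem F8194 : act 5 n5019 = n3757 := d14_2 D3750 D5019 (iv D3757) (iv D2776) (iv F4472)
def n5020 : Q := act 4 n3753
theorem D5020 : act 4 n3753 = n5020 := rfl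
theorem F8195 : act 1 n5020 = n3755 := d7_1 D5020 (iv D3755) (iv F6119)
def n5021 : Q := act 1 n3754
theorem D5021 : act 1 n3754 = n5021 := rfl
def n5022 : Q := act 4 n3754
theorem D5022 : act 4 n3754 = n5022 := rfl
theorem F8196 : act 2 n5022 = n3755 := d10_1 D5022 (iv D3755) D3754
def n5023 : Q := act 5 n3755
theorem D5023 : act 5 n3755 = n5023 := rfl
def n5024 : Q := act 4 n3756
theorem D5024 : act 4 n3756 = n5024 := rfl
theorem F8197 : act 1 n5024 = n3888 := d7_1 D5024 (iv D3888) (iv F6121)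
def n5025 : Q := act 3 n3757
theorem D5025 : act 3 n3757 = n5025 := rfl
theorem F8198 : act 1 n5025 = n3889 := d6_1 D5025 (iv D3889) (iv F6123)
def n5026 : Q := act 3 n3758
theorem D5026 : act 3 n3758 = n5026 := rfl
theorem F8199 : act 0 n5026 = n3759 := d2_1 D5026 (iv D3759) D3758
theorem F8200 : act 1 n5026 = n3790 := d6_1 D5026 (iv D3790) (iv F6125)
theorem F8201 : act 4 n5026 = n3886 := d12_2 (iv F6126) D5026 (iv D3886) (iv D2871) (iv F4490)
def n5027 : Q := act 5 n3758
theorem D5027 : act 5 n3758 = n5027 := rfl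
theorem F8202 : act 0 n5027 = n3760 := d4_1 D5027 (iv D3760) D3758
theorem F8203 : act 1 n5027 = n3791 := d8_1 D5027 (iv D3791) (iv F6125)
theorem F8204 : act 4 n5027 = n3885 := d14_1 D5027 (iv D3885) (iv D2870) (iv F4491) (iv F6126)
def n5028 : Q := act 2 n3759
theorem D5028 : act 2 n3759 = n5028 := rfl
theorem F8205 : act 4 n5028 = n3891 := d10_2 (iv F6128) D5028 (iv D3891)
def n5029 : Q := act 5 n3759
theorem D5029 : act 5 n3759 = n5029 := rfl
theorem F8206 : act 1 n5029 = n3762 := d8_1 D5029 (iv D3762) (iv F6127)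
theorem F8207 : act 3 n5029 = n3760 := d13_1 D5029 (iv D3760) D3759
def n5030 : Q := act 1 n3761
theorem D5030 : act 1 n3761 = n5030 := rfl
theorem F8208 : act 3 n5030 = n3787 := d6_2 (iv F6132) D5030 F6174
theorem F8209 : act 4 n5030 = n3892 := d7_2 (iv F6133) D5030 (iv D3892)
theorem F8210 : act 5 n5030 = n3786 := d8_2 F6134 D5030 F6173
def n5031 : Q := act 4 n3762
theorem D5031 : act 4 n3762 = n5031 := rfl
theorem F8211 : act 0 n5031 = n3799 := d3_1 D5031 (iv D3799) (iv F6135)
theorem F8212 : act 2 n5031 = n3788 := d10_1 D5031 (iv D3788) (iv F6136)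
theorem F8213 : act 3 n5031 = n3879 := d12_1 D5031 (iv D3879) F4635 (iv F4485) (iv F6137)
theorem F8214 : act 5 n5031 = n3880 := d14_2 D3762 D5031 F6331 F4637 (iv F4482)
def n5032 : Q := act 1 n3763
theorem D5032 : act 1 n3763 = n5032 := rfl
theorem F8215 : act 4 n5032 = n3764 := d7_2 (iv F6139) D5032 (iv D3764)
def n5033 : Q := act 3 n3763
theorem D5033 : act 3 n3763 = n5033 := rfl
theorem F8216 : act 0 n5033 = n3780 := d2_1 D5033 (iv D3780) (iv F6138)
theorem F8217 : act 4 n5033 = n3815 := d12_2 (iv F6139) D5033 (iv D3815) (iv D2822) (iv F4495)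
theorem F8218 : act 2 n4915 = n5033 := d10_3 F8217 F6225 D4915
def n5034 : Q := act 0 n3764
theorem D5034 : act 0 n3764 = n5034 := rfl
theorem F8219 : act 1 n5034 = n3775 := d0_2 D3764 D5034 F6157 F4512 (iv F4494)
theorem F8220 : act 2 n5034 = n3882 := d1_2 F8179 D5034 (iv F8177)
theorem F8221 : act 3 n5034 = n3813 := d2_2 (iv F6140) D5034 (iv D3813)
theorem F8222 : act 5 n5034 = n3765 := d4_2 (iv F6141) D5034 (iv D3765)
def n5035 : Q := act 2 n3766
theorem D5035 : act 2 n3766 = n5035 := rfl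
theorem F8223 : act 0 n5035 = n3767 := d1_1 D5035 (iv D3767) (iv F6143)
theorem F8224 : act 1 n5035 = n4102 := d5_1 D5035 (iv D4102) F4964 (iv F4556) (iv F6144)
theorem F8225 : act 5 n5035 = n4141 := d11_2 (iv F6145) D5035 (iv D4141)
def n5036 : Q := act 1 n3767
theorem D5036 : act 1 n3767 = n5036 := rfl
theorem F8226 : act 2 n5036 = n3768 := d5_2 D3767 D5036 (iv D3768) (iv D2788) (iv F4500)
theorem F8227 : act 5 n5036 = n3776 := d8_2 F8019 D5036 (iv F8018)
def n5037 : Q := act 3 n3767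
theorem D5037 : act 3 n3767 = n5037 := rfl
def n5038 : Q := act 0 n3768
theorem D5038 : act 0 n3768 = n5038 := rfl
theorem F8228 : act 1 n5038 = n3813 := d0_2 D3768 D5038 (iv D3813) (iv D2821) (iv F4501)
theorem F8229 : act 3 n5038 = n3775 := d2_2 (iv F6146) D5038 F6157
theorem F8230 : act 5 n5038 = n3774 := d4_2 (iv F6147) D5038 F6156
def n5039 : Q := act 3 n3769
theorem D5039 : act 3 n3769 = n5039 := rfl
theorem F8231 : act 0 n5039 = n3770 := d2_1 D5039 (iv D3770) D3769
def n5040 : Q := act 5 n3769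
theorem D5040 : act 5 n3769 = n5040 := rfl
theorem F8232 : act 0 n5040 = n3771 := d4_1 D5040 (iv D3771) D3769
theorem F8233 : act 2 n5040 = n3791 := d11_1 D5040 (iv D3791) (iv F6148)
def n5041 : Q := act 2 n3770
theorem D5041 : act 2 n3770 = n5041 := rfl
def n5042 : Q := act 4 n3770
theorem D5042 : act 4 n3770 = n5042 := rfl
theorem F8234 : act 1 n5042 = n3772 := d7_1 D5042 (iv D3772) (iv F6150)
theorem F8235 : act 3 n5042 = n3777 := d12_1 D5042 (iv D3777) (iv D2794) (iv F4505) D3770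
def n5043 : Q := act 4 n3771
theorem D5043 : act 4 n3771 = n5043 := rfl
theorem F8236 : act 1 n5043 = n3773 := d7_1 D5043 (iv D3773) (iv F6151)
theorem F8237 : act 2 n5043 = n3795 := d10_1 D5043 (iv D3795) (iv F6152)
theorem F8238 : act 5 n5043 = n3778 := d14_2 D3771 D5043 (iv D3778) (iv D2795) (iv F4505)
def n5044 : Q := act 5 n3772
theorem D5044 : act 5 n3772 = n5044 := rfl
theorem F8239 : act 3 n5044 = n3779 := d13_1 D5044 (iv D3779) (iv F6153)
theorem F8240 : act 4 n5044 = n4833 := d14_1 D5044 F7898 (iv D3797) (iv F4531) D3772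
def n5045 : Q := act 3 n3773
theorem D5045 : act 3 n3773 = n5045 := rfl
theorem F8241 : act 4 n5045 = n4811 := d12_2 D3773 D5045 F7847 (iv D3797) F4530
theorem F8242 : act 5 n5045 = n3780 := d13_2 (iv F6155) D5045 (iv D3780)
theorem F8243 : act 2 n5045 = n3877 := d15_2 (iv F6154) D5045 (iv D3877) F4634 F3386 (iv F3300) D2783 (iv F4526) F4524
def n5046 : Q := act 2 n3774
theorem D5046 : act 2 n3774 = n5046 := rfl
theorem F8244 : act 0 n5046 = n3776 := d1_1 D5046 (iv D3776) (iv F6156)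
theorem F8245 : act 3 n5046 = n3830 := d15_1 D5046 (iv D3830) (iv D2834) F3353 (iv F3332) (iv F4513) (iv F6146) F6147 (iv F6156)
def n5047 : Q := act 4 n3774
theorem D5047 : act 4 n3774 = n5047 := rfl
theorem F8246 : act 0 n5047 = n3777 := d3_1 D5047 (iv D3777) (iv F6156)
def n5048 : Q := act 4 n3775
theorem D5048 : act 4 n3775 = n5048 := rfl
theorem F8247 : act 0 n5048 = n3778 := d3_1 D5048 (iv D3778) (iv F6157)
theorem F8248 : act 2 n5048 = n3803 := d10_1 D5048 (iv D3803) (iv F6158)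
def n5049 : Q := act 3 n3776
theorem D5049 : act 3 n3776 = n5049 := rfl
theorem F8249 : act 0 n5049 = n3830 := d2_1 D5049 (iv F8245) F8244
theorem F8250 : act 2 n5049 = n3829 := d15_2 D3776 D5049 (iv D3829) F4582 (iv F4544) (iv F6158) (iv F8229) F8230 F6156
def n5050 : Q := act 4 n3776
theorem D5050 : act 4 n3776 = n5050 := rfl
theorem F8251 : act 2 n5050 = n3777 := d10_1 D5050 (iv D3777) D3776
def n5051 : Q := act 5 n3777
theorem D5051 : act 5 n3777 = n5051 := rfl
theorem F8252 : act 1 n5051 = n3779 := d8_1 D5051 (iv D3779) (iv F6159)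
def n5052 : Q := act 3 n3778
theorem D5052 : act 3 n3778 = n5052 := rfl
theorem F8253 : act 1 n5052 = n3780 := d6_1 D5052 (iv D3780) (iv F6160)
def n5053 : Q := act 2 n3780
theorem D5053 : act 2 n3780 = n5053 := rfl
theorem F8254 : act 0 n5053 = n4915 := d1_1 D5053 F8218 F8216
theorem F8255 : act 4 n5053 = n4830 := d10_2 F6380 D5053 F7890
theorem F8256 : act 5 n5053 = n3877 := d11_2 F8242 D5053 (iv F8243)
theorem F8257 : act 3 n5053 = n3878 := d15_3 (iv F4514) D3780 D5053 F6327 F4635 (iv F4487) (iv F4525) F4526 F4492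
def n5054 : Q := act 0 n3781
theorem D5054 : act 0 n3781 = n5054 := rfl
theorem F8258 : act 1 n5054 = n5014 := d0_2 D3781 D5054 (iv D5014) (iv D3748) (iv F4515)
theorem F8259 : act 2 n5054 = n3785 := d1_2 (iv F6162) D5054 (iv D3785)
theorem F8260 : act 4 n5054 = n5009 := d3_2 (iv F6163) D5054 (iv D5009)
def n5055 : Q := act 3 n3781
theorem D5055 : act 3 n3781 = n5055 := rfl
theorem F8261 : act 1 n5055 = n3782 := d6_1 D5055 (iv D3782) D3781
def n5056 : Q := act 5 n3781
theorem D5056 : act 5 n3781 = n5056 := rfl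
theorem F8262 : act 1 n5056 = n3783 := d8_1 D5056 (iv D3783) D3781
theorem F8263 : act 2 n5056 = n3787 := d11_1 D5056 (iv D3787) (iv F6162)
def n5057 : Q := act 2 n3782
theorem D5057 : act 2 n3782 = n5057 := rfl
theorem F8264 : act 0 n5057 = n5017 := d1_1 D5057 (iv D5017) (iv F6164)
theorem F8265 : act 3 n5057 = n3783 := d9_2 D3782 D5057 F6166 F4519 F3320 (iv F4474) (iv F6114) (iv F8189) (iv D5017) (iv D3749) (iv D2772) (iv D2022) (iv F2419) D2041 D2798
theorem F8266 : act 5 n3782 = n5057 := d13_0 F8265 (iv D3783) D3782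
def n5058 : Q := act 4 n3782
theorem D5058 : act 4 n3782 = n5058 := rfl
theorem F8267 : act 0 n5058 = n5018 := d3_1 D5058 (iv D5018) (iv F6164)
theorem F8268 : act 3 n5058 = n5012 := d12_1 D5058 (iv D5012) (iv D3745) (iv F4516) D3782
def n5059 : Q := act 4 n3783
theorem D5059 : act 4 n3783 = n5059 := rfl
theorem F8269 : act 0 n5059 = n5019 := d3_1 D5059 (iv D5019) (iv F6165)
theorem F8270 : act 2 n5059 = n3784 := d10_1 D5059 (iv D3784) (iv F6166)
theorem F8271 : act 5 n5059 = n5013 := d14_2 D3783 D5059 (iv D5013) (iv D3746) (iv F4516)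
def n5060 : Q := act 3 n3785
theorem D5060 : act 3 n3785 = n5060 := rfl
theorem F8272 : act 0 n5060 = n3786 := d2_1 D5060 (iv D3786) D3785
theorem F8273 : act 1 n5060 = n5039 := d6_1 D5060 (iv D5039) (iv F6171)
def n5061 : Q := act 5 n3785
theorem D5061 : act 5 n3785 = n5061 := rfl
theorem F8274 : act 0 n5061 = n3787 := d4_1 D5061 (iv D3787) D3785
theorem F8275 : act 1 n5061 = n5040 := d8_1 D5061 (iv D5040) (iv F6171)
def n5062 : Q := act 2 n3786
theorem D5062 : act 2 n3786 = n5062 := rfl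
def n5063 : Q := act 4 n3786
theorem D5063 : act 4 n3786 = n5063 := rfl
theorem F8276 : act 1 n5063 = n3788 := d7_1 D5063 (iv D3788) (iv F6173)
theorem F8277 : act 3 n5063 = n4917 := d12_1 D5063 F8040 F5990 (iv F4520) D3786
def n5064 : Q := act 4 n3787
theorem D5064 : act 4 n3787 = n5064 := rfl
theorem F8278 : act 1 n5064 = n3789 := d7_1 D5064 (iv D3789) (iv F6174)
theorem F8279 : act 5 n5064 = n5032 := d14_2 D3787 D5064 F8215 F6141 (iv F4520)
def n5065 : Q := act 5 n3788
theorem D5065 : act 5 n3788 = n5065 := rfl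
theorem F8280 : act 0 n5065 = n5044 := d4_1 D5065 (iv D5044) (iv F6175)
theorem F8281 : act 2 n5065 = n3880 := d11_1 D5065 (iv F8214) F8212
theorem F8282 : act 3 n5065 = n4916 := d13_1 D5065 F8038 (iv F6176)
theorem F8283 : act 4 n5065 = n3881 := d14_1 D5065 F6332 (iv F6133) (iv F6134) D3788
def n5066 : Q := act 3 n3789
theorem D5066 : act 3 n3789 = n5066 := rfl
theorem F8284 : act 0 n5066 = n5045 := d2_1 D5066 (iv D5045) (iv F6177)
theorem F8285 : act 4 n5066 = n3893 := d12_2 D3789 D5066 (iv D3893) (iv F6133) F6132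
theorem F8286 : act 5 n5066 = n5033 := d13_2 (iv F6179) D5066 (iv D5033)
def n5067 : Q := act 2 n3790
theorem D5067 : act 2 n3790 = n5067 := rfl
theorem F8287 : act 0 n5067 = n3792 := d1_1 D5067 (iv D3792) (iv F6180)
def n5068 : Q := act 4 n3790
theorem D5068 : act 4 n3790 = n5068 := rfl
theorem F8288 : act 0 n5068 = n3793 := d3_1 D5068 (iv D3793) (iv F6180)
theorem F8289 : act 1 n5068 = n3886 := d7_1 D5068 (iv F8201) F8200
theorem F8290 : act 3 n5068 = n3802 := d12_1 D5068 (iv D3802) (iv D2811) (iv F4527) D3790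
def n5069 : Q := act 5 n3790
theorem D5069 : act 5 n3790 = n5069 := rfl
theorem F8291 : act 0 n5069 = n3794 := d4_1 D5069 (iv D3794) (iv F6180)
theorem F8292 : act 3 n5069 = n3791 := d13_1 D5069 (iv D3791) D3790
def n5070 : Q := act 4 n3791
theorem D5070 : act 4 n3791 = n5070 := rfl
theorem F8293 : act 0 n5070 = n3795 := d3_1 D5070 (iv D3795) (iv F6181)
theorem F8294 : act 1 n5070 = n3885 := d7_1 D5070 (iv F8204) F8203
theorem F8295 : act 5 n5070 = n3803 := d14_2 D3791 D5070 (iv D3803) (iv D2812) (iv F4527)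
def n5071 : Q := act 1 n3792
theorem D5071 : act 1 n3792 = n5071 := rfl
theorem F8296 : act 2 n5071 = n3796 := d5_2 D3792 D5071 (iv D3796) (iv D2807) (iv F4528)
theorem F8297 : act 5 n5041 = n5071 := d11_0 F8296 F6189 D5041
def n5072 : Q := act 3 n3792
theorem D5072 : act 3 n3792 = n5072 := rfl
def n5073 : Q := act 4 n3792
theorem D5073 : act 4 n3792 = n5073 := rfl
theorem F8298 : act 2 n5073 = n3793 := d10_1 D5073 (iv D3793) D3792
def n5074 : Q := act 5 n3792
theorem D5074 : act 5 n3792 = n5074 := rfl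
theorem F8299 : act 1 n5074 = n5041 := d8_1 D5074 F8297 (iv D5071)
theorem F8300 : act 2 n5074 = n3794 := d11_1 D5074 (iv D3794) D3792
def n5075 : Q := act 5 n3793
theorem D5075 : act 5 n3793 = n5075 := rfl
theorem F8301 : act 1 n5075 = n3798 := d8_1 D5075 (iv D3798) (iv F6182)
theorem F8302 : act 3 n5075 = n3806 := d13_1 D5075 (iv D3806) (iv F6183)
def n5076 : Q := act 4 n3794
theorem D5076 : act 4 n3794 = n5076 := rfl
theorem F8303 : act 1 n5076 = n3799 := d7_1 D5076 (iv D3799) (iv F6184)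
def n5077 : Q := act 3 n3795
theorem D5077 : act 3 n3795 = n5077 := rfl
theorem F8304 : act 1 n5077 = n3800 := d6_1 D5077 (iv D3800) (iv F6186)
theorem F8305 : act 5 n5077 = n3807 := d13_2 (iv F6187) D5077 (iv D3807)
def n5078 : Q := act 0 n3796
theorem D5078 : act 0 n3796 = n5078 := rfl
theorem F8306 : act 3 n5078 = n5040 := d2_2 (iv F6188) D5078 F8232
theorem F8307 : act 5 n5078 = n5039 := d4_2 (iv F6189) D5078 F8231
def n5079 : Q := act 4 n3796
theorem D5079 : act 4 n3796 = n5079 := rfl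
theorem F8308 : act 1 n5079 = n3797 := d7_1 D5079 (iv D3797) D3796
def n5080 : Q := act 4 n3798
theorem D5080 : act 4 n3798 = n5080 := rfl
theorem F8309 : act 0 n5080 = n3880 := d3_1 D5080 F6331 (iv F6192)
theorem F8310 : act 2 n5080 = n5044 := d10_1 D5080 F8240 F7897
theorem F8311 : act 3 n5080 = n3842 := d12_1 D5080 (iv D3842) F4598 (iv F4551) (iv F6193)
theorem F8312 : act 5 n5080 = n3799 := d14_2 D3798 D5080 (iv D3799) (iv D2809) D2808
def n5081 : Q := act 3 n3799
theorem D5081 : act 3 n3799 = n5081 := rfl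
theorem F8313 : act 0 n5081 = n3879 := d2_1 D5081 (iv F8213) F8211
theorem F8314 : act 2 n5081 = n3862 := d9_1 D5081 F6303 F5800 D3672 D4916 (iv F8282) F8281 (iv D3880) F4636 F4257 (iv F4272) D3596 (iv F5837) (iv F6153) (iv F6194)
theorem F8315 : act 4 n5081 = n3800 := d12_2 D3799 D5081 (iv D3800) (iv D2810) (iv F4535)
theorem F8316 : act 5 n5081 = n3842 := d13_2 F8312 D5081 (iv F8311)
def n5082 : Q := act 2 n3800
theorem D5082 : act 2 n3800 = n5082 := rfl
theorem F8317 : act 0 n5082 = n3878 := d1_1 D5082 F6327 (iv F6195)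
theorem F8318 : act 3 n5082 = n4915 := d9_2 D3800 D5082 F8218 (iv D5033) (iv D3763) (iv D2783) F3300 (iv F3386) (iv F4634) D3877 (iv F8243) (iv D5045) F6154 F4508 (iv F4537)
theorem F8319 : act 4 n5082 = n3862 := d10_2 F8315 D5082 (iv F8314)
theorem F8320 : act 5 n5082 = n3808 := d11_2 (iv F6196) D5082 (iv D3808)
def n5083 : Q := act 3 n3801
theorem D5083 : act 3 n3801 = n5083 := rfl
theorem F8321 : act 0 n5083 = n3804 := d2_1 D5083 (iv D3804) (iv F6197)
theorem F8322 : act 5 n5083 = n3829 := d13_2 (iv F6198) D5083 (iv D3829)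
def n5084 : Q := act 4 n3801
theorem D5084 : act 4 n3801 = n5084 := rfl
theorem F8323 : act 0 n5084 = n3805 := d3_1 D5084 (iv D3805) (iv F6197)
theorem F8324 : act 2 n5084 = n3802 := d10_1 D5084 (iv D3802) D3801
def n5085 : Q := act 5 n3802
theorem D5085 : act 5 n3802 = n5085 := rfl
theorem F8325 : act 0 n5085 = n3806 := d4_1 D5085 (iv D3806) (iv F6199)
theorem F8326 : act 1 n5085 = n3867 := d8_1 D5085 F6312 (iv F6200)
theorem F8327 : act 4 n5085 = n3838 := d14_1 D5085 (iv D3838) F4590 F4541 D3802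
def n5086 : Q := act 3 n3803
theorem D5086 : act 3 n3803 = n5086 := rfl
theorem F8328 : act 0 n5086 = n3807 := d2_1 D5086 (iv D3807) (iv F6201)
theorem F8329 : act 1 n5086 = n3865 := d6_1 D5086 F6308 (iv F6202)
theorem F8330 : act 4 n5086 = n3837 := d12_2 D3803 D5086 (iv D3837) F4590 (iv F4544)
def n5087 : Q := act 2 n3804
theorem D5087 : act 2 n3804 = n5087 := rfl
theorem F8331 : act 1 n5087 = n3962 := d5_1 D5087 (iv D3962) F4742 (iv F4586) (iv F6203)
theorem F8332 : act 5 n5087 = n3830 := d11_2 (iv F6204) D5087 (iv D3830)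
def n5088 : Q := act 4 n3804
theorem D5088 : act 4 n3804 = n5088 := rfl
theorem F8333 : act 1 n5088 = n3835 := d7_1 D5088 (iv D3835) (iv F6203)
def n5089 : Q := act 3 n3805
theorem D5089 : act 3 n3805 = n5089 := rfl
theorem F8334 : act 1 n5089 = n3836 := d6_1 D5089 (iv D3836) (iv F6205)
def n5090 : Q := act 5 n3805
theorem D5090 : act 5 n3805 = n5090 := rfl
theorem F8335 : act 1 n5090 = n3828 := d8_1 D5090 F6252 (iv F6205)
theorem F8336 : act 2 n5090 = n3806 := d11_1 D5090 (iv D3806) (iv F6206)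
theorem F8337 : act 4 n5090 = n3825 := d14_1 D5090 (iv D3825) F4575 (iv F4546) D3805
def n5091 : Q := act 2 n3807
theorem D5091 : act 2 n3807 = n5091 := rfl
theorem F8338 : act 4 n5091 = n3839 := d10_2 (iv F6210) D5091 (iv D3839)
def n5092 : Q := act 1 n3808
theorem D5092 : act 1 n3808 = n5092 := rfl
theorem F8339 : act 4 n5092 = n3841 := d7_2 (iv F6212) D5092 (iv D3841)
def n5093 : Q := act 3 n3808
theorem D5093 : act 3 n3808 = n5093 := rfl
theorem F8340 : act 0 n5093 = n3877 := d2_1 D5093 (iv D3877) (iv F6211)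
theorem F8341 : act 2 n5093 = n5066 := d9_1 D5093 (iv D5066) F6178 F4525 F4487 (iv F4635) (iv F6327) (iv F8257) (iv D5053) (iv D3780) F4514 F3314 (iv F3336) D2817 D3808
theorem F8342 : act 4 n5093 = n3863 := d12_2 (iv F6212) D5093 (iv D3863) (iv D2857) (iv F4594)
theorem F8343 : act 5 n5093 = n4915 := d13_2 F8320 D5093 (iv F8318)
def n5094 : Q := act 5 n3809
theorem D5094 : act 5 n3809 = n5094 := rfl
theorem F8344 : act 0 n5094 = n3812 := d4_1 D5094 (iv D3812) (iv F6213)
theorem F8345 : act 2 n5094 = n4106 := d11_1 D5094 (iv D4106) (iv F6214)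
theorem F8346 : act 3 n5094 = n3819 := d13_1 D5094 (iv D3819) (iv F6215)
theorem F8347 : act 4 n5094 = n4143 := d14_1 D5094 (iv D4143) (iv D3071) (iv F4555) D3809
def n5095 : Q := act 0 n3810
theorem D5095 : act 0 n3810 = n5095 := rfl
theorem F8348 : act 1 n5095 = n4100 := d0_2 D3810 D5095 F6720 F4964 (iv F4557)
theorem F8349 : act 2 n5095 = n3813 := d1_2 (iv F6216) D5095 (iv D3813)
theorem F8350 : act 3 n5095 = n4096 := d2_2 (iv F6217) D5095 (iv D4096)
theorem F8351 : act 5 n5095 = n4144 := d4_2 (iv F6218) D5095 (iv D4144)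
def n5096 : Q := act 4 n3810
theorem D5096 : act 4 n3810 = n5096 := rfl
theorem F8352 : act 1 n5096 = n3811 := d7_1 D5096 (iv D3811) D3810
theorem F8353 : act 2 n5096 = n3814 := d10_1 D5096 (iv D3814) (iv F6216)
def n5097 : Q := act 3 n3811
theorem D5097 : act 3 n3811 = n5097 := rfl
theorem F8354 : act 0 n5097 = n4105 := d2_1 D5097 (iv D4105) (iv F6219)
theorem F8355 : act 4 n5097 = n4098 := d12_2 D3811 D5097 (iv D4098) (iv D3036) (iv F4559)
def n5098 : Q := act 5 n3811
theorem D5098 : act 5 n3811 = n5098 := rfl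
theorem F8356 : act 0 n5098 = n4106 := d4_1 D5098 (iv D4106) (iv F6219)
theorem F8357 : act 2 n5098 = n3812 := d11_1 D5098 (iv D3812) (iv F6220)
theorem F8358 : act 4 n5098 = n4147 := d14_1 D5098 (iv D4147) (iv D3073) (iv F4558) D3811
def n5099 : Q := act 4 n3813
theorem D5099 : act 4 n3813 = n5099 := rfl
theorem F8359 : act 0 n5099 = n3814 := d3_1 D5099 (iv D3814) D3813
def n5100 : Q := act 3 n3814
theorem D5100 : act 3 n3814 = n5100 := rfl
theorem F8360 : act 1 n5100 = n3815 := d6_1 D5100 (iv D3815) (iv F6224)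
theorem F8361 : act 5 n4914 = n5100 := d8_0 F8360 (iv F6226) D4914
def n5101 : Q := act 5 n3814
theorem D5101 : act 5 n3814 = n5101 := rfl
theorem F8362 : act 1 n5101 = n3816 := d8_1 D5101 (iv D3816) (iv F6224)
theorem F8363 : act 3 n5101 = n4914 := d13_1 D5101 F8361 (iv D5100)
def n5102 : Q := act 4 n3817
theorem D5102 : act 4 n3817 = n5102 := rfl
theorem F8364 : act 1 n5102 = n3818 := d7_1 D5102 (iv D3818) D3817
def n5103 : Q := act 3 n3818
theorem D5103 : act 3 n3818 = n5103 := rfl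
theorem F8365 : act 0 n5103 = n3821 := d2_1 D5103 (iv D3821) (iv F6231)
theorem F8366 : act 4 n5103 = n3923 := d12_2 D3818 D5103 (iv D3923) (iv D2896) (iv F4565)
def n5104 : Q := act 5 n3818
theorem D5104 : act 5 n3818 = n5104 := rfl
theorem F8367 : act 0 n5104 = n3822 := d4_1 D5104 (iv D3822) (iv F6231)
theorem F8368 : act 2 n5104 = n3819 := d11_1 D5104 (iv D3819) (iv F6232)
theorem F8369 : act 4 n5104 = n3897 := d14_1 D5104 (iv D3897) (iv D2878) (iv F4566) D3818
def n5105 : Q := act 3 n3820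
theorem D5105 : act 3 n3820 = n5105 := rfl
theorem F8370 : act 0 n5105 = n3923 := d2_1 D5105 (iv D3923) (iv F6235)
theorem F8371 : act 4 n5105 = n3821 := d12_2 D3820 D5105 (iv D3821) (iv D2827) D2826
def n5106 : Q := act 5 n3820
theorem D5106 : act 5 n3820 = n5106 := rfl
theorem F8372 : act 0 n5106 = n3924 := d4_1 D5106 (iv D3924) (iv F6235)
theorem F8373 : act 2 n5106 = n3920 := d11_1 D5106 (iv D3920) (iv F6236)
theorem F8374 : act 4 n5106 = n3905 := d14_1 D5106 (iv D3905) (iv D2883) (iv F4570) D3820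
def n5107 : Q := act 2 n3821
theorem D5107 : act 2 n3821 = n5107 := rfl
def n5108 : Q := act 5 n3821
theorem D5108 : act 5 n3821 = n5108 := rfl
theorem F8375 : act 3 n5108 = n3822 := d13_1 D5108 (iv D3822) D3821
def n5109 : Q := act 3 n3823
theorem D5109 : act 3 n3823 = n5109 := rfl
theorem F8376 : act 0 n5109 = n3824 := d2_1 D5109 (iv D3824) D3823
theorem F8377 : act 1 n5109 = n4834 := d6_1 D5109 (iv D4834) (iv F6239)
def n5110 : Q := act 5 n3823
theorem D5110 : act 5 n3823 = n5110 := rfl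
theorem F8378 : act 0 n5110 = n3825 := d4_1 D5110 (iv D3825) D3823
theorem F8379 : act 1 n5110 = n4835 := d8_1 D5110 (iv D4835) (iv F6239)
theorem F8380 : act 2 n5110 = n3838 := d11_1 D5110 (iv D3838) (iv F6240)
def n5111 : Q := act 2 n3824
theorem D5111 : act 2 n3824 = n5111 := rfl
def n5112 : Q := act 4 n3824
theorem D5112 : act 4 n3824 = n5112 := rfl
theorem F8381 : act 1 n5112 = n3827 := d7_1 D5112 (iv D3827) (iv F6242)
theorem F8382 : act 3 n5112 = n3831 := d12_1 D5112 (iv D3831) (iv D2834) (iv F4575) D3824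
def n5113 : Q := act 5 n3824
theorem D5113 : act 5 n3824 = n5113 := rfl
theorem F8383 : act 1 n5113 = n3826 := d8_1 D5113 (iv F6247) (iv F6242)
theorem F8384 : act 3 n5113 = n3825 := d13_1 D5113 (iv D3825) D3824
def n5114 : Q := act 4 n3826
theorem D5114 : act 4 n3826 = n5114 := rfl
theorem F8385 : act 0 n5114 = n4840 := d3_1 D5114 (iv D4840) (iv F6245)
theorem F8386 : act 2 n5114 = n3827 := d10_1 D5114 (iv D3827) D3826
def n5115 : Q := act 5 n3827
theorem D5115 : act 5 n3827 = n5115 := rfl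
theorem F8387 : act 0 n5115 = n4841 := d4_1 D5115 (iv D4841) (iv F6248)
theorem F8388 : act 3 n5115 = n3834 := d13_1 D5115 (iv D3834) (iv F6249)
def n5116 : Q := act 3 n3828
theorem D5116 : act 3 n3828 = n5116 := rfl
theorem F8389 : act 0 n5116 = n4842 := d2_1 D5116 (iv D4842) (iv F6250)
theorem F8390 : act 5 n5116 = n3836 := d13_2 (iv F6252) D5116 (iv D3836)
def n5117 : Q := act 4 n3829
theorem D5117 : act 4 n3829 = n5117 := rfl
theorem F8391 : act 0 n5117 = n3831 := d3_1 D5117 (iv D3831) (iv F6253)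
def n5118 : Q := act 1 n3830
theorem D5118 : act 1 n3830 = n5118 := rfl
theorem F8392 : act 2 n5118 = n3832 := d5_2 D3830 D5118 (iv D3832) (iv D2835) (iv F4583)
theorem F8393 : act 5 n5118 = n3962 := d8_2 F8332 D5118 (iv F8331)
def n5119 : Q := act 4 n3830
theorem D5119 : act 4 n3830 = n5119 := rfl
theorem F8394 : act 2 n5119 = n3831 := d10_1 D5119 (iv D3831) D3830
def n5120 : Q := act 5 n3831
theorem D5120 : act 5 n3831 = n5120 := rfl
theorem F8395 : act 1 n5120 = n3834 := d8_1 D5120 (iv D3834) (iv F6254)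
def n5121 : Q := act 0 n3832
theorem D5121 : act 0 n3832 = n5121 := rfl
theorem F8396 : act 3 n5121 = n3960 := d2_2 (iv F6255) D5121 (iv D3960)
theorem F8397 : act 5 n5121 = n3961 := d4_2 (iv F6256) D5121 F6479
def n5122 : Q := act 4 n3832
theorem D5122 : act 4 n3832 = n5122 := rfl
theorem F8398 : act 1 n5122 = n3833 := d7_1 D5122 (iv D3833) D3832
def n5123 : Q := act 3 n3833
theorem D5123 : act 3 n3833 = n5123 := rfl
theorem F8399 : act 4 n5123 = n3959 := d12_2 D3833 D5123 (iv D3959) F4736 (iv F4584)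
def n5124 : Q := act 5 n3833
theorem D5124 : act 5 n3833 = n5124 := rfl
theorem F8400 : act 2 n5124 = n3834 := d11_1 D5124 (iv D3834) (iv F6257)
theorem F8401 : act 4 n5124 = n3964 := d14_1 D5124 (iv D3964) (iv D2928) F4585 D3833
def n5125 : Q := act 4 n3834
theorem D5125 : act 4 n3834 = n5125 := rfl
theorem F8402 : act 2 n5125 = n3964 := d10_1 D5125 (iv F8401) F8400
theorem F8403 : act 5 n5125 = n3835 := d14_2 D3834 D5125 (iv D3835) (iv D2837) D2836
def n5126 : Q := act 3 n3835
theorem D5126 : act 3 n3835 = n5126 := rfl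
theorem F8404 : act 4 n5126 = n3836 := d12_2 D3835 D5126 (iv D3836) (iv D2838) (iv F4587)
def n5127 : Q := act 2 n3836
theorem D5127 : act 2 n3836 = n5127 := rfl
def n5128 : Q := act 2 n3837
theorem D5128 : act 2 n3837 = n5128 := rfl
theorem F8405 : act 0 n5128 = n3839 := d1_1 D5128 (iv D3839) (iv F6259)
def n5129 : Q := act 5 n3837
theorem D5129 : act 5 n3837 = n5129 := rfl
theorem F8406 : act 0 n5129 = n3840 := d4_1 D5129 (iv D3840) (iv F6259)
theorem F8407 : act 1 n5129 = n3866 := d8_1 D5129 (iv D3866) (iv F6260)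
theorem F8408 : act 3 n5129 = n3838 := d13_1 D5129 (iv D3838) D3837
def n5130 : Q := act 1 n3839
theorem D5130 : act 1 n3839 = n5130 := rfl
theorem F8409 : act 2 n5130 = n3841 := d5_2 D3839 D5130 (iv D3841) (iv D2842) (iv F4591)
theorem F8410 : act 5 n3859 = n5130 := d11_0 F8409 F6266 D3859
def n5131 : Q := act 3 n3839
theorem D5131 : act 3 n3839 = n5131 := rfl
def n5132 : Q := act 5 n3839
theorem D5132 : act 5 n3839 = n5132 := rfl
theorem F8411 : act 1 n5132 = n3859 := d8_1 D5132 F8410 (iv D5130)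
theorem F8412 : act 2 n5132 = n3840 := d11_1 D5132 (iv D3840) D3839
def n5133 : Q := act 4 n3840
theorem D5133 : act 4 n3840 = n5133 := rfl
theorem F8413 : act 1 n5133 = n3842 := d7_1 D5133 (iv D3842) (iv F6263)
def n5134 : Q := act 0 n3841
theorem D5134 : act 0 n3841 = n5134 := rfl
theorem F8414 : act 1 n5134 = n3875 := d0_2 D3841 D5134 (iv D3875) (iv D2864) (iv F4593)
theorem F8415 : act 3 n5134 = n3858 := d2_2 (iv F6265) D5134 F6296
theorem F8416 : act 5 n5134 = n3857 := d4_2 (iv F6266) D5134 F6294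
def n5135 : Q := act 4 n3843
theorem D5135 : act 4 n3843 = n5135 := rfl
theorem F8417 : act 0 n5135 = n5102 := d3_1 D5135 (iv D5102) (iv F6269)
theorem F8418 : act 1 n5135 = n3845 := d7_1 D5135 (iv D3845) D3843
theorem F8419 : act 2 n5135 = n3895 := d10_1 D5135 (iv D3895) (iv F6270)
def n5136 : Q := act 4 n3844
theorem D5136 : act 4 n3844 = n5136 := rfl
theorem F8420 : act 0 n5136 = n3848 := d3_1 D5136 (iv D3848) (iv F6271)
def n5137 : Q := act 3 n3845
theorem D5137 : act 3 n3845 = n5137 := rfl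
theorem F8421 : act 0 n5137 = n3849 := d2_1 D5137 (iv D3849) (iv F6272)
def n5138 : Q := act 5 n3845
theorem D5138 : act 5 n3845 = n5138 := rfl
theorem F8422 : act 0 n5138 = n3850 := d4_1 D5138 (iv D3850) (iv F6272)
theorem F8423 : act 2 n5138 = n3846 := d11_1 D5138 (iv D3846) (iv F6273)
def n5139 : Q := act 4 n3847
theorem D5139 : act 4 n3847 = n5139 := rfl
theorem F8424 : act 2 n5139 = n3848 := d10_1 D5139 (iv D3848) D3847
def n5140 : Q := act 3 n3848
theorem D5140 : act 3 n3848 = n5140 := rfl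
theorem F8425 : act 1 n5140 = n5105 := d6_1 D5140 (iv D5105) (iv F6276)
theorem F8426 : act 4 n5140 = n3849 := d12_2 D3848 D5140 (iv D3849) (iv D2847) D2846
def n5141 : Q := act 5 n3848
theorem D5141 : act 5 n3848 = n5141 := rfl
theorem F8427 : act 1 n5141 = n5106 := d8_1 D5141 (iv D5106) (iv F6276)
def n5142 : Q := act 2 n3849
theorem D5142 : act 2 n3849 = n5142 := rfl
def n5143 : Q := act 5 n3849
theorem D5143 : act 5 n3849 = n5143 := rfl
theorem F8428 : act 1 n5143 = n5108 := d8_1 D5143 (iv D5108) (iv F6277)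
theorem F8429 : act 3 n5143 = n3850 := d13_1 D5143 (iv D3850) D3849
def n5144 : Q := act 3 n3851
theorem D5144 : act 3 n3851 = n5144 := rfl
theorem F8430 : act 0 n5144 = n3852 := d2_1 D5144 (iv D3852) D3851
theorem F8431 : act 1 n5144 = n4764 := d6_1 D5144 (iv D4764) (iv F6280)
def n5145 : Q := act 5 n3851
theorem D5145 : act 5 n3851 = n5145 := rfl
theorem F8432 : act 0 n5145 = n3853 := d4_1 D5145 (iv D3853) D3851
theorem F8433 : act 1 n5145 = n4765 := d8_1 D5145 (iv D4765) (iv F6280)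
theorem F8434 : act 2 n5145 = n3858 := d11_1 D5145 (iv D3858) (iv F6281)
theorem F8435 : act 4 n5145 = n4962 := d14_1 D5145 (iv D4962) (iv D3712) F5718 (iv F6282)
def n5146 : Q := act 2 n3852
theorem D5146 : act 2 n3852 = n5146 := rfl
def n5147 : Q := act 4 n3852
theorem D5147 : act 4 n3852 = n5147 := rfl
theorem F8436 : act 1 n5147 = n3855 := d7_1 D5147 (iv D3855) (iv F6283)
theorem F8437 : act 3 n5147 = n4760 := d12_1 D5147 (iv D4760) (iv D3538) (iv F4607) D3852
def n5148 : Q := act 5 n3852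
theorem D5148 : act 5 n3852 = n5148 := rfl
theorem F8438 : act 1 n5148 = n3854 := d8_1 D5148 (iv F6288) (iv F6283)
theorem F8439 : act 3 n5148 = n3853 := d13_1 D5148 (iv D3853) D3852
def n5149 : Q := act 4 n3853
theorem D5149 : act 4 n3853 = n5149 := rfl
theorem F8440 : act 0 n5149 = n4962 := d3_1 D5149 (iv F8435) F8432
theorem F8441 : act 1 n5149 = n3856 := d7_1 D5149 (iv D3856) (iv F6284)
theorem F8442 : act 2 n5149 = n3861 := d10_1 D5149 (iv D3861) (iv F6285)
theorem F8443 : act 5 n5149 = n4761 := d14_2 D3853 D5149 (iv D4761) (iv D3539) (iv F4607)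
def n5150 : Q := act 4 n3854
theorem D5150 : act 4 n3854 = n5150 := rfl
theorem F8444 : act 0 n5150 = n4769 := d3_1 D5150 (iv D4769) (iv F6286)
theorem F8445 : act 2 n5150 = n3855 := d10_1 D5150 (iv D3855) D3854
def n5151 : Q := act 5 n3855
theorem D5151 : act 5 n3855 = n5151 := rfl
theorem F8446 : act 0 n5151 = n4770 := d4_1 D5151 (iv D4770) (iv F6289)
theorem F8447 : act 3 n5151 = n4762 := d13_1 D5151 (iv D4762) (iv F6290)
def n5152 : Q := act 3 n3856
theorem D5152 : act 3 n3856 = n5152 := rfl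
theorem F8448 : act 0 n5152 = n4771 := d2_1 D5152 (iv D4771) (iv F6291)
theorem F8449 : act 5 n5152 = n4763 := d13_2 (iv F6293) D5152 (iv D4763)
def n5153 : Q := act 2 n3857
theorem D5153 : act 2 n3857 = n5153 := rfl
theorem F8450 : act 0 n5153 = n3859 := d1_1 D5153 (iv D3859) (iv F6294)
def n5154 : Q := act 4 n3857
theorem D5154 : act 4 n3857 = n5154 := rfl
theorem F8451 : act 0 n5154 = n3860 := d3_1 D5154 (iv D3860) (iv F6294)
theorem F8452 : act 1 n5154 = n4805 := d7_1 D5154 (iv D4805) (iv F6295)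
theorem F8453 : act 3 n5154 = n4799 := d12_1 D5154 (iv D4799) (iv D3571) (iv F4616) D3857
def n5155 : Q := act 4 n3858
theorem D5155 : act 4 n3858 = n5155 := rfl
theorem F8454 : act 0 n5155 = n3861 := d3_1 D5155 (iv D3861) (iv F6296)
theorem F8455 : act 1 n5155 = n4806 := d7_1 D5155 (iv D4806) (iv F6297)
theorem F8456 : act 2 n5155 = n4962 := d10_1 D5155 (iv F8435) F8434
theorem F8457 : act 5 n5155 = n4800 := d14_2 D3858 D5155 (iv D4800) (iv D3572) (iv F4616)
def n5156 : Q := act 3 n3859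
theorem D5156 : act 3 n3859 = n5156 := rfl
def n5157 : Q := act 4 n3859
theorem D5157 : act 4 n3859 = n5157 := rfl
theorem F8458 : act 2 n5157 = n3860 := d10_1 D5157 (iv D3860) D3859
def n5158 : Q := act 5 n3860
theorem D5158 : act 5 n3860 = n5158 := rfl
theorem F8459 : act 1 n5158 = n3862 := d8_1 D5158 (iv D3862) (iv F6298)
theorem F8460 : act 3 n5158 = n4801 := d13_1 D5158 (iv D4801) (iv F6299)
def n5159 : Q := act 3 n3861
theorem D5159 : act 3 n3861 = n5159 := rfl
theorem F8461 : act 1 n5159 = n3863 := d6_1 D5159 (iv D3863) (iv F6300)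
theorem F8462 : act 5 n5159 = n4802 := d13_2 (iv F6301) D5159 (iv D4802)
def n5160 : Q := act 1 n3864
theorem D5160 : act 1 n3864 = n5160 := rfl
def n5161 : Q := act 3 n3864
theorem D5161 : act 3 n3864 = n5161 := rfl
theorem F8463 : act 0 n5161 = n3869 := d2_1 D5161 (iv D3869) (iv F6306)
theorem F8464 : act 2 n5161 = n4858 := d15_2 D3864 D5161 (iv D4858) F5876 (iv F4305) F4304 (iv F4629) (iv D2862) (iv F4624)
def n5162 : Q := act 4 n3864
theorem D5162 : act 4 n3864 = n5162 := rfl
theorem F8465 : act 0 n5162 = n3870 := d3_1 D5162 (iv D3870) (iv F6306)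
theorem F8466 : act 2 n5162 = n3865 := d10_1 D5162 (iv D3865) D3864
def n5163 : Q := act 5 n3864
theorem D5163 : act 5 n3864 = n5163 := rfl
theorem F8467 : act 0 n5163 = n3871 := d4_1 D5163 (iv D3871) (iv F6306)
theorem F8468 : act 2 n5163 = n3866 := d11_1 D5163 (iv D3866) D3864
def n5164 : Q := act 5 n3865
theorem D5164 : act 5 n3865 = n5164 := rfl
theorem F8469 : act 0 n5164 = n3872 := d4_1 D5164 (iv D3872) (iv F6307)
theorem F8470 : act 3 n5164 = n3885 := d13_1 D5164 (iv D3885) (iv F6308)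
def n5165 : Q := act 4 n3866
theorem D5165 : act 4 n3866 = n5165 := rfl
theorem F8471 : act 0 n5165 = n3873 := d3_1 D5165 (iv D3873) (iv F6309)
def n5166 : Q := act 3 n3867
theorem D5166 : act 3 n3867 = n5166 := rfl
theorem F8472 : act 0 n5166 = n3874 := d2_1 D5166 (iv D3874) (iv F6311)
theorem F8473 : act 5 n5166 = n3886 := d13_2 (iv F6312) D5166 (iv D3886)
def n5167 : Q := act 0 n3868
theorem D5167 : act 0 n3868 = n5167 := rfl
theorem F8474 : act 2 n5167 = n3875 := d1_2 (iv F6313) D5167 (iv D3875)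
theorem F8475 : act 5 n5167 = n4804 := d4_2 F6314 D5167 F7835
theorem F8476 : act 3 n4860 = n5167 := d15_7 (iv D3579) (iv D2636) F3120 D1939 D2662 D3619 D4860 F8475 F7835
def n5168 : Q := act 3 n3868
theorem D5168 : act 3 n3868 = n5168 := rfl
theorem F8477 : act 0 n5168 = n4860 := d2_1 D5168 F8476 (iv D5167)
theorem F8478 : act 1 n5168 = n3869 := d6_1 D5168 (iv D3869) D3868
theorem F8479 : act 5 n5168 = n4807 := d13_2 F6314 D5168 (iv D4807)
theorem F8480 : act 2 n5168 = n4851 := d15_2 (iv F6313) D5168 (iv D4851) (iv D3614) (iv D2660) (iv F4252) D3577 (iv F6324) (iv D3875)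
def n5169 : Q := act 4 n3868
theorem D5169 : act 4 n3868 = n5169 := rfl
theorem F8481 : act 1 n5169 = n3870 := d7_1 D5169 (iv D3870) D3868
theorem F8482 : act 2 n5169 = n3876 := d10_1 D5169 (iv D3876) (iv F6313)
def n5170 : Q := act 2 n3869
theorem D5170 : act 2 n3869 = n5170 := rfl
theorem F8483 : act 0 n5170 = n4858 := d1_1 D5170 (iv F8464) F8463
theorem F8484 : act 3 n5170 = n4857 := d15_3 D2860 D3869 D5170 F7936 (iv F5905) F5904 (iv F6310) (iv D3866) F4624
def n5171 : Q := act 4 n3869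
theorem D5171 : act 4 n3869 = n5171 := rfl
def n5172 : Q := act 5 n3869
theorem D5172 : act 5 n3869 = n5172 := rfl
theorem F8485 : act 1 n5172 = n4807 := d8_1 D5172 (iv F8479) F8478
theorem F8486 : act 3 n5172 = n3871 := d13_1 D5172 (iv D3871) D3869
def n5173 : Q := act 3 n3870
theorem D5173 : act 3 n3870 = n5173 := rfl
def n5174 : Q := act 5 n3870
theorem D5174 : act 5 n3870 = n5174 := rfl
theorem F8487 : act 2 n5174 = n3872 := d11_1 D5174 (iv D3872) (iv F6315)
def n5175 : Q := act 4 n3871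
theorem D5175 : act 4 n3871 = n5175 := rfl
theorem F8488 : act 1 n5175 = n4808 := d7_1 D5175 (iv D4808) (iv F6316)
theorem F8489 : act 2 n5175 = n3873 := d10_1 D5175 (iv D3873) (iv F6317)
def n5176 : Q := act 4 n3872
theorem D5176 : act 4 n3872 = n5176 := rfl
theorem F8490 : act 1 n5176 = n3879 := d7_1 D5176 (iv D3879) (iv F6318)
theorem F8491 : act 5 n5176 = n3873 := d14_2 D3872 D5176 (iv D3873) (iv D2862) D2861
def n5177 : Q := act 3 n3873
theorem D5177 : act 3 n3873 = n5177 := rfl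
theorem F8492 : act 1 n5177 = n3880 := d6_1 D5177 (iv D3880) (iv F6320)
theorem F8493 : act 4 n5177 = n3874 := d12_2 D3873 D5177 (iv D3874) (iv D2863) (iv F4629)
def n5178 : Q := act 2 n3874
theorem D5178 : act 2 n3874 = n5178 := rfl
theorem F8494 : act 5 n5178 = n3891 := d11_2 (iv F6322) D5178 (iv D3891)
def n5179 : Q := act 4 n3875
theorem D5179 : act 4 n3875 = n5179 := rfl
theorem F8495 : act 0 n5179 = n3876 := d3_1 D5179 (iv D3876) D3875
def n5180 : Q := act 3 n3876
theorem D5180 : act 3 n3876 = n5180 := rfl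
theorem F8496 : act 1 n5180 = n3877 := d6_1 D5180 (iv D3877) (iv F6325)
theorem F8497 : act 4 n5180 = n4810 := d12_2 D3876 D5180 (iv D4810) (iv D3581) (iv F4632)
def n5181 : Q := act 5 n3876
theorem D5181 : act 5 n3876 = n5181 := rfl
theorem F8498 : act 1 n5181 = n3878 := d8_1 D5181 (iv D3878) (iv F6325)
theorem F8499 : act 4 n5181 = n4809 := d14_1 D5181 (iv D4809) (iv D3580) (iv F4633) D3876
def n5182 : Q := act 1 n3881
theorem D5182 : act 1 n3881 = n5182 := rfl
theorem F8500 : act 5 n5182 = n3892 := d8_2 (iv F6332) D5182 (iv D3892)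
def n5183 : Q := act 3 n3882
theorem D5183 : act 3 n3882 = n5183 := rfl
theorem F8501 : act 1 n5183 = n3883 := d6_1 D5183 (iv D3883) D3882
def n5184 : Q := act 4 n3882
theorem D5184 : act 4 n3882 = n5184 := rfl
theorem F8502 : act 1 n5184 = n3884 := d7_1 D5184 (iv D3884) D3882
def n5185 : Q := act 4 n3883
theorem D5185 : act 4 n3883 = n5185 := rfl
theorem F8503 : act 0 n5185 = n3888 := d3_1 D5185 (iv D3888) (iv F6333)
def n5186 : Q := act 3 n3884
theorem D5186 : act 3 n3884 = n5186 := rfl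
theorem F8504 : act 0 n5186 = n3889 := d2_1 D5186 (iv D3889) (iv F6334)
def n5187 : Q := act 5 n3884
theorem D5187 : act 5 n3884 = n5187 := rfl
theorem F8505 : act 0 n5187 = n3890 := d4_1 D5187 (iv D3890) (iv F6334)
theorem F8506 : act 2 n5187 = n3885 := d11_1 D5187 (iv D3885) (iv F6335)
def n5188 : Q := act 2 n3886
theorem D5188 : act 2 n3886 = n5188 := rfl
theorem F8507 : act 0 n5188 = n3891 := d1_1 D5188 (iv D3891) (iv F6337)
def n5189 : Q := act 1 n3887
theorem D5189 : act 1 n3887 = n5189 := rfl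
def n5190 : Q := act 4 n3887
theorem D5190 : act 4 n3887 = n5190 := rfl
theorem F8508 : act 2 n5190 = n3888 := d10_1 D5190 (iv D3888) D3887
def n5191 : Q := act 3 n3888
theorem D5191 : act 3 n3888 = n5191 := rfl
theorem F8509 : act 4 n5191 = n3889 := d12_2 D3888 D5191 (iv D3889) (iv D2873) D2872
def n5192 : Q := act 5 n3888
theorem D5192 : act 5 n3888 = n5192 := rfl
def n5193 : Q := act 2 n3889
theorem D5193 : act 2 n3889 = n5193 := rfl
def n5194 : Q := act 5 n3889
theorem D5194 : act 5 n3889 = n5194 := rfl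
theorem F8510 : act 3 n5194 = n3890 := d13_1 D5194 (iv D3890) D3889
def n5195 : Q := act 1 n3891
theorem D5195 : act 1 n3891 = n5195 := rfl
theorem F8511 : act 2 n5195 = n3892 := d5_2 D3891 D5195 (iv D3892) (iv D2876) (iv F4643)
def n5196 : Q := act 3 n3891
theorem D5196 : act 3 n3891 = n5196 := rfl
def n5197 : Q := act 0 n3892
theorem D5197 : act 0 n3892 = n5197 := rfl
def n5198 : Q := act 3 n3892
theorem D5198 : act 3 n3892 = n5198 := rfl
theorem F8512 : act 1 n5198 = n3893 := d6_1 D5198 (iv D3893) D3892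
def n5199 : Q := act 4 n3894
theorem D5199 : act 4 n3894 = n5199 := rfl
theorem F8513 : act 0 n5199 = n3895 := d3_1 D5199 (iv D3895) D3894
theorem F8514 : act 1 n5199 = n3899 := d7_1 D5199 (iv D3899) (iv F6340)
theorem F8515 : act 2 n5199 = n5102 := d10_1 D5199 (iv D5102) (iv F6341)
def n5200 : Q := act 3 n3895
theorem D5200 : act 3 n3895 = n5200 := rfl
theorem F8516 : act 1 n5200 = n3896 := d6_1 D5200 (iv D3896) (iv F6344)
theorem F8517 : act 4 n5200 = n4748 := d12_2 D3895 D5200 (iv D4748) (iv D3529) (iv F4644)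
def n5201 : Q := act 5 n3895
theorem D5201 : act 5 n3895 = n5201 := rfl
theorem F8518 : act 1 n5201 = n3897 := d8_1 D5201 (iv D3897) (iv F6344)
def n5202 : Q := act 2 n3896
theorem D5202 : act 2 n3896 = n5202 := rfl
theorem F8519 : act 0 n5202 = n3906 := d1_1 D5202 (iv D3906) (iv F6345)
theorem F8520 : act 4 n5202 = n4750 := d10_2 (iv F6346) D5202 (iv D4750)
def n5203 : Q := act 5 n3896
theorem D5203 : act 5 n3896 = n5203 := rfl
theorem F8521 : act 0 n5203 = n3907 := d4_1 D5203 (iv D3907) (iv F6345)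
theorem F8522 : act 3 n5203 = n3897 := d13_1 D5203 (iv D3897) D3896
def n5204 : Q := act 4 n3898
theorem D5204 : act 4 n3898 = n5204 := rfl
theorem F8523 : act 0 n5204 = n3901 := d3_1 D5204 (iv D3901) (iv F6349)
theorem F8524 : act 1 n5204 = n4747 := d7_1 D5204 (iv D4747) (iv F6350)
theorem F8525 : act 2 n5204 = n4707 := d10_1 D5204 (iv D4707) (iv F6352)
def n5205 : Q := act 3 n3899
theorem D5205 : act 3 n3899 = n5205 := rfl
theorem F8526 : act 0 n5205 = n3902 := d2_1 D5205 (iv D3902) (iv F6353)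
def n5206 : Q := act 5 n3899
theorem D5206 : act 5 n3899 = n5206 := rfl
theorem F8527 : act 0 n5206 = n3903 := d4_1 D5206 (iv D3903) (iv F6353)
theorem F8528 : act 2 n5206 = n3909 := d11_1 D5206 (iv D3909) (iv F6354)
theorem F8529 : act 4 n5206 = n5138 := d14_1 D5206 (iv D5138) (iv D3845) (iv F4649) D3899
def n5207 : Q := act 4 n3900
theorem D5207 : act 4 n3900 = n5207 := rfl
theorem F8530 : act 0 n5207 = n4707 := d3_1 D5207 (iv D4707) (iv F6355)
theorem F8531 : act 1 n5207 = n4705 := d7_1 D5207 (iv D4705) (iv F6356)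
theorem F8532 : act 2 n5207 = n3901 := d10_1 D5207 (iv D3901) D3900
def n5208 : Q := act 3 n3901
theorem D5208 : act 3 n3901 = n5208 := rfl
theorem F8533 : act 1 n5208 = n3904 := d6_1 D5208 (iv D3904) (iv F6359)
theorem F8534 : act 4 n5208 = n3902 := d12_2 D3901 D5208 (iv D3902) (iv D2882) D2881
def n5209 : Q := act 5 n3901
theorem D5209 : act 5 n3901 = n5209 := rfl
theorem F8535 : act 1 n5209 = n3905 := d8_1 D5209 (iv D3905) (iv F6359)
theorem F8536 : act 4 n5209 = n5141 := d14_1 D5209 (iv D5141) (iv D3848) (iv F4651) D3901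
def n5210 : Q := act 2 n3902
theorem D5210 : act 2 n3902 = n5210 := rfl
def n5211 : Q := act 5 n3902
theorem D5211 : act 5 n3902 = n5211 := rfl
theorem F8537 : act 1 n5211 = n3907 := d8_1 D5211 (iv D3907) (iv F6360)
theorem F8538 : act 3 n5211 = n3903 := d13_1 D5211 (iv D3903) D3902
def n5212 : Q := act 2 n3904
theorem D5212 : act 2 n3904 = n5212 := rfl
theorem F8539 : act 0 n5212 = n4750 := d1_1 D5212 (iv D4750) (iv F6364)
theorem F8540 : act 4 n5212 = n3906 := d10_2 (iv F6365) D5212 (iv D3906)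
def n5213 : Q := act 5 n3904
theorem D5213 : act 5 n3904 = n5213 := rfl
theorem F8541 : act 0 n5213 = n4751 := d4_1 D5213 (iv D4751) (iv F6364)
theorem F8542 : act 3 n5213 = n3905 := d13_1 D5213 (iv D3905) D3904
def n5214 : Q := act 1 n3906
theorem D5214 : act 1 n3906 = n5214 := rfl
def n5215 : Q := act 3 n3906
theorem D5215 : act 3 n3906 = n5215 := rfl
theorem F8543 : act 2 n5215 = n4355 := d15_2 D3906 D5215 F7123 (iv F5966) F5967 (iv F6348) (iv F8522) (iv D5203) F6345
theorem F8544 : act 5 n5215 = n4354 := d15_8 (iv D4908) (iv D3665) F4363 F3207 (iv F3402) D2884 D3906 D5215 (iv F8028)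
def n5216 : Q := act 5 n3906
theorem D5216 : act 5 n3906 = n5216 := rfl
theorem F8545 : act 2 n5216 = n3907 := d11_1 D5216 (iv D3907) D3906
theorem F8546 : act 3 n5216 = n4354 := d13_1 D5216 (iv F8544) (iv D5215)
def n5217 : Q := act 4 n3907
theorem D5217 : act 4 n3907 = n5217 := rfl
def n5218 : Q := act 2 n3908
theorem D5218 : act 2 n3908 = n5218 := rfl
theorem F8547 : act 0 n5218 = n3910 := d1_1 D5218 (iv D3910) (iv F6369)
theorem F8548 : act 4 n5218 = n5035 := d10_2 (iv F6371) D5218 (iv D5035)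
def n5219 : Q := act 5 n3908
theorem D5219 : act 5 n3908 = n5219 := rfl
theorem F8549 : act 0 n5219 = n3911 := d4_1 D5219 (iv D3911) (iv F6369)
theorem F8550 : act 1 n5219 = n5094 := d8_1 D5219 (iv D5094) (iv F6370)
theorem F8551 : act 3 n5219 = n3909 := d13_1 D5219 (iv D3909) D3908
def n5220 : Q := act 1 n3910
theorem D5220 : act 1 n3910 = n5220 := rfl
theorem F8552 : act 2 n5220 = n3912 := d5_2 D3910 D5220 (iv D3912) (iv D2889) (iv F4659)
theorem F8553 : act 4 n5220 = n5036 := d7_2 (iv F6375) D5220 (iv D5036)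
def n5221 : Q := act 3 n3910
theorem D5221 : act 3 n3910 = n5221 := rfl
def n5222 : Q := act 5 n3910
theorem D5222 : act 5 n3910 = n5222 := rfl
theorem F8554 : act 2 n5222 = n3911 := d11_1 D5222 (iv D3911) D3910
def n5223 : Q := act 4 n3911
theorem D5223 : act 4 n3911 = n5223 := rfl
theorem F8555 : act 1 n5223 = n3915 := d7_1 D5223 (iv D3915) (iv F6376)
theorem F8556 : act 3 n5223 = n4829 := d12_1 D5223 F7888 F5961 (iv F4662) (iv F6377)
theorem F8557 : act 5 n5223 = n4828 := d14_2 D3911 D5223 F7885 F5964 (iv F4660)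
def n5224 : Q := act 0 n3912
theorem D5224 : act 0 n3912 = n5224 := rfl
theorem F8558 : act 1 n5224 = n5099 := d0_2 D3912 D5224 F8359 F6224 (iv F4663)
theorem F8559 : act 4 n5224 = n5038 := d3_2 (iv F6378) D5224 (iv D5038)
def n5225 : Q := act 3 n3912
theorem D5225 : act 3 n3912 = n5225 := rfl
theorem F8560 : act 1 n5225 = n3913 := d6_1 D5225 (iv D3913) D3912
theorem F8561 : act 4 n5225 = n5052 := d12_2 (iv F6378) D5225 (iv D5052) (iv D3778) (iv F6146)
def n5226 : Q := act 5 n3912
theorem D5226 : act 5 n3912 = n5226 := rfl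
theorem F8562 : act 1 n5226 = n3914 := d8_1 D5226 (iv D3914) D3912
theorem F8563 : act 4 n5226 = n5051 := d14_1 D5226 (iv D5051) (iv D3777) (iv F6147) (iv F6378)
def n5227 : Q := act 4 n3916
theorem D5227 : act 4 n3916 = n5227 := rfl
theorem F8564 : act 0 n5227 = n4612 := d3_1 D5227 (iv D4612) (iv F6388)
theorem F8565 : act 1 n5227 = n5139 := d7_1 D5227 (iv D5139) (iv F6389)
theorem F8566 : act 2 n5227 = n3917 := d10_1 D5227 (iv D3917) D3916
def n5228 : Q := act 3 n3917
theorem D5228 : act 3 n3917 = n5228 := rfl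
theorem F8567 : act 0 n5228 = n4615 := d2_1 D5228 (iv D4615) (iv F6392)
theorem F8568 : act 1 n5228 = n3919 := d6_1 D5228 (iv D3919) (iv F6393)
theorem F8569 : act 4 n5228 = n3918 := d12_2 D3917 D5228 (iv D3918) (iv D2892) D2891
def n5229 : Q := act 5 n3917
theorem D5229 : act 5 n3917 = n5229 := rfl
theorem F8570 : act 0 n5229 = n4616 := d4_1 D5229 (iv D4616) (iv F6392)
theorem F8571 : act 1 n5229 = n3920 := d8_1 D5229 (iv D3920) (iv F6393)
theorem F8572 : act 4 n5229 = n4706 := d14_1 D5229 (iv D4706) (iv D3499) (iv F4669) D3917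
def n5230 : Q := act 2 n3918
theorem D5230 : act 2 n3918 = n5230 := rfl
theorem F8573 : act 0 n5230 = n4645 := d1_1 D5230 (iv D4645) (iv F6394)
theorem F8574 : act 1 n5230 = n4416 := d5_1 D5230 (iv D4416) F5333 (iv F4677) (iv F6395)
theorem F8575 : act 5 n5230 = n4388 := d11_2 (iv F6396) D5230 (iv D4388)
def n5231 : Q := act 5 n3919
theorem D5231 : act 5 n3919 = n5231 := rfl
theorem F8576 : act 0 n5231 = n3926 := d4_1 D5231 (iv D3926) (iv F6397)
theorem F8577 : act 2 n5231 = n4418 := d11_1 D5231 (iv D4418) F6399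
theorem F8578 : act 3 n5231 = n3920 := d13_1 D5231 (iv D3920) D3919
theorem F8579 : act 4 n5231 = n4389 := d14_1 D5231 (iv D4389) F5310 (iv F4676) (iv F6398)
def n5232 : Q := act 4 n3921
theorem D5232 : act 4 n3921 = n5232 := rfl
theorem F8580 : act 0 n5232 = n3922 := d3_1 D5232 (iv D3922) D3921
theorem F8581 : act 1 n5232 = n5136 := d7_1 D5232 (iv D5136) (iv F6402)
theorem F8582 : act 2 n5232 = n4566 := d10_1 D5232 (iv D4566) (iv F6403)
def n5233 : Q := act 3 n3922
theorem D5233 : act 3 n3922 = n5233 := rfl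
theorem F8583 : act 1 n5233 = n3923 := d6_1 D5233 (iv D3923) (iv F6406)
def n5234 : Q := act 5 n3922
theorem D5234 : act 5 n3922 = n5234 := rfl
theorem F8584 : act 1 n5234 = n3924 := d8_1 D5234 (iv D3924) (iv F6406)
theorem F8585 : act 2 n5234 = n4567 := d11_1 D5234 (iv D4567) (iv F6407)
theorem F8586 : act 4 n5234 = n4749 := d14_1 D5234 (iv D4749) (iv D3529) (iv F4679) D3922
def n5235 : Q := act 2 n3923
theorem D5235 : act 2 n3923 = n5235 := rfl
def n5236 : Q := act 5 n3923
theorem D5236 : act 5 n3923 = n5236 := rfl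
theorem F8587 : act 3 n5236 = n3924 := d13_1 D5236 (iv D3924) D3923
def n5237 : Q := act 1 n3925
theorem D5237 : act 1 n3925 = n5237 := rfl
theorem F8588 : act 2 n5237 = n4688 := d5_2 D3925 D5237 F7645 F5644 (iv F4681)
theorem F8589 : act 4 n5237 = n3927 := d7_2 (iv F6411) D5237 (iv D3927)
def n5238 : Q := act 3 n3925
theorem D5238 : act 3 n3925 = n5238 := rfl
theorem F8590 : act 0 n5238 = n4413 := d2_1 D5238 F7198 (iv F6410)
theorem F8591 : act 4 n5238 = n4402 := d12_2 (iv F6411) D5238 (iv D4402) F5325 (iv F4687)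
def n5239 : Q := act 5 n3925
theorem D5239 : act 5 n3925 = n5239 := rfl
theorem F8592 : act 0 n5239 = n4418 := d4_1 D5239 (iv D4418) (iv F6410)
theorem F8593 : act 2 n5239 = n3926 := d11_1 D5239 (iv D3926) D3925
theorem F8594 : act 4 n5239 = n4397 := d14_1 D5239 (iv D4397) F5319 (iv F4686) (iv F6411)
def n5240 : Q := act 0 n3927
theorem D5240 : act 0 n3927 = n5240 := rfl
theorem F8595 : act 1 n5240 = n4415 := d0_2 D3927 D5240 F7200 F5333 (iv F4685)
theorem F8596 : act 2 n5240 = n4687 := d1_2 (iv F6415) D5240 (iv D4687)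
theorem F8597 : act 3 n5240 = n4404 := d2_2 (iv F6416) D5240 (iv D4404)
theorem F8598 : act 5 n5240 = n4398 := d4_2 (iv F6417) D5240 (iv D4398)
def n5241 : Q := act 3 n3928
theorem D5241 : act 3 n3928 = n5241 := rfl
theorem F8599 : act 0 n5241 = n3929 := d2_1 D5241 (iv D3929) D3928
theorem F8600 : act 1 n5241 = n3938 := d6_1 D5241 (iv D3938) (iv F6418)
theorem F8601 : act 5 n4462 = n5241 := d4_0 F8599 (iv F6422) D4462
def n5242 : Q := act 5 n3928
theorem D5242 : act 5 n3928 = n5242 := rfl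
theorem F8602 : act 0 n5242 = n3930 := d4_1 D5242 (iv D3930) D3928
theorem F8603 : act 1 n5242 = n3939 := d8_1 D5242 (iv D3939) (iv F6418)
theorem F8604 : act 2 n5242 = n3987 := d11_1 D5242 (iv D3987) (iv F6419)
theorem F8605 : act 3 n5242 = n4462 := d13_1 D5242 F8601 (iv D5241)
theorem F8606 : act 4 n5242 = n4240 := d14_1 D5242 (iv D4240) (iv D3146) F4702 (iv F6420)
def n5243 : Q := act 2 n3929
theorem D5243 : act 2 n3929 = n5243 := rfl
theorem F8607 : act 1 n5243 = n4458 := d5_1 D5243 F7246 F5360 (iv F4691) (iv F6421)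
theorem F8608 : act 5 n5243 = n4455 := d11_2 F6422 D5243 F7244
def n5244 : Q := act 4 n3929
theorem D5244 : act 4 n3929 = n5244 := rfl
theorem F8609 : act 1 n5244 = n3931 := d7_1 D5244 (iv D3931) (iv F6421)
theorem F8610 : act 3 n5244 = n3934 := d12_1 D5244 (iv D3934) (iv D2905) (iv F4689) D3929
def n5245 : Q := act 4 n3930
theorem D5245 : act 4 n3930 = n5245 := rfl
theorem F8611 : act 0 n5245 = n4240 := d3_1 D5245 (iv F8606) F8602
theorem F8612 : act 1 n5245 = n3932 := d7_1 D5245 (iv D3932) (iv F6423)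
theorem F8613 : act 2 n5245 = n3991 := d10_1 D5245 (iv D3991) (iv F6424)
theorem F8614 : act 5 n5245 = n3935 := d14_2 D3930 D5245 (iv D3935) (iv D2906) (iv F4689)
def n5246 : Q := act 5 n3931
theorem D5246 : act 5 n3931 = n5246 := rfl
theorem F8615 : act 0 n5246 = n3945 := d4_1 D5246 (iv D3945) (iv F6426)
theorem F8616 : act 2 n5246 = n4466 := d11_1 D5246 F7252 (iv F6427)
theorem F8617 : act 3 n5246 = n3936 := d13_1 D5246 (iv D3936) (iv F6428)
theorem F8618 : act 4 n5246 = n4465 := d14_1 D5246 (iv D4465) (iv D3316) F4692 D3931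
def n5247 : Q := act 3 n3932
theorem D5247 : act 3 n3932 = n5247 := rfl
theorem F8619 : act 0 n5247 = n3947 := d2_1 D5247 (iv D3947) (iv F6429)
theorem F8620 : act 4 n5247 = n4464 := d12_2 D3932 D5247 (iv D4464) (iv D3316) (iv F4695)
theorem F8621 : act 5 n5247 = n3937 := d13_2 (iv F6431) D5247 (iv D3937)
def n5248 : Q := act 4 n3933
theorem D5248 : act 4 n3933 = n5248 := rfl
theorem F8622 : act 0 n5248 = n3934 := d3_1 D5248 (iv D3934) (iv F6432)
theorem F8623 : act 1 n5248 = n3948 := d7_1 D5248 (iv D3948) (iv F6433)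
def n5249 : Q := act 5 n3934
theorem D5249 : act 5 n3934 = n5249 := rfl
theorem F8624 : act 1 n5249 = n3936 := d8_1 D5249 (iv D3936) (iv F6435)
def n5250 : Q := act 3 n3935
theorem D5250 : act 3 n3935 = n5250 := rfl
theorem F8625 : act 0 n5250 = n4239 := d2_1 D5250 (iv D4239) (iv F6436)
theorem F8626 : act 1 n5250 = n3937 := d6_1 D5250 (iv D3937) (iv F6437)
def n5251 : Q := act 2 n3937
theorem D5251 : act 2 n3937 = n5251 := rfl
theorem F8627 : act 0 n5251 = n3957 := d1_1 D5251 (iv D3957) (iv F6440)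
theorem F8628 : act 3 n5251 = n4468 := d15_1 D5251 (iv D4468) (iv D3319) F3931 (iv F3440) (iv F4724) D3947 F6457 (iv F6440)
def n5252 : Q := act 2 n3938
theorem D5252 : act 2 n3938 = n5252 := rfl
theorem F8629 : act 0 n5252 = n3940 := d1_1 D5252 (iv D3940) (iv F6441)
def n5253 : Q := act 4 n3938
theorem D5253 : act 4 n3938 = n5253 := rfl
theorem F8630 : act 0 n5253 = n3941 := d3_1 D5253 (iv D3941) (iv F6441)
theorem F8631 : act 3 n5253 = n3948 := d12_1 D5253 (iv D3948) (iv D2916) (iv F4711) D3938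
def n5254 : Q := act 5 n3938
theorem D5254 : act 5 n3938 = n5254 := rfl
theorem F8632 : act 0 n5254 = n3942 := d4_1 D5254 (iv D3942) (iv F6441)
theorem F8633 : act 1 n5254 = n4462 := d8_1 D5254 F8601 F8600
theorem F8634 : act 3 n5254 = n3939 := d13_1 D5254 (iv D3939) D3938
def n5255 : Q := act 1 n3940
theorem D5255 : act 1 n3940 = n5255 := rfl
theorem F8635 : act 2 n5255 = n3943 := d5_2 D3940 D5255 (iv D3943) (iv D2912) (iv F4712)
theorem F8636 : act 5 n4446 = n5255 := d11_0 F8635 F6450 D4446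
def n5256 : Q := act 3 n3940
theorem D5256 : act 3 n3940 = n5256 := rfl
def n5257 : Q := act 4 n3940
theorem D5257 : act 4 n3940 = n5257 := rfl
theorem F8637 : act 2 n5257 = n3941 := d10_1 D5257 (iv D3941) D3940
def n5258 : Q := act 5 n3940
theorem D5258 : act 5 n3940 = n5258 := rfl
theorem F8638 : act 1 n5258 = n4446 := d8_1 D5258 F8636 (iv D5255)
theorem F8639 : act 2 n5258 = n3942 := d11_1 D5258 (iv D3942) D3940
def n5259 : Q := act 5 n3941
theorem D5259 : act 5 n3941 = n5259 := rfl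
theorem F8640 : act 1 n5259 = n3945 := d8_1 D5259 (iv D3945) (iv F6445)
theorem F8641 : act 3 n5259 = n3951 := d13_1 D5259 (iv D3951) (iv F6446)
def n5260 : Q := act 4 n3942
theorem D5260 : act 4 n3942 = n5260 := rfl
theorem F8642 : act 1 n5260 = n3946 := d7_1 D5260 (iv D3946) (iv F6447)
theorem F8643 : act 3 n5260 = n4256 := d12_1 D5260 (iv D4256) F5161 (iv F4715) (iv F6448)
def n5261 : Q := act 0 n3943
theorem D5261 : act 0 n3943 = n5261 := rfl
theorem F8644 : act 1 n5261 = n4453 := d0_2 D3943 D5261 F7240 F5360 (iv F4716)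
theorem F8645 : act 3 n5261 = n4445 := d2_2 (iv F6449) D5261 F7232
theorem F8646 : act 5 n5261 = n4444 := d4_2 (iv F6450) D5261 F7230
def n5262 : Q := act 4 n3943
theorem D5262 : act 4 n3943 = n5262 := rfl
theorem F8647 : act 1 n5262 = n3944 := d7_1 D5262 (iv D3944) D3943
def n5263 : Q := act 3 n3944
theorem D5263 : act 3 n3944 = n5263 := rfl
theorem F8648 : act 0 n5263 = n4467 := d2_1 D5263 (iv D4467) (iv F6451)
theorem F8649 : act 4 n5263 = n4450 := d12_2 D3944 D5263 (iv D4450) (iv D3308) (iv F4717)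
def n5264 : Q := act 5 n3944
theorem D5264 : act 5 n3944 = n5264 := rfl
theorem F8650 : act 0 n5264 = n4466 := d4_1 D5264 F7252 (iv F6451)
theorem F8651 : act 2 n5264 = n3945 := d11_1 D5264 (iv D3945) (iv F6452)
theorem F8652 : act 4 n5264 = n4449 := d14_1 D5264 (iv D4449) (iv D3307) F4718 D3944
def n5265 : Q := act 4 n3945
theorem D5265 : act 4 n3945 = n5265 := rfl
theorem F8653 : act 0 n5265 = n4465 := d3_1 D5265 (iv F8618) F8615
theorem F8654 : act 2 n5265 = n4449 := d10_1 D5265 (iv F8652) F8651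
theorem F8655 : act 5 n5265 = n3946 := d14_2 D3945 D5265 (iv D3946) (iv D2914) D2913
def n5266 : Q := act 3 n3946
theorem D5266 : act 3 n3946 = n5266 := rfl
theorem F8656 : act 0 n5266 = n4464 := d2_1 D5266 (iv D4464) (iv F6454)
theorem F8657 : act 1 n5266 = n4256 := d6_1 D5266 (iv F8643) F8642
theorem F8658 : act 4 n5266 = n3947 := d12_2 D3946 D5266 (iv D3947) (iv D2915) (iv F4722)
def n5267 : Q := act 2 n3947
theorem D5267 : act 2 n3947 = n5267 := rfl
theorem F8659 : act 5 n5267 = n3957 := d11_2 (iv F6457) D5267 (iv D3957)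
def n5268 : Q := act 5 n3948
theorem D5268 : act 5 n3948 = n5268 := rfl
theorem F8660 : act 0 n5268 = n3951 := d4_1 D5268 (iv D3951) (iv F6458)
theorem F8661 : act 2 n5268 = n4221 := d11_1 D5268 (iv D4221) (iv F6459)
theorem F8662 : act 4 n5268 = n4242 := d14_1 D5268 (iv D4242) (iv D3147) (iv F4727) D3948
def n5269 : Q := act 4 n3949
theorem D5269 : act 4 n3949 = n5269 := rfl
theorem F8663 : act 1 n5269 = n3950 := d7_1 D5269 (iv D3950) D3949
theorem F8664 : act 2 n5269 = n3952 := d10_1 D5269 (iv D3952) (iv F6460)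
def n5270 : Q := act 3 n3950
theorem D5270 : act 3 n3950 = n5270 := rfl
theorem F8665 : act 0 n5270 = n4220 := d2_1 D5270 (iv D4220) (iv F6463)
theorem F8666 : act 4 n5270 = n4210 := d12_2 D3950 D5270 (iv D4210) (iv D3122) (iv F4731)
def n5271 : Q := act 5 n3950
theorem D5271 : act 5 n3950 = n5271 := rfl
theorem F8667 : act 0 n5271 = n4221 := d4_1 D5271 (iv D4221) (iv F6463)
theorem F8668 : act 2 n5271 = n3951 := d11_1 D5271 (iv D3951) (iv F6464)
theorem F8669 : act 4 n5271 = n4250 := d14_1 D5271 (iv D4250) (iv D3152) (iv F4730) D3950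
def n5272 : Q := act 3 n3952
theorem D5272 : act 3 n3952 = n5272 := rfl
theorem F8670 : act 1 n5272 = n3953 := d6_1 D5272 (iv D3953) (iv F6467)
def n5273 : Q := act 5 n3952
theorem D5273 : act 5 n3952 = n5273 := rfl
theorem F8671 : act 1 n5273 = n3954 := d8_1 D5273 (iv D3954) (iv F6467)
def n5274 : Q := act 2 n3953
theorem D5274 : act 2 n3953 = n5274 := rfl
def n5275 : Q := act 5 n3953
theorem D5275 : act 5 n3953 = n5275 := rfl
theorem F8672 : act 3 n5275 = n3954 := d13_1 D5275 (iv D3954) D3953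
def n5276 : Q := act 3 n3955
theorem D5276 : act 3 n3955 = n5276 := rfl
theorem F8673 : act 1 n5276 = n4252 := d6_1 D5276 F6968 (iv F6469)
theorem F8674 : act 5 n5276 = n3956 := d13_2 (iv F6470) D5276 (iv D3956)
def n5277 : Q := act 2 n3956
theorem D5277 : act 2 n3956 = n5277 := rfl
theorem F8675 : act 4 n5277 = n3957 := d10_2 (iv F6472) D5277 (iv D3957)
def n5278 : Q := act 1 n3957
theorem D5278 : act 1 n3957 = n5278 := rfl
theorem F8676 : act 2 n5278 = n4253 := d5_2 D3957 D5278 (iv D4253) (iv D3155) (iv F4735)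
def n5279 : Q := act 3 n3957
theorem D5279 : act 3 n3957 = n5279 := rfl
theorem F8677 : act 0 n5279 = n4468 := d2_1 D5279 (iv F8628) F8627
theorem F8678 : act 2 n5279 = n4450 := d15_2 D3957 D5279 (iv D4450) F5355 (iv F4698) (iv F6430) D5247 F8621 F6440
def n5280 : Q := act 0 n3958
theorem D5280 : act 0 n3958 = n5280 := rfl
theorem F8679 : act 2 n5280 = n3971 := d1_2 (iv F6473) D5280 (iv D3971)
theorem F8680 : act 4 n5280 = n3960 := d3_2 (iv F6474) D5280 (iv D3960)
theorem F8681 : act 5 n5280 = n4454 := d4_2 (iv F6475) D5280 F7242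
def n5281 : Q := act 3 n3958
theorem D5281 : act 3 n3958 = n5281 := rfl
theorem F8682 : act 1 n5281 = n3959 := d6_1 D5281 (iv D3959) D3958
theorem F8683 : act 5 n5281 = n4461 := d13_2 (iv F6475) D5281 (iv D4461)
def n5282 : Q := act 2 n3959
theorem D5282 : act 2 n3959 = n5282 := rfl
theorem F8684 : act 5 n5282 = n4468 := d11_2 (iv F6476) D5282 (iv D4468)
def n5283 : Q := act 2 n3961
theorem D5283 : act 2 n3961 = n5283 := rfl
theorem F8685 : act 0 n5283 = n3962 := d1_1 D5283 (iv D3962) (iv F6479)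
theorem F8686 : act 3 n5283 = n4102 := d15_1 D5283 (iv D4102) (iv D3039) F3617 (iv F3474) (iv F4738) (iv F6255) F6256 (iv F6479)
def n5284 : Q := act 4 n3961
theorem D5284 : act 4 n3961 = n5284 := rfl
theorem F8687 : act 0 n5284 = n3963 := d3_1 D5284 (iv D3963) (iv F6479)
theorem F8688 : act 3 n5284 = n4452 := d12_1 D5284 (iv D4452) (iv D3309) (iv F4741) D3961
def n5285 : Q := act 3 n3962
theorem D5285 : act 3 n3962 = n5285 := rfl
theorem F8689 : act 0 n5285 = n4102 := d2_1 D5285 (iv F8686) F8685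
theorem F8690 : act 2 n5285 = n4100 := d15_2 D3962 D5285 (iv D4100) F4963 (iv F4761) (iv F6477) (iv F8396) F8397 F6479
def n5286 : Q := act 4 n3962
theorem D5286 : act 4 n3962 = n5286 := rfl
theorem F8691 : act 2 n5286 = n3963 := d10_1 D5286 (iv D3963) D3962
def n5287 : Q := act 5 n3963
theorem D5287 : act 5 n3963 = n5287 := rfl
theorem F8692 : act 1 n5287 = n3964 := d8_1 D5287 (iv D3964) (iv F6480)
theorem F8693 : act 3 n5287 = n4459 := d13_1 D5287 (iv D4459) (iv F6481)
def n5288 : Q := act 1 n3965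
theorem D5288 : act 1 n3965 = n5288 := rfl
theorem F8694 : act 2 n5288 = n4064 := d5_2 D3965 D5288 (iv D4064) (iv D3007) (iv F4745)
theorem F8695 : act 4 n5288 = n4245 := d7_2 (iv F6484) D5288 (iv D4245)
def n5289 : Q := act 3 n3965
theorem D5289 : act 3 n3965 = n5289 := rfl
theorem F8696 : act 0 n5289 = n3968 := d2_1 D5289 (iv D3968) (iv F6483)
def n5290 : Q := act 5 n3965
theorem D5290 : act 5 n3965 = n5290 := rfl
theorem F8697 : act 0 n5290 = n3969 := d4_1 D5290 (iv D3969) (iv F6483)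
theorem F8698 : act 2 n5290 = n3966 := d11_1 D5290 (iv D3966) D3965
theorem F8699 : act 4 n5290 = n4067 := d14_1 D5290 (iv D4067) D4066 (iv F6658) (iv F6484)
def n5291 : Q := act 0 n3967
theorem D5291 : act 0 n3967 = n5291 := rfl
theorem F8700 : act 2 n5291 = n3970 := d1_2 (iv F6489) D5291 (iv D3970)
theorem F8701 : act 4 n5291 = n4257 := d3_2 (iv F6490) D5291 (iv D4257)
theorem F8702 : act 5 n5291 = n4060 := d4_2 F6491 D5291 F6646
def n5292 : Q := act 3 n3967
theorem D5292 : act 3 n3967 = n5292 := rfl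
theorem F8703 : act 1 n5292 = n3968 := d6_1 D5292 (iv D3968) D3967
theorem F8704 : act 5 n5292 = n4062 := d13_2 F6491 D5292 (iv D4062)
def n5293 : Q := act 2 n3968
theorem D5293 : act 2 n3968 = n5293 := rfl
def n5294 : Q := act 4 n3968
theorem D5294 : act 4 n3968 = n5294 := rfl
theorem F8705 : act 3 n5294 = n4260 := d12_1 D5294 (iv D4260) (iv D3158) (iv F4750) D3968
def n5295 : Q := act 5 n3968
theorem D5295 : act 5 n3968 = n5295 := rfl
theorem F8706 : act 1 n5295 = n4062 := d8_1 D5295 (iv F8704) F8703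
theorem F8707 : act 3 n5295 = n3969 := d13_1 D5295 (iv D3969) D3968
def n5296 : Q := act 1 n3972
theorem D5296 : act 1 n3972 = n5296 := rfl
theorem F8708 : act 0 n5296 = n4090 := d0_1 D5296 (iv D4090) F4946 (iv F4766) (iv F6503)
theorem F8709 : act 2 n5296 = n4084 := d5_2 D3972 D5296 (iv D4084) (iv D3026) (iv F4764)
theorem F8710 : act 5 n5296 = n4096 := d8_2 (iv F6504) D5296 F6714
theorem F8711 : act 3 n4144 = n5296 := d13_3 F8710 (iv F8350) F8351
def n5297 : Q := act 3 n3972
theorem D5297 : act 3 n3972 = n5297 := rfl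
theorem F8712 : act 0 n5297 = n3974 := d2_1 D5297 (iv D3974) (iv F6503)
theorem F8713 : act 1 n5297 = n4144 := d6_1 D5297 F8711 (iv D5296)
theorem F8714 : act 5 n5297 = n4100 := d13_2 (iv F6504) D5297 (iv D4100)
def n5298 : Q := act 4 n3972
theorem D5298 : act 4 n3972 = n5298 := rfl
theorem F8715 : act 0 n5298 = n3975 := d3_1 D5298 (iv D3975) (iv F6503)
theorem F8716 : act 2 n5298 = n3973 := d10_1 D5298 (iv D3973) D3972
theorem F8717 : act 5 n5298 = n4471 := d14_2 (iv F6504) D5298 (iv D4471) F6723 (iv D4101)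
def n5299 : Q := act 2 n3974
theorem D5299 : act 2 n3974 = n5299 := rfl
theorem F8718 : act 1 n5299 = n4141 := d5_1 D5299 (iv D4141) F5005 (iv F4952) (iv F6509)
theorem F8719 : act 5 n5299 = n4102 := d11_2 (iv F6510) D5299 (iv D4102)
def n5300 : Q := act 4 n3974
theorem D5300 : act 4 n3974 = n5300 := rfl
theorem F8720 : act 1 n5300 = n4093 := d7_1 D5300 (iv D4093) (iv F6509)
def n5301 : Q := act 3 n3975
theorem D5301 : act 3 n3975 = n5301 := rfl
theorem F8721 : act 1 n5301 = n4094 := d6_1 D5301 (iv D4094) (iv F6511)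
theorem F8722 : act 5 n5301 = n4474 := d13_2 (iv F6513) D5301 (iv D4474)
def n5302 : Q := act 1 n3976
theorem D5302 : act 1 n3976 = n5302 := rfl
theorem F8723 : act 0 n5302 = n4084 := d0_1 D5302 (iv D4084) F4943 (iv F4774) (iv F6514)
theorem F8724 : act 2 n5302 = n4090 := d5_2 D3976 D5302 (iv D4090) (iv D3030) (iv F4772)
theorem F8725 : act 5 n5302 = n3980 := d8_2 (iv F6515) D5302 (iv D3980)
def n5303 : Q := act 4 n3976
theorem D5303 : act 4 n3976 = n5303 := rfl
theorem F8726 : act 0 n5303 = n3979 := d3_1 D5303 (iv D3979) (iv F6514)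
theorem F8727 : act 2 n5303 = n3977 := d10_1 D5303 (iv D3977) D3976
theorem F8728 : act 5 n5303 = n4479 := d14_2 (iv F6515) D5303 (iv D4479) (iv D3327) (iv F4780)
def n5304 : Q := act 4 n3978
theorem D5304 : act 4 n3978 = n5304 := rfl
theorem F8729 : act 1 n5304 = n4088 := d7_1 D5304 (iv D4088) (iv F6520)
def n5305 : Q := act 3 n3979
theorem D5305 : act 3 n3979 = n5305 := rfl
theorem F8730 : act 1 n5305 = n4089 := d6_1 D5305 (iv D4089) (iv F6522)
theorem F8731 : act 5 n5305 = n4487 := d13_2 (iv F6524) D5305 (iv D4487)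
def n5306 : Q := act 0 n3980
theorem D5306 : act 0 n3980 = n5306 := rfl
theorem F8732 : act 1 n5306 = n3982 := d0_2 D3980 D5306 (iv D3982) (iv D2943) (iv F4779)
theorem F8733 : act 2 n5306 = n4096 := d1_2 (iv F6525) D5306 (iv D4096)
theorem F8734 : act 4 n5306 = n4475 := d3_2 (iv F6526) D5306 (iv D4475)
theorem F8735 : act 5 n5306 = n4084 := d4_2 F8725 D5306 (iv F8723)
def n5307 : Q := act 3 n3980
theorem D5307 : act 3 n3980 = n5307 := rfl
theorem F8736 : act 1 n5307 = n3981 := d6_1 D5307 (iv D3981) D3980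
def n5308 : Q := act 4 n3981
theorem D5308 : act 4 n3981 = n5308 := rfl
theorem F8737 : act 0 n5308 = n3985 := d3_1 D5308 (iv D3985) (iv F6527)
theorem F8738 : act 3 n5308 = n4478 := d12_1 D5308 (iv D4478) (iv D3326) (iv F4780) D3981
def n5309 : Q := act 4 n3983
theorem D5309 : act 4 n3983 = n5309 := rfl
theorem F8739 : act 1 n5309 = n3985 := d7_1 D5309 (iv D3985) (iv F6531)
theorem F8740 : act 3 n5309 = n4482 := d12_1 D5309 (iv D4482) (iv D3330) (iv F4782) D3983
def n5310 : Q := act 1 n3984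
theorem D5310 : act 1 n3984 = n5310 := rfl
def n5311 : Q := act 4 n3984
theorem D5311 : act 4 n3984 = n5311 := rfl
theorem F8741 : act 2 n5311 = n3985 := d10_1 D5311 (iv D3985) D3984
def n5312 : Q := act 5 n3985
theorem D5312 : act 5 n3985 = n5312 := rfl
theorem F8742 : act 3 n5312 = n4485 := d13_1 D5312 (iv D4485) (iv F6533)
def n5313 : Q := act 2 n3986
theorem D5313 : act 2 n3986 = n5313 := rfl
theorem F8743 : act 0 n5313 = n3988 := d1_1 D5313 (iv D3988) (iv F6534)
def n5314 : Q := act 4 n3986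
theorem D5314 : act 4 n3986 = n5314 := rfl
theorem F8744 : act 0 n5314 = n3989 := d3_1 D5314 (iv D3989) (iv F6534)
theorem F8745 : act 1 n5314 = n4015 := d7_1 D5314 (iv D4015) (iv F6535)
theorem F8746 : act 3 n5314 = n3997 := d12_1 D5314 (iv D3997) (iv D2953) (iv F4789) D3986
def n5315 : Q := act 5 n3986
theorem D5315 : act 5 n3986 = n5315 := rfl
theorem F8747 : act 0 n5315 = n3990 := d4_1 D5315 (iv D3990) (iv F6534)
theorem F8748 : act 1 n5315 = n4016 := d8_1 D5315 (iv D4016) (iv F6535)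
theorem F8749 : act 3 n5315 = n3987 := d13_1 D5315 (iv D3987) D3986
def n5316 : Q := act 4 n3987
theorem D5316 : act 4 n3987 = n5316 := rfl
theorem F8750 : act 0 n5316 = n3991 := d3_1 D5316 (iv D3991) (iv F6536)
theorem F8751 : act 1 n5316 = n4017 := d7_1 D5316 (iv D4017) (iv F6537)
theorem F8752 : act 2 n5316 = n4240 := d10_1 D5316 (iv F8606) F8604
theorem F8753 : act 5 n5316 = n3998 := d14_2 D3987 D5316 (iv D3998) (iv D2954) (iv F4789)
def n5317 : Q := act 1 n3988
theorem D5317 : act 1 n3988 = n5317 := rfl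
theorem F8754 : act 2 n5317 = n3992 := d5_2 D3988 D5317 (iv D3992) (iv D2949) (iv F4790)
theorem F8755 : act 5 n4009 = n5317 := d11_0 F8754 F6545 D4009
def n5318 : Q := act 3 n3988
theorem D5318 : act 3 n3988 = n5318 := rfl
def n5319 : Q := act 4 n3988
theorem D5319 : act 4 n3988 = n5319 := rfl
theorem F8756 : act 2 n5319 = n3989 := d10_1 D5319 (iv D3989) D3988
def n5320 : Q := act 5 n3988
theorem D5320 : act 5 n3988 = n5320 := rfl
theorem F8757 : act 1 n5320 = n4009 := d8_1 D5320 F8755 (iv D5317)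
theorem F8758 : act 2 n5320 = n3990 := d11_1 D5320 (iv D3990) D3988
def n5321 : Q := act 5 n3989
theorem D5321 : act 5 n3989 = n5321 := rfl
theorem F8759 : act 1 n5321 = n3994 := d8_1 D5321 (iv D3994) (iv F6538)
theorem F8760 : act 3 n5321 = n3999 := d13_1 D5321 (iv D3999) (iv F6539)
def n5322 : Q := act 4 n3990
theorem D5322 : act 4 n3990 = n5322 := rfl
theorem F8761 : act 1 n5322 = n3995 := d7_1 D5322 (iv D3995) (iv F6540)
def n5323 : Q := act 3 n3991
theorem D5323 : act 3 n3991 = n5323 := rfl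
theorem F8762 : act 1 n5323 = n3996 := d6_1 D5323 (iv D3996) (iv F6542)
theorem F8763 : act 5 n5323 = n4000 := d13_2 (iv F6543) D5323 (iv D4000)
def n5324 : Q := act 0 n3992
theorem D5324 : act 0 n3992 = n5324 := rfl
theorem F8764 : act 1 n5324 = n4025 := d0_2 D3992 D5324 (iv D4025) (iv D2974) (iv F4792)
theorem F8765 : act 3 n5324 = n4008 := d2_2 (iv F6544) D5324 F6577
theorem F8766 : act 5 n5324 = n4007 := d4_2 (iv F6545) D5324 F6576
def n5325 : Q := act 4 n3992
theorem D5325 : act 4 n3992 = n5325 := rfl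
theorem F8767 : act 1 n5325 = n3993 := d7_1 D5325 (iv D3993) D3992
def n5326 : Q := act 3 n3993
theorem D5326 : act 3 n3993 = n5326 := rfl
theorem F8768 : act 0 n5326 = n4027 := d2_1 D5326 (iv D4027) (iv F6546)
theorem F8769 : act 4 n5326 = n4013 := d12_2 D3993 D5326 (iv D4013) (iv D2967) (iv F4793)
def n5327 : Q := act 5 n3993
theorem D5327 : act 5 n3993 = n5327 := rfl
theorem F8770 : act 0 n5327 = n4028 := d4_1 D5327 (iv D4028) (iv F6546)
theorem F8771 : act 2 n5327 = n3994 := d11_1 D5327 (iv D3994) (iv F6547)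
theorem F8772 : act 4 n5327 = n4012 := d14_1 D5327 (iv D4012) (iv D2966) F4794 D3993
def n5328 : Q := act 4 n3994
theorem D5328 : act 4 n3994 = n5328 := rfl
theorem F8773 : act 0 n5328 = n4029 := d3_1 D5328 (iv D4029) (iv F6548)
theorem F8774 : act 2 n5328 = n4012 := d10_1 D5328 (iv F8772) F8771
theorem F8775 : act 3 n5328 = n4136 := d12_1 D5328 (iv D4136) F5002 (iv F4814) (iv F6549)
theorem F8776 : act 5 n5328 = n3995 := d14_2 D3994 D5328 (iv D3995) (iv D2951) D2950
def n5329 : Q := act 3 n3995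
theorem D5329 : act 3 n3995 = n5329 := rfl
theorem F8777 : act 0 n5329 = n4030 := d2_1 D5329 (iv D4030) (iv F6550)
theorem F8778 : act 4 n5329 = n3996 := d12_2 D3995 D5329 (iv D3996) (iv D2952) (iv F4799)
theorem F8779 : act 5 n5329 = n4136 := d13_2 F8776 D5329 (iv F8775)
def n5330 : Q := act 5 n3997
theorem D5330 : act 5 n3997 = n5330 := rfl
theorem F8780 : act 0 n5330 = n3999 := d4_1 D5330 (iv D3999) (iv F6554)
theorem F8781 : act 1 n5330 = n4033 := d8_1 D5330 (iv D4033) (iv F6555)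
theorem F8782 : act 4 n5330 = n4130 := d14_1 D5330 (iv D4130) (iv D3062) F4805 D3997
def n5331 : Q := act 3 n3998
theorem D5331 : act 3 n3998 = n5331 := rfl
theorem F8783 : act 0 n5331 = n4000 := d2_1 D5331 (iv D4000) (iv F6556)
theorem F8784 : act 1 n5331 = n4035 := d6_1 D5331 (iv D4035) (iv F6557)
theorem F8785 : act 4 n5331 = n4129 := d12_2 D3998 D5331 (iv D4129) (iv D3062) (iv F4809)
def n5332 : Q := act 2 n4000
theorem D5332 : act 2 n4000 = n5332 := rfl
theorem F8786 : act 4 n5332 = n4131 := d10_2 (iv F6562) D5332 (iv D4131)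
def n5333 : Q := act 1 n4001
theorem D5333 : act 1 n4001 = n5333 := rfl
theorem F8787 : act 4 n5333 = n4133 := d7_2 (iv F6564) D5333 (iv D4133)
def n5334 : Q := act 3 n4002
theorem D5334 : act 3 n4002 = n5334 := rfl
theorem F8788 : act 0 n5334 = n4003 := d2_1 D5334 (iv D4003) D4002
theorem F8789 : act 1 n5334 = n4426 := d6_1 D5334 (iv D4426) (iv F6565)
theorem F8790 : act 5 n4433 = n5334 := d4_0 F8788 (iv F6568) D4433
def n5335 : Q := act 5 n4002
theorem D5335 : act 5 n4002 = n5335 := rfl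
theorem F8791 : act 0 n5335 = n4004 := d4_1 D5335 (iv D4004) D4002
theorem F8792 : act 1 n5335 = n4427 := d8_1 D5335 (iv D4427) (iv F6565)
theorem F8793 : act 2 n5335 = n4008 := d11_1 D5335 (iv D4008) (iv F6566)
theorem F8794 : act 3 n5335 = n4433 := d13_1 D5335 F8790 (iv D5334)
def n5336 : Q := act 2 n4003
theorem D5336 : act 2 n4003 = n5336 := rfl
theorem F8795 : act 1 n5336 = n4115 := d5_1 D5336 F6740 F4986 (iv F4819) (iv F6567)
theorem F8796 : act 5 n5336 = n4113 := d11_2 F6568 D5336 F6739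
def n5337 : Q := act 4 n4003
theorem D5337 : act 4 n4003 = n5337 := rfl
theorem F8797 : act 1 n5337 = n4005 := d7_1 D5337 (iv D4005) (iv F6567)
def n5338 : Q := act 4 n4004
theorem D5338 : act 4 n4004 = n5338 := rfl
theorem F8798 : act 1 n5338 = n4006 := d7_1 D5338 (iv D4006) (iv F6569)
theorem F8799 : act 2 n5338 = n4011 := d10_1 D5338 (iv D4011) (iv F6570)
def n5339 : Q := act 5 n4005
theorem D5339 : act 5 n4005 = n5339 := rfl
theorem F8800 : act 0 n5339 = n4431 := d4_1 D5339 (iv D4431) (iv F6572)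
theorem F8801 : act 2 n5339 = n4437 := d11_1 D5339 F7219 (iv F6573)
theorem F8802 : act 4 n5339 = n4436 := d14_1 D5339 (iv D4436) (iv D3297) F4820 D4005
def n5340 : Q := act 3 n4006
theorem D5340 : act 3 n4006 = n5340 := rfl
theorem F8803 : act 0 n5340 = n4432 := d2_1 D5340 (iv D4432) (iv F6574)
theorem F8804 : act 4 n5340 = n4435 := d12_2 D4006 D5340 (iv D4435) (iv D3297) (iv F4823)
def n5341 : Q := act 2 n4007
theorem D5341 : act 2 n4007 = n5341 := rfl
theorem F8805 : act 0 n5341 = n4009 := d1_1 D5341 (iv D4009) (iv F6576)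
def n5342 : Q := act 4 n4007
theorem D5342 : act 4 n4007 = n5342 := rfl
theorem F8806 : act 0 n5342 = n4010 := d3_1 D5342 (iv D4010) (iv F6576)
def n5343 : Q := act 4 n4008
theorem D5343 : act 4 n4008 = n5343 := rfl
theorem F8807 : act 0 n5343 = n4011 := d3_1 D5343 (iv D4011) (iv F6577)
def n5344 : Q := act 3 n4009
theorem D5344 : act 3 n4009 = n5344 := rfl
def n5345 : Q := act 4 n4009
theorem D5345 : act 4 n4009 = n5345 := rfl
theorem F8808 : act 2 n5345 = n4010 := d10_1 D5345 (iv D4010) D4009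
def n5346 : Q := act 5 n4010
theorem D5346 : act 5 n4010 = n5346 := rfl
theorem F8809 : act 1 n5346 = n4012 := d8_1 D5346 (iv D4012) (iv F6578)
def n5347 : Q := act 3 n4011
theorem D5347 : act 3 n4011 = n5347 := rfl
theorem F8810 : act 1 n5347 = n4013 := d6_1 D5347 (iv D4013) (iv F6579)
def n5348 : Q := act 2 n4013
theorem D5348 : act 2 n4013 = n5348 := rfl
def n5349 : Q := act 1 n4014
theorem D5349 : act 1 n4014 = n5349 := rfl
def n5350 : Q := act 3 n4014
theorem D5350 : act 3 n4014 = n5350 := rfl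
theorem F8811 : act 0 n5350 = n4019 := d2_1 D5350 (iv D4019) (iv F6580)
theorem F8812 : act 2 n5350 = n4073 := d15_2 D4014 D5350 F6672 F4914 F3566 (iv F3524) (iv F4836) (iv D2972) (iv F4830)
theorem F8813 : act 5 n4071 = n5350 := d11_0 F8812 (iv D4073) D4071
def n5351 : Q := act 4 n4014
theorem D5351 : act 4 n4014 = n5351 := rfl
theorem F8814 : act 0 n5351 = n4020 := d3_1 D5351 (iv D4020) (iv F6580)
theorem F8815 : act 2 n5351 = n4015 := d10_1 D5351 (iv D4015) D4014
def n5352 : Q := act 5 n4014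
theorem D5352 : act 5 n4014 = n5352 := rfl
theorem F8816 : act 0 n5352 = n4021 := d4_1 D5352 (iv D4021) (iv F6580)
theorem F8817 : act 2 n5352 = n4016 := d11_1 D5352 (iv D4016) D4014
theorem F8818 : act 3 n5352 = n4071 := d13_1 D5352 F8813 (iv D5350)
def n5353 : Q := act 5 n4015
theorem D5353 : act 5 n4015 = n5353 := rfl
theorem F8819 : act 0 n5353 = n4022 := d4_1 D5353 (iv D4022) (iv F6581)
theorem F8820 : act 3 n5353 = n4033 := d13_1 D5353 (iv D4033) (iv F6582)
def n5354 : Q := act 4 n4016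
theorem D5354 : act 4 n4016 = n5354 := rfl
theorem F8821 : act 0 n5354 = n4023 := d3_1 D5354 (iv D4023) (iv F6583)
def n5355 : Q := act 3 n4017
theorem D5355 : act 3 n4017 = n5355 := rfl
theorem F8822 : act 0 n5355 = n4024 := d2_1 D5355 (iv D4024) (iv F6585)
theorem F8823 : act 5 n5355 = n4035 := d13_2 (iv F6587) D5355 (iv D4035)
theorem F8824 : act 2 n5355 = n4254 := d15_2 (iv F6586) D5355 (iv D4254) (iv D3155) (iv D2315) F2750 (iv F2634) (iv F3568) (iv F4905)
def n5356 : Q := act 0 n4018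
theorem D5356 : act 0 n4018 = n5356 := rfl
theorem F8825 : act 2 n5356 = n4025 := d1_2 (iv F6588) D5356 (iv D4025)
def n5357 : Q := act 3 n4018
theorem D5357 : act 3 n4018 = n5357 := rfl
theorem F8826 : act 1 n5357 = n4019 := d6_1 D5357 (iv D4019) D4018
def n5358 : Q := act 4 n4018
theorem D5358 : act 4 n4018 = n5358 := rfl
theorem F8827 : act 1 n5358 = n4020 := d7_1 D5358 (iv D4020) D4018
theorem F8828 : act 2 n5358 = n4026 := d10_1 D5358 (iv D4026) (iv F6588)
def n5359 : Q := act 2 n4019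
theorem D5359 : act 2 n4019 = n5359 := rfl
theorem F8829 : act 0 n5359 = n4073 := d1_1 D5359 (iv F8812) F8811
theorem F8830 : act 3 n5359 = n4067 := d9_2 D4019 D5359 F6660 F4904 (iv F4832) (iv F6584) (iv F8817) F8818 (iv D4071) (iv D3012) (iv D2192) (iv D1585) (iv F2570) D2165 D2970
theorem F8831 : act 5 n4065 = n5359 := d13_0 F8830 (iv D4067) D4065
def n5360 : Q := act 4 n4019
theorem D5360 : act 4 n4019 = n5360 := rfl
def n5361 : Q := act 5 n4019
theorem D5361 : act 5 n4019 = n5361 := rfl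
theorem F8832 : act 0 n5361 = n4071 := d4_1 D5361 F8813 F8811
theorem F8833 : act 2 n5361 = n4065 := d11_1 D5361 F8831 (iv D5359)
theorem F8834 : act 3 n5361 = n4021 := d13_1 D5361 (iv D4021) D4019
def n5362 : Q := act 3 n4020
theorem D5362 : act 3 n4020 = n5362 := rfl
def n5363 : Q := act 5 n4020
theorem D5363 : act 5 n4020 = n5363 := rfl
theorem F8835 : act 2 n5363 = n4022 := d11_1 D5363 (iv D4022) (iv F6589)
def n5364 : Q := act 4 n4021
theorem D5364 : act 4 n4021 = n5364 := rfl
theorem F8836 : act 2 n5364 = n4023 := d10_1 D5364 (iv D4023) (iv F6590)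
def n5365 : Q := act 4 n4022
theorem D5365 : act 4 n4022 = n5365 := rfl
theorem F8837 : act 1 n5365 = n4029 := d7_1 D5365 (iv D4029) (iv F6591)
theorem F8838 : act 5 n5365 = n4023 := d14_2 D4022 D5365 (iv D4023) (iv D2972) D2971
def n5366 : Q := act 3 n4023
theorem D5366 : act 3 n4023 = n5366 := rfl
theorem F8839 : act 1 n5366 = n4030 := d6_1 D5366 (iv D4030) (iv F6593)
theorem F8840 : act 4 n5366 = n4024 := d12_2 D4023 D5366 (iv D4024) (iv D2973) (iv F4836)
def n5367 : Q := act 2 n4024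
theorem D5367 : act 2 n4024 = n5367 := rfl
theorem F8841 : act 0 n5367 = n4254 := d1_1 D5367 (iv F8824) F8822
theorem F8842 : act 5 n5367 = n4044 := d11_2 (iv F6595) D5367 (iv D4044)
theorem F8843 : act 3 n5367 = n4243 := d15_1 D5367 (iv D4243) (iv D3148) F3772 (iv F3596) (iv F4850) D4035 (iv F8823) F8822
def n5368 : Q := act 4 n4025
theorem D5368 : act 4 n4025 = n5368 := rfl
theorem F8844 : act 0 n5368 = n4026 := d3_1 D5368 (iv D4026) D4025
def n5369 : Q := act 3 n4026
theorem D5369 : act 3 n4026 = n5369 := rfl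
theorem F8845 : act 1 n5369 = n4027 := d6_1 D5369 (iv D4027) (iv F6596)
def n5370 : Q := act 5 n4026
theorem D5370 : act 5 n4026 = n5370 := rfl
theorem F8846 : act 1 n5370 = n4028 := d8_1 D5370 (iv D4028) (iv F6596)
def n5371 : Q := act 2 n4027
theorem D5371 : act 2 n4027 = n5371 := rfl
theorem F8847 : act 3 n5371 = n4137 := d15_3 (iv F4840) D4027 D5371 (iv D4137) (iv D3067) (iv F4813) (iv F6549) (iv D3994) F4795
theorem F8848 : act 5 n4139 = n5371 := d13_0 F8847 F6760 D4139
def n5372 : Q := act 5 n4027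
theorem D5372 : act 5 n4027 = n5372 := rfl
theorem F8849 : act 2 n5372 = n4139 := d11_1 D5372 F8848 (iv D5371)
theorem F8850 : act 3 n5372 = n4028 := d13_1 D5372 (iv D4028) D4027
def n5373 : Q := act 3 n4029
theorem D5373 : act 3 n4029 = n5373 := rfl
theorem F8851 : act 0 n5373 = n4136 := d2_1 D5373 (iv F8775) F8773
theorem F8852 : act 4 n5373 = n4048 := d12_2 D4029 D5373 (iv D4048) (iv D2993) (iv F4841)
theorem F8853 : act 5 n5373 = n4030 := d13_2 (iv F6598) D5373 (iv D4030)
def n5374 : Q := act 2 n4030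
theorem D5374 : act 2 n4030 = n5374 := rfl
theorem F8854 : act 4 n5374 = n4031 := d10_2 (iv F6599) D5374 (iv D4031)
def n5375 : Q := act 1 n4031
theorem D5375 : act 1 n4031 = n5375 := rfl
theorem F8855 : act 5 n5375 = n4050 := d8_2 (iv F6600) D5375 (iv D4050)
def n5376 : Q := act 3 n4032
theorem D5376 : act 3 n4032 = n5376 := rfl
theorem F8856 : act 0 n5376 = n4039 := d2_1 D5376 (iv D4039) (iv F6601)
theorem F8857 : act 4 n5376 = n4149 := d12_2 D4032 D5376 (iv D4149) (iv D3076) (iv F4844)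
def n5377 : Q := act 5 n4032
theorem D5377 : act 5 n4032 = n5377 := rfl
theorem F8858 : act 0 n5377 = n4040 := d4_1 D5377 (iv D4040) (iv F6601)
theorem F8859 : act 2 n5377 = n4033 := d11_1 D5377 (iv D4033) (iv F6602)
def n5378 : Q := act 4 n4033
theorem D5378 : act 4 n4033 = n5378 := rfl
theorem F8860 : act 0 n5378 = n4042 := d3_1 D5378 (iv D4042) (iv F6603)
theorem F8861 : act 1 n5378 = n4130 := d7_1 D5378 (iv F8782) F8781
theorem F8862 : act 5 n5378 = n4034 := d14_2 D4033 D5378 (iv D4034) (iv D2981) D2980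
def n5379 : Q := act 3 n4034
theorem D5379 : act 3 n4034 = n5379 := rfl
theorem F8863 : act 0 n5379 = n4043 := d2_1 D5379 (iv D4043) (iv F6604)
theorem F8864 : act 1 n5379 = n4129 := d6_1 D5379 (iv D4129) (iv F6605)
theorem F8865 : act 4 n5379 = n4035 := d12_2 D4034 D5379 (iv D4035) (iv D2982) (iv F4848)
def n5380 : Q := act 2 n4035
theorem D5380 : act 2 n4035 = n5380 := rfl
theorem F8866 : act 0 n5380 = n4044 := d1_1 D5380 (iv D4044) (iv F6606)
theorem F8867 : act 3 n5380 = n4255 := d9_2 D4035 D5380 F6969 F5161 F3775 F3569 (iv F4838) D4024 D5367 F8843 (iv D4243) (iv D3148) F3772 (iv F3596) (iv F4850)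
theorem F8868 : act 5 n5380 = n4254 := d11_2 F8823 D5380 (iv F8824)
def n5381 : Q := act 4 n4036
theorem D5381 : act 4 n4036 = n5381 := rfl
theorem F8869 : act 1 n5381 = n4038 := d7_1 D5381 (iv D4038) (iv F6607)
def n5382 : Q := act 3 n4037
theorem D5382 : act 3 n4037 = n5382 := rfl
theorem F8870 : act 1 n5382 = n4039 := d6_1 D5382 (iv D4039) (iv F6609)
def n5383 : Q := act 5 n4037
theorem D5383 : act 5 n4037 = n5383 := rfl
theorem F8871 : act 1 n5383 = n4040 := d8_1 D5383 (iv D4040) (iv F6609)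
theorem F8872 : act 2 n5383 = n4046 := d11_1 D5383 (iv D4046) (iv F6610)
theorem F8873 : act 4 n5383 = n4122 := d14_1 D5383 (iv D4122) (iv D3054) F4852 D4037
def n5384 : Q := act 3 n4038
theorem D5384 : act 3 n4038 = n5384 := rfl
theorem F8874 : act 0 n5384 = n4149 := d2_1 D5384 (iv D4149) (iv F6611)
theorem F8875 : act 4 n5384 = n4039 := d12_2 D4038 D5384 (iv D4039) (iv D2985) D2984
def n5385 : Q := act 5 n4038
theorem D5385 : act 5 n4038 = n5385 := rfl
theorem F8876 : act 0 n5385 = n4150 := d4_1 D5385 (iv D4150) (iv F6611)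
theorem F8877 : act 2 n5385 = n4148 := d11_1 D5385 (iv D4148) (iv F6612)
def n5386 : Q := act 2 n4039
theorem D5386 : act 2 n4039 = n5386 := rfl
def n5387 : Q := act 5 n4039
theorem D5387 : act 5 n4039 = n5387 := rfl
theorem F8878 : act 3 n5387 = n4040 := d13_1 D5387 (iv D4040) D4039
def n5388 : Q := act 4 n4040
theorem D5388 : act 4 n4040 = n5388 := rfl
theorem F8879 : act 1 n5388 = n4122 := d7_1 D5388 (iv F8873) F8871
theorem F8880 : act 2 n5388 = n4042 := d10_1 D5388 (iv D4042) (iv F6613)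
theorem F8881 : act 5 n5388 = n4041 := d14_2 D4040 D5388 (iv D4041) (iv D2986) D2985
def n5389 : Q := act 3 n4041
theorem D5389 : act 3 n4041 = n5389 := rfl
theorem F8882 : act 1 n5389 = n4121 := d6_1 D5389 (iv D4121) (iv F6614)
def n5390 : Q := act 3 n4042
theorem D5390 : act 3 n4042 = n5390 := rfl
theorem F8883 : act 1 n5390 = n4048 := d6_1 D5390 (iv D4048) (iv F6616)
theorem F8884 : act 5 n5390 = n4043 := d13_2 (iv F6617) D5390 (iv D4043)
def n5391 : Q := act 2 n4043
theorem D5391 : act 2 n4043 = n5391 := rfl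
theorem F8885 : act 4 n5391 = n4044 := d10_2 (iv F6619) D5391 (iv D4044)
def n5392 : Q := act 1 n4044
theorem D5392 : act 1 n4044 = n5392 := rfl
theorem F8886 : act 2 n5392 = n4050 := d5_2 D4044 D5392 (iv D4050) (iv D2995) (iv F4860)
def n5393 : Q := act 3 n4044
theorem D5393 : act 3 n4044 = n5393 := rfl
theorem F8887 : act 0 n5393 = n4255 := d2_1 D5393 (iv F8867) F8866
theorem F8888 : act 2 n5393 = n4244 := d9_1 D5393 F6960 F5157 F4908 (iv F6586) D5355 F8824 (iv D4254) (iv D3155) (iv D2315) F2750 (iv F2634) (iv F3536) D2989 D4044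
theorem F8889 : act 5 n5393 = n4243 := d13_2 F8842 D5393 (iv F8843)
def n5394 : Q := act 2 n4045
theorem D5394 : act 2 n4045 = n5394 := rfl
theorem F8890 : act 4 n5394 = n4123 := d10_2 (iv F6621) D5394 (iv D4123)
def n5395 : Q := act 5 n4045
theorem D5395 : act 5 n4045 = n5395 := rfl
theorem F8891 : act 1 n5395 = n4047 := d8_1 D5395 (iv D4047) (iv F6620)
theorem F8892 : act 3 n5395 = n4046 := d13_1 D5395 (iv D4046) D4045
def n5396 : Q := act 1 n4049
theorem D5396 : act 1 n4049 = n5396 := rfl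
theorem F8893 : act 4 n5396 = n4050 := d7_2 (iv F6629) D5396 (iv D4050)
def n5397 : Q := act 0 n4050
theorem D5397 : act 0 n4050 = n5397 := rfl
def n5398 : Q := act 3 n4050
theorem D5398 : act 3 n4050 = n5398 := rfl
theorem F8894 : act 1 n5398 = n4051 := d6_1 D5398 (iv D4051) D4050
def n5399 : Q := act 4 n4051
theorem D5399 : act 4 n4051 = n5399 := rfl
def n5400 : Q := act 1 n4052
theorem D5400 : act 1 n4052 = n5400 := rfl
theorem F8895 : act 2 n5400 = n4055 := d5_2 D4052 D5400 (iv D4055) (iv D2998) (iv F4872)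
theorem F8896 : act 5 n4428 = n5400 := d11_0 F8895 F6637 D4428
def n5401 : Q := act 3 n4052
theorem D5401 : act 3 n4052 = n5401 := rfl
def n5402 : Q := act 5 n4052
theorem D5402 : act 5 n4052 = n5402 := rfl
theorem F8897 : act 1 n5402 = n4428 := d8_1 D5402 F8896 (iv D5400)
theorem F8898 : act 2 n5402 = n4053 := d11_1 D5402 (iv D4053) D4052
def n5403 : Q := act 4 n4053
theorem D5403 : act 4 n4053 = n5403 := rfl
theorem F8899 : act 1 n5403 = n4058 := d7_1 D5403 (iv D4058) (iv F6630)
def n5404 : Q := act 3 n4054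
theorem D5404 : act 3 n4054 = n5404 := rfl
theorem F8900 : act 0 n5404 = n4306 := d2_1 D5404 F7046 (iv F6632)
theorem F8901 : act 1 n5404 = n4059 := d6_1 D5404 (iv D4059) (iv F6633)
theorem F8902 : act 5 n5404 = n4191 := d13_2 (iv F6635) D5404 (iv D4191)
def n5405 : Q := act 0 n4055
theorem D5405 : act 0 n4055 = n5405 := rfl
theorem F8903 : act 1 n5405 = n4433 := d0_2 D4055 D5405 (iv D4433) (iv D3296) (iv F4875)
theorem F8904 : act 3 n5405 = n4427 := d2_2 (iv F6636) D5405 F7214
theorem F8905 : act 5 n5405 = n4426 := d4_2 (iv F6637) D5405 F7213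
def n5406 : Q := act 4 n4055
theorem D5406 : act 4 n4055 = n5406 := rfl
theorem F8906 : act 1 n5406 = n4056 := d7_1 D5406 (iv D4056) D4055
def n5407 : Q := act 3 n4056
theorem D5407 : act 3 n4056 = n5407 := rfl
theorem F8907 : act 0 n5407 = n4435 := d2_1 D5407 (iv D4435) (iv F6638)
theorem F8908 : act 4 n5407 = n4432 := d12_2 D4056 D5407 (iv D4432) (iv D3295) (iv F4876)
def n5408 : Q := act 5 n4056
theorem D5408 : act 5 n4056 = n5408 := rfl
theorem F8909 : act 0 n5408 = n4436 := d4_1 D5408 (iv D4436) (iv F6638)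
theorem F8910 : act 2 n5408 = n4057 := d11_1 D5408 (iv D4057) (iv F6639)
theorem F8911 : act 4 n5408 = n4431 := d14_1 D5408 (iv D4431) (iv D3294) F4877 D4056
def n5409 : Q := act 4 n4057
theorem D5409 : act 4 n4057 = n5409 := rfl
theorem F8912 : act 0 n5409 = n4437 := d3_1 D5409 (iv D4437) (iv F6640)
theorem F8913 : act 2 n5409 = n4431 := d10_1 D5409 (iv F8911) F8910
theorem F8914 : act 5 n5409 = n4058 := d14_2 D4057 D5409 (iv D4058) (iv D3000) D2999
def n5410 : Q := act 3 n4058
theorem D5410 : act 3 n4058 = n5410 := rfl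
theorem F8915 : act 0 n5410 = n4314 := d2_1 D5410 F7058 (iv F6642)
theorem F8916 : act 4 n5410 = n4059 := d12_2 D4058 D5410 (iv D4059) (iv D3001) (iv F4882)
def n5411 : Q := act 2 n4059
theorem D5411 : act 2 n4059 = n5411 := rfl
theorem F8917 : act 0 n5411 = n4313 := d1_1 D5411 F7055 (iv F6644)
theorem F8918 : act 3 n5411 = n4309 := d9_2 D4059 D5411 (iv D4309) (iv D3199) F3819 F2791 (iv F2785) D2351 D3202 D4313 F7055 F5226 F3823 (iv F3550) (iv F4884)
theorem F8919 : act 5 n5411 = n4309 := d11_2 (iv F6645) D5411 (iv D4309)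
def n5412 : Q := act 1 n4060
theorem D5412 : act 1 n4060 = n5412 := rfl
theorem F8920 : act 2 n5412 = n4440 := d5_2 D4060 D5412 (iv D4440) (iv D3302) (iv F4887)
theorem F8921 : act 4 n5412 = n4440 := d7_2 (iv F6647) D5412 (iv D4440)
def n5413 : Q := act 3 n4060
theorem D5413 : act 3 n4060 = n5413 := rfl
theorem F8922 : act 0 n5413 = n4062 := d2_1 D5413 (iv D4062) (iv F6646)
def n5414 : Q := act 3 n4061
theorem D5414 : act 3 n4061 = n5414 := rfl
theorem F8923 : act 0 n5414 = n4063 := d2_1 D5414 (iv D4063) (iv F6648)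
theorem F8924 : act 1 n5414 = n4190 := d6_1 D5414 F6858 (iv F6649)
theorem F8925 : act 4 n5414 = n4261 := d12_2 D4061 D5414 (iv D4261) (iv F6497) F6496
theorem F8926 : act 5 n5414 = n4188 := d13_2 (iv F6651) D5414 (iv D4188)
def n5415 : Q := act 2 n4062
theorem D5415 : act 2 n4062 = n5415 := rfl
def n5416 : Q := act 4 n4062
theorem D5416 : act 4 n4062 = n5416 := rfl
theorem F8927 : act 3 n5416 = n4443 := d12_1 D5416 (iv D4443) (iv D3303) (iv F4891) D4062
def n5417 : Q := act 2 n4063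
theorem D5417 : act 2 n4063 = n5417 := rfl
theorem F8928 : act 1 n5417 = n4186 := d5_1 D5417 (iv D4186) F5067 (iv F4895) (iv F6652)
theorem F8929 : act 4 n5417 = n4262 := d10_2 (iv F6653) D5417 (iv D4262)
theorem F8930 : act 5 n5417 = n4192 := d11_2 (iv F6654) D5417 (iv D4192)
def n5418 : Q := act 0 n4064
theorem D5418 : act 0 n4064 = n5418 := rfl
theorem F8931 : act 1 n5418 = n4068 := d0_2 D4064 D5418 (iv D4068) (iv D3011) (iv F4898)
theorem F8932 : act 3 n4483 = n5418 := d6_0 F8931 (iv F6663) D4483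
theorem F8933 : act 5 n4440 = n5418 := d8_0 F8931 F6662 D4440
def n5419 : Q := act 3 n4064
theorem D5419 : act 3 n4064 = n5419 := rfl
theorem F8934 : act 0 n5419 = n4483 := d2_1 D5419 F8932 (iv D5418)
theorem F8935 : act 1 n5419 = n4065 := d6_1 D5419 (iv D4065) D4064
def n5420 : Q := act 4 n4064
theorem D5420 : act 4 n4064 = n5420 := rfl
theorem F8936 : act 1 n5420 = n4066 := d7_1 D5420 (iv D4066) D4064
theorem F8937 : act 2 n5420 = n4245 := d10_1 D5420 (iv F8695) F8694
theorem F8938 : act 5 n4245 = n5420 := d8_0 F8936 (iv F6658) D4245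
def n5421 : Q := act 5 n4064
theorem D5421 : act 5 n4064 = n5421 := rfl
theorem F8939 : act 0 n5421 = n4440 := d4_1 D5421 F8933 (iv D5418)
theorem F8940 : act 1 n5421 = n4067 := d8_1 D5421 (iv D4067) D4064
def n5422 : Q := act 4 n4065
theorem D5422 : act 4 n4065 = n5422 := rfl
theorem F8941 : act 0 n5422 = n4072 := d3_1 D5422 (iv D4072) (iv F6655)
def n5423 : Q := act 3 n4066
theorem D5423 : act 3 n4066 = n5423 := rfl
theorem F8942 : act 0 n5423 = n4074 := d2_1 D5423 (iv D4074) (iv F6656)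
theorem F8943 : act 5 n5423 = n4246 := d13_2 F6658 D5423 (iv D4246)
theorem F8944 : act 2 n5423 = n4230 := d15_2 (iv F6657) D5423 (iv D4230) (iv D3137) (iv D2300) F2740 D1679 F3564 (iv F4899)
def n5424 : Q := act 4 n4068
theorem D5424 : act 4 n4068 = n5424 := rfl
theorem F8945 : act 0 n5424 = n4070 := d3_1 D5424 (iv D4070) D4068
theorem F8946 : act 2 n5424 = n4075 := d10_1 D5424 (iv D4075) (iv F6661)
theorem F8947 : act 5 n5424 = n4257 := d14_2 (iv F6662) D5424 (iv F8701) F8702 F6647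
def n5425 : Q := act 4 n4069
theorem D5425 : act 4 n4069 = n5425 := rfl
theorem F8948 : act 0 n5425 = n4484 := d3_1 D5425 (iv D4484) (iv F6664)
theorem F8949 : act 1 n5425 = n4072 := d7_1 D5425 (iv D4072) (iv F6665)
theorem F8950 : act 2 n5425 = n4478 := d10_1 D5425 (iv D4478) (iv F6667)
def n5426 : Q := act 3 n4070
theorem D5426 : act 3 n4070 = n5426 := rfl
theorem F8951 : act 1 n5426 = n4074 := d6_1 D5426 (iv D4074) (iv F6668)
theorem F8952 : act 5 n5426 = n4258 := d13_2 (iv F6670) D5426 (iv D4258)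
def n5427 : Q := act 1 n4071
theorem D5427 : act 1 n4071 = n5427 := rfl
theorem F8953 : act 2 n5427 = n4476 := d5_2 D4071 D5427 F7258 (iv F6667) F6665
def n5428 : Q := act 4 n4071
theorem D5428 : act 4 n4071 = n5428 := rfl
theorem F8954 : act 2 n5428 = n4072 := d10_1 D5428 (iv D4072) D4071
def n5429 : Q := act 3 n4072
theorem D5429 : act 3 n4072 = n5429 := rfl
theorem F8955 : act 4 n5429 = n4074 := d12_2 D4072 D5429 (iv D4074) (iv D3013) D3012
def n5430 : Q := act 5 n4072
theorem D5430 : act 5 n4072 = n5430 := rfl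
def n5431 : Q := act 4 n4073
theorem D5431 : act 4 n4073 = n5431 := rfl
theorem F8956 : act 1 n5431 = n4443 := d7_1 D5431 (iv D4443) (iv F6671)
def n5432 : Q := act 2 n4074
theorem D5432 : act 2 n4074 = n5432 := rfl
theorem F8957 : act 0 n5432 = n4230 := d1_1 D5432 (iv F8944) F8942
theorem F8958 : act 5 n5432 = n4259 := d11_2 (iv F6673) D5432 (iv D4259)
theorem F8959 : act 3 n5432 = n4215 := d15_1 D5432 (iv D4215) (iv D3126) F3746 D2312 D3150 D4246 (iv F8943) F8942
def n5433 : Q := act 3 n4075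
theorem D5433 : act 3 n4075 = n5433 := rfl
theorem F8960 : act 0 n5433 = n4076 := d2_1 D5433 (iv D4076) (iv F6674)
theorem F8961 : act 1 n5433 = n4261 := d6_1 D5433 (iv D4261) (iv F6675)
theorem F8962 : act 4 n5433 = n4190 := d12_2 D4075 D5433 F6858 F5081 (iv F4915)
theorem F8963 : act 5 n5433 = n4261 := d13_2 (iv F6676) D5433 (iv D4261)
def n5434 : Q := act 2 n4076
theorem D5434 : act 2 n4076 = n5434 := rfl
theorem F8964 : act 1 n5434 = n4153 := d5_1 D5434 (iv D4153) F5022 (iv F4922) (iv F6677)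
theorem F8965 : act 4 n5434 = n4195 := d10_2 (iv F6678) D5434 F6866
theorem F8966 : act 5 n5434 = n4262 := d11_2 (iv F6679) D5434 (iv D4262)
def n5435 : Q := act 1 n4078
theorem D5435 : act 1 n4078 = n5435 := rfl
theorem F8967 : act 0 n5435 = n4477 := d0_1 D5435 F7259 F5370 (iv F4932) (iv F6684)
theorem F8968 : act 2 n5435 = n4469 := d5_2 D4078 D5435 (iv D4469) (iv D3320) (iv F4930)
theorem F8969 : act 5 n5435 = n4475 := d8_2 (iv F6685) D5435 F7257
def n5436 : Q := act 3 n4078
theorem D5436 : act 3 n4078 = n5436 := rfl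
theorem F8970 : act 0 n5436 = n4080 := d2_1 D5436 (iv D4080) (iv F6684)
theorem F8971 : act 5 n5436 = n4480 := d13_2 (iv F6685) D5436 (iv D4480)
def n5437 : Q := act 4 n4078
theorem D5437 : act 4 n4078 = n5437 := rfl
theorem F8972 : act 0 n5437 = n4081 := d3_1 D5437 (iv D4081) (iv F6684)
theorem F8973 : act 2 n5437 = n4079 := d10_1 D5437 (iv D4079) D4078
theorem F8974 : act 5 n5437 = n4086 := d14_2 (iv F6685) D5437 (iv D4086) (iv F6530) F6529
def n5438 : Q := act 2 n4080
theorem D5438 : act 2 n4080 = n5438 := rfl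
theorem F8975 : act 5 n5438 = n4481 := d11_2 (iv F6691) D5438 (iv D4481)
def n5439 : Q := act 4 n4080
theorem D5439 : act 4 n4080 = n5439 := rfl
theorem F8976 : act 1 n5439 = n4486 := d7_1 D5439 (iv D4486) (iv F6690)
def n5440 : Q := act 3 n4081
theorem D5440 : act 3 n4081 = n5440 := rfl
theorem F8977 : act 1 n5440 = n4487 := d6_1 D5440 (iv D4487) (iv F6692)
theorem F8978 : act 5 n5440 = n4089 := d13_2 (iv F6694) D5440 (iv D4089)
def n5441 : Q := act 2 n4082
theorem D5441 : act 2 n4082 = n5441 := rfl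
theorem F8979 : act 0 n5441 = n4083 := d1_1 D5441 (iv D4083) (iv F6695)
theorem F8980 : act 3 n5441 = n4259 := d9_2 D4082 D5441 (iv D4259) (iv D3158) (iv D2317) (iv D1679) (iv F2740) D2300 D3137 D4230 (iv F8944) (iv D5423) F6657 F4901 (iv F4938)
theorem F8981 : act 5 n5441 = n4215 := d11_2 (iv F6696) D5441 (iv D4215)
def n5442 : Q := act 1 n4083
theorem D5442 : act 1 n4083 = n5442 := rfl
theorem F8982 : act 2 n5442 = n4151 := d5_2 D4083 D5442 (iv D4151) (iv D3078) (iv F4940)
theorem F8983 : act 5 n5442 = n4229 := d8_2 (iv F6697) D5442 (iv D4229)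
def n5443 : Q := act 3 n4083
theorem D5443 : act 3 n4083 = n5443 := rfl
theorem F8984 : act 0 n5443 = n4259 := d2_1 D5443 (iv F8980) F8979
theorem F8985 : act 2 n5443 = n4246 := d9_1 D5443 (iv D4246) (iv D3150) (iv D2312) (iv F3746) D3126 D4215 (iv F8959) (iv D5432) (iv D4074) F4911 F3563 (iv F3598) D3024 D4083
theorem F8986 : act 5 n5443 = n4230 := d13_2 (iv F6697) D5443 (iv D4230)
def n5444 : Q := act 3 n4084
theorem D5444 : act 3 n4084 = n5444 := rfl
theorem F8987 : act 1 n5444 = n4085 := d6_1 D5444 (iv D4085) D4084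
def n5445 : Q := act 4 n4084
theorem D5445 : act 4 n4084 = n5445 := rfl
theorem F8988 : act 1 n5445 = n4086 := d7_1 D5445 (iv D4086) D4084
def n5446 : Q := act 4 n4085
theorem D5446 : act 4 n4085 = n5446 := rfl
theorem F8989 : act 0 n5446 = n4088 := d3_1 D5446 (iv D4088) (iv F6698)
def n5447 : Q := act 3 n4086
theorem D5447 : act 3 n4086 = n5447 := rfl
theorem F8990 : act 0 n5447 = n4089 := d2_1 D5447 (iv D4089) (iv F6699)
def n5448 : Q := act 1 n4087
theorem D5448 : act 1 n4087 = n5448 := rfl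
def n5449 : Q := act 4 n4087
theorem D5449 : act 4 n4087 = n5449 := rfl
theorem F8991 : act 2 n5449 = n4088 := d10_1 D5449 (iv D4088) D4087
def n5450 : Q := act 3 n4088
theorem D5450 : act 3 n4088 = n5450 := rfl
theorem F8992 : act 4 n5450 = n4089 := d12_2 D4088 D5450 (iv D4089) (iv D3029) D3028
def n5451 : Q := act 5 n4088
theorem D5451 : act 5 n4088 = n5451 := rfl
def n5452 : Q := act 2 n4089
theorem D5452 : act 2 n4089 = n5452 := rfl
def n5453 : Q := act 4 n4090
theorem D5453 : act 4 n4090 = n5453 := rfl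
theorem F8993 : act 1 n5453 = n4091 := d7_1 D5453 (iv D4091) D4090
def n5454 : Q := act 3 n4091
theorem D5454 : act 3 n4091 = n5454 := rfl
theorem F8994 : act 0 n5454 = n4094 := d2_1 D5454 (iv D4094) (iv F6703)
theorem F8995 : act 4 n5454 = n4146 := d12_2 D4091 D5454 (iv D4146) (iv D3073) (iv F4947)
def n5455 : Q := act 5 n4091
theorem D5455 : act 5 n4091 = n5455 := rfl
theorem F8996 : act 0 n5455 = n4095 := d4_1 D5455 (iv D4095) (iv F6703)
theorem F8997 : act 2 n5455 = n4092 := d11_1 D5455 (iv D4092) (iv F6704)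
theorem F8998 : act 4 n5455 = n4099 := d14_1 D5455 (iv D4099) (iv D3036) (iv F4948) D4091
def n5456 : Q := act 3 n4093
theorem D5456 : act 3 n4093 = n5456 := rfl
theorem F8999 : act 0 n5456 = n4146 := d2_1 D5456 (iv D4146) (iv F6709)
theorem F9000 : act 4 n5456 = n4094 := d12_2 D4093 D5456 (iv D4094) (iv D3033) D3032
def n5457 : Q := act 5 n4093
theorem D5457 : act 5 n4093 = n5457 := rfl
theorem F9001 : act 0 n5457 = n4147 := d4_1 D5457 (iv D4147) (iv F6709)
theorem F9002 : act 2 n5457 = n4143 := d11_1 D5457 (iv D4143) (iv F6710)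
theorem F9003 : act 4 n5457 = n4106 := d14_1 D5457 (iv D4106) (iv D3041) (iv F4953) D4093
def n5458 : Q := act 2 n4094
theorem D5458 : act 2 n4094 = n5458 := rfl
def n5459 : Q := act 5 n4094
theorem D5459 : act 5 n4094 = n5459 := rfl
theorem F9004 : act 1 n5459 = n4474 := d8_1 D5459 (iv F8722) F8721
theorem F9005 : act 3 n5459 = n4095 := d13_1 D5459 (iv D4095) D4094
def n5460 : Q := act 4 n4096
theorem D5460 : act 4 n4096 = n5460 := rfl
theorem F9006 : act 0 n5460 = n4097 := d3_1 D5460 (iv D4097) D4096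
theorem F9007 : act 1 n5460 = n4101 := d7_1 D5460 (iv D4101) (iv F6714)
theorem F9008 : act 2 n5460 = n4475 := d10_1 D5460 (iv F8734) F8733
theorem F9009 : act 5 n4469 = n5460 := d11_0 F9008 (iv F8969) F8968
def n5461 : Q := act 3 n4097
theorem D5461 : act 3 n4097 = n5461 := rfl
theorem F9010 : act 1 n5461 = n4098 := d6_1 D5461 (iv D4098) (iv F6715)
def n5462 : Q := act 5 n4097
theorem D5462 : act 5 n4097 = n5462 := rfl
theorem F9011 : act 0 n5462 = n4469 := d4_1 D5462 F9009 F9006
theorem F9012 : act 1 n5462 = n4099 := d8_1 D5462 (iv D4099) (iv F6715)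
theorem F9013 : act 2 n5462 = n4477 := d11_1 D5462 (iv D4477) (iv F6716)
def n5463 : Q := act 2 n4098
theorem D5463 : act 2 n4098 = n5463 := rfl
theorem F9014 : act 0 n5463 = n4107 := d1_1 D5463 (iv D4107) (iv F6717)
theorem F9015 : act 3 n5463 = n4115 := d15_1 D5463 F6740 F4987 F3634 (iv F3620) (iv F4969) (iv F6729) (iv D4108) (iv F6717)
theorem F9016 : act 5 n4114 = n5463 := d13_0 F9015 (iv D4115) D4114
def n5464 : Q := act 5 n4098
theorem D5464 : act 5 n4098 = n5464 := rfl
theorem F9017 : act 0 n5464 = n4108 := d4_1 D5464 (iv D4108) (iv F6717)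
theorem F9018 : act 2 n5464 = n4114 := d11_1 D5464 F9016 (iv D5463)
theorem F9019 : act 3 n5464 = n4099 := d13_1 D5464 (iv D4099) D4098
def n5465 : Q := act 4 n4100
theorem D5465 : act 4 n4100 = n5465 := rfl
theorem F9020 : act 0 n5465 = n4103 := d3_1 D5465 (iv D4103) (iv F6720)
def n5466 : Q := act 3 n4101
theorem D5466 : act 3 n4101 = n5466 := rfl
theorem F9021 : act 0 n5466 = n4104 := d2_1 D5466 (iv D4104) (iv F6721)
theorem F9022 : act 5 n5466 = n4470 := d13_2 F6723 D5466 (iv D4470)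
theorem F9023 : act 2 n5466 = n4456 := d15_2 (iv F6722) D5466 (iv D4456) (iv D3311) (iv D2434) F2877 D1779 F3623 (iv F4970)
def n5467 : Q := act 4 n4102
theorem D5467 : act 4 n4102 = n5467 := rfl
theorem F9024 : act 1 n5467 = n5218 := d7_1 D5467 F8548 F8224
theorem F9025 : act 2 n5467 = n4103 := d10_1 D5467 (iv D4103) D4102
def n5468 : Q := act 3 n4103
theorem D5468 : act 3 n4103 = n5468 := rfl
theorem F9026 : act 1 n5468 = n4105 := d6_1 D5468 (iv D4105) (iv F6724)
theorem F9027 : act 4 n5468 = n4104 := d12_2 D4103 D5468 (iv D4104) (iv D3040) D3039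
def n5469 : Q := act 5 n4103
theorem D5469 : act 5 n4103 = n5469 := rfl
theorem F9028 : act 1 n5469 = n4106 := d8_1 D5469 (iv D4106) (iv F6724)
def n5470 : Q := act 2 n4104
theorem D5470 : act 2 n4104 = n5470 := rfl
theorem F9029 : act 0 n5470 = n4456 := d1_1 D5470 (iv F9023) F9021
theorem F9030 : act 5 n5470 = n4472 := d11_2 (iv F6726) D5470 (iv D4472)
theorem F9031 : act 3 n5470 = n4451 := d15_1 D5470 (iv D4451) (iv D3309) F3926 D2440 D3320 D4470 (iv F9022) F9021
def n5471 : Q := act 2 n4105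
theorem D5471 : act 2 n4105 = n5471 := rfl
theorem F9032 : act 4 n5471 = n4107 := d10_2 (iv F6727) D5471 (iv D4107)
def n5472 : Q := act 5 n4105
theorem D5472 : act 5 n4105 = n5472 := rfl
theorem F9033 : act 3 n5472 = n4106 := d13_1 D5472 (iv D4106) D4105
def n5473 : Q := act 1 n4107
theorem D5473 : act 1 n4107 = n5473 := rfl
def n5474 : Q := act 3 n4107
theorem D5474 : act 3 n4107 = n5474 := rfl
theorem F9034 : act 0 n5474 = n4115 := d2_1 D5474 (iv F9015) F9014
theorem F9035 : act 2 n5474 = n4110 := d9_1 D5474 F6733 F4977 (iv F4962) (iv F6719) (iv F9019) F9018 (iv D4114) (iv D3049) (iv D2227) F2664 (iv F2646) (iv F3618) D3042 D4107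
theorem F9036 : act 5 n5474 = n4109 := d15_8 (iv D3049) (iv D2227) F2664 (iv F2646) (iv F3618) D3042 D4107 D5474 F6730
def n5475 : Q := act 5 n4107
theorem D5475 : act 5 n4107 = n5475 := rfl
theorem F9037 : act 0 n5475 = n4114 := d4_1 D5475 F9016 F9014
theorem F9038 : act 2 n5475 = n4108 := d11_1 D5475 (iv D4108) D4107
theorem F9039 : act 3 n5475 = n4109 := d13_1 D5475 (iv F9036) (iv D5474)
def n5476 : Q := act 4 n4108
theorem D5476 : act 4 n4108 = n5476 := rfl
theorem F9040 : act 1 n5476 = n4473 := d7_1 D5476 (iv D4473) (iv F6728)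
def n5477 : Q := act 1 n4109
theorem D5477 : act 1 n4109 = n5477 := rfl
theorem F9041 : act 4 n5477 = n4405 := d7_2 (iv F6731) D5477 (iv D4405)
def n5478 : Q := act 4 n4110
theorem D5478 : act 4 n4110 = n5478 := rfl
theorem F9042 : act 0 n5478 = n4116 := d3_1 D5478 (iv D4116) (iv F6732)
theorem F9043 : act 3 n5478 = n4308 := d12_1 D5478 (iv D4308) F5219 (iv F4978) (iv F6733)
theorem F9044 : act 5 n5478 = n4408 := d14_2 D4110 D5478 (iv D4408) (iv D3279) (iv F4975)
def n5479 : Q := act 1 n4111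
theorem D5479 : act 1 n4111 = n5479 := rfl
theorem F9045 : act 2 n5479 = n4434 := d5_2 D4111 D5479 F7217 F5342 (iv F4980)
theorem F9046 : act 4 n5479 = n4113 := d7_2 (iv F6735) D5479 (iv D4113)
def n5480 : Q := act 3 n4111
theorem D5480 : act 3 n4111 = n5480 := rfl
theorem F9047 : act 0 n5480 = n4406 := d2_1 D5480 (iv D4406) (iv F6734)
theorem F9048 : act 2 n5480 = n4414 := d15_2 D4111 D5480 F7199 F5331 F3908 (iv F3904) (iv F5328) (iv D3279) (iv F4979)
theorem F9049 : act 5 n4412 = n5480 := d11_0 F9048 (iv D4414) D4412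
def n5481 : Q := act 5 n4111
theorem D5481 : act 5 n4111 = n5481 := rfl
theorem F9050 : act 0 n5481 = n4407 := d4_1 D5481 (iv D4407) (iv F6734)
theorem F9051 : act 2 n5481 = n4112 := d11_1 D5481 (iv D4112) D4111
theorem F9052 : act 3 n5481 = n4412 := d13_1 D5481 F9049 (iv D5480)
def n5482 : Q := act 4 n4112
theorem D5482 : act 4 n4112 = n5482 := rfl
theorem F9053 : act 0 n5482 = n4408 := d3_1 D5482 (iv D4408) (iv F6736)
theorem F9054 : act 1 n5482 = n4437 := d7_1 D5482 (iv D4437) (iv F6737)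
theorem F9055 : act 3 n5482 = n4318 := d12_1 D5482 (iv D4318) F5230 (iv F4985) (iv F6738)
theorem F9056 : act 5 n5482 = n4116 := d14_2 D4112 D5482 (iv D4116) (iv D3050) (iv F4981)
def n5483 : Q := act 0 n4113
theorem D5483 : act 0 n4113 = n5483 := rfl
theorem F9057 : act 2 n5483 = n4433 := d1_2 (iv F6739) D5483 (iv D4433)
def n5484 : Q := act 3 n4113
theorem D5484 : act 3 n4113 = n5484 := rfl
theorem F9058 : act 1 n5484 = n4114 := d6_1 D5484 (iv D4114) D4113
def n5485 : Q := act 4 n4114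
theorem D5485 : act 4 n4114 = n5485 := rfl
def n5486 : Q := act 4 n4115
theorem D5486 : act 4 n4115 = n5486 := rfl
theorem F9059 : act 2 n5486 = n4116 := d10_1 D5486 (iv D4116) (iv F6740)
def n5487 : Q := act 3 n4117
theorem D5487 : act 3 n4117 = n5487 := rfl
theorem F9060 : act 0 n5487 = n4121 := d2_1 D5487 (iv D4121) (iv F6743)
def n5488 : Q := act 5 n4117
theorem D5488 : act 5 n4117 = n5488 := rfl
theorem F9061 : act 0 n5488 = n4122 := d4_1 D5488 (iv D4122) (iv F6743)
theorem F9062 : act 2 n5488 = n4118 := d11_1 D5488 (iv D4118) (iv F6744)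
def n5489 : Q := act 4 n4119
theorem D5489 : act 4 n4119 = n5489 := rfl
theorem F9063 : act 2 n5489 = n4120 := d10_1 D5489 (iv D4120) D4119
def n5490 : Q := act 3 n4120
theorem D5490 : act 3 n4120 = n5490 := rfl
theorem F9064 : act 4 n5490 = n4121 := d12_2 D4120 D5490 (iv D4121) (iv D3054) D3053
def n5491 : Q := act 5 n4120
theorem D5491 : act 5 n4120 = n5491 := rfl
def n5492 : Q := act 2 n4121
theorem D5492 : act 2 n4121 = n5492 := rfl
def n5493 : Q := act 5 n4121
theorem D5493 : act 5 n4121 = n5493 := rfl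
theorem F9065 : act 3 n5493 = n4122 := d13_1 D5493 (iv D4122) D4121
def n5494 : Q := act 3 n4123
theorem D5494 : act 3 n4123 = n5494 := rfl
def n5495 : Q := act 3 n4124
theorem D5495 : act 3 n4124 = n5495 := rfl
theorem F9066 : act 0 n5495 = n4125 := d2_1 D5495 (iv D4125) (iv F6749)
def n5496 : Q := act 5 n4124
theorem D5496 : act 5 n4124 = n5496 := rfl
theorem F9067 : act 0 n5496 = n4126 := d4_1 D5496 (iv D4126) (iv F6749)
theorem F9068 : act 2 n5496 = n4130 := d11_1 D5496 (iv D4130) (iv F6750)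
def n5497 : Q := act 2 n4125
theorem D5497 : act 2 n4125 = n5497 := rfl
def n5498 : Q := act 5 n4125
theorem D5498 : act 5 n4125 = n5498 := rfl
theorem F9069 : act 1 n5498 = n4128 := d8_1 D5498 (iv D4128) (iv F6751)
theorem F9070 : act 3 n5498 = n4126 := d13_1 D5498 (iv D4126) D4125
def n5499 : Q := act 1 n4127
theorem D5499 : act 1 n4127 = n5499 := rfl
def n5500 : Q := act 3 n4127
theorem D5500 : act 3 n4127 = n5500 := rfl
theorem F9071 : act 2 n5500 = n5213 := d15_2 D4127 D5500 F8542 F6367 F5707 (iv F5207) (iv F7034) (iv D4297) F5204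
theorem F9072 : act 5 n5500 = n5212 := d15_8 (iv D4750) (iv D3530) F4182 F3072 (iv F3644) D3060 D4127 D5500 F8539
def n5501 : Q := act 5 n4127
theorem D5501 : act 5 n4127 = n5501 := rfl
theorem F9073 : act 2 n5501 = n4128 := d11_1 D5501 (iv D4128) D4127
theorem F9074 : act 3 n5501 = n5212 := d13_1 D5501 (iv F9072) (iv D5500)
def n5502 : Q := act 4 n4128
theorem D5502 : act 4 n4128 = n5502 := rfl
def n5503 : Q := act 2 n4129
theorem D5503 : act 2 n4129 = n5503 := rfl
theorem F9075 : act 0 n5503 = n4131 := d1_1 D5503 (iv D4131) (iv F6755)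
def n5504 : Q := act 5 n4129
theorem D5504 : act 5 n4129 = n5504 := rfl
theorem F9076 : act 0 n5504 = n4132 := d4_1 D5504 (iv D4132) (iv F6755)
theorem F9077 : act 3 n5504 = n4130 := d13_1 D5504 (iv D4130) D4129
def n5505 : Q := act 1 n4131
theorem D5505 : act 1 n4131 = n5505 := rfl
theorem F9078 : act 2 n5505 = n4133 := d5_2 D4131 D5505 (iv D4133) (iv D3065) (iv F5000)
def n5506 : Q := act 3 n4131
theorem D5506 : act 3 n4131 = n5506 := rfl
def n5507 : Q := act 5 n4131
theorem D5507 : act 5 n4131 = n5507 := rfl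
theorem F9079 : act 2 n5507 = n4132 := d11_1 D5507 (iv D4132) D4131
def n5508 : Q := act 4 n4132
theorem D5508 : act 4 n4132 = n5508 := rfl
theorem F9080 : act 1 n5508 = n4136 := d7_1 D5508 (iv D4136) (iv F6757)
def n5509 : Q := act 0 n4133
theorem D5509 : act 0 n4133 = n5509 := rfl
def n5510 : Q := act 3 n4133
theorem D5510 : act 3 n4133 = n5510 := rfl
theorem F9081 : act 1 n5510 = n4134 := d6_1 D5510 (iv D4134) D4133
def n5511 : Q := act 5 n4133
theorem D5511 : act 5 n4133 = n5511 := rfl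
theorem F9082 : act 1 n5511 = n4135 := d8_1 D5511 (iv D4135) D4133
def n5512 : Q := act 4 n4134
theorem D5512 : act 4 n4134 = n5512 := rfl
def n5513 : Q := act 4 n4135
theorem D5513 : act 4 n4135 = n5513 := rfl
theorem F9083 : act 2 n5513 = n4136 := d10_1 D5513 (iv D4136) (iv F6759)
def n5514 : Q := act 1 n4137
theorem D5514 : act 1 n4137 = n5514 := rfl
theorem F9084 : act 5 n5514 = n4138 := d8_2 (iv F6760) D5514 (iv D4138)
def n5515 : Q := act 0 n4138
theorem D5515 : act 0 n4138 = n5515 := rfl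
theorem F9085 : act 4 n5515 = n4140 := d3_2 (iv F6761) D5515 (iv D4140)
def n5516 : Q := act 3 n4138
theorem D5516 : act 3 n4138 = n5516 := rfl
theorem F9086 : act 1 n5516 = n4139 := d6_1 D5516 (iv D4139) D4138
def n5517 : Q := act 3 n4141
theorem D5517 : act 3 n4141 = n5517 := rfl
def n5518 : Q := act 4 n4141
theorem D5518 : act 4 n4141 = n5518 := rfl
theorem F9087 : act 2 n5518 = n4142 := d10_1 D5518 (iv D4142) D4141
def n5519 : Q := act 5 n4142
theorem D5519 : act 5 n4142 = n5519 := rfl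
theorem F9088 : act 0 n5519 = n5223 := d4_1 D5519 F8557 F7883
theorem F9089 : act 1 n5519 = n4143 := d8_1 D5519 (iv D4143) (iv F6762)
theorem F9090 : act 3 n5519 = n4378 := d13_1 D5519 (iv D4378) (iv F6763)
theorem F9091 : act 4 n5519 = n5219 := d14_1 D5519 (iv D5219) F6371 F6145 D4142
def n5520 : Q := act 4 n4144
theorem D5520 : act 4 n4144 = n5520 := rfl
theorem F9092 : act 0 n5520 = n4145 := d3_1 D5520 (iv D4145) D4144
def n5521 : Q := act 3 n4145
theorem D5521 : act 3 n4145 = n5521 := rfl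
theorem F9093 : act 1 n5521 = n4146 := d6_1 D5521 (iv D4146) (iv F6766)
def n5522 : Q := act 5 n4145
theorem D5522 : act 5 n4145 = n5522 := rfl
theorem F9094 : act 1 n5522 = n4147 := d8_1 D5522 (iv D4147) (iv F6766)
def n5523 : Q := act 2 n4146
theorem D5523 : act 2 n4146 = n5523 := rfl
def n5524 : Q := act 5 n4146
theorem D5524 : act 5 n4146 = n5524 := rfl
theorem F9095 : act 3 n5524 = n4147 := d13_1 D5524 (iv D4147) D4146
def n5525 : Q := act 2 n4149
theorem D5525 : act 2 n4149 = n5525 := rfl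
def n5526 : Q := act 5 n4149
theorem D5526 : act 5 n4149 = n5526 := rfl
theorem F9096 : act 3 n5526 = n4150 := d13_1 D5526 (iv D4150) D4149
def n5527 : Q := act 0 n4151
theorem D5527 : act 0 n4151 = n5527 := rfl
theorem F9097 : act 1 n5527 = n4982 := d0_2 D4151 D5527 F8133 F6078 (iv F5015)
theorem F9098 : act 3 n5527 = n4869 := d2_2 (iv F6771) D5527 F7950
theorem F9099 : act 5 n5527 = n4235 := d4_2 (iv F6772) D5527 (iv D4235)
def n5528 : Q := act 2 n4152
theorem D5528 : act 2 n4152 = n5528 := rfl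
theorem F9100 : act 0 n5528 = n4153 := d1_1 D5528 (iv D4153) (iv F6773)
theorem F9101 : act 4 n5528 = n4302 := d10_2 (iv F6775) D5528 (iv D4302)
theorem F9102 : act 5 n5528 = n4263 := d11_2 (iv F6776) D5528 (iv D4263)
theorem F9103 : act 3 n5528 = n4980 := d15_1 D5528 (iv D4980) (iv D3724) (iv D2754) (iv D2008) (iv F2753) D2321 (iv F5024) (iv F6773)
def n5529 : Q := act 3 n4153
theorem D5529 : act 3 n4153 = n5529 := rfl
theorem F9104 : act 0 n5529 = n4980 := d2_1 D5529 (iv F9103) F9100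
theorem F9105 : act 5 n5529 = n4264 := d13_2 (iv F6778) D5529 (iv D4264)
theorem F9106 : act 2 n5529 = n4968 := d15_2 D4153 D5529 (iv D4968) (iv D3716) (iv D2749) (iv F3777) D3161 (iv F6776) F6773
def n5530 : Q := act 4 n4154
theorem D5530 : act 4 n4154 = n5530 := rfl
theorem F9107 : act 0 n5530 = n4276 := d3_1 D5530 (iv D4276) (iv F6779)
theorem F9108 : act 1 n5530 = n4156 := d7_1 D5530 (iv D4156) D4154
theorem F9109 : act 2 n5530 = n4266 := d10_1 D5530 (iv D4266) (iv F6780)
def n5531 : Q := act 4 n4155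
theorem D5531 : act 4 n4155 = n5531 := rfl
theorem F9110 : act 0 n5531 = n4159 := d3_1 D5531 (iv D4159) (iv F6783)
theorem F9111 : act 1 n5531 = n4390 := d7_1 D5531 (iv D4390) (iv F6784)
theorem F9112 : act 2 n5531 = n4948 := d10_1 D5531 (iv D4948) (iv F6785)
def n5532 : Q := act 3 n4156
theorem D5532 : act 3 n4156 = n5532 := rfl
theorem F9113 : act 0 n5532 = n4160 := d2_1 D5532 (iv D4160) (iv F6787)
def n5533 : Q := act 5 n4156
theorem D5533 : act 5 n4156 = n5533 := rfl
theorem F9114 : act 0 n5533 = n4161 := d4_1 D5533 (iv D4161) (iv F6787)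
theorem F9115 : act 2 n5533 = n4157 := d11_1 D5533 (iv D4157) (iv F6788)
theorem F9116 : act 4 n5533 = n4290 := d14_1 D5533 (iv D4290) (iv D3182) (iv F5026) D4156
def n5534 : Q := act 4 n4158
theorem D5534 : act 4 n4158 = n5534 := rfl
theorem F9117 : act 0 n5534 = n4948 := d3_1 D5534 (iv D4948) (iv F6793)
theorem F9118 : act 1 n5534 = n4385 := d7_1 D5534 (iv D4385) (iv F6794)
theorem F9119 : act 2 n5534 = n4159 := d10_1 D5534 (iv D4159) D4158
def n5535 : Q := act 3 n4159
theorem D5535 : act 3 n4159 = n5535 := rfl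
theorem F9120 : act 1 n5535 = n4279 := d6_1 D5535 (iv D4279) (iv F6797)
theorem F9121 : act 4 n5535 = n4160 := d12_2 D4159 D5535 (iv D4160) (iv D3084) D3083
def n5536 : Q := act 5 n4159
theorem D5536 : act 5 n4159 = n5536 := rfl
theorem F9122 : act 1 n5536 = n4280 := d8_1 D5536 (iv D4280) (iv F6797)
theorem F9123 : act 4 n5536 = n4293 := d14_1 D5536 (iv D4293) (iv D3184) (iv F5031) D4159
def n5537 : Q := act 2 n4160
theorem D5537 : act 2 n4160 = n5537 := rfl
def n5538 : Q := act 5 n4160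
theorem D5538 : act 5 n4160 = n5538 := rfl
theorem F9124 : act 1 n5538 = n4282 := d8_1 D5538 (iv D4282) (iv F6798)
theorem F9125 : act 3 n5538 = n4161 := d13_1 D5538 (iv D4161) D4160
def n5539 : Q := act 4 n4162
theorem D5539 : act 4 n4162 = n5539 := rfl
theorem F9126 : act 0 n5539 = n4266 := d3_1 D5539 (iv D4266) (iv F6802)
theorem F9127 : act 1 n5539 = n4163 := d7_1 D5539 (iv D4163) D4162
theorem F9128 : act 2 n5539 = n4276 := d10_1 D5539 (iv D4276) (iv F6803)
def n5540 : Q := act 3 n4163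
theorem D5540 : act 3 n4163 = n5540 := rfl
theorem F9129 : act 0 n5540 = n4166 := d2_1 D5540 (iv D4166) (iv F6805)
def n5541 : Q := act 5 n4163
theorem D5541 : act 5 n4163 = n5541 := rfl
theorem F9130 : act 0 n5541 = n4167 := d4_1 D5541 (iv D4167) (iv F6805)
theorem F9131 : act 2 n5541 = n4164 := d11_1 D5541 (iv D4164) (iv F6806)
theorem F9132 : act 4 n5541 = n4173 := d14_1 D5541 (iv D4173) (iv D3093) (iv F5038) D4163
def n5542 : Q := act 3 n4165
theorem D5542 : act 3 n4165 = n5542 := rfl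
theorem F9133 : act 1 n5542 = n4272 := d6_1 D5542 (iv D4272) (iv F6811)
theorem F9134 : act 4 n5542 = n4166 := d12_2 D4165 D5542 (iv D4166) (iv D3089) D3088
def n5543 : Q := act 5 n4165
theorem D5543 : act 5 n4165 = n5543 := rfl
theorem F9135 : act 1 n5543 = n4273 := d8_1 D5543 (iv D4273) (iv F6811)
theorem F9136 : act 4 n5543 = n4181 := d14_1 D5543 (iv D4181) (iv D3099) (iv F5042) D4165
def n5544 : Q := act 2 n4166
theorem D5544 : act 2 n4166 = n5544 := rfl
def n5545 : Q := act 5 n4166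
theorem D5545 : act 5 n4166 = n5545 := rfl
theorem F9137 : act 1 n5545 = n4275 := d8_1 D5545 (iv D4275) (iv F6812)
theorem F9138 : act 3 n5545 = n4167 := d13_1 D5545 (iv D4167) D4166
def n5546 : Q := act 4 n4168
theorem D5546 : act 4 n4168 = n5546 := rfl
theorem F9139 : act 0 n5546 = n4170 := d3_1 D5546 (iv D4170) D4168
theorem F9140 : act 1 n5546 = n4174 := d7_1 D5546 (iv D4174) (iv F6816)
theorem F9141 : act 2 n5546 = n4283 := d10_1 D5546 (iv D4283) (iv F6817)
def n5547 : Q := act 4 n4169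
theorem D5547 : act 4 n4169 = n5547 := rfl
theorem F9142 : act 0 n5547 = n4969 := d3_1 D5547 (iv D4969) (iv F6820)
theorem F9143 : act 1 n5547 = n4171 := d7_1 D5547 (iv D4171) (iv F6821)
theorem F9144 : act 2 n5547 = n5248 := d10_1 D5547 (iv D5248) (iv F6822)
def n5548 : Q := act 3 n4170
theorem D5548 : act 3 n4170 = n5548 := rfl
theorem F9145 : act 1 n5548 = n4172 := d6_1 D5548 (iv D4172) (iv F6823)
def n5549 : Q := act 5 n4170
theorem D5549 : act 5 n4170 = n5549 := rfl
theorem F9146 : act 1 n5549 = n4173 := d8_1 D5549 (iv D4173) (iv F6823)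
theorem F9147 : act 2 n5549 = n4285 := d11_1 D5549 (iv D4285) (iv F6824)
def n5550 : Q := act 3 n4171
theorem D5550 : act 3 n4171 = n5550 := rfl
theorem F9148 : act 0 n5550 = n4180 := d2_1 D5550 (iv D4180) (iv F6825)
theorem F9149 : act 4 n5550 = n4172 := d12_2 D4171 D5550 (iv D4172) (iv D3093) D3092
def n5551 : Q := act 5 n4171
theorem D5551 : act 5 n4171 = n5551 := rfl
theorem F9150 : act 0 n5551 = n4181 := d4_1 D5551 (iv D4181) (iv F6825)
def n5552 : Q := act 2 n4172
theorem D5552 : act 2 n4172 = n5552 := rfl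
theorem F9151 : act 0 n5552 = n4182 := d1_1 D5552 (iv D4182) (iv F6826)
theorem F9152 : act 3 n5552 = n4195 := d15_1 D5552 F6866 F5088 F3723 (iv F3697) (iv F5064) (iv F6842) (iv D4183) (iv F6826)
theorem F9153 : act 1 n4304 = n5552 := d6_3 F9152 F6865 D4304
theorem F9154 : act 5 n4194 = n5552 := d13_0 F9152 (iv D4195) D4194
def n5553 : Q := act 5 n4172
theorem D5553 : act 5 n4172 = n5553 := rfl
theorem F9155 : act 0 n5553 = n4183 := d4_1 D5553 (iv D4183) (iv F6826)
theorem F9156 : act 2 n5553 = n4194 := d11_1 D5553 F9154 (iv D5552)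
theorem F9157 : act 3 n5553 = n4173 := d13_1 D5553 (iv D4173) D4172
def n5554 : Q := act 3 n4174
theorem D5554 : act 3 n4174 = n5554 := rfl
theorem F9158 : act 0 n5554 = n4176 := d2_1 D5554 (iv D4176) (iv F6829)
theorem F9159 : act 4 n5554 = n4970 := d12_2 D4174 D5554 (iv D4970) (iv D3718) F5057
def n5555 : Q := act 5 n4174
theorem D5555 : act 5 n4174 = n5555 := rfl
theorem F9160 : act 0 n5555 = n4177 := d4_1 D5555 (iv D4177) (iv F6829)
theorem F9161 : act 2 n5555 = n4185 := d11_1 D5555 (iv D4185) (iv F6830)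
theorem F9162 : act 4 n5555 = n4269 := d14_1 D5555 (iv D4269) (iv D3165) (iv F5056) D4174
def n5556 : Q := act 3 n4175
theorem D5556 : act 3 n4175 = n5556 := rfl
theorem F9163 : act 0 n5556 = n4970 := d2_1 D5556 (iv D4970) (iv F6831)
theorem F9164 : act 1 n5556 = n4180 := d6_1 D5556 (iv D4180) (iv F6832)
theorem F9165 : act 4 n5556 = n4176 := d12_2 D4175 D5556 (iv D4176) (iv D3097) D3096
def n5557 : Q := act 5 n4175
theorem D5557 : act 5 n4175 = n5557 := rfl
theorem F9166 : act 0 n5557 = n4971 := d4_1 D5557 (iv D4971) (iv F6831)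
theorem F9167 : act 1 n5557 = n4181 := d8_1 D5557 (iv D4181) (iv F6832)
theorem F9168 : act 2 n5557 = n4964 := d11_1 D5557 (iv D4964) (iv F6833)
theorem F9169 : act 4 n5557 = n4273 := d14_1 D5557 (iv D4273) (iv D3168) (iv F5060) D4175
def n5558 : Q := act 2 n4176
theorem D5558 : act 2 n4176 = n5558 := rfl
def n5559 : Q := act 5 n4176
theorem D5559 : act 5 n4176 = n5559 := rfl
theorem F9170 : act 1 n5559 = n4183 := d8_1 D5559 (iv D4183) (iv F6834)
theorem F9171 : act 3 n5559 = n4177 := d13_1 D5559 (iv D4177) D4176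
def n5560 : Q := act 4 n4178
theorem D5560 : act 4 n4178 = n5560 := rfl
theorem F9172 : act 0 n5560 = n5269 := d3_1 D5560 (iv D5269) (iv F6838)
theorem F9173 : act 1 n5560 = n4179 := d7_1 D5560 (iv D4179) D4178
theorem F9174 : act 2 n5560 = n4960 := d10_1 D5560 (iv D4960) (iv F6839)
def n5561 : Q := act 3 n4179
theorem D5561 : act 3 n4179 = n5561 := rfl
def n5562 : Q := act 5 n4179
theorem D5562 : act 5 n4179 = n5562 := rfl
theorem F9175 : act 2 n5562 = n4181 := d11_1 D5562 (iv D4181) (iv F6840)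
def n5563 : Q := act 2 n4180
theorem D5563 : act 2 n4180 = n5563 := rfl
theorem F9176 : act 4 n5563 = n4182 := d10_2 (iv F6841) D5563 (iv D4182)
def n5564 : Q := act 5 n4180
theorem D5564 : act 5 n4180 = n5564 := rfl
theorem F9177 : act 3 n5564 = n4181 := d13_1 D5564 (iv D4181) D4180
def n5565 : Q := act 1 n4182
theorem D5565 : act 1 n4182 = n5565 := rfl
def n5566 : Q := act 3 n4182
theorem D5566 : act 3 n4182 = n5566 := rfl
theorem F9178 : act 0 n5566 = n4195 := d2_1 D5566 (iv F9152) F9151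
theorem F9179 : act 2 n5566 = n4190 := d9_1 D5566 F6858 F5080 (iv F5054) (iv F6828) (iv F9157) F9156 (iv D4194) (iv D3111) (iv D2281) F2721 (iv F2707) (iv F3695) D3100 D4182
theorem F9180 : act 5 n5566 = n4189 := d15_8 (iv D3111) (iv D2281) F2721 (iv F2707) (iv F3695) D3100 D4182 D5566 F6856
def n5567 : Q := act 5 n4182
theorem D5567 : act 5 n4182 = n5567 := rfl
theorem F9181 : act 0 n5567 = n4194 := d4_1 D5567 F9154 F9151
theorem F9182 : act 2 n5567 = n4183 := d11_1 D5567 (iv D4183) D4182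
theorem F9183 : act 3 n5567 = n4189 := d13_1 D5567 (iv F9180) (iv D5566)
def n5568 : Q := act 4 n4183
theorem D5568 : act 4 n4183 = n5568 := rfl
def n5569 : Q := act 2 n4184
theorem D5569 : act 2 n4184 = n5569 := rfl
theorem F9184 : act 0 n5569 = n4186 := d1_1 D5569 (iv D4186) (iv F6843)
theorem F9185 : act 4 n5569 = n4263 := d10_2 (iv F6845) D5569 (iv D4263)
def n5570 : Q := act 5 n4184
theorem D5570 : act 5 n4184 = n5570 := rfl
theorem F9186 : act 0 n5570 = n4187 := d4_1 D5570 (iv D4187) (iv F6843)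
theorem F9187 : act 1 n5570 = n4303 := d8_1 D5570 (iv D4303) (iv F6844)
theorem F9188 : act 3 n5570 = n4185 := d13_1 D5570 (iv D4185) D4184
theorem F9189 : act 4 n5570 = n4303 := d14_1 D5570 (iv D4303) (iv F6775) F6776 (iv F6845)
def n5571 : Q := act 3 n4186
theorem D5571 : act 3 n4186 = n5571 := rfl
def n5572 : Q := act 5 n4186
theorem D5572 : act 5 n4186 = n5572 := rfl
theorem F9190 : act 1 n5572 = n4192 := d8_1 D5572 (iv F8930) F8928
theorem F9191 : act 2 n5572 = n4187 := d11_1 D5572 (iv D4187) D4186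
theorem F9192 : act 4 n5572 = n4193 := d14_1 D5572 (iv F6864) (iv F6777) F6778 (iv F6849)
def n5573 : Q := act 2 n4188
theorem D5573 : act 2 n4188 = n5573 := rfl
theorem F9193 : act 0 n5573 = n4192 := d1_1 D5573 (iv D4192) (iv F6853)
theorem F9194 : act 4 n5573 = n4189 := d10_2 (iv F6855) D5573 (iv D4189)
def n5574 : Q := act 1 n4189
theorem D5574 : act 1 n4189 = n5574 := rfl
def n5575 : Q := act 2 n4191
theorem D5575 : act 2 n4191 = n5575 := rfl
theorem F9195 : act 0 n5575 = n4305 := d1_1 D5575 (iv D4305) (iv F6859)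
theorem F9196 : act 4 n5575 = n4984 := d10_2 (iv F6861) D5575 (iv D4984)
def n5576 : Q := act 3 n4192
theorem D5576 : act 3 n4192 = n5576 := rfl
def n5577 : Q := act 0 n4193
theorem D5577 : act 0 n4193 = n5577 := rfl
theorem F9197 : act 2 n5577 = n4303 := d1_2 (iv F6863) D5577 F7042
theorem F9198 : act 5 n5577 = n4302 := d4_2 F6864 D5577 F7041
def n5578 : Q := act 3 n4193
theorem D5578 : act 3 n4193 = n5578 := rfl
theorem F9199 : act 1 n5578 = n4194 := d6_1 D5578 (iv D4194) D4193
theorem F9200 : act 5 n5578 = n4304 := d13_2 F6864 D5578 (iv D4304)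
def n5579 : Q := act 4 n4194
theorem D5579 : act 4 n4194 = n5579 := rfl
def n5580 : Q := act 4 n4196
theorem D5580 : act 4 n4196 = n5580 := rfl
theorem F9201 : act 0 n5580 = n4338 := d3_1 D5580 (iv D4338) (iv F6867)
theorem F9202 : act 1 n5580 = n4198 := d7_1 D5580 (iv D4198) D4196
theorem F9203 : act 2 n5580 = n4208 := d10_1 D5580 (iv D4208) (iv F6868)
def n5581 : Q := act 4 n4197
theorem D5581 : act 4 n4197 = n5581 := rfl
theorem F9204 : act 0 n5581 = n4202 := d3_1 D5581 (iv D4202) (iv F6871)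
theorem F9205 : act 1 n5581 = n4379 := d7_1 D5581 (iv D4379) (iv F6872)
def n5582 : Q := act 3 n4198
theorem D5582 : act 3 n4198 = n5582 := rfl
theorem F9206 : act 0 n5582 = n4203 := d2_1 D5582 (iv D4203) (iv F6874)
def n5583 : Q := act 5 n4198
theorem D5583 : act 5 n4198 = n5583 := rfl
theorem F9207 : act 0 n5583 = n4204 := d4_1 D5583 (iv D4204) (iv F6874)
theorem F9208 : act 2 n5583 = n4199 := d11_1 D5583 (iv D4199) (iv F6875)
theorem F9209 : act 4 n5583 = n4348 := d14_1 D5583 (iv D4348) (iv D3230) (iv F5090) D4198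
def n5584 : Q := act 2 n4200
theorem D5584 : act 2 n4200 = n5584 := rfl
theorem F9210 : act 0 n5584 = n4205 := d1_1 D5584 (iv D4205) (iv F6879)
theorem F9211 : act 4 n5584 = n4368 := d10_2 (iv F6881) D5584 (iv D4368)
def n5585 : Q := act 4 n4201
theorem D5585 : act 4 n4201 = n5585 := rfl
theorem F9212 : act 1 n5585 = n4377 := d7_1 D5585 (iv D4377) (iv F6882)
theorem F9213 : act 2 n5585 = n4202 := d10_1 D5585 (iv D4202) D4201
def n5586 : Q := act 3 n4202
theorem D5586 : act 3 n4202 = n5586 := rfl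
theorem F9214 : act 1 n5586 = n4357 := d6_1 D5586 (iv D4357) (iv F6884)
theorem F9215 : act 4 n5586 = n4203 := d12_2 D4202 D5586 (iv D4203) (iv D3117) D3116
def n5587 : Q := act 5 n4202
theorem D5587 : act 5 n4202 = n5587 := rfl
theorem F9216 : act 1 n5587 = n4356 := d8_1 D5587 F7126 (iv F6884)
theorem F9217 : act 4 n5587 = n4351 := d14_1 D5587 (iv D4351) (iv D3232) (iv F5096) D4202
def n5588 : Q := act 2 n4203
theorem D5588 : act 2 n4203 = n5588 := rfl
def n5589 : Q := act 5 n4203
theorem D5589 : act 5 n4203 = n5589 := rfl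
theorem F9218 : act 1 n5589 = n4360 := d8_1 D5589 F7129 (iv F6885)
theorem F9219 : act 3 n5589 = n4204 := d13_1 D5589 (iv D4204) D4203
def n5590 : Q := act 1 n4205
theorem D5590 : act 1 n4205 = n5590 := rfl
theorem F9220 : act 2 n5590 = n4206 := d5_2 D4205 D5590 (iv D4206) (iv D3120) (iv F5101)
theorem F9221 : act 4 n5590 = n4370 := d7_2 (iv F6889) D5590 (iv D4370)
theorem F9222 : act 5 n5590 = n4983 := d8_2 F8073 D5590 F8134
def n5591 : Q := act 3 n4205
theorem D5591 : act 3 n4205 = n5591 := rfl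
def n5592 : Q := act 0 n4206
theorem D5592 : act 0 n4206 = n5592 := rfl
theorem F9223 : act 1 n5592 = n4235 := d0_2 D4206 D5592 (iv D4235) (iv D3143) (iv F5103)
theorem F9224 : act 3 n5592 = n4959 := d2_2 (iv F6890) D5592 (iv D4959)
theorem F9225 : act 4 n5592 = n4374 := d3_2 (iv F6891) D5592 (iv D4374)
theorem F9226 : act 5 n5592 = n4982 := d4_2 (iv F6892) D5592 F8133
def n5593 : Q := act 4 n4207
theorem D5593 : act 4 n4207 = n5593 := rfl
theorem F9227 : act 0 n5593 = n4208 := d3_1 D5593 (iv D4208) D4207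
theorem F9228 : act 1 n5593 = n4216 := d7_1 D5593 (iv D4216) (iv F6893)
theorem F9229 : act 2 n5593 = n4338 := d10_1 D5593 (iv D4338) (iv F6894)
def n5594 : Q := act 3 n4208
theorem D5594 : act 3 n4208 = n5594 := rfl
theorem F9230 : act 1 n5594 = n4210 := d6_1 D5594 (iv D4210) (iv F6897)
def n5595 : Q := act 5 n4208
theorem D5595 : act 5 n4208 = n5595 := rfl
theorem F9231 : act 1 n5595 = n4211 := d8_1 D5595 (iv D4211) (iv F6897)
def n5596 : Q := act 4 n4209
theorem D5596 : act 4 n4209 = n5596 := rfl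
theorem F9232 : act 0 n5596 = n4324 := d3_1 D5596 (iv D4324) (iv F6898)
theorem F9233 : act 1 n5596 = n4212 := d7_1 D5596 (iv D4212) (iv F6899)
theorem F9234 : act 2 n5596 = n4335 := d10_1 D5596 (iv D4335) (iv F6900)
def n5597 : Q := act 2 n4210
theorem D5597 : act 2 n4210 = n5597 := rfl
theorem F9235 : act 0 n5597 = n4223 := d1_1 D5597 (iv D4223) (iv F6902)
def n5598 : Q := act 5 n4210
theorem D5598 : act 5 n4210 = n5598 := rfl
theorem F9236 : act 0 n5598 = n4224 := d4_1 D5598 (iv D4224) (iv F6902)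
theorem F9237 : act 3 n5598 = n4211 := d13_1 D5598 (iv D4211) D4210
def n5599 : Q := act 4 n4211
theorem D5599 : act 4 n4211 = n5599 := rfl
theorem F9238 : act 0 n5599 = n4225 := d3_1 D5599 (iv D4225) (iv F6903)
theorem F9239 : act 2 n5599 = n4213 := d10_1 D5599 (iv D4213) (iv F6904)
theorem F9240 : act 5 n5599 = n4212 := d14_2 D4211 D5599 (iv D4212) (iv D3123) D3122
def n5600 : Q := act 3 n4212
theorem D5600 : act 3 n4212 = n5600 := rfl
theorem F9241 : act 0 n5600 = n4226 := d2_1 D5600 (iv D4226) (iv F6905)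
theorem F9242 : act 4 n5600 = n4249 := d12_2 D4212 D5600 (iv D4249) (iv D3152) (iv F5111)
def n5601 : Q := act 3 n4213
theorem D5601 : act 3 n4213 = n5601 := rfl
theorem F9243 : act 0 n5601 = n4227 := d2_1 D5601 (iv D4227) (iv F6907)
theorem F9244 : act 1 n5601 = n4369 := d6_1 D5601 F7142 (iv F6908)
theorem F9245 : act 5 n5601 = n4214 := d13_2 (iv F6909) D5601 (iv D4214)
def n5602 : Q := act 2 n4214
theorem D5602 : act 2 n4214 = n5602 := rfl
theorem F9246 : act 0 n5602 = n4228 := d1_1 D5602 (iv D4228) (iv F6910)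
theorem F9247 : act 4 n5602 = n4215 := d10_2 (iv F6912) D5602 (iv D4215)
def n5603 : Q := act 1 n4215
theorem D5603 : act 1 n4215 = n5603 := rfl
def n5604 : Q := act 3 n4216
theorem D5604 : act 3 n4216 = n5604 := rfl
theorem F9248 : act 0 n5604 = n4218 := d2_1 D5604 (iv D4218) (iv F6914)
theorem F9249 : act 4 n5604 = n5561 := d12_2 D4216 D5604 (iv D5561) (iv D4179) F5118
def n5605 : Q := act 5 n4216
theorem D5605 : act 5 n4216 = n5605 := rfl
theorem F9250 : act 0 n5605 = n4219 := d4_1 D5605 (iv D4219) (iv F6914)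
theorem F9251 : act 2 n5605 = n4232 := d11_1 D5605 (iv D4232) (iv F6915)
theorem F9252 : act 4 n5605 = n4327 := d14_1 D5605 (iv D4327) (iv D3212) (iv F5117) D4216
def n5606 : Q := act 3 n4217
theorem D5606 : act 3 n4217 = n5606 := rfl
theorem F9253 : act 0 n5606 = n5561 := d2_1 D5606 (iv D5561) (iv F6916)
theorem F9254 : act 1 n5606 = n4220 := d6_1 D5606 (iv D4220) (iv F6917)
theorem F9255 : act 4 n5606 = n4218 := d12_2 D4217 D5606 (iv D4218) (iv D3129) D3128
def n5607 : Q := act 5 n4217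
theorem D5607 : act 5 n4217 = n5607 := rfl
theorem F9256 : act 0 n5607 = n5562 := d4_1 D5607 (iv D5562) (iv F6916)
theorem F9257 : act 1 n5607 = n4221 := d8_1 D5607 (iv D4221) (iv F6917)
theorem F9258 : act 2 n5607 = n5551 := d11_1 D5607 (iv D5551) (iv F6918)
theorem F9259 : act 4 n5607 = n4331 := d14_1 D5607 (iv D4331) (iv D3216) (iv F5121) D4217
def n5608 : Q := act 2 n4218
theorem D5608 : act 2 n4218 = n5608 := rfl
def n5609 : Q := act 5 n4218
theorem D5609 : act 5 n4218 = n5609 := rfl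
theorem F9260 : act 1 n5609 = n4224 := d8_1 D5609 (iv D4224) (iv F6919)
theorem F9261 : act 3 n5609 = n4219 := d13_1 D5609 (iv D4219) D4218
def n5610 : Q := act 2 n4220
theorem D5610 : act 2 n4220 = n5610 := rfl
theorem F9262 : act 4 n5610 = n4223 := d10_2 (iv F6923) D5610 (iv D4223)
def n5611 : Q := act 5 n4220
theorem D5611 : act 5 n4220 = n5611 := rfl
theorem F9263 : act 3 n5611 = n4221 := d13_1 D5611 (iv D4221) D4220
def n5612 : Q := act 4 n4221
theorem D5612 : act 4 n4221 = n5612 := rfl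
theorem F9264 : act 0 n5612 = n4250 := d3_1 D5612 (iv F8669) F8667
theorem F9265 : act 1 n5612 = n4331 := d7_1 D5612 (iv F9259) F9257
theorem F9266 : act 2 n5612 = n4242 := d10_1 D5612 (iv F8662) F8661
theorem F9267 : act 5 n5612 = n4222 := d14_2 D4221 D5612 (iv D4222) (iv D3131) D3130
def n5613 : Q := act 3 n4222
theorem D5613 : act 3 n4222 = n5613 := rfl
theorem F9268 : act 0 n5613 = n4249 := d2_1 D5613 (iv D4249) (iv F6924)
theorem F9269 : act 1 n5613 = n4330 := d6_1 D5613 (iv D4330) (iv F6925)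
theorem F9270 : act 4 n5613 = n4226 := d12_2 D4222 D5613 (iv D4226) (iv D3134) (iv F5128)
def n5614 : Q := act 1 n4223
theorem D5614 : act 1 n4223 = n5614 := rfl
def n5615 : Q := act 3 n4223
theorem D5615 : act 3 n4223 = n5615 := rfl
def n5616 : Q := act 5 n4223
theorem D5616 : act 5 n4223 = n5616 := rfl
theorem F9271 : act 2 n5616 = n4224 := d11_1 D5616 (iv D4224) D4223
def n5617 : Q := act 4 n4224
theorem D5617 : act 4 n4224 = n5617 := rfl
def n5618 : Q := act 3 n4225
theorem D5618 : act 3 n4225 = n5618 := rfl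
theorem F9272 : act 1 n5618 = n4333 := d6_1 D5618 F7084 (iv F6928)
theorem F9273 : act 5 n5618 = n4226 := d13_2 (iv F6930) D5618 (iv D4226)
def n5619 : Q := act 2 n4226
theorem D5619 : act 2 n4226 = n5619 := rfl
def n5620 : Q := act 2 n4227
theorem D5620 : act 2 n4227 = n5620 := rfl
theorem F9274 : act 1 n5620 = n5008 := d5_1 D5620 (iv D5008) F6101 (iv F5143) (iv F6932)
theorem F9275 : act 5 n5620 = n4228 := d11_2 (iv F6933) D5620 (iv D4228)
def n5621 : Q := act 1 n4228
theorem D5621 : act 1 n4228 = n5621 := rfl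
theorem F9276 : act 2 n5621 = n4234 := d5_2 D4228 D5621 (iv D4234) (iv D3142) (iv F5134)
theorem F9277 : act 4 n5621 = n4229 := d7_2 (iv F6934) D5621 (iv D4229)
theorem F9278 : act 5 n5621 = n5008 := d8_2 F9275 D5621 (iv F9274)
def n5622 : Q := act 3 n4228
theorem D5622 : act 3 n4228 = n5622 := rfl
def n5623 : Q := act 0 n4229
theorem D5623 : act 0 n4229 = n5623 := rfl
theorem F9279 : act 2 n5623 = n4235 := d1_2 (iv F6935) D5623 (iv D4235)
def n5624 : Q := act 3 n4229
theorem D5624 : act 3 n4229 = n5624 := rfl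
theorem F9280 : act 1 n5624 = n4230 := d6_1 D5624 (iv D4230) D4229
def n5625 : Q := act 4 n4230
theorem D5625 : act 4 n4230 = n5625 := rfl
def n5626 : Q := act 2 n4231
theorem D5626 : act 2 n4231 = n5626 := rfl
theorem F9281 : act 0 n5626 = n4233 := d1_1 D5626 (iv D4233) (iv F6936)
theorem F9282 : act 4 n5626 = n4328 := d10_2 (iv F6938) D5626 (iv D4328)
def n5627 : Q := act 3 n4233
theorem D5627 : act 3 n4233 = n5627 := rfl
theorem F9283 : act 1 n5627 = n4893 := d6_1 D5627 (iv D4893) (iv F6942)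
def n5628 : Q := act 0 n4234
theorem D5628 : act 0 n4234 = n5628 := rfl
theorem F9284 : act 1 n5628 = n4374 := d0_2 D4234 D5628 (iv D4374) (iv D3250) (iv F5145)
theorem F9285 : act 3 n5628 = n5007 := d2_2 (iv F6944) D5628 F8169
theorem F9286 : act 4 n5628 = n4235 := d3_2 (iv F6945) D5628 (iv D4235)
theorem F9287 : act 5 n5628 = n5006 := d4_2 (iv F6946) D5628 F8166
def n5629 : Q := act 3 n4235
theorem D5629 : act 3 n4235 = n5629 := rfl
theorem F9288 : act 0 n5629 = n4236 := d2_1 D5629 (iv D4236) D4235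
theorem F9289 : act 1 n5629 = n4959 := d6_1 D5629 (iv F9224) F9223
theorem F9290 : act 5 n5629 = n4869 := d13_2 F9099 D5629 (iv F9098)
def n5630 : Q := act 2 n4236
theorem D5630 : act 2 n4236 = n5630 := rfl
theorem F9291 : act 1 n5630 = n4864 := d5_1 D5630 F7941 F5879 (iv F5150) (iv F6947)
theorem F9292 : act 5 n5630 = n4859 := d11_2 (iv F6948) D5630 F7939
def n5631 : Q := act 4 n4237
theorem D5631 : act 4 n4237 = n5631 := rfl
theorem F9293 : act 1 n5631 = n4329 := d7_1 D5631 (iv D4329) (iv F6949)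
theorem F9294 : act 2 n5631 = n4238 := d10_1 D5631 (iv D4238) D4237
def n5632 : Q := act 3 n4238
theorem D5632 : act 3 n4238 = n5632 := rfl
theorem F9295 : act 1 n5632 = n4241 := d6_1 D5632 (iv D4241) (iv F6952)
theorem F9296 : act 4 n5632 = n4239 := d12_2 D4238 D5632 (iv D4239) (iv D3146) D3145
def n5633 : Q := act 5 n4238
theorem D5633 : act 5 n4238 = n5633 := rfl
theorem F9297 : act 1 n5633 = n4242 := d8_1 D5633 (iv D4242) (iv F6952)
def n5634 : Q := act 2 n4239
theorem D5634 : act 2 n4239 = n5634 := rfl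
def n5635 : Q := act 5 n4239
theorem D5635 : act 5 n4239 = n5635 := rfl
theorem F9298 : act 1 n5635 = n4244 := d8_1 D5635 (iv D4244) (iv F6953)
theorem F9299 : act 3 n5635 = n4240 := d13_1 D5635 (iv D4240) D4239
def n5636 : Q := act 2 n4241
theorem D5636 : act 2 n4241 = n5636 := rfl
theorem F9300 : act 0 n5636 = n4251 := d1_1 D5636 (iv D4251) (iv F6955)
theorem F9301 : act 4 n5636 = n4243 := d10_2 (iv F6956) D5636 (iv D4243)
def n5637 : Q := act 5 n4241
theorem D5637 : act 5 n4241 = n5637 := rfl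
theorem F9302 : act 0 n5637 = n4252 := d4_1 D5637 (iv D4252) (iv F6955)
theorem F9303 : act 3 n5637 = n4242 := d13_1 D5637 (iv D4242) D4241
def n5638 : Q := act 1 n4243
theorem D5638 : act 1 n4243 = n5638 := rfl
def n5639 : Q := act 4 n4244
theorem D5639 : act 4 n4244 = n5639 := rfl
theorem F9304 : act 0 n5639 = n4256 := d3_1 D5639 (iv D4256) (iv F6959)
def n5640 : Q := act 0 n4245
theorem D5640 : act 0 n4245 = n5640 := rfl
theorem F9305 : act 1 n5640 = n4257 := d0_2 D4245 D5640 (iv D4257) (iv D3157) (iv F5158)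
def n5641 : Q := act 3 n4245
theorem D5641 : act 3 n4245 = n5641 := rfl
theorem F9306 : act 1 n5641 = n4246 := d6_1 D5641 (iv D4246) D4245
def n5642 : Q := act 4 n4246
theorem D5642 : act 4 n4246 = n5642 := rfl
theorem F9307 : act 0 n5642 = n4260 := d3_1 D5642 (iv D4260) (iv F6961)
def n5643 : Q := act 4 n4247
theorem D5643 : act 4 n4247 = n5643 := rfl
theorem F9308 : act 0 n5643 = n4248 := d3_1 D5643 (iv D4248) D4247
theorem F9309 : act 1 n5643 = n4325 := d7_1 D5643 (iv D4325) (iv F6962)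
def n5644 : Q := act 3 n4248
theorem D5644 : act 3 n4248 = n5644 := rfl
theorem F9310 : act 1 n5644 = n4249 := d6_1 D5644 (iv D4249) (iv F6965)
def n5645 : Q := act 5 n4248
theorem D5645 : act 5 n4248 = n5645 := rfl
theorem F9311 : act 1 n5645 = n4250 := d8_1 D5645 (iv D4250) (iv F6965)
def n5646 : Q := act 2 n4249
theorem D5646 : act 2 n4249 = n5646 := rfl
def n5647 : Q := act 5 n4249
theorem D5647 : act 5 n4249 = n5647 := rfl
theorem F9312 : act 3 n5647 = n4250 := d13_1 D5647 (iv D4250) D4249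
def n5648 : Q := act 1 n4251
theorem D5648 : act 1 n4251 = n5648 := rfl
theorem F9313 : act 4 n5648 = n4253 := d7_2 (iv F6967) D5648 (iv D4253)
def n5649 : Q := act 3 n4251
theorem D5649 : act 3 n4251 = n5649 := rfl
def n5650 : Q := act 5 n4251
theorem D5650 : act 5 n4251 = n5650 := rfl
theorem F9314 : act 2 n5650 = n4252 := d11_1 D5650 (iv D4252) D4251
def n5651 : Q := act 4 n4252
theorem D5651 : act 4 n4252 = n5651 := rfl
theorem F9315 : act 5 n5651 = n4256 := d14_2 D4252 D5651 (iv D4256) (iv D3156) (iv F5160)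
def n5652 : Q := act 0 n4253
theorem D5652 : act 0 n4253 = n5652 := rfl
def n5653 : Q := act 3 n4253
theorem D5653 : act 3 n4253 = n5653 := rfl
theorem F9316 : act 1 n5653 = n4254 := d6_1 D5653 (iv D4254) D4253
def n5654 : Q := act 5 n4253
theorem D5654 : act 5 n4253 = n5654 := rfl
theorem F9317 : act 1 n5654 = n4255 := d8_1 D5654 (iv D4255) D4253
def n5655 : Q := act 4 n4254
theorem D5655 : act 4 n4254 = n5655 := rfl
def n5656 : Q := act 4 n4255
theorem D5656 : act 4 n4255 = n5656 := rfl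
theorem F9318 : act 2 n5656 = n4256 := d10_1 D5656 (iv D4256) (iv F6969)
def n5657 : Q := act 3 n4257
theorem D5657 : act 3 n4257 = n5657 := rfl
theorem F9319 : act 0 n5657 = n4258 := d2_1 D5657 (iv D4258) D4257
def n5658 : Q := act 2 n4258
theorem D5658 : act 2 n4258 = n5658 := rfl
def n5659 : Q := act 4 n4258
theorem D5659 : act 4 n4258 = n5659 := rfl
theorem F9320 : act 1 n5659 = n4260 := d7_1 D5659 (iv D4260) (iv F6971)
def n5660 : Q := act 1 n4259
theorem D5660 : act 1 n4259 = n5660 := rfl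
def n5661 : Q := act 4 n4259
theorem D5661 : act 4 n4259 = n5661 := rfl
theorem F9321 : act 2 n5661 = n4260 := d10_1 D5661 (iv D4260) D4259
def n5662 : Q := act 5 n4260
theorem D5662 : act 5 n4260 = n5662 := rfl
def n5663 : Q := act 2 n4261
theorem D5663 : act 2 n4261 = n5663 := rfl
theorem F9322 : act 0 n5663 = n4262 := d1_1 D5663 (iv D4262) (iv F6972)
def n5664 : Q := act 3 n4262
theorem D5664 : act 3 n4262 = n5664 := rfl
theorem F9323 : act 1 n5664 = n4264 := d6_1 D5664 (iv D4264) (iv F6973)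
def n5665 : Q := act 1 n4263
theorem D5665 : act 1 n4263 = n5665 := rfl
def n5666 : Q := act 3 n4263
theorem D5666 : act 3 n4263 = n5666 := rfl
theorem F9324 : act 0 n5666 = n4264 := d2_1 D5666 (iv D4264) (iv F6974)
theorem F9325 : act 2 n5666 = n4955 := d9_1 D5666 (iv D4955) (iv D3706) (iv D2737) (iv F3658) D3080 D4153 D5529 F9106 (iv D4968) (iv D3716) (iv D2749) (iv F3777) D3161 D4263
theorem F9326 : act 5 n5666 = n4980 := d13_2 F9102 D5666 (iv F9103)
def n5667 : Q := act 2 n4264
theorem D5667 : act 2 n4264 = n5667 := rfl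
theorem F9327 : act 0 n5667 = n4955 := d1_1 D5667 (iv F9325) F9324
theorem F9328 : act 3 n5667 = n4941 := d9_2 D4264 D5667 (iv D4941) (iv D3695) (iv F5019) D4152 D5528 F9103 (iv D4980) (iv D3724) (iv D2754) (iv D2008) (iv F2753) D2321 D3162
theorem F9329 : act 5 n5667 = n4968 := d11_2 F9105 D5667 (iv F9106)
def n5668 : Q := act 4 n4264
theorem D5668 : act 4 n4264 = n5668 := rfl
def n5669 : Q := act 4 n4265
theorem D5669 : act 4 n4265 = n5669 := rfl
theorem F9330 : act 0 n5669 = n5631 := d3_1 D5669 (iv D5631) (iv F6975)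
theorem F9331 : act 1 n5669 = n4267 := d7_1 D5669 (iv D4267) (iv F6976)
theorem F9332 : act 2 n5669 = n4773 := d10_1 D5669 (iv D4773) (iv F6977)
def n5670 : Q := act 3 n4266
theorem D5670 : act 3 n4266 = n5670 := rfl
theorem F9333 : act 1 n5670 = n4268 := d6_1 D5670 (iv D4268) (iv F6979)
def n5671 : Q := act 5 n4266
theorem D5671 : act 5 n4266 = n5671 := rfl
theorem F9334 : act 1 n5671 = n4269 := d8_1 D5671 (iv D4269) (iv F6979)
def n5672 : Q := act 3 n4267
theorem D5672 : act 3 n4267 = n5672 := rfl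
theorem F9335 : act 0 n5672 = n4272 := d2_1 D5672 (iv D4272) (iv F6980)
theorem F9336 : act 4 n5672 = n4268 := d12_2 D4267 D5672 (iv D4268) (iv D3165) D3164
def n5673 : Q := act 5 n4267
theorem D5673 : act 5 n4267 = n5673 := rfl
theorem F9337 : act 0 n5673 = n4273 := d4_1 D5673 (iv D4273) (iv F6980)
theorem F9338 : act 2 n5673 = n4772 := d11_1 D5673 (iv D4772) (iv F6981)
theorem F9339 : act 4 n5673 = n4971 := d14_1 D5673 (iv D4971) (iv D3718) (iv F5167) D4267
def n5674 : Q := act 2 n4268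
theorem D5674 : act 2 n4268 = n5674 := rfl
theorem F9340 : act 0 n5674 = n4274 := d1_1 D5674 (iv D4274) (iv F6982)
def n5675 : Q := act 5 n4268
theorem D5675 : act 5 n4268 = n5675 := rfl
theorem F9341 : act 0 n5675 = n4275 := d4_1 D5675 (iv D4275) (iv F6982)
theorem F9342 : act 3 n5675 = n4269 := d13_1 D5675 (iv D4269) D4268
def n5676 : Q := act 4 n4270
theorem D5676 : act 4 n4270 = n5676 := rfl
theorem F9343 : act 0 n5676 = n4760 := d3_1 D5676 (iv D4760) (iv F6985)
theorem F9344 : act 1 n5676 = n4271 := d7_1 D5676 (iv D4271) D4270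
theorem F9345 : act 2 n5676 = n5643 := d10_1 D5676 (iv D5643) (iv F6986)
def n5677 : Q := act 3 n4271
theorem D5677 : act 3 n4271 = n5677 := rfl
theorem F9346 : act 0 n5677 = n4767 := d2_1 D5677 F7756 (iv F6989)
theorem F9347 : act 4 n5677 = n4764 := d12_2 D4271 D5677 (iv D4764) F5731 (iv F5172)
def n5678 : Q := act 5 n4271
theorem D5678 : act 5 n4271 = n5678 := rfl
theorem F9348 : act 0 n5678 = n4772 := d4_1 D5678 (iv D4772) (iv F6989)
theorem F9349 : act 2 n5678 = n4273 := d11_1 D5678 (iv D4273) (iv F6990)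
theorem F9350 : act 4 n5678 = n4964 := d14_1 D5678 (iv D4964) (iv D3713) (iv F5173) D4271
def n5679 : Q := act 2 n4272
theorem D5679 : act 2 n4272 = n5679 := rfl
theorem F9351 : act 4 n5679 = n4274 := d10_2 (iv F6991) D5679 (iv D4274)
def n5680 : Q := act 5 n4272
theorem D5680 : act 5 n4272 = n5680 := rfl
theorem F9352 : act 3 n5680 = n4273 := d13_1 D5680 (iv D4273) D4272
def n5681 : Q := act 1 n4274
theorem D5681 : act 1 n4274 = n5681 := rfl
def n5682 : Q := act 3 n4274
theorem D5682 : act 3 n4274 = n5682 := rfl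
def n5683 : Q := act 5 n4274
theorem D5683 : act 5 n4274 = n5683 := rfl
theorem F9353 : act 2 n5683 = n4275 := d11_1 D5683 (iv D4275) D4274
def n5684 : Q := act 4 n4275
theorem D5684 : act 4 n4275 = n5684 := rfl
def n5685 : Q := act 3 n4276
theorem D5685 : act 3 n4276 = n5685 := rfl
theorem F9354 : act 1 n5685 = n4277 := d6_1 D5685 (iv D4277) (iv F6993)
theorem F9355 : act 4 n5685 = n4391 := d12_2 D4276 D5685 (iv D4391) (iv D3268) (iv F5175)
def n5686 : Q := act 5 n4276
theorem D5686 : act 5 n4276 = n5686 := rfl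
theorem F9356 : act 1 n5686 = n4278 := d8_1 D5686 (iv D4278) (iv F6993)
theorem F9357 : act 4 n5686 = n4285 := d14_1 D5686 (iv D4285) (iv D3178) (iv F5176) D4276
def n5687 : Q := act 2 n4277
theorem D5687 : act 2 n4277 = n5687 := rfl
theorem F9358 : act 0 n5687 = n4281 := d1_1 D5687 (iv D4281) (iv F6994)
theorem F9359 : act 4 n5687 = n4393 := d10_2 (iv F6995) D5687 (iv D4393)
def n5688 : Q := act 5 n4277
theorem D5688 : act 5 n4277 = n5688 := rfl
theorem F9360 : act 0 n5688 = n4282 := d4_1 D5688 (iv D4282) (iv F6994)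
theorem F9361 : act 3 n5688 = n4278 := d13_1 D5688 (iv D4278) D4277
def n5689 : Q := act 2 n4279
theorem D5689 : act 2 n4279 = n5689 := rfl
theorem F9362 : act 0 n5689 = n4393 := d1_1 D5689 (iv D4393) (iv F6999)
theorem F9363 : act 4 n5689 = n4281 := d10_2 (iv F7000) D5689 (iv D4281)
def n5690 : Q := act 5 n4279
theorem D5690 : act 5 n4279 = n5690 := rfl
theorem F9364 : act 0 n5690 = n4394 := d4_1 D5690 (iv D4394) (iv F6999)
theorem F9365 : act 3 n5690 = n4280 := d13_1 D5690 (iv D4280) D4279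
def n5691 : Q := act 1 n4281
theorem D5691 : act 1 n4281 = n5691 := rfl
def n5692 : Q := act 3 n4281
theorem D5692 : act 3 n4281 = n5692 := rfl
def n5693 : Q := act 5 n4281
theorem D5693 : act 5 n4281 = n5693 := rfl
theorem F9366 : act 2 n5693 = n4282 := d11_1 D5693 (iv D4282) D4281
def n5694 : Q := act 4 n4282
theorem D5694 : act 4 n4282 = n5694 := rfl
theorem F9367 : act 3 n5694 = n4301 := d12_1 D5694 (iv D4301) F5208 (iv F5184) (iv F7004)
def n5695 : Q := act 3 n4283
theorem D5695 : act 3 n4283 = n5695 := rfl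
theorem F9368 : act 0 n5695 = n4284 := d2_1 D5695 (iv D4284) (iv F7005)
theorem F9369 : act 1 n5695 = n4289 := d6_1 D5695 (iv D4289) (iv F7006)
theorem F9370 : act 4 n5695 = n5495 := d12_2 D4283 D5695 (iv D5495) (iv D4124) (iv F5186)
def n5696 : Q := act 5 n4283
theorem D5696 : act 5 n4283 = n5696 := rfl
theorem F9371 : act 0 n5696 = n4285 := d4_1 D5696 (iv D4285) (iv F7005)
theorem F9372 : act 1 n5696 = n4290 := d8_1 D5696 (iv D4290) (iv F7006)
def n5697 : Q := act 2 n4284
theorem D5697 : act 2 n4284 = n5697 := rfl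
theorem F9373 : act 4 n5697 = n5497 := d10_2 (iv F7008) D5697 (iv D5497)
def n5698 : Q := act 5 n4284
theorem D5698 : act 5 n4284 = n5698 := rfl
theorem F9374 : act 1 n5698 = n4287 := d8_1 D5698 (iv D4287) (iv F7007)
theorem F9375 : act 3 n5698 = n4285 := d13_1 D5698 (iv D4285) D4284
def n5699 : Q := act 1 n4286
theorem D5699 : act 1 n4286 = n5699 := rfl
theorem F9376 : act 3 n5699 = n4321 := d6_2 (iv F7012) D5699 F7069
theorem F9377 : act 4 n5699 = n5499 := d7_2 (iv F7011) D5699 (iv D5499)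
theorem F9378 : act 5 n5699 = n4320 := d8_2 F7013 D5699 F7068
def n5700 : Q := act 4 n4287
theorem D5700 : act 4 n4287 = n5700 := rfl
theorem F9379 : act 0 n5700 = n4301 := d3_1 D5700 (iv D4301) (iv F7014)
theorem F9380 : act 2 n5700 = n4322 := d10_1 D5700 (iv D4322) (iv F7015)
theorem F9381 : act 5 n5700 = n5502 := d14_2 D4287 D5700 (iv D5502) (iv D4128) (iv F5189)
def n5701 : Q := act 3 n4288
theorem D5701 : act 3 n4288 = n5701 := rfl
theorem F9382 : act 0 n5701 = n4292 := d2_1 D5701 (iv D4292) (iv F7017)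
theorem F9383 : act 1 n5701 = n5495 := d6_1 D5701 (iv D5495) (iv F7018)
theorem F9384 : act 4 n5701 = n4289 := d12_2 D4288 D5701 (iv D4289) (iv D3182) D3181
def n5702 : Q := act 5 n4288
theorem D5702 : act 5 n4288 = n5702 := rfl
theorem F9385 : act 0 n5702 = n4293 := d4_1 D5702 (iv D4293) (iv F7017)
theorem F9386 : act 1 n5702 = n5496 := d8_1 D5702 (iv D5496) (iv F7018)
theorem F9387 : act 2 n5702 = n4947 := d11_1 D5702 (iv D4947) (iv F7019)
def n5703 : Q := act 2 n4289
theorem D5703 : act 2 n4289 = n5703 := rfl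
theorem F9388 : act 0 n5703 = n4294 := d1_1 D5703 (iv D4294) (iv F7020)
def n5704 : Q := act 5 n4289
theorem D5704 : act 5 n4289 = n5704 := rfl
theorem F9389 : act 0 n5704 = n4295 := d4_1 D5704 (iv D4295) (iv F7020)
theorem F9390 : act 3 n5704 = n4290 := d13_1 D5704 (iv D4290) D4289
def n5705 : Q := act 3 n4291
theorem D5705 : act 3 n4291 = n5705 := rfl
theorem F9391 : act 0 n5705 = n4946 := d2_1 D5705 (iv D4946) (iv F7023)
theorem F9392 : act 1 n5705 = n5487 := d6_1 D5705 (iv D5487) (iv F7024)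
theorem F9393 : act 4 n5705 = n4936 := d12_2 D4291 D5705 (iv D4936) (iv D3691) (iv F5199)
def n5706 : Q := act 5 n4291
theorem D5706 : act 5 n4291 = n5706 := rfl
theorem F9394 : act 0 n5706 = n4947 := d4_1 D5706 (iv D4947) (iv F7023)
theorem F9395 : act 1 n5706 = n5488 := d8_1 D5706 (iv D5488) (iv F7024)
theorem F9396 : act 2 n5706 = n4293 := d11_1 D5706 (iv D4293) (iv F7025)
def n5707 : Q := act 2 n4292
theorem D5707 : act 2 n4292 = n5707 := rfl
theorem F9397 : act 4 n5707 = n4294 := d10_2 (iv F7027) D5707 (iv D4294)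
def n5708 : Q := act 5 n4292
theorem D5708 : act 5 n4292 = n5708 := rfl
theorem F9398 : act 1 n5708 = n4297 := d8_1 D5708 (iv D4297) (iv F7026)
theorem F9399 : act 3 n5708 = n4293 := d13_1 D5708 (iv D4293) D4292
def n5709 : Q := act 1 n4294
theorem D5709 : act 1 n4294 = n5709 := rfl
theorem F9400 : act 2 n5709 = n4298 := d5_2 D4294 D5709 (iv D4298) (iv D3189) (iv F5201)
def n5710 : Q := act 3 n4294
theorem D5710 : act 3 n4294 = n5710 := rfl
def n5711 : Q := act 5 n4294
theorem D5711 : act 5 n4294 = n5711 := rfl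
theorem F9401 : act 2 n5711 = n4295 := d11_1 D5711 (iv D4295) D4294
def n5712 : Q := act 4 n4295
theorem D5712 : act 4 n4295 = n5712 := rfl
theorem F9402 : act 1 n5712 = n4301 := d7_1 D5712 (iv D4301) (iv F7029)
def n5713 : Q := act 1 n4296
theorem D5713 : act 1 n4296 = n5713 := rfl
theorem F9403 : act 4 n5713 = n4298 := d7_2 (iv F7032) D5713 (iv D4298)
def n5714 : Q := act 3 n4296
theorem D5714 : act 3 n4296 = n5714 := rfl
theorem F9404 : act 0 n5714 = n5500 := d2_1 D5714 (iv D5500) (iv F7031)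
theorem F9405 : act 2 n5714 = n4751 := d9_1 D5714 F7730 F5711 F4184 (iv F4998) (iv F6754) (iv F9073) F9074 (iv D5212) (iv D3904) F4655 F4180 (iv F3804) D3187 D4296
theorem F9406 : act 5 n5714 = n4750 := d15_8 (iv D5212) (iv D3904) F4655 F4180 (iv F3804) D3187 D4296 D5714 (iv F8539)
def n5715 : Q := act 5 n4296
theorem D5715 : act 5 n4296 = n5715 := rfl
theorem F9407 : act 0 n5715 = n5501 := d4_1 D5715 (iv D5501) (iv F7031)
theorem F9408 : act 2 n5715 = n4297 := d11_1 D5715 (iv D4297) D4296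
theorem F9409 : act 3 n5715 = n4750 := d13_1 D5715 (iv F9406) (iv D5714)
def n5716 : Q := act 4 n4297
theorem D5716 : act 4 n4297 = n5716 := rfl
theorem F9410 : act 0 n5716 = n5502 := d3_1 D5716 (iv D5502) (iv F7033)
theorem F9411 : act 5 n5716 = n4301 := d14_2 D4297 D5716 (iv D4301) (iv D3190) (iv F5205)
def n5717 : Q := act 0 n4298
theorem D5717 : act 0 n4298 = n5717 := rfl
def n5718 : Q := act 3 n4298
theorem D5718 : act 3 n4298 = n5718 := rfl
theorem F9412 : act 1 n5718 = n4299 := d6_1 D5718 (iv D4299) D4298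
theorem F9413 : act 5 n4307 = n5718 := d8_0 F9412 F7037 D4307
def n5719 : Q := act 5 n4298
theorem D5719 : act 5 n4298 = n5719 := rfl
theorem F9414 : act 1 n5719 = n4300 := d8_1 D5719 (iv D4300) D4298
theorem F9415 : act 3 n5719 = n4307 := d13_1 D5719 F9413 (iv D5718)
def n5720 : Q := act 4 n4299
theorem D5720 : act 4 n4299 = n5720 := rfl
theorem F9416 : act 0 n5720 = n4323 := d3_1 D5720 (iv D4323) (iv F7035)
theorem F9417 : act 2 n5720 = n4308 := d10_1 D5720 (iv D4308) (iv F7036)
theorem F9418 : act 5 n5720 = n4994 := d14_2 (iv F7037) D5720 (iv D4994) (iv D3733) (iv F5217)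
def n5721 : Q := act 4 n4300
theorem D5721 : act 4 n4300 = n5721 := rfl
theorem F9419 : act 0 n5721 = n4322 := d3_1 D5721 (iv D4322) (iv F7038)
theorem F9420 : act 2 n5721 = n4301 := d10_1 D5721 (iv D4301) (iv F7039)
theorem F9421 : act 3 n5721 = n4993 := d12_1 D5721 (iv D4993) (iv D3732) (iv F5217) (iv F7040)
def n5722 : Q := act 1 n4302
theorem D5722 : act 1 n4302 = n5722 := rfl
def n5723 : Q := act 3 n4302
theorem D5723 : act 3 n4302 = n5723 := rfl
theorem F9422 : act 0 n5723 = n4304 := d2_1 D5723 (iv D4304) (iv F7041)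
def n5724 : Q := act 2 n4304
theorem D5724 : act 2 n4304 = n5724 := rfl
def n5725 : Q := act 4 n4304
theorem D5725 : act 4 n4304 = n5725 := rfl
def n5726 : Q := act 1 n4305
theorem D5726 : act 1 n4305 = n5726 := rfl
theorem F9423 : act 2 n5726 = n4307 := d5_2 D4305 D5726 (iv D4307) (iv D3197) (iv F5213)
theorem F9424 : act 4 n5726 = n4986 := d7_2 (iv F7044) D5726 (iv D4986)
def n5727 : Q := act 3 n4305
theorem D5727 : act 3 n4305 = n5727 := rfl
def n5728 : Q := act 5 n4305
theorem D5728 : act 5 n4305 = n5728 := rfl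
theorem F9425 : act 2 n5728 = n4306 := d11_1 D5728 (iv D4306) D4305
def n5729 : Q := act 4 n4306
theorem D5729 : act 4 n4306 = n5729 := rfl
theorem F9426 : act 1 n5729 = n4308 := d7_1 D5729 (iv D4308) (iv F7045)
theorem F9427 : act 5 n5729 = n4989 := d14_2 D4306 D5729 (iv D4989) (iv D3730) (iv F5214)
def n5730 : Q := act 0 n4307
theorem D5730 : act 0 n4307 = n5730 := rfl
theorem F9428 : act 1 n5730 = n4319 := d0_2 D4307 D5730 (iv D4319) (iv D3206) (iv F5216)
theorem F9429 : act 4 n5730 = n4990 := d3_2 (iv F7047) D5730 (iv D4990)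
def n5731 : Q := act 1 n4309
theorem D5731 : act 1 n4309 = n5731 := rfl
def n5732 : Q := act 1 n4310
theorem D5732 : act 1 n4310 = n5732 := rfl
theorem F9430 : act 2 n5732 = n4315 := d5_2 D4310 D5732 (iv D4315) (iv D3204) (iv F5221)
theorem F9431 : act 4 n5732 = n4312 := d7_2 (iv F7051) D5732 (iv D4312)
def n5733 : Q := act 3 n4310
theorem D5733 : act 3 n4310 = n5733 := rfl
def n5734 : Q := act 5 n4310
theorem D5734 : act 5 n4310 = n5734 := rfl
theorem F9432 : act 2 n5734 = n4311 := d11_1 D5734 (iv D4311) D4310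
def n5735 : Q := act 4 n4311
theorem D5735 : act 4 n4311 = n5735 := rfl
theorem F9433 : act 1 n5735 = n4318 := d7_1 D5735 (iv D4318) (iv F7052)
theorem F9434 : act 3 n5735 = n4437 := d12_1 D5735 (iv D4437) F5343 (iv F5224) (iv F7053)
theorem F9435 : act 5 n5735 = n4314 := d14_2 D4311 D5735 (iv D4314) (iv D3203) (iv F5222)
def n5736 : Q := act 0 n4312
theorem D5736 : act 0 n4312 = n5736 := rfl
theorem F9436 : act 2 n5736 = n4319 := d1_2 (iv F7054) D5736 (iv D4319)
def n5737 : Q := act 3 n4312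
theorem D5737 : act 3 n4312 = n5737 := rfl
theorem F9437 : act 1 n5737 = n4313 := d6_1 D5737 (iv D4313) D4312
theorem F9438 : act 2 n4321 = n5737 := d5_0 F9437 F7055 F5225 (iv F5231) (iv F7069)
theorem F9439 : act 5 n4312 = n5737 := d8_0 F9437 F7056 D4312
def n5738 : Q := act 4 n4313
theorem D5738 : act 4 n4313 = n5738 := rfl
theorem F9440 : act 2 n5738 = n4314 := d10_1 D5738 (iv D4314) (iv F7055)
def n5739 : Q := act 0 n4315
theorem D5739 : act 0 n4315 = n5739 := rfl
theorem F9441 : act 1 n5739 = n4990 := d0_2 D4315 D5739 (iv D4990) (iv D3731) (iv F5227)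
theorem F9442 : act 4 n5739 = n4319 := d3_2 (iv F7059) D5739 (iv D4319)
def n5740 : Q := act 3 n4315
theorem D5740 : act 3 n4315 = n5740 := rfl
theorem F9443 : act 1 n5740 = n4316 := d6_1 D5740 (iv D4316) D4315
theorem F9444 : act 5 n4358 = n5740 := d8_0 F9443 (iv F7062) D4358
def n5741 : Q := act 5 n4315
theorem D5741 : act 5 n4315 = n5741 := rfl
theorem F9445 : act 1 n5741 = n4317 := d8_1 D5741 (iv D4317) D4315
theorem F9446 : act 3 n5741 = n4358 := d13_1 D5741 F9444 (iv D5740)
def n5742 : Q := act 4 n4316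
theorem D5742 : act 4 n4316 = n5742 := rfl
theorem F9447 : act 0 n5742 = n4993 := d3_1 D5742 (iv D4993) (iv F7060)
theorem F9448 : act 2 n5742 = n4359 := d10_1 D5742 (iv D4359) (iv F7061)
theorem F9449 : act 3 n5742 = n4322 := d12_1 D5742 (iv D4322) (iv D3207) (iv F5228) D4316
def n5743 : Q := act 4 n4317
theorem D5743 : act 4 n4317 = n5743 := rfl
theorem F9450 : act 0 n5743 = n4994 := d3_1 D5743 (iv D4994) (iv F7063)
theorem F9451 : act 2 n5743 = n4318 := d10_1 D5743 (iv D4318) (iv F7064)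
theorem F9452 : act 5 n5743 = n4323 := d14_2 D4317 D5743 (iv D4323) (iv D3208) (iv F5228)
def n5744 : Q := act 3 n4319
theorem D5744 : act 3 n4319 = n5744 := rfl
theorem F9453 : act 0 n5744 = n4320 := d2_1 D5744 (iv D4320) D4319
def n5745 : Q := act 5 n4319
theorem D5745 : act 5 n4319 = n5745 := rfl
theorem F9454 : act 0 n5745 = n4321 := d4_1 D5745 (iv D4321) D4319
def n5746 : Q := act 2 n4320
theorem D5746 : act 2 n4320 = n5746 := rfl
def n5747 : Q := act 4 n4320
theorem D5747 : act 4 n4320 = n5747 := rfl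
theorem F9455 : act 1 n5747 = n4322 := d7_1 D5747 (iv D4322) (iv F7068)
def n5748 : Q := act 4 n4321
theorem D5748 : act 4 n4321 = n5748 := rfl
theorem F9456 : act 1 n5748 = n4323 := d7_1 D5748 (iv D4323) (iv F7069)
def n5749 : Q := act 5 n4322
theorem D5749 : act 5 n4322 = n5749 := rfl
theorem F9457 : act 2 n5749 = n5502 := d11_1 D5749 (iv F9381) F9380
theorem F9458 : act 4 n5749 = n5501 := d14_1 D5749 (iv D5501) (iv F7011) (iv F7013) D4322
def n5750 : Q := act 3 n4323
theorem D5750 : act 3 n4323 = n5750 := rfl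
theorem F9459 : act 4 n5750 = n5500 := d12_2 D4323 D5750 (iv D5500) (iv F7011) F7012
def n5751 : Q := act 3 n4324
theorem D5751 : act 3 n4324 = n5751 := rfl
theorem F9460 : act 1 n5751 = n4326 := d6_1 D5751 (iv D4326) (iv F7071)
def n5752 : Q := act 5 n4324
theorem D5752 : act 5 n4324 = n5752 := rfl
theorem F9461 : act 1 n5752 = n4327 := d8_1 D5752 (iv D4327) (iv F7071)
theorem F9462 : act 2 n5752 = n4337 := d11_1 D5752 (iv D4337) (iv F7072)
def n5753 : Q := act 3 n4325
theorem D5753 : act 3 n4325 = n5753 := rfl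
theorem F9463 : act 0 n5753 = n4330 := d2_1 D5753 (iv D4330) (iv F7073)
theorem F9464 : act 4 n5753 = n4326 := d12_2 D4325 D5753 (iv D4326) (iv D3212) D3211
def n5754 : Q := act 5 n4325
theorem D5754 : act 5 n4325 = n5754 := rfl
theorem F9465 : act 0 n5754 = n4331 := d4_1 D5754 (iv D4331) (iv F7073)
theorem F9466 : act 2 n5754 = n5543 := d11_1 D5754 (iv D5543) (iv F7074)
theorem F9467 : act 4 n5754 = n5562 := d14_1 D5754 (iv D5562) (iv D4179) (iv F5235) D4325
def n5755 : Q := act 2 n4326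
theorem D5755 : act 2 n4326 = n5755 := rfl
theorem F9468 : act 0 n5755 = n4332 := d1_1 D5755 (iv D4332) (iv F7075)
theorem F9469 : act 3 n5755 = n4926 := d15_1 D5755 F8060 F6011 F4392 (iv F3842) (iv F5247) (iv F7084) (iv D4333) (iv F7075)
theorem F9470 : act 5 n4925 = n5755 := d13_0 F9469 (iv D4926) D4925
def n5756 : Q := act 5 n4326
theorem D5756 : act 5 n4326 = n5756 := rfl
theorem F9471 : act 0 n5756 = n4333 := d4_1 D5756 (iv D4333) (iv F7075)
theorem F9472 : act 2 n5756 = n4925 := d11_1 D5756 F9470 (iv D5755)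
theorem F9473 : act 3 n5756 = n4327 := d13_1 D5756 (iv D4327) D4326
def n5757 : Q := act 1 n4328
theorem D5757 : act 1 n4328 = n5757 := rfl
theorem F9474 : act 0 n5757 = n4887 := d0_1 D5757 (iv D4887) F5944 (iv F5248) (iv F7078)
theorem F9475 : act 2 n5757 = n4345 := d5_2 D4328 D5757 (iv D4345) (iv D3228) (iv F5242)
theorem F9476 : act 3 n5757 = n5310 := d6_2 (iv F7080) D5757 (iv D5310)
theorem F9477 : act 5 n5757 = n4399 := d8_2 (iv F7079) D5757 (iv D4399)
def n5758 : Q := act 3 n4329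
theorem D5758 : act 3 n4329 = n5758 := rfl
theorem F9478 : act 0 n5758 = n5542 := d2_1 D5758 (iv D5542) (iv F7081)
theorem F9479 : act 4 n5758 = n5540 := d12_2 D4329 D5758 (iv D5540) (iv D4163) (iv F5245)
def n5759 : Q := act 5 n4329
theorem D5759 : act 5 n4329 = n5759 := rfl
theorem F9480 : act 0 n5759 = n5543 := d4_1 D5759 (iv D5543) (iv F7081)
theorem F9481 : act 2 n5759 = n4331 := d11_1 D5759 (iv D4331) (iv F7082)
theorem F9482 : act 4 n5759 = n5551 := d14_1 D5759 (iv D5551) (iv D4171) (iv F5246) D4329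
def n5760 : Q := act 2 n4330
theorem D5760 : act 2 n4330 = n5760 := rfl
theorem F9483 : act 4 n5760 = n4332 := d10_2 (iv F7083) D5760 (iv D4332)
def n5761 : Q := act 5 n4330
theorem D5761 : act 5 n4330 = n5761 := rfl
theorem F9484 : act 3 n5761 = n4331 := d13_1 D5761 (iv D4331) D4330
def n5762 : Q := act 1 n4332
theorem D5762 : act 1 n4332 = n5762 := rfl
def n5763 : Q := act 3 n4332
theorem D5763 : act 3 n4332 = n5763 := rfl
theorem F9485 : act 0 n5763 = n4926 := d2_1 D5763 (iv F9469) F9468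
theorem F9486 : act 2 n5763 = n4921 := d9_1 D5763 F8053 F6002 (iv F5240) (iv F7077) (iv F9473) F9472 (iv D4925) (iv D3681) (iv D2718) F3233 (iv F2802) (iv F3840) D3217 D4332
theorem F9487 : act 5 n5763 = n4920 := d15_8 (iv D3681) (iv D2718) F3233 (iv F2802) (iv F3840) D3217 D4332 D5763 F8049
def n5764 : Q := act 5 n4332
theorem D5764 : act 5 n4332 = n5764 := rfl
theorem F9488 : act 0 n5764 = n4925 := d4_1 D5764 F9470 F9468
theorem F9489 : act 2 n5764 = n4333 := d11_1 D5764 (iv D4333) D4332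
theorem F9490 : act 3 n5764 = n4920 := d13_1 D5764 (iv F9487) (iv D5763)
def n5765 : Q := act 4 n4333
theorem D5765 : act 4 n4333 = n5765 := rfl
def n5766 : Q := act 4 n4334
theorem D5766 : act 4 n4334 = n5766 := rfl
theorem F9491 : act 0 n5766 = n5311 := d3_1 D5766 (iv D5311) (iv F7085)
theorem F9492 : act 1 n5766 = n4892 := d7_1 D5766 (iv D4892) (iv F7086)
theorem F9493 : act 2 n5766 = n5308 := d10_1 D5766 (iv D5308) (iv F7088)
def n5767 : Q := act 3 n4335
theorem D5767 : act 3 n4335 = n5767 := rfl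
theorem F9494 : act 0 n5767 = n4336 := d2_1 D5767 (iv D4336) (iv F7089)
theorem F9495 : act 1 n5767 = n4347 := d6_1 D5767 (iv D4347) (iv F7090)
def n5768 : Q := act 5 n4335
theorem D5768 : act 5 n4335 = n5768 := rfl
theorem F9496 : act 0 n5768 = n4337 := d4_1 D5768 (iv D4337) (iv F7089)
theorem F9497 : act 1 n5768 = n4348 := d8_1 D5768 (iv D4348) (iv F7090)
def n5769 : Q := act 2 n4336
theorem D5769 : act 2 n4336 = n5769 := rfl
def n5770 : Q := act 5 n4336
theorem D5770 : act 5 n4336 = n5770 := rfl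
theorem F9498 : act 1 n5770 = n4340 := d8_1 D5770 (iv D4340) (iv F7091)
theorem F9499 : act 3 n5770 = n4337 := d13_1 D5770 (iv D4337) D4336
def n5771 : Q := act 4 n4337
theorem D5771 : act 4 n4337 = n5771 := rfl
theorem F9500 : act 1 n5771 = n4341 := d7_1 D5771 (iv D4341) (iv F7092)
theorem F9501 : act 5 n5771 = n4338 := d14_2 D4337 D5771 (iv D4338) (iv D3222) D3221
def n5772 : Q := act 3 n4338
theorem D5772 : act 3 n4338 = n5772 := rfl
theorem F9502 : act 1 n5772 = n4342 := d6_1 D5772 (iv D4342) (iv F7093)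
theorem F9503 : act 4 n5772 = n4380 := d12_2 D4338 D5772 (iv D4380) (iv D3259) (iv F5253)
def n5773 : Q := act 1 n4339
theorem D5773 : act 1 n4339 = n5773 := rfl
theorem F9504 : act 3 n5773 = n4992 := d6_2 (iv F7095) D5773 F8144
theorem F9505 : act 5 n5773 = n4991 := d8_2 F7096 D5773 F8143
def n5774 : Q := act 4 n4340
theorem D5774 : act 4 n4340 = n5774 := rfl
theorem F9506 : act 0 n5774 = n4359 := d3_1 D5774 (iv D4359) (iv F7097)
theorem F9507 : act 2 n5774 = n4993 := d10_1 D5774 (iv D4993) (iv F7098)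
def n5775 : Q := act 3 n4341
theorem D5775 : act 3 n4341 = n5775 := rfl
theorem F9508 : act 0 n5775 = n4360 := d2_1 D5775 (iv D4360) (iv F7100)
theorem F9509 : act 5 n5775 = n4342 := d13_2 (iv F7102) D5775 (iv D4342)
def n5776 : Q := act 2 n4342
theorem D5776 : act 2 n4342 = n5776 := rfl
theorem F9510 : act 0 n5776 = n4361 := d1_1 D5776 (iv D4361) (iv F7103)
theorem F9511 : act 4 n5776 = n4382 := d10_2 (iv F7104) D5776 (iv D4382)
def n5777 : Q := act 2 n4343
theorem D5777 : act 2 n4343 = n5777 := rfl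
theorem F9512 : act 0 n5777 = n4362 := d1_1 D5777 (iv D4362) (iv F7105)
theorem F9513 : act 4 n5777 = n4403 := d10_2 (iv F7106) D5777 F7189
theorem F9514 : act 5 n5777 = n4344 := d11_2 (iv F7107) D5777 (iv D4344)
def n5778 : Q := act 1 n4344
theorem D5778 : act 1 n4344 = n5778 := rfl
theorem F9515 : act 4 n5778 = n4345 := d7_2 (iv F7109) D5778 (iv D4345)
def n5779 : Q := act 3 n4344
theorem D5779 : act 3 n4344 = n5779 := rfl
theorem F9516 : act 0 n5779 = n4364 := d2_1 D5779 (iv D4364) (iv F7108)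
theorem F9517 : act 4 n5779 = n4396 := d12_2 (iv F7109) D5779 (iv D4396) F5319 (iv F5264)
def n5780 : Q := act 0 n4345
theorem D5780 : act 0 n4345 = n5780 := rfl
theorem F9518 : act 1 n5780 = n4365 := d0_2 D4345 D5780 (iv D4365) (iv D3244) (iv F5263)
theorem F9519 : act 2 n5780 = n4887 := d1_2 F9475 D5780 (iv F9474)
theorem F9520 : act 3 n5780 = n4398 := d2_2 (iv F7110) D5780 (iv D4398)
theorem F9521 : act 5 n5780 = n4404 := d4_2 (iv F7111) D5780 (iv D4404)
def n5781 : Q := act 3 n4346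
theorem D5781 : act 3 n4346 = n5781 := rfl
theorem F9522 : act 0 n5781 = n4350 := d2_1 D5781 (iv D4350) (iv F7112)
theorem F9523 : act 4 n5781 = n4347 := d12_2 D4346 D5781 (iv D4347) (iv D3230) D3229
def n5782 : Q := act 5 n4346
theorem D5782 : act 5 n4346 = n5782 := rfl
theorem F9524 : act 0 n5782 = n4351 := d4_1 D5782 (iv D4351) (iv F7112)
def n5783 : Q := act 2 n4347
theorem D5783 : act 2 n4347 = n5783 := rfl
theorem F9525 : act 0 n5783 = n4352 := d1_1 D5783 (iv D4352) (iv F7113)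
def n5784 : Q := act 5 n4347
theorem D5784 : act 5 n4347 = n5784 := rfl
theorem F9526 : act 0 n5784 = n4353 := d4_1 D5784 (iv D4353) (iv F7113)
theorem F9527 : act 3 n5784 = n4348 := d13_1 D5784 (iv D4348) D4347
def n5785 : Q := act 3 n4349
theorem D5785 : act 3 n4349 = n5785 := rfl
def n5786 : Q := act 5 n4349
theorem D5786 : act 5 n4349 = n5786 := rfl
theorem F9528 : act 2 n5786 = n4351 := d11_1 D5786 (iv D4351) (iv F7116)
def n5787 : Q := act 2 n4350
theorem D5787 : act 2 n4350 = n5787 := rfl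
theorem F9529 : act 4 n5787 = n4352 := d10_2 (iv F7118) D5787 (iv D4352)
def n5788 : Q := act 5 n4350
theorem D5788 : act 5 n4350 = n5788 := rfl
theorem F9530 : act 1 n5788 = n4355 := d8_1 D5788 (iv D4355) (iv F7117)
theorem F9531 : act 3 n5788 = n4351 := d13_1 D5788 (iv D4351) D4350
def n5789 : Q := act 1 n4352
theorem D5789 : act 1 n4352 = n5789 := rfl
theorem F9532 : act 2 n5789 = n4358 := d5_2 D4352 D5789 (iv D4358) (iv D3238) (iv F5270)
def n5790 : Q := act 3 n4352
theorem D5790 : act 3 n4352 = n5790 := rfl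
def n5791 : Q := act 5 n4352
theorem D5791 : act 5 n4352 = n5791 := rfl
theorem F9533 : act 2 n5791 = n4353 := d11_1 D5791 (iv D4353) D4352
def n5792 : Q := act 4 n4353
theorem D5792 : act 4 n4353 = n5792 := rfl
theorem F9534 : act 1 n5792 = n4359 := d7_1 D5792 (iv D4359) (iv F7120)
def n5793 : Q := act 1 n4354
theorem D5793 : act 1 n4354 = n5793 := rfl
theorem F9535 : act 4 n5793 = n4358 := d7_2 (iv F7122) D5793 (iv D4358)
def n5794 : Q := act 4 n4355
theorem D5794 : act 4 n4355 = n5794 := rfl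
theorem F9536 : act 5 n5794 = n4359 := d14_2 D4355 D5794 (iv D4359) (iv D3239) (iv F5273)
def n5795 : Q := act 3 n4356
theorem D5795 : act 3 n4356 = n5795 := rfl
theorem F9537 : act 0 n5795 = n4383 := d2_1 D5795 F7155 (iv F7124)
theorem F9538 : act 5 n5795 = n4357 := d13_2 (iv F7126) D5795 (iv D4357)
def n5796 : Q := act 2 n4357
theorem D5796 : act 2 n4357 = n5796 := rfl
theorem F9539 : act 0 n5796 = n4382 := d1_1 D5796 (iv D4382) (iv F7127)
theorem F9540 : act 4 n5796 = n4361 := d10_2 (iv F7128) D5796 (iv D4361)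
def n5797 : Q := act 0 n4358
theorem D5797 : act 0 n4358 = n5797 := rfl
def n5798 : Q := act 3 n4359
theorem D5798 : act 3 n4359 = n5798 := rfl
theorem F9541 : act 4 n5798 = n4360 := d12_2 D4359 D5798 (iv D4360) (iv D3240) (iv F5276)
def n5799 : Q := act 2 n4360
theorem D5799 : act 2 n4360 = n5799 := rfl
theorem F9542 : act 5 n5799 = n4361 := d11_2 (iv F7129) D5799 (iv D4361)
def n5800 : Q := act 1 n4361
theorem D5800 : act 1 n4361 = n5800 := rfl
def n5801 : Q := act 3 n4361
theorem D5801 : act 3 n4361 = n5801 := rfl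
def n5802 : Q := act 1 n4362
theorem D5802 : act 1 n4362 = n5802 := rfl
theorem F9543 : act 2 n5802 = n4375 := d5_2 D4362 D5802 (iv D4375) (iv D3252) (iv F5279)
theorem F9544 : act 4 n5802 = n4411 := d7_2 (iv F7130) D5802 F7196
theorem F9545 : act 5 n5802 = n4363 := d8_2 (iv F7131) D5802 (iv D4363)
def n5803 : Q := act 3 n4362
theorem D5803 : act 3 n4362 = n5803 := rfl
theorem F9546 : act 5 n5803 = n4364 := d13_2 (iv F7131) D5803 (iv D4364)
def n5804 : Q := act 0 n4363
theorem D5804 : act 0 n4363 = n5804 := rfl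
theorem F9547 : act 2 n5804 = n4376 := d1_2 (iv F7132) D5804 (iv D4376)
theorem F9548 : act 4 n5804 = n4365 := d3_2 (iv F7133) D5804 (iv D4365)
def n5805 : Q := act 3 n4363
theorem D5805 : act 3 n4363 = n5805 := rfl
theorem F9549 : act 1 n5805 = n4364 := d6_1 D5805 (iv D4364) D4363
def n5806 : Q := act 2 n4364
theorem D5806 : act 2 n4364 = n5806 := rfl
def n5807 : Q := act 4 n4364
theorem D5807 : act 4 n4364 = n5807 := rfl
theorem F9550 : act 0 n5807 = n4396 := d3_1 D5807 (iv F9517) F9516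
theorem F9551 : act 3 n5807 = n4367 := d12_1 D5807 (iv D4367) (iv D3245) (iv F5282) D4364
def n5808 : Q := act 3 n4365
theorem D5808 : act 3 n4365 = n5808 := rfl
theorem F9552 : act 0 n5808 = n4366 := d2_1 D5808 (iv D4366) D4365
theorem F9553 : act 1 n5808 = n4398 := d6_1 D5808 (iv F9520) F9518
theorem F9554 : act 5 n5808 = n4415 := d13_2 (iv F7135) D5808 (iv D4415)
def n5809 : Q := act 2 n4366
theorem D5809 : act 2 n4366 = n5809 := rfl
theorem F9555 : act 1 n5809 = n4388 := d5_1 D5809 (iv D4388) F5308 (iv F5286) (iv F7136)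
theorem F9556 : act 5 n5809 = n4416 := d11_2 (iv F7137) D5809 (iv D4416)
def n5810 : Q := act 4 n4366
theorem D5810 : act 4 n4366 = n5810 := rfl
theorem F9557 : act 1 n5810 = n4367 := d7_1 D5810 (iv D4367) (iv F7136)
def n5811 : Q := act 5 n4367
theorem D5811 : act 5 n4367 = n5811 := rfl
theorem F9558 : act 0 n5811 = n4397 := d4_1 D5811 (iv D4397) (iv F7138)
theorem F9559 : act 2 n5811 = n4389 := d11_1 D5811 (iv D4389) (iv F7139)
theorem F9560 : act 4 n5811 = n4418 := d14_1 D5811 (iv D4418) (iv D3285) (iv F5287) D4367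
def n5812 : Q := act 1 n4368
theorem D5812 : act 1 n4368 = n5812 := rfl
def n5813 : Q := act 3 n4368
theorem D5813 : act 3 n4368 = n5813 := rfl
theorem F9561 : act 0 n5813 = n4371 := d2_1 D5813 (iv D4371) (iv F7140)
def n5814 : Q := act 5 n4368
theorem D5814 : act 5 n4368 = n5814 := rfl
theorem F9562 : act 0 n5814 = n4372 := d4_1 D5814 (iv D4372) (iv F7140)
theorem F9563 : act 2 n5814 = n4369 := d11_1 D5814 (iv D4369) D4368
def n5815 : Q := act 4 n4369
theorem D5815 : act 4 n4369 = n5815 := rfl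
theorem F9564 : act 0 n5815 = n4373 := d3_1 D5815 (iv D4373) (iv F7141)
def n5816 : Q := act 0 n4370
theorem D5816 : act 0 n4370 = n5816 := rfl
theorem F9565 : act 2 n5816 = n4374 := d1_2 (iv F7143) D5816 (iv D4374)
def n5817 : Q := act 3 n4370
theorem D5817 : act 3 n4370 = n5817 := rfl
theorem F9566 : act 1 n5817 = n4371 := d6_1 D5817 (iv D4371) D4370
def n5818 : Q := act 2 n4371
theorem D5818 : act 2 n4371 = n5818 := rfl
def n5819 : Q := act 4 n4371
theorem D5819 : act 4 n4371 = n5819 := rfl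
def n5820 : Q := act 5 n4371
theorem D5820 : act 5 n4371 = n5820 := rfl
theorem F9567 : act 3 n5820 = n4372 := d13_1 D5820 (iv D4372) D4371
def n5821 : Q := act 4 n4372
theorem D5821 : act 4 n4372 = n5821 := rfl
theorem F9568 : act 2 n5821 = n4373 := d10_1 D5821 (iv D4373) (iv F7144)
def n5822 : Q := act 0 n4375
theorem D5822 : act 0 n4375 = n5822 := rfl
theorem F9569 : act 1 n5822 = n4890 := d0_2 D4375 D5822 F7994 F5947 (iv F5292)
theorem F9570 : act 4 n5822 = n4896 := d3_2 (iv F7146) D5822 F8001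
theorem F9571 : act 5 n5822 = n4376 := d4_2 (iv F7147) D5822 (iv D4376)
def n5823 : Q := act 3 n4377
theorem D5823 : act 3 n4377 = n5823 := rfl
def n5824 : Q := act 5 n4377
theorem D5824 : act 5 n4377 = n5824 := rfl
theorem F9572 : act 2 n5824 = n4378 := d11_1 D5824 (iv D4378) (iv F7150)
def n5825 : Q := act 3 n4379
theorem D5825 : act 3 n4379 = n5825 := rfl
theorem F9573 : act 0 n5825 = n4380 := d2_1 D5825 (iv D4380) (iv F7152)
def n5826 : Q := act 5 n4379
theorem D5826 : act 5 n4379 = n5826 := rfl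
theorem F9574 : act 0 n5826 = n4381 := d4_1 D5826 (iv D4381) (iv F7152)
def n5827 : Q := act 2 n4380
theorem D5827 : act 2 n4380 = n5827 := rfl
def n5828 : Q := act 5 n4380
theorem D5828 : act 5 n4380 = n5828 := rfl
theorem F9575 : act 1 n5828 = n4383 := d8_1 D5828 (iv D4383) (iv F7153)
theorem F9576 : act 3 n5828 = n4381 := d13_1 D5828 (iv D4381) D4380
def n5829 : Q := act 1 n4382
theorem D5829 : act 1 n4382 = n5829 := rfl
def n5830 : Q := act 3 n4382
theorem D5830 : act 3 n4382 = n5830 := rfl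
def n5831 : Q := act 5 n4382
theorem D5831 : act 5 n4382 = n5831 := rfl
theorem F9577 : act 2 n5831 = n4383 := d11_1 D5831 (iv D4383) D4382
def n5832 : Q := act 4 n4383
theorem D5832 : act 4 n4383 = n5832 := rfl
def n5833 : Q := act 4 n4384
theorem D5833 : act 4 n4384 = n5833 := rfl
theorem F9578 : act 0 n5833 = n5381 := d3_1 D5833 (iv D5381) (iv F7156)
theorem F9579 : act 1 n5833 = n4938 := d7_1 D5833 (iv D4938) (iv F7157)
theorem F9580 : act 2 n5833 = n4901 := d10_1 D5833 (iv D4901) (iv F7158)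
def n5834 : Q := act 3 n4385
theorem D5834 : act 3 n4385 = n5834 := rfl
theorem F9581 : act 0 n5834 = n5382 := d2_1 D5834 (iv D5382) (iv F7160)
def n5835 : Q := act 5 n4385
theorem D5835 : act 5 n4385 = n5835 := rfl
theorem F9582 : act 0 n5835 = n5383 := d4_1 D5835 (iv D5383) (iv F7160)
theorem F9583 : act 2 n5835 = n4387 := d11_1 D5835 (iv D4387) (iv F7161)
theorem F9584 : act 4 n5835 = n5488 := d14_1 D5835 (iv D5488) (iv D4117) (iv F5304) D4385
def n5836 : Q := act 2 n4386
theorem D5836 : act 2 n4386 = n5836 := rfl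
theorem F9585 : act 0 n5836 = n5394 := d1_1 D5836 (iv D5394) (iv F7162)
theorem F9586 : act 4 n5836 = n4388 := d10_2 (iv F7164) D5836 (iv D4388)
def n5837 : Q := act 5 n4386
theorem D5837 : act 5 n4386 = n5837 := rfl
theorem F9587 : act 0 n5837 = n5395 := d4_1 D5837 (iv D5395) (iv F7162)
theorem F9588 : act 1 n5837 = n4389 := d8_1 D5837 (iv D4389) (iv F7163)
theorem F9589 : act 3 n5837 = n4387 := d13_1 D5837 (iv D4387) D4386
def n5838 : Q := act 3 n4388
theorem D5838 : act 3 n4388 = n5838 := rfl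
theorem F9590 : act 0 n5838 = n5494 := d2_1 D5838 (iv D5494) (iv F7168)
theorem F9591 : act 2 n5838 = n5037 := d15_2 D4388 D5838 (iv D5037) (iv D3767) (iv D2787) (iv F4104) D3453 F5599 (iv F5307)
def n5839 : Q := act 3 n4390
theorem D5839 : act 3 n4390 = n5839 := rfl
theorem F9592 : act 0 n5839 = n4391 := d2_1 D5839 (iv D4391) (iv F7171)
def n5840 : Q := act 5 n4390
theorem D5840 : act 5 n4390 = n5840 := rfl
theorem F9593 : act 0 n5840 = n4392 := d4_1 D5840 (iv D4392) (iv F7171)
theorem F9594 : act 2 n5840 = n5330 := d11_1 D5840 (iv D5330) (iv F7172)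
theorem F9595 : act 4 n5840 = n5496 := d14_1 D5840 (iv D5496) (iv D4124) (iv F5314) D4390
def n5841 : Q := act 2 n4391
theorem D5841 : act 2 n4391 = n5841 := rfl
def n5842 : Q := act 5 n4391
theorem D5842 : act 5 n4391 = n5842 := rfl
theorem F9596 : act 1 n5842 = n4394 := d8_1 D5842 (iv D4394) (iv F7173)
theorem F9597 : act 3 n5842 = n4392 := d13_1 D5842 (iv D4392) D4391
def n5843 : Q := act 1 n4393
theorem D5843 : act 1 n4393 = n5843 := rfl
def n5844 : Q := act 3 n4393
theorem D5844 : act 3 n4393 = n5844 := rfl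
def n5845 : Q := act 5 n4393
theorem D5845 : act 5 n4393 = n5845 := rfl
theorem F9598 : act 2 n5845 = n4394 := d11_1 D5845 (iv D4394) D4393
def n5846 : Q := act 4 n4394
theorem D5846 : act 4 n4394 = n5846 := rfl
theorem F9599 : act 3 n5846 = n5502 := d12_1 D5846 (iv D5502) F6754 (iv F5318) (iv F7177)
def n5847 : Q := act 0 n4395
theorem D5847 : act 0 n4395 = n5847 := rfl
theorem F9600 : act 2 n5847 = n5515 := d1_2 (iv F7178) D5847 (iv D5515)
theorem F9601 : act 4 n5847 = n4398 := d3_2 (iv F7179) D5847 (iv D4398)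
def n5848 : Q := act 3 n4395
theorem D5848 : act 3 n4395 = n5848 := rfl
theorem F9602 : act 1 n5848 = n4396 := d6_1 D5848 (iv D4396) D4395
def n5849 : Q := act 5 n4395
theorem D5849 : act 5 n4395 = n5849 := rfl
theorem F9603 : act 1 n5849 = n4397 := d8_1 D5849 (iv D4397) D4395
theorem F9604 : act 2 n5849 = n5514 := d11_1 D5849 F9084 (iv F7178)
def n5850 : Q := act 2 n4396
theorem D5850 : act 2 n4396 = n5850 := rfl
def n5851 : Q := act 5 n4396
theorem D5851 : act 5 n4396 = n5851 := rfl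
theorem F9605 : act 3 n5851 = n4397 := d13_1 D5851 (iv D4397) D4396
def n5852 : Q := act 0 n4399
theorem D5852 : act 0 n4399 = n5852 := rfl
theorem F9606 : act 1 n5852 = n4795 := d0_2 D4399 D5852 (iv D4795) (iv D3568) (iv F5323)
theorem F9607 : act 2 n5852 = n4404 := d1_2 (iv F7182) D5852 (iv D4404)
theorem F9608 : act 5 n5852 = n4887 := d4_2 F9477 D5852 (iv F9474)
theorem F9609 : act 3 n5189 = n5852 := d6_0 F9606 (iv F7812) D5189
def n5853 : Q := act 3 n4399
theorem D5853 : act 3 n4399 = n5853 := rfl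
theorem F9610 : act 0 n5853 = n5189 := d2_1 D5853 F9609 (iv D5852)
theorem F9611 : act 1 n5853 = n4400 := d6_1 D5853 (iv D4400) D4399
theorem F9612 : act 5 n5853 = n5310 := d13_2 F9477 D5853 (iv F9476)
theorem F9613 : act 2 n5448 = n5853 := d5_0 F9611 F7184 F6520 D4087 D5448
def n5854 : Q := act 4 n4400
theorem D5854 : act 4 n4400 = n5854 := rfl
theorem F9614 : act 0 n5854 = n4798 := d3_1 D5854 (iv D4798) (iv F7183)
theorem F9615 : act 2 n5854 = n5304 := d10_1 D5854 (iv D5304) (iv F7184)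
def n5855 : Q := act 0 n4401
theorem D5855 : act 0 n4401 = n5855 := rfl
theorem F9616 : act 1 n5855 = n4409 := d0_2 D4401 D5855 (iv D4409) (iv D3280) (iv F5324)
theorem F9617 : act 4 n5855 = n4404 := d3_2 (iv F7186) D5855 (iv D4404)
def n5856 : Q := act 3 n4401
theorem D5856 : act 3 n4401 = n5856 := rfl
theorem F9618 : act 1 n5856 = n4402 := d6_1 D5856 (iv D4402) D4401
def n5857 : Q := act 5 n4401
theorem D5857 : act 5 n4401 = n5857 := rfl
theorem F9619 : act 1 n5857 = n4403 := d8_1 D5857 (iv D4403) D4401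
def n5858 : Q := act 2 n4402
theorem D5858 : act 2 n4402 = n5858 := rfl
theorem F9620 : act 0 n5858 = n4412 := d1_1 D5858 (iv D4412) (iv F7187)
theorem F9621 : act 3 n5858 = n4407 := d9_2 D4402 D5858 F7191 F5328 F3904 (iv F3908) (iv F5331) (iv F7199) (iv F9048) (iv D5480) (iv D4111) (iv D3047) F3631 D2405 D3275
theorem F9622 : act 5 n4406 = n5858 := d13_0 F9621 (iv D4407) D4406
def n5859 : Q := act 5 n4402
theorem D5859 : act 5 n4402 = n5859 := rfl
theorem F9623 : act 0 n5859 = n4414 := d4_1 D5859 (iv D4414) (iv F7187)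
theorem F9624 : act 2 n5859 = n4406 := d11_1 D5859 F9622 (iv D5858)
theorem F9625 : act 3 n5859 = n4403 := d13_1 D5859 (iv D4403) D4402
def n5860 : Q := act 0 n4405
theorem D5860 : act 0 n4405 = n5860 := rfl
def n5861 : Q := act 3 n4405
theorem D5861 : act 3 n4405 = n5861 := rfl
theorem F9626 : act 1 n5861 = n4406 := d6_1 D5861 (iv D4406) D4405
def n5862 : Q := act 5 n4405
theorem D5862 : act 5 n4405 = n5862 := rfl
theorem F9627 : act 1 n5862 = n4407 := d8_1 D5862 (iv D4407) D4405
def n5863 : Q := act 4 n4406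
theorem D5863 : act 4 n4406 = n5863 := rfl
def n5864 : Q := act 4 n4407
theorem D5864 : act 4 n4407 = n5864 := rfl
theorem F9628 : act 2 n5864 = n4408 := d10_1 D5864 (iv D4408) (iv F7191)
def n5865 : Q := act 3 n4409
theorem D5865 : act 3 n4409 = n5865 := rfl
theorem F9629 : act 0 n5865 = n4410 := d2_1 D5865 (iv D4410) D4409
def n5866 : Q := act 5 n4409
theorem D5866 : act 5 n4409 = n5866 := rfl
theorem F9630 : act 0 n5866 = n4411 := d4_1 D5866 (iv D4411) D4409
theorem F9631 : act 2 n5866 = n4896 := d11_1 D5866 (iv D4896) (iv F7193)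
def n5867 : Q := act 2 n4410
theorem D5867 : act 2 n4410 = n5867 := rfl
def n5868 : Q := act 4 n4410
theorem D5868 : act 4 n4410 = n5868 := rfl
theorem F9632 : act 1 n5868 = n4413 := d7_1 D5868 (iv D4413) (iv F7195)
theorem F9633 : act 3 n5868 = n4417 := d12_1 D5868 (iv D4417) (iv D3284) (iv F5330) D4410
def n5869 : Q := act 5 n4410
theorem D5869 : act 5 n4410 = n5869 := rfl
theorem F9634 : act 1 n5869 = n4414 := d8_1 D5869 (iv D4414) (iv F7195)
theorem F9635 : act 3 n5869 = n4411 := d13_1 D5869 (iv D4411) D4410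
def n5870 : Q := act 1 n4412
theorem D5870 : act 1 n4412 = n5870 := rfl
def n5871 : Q := act 4 n4412
theorem D5871 : act 4 n4412 = n5871 := rfl
theorem F9636 : act 2 n5871 = n4413 := d10_1 D5871 (iv D4413) D4412
def n5872 : Q := act 5 n4413
theorem D5872 : act 5 n4413 = n5872 := rfl
theorem F9637 : act 3 n5872 = n4418 := d13_1 D5872 (iv D4418) (iv F7198)
def n5873 : Q := act 4 n4414
theorem D5873 : act 4 n4414 = n5873 := rfl
def n5874 : Q := act 2 n4415
theorem D5874 : act 2 n4415 = n5874 := rfl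
theorem F9638 : act 0 n5874 = n4416 := d1_1 D5874 (iv D4416) (iv F7200)
theorem F9639 : act 3 n5874 = n4783 := d15_1 D5874 (iv D4783) (iv D3557) F4220 (iv F3877) (iv F5283) D4366 F7137 (iv F7200)
def n5875 : Q := act 4 n4415
theorem D5875 : act 4 n4415 = n5875 := rfl
theorem F9640 : act 0 n5875 = n4417 := d3_1 D5875 (iv D4417) (iv F7200)
def n5876 : Q := act 3 n4416
theorem D5876 : act 3 n4416 = n5876 := rfl
theorem F9641 : act 0 n5876 = n4783 := d2_1 D5876 (iv F9639) F9638
theorem F9642 : act 2 n5876 = n4782 := d15_2 D4416 D5876 (iv D4782) F5757 (iv F5297) (iv F7134) D5808 F9554 F7200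
def n5877 : Q := act 4 n4416
theorem D5877 : act 4 n4416 = n5877 := rfl
theorem F9643 : act 2 n5877 = n4417 := d10_1 D5877 (iv D4417) D4416
def n5878 : Q := act 5 n4417
theorem D5878 : act 5 n4417 = n5878 := rfl
theorem F9644 : act 1 n5878 = n4418 := d8_1 D5878 (iv D4418) (iv F7201)
def n5879 : Q := act 3 n4419
theorem D5879 : act 3 n4419 = n5879 := rfl
theorem F9645 : act 0 n5879 = n4420 := d2_1 D5879 (iv D4420) D4419
def n5880 : Q := act 5 n4419
theorem D5880 : act 5 n4419 = n5880 := rfl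
theorem F9646 : act 0 n5880 = n4421 := d4_1 D5880 (iv D4421) D4419
def n5881 : Q := act 2 n4420
theorem D5881 : act 2 n4420 = n5881 := rfl
def n5882 : Q := act 4 n4420
theorem D5882 : act 4 n4420 = n5882 := rfl
theorem F9647 : act 1 n5882 = n4423 := d7_1 D5882 (iv D4423) (iv F7203)
theorem F9648 : act 3 n5882 = n4429 := d12_1 D5882 (iv D4429) (iv D3292) (iv F5336) D4420
def n5883 : Q := act 5 n4420
theorem D5883 : act 5 n4420 = n5883 := rfl
theorem F9649 : act 1 n5883 = n4424 := d8_1 D5883 (iv D4424) (iv F7203)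
theorem F9650 : act 3 n5883 = n4421 := d13_1 D5883 (iv D4421) D4420
def n5884 : Q := act 4 n4421
theorem D5884 : act 4 n4421 = n5884 := rfl
theorem F9651 : act 1 n5884 = n4425 := d7_1 D5884 (iv D4425) (iv F7204)
theorem F9652 : act 5 n5884 = n4430 := d14_2 D4421 D5884 (iv D4430) (iv D3293) (iv F5336)
def n5885 : Q := act 1 n4422
theorem D5885 : act 1 n4422 = n5885 := rfl
theorem F9653 : act 3 n5885 = n4534 := d6_2 (iv F7205) D5885 F7369
theorem F9654 : act 5 n5885 = n4549 := d8_2 F7206 D5885 F7399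
def n5886 : Q := act 4 n4422
theorem D5886 : act 4 n4422 = n5886 := rfl
theorem F9655 : act 2 n5886 = n4423 := d10_1 D5886 (iv D4423) D4422
def n5887 : Q := act 5 n4423
theorem D5887 : act 5 n4423 = n5887 := rfl
theorem F9656 : act 3 n5887 = n4431 := d13_1 D5887 (iv D4431) (iv F7207)
def n5888 : Q := act 4 n4424
theorem D5888 : act 4 n4424 = n5888 := rfl
theorem F9657 : act 0 n5888 = n5886 := d3_1 D5888 (iv D5886) (iv F7208)
theorem F9658 : act 2 n5888 = n4550 := d10_1 D5888 (iv D4550) (iv F7209)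
def n5889 : Q := act 3 n4425
theorem D5889 : act 3 n4425 = n5889 := rfl
theorem F9659 : act 5 n5889 = n4432 := d13_2 (iv F7212) D5889 (iv D4432)
def n5890 : Q := act 2 n4426
theorem D5890 : act 2 n4426 = n5890 := rfl
theorem F9660 : act 0 n5890 = n4428 := d1_1 D5890 (iv D4428) (iv F7213)
def n5891 : Q := act 4 n4426
theorem D5891 : act 4 n4426 = n5891 := rfl
theorem F9661 : act 0 n5891 = n4429 := d3_1 D5891 (iv D4429) (iv F7213)
def n5892 : Q := act 4 n4427
theorem D5892 : act 4 n4427 = n5892 := rfl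
theorem F9662 : act 0 n5892 = n4430 := d3_1 D5892 (iv D4430) (iv F7214)
def n5893 : Q := act 3 n4428
theorem D5893 : act 3 n4428 = n5893 := rfl
def n5894 : Q := act 4 n4428
theorem D5894 : act 4 n4428 = n5894 := rfl
theorem F9663 : act 2 n5894 = n4429 := d10_1 D5894 (iv D4429) D4428
def n5895 : Q := act 5 n4429
theorem D5895 : act 5 n4429 = n5895 := rfl
theorem F9664 : act 1 n5895 = n4431 := d8_1 D5895 (iv D4431) (iv F7215)
def n5896 : Q := act 3 n4430
theorem D5896 : act 3 n4430 = n5896 := rfl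
theorem F9665 : act 1 n5896 = n4432 := d6_1 D5896 (iv D4432) (iv F7216)
def n5897 : Q := act 2 n4432
theorem D5897 : act 2 n4432 = n5897 := rfl
def n5898 : Q := act 4 n4433
theorem D5898 : act 4 n4433 = n5898 := rfl
theorem F9666 : act 0 n5898 = n4434 := d3_1 D5898 (iv D4434) D4433
def n5899 : Q := act 3 n4434
theorem D5899 : act 3 n4434 = n5899 := rfl
theorem F9667 : act 1 n5899 = n4435 := d6_1 D5899 (iv D4435) (iv F7217)
def n5900 : Q := act 5 n4434
theorem D5900 : act 5 n4434 = n5900 := rfl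
theorem F9668 : act 1 n5900 = n4436 := d8_1 D5900 (iv D4436) (iv F7217)
def n5901 : Q := act 2 n4435
theorem D5901 : act 2 n4435 = n5901 := rfl
theorem F9669 : act 3 n5901 = n5734 := d15_3 (iv F5342) D4435 D5901 F9432 F7053 (iv F5335) (iv F6641) (iv D4057) F4878
theorem F9670 : act 5 n5733 = n5901 := d13_0 F9669 (iv D5734) D5733
def n5902 : Q := act 5 n4435
theorem D5902 : act 5 n4435 = n5902 := rfl
theorem F9671 : act 2 n5902 = n5733 := d11_1 D5902 F9670 (iv D5901)
theorem F9672 : act 3 n5902 = n4436 := d13_1 D5902 (iv D4436) D4435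
def n5903 : Q := act 1 n4438
theorem D5903 : act 1 n4438 = n5903 := rfl
theorem F9673 : act 4 n5903 = n5731 := d7_2 (iv F7221) D5903 (iv D5731)
def n5904 : Q := act 3 n4438
theorem D5904 : act 3 n4438 = n5904 := rfl
theorem F9674 : act 0 n5904 = n5733 := d2_1 D5904 (iv D5733) (iv F7220)
def n5905 : Q := act 5 n4438
theorem D5905 : act 5 n4438 = n5905 := rfl
theorem F9675 : act 0 n5905 = n5734 := d4_1 D5905 (iv D5734) (iv F7220)
theorem F9676 : act 2 n5905 = n4439 := d11_1 D5905 (iv D4439) D4438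
def n5906 : Q := act 4 n4439
theorem D5906 : act 4 n4439 = n5906 := rfl
theorem F9677 : act 0 n5906 = n5735 := d3_1 D5906 (iv D5735) (iv F7222)
theorem F9678 : act 3 n5906 = n5409 := d12_1 D5906 (iv D5409) F6641 (iv F5348) (iv F7223)
theorem F9679 : act 5 n5906 = n5410 := d14_2 D4439 D5906 F8916 F6645 (iv F5345)
def n5907 : Q := act 3 n4440
theorem D5907 : act 3 n4440 = n5907 := rfl
theorem F9680 : act 1 n5907 = n4441 := d6_1 D5907 (iv D4441) D4440
theorem F9681 : act 5 n5907 = n4483 := d13_2 (iv F8933) D5907 F8932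
def n5908 : Q := act 4 n4441
theorem D5908 : act 4 n4441 = n5908 := rfl
theorem F9682 : act 0 n5908 = n4443 := d3_1 D5908 (iv D4443) (iv F7224)
theorem F9683 : act 2 n5908 = n4486 := d10_1 D5908 (iv D4486) (iv F7225)
def n5909 : Q := act 1 n4442
theorem D5909 : act 1 n4442 = n5909 := rfl
theorem F9684 : act 3 n5909 = n4477 := d6_2 (iv F7228) D5909 F7259
theorem F9685 : act 5 n5909 = n4476 := d8_2 (iv F7229) D5909 F7258
def n5910 : Q := act 4 n4442
theorem D5910 : act 4 n4442 = n5910 := rfl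
theorem F9686 : act 0 n5910 = n4486 := d3_1 D5910 (iv D4486) (iv F7227)
theorem F9687 : act 2 n5910 = n4443 := d10_1 D5910 (iv D4443) D4442
def n5911 : Q := act 5 n4443
theorem D5911 : act 5 n4443 = n5911 := rfl
def n5912 : Q := act 2 n4444
theorem D5912 : act 2 n4444 = n5912 := rfl
theorem F9688 : act 0 n5912 = n4446 := d1_1 D5912 (iv D4446) (iv F7230)
def n5913 : Q := act 4 n4444
theorem D5913 : act 4 n4444 = n5913 := rfl
theorem F9689 : act 0 n5913 = n4447 := d3_1 D5913 (iv D4447) (iv F7230)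
theorem F9690 : act 1 n5913 = n4452 := d7_1 D5913 (iv D4452) (iv F7231)
def n5914 : Q := act 4 n4445
theorem D5914 : act 4 n4445 = n5914 := rfl
theorem F9691 : act 0 n5914 = n4448 := d3_1 D5914 (iv D4448) (iv F7232)
theorem F9692 : act 1 n5914 = n4454 := d7_1 D5914 (iv D4454) (iv F7233)
def n5915 : Q := act 3 n4446
theorem D5915 : act 3 n4446 = n5915 := rfl
def n5916 : Q := act 4 n4446
theorem D5916 : act 4 n4446 = n5916 := rfl
theorem F9693 : act 2 n5916 = n4447 := d10_1 D5916 (iv D4447) D4446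
def n5917 : Q := act 5 n4447
theorem D5917 : act 5 n4447 = n5917 := rfl
theorem F9694 : act 1 n5917 = n4449 := d8_1 D5917 (iv D4449) (iv F7234)
def n5918 : Q := act 3 n4448
theorem D5918 : act 3 n4448 = n5918 := rfl
theorem F9695 : act 1 n5918 = n4450 := d6_1 D5918 (iv D4450) (iv F7235)
def n5919 : Q := act 1 n4451
theorem D5919 : act 1 n4451 = n5919 := rfl
def n5920 : Q := act 4 n4451
theorem D5920 : act 4 n4451 = n5920 := rfl
theorem F9696 : act 0 n5920 = n4457 := d3_1 D5920 (iv D4457) (iv F7238)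
theorem F9697 : act 2 n5920 = n4452 := d10_1 D5920 (iv D4452) D4451
def n5921 : Q := act 5 n4451
theorem D5921 : act 5 n4451 = n5921 := rfl
theorem F9698 : act 0 n5921 = n4458 := d4_1 D5921 (iv D4458) (iv F7238)
theorem F9699 : act 2 n5921 = n4453 := d11_1 D5921 (iv D4453) D4451
theorem F9700 : act 3 n5921 = n4472 := d13_1 D5921 (iv F9030) F9031
def n5922 : Q := act 5 n4452
theorem D5922 : act 5 n4452 = n5922 := rfl
theorem F9701 : act 0 n5922 = n4459 := d4_1 D5922 (iv D4459) (iv F7239)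
def n5923 : Q := act 4 n4453
theorem D5923 : act 4 n4453 = n5923 := rfl
theorem F9702 : act 0 n5923 = n4460 := d3_1 D5923 (iv D4460) (iv F7240)
def n5924 : Q := act 3 n4454
theorem D5924 : act 3 n4454 = n5924 := rfl
theorem F9703 : act 0 n5924 = n4461 := d2_1 D5924 (iv D4461) (iv F7242)
def n5925 : Q := act 0 n4455
theorem D5925 : act 0 n4455 = n5925 := rfl
theorem F9704 : act 2 n5925 = n4462 := d1_2 (iv F7244) D5925 (iv D4462)
def n5926 : Q := act 3 n4455
theorem D5926 : act 3 n4455 = n5926 := rfl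
theorem F9705 : act 1 n5926 = n4456 := d6_1 D5926 (iv D4456) D4455
def n5927 : Q := act 4 n4455
theorem D5927 : act 4 n4455 = n5927 := rfl
theorem F9706 : act 1 n5927 = n4457 := d7_1 D5927 (iv D4457) D4455
theorem F9707 : act 2 n5927 = n4463 := d10_1 D5927 (iv D4463) (iv F7244)
def n5928 : Q := act 4 n4456
theorem D5928 : act 4 n4456 = n5928 := rfl
def n5929 : Q := act 5 n4456
theorem D5929 : act 5 n4456 = n5929 := rfl
theorem F9708 : act 0 n5929 = n4472 := d4_1 D5929 (iv F9030) F9029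
theorem F9709 : act 2 n5929 = n4470 := d11_1 D5929 (iv F9022) F9023
theorem F9710 : act 3 n5929 = n4458 := d13_1 D5929 (iv D4458) D4456
def n5930 : Q := act 3 n4457
theorem D5930 : act 3 n4457 = n5930 := rfl
def n5931 : Q := act 5 n4457
theorem D5931 : act 5 n4457 = n5931 := rfl
theorem F9711 : act 2 n5931 = n4459 := d11_1 D5931 (iv D4459) (iv F7245)
def n5932 : Q := act 4 n4458
theorem D5932 : act 4 n4458 = n5932 := rfl
theorem F9712 : act 2 n5932 = n4460 := d10_1 D5932 (iv D4460) (iv F7246)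
def n5933 : Q := act 4 n4459
theorem D5933 : act 4 n4459 = n5933 := rfl
theorem F9713 : act 1 n5933 = n4466 := d7_1 D5933 (iv D4466) (iv F7247)
theorem F9714 : act 5 n5933 = n4460 := d14_2 D4459 D5933 (iv D4460) (iv D3313) D3312
def n5934 : Q := act 3 n4460
theorem D5934 : act 3 n4460 = n5934 := rfl
theorem F9715 : act 1 n5934 = n4467 := d6_1 D5934 (iv D4467) (iv F7248)
theorem F9716 : act 4 n5934 = n4461 := d12_2 D4460 D5934 (iv D4461) (iv D3314) (iv F5361)
def n5935 : Q := act 2 n4461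
theorem D5935 : act 2 n4461 = n5935 := rfl
def n5936 : Q := act 4 n4462
theorem D5936 : act 4 n4462 = n5936 := rfl
theorem F9717 : act 0 n5936 = n4463 := d3_1 D5936 (iv D4463) D4462
def n5937 : Q := act 3 n4463
theorem D5937 : act 3 n4463 = n5937 := rfl
theorem F9718 : act 1 n5937 = n4464 := d6_1 D5937 (iv D4464) (iv F7250)
def n5938 : Q := act 5 n4463
theorem D5938 : act 5 n4463 = n5938 := rfl
theorem F9719 : act 1 n5938 = n4465 := d8_1 D5938 (iv D4465) (iv F7250)
def n5939 : Q := act 2 n4464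
theorem D5939 : act 2 n4464 = n5939 := rfl
def n5940 : Q := act 5 n4464
theorem D5940 : act 5 n4464 = n5940 := rfl
theorem F9720 : act 3 n5940 = n4465 := d13_1 D5940 (iv D4465) D4464
def n5941 : Q := act 3 n4466
theorem D5941 : act 3 n4466 = n5941 := rfl
theorem F9721 : act 5 n5941 = n4467 := d13_2 (iv F7252) D5941 (iv D4467)
def n5942 : Q := act 2 n4467
theorem D5942 : act 2 n4467 = n5942 := rfl
theorem F9722 : act 4 n5942 = n4468 := d10_2 (iv F7253) D5942 (iv D4468)
def n5943 : Q := act 1 n4468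
theorem D5943 : act 1 n4468 = n5943 := rfl
def n5944 : Q := act 3 n4469
theorem D5944 : act 3 n4469 = n5944 := rfl
theorem F9723 : act 1 n5944 = n4470 := d6_1 D5944 (iv D4470) D4469
def n5945 : Q := act 4 n4469
theorem D5945 : act 4 n4469 = n5945 := rfl
theorem F9724 : act 1 n5945 = n4471 := d7_1 D5945 (iv D4471) D4469
def n5946 : Q := act 4 n4470
theorem D5946 : act 4 n4470 = n5946 := rfl
theorem F9725 : act 0 n5946 = n4473 := d3_1 D5946 (iv D4473) (iv F7254)
def n5947 : Q := act 3 n4471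
theorem D5947 : act 3 n4471 = n5947 := rfl
theorem F9726 : act 0 n5947 = n4474 := d2_1 D5947 (iv D4474) (iv F7255)
def n5948 : Q := act 1 n4472
theorem D5948 : act 1 n4472 = n5948 := rfl
def n5949 : Q := act 4 n4472
theorem D5949 : act 4 n4472 = n5949 := rfl
theorem F9727 : act 2 n5949 = n4473 := d10_1 D5949 (iv D4473) D4472
def n5950 : Q := act 3 n4473
theorem D5950 : act 3 n4473 = n5950 := rfl
theorem F9728 : act 4 n5950 = n4474 := d12_2 D4473 D5950 (iv D4474) (iv D3324) D3323
def n5951 : Q := act 5 n4473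
theorem D5951 : act 5 n4473 = n5951 := rfl
def n5952 : Q := act 2 n4474
theorem D5952 : act 2 n4474 = n5952 := rfl
def n5953 : Q := act 3 n4475
theorem D5953 : act 3 n4475 = n5953 := rfl
theorem F9729 : act 0 n5953 = n4476 := d2_1 D5953 (iv D4476) D4475
theorem F9730 : act 1 n5953 = n4480 := d6_1 D5953 (iv D4480) (iv F7257)
def n5954 : Q := act 4 n4476
theorem D5954 : act 4 n4476 = n5954 := rfl
theorem F9731 : act 1 n5954 = n4478 := d7_1 D5954 (iv D4478) (iv F7258)
def n5955 : Q := act 4 n4477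
theorem D5955 : act 4 n4477 = n5955 := rfl
theorem F9732 : act 1 n5955 = n4479 := d7_1 D5955 (iv D4479) (iv F7259)
def n5956 : Q := act 5 n4478
theorem D5956 : act 5 n4478 = n5956 := rfl
theorem F9733 : act 0 n5956 = n4485 := d4_1 D5956 (iv D4485) (iv F7260)
def n5957 : Q := act 3 n4479
theorem D5957 : act 3 n4479 = n5957 := rfl
theorem F9734 : act 0 n5957 = n4487 := d2_1 D5957 (iv D4487) (iv F7261)
def n5958 : Q := act 4 n4480
theorem D5958 : act 4 n4480 = n5958 := rfl
theorem F9735 : act 0 n5958 = n4482 := d3_1 D5958 (iv D4482) (iv F7263)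
def n5959 : Q := act 1 n4481
theorem D5959 : act 1 n4481 = n5959 := rfl
theorem F9736 : act 2 n5959 = n4483 := d5_2 D4481 D5959 (iv D4483) (iv D3331) (iv F5374)
def n5960 : Q := act 4 n4481
theorem D5960 : act 4 n4481 = n5960 := rfl
theorem F9737 : act 2 n5960 = n4482 := d10_1 D5960 (iv D4482) D4481
def n5961 : Q := act 5 n4482
theorem D5961 : act 5 n4482 = n5961 := rfl
theorem F9738 : act 1 n5961 = n4485 := d8_1 D5961 (iv D4485) (iv F7264)
def n5962 : Q := act 4 n4483
theorem D5962 : act 4 n4483 = n5962 := rfl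
theorem F9739 : act 1 n5962 = n4484 := d7_1 D5962 (iv D4484) D4483
def n5963 : Q := act 3 n4484
theorem D5963 : act 3 n4484 = n5963 := rfl
def n5964 : Q := act 5 n4484
theorem D5964 : act 5 n4484 = n5964 := rfl
theorem F9740 : act 2 n5964 = n4485 := d11_1 D5964 (iv D4485) (iv F7265)
def n5965 : Q := act 4 n4485
theorem D5965 : act 4 n4485 = n5965 := rfl
theorem F9741 : act 5 n5965 = n4486 := d14_2 D4485 D5965 (iv D4486) (iv D3333) D3332
def n5966 : Q := act 3 n4486
theorem D5966 : act 3 n4486 = n5966 := rfl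
theorem F9742 : act 4 n5966 = n4487 := d12_2 D4486 D5966 (iv D4487) (iv D3334) (iv F5375)
def n5967 : Q := act 2 n4487
theorem D5967 : act 2 n4487 = n5967 := rfl
def n5968 : Q := act 1 n4488
theorem D5968 : act 1 n4488 = n5968 := rfl
theorem F9743 : act 2 n5968 = n4503 := d5_2 D4488 D5968 (iv D4503) (iv D3346) (iv F5378)
theorem F9744 : act 4 n5968 = n4659 := d7_2 (iv F7267) D5968 (iv D4659)
def n5969 : Q := act 3 n4488
theorem D5969 : act 3 n4488 = n5969 := rfl
theorem F9745 : act 0 n5969 = n4493 := d2_1 D5969 (iv D4493) (iv F7266)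
def n5970 : Q := act 5 n4488
theorem D5970 : act 5 n4488 = n5970 := rfl
theorem F9746 : act 0 n5970 = n4494 := d4_1 D5970 (iv D4494) (iv F7266)
theorem F9747 : act 2 n5970 = n4489 := d11_1 D5970 (iv D4489) D4488
def n5971 : Q := act 4 n4489
theorem D5971 : act 4 n4489 = n5971 := rfl
theorem F9748 : act 0 n5971 = n4495 := d3_1 D5971 (iv D4495) (iv F7268)
theorem F9749 : act 1 n5971 = n4501 := d7_1 D5971 F7295 (iv F7269)
theorem F9750 : act 3 n5971 = n4495 := d12_1 D5971 (iv D4495) F5392 (iv F5383) (iv F7270)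
theorem F9751 : act 5 n5971 = n4662 := d14_2 D4489 D5971 (iv D4662) (iv D3465) (iv F5379)
def n5972 : Q := act 1 n4490
theorem D5972 : act 1 n4490 = n5972 := rfl
theorem F9752 : act 2 n5972 = n4496 := d5_2 D4490 D5972 (iv D4496) (iv D3341) (iv F5385)
theorem F9753 : act 4 n5972 = n4492 := d7_2 (iv F7272) D5972 (iv D4492)
def n5973 : Q := act 3 n4490
theorem D5973 : act 3 n4490 = n5973 := rfl
theorem F9754 : act 0 n5973 = n4660 := d2_1 D5973 (iv D4660) (iv F7271)
def n5974 : Q := act 5 n4490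
theorem D5974 : act 5 n4490 = n5974 := rfl
theorem F9755 : act 0 n5974 = n4661 := d4_1 D5974 (iv D4661) (iv F7271)
theorem F9756 : act 2 n5974 = n4491 := d11_1 D5974 (iv D4491) D4490
def n5975 : Q := act 4 n4491
theorem D5975 : act 4 n4491 = n5975 := rfl
theorem F9757 : act 0 n5975 = n4662 := d3_1 D5975 (iv D4662) (iv F7273)
theorem F9758 : act 1 n5975 = n4499 := d7_1 D5975 (iv D4499) (iv F7274)
theorem F9759 : act 3 n5975 = n4662 := d12_1 D5975 (iv D4662) F5617 (iv F5390) (iv F7275)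
theorem F9760 : act 5 n5975 = n4495 := d14_2 D4491 D5975 (iv D4495) (iv D3340) (iv F5386)
def n5976 : Q := act 0 n4492
theorem D5976 : act 0 n4492 = n5976 := rfl
theorem F9761 : act 2 n5976 = n4500 := d1_2 (iv F7276) D5976 (iv D4500)
theorem F9762 : act 5 n5976 = n4587 := d4_2 F7277 D5976 F7479
def n5977 : Q := act 3 n4492
theorem D5977 : act 3 n4492 = n5977 := rfl
theorem F9763 : act 1 n5977 = n4493 := d6_1 D5977 (iv D4493) D4492
theorem F9764 : act 5 n5977 = n4590 := d13_2 F7277 D5977 (iv D4590)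
def n5978 : Q := act 2 n4493
theorem D5978 : act 2 n4493 = n5978 := rfl
theorem F9765 : act 3 n5978 = n5970 := d15_3 D3339 D4493 D5978 F9747 F7270 F5382 (iv F7270) (iv D4489) F5377
theorem F9766 : act 5 n5969 = n5978 := d13_0 F9765 (iv D5970) D5969
def n5979 : Q := act 4 n4493
theorem D5979 : act 4 n4493 = n5979 := rfl
def n5980 : Q := act 5 n4493
theorem D5980 : act 5 n4493 = n5980 := rfl
theorem F9767 : act 0 n5980 = n5978 := d4_1 D5980 (iv F9766) F9745
theorem F9768 : act 1 n5980 = n4590 := d8_1 D5980 (iv F9764) F9763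
theorem F9769 : act 2 n5980 = n5969 := d11_1 D5980 F9766 (iv D5978)
theorem F9770 : act 3 n5980 = n4494 := d13_1 D5980 (iv D4494) D4493
def n5981 : Q := act 4 n4494
theorem D5981 : act 4 n4494 = n5981 := rfl
theorem F9771 : act 1 n5981 = n4591 := d7_1 D5981 (iv D4591) (iv F7278)
theorem F9772 : act 2 n5981 = n4495 := d10_1 D5981 (iv D4495) (iv F7279)
def n5982 : Q := act 0 n4496
theorem D5982 : act 0 n4496 = n5982 := rfl
theorem F9773 : act 1 n5982 = n4525 := d0_2 D4496 D5982 (iv D4525) (iv D3361) (iv F5393)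
theorem F9774 : act 4 n5982 = n4500 := d3_2 (iv F7281) D5982 (iv D4500)
def n5983 : Q := act 3 n4496
theorem D5983 : act 3 n4496 = n5983 := rfl
theorem F9775 : act 1 n5983 = n4497 := d6_1 D5983 (iv D4497) D4496
theorem F9776 : act 4 n5983 = n4593 := d12_2 (iv F7281) D5983 (iv D4593) (iv D3415) (iv F5397)
def n5984 : Q := act 5 n4496
theorem D5984 : act 5 n4496 = n5984 := rfl
theorem F9777 : act 1 n5984 = n4498 := d8_1 D5984 (iv D4498) D4496
theorem F9778 : act 4 n5984 = n4592 := d14_1 D5984 (iv D4592) (iv D3414) (iv F5398) (iv F7281)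
def n5985 : Q := act 2 n4497
theorem D5985 : act 2 n4497 = n5985 := rfl
theorem F9779 : act 0 n5985 = n4528 := d1_1 D5985 (iv D4528) (iv F7282)
theorem F9780 : act 3 n5985 = n4523 := d9_2 D4497 D5985 F7345 F5435 F3991 (iv F3994) (iv F5437) (iv F7358) F7357 (iv D3456) (iv D2541) (iv D1856) (iv F2898) D2456 D3341
theorem F9781 : act 4 n5985 = n4594 := d10_2 (iv F7283) D5985 (iv D4594)
theorem F9782 : act 5 n4522 = n5985 := d13_0 F9780 (iv D4523) D4522
def n5986 : Q := act 5 n4497
theorem D5986 : act 5 n4497 = n5986 := rfl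
theorem F9783 : act 0 n5986 = n4530 := d4_1 D5986 (iv D4530) (iv F7282)
theorem F9784 : act 2 n5986 = n4522 := d11_1 D5986 F9782 (iv D5985)
theorem F9785 : act 3 n5986 = n4498 := d13_1 D5986 (iv D4498) D4497
theorem F9786 : act 4 n5986 = n5372 := d14_1 D5986 (iv D5372) (iv F7477) F7478 (iv F7283)
def n5987 : Q := act 2 n4501
theorem D5987 : act 2 n4501 = n5987 := rfl
theorem F9787 : act 0 n5987 = n4518 := d1_1 D5987 F7335 (iv F7294)
theorem F9788 : act 4 n5987 = n4502 := d10_2 (iv F7295) D5987 (iv D4502)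
theorem F9789 : act 5 n5987 = n4667 := d11_2 (iv F7296) D5987 F7607
theorem F9790 : act 3 n5987 = n5513 := d15_1 D5987 F9083 (iv F8775) F8774 F7362 F7360 (iv F7329) F7330 (iv F7294)
def n5988 : Q := act 1 n4502
theorem D5988 : act 1 n4502 = n5988 := rfl
theorem F9791 : act 3 n5988 = n4541 := d6_2 (iv F7299) D5988 (iv D4541)
theorem F9792 : act 5 n5988 = n4503 := d8_2 (iv F7298) D5988 (iv D4503)
def n5989 : Q := act 0 n4503
theorem D5989 : act 0 n4503 = n5989 := rfl
theorem F9793 : act 1 n5989 = n4514 := d0_2 D4503 D5989 (iv D4514) (iv D3353) (iv F5403)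
theorem F9794 : act 4 n5989 = n4663 := d3_2 (iv F7300) D5989 (iv D4663)
def n5990 : Q := act 3 n4503
theorem D5990 : act 3 n4503 = n5990 := rfl
theorem F9795 : act 1 n5990 = n4504 := d6_1 D5990 (iv D4504) D4503
theorem F9796 : act 5 n5990 = n4541 := d13_2 F9792 D5990 (iv F9791)
def n5991 : Q := act 4 n4504
theorem D5991 : act 4 n4504 = n5991 := rfl
theorem F9797 : act 0 n5991 = n4517 := d3_1 D5991 (iv D4517) (iv F7301)
theorem F9798 : act 2 n5991 = n4537 := d10_1 D5991 (iv D4537) (iv F7303)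
theorem F9799 : act 3 n5991 = n4666 := d12_1 D5991 (iv D4666) (iv D3467) (iv F5404) D4504
theorem F9800 : act 5 n5991 = n5512 := d14_2 (iv F7302) D5991 (iv D5512) (iv F7382) (iv D4542)
def n5992 : Q := act 3 n4505
theorem D5992 : act 3 n4505 = n5992 := rfl
theorem F9801 : act 1 n5992 = n4506 := d6_1 D5992 (iv D4506) D4505
theorem F9802 : act 5 n5992 = n4508 := d13_2 (iv F7306) D5992 (iv D4508)
def n5993 : Q := act 4 n4506
theorem D5993 : act 4 n4506 = n5993 := rfl
theorem F9803 : act 0 n5993 = n4537 := d3_1 D5993 (iv D4537) (iv F7307)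
theorem F9804 : act 2 n5993 = n4517 := d10_1 D5993 (iv D4517) (iv F7308)
theorem F9805 : act 3 n5993 = n4559 := d12_1 D5993 (iv D4559) (iv D3389) (iv F5406) D4506
theorem F9806 : act 5 n5993 = n4759 := d14_2 (iv F7309) D5993 (iv D4759) (iv D3536) (iv F5411)
def n5994 : Q := act 3 n4507
theorem D5994 : act 3 n4507 = n5994 := rfl
theorem F9807 : act 0 n5994 = n4508 := d2_1 D5994 (iv D4508) D4507
theorem F9808 : act 1 n5994 = n4538 := d6_1 D5994 (iv D4538) (iv F7310)
theorem F9809 : act 4 n5994 = n4752 := d12_2 (iv F7312) D5994 (iv D4752) (iv D3532) (iv F5414)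
def n5995 : Q := act 2 n4508
theorem D5995 : act 2 n4508 = n5995 := rfl
theorem F9810 : act 4 n5995 = n4754 := d10_2 (iv F7314) D5995 (iv D4754)
def n5996 : Q := act 1 n4509
theorem D5996 : act 1 n4509 = n5996 := rfl
theorem F9811 : act 3 n5996 = n4516 := d6_2 (iv F7316) D5996 F7333
theorem F9812 : act 4 n5996 = n4756 := d7_2 (iv F7317) D5996 (iv D4756)
theorem F9813 : act 5 n5996 = n4515 := d8_2 (iv F7318) D5996 F7332
def n5997 : Q := act 0 n4510
theorem D5997 : act 0 n4510 = n5997 := rfl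
theorem F9814 : act 1 n5997 = n4663 := d0_2 D4510 D5997 (iv D4663) (iv D3466) (iv F5416)
theorem F9815 : act 2 n5997 = n4525 := d1_2 (iv F7319) D5997 (iv D4525)
theorem F9816 : act 4 n5997 = n4514 := d3_2 (iv F7320) D5997 (iv D4514)
def n5998 : Q := act 3 n4510
theorem D5998 : act 3 n4510 = n5998 := rfl
theorem F9817 : act 1 n5998 = n4511 := d6_1 D5998 (iv D4511) D4510
theorem F9818 : act 5 n4674 = n5998 := d8_0 F9817 (iv F7323) D4674
def n5999 : Q := act 5 n4510
theorem D5999 : act 5 n4510 = n5999 := rfl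
theorem F9819 : act 1 n5999 = n4512 := d8_1 D5999 (iv D4512) D4510
theorem F9820 : act 2 n5999 = n4527 := d11_1 D5999 (iv D4527) (iv F7319)
theorem F9821 : act 3 n5999 = n4674 := d13_1 D5999 F9818 (iv D5998)
def n6000 : Q := act 4 n4511
theorem D6000 : act 4 n4511 = n6000 := rfl
theorem F9822 : act 0 n6000 = n4666 := d3_1 D6000 (iv D4666) (iv F7321)
theorem F9823 : act 2 n6000 = n4677 := d10_1 D6000 (iv D4677) (iv F7322)
theorem F9824 : act 3 n6000 = n4517 := d12_1 D6000 (iv D4517) (iv D3354) (iv F5417) D4511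
theorem F9825 : act 5 n6000 = n5399 := d14_2 F7323 D6000 (iv D5399) (iv F7619) (iv D4675)
def n6001 : Q := act 4 n4512
theorem D6001 : act 4 n4512 = n6001 := rfl
theorem F9826 : act 0 n6001 = n4667 := d3_1 D6001 (iv D4667) (iv F7324)
theorem F9827 : act 2 n6001 = n4513 := d10_1 D6001 (iv D4513) (iv F7325)
theorem F9828 : act 3 n6001 = n5374 := d12_1 D6001 F8854 F7618 (iv D4675) (iv F7326)
theorem F9829 : act 5 n6001 = n4518 := d14_2 D4512 D6001 (iv D4518) (iv D3355) (iv F5417)
def n6002 : Q := act 3 n4514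
theorem D6002 : act 3 n4514 = n6002 := rfl
theorem F9830 : act 0 n6002 = n4515 := d2_1 D6002 (iv D4515) D4514
def n6003 : Q := act 5 n4514
theorem D6003 : act 5 n4514 = n6003 := rfl
theorem F9831 : act 0 n6003 = n4516 := d4_1 D6003 (iv D4516) D4514
theorem F9832 : act 2 n6003 = n4533 := d11_1 D6003 (iv D4533) (iv F7331)
def n6004 : Q := act 2 n4515
theorem D6004 : act 2 n4515 = n6004 := rfl
def n6005 : Q := act 4 n4515
theorem D6005 : act 4 n4515 = n6005 := rfl
theorem F9833 : act 1 n6005 = n4517 := d7_1 D6005 (iv D4517) (iv F7332)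
def n6006 : Q := act 4 n4516
theorem D6006 : act 4 n4516 = n6006 := rfl
theorem F9834 : act 1 n6006 = n4518 := d7_1 D6006 (iv D4518) (iv F7333)
theorem F9835 : act 2 n6006 = n4536 := d10_1 D6006 (iv D4536) (iv F7334)
def n6007 : Q := act 5 n4517
theorem D6007 : act 5 n4517 = n6007 := rfl
theorem F9836 : act 0 n6007 = n5512 := d4_1 D6007 (iv F9800) F9797
theorem F9837 : act 2 n6007 = n4759 := d11_1 D6007 (iv F9806) F9804
theorem F9838 : act 3 n6007 = n5399 := d13_1 D6007 (iv F9825) F9824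
theorem F9839 : act 4 n6007 = n4758 := d14_1 D6007 (iv D4758) (iv F7317) F7318 D4517
def n6008 : Q := act 3 n4518
theorem D6008 : act 3 n4518 = n6008 := rfl
theorem F9840 : act 0 n6008 = n5513 := d2_1 D6008 (iv F9790) F9787
theorem F9841 : act 4 n6008 = n4757 := d12_2 D4518 D6008 (iv D4757) (iv F7317) F7316
theorem F9842 : act 5 n6008 = n5374 := d13_2 F9829 D6008 (iv F9828)
theorem F9843 : act 2 n6008 = n5373 := d15_2 (iv F7335) D6008 (iv D5373) (iv F7473) F7474 (iv F7288) F7289 (iv F7296) F7294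
def n6009 : Q := act 1 n4519
theorem D6009 : act 1 n4519 = n6009 := rfl
theorem F9844 : act 2 n6009 = n4521 := d5_2 D4519 D6009 (iv D4521) (iv D3359) (iv F5426)
theorem F9845 : act 4 n6009 = n4623 := d7_2 (iv F7337) D6009 (iv D4623)
def n6010 : Q := act 3 n4519
theorem D6010 : act 3 n4519 = n6010 := rfl
theorem F9846 : act 0 n6010 = n4628 := d2_1 D6010 (iv D4628) (iv F7336)
def n6011 : Q := act 5 n4519
theorem D6011 : act 5 n4519 = n6011 := rfl
theorem F9847 : act 0 n6011 = n4629 := d4_1 D6011 (iv D4629) (iv F7336)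
theorem F9848 : act 2 n6011 = n4520 := d11_1 D6011 (iv D4520) D4519
def n6012 : Q := act 4 n4520
theorem D6012 : act 4 n4520 = n6012 := rfl
theorem F9849 : act 0 n6012 = n4630 := d3_1 D6012 (iv D4630) (iv F7338)
theorem F9850 : act 1 n6012 = n4524 := d7_1 D6012 (iv D4524) (iv F7339)
theorem F9851 : act 3 n6012 = n4630 := d12_1 D6012 (iv D4630) F5574 (iv F5431) (iv F7340)
theorem F9852 : act 5 n6012 = n4626 := d14_2 D4520 D6012 (iv D4626) (iv D3438) (iv F5427)
def n6013 : Q := act 0 n4521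
theorem D6013 : act 0 n4521 = n6013 := rfl
theorem F9853 : act 1 n6013 = n4647 := d0_2 D4521 D6013 (iv D4647) (iv D3455) (iv F5432)
theorem F9854 : act 4 n6013 = n4644 := d3_2 (iv F7341) D6013 (iv D4644)
def n6014 : Q := act 3 n4521
theorem D6014 : act 3 n4521 = n6014 := rfl
theorem F9855 : act 1 n6014 = n4522 := d6_1 D6014 (iv D4522) D4521
theorem F9856 : act 4 n6014 = n5516 := d12_2 (iv F7341) D6014 (iv D5516) F6761 (iv F5597)
def n6015 : Q := act 5 n4521
theorem D6015 : act 5 n4521 = n6015 := rfl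
theorem F9857 : act 1 n6015 = n4523 := d8_1 D6015 (iv D4523) D4521
def n6016 : Q := act 4 n4523
theorem D6016 : act 4 n4523 = n6016 := rfl
theorem F9858 : act 0 n6016 = n4651 := d3_1 D6016 (iv D4651) (iv F7344)
theorem F9859 : act 2 n6016 = n4524 := d10_1 D6016 (iv D4524) (iv F7345)
theorem F9860 : act 5 n6016 = n4642 := d14_2 D4523 D6016 F7575 F5596 (iv F5433)
def n6017 : Q := act 3 n4525
theorem D6017 : act 3 n4525 = n6017 := rfl
theorem F9861 : act 0 n6017 = n4526 := d2_1 D6017 (iv D4526) D4525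
def n6018 : Q := act 5 n4525
theorem D6018 : act 5 n4525 = n6018 := rfl
theorem F9862 : act 0 n6018 = n4527 := d4_1 D6018 (iv D4527) D4525
def n6019 : Q := act 2 n4526
theorem D6019 : act 2 n4526 = n6019 := rfl
def n6020 : Q := act 4 n4526
theorem D6020 : act 4 n4526 = n6020 := rfl
theorem F9863 : act 1 n6020 = n4529 := d7_1 D6020 (iv D4529) (iv F7350)
theorem F9864 : act 3 n6020 = n4535 := d12_1 D6020 (iv D4535) (iv D3366) (iv F5436) D4526
theorem F9865 : act 5 n5347 = n6020 := d13_0 F9864 F7372 D5347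
def n6021 : Q := act 5 n4526
theorem D6021 : act 5 n4526 = n6021 := rfl
theorem F9866 : act 1 n6021 = n4530 := d8_1 D6021 (iv D4530) (iv F7350)
theorem F9867 : act 3 n6021 = n4527 := d13_1 D6021 (iv D4527) D4526
def n6022 : Q := act 4 n4527
theorem D6022 : act 4 n4527 = n6022 := rfl
theorem F9868 : act 1 n6022 = n4531 := d7_1 D6022 (iv D4531) (iv F7351)
theorem F9869 : act 5 n6022 = n4536 := d14_2 D4527 D6022 (iv D4536) (iv D3367) (iv F5436)
theorem F9870 : act 3 n5346 = n6022 := d13_3 F9869 F7374 D5346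
def n6023 : Q := act 1 n4528
theorem D6023 : act 1 n4528 = n6023 := rfl
theorem F9871 : act 3 n6023 = n4649 := d6_2 (iv F7352) D6023 F7586
theorem F9872 : act 5 n6023 = n4648 := d8_2 F7353 D6023 F7585
def n6024 : Q := act 4 n4528
theorem D6024 : act 4 n4528 = n6024 := rfl
theorem F9873 : act 0 n6024 = n4594 := d3_1 D6024 (iv F9781) F9779
theorem F9874 : act 2 n6024 = n4529 := d10_1 D6024 (iv D4529) D4528
theorem F9875 : act 5 n5348 = n6024 := d11_0 F9874 (iv F7356) D5348
def n6025 : Q := act 4 n4530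
theorem D6025 : act 4 n4530 = n6025 := rfl
theorem F9876 : act 0 n6025 = n5372 := d3_1 D6025 (iv F9786) F9783
theorem F9877 : act 2 n6025 = n4650 := d10_1 D6025 (iv D4650) (iv F7357)
theorem F9878 : act 3 n6025 = n5327 := d12_1 D6025 F8772 F7362 (iv D4531) (iv F7358)
theorem F9879 : act 5 n6025 = n5326 := d14_2 D4530 D6025 F8769 F7356 (iv D4529)
def n6026 : Q := act 2 n4532
theorem D6026 : act 2 n4532 = n6026 := rfl
theorem F9880 : act 0 n6026 = n4534 := d1_1 D6026 (iv D4534) (iv F7363)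
theorem F9881 : act 5 n6026 = n4548 := d11_2 F7365 D6026 F7397
theorem F9882 : act 1 n5880 = n6026 := d8_3 F9881 F7396 D5880
def n6027 : Q := act 4 n4532
theorem D6027 : act 4 n4532 = n6027 := rfl
theorem F9883 : act 0 n6027 = n4535 := d3_1 D6027 (iv D4535) (iv F7363)
theorem F9884 : act 1 n6027 = n4589 := d7_1 D6027 (iv D4589) (iv F7364)
theorem F9885 : act 5 n6027 = n5343 := d14_2 F7365 D6027 (iv D5343) (iv D4008) (iv F5474)
def n6028 : Q := act 4 n4533
theorem D6028 : act 4 n4533 = n6028 := rfl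
theorem F9886 : act 0 n6028 = n4536 := d3_1 D6028 (iv D4536) (iv F7366)
theorem F9887 : act 1 n6028 = n4588 := d7_1 D6028 (iv D4588) (iv F7367)
theorem F9888 : act 3 n6028 = n5342 := d12_1 D6028 (iv D5342) (iv D4007) (iv F5474) (iv F7368)
def n6029 : Q := act 4 n4534
theorem D6029 : act 4 n4534 = n6029 := rfl
theorem F9889 : act 1 n6029 = n4551 := d7_1 D6029 (iv D4551) (iv F7369)
theorem F9890 : act 2 n6029 = n4535 := d10_1 D6029 (iv D4535) D4534
theorem F9891 : act 5 n6029 = n5338 := d14_2 (iv F7370) D6029 (iv D5338) (iv D4004) (iv F5465)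
def n6030 : Q := act 5 n4537
theorem D6030 : act 5 n4537 = n6030 := rfl
theorem F9892 : act 0 n6030 = n4759 := d4_1 D6030 (iv F9806) F9803
theorem F9893 : act 2 n6030 = n5512 := d11_1 D6030 (iv F9800) F9798
theorem F9894 : act 3 n6030 = n4598 := d13_1 D6030 (iv D4598) (iv F7375)
theorem F9895 : act 4 n6030 = n4543 := d14_1 D6030 (iv D4543) (iv D3374) (iv F5449) D4537
def n6031 : Q := act 4 n4538
theorem D6031 : act 4 n4538 = n6031 := rfl
theorem F9896 : act 0 n6031 = n4540 := d3_1 D6031 (iv D4540) (iv F7376)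
theorem F9897 : act 1 n6031 = n4752 := d7_1 D6031 (iv F9809) F9808
theorem F9898 : act 3 n6031 = n4545 := d12_1 D6031 (iv D4545) (iv D3375) (iv F5451) D4538
def n6032 : Q := act 1 n4539
theorem D6032 : act 1 n4539 = n6032 := rfl
theorem F9899 : act 2 n6032 = n4541 := d5_2 D4539 D6032 (iv D4541) (iv D3373) (iv F5452)
def n6033 : Q := act 4 n4539
theorem D6033 : act 4 n4539 = n6033 := rfl
theorem F9900 : act 2 n6033 = n4540 := d10_1 D6033 (iv D4540) D4539
def n6034 : Q := act 5 n4540
theorem D6034 : act 5 n4540 = n6034 := rfl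
theorem F9901 : act 1 n6034 = n4543 := d8_1 D6034 (iv D4543) (iv F7377)
theorem F9902 : act 3 n6034 = n4547 := d13_1 D6034 (iv D4547) (iv F7378)
def n6035 : Q := act 0 n4541
theorem D6035 : act 0 n4541 = n6035 := rfl
def n6036 : Q := act 4 n4541
theorem D6036 : act 4 n4541 = n6036 := rfl
theorem F9903 : act 1 n6036 = n4542 := d7_1 D6036 (iv D4542) D4541
theorem F9904 : act 3 n5511 = n6036 := d6_0 F9903 (iv F7381) (iv F9082)
theorem F9905 : act 5 n5510 = n6036 := d8_0 F9903 F7382 (iv F9081)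
def n6037 : Q := act 4 n4544
theorem D6037 : act 4 n4544 = n6037 := rfl
theorem F9906 : act 0 n6037 = n4546 := d3_1 D6037 (iv D4546) (iv F7386)
theorem F9907 : act 1 n6037 = n4707 := d7_1 D6037 (iv D4707) (iv F7387)
theorem F9908 : act 2 n6037 = n4545 := d10_1 D6037 (iv D4545) D4544
def n6038 : Q := act 5 n4545
theorem D6038 : act 5 n4545 = n6038 := rfl
theorem F9909 : act 0 n6038 = n4547 := d4_1 D6038 (iv D4547) (iv F7390)
theorem F9910 : act 1 n6038 = n4753 := d8_1 D6038 (iv D4753) (iv F7391)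
theorem F9911 : act 4 n6038 = n4611 := d14_1 D6038 (iv D4611) (iv D3428) (iv F5457) D4545
def n6039 : Q := act 3 n4546
theorem D6039 : act 3 n4546 = n6039 := rfl
theorem F9912 : act 1 n6039 = n4708 := d6_1 D6039 (iv D4708) (iv F7392)
def n6040 : Q := act 5 n4546
theorem D6040 : act 5 n4546 = n6040 := rfl
theorem F9913 : act 1 n6040 = n4709 := d8_1 D6040 (iv D4709) (iv F7392)
theorem F9914 : act 2 n6040 = n4547 := d11_1 D6040 (iv D4547) (iv F7393)
theorem F9915 : act 4 n6040 = n4614 := d14_1 D6040 (iv D4614) (iv D3430) (iv F5459) D4546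
def n6041 : Q := act 3 n4548
theorem D6041 : act 3 n4548 = n6041 := rfl
theorem F9916 : act 0 n6041 = n4549 := d2_1 D6041 (iv D4549) D4548
theorem F9917 : act 1 n6041 = n5879 := d6_1 D6041 (iv D5879) (iv F7396)
def n6042 : Q := act 2 n4549
theorem D6042 : act 2 n4549 = n6042 := rfl
def n6043 : Q := act 4 n4549
theorem D6043 : act 4 n4549 = n6043 := rfl
theorem F9918 : act 1 n6043 = n4550 := d7_1 D6043 (iv D4550) (iv F7399)
theorem F9919 : act 3 n6043 = n5337 := d12_1 D6043 (iv D5337) (iv D4003) (iv F5465) D4549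
def n6044 : Q := act 5 n4550
theorem D6044 : act 5 n4550 = n6044 := rfl
theorem F9920 : act 0 n6044 = n5887 := d4_1 D6044 (iv D5887) (iv F7400)
theorem F9921 : act 3 n6044 = n5339 := d13_1 D6044 (iv D5339) (iv F7401)
def n6045 : Q := act 3 n4551
theorem D6045 : act 3 n4551 = n6045 := rfl
theorem F9922 : act 0 n6045 = n5889 := d2_1 D6045 (iv D5889) (iv F7402)
theorem F9923 : act 5 n6045 = n5340 := d13_2 (iv F7404) D6045 (iv D5340)
def n6046 : Q := act 1 n4552
theorem D6046 : act 1 n4552 = n6046 := rfl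
theorem F9924 : act 2 n6046 = n5884 := d5_2 D4552 D6046 F9651 F7211 (iv F5476)
theorem F9925 : act 4 n6046 = n4553 := d7_2 (iv F7406) D6046 (iv D4553)
theorem F9926 : act 5 n6046 = n4714 := d8_2 (iv F7407) D6046 F7683
def n6047 : Q := act 3 n4552
theorem D6047 : act 3 n4552 = n6047 := rfl
theorem F9927 : act 0 n6047 = n4579 := d2_1 D6047 (iv D4579) (iv F7405)
theorem F9928 : act 4 n6047 = n4607 := d12_2 (iv F7406) D6047 (iv D4607) (iv D3425) (iv F5481)
theorem F9929 : act 5 n6047 = n4716 := d13_2 (iv F7407) D6047 (iv D4716)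
def n6048 : Q := act 0 n4553
theorem D6048 : act 0 n4553 = n6048 := rfl
theorem F9930 : act 1 n6048 = n4574 := d0_2 D4553 D6048 F7455 F5522 (iv F5479)
theorem F9931 : act 2 n6048 = n5880 := d1_2 (iv F7408) D6048 F9646
theorem F9932 : act 3 n6048 = n4605 := d2_2 (iv F7409) D6048 (iv D4605)
theorem F9933 : act 5 n6048 = n4554 := d4_2 (iv F7410) D6048 (iv D4554)
def n6049 : Q := act 3 n4554
theorem D6049 : act 3 n4554 = n6049 := rfl
theorem F9934 : act 0 n6049 = n4555 := d2_1 D6049 (iv D4555) D4554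
theorem F9935 : act 1 n6049 = n4573 := d6_1 D6049 (iv D4573) (iv F7411)
theorem F9936 : act 5 n6049 = n4605 := d13_2 F9933 D6049 (iv F9932)
def n6050 : Q := act 2 n4555
theorem D6050 : act 2 n4555 = n6050 := rfl
theorem F9937 : act 1 n6050 = n4596 := d5_1 D6050 (iv D4596) F5543 (iv F5486) (iv F7414)
theorem F9938 : act 5 n6050 = n4601 := d11_2 (iv F7415) D6050 F7494
def n6051 : Q := act 4 n4555
theorem D6051 : act 4 n4555 = n6051 := rfl
theorem F9939 : act 1 n6051 = n4556 := d7_1 D6051 (iv D4556) (iv F7414)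
theorem F9940 : act 3 n6051 = n4713 := d12_1 D6051 (iv D4713) (iv D3504) (iv F5483) D4555
def n6052 : Q := act 5 n4556
theorem D6052 : act 5 n4556 = n6052 := rfl
theorem F9941 : act 0 n6052 = n4578 := d4_1 D6052 (iv D4578) (iv F7416)
theorem F9942 : act 2 n6052 = n4598 := d11_1 D6052 (iv D4598) (iv F7417)
theorem F9943 : act 3 n6052 = n4715 := d13_1 D6052 (iv D4715) (iv F7418)
theorem F9944 : act 4 n6052 = n4608 := d14_1 D6052 (iv D4608) (iv D3425) (iv F5485) D4556
def n6053 : Q := act 3 n4557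
theorem D6053 : act 3 n4557 = n6053 := rfl
theorem F9945 : act 0 n6053 = n4558 := d2_1 D6053 (iv D4558) D4557
theorem F9946 : act 1 n6053 = n4595 := d6_1 D6053 (iv D4595) (iv F7419)
theorem F9947 : act 5 n6053 = n4560 := d13_2 (iv F7421) D6053 (iv D4560)
def n6054 : Q := act 2 n4558
theorem D6054 : act 2 n4558 = n6054 := rfl
theorem F9948 : act 1 n6054 = n4575 := d5_1 D6054 (iv D4575) F5521 (iv F5490) (iv F7422)
theorem F9949 : act 5 n6054 = n4561 := d11_2 (iv F7423) D6054 (iv D4561)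
def n6055 : Q := act 4 n4558
theorem D6055 : act 4 n4558 = n6055 := rfl
theorem F9950 : act 1 n6055 = n4559 := d7_1 D6055 (iv D4559) (iv F7422)
def n6056 : Q := act 5 n4559
theorem D6056 : act 5 n4559 = n6056 := rfl
theorem F9951 : act 0 n6056 = n4598 := d4_1 D6056 (iv D4598) (iv F7424)
theorem F9952 : act 2 n6056 = n4578 := d11_1 D6056 (iv D4578) (iv F7425)
theorem F9953 : act 3 n6056 = n4759 := d13_1 D6056 (iv F9806) F9805
theorem F9954 : act 4 n6056 = n4565 := d14_1 D6056 (iv D4565) (iv D3393) (iv F5491) D4559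
def n6057 : Q := act 2 n4560
theorem D6057 : act 2 n4560 = n6057 := rfl
theorem F9955 : act 0 n6057 = n4561 := d1_1 D6057 (iv D4561) (iv F7426)
def n6058 : Q := act 4 n4560
theorem D6058 : act 4 n4560 = n6058 := rfl
theorem F9956 : act 0 n6058 = n4562 := d3_1 D6058 (iv D4562) (iv F7426)
theorem F9957 : act 1 n6058 = n4600 := d7_1 D6058 (iv D4600) (iv F7427)
theorem F9958 : act 3 n6058 = n4566 := d12_1 D6058 (iv D4566) (iv D3394) (iv F5494) D4560
def n6059 : Q := act 1 n4561
theorem D6059 : act 1 n4561 = n6059 := rfl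
theorem F9959 : act 2 n6059 = n4563 := d5_2 D4561 D6059 (iv D4563) (iv D3392) (iv F5495)
theorem F9960 : act 5 n6059 = n4575 := d8_2 F9949 D6059 (iv F9948)
def n6060 : Q := act 3 n4561
theorem D6060 : act 3 n4561 = n6060 := rfl
def n6061 : Q := act 4 n4561
theorem D6061 : act 4 n4561 = n6061 := rfl
theorem F9961 : act 2 n6061 = n4562 := d10_1 D6061 (iv D4562) D4561
def n6062 : Q := act 5 n4562
theorem D6062 : act 5 n4562 = n6062 := rfl
theorem F9962 : act 1 n6062 = n4565 := d8_1 D6062 (iv D4565) (iv F7428)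
theorem F9963 : act 3 n6062 = n4567 := d13_1 D6062 (iv D4567) (iv F7429)
def n6063 : Q := act 0 n4563
theorem D6063 : act 0 n4563 = n6063 := rfl
theorem F9964 : act 1 n6063 = n4605 := d0_2 D4563 D6063 (iv D4605) (iv D3424) (iv F5496)
theorem F9965 : act 3 n6063 = n4574 := d2_2 (iv F7430) D6063 F7455
theorem F9966 : act 5 n6063 = n4573 := d4_2 (iv F7431) D6063 F7454
def n6064 : Q := act 4 n4563
theorem D6064 : act 4 n4563 = n6064 := rfl
theorem F9967 : act 1 n6064 = n4564 := d7_1 D6064 (iv D4564) D4563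
def n6065 : Q := act 3 n4564
theorem D6065 : act 3 n4564 = n6065 := rfl
theorem F9968 : act 0 n6065 = n4607 := d2_1 D6065 (iv D4607) (iv F7432)
theorem F9969 : act 4 n6065 = n4579 := d12_2 D4564 D6065 (iv D4579) (iv D3405) (iv F5497)
def n6066 : Q := act 5 n4564
theorem D6066 : act 5 n4564 = n6066 := rfl
theorem F9970 : act 0 n6066 = n4608 := d4_1 D6066 (iv D4608) (iv F7432)
theorem F9971 : act 2 n6066 = n4565 := d11_1 D6066 (iv D4565) (iv F7433)
theorem F9972 : act 4 n6066 = n4578 := d14_1 D6066 (iv D4578) (iv D3404) (iv F5498) D4564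
def n6067 : Q := act 5 n4566
theorem D6067 : act 5 n4566 = n6067 := rfl
theorem F9973 : act 0 n6067 = n4567 := d4_1 D6067 (iv D4567) (iv F7436)
theorem F9974 : act 1 n6067 = n4611 := d8_1 D6067 (iv D4611) (iv F7437)
theorem F9975 : act 4 n6067 = n4753 := d14_1 D6067 (iv D4753) (iv D3532) (iv F5503) D4566
def n6068 : Q := act 3 n4568
theorem D6068 : act 3 n4568 = n6068 := rfl
theorem F9976 : act 0 n6068 = n4569 := d2_1 D6068 (iv D4569) D4568
theorem F9977 : act 1 n6068 = n4710 := d6_1 D6068 (iv D4710) (iv F7440)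
theorem F9978 : act 5 n4728 = n6068 := d4_0 F9976 (iv F7444) D4728
def n6069 : Q := act 5 n4568
theorem D6069 : act 5 n4568 = n6069 := rfl
theorem F9979 : act 0 n6069 = n4570 := d4_1 D6069 (iv D4570) D4568
theorem F9980 : act 1 n6069 = n4711 := d8_1 D6069 (iv D4711) (iv F7440)
theorem F9981 : act 2 n6069 = n4581 := d11_1 D6069 (iv D4581) (iv F7441)
theorem F9982 : act 3 n6069 = n4728 := d13_1 D6069 F9978 (iv D6068)
def n6070 : Q := act 2 n4569
theorem D6070 : act 2 n4569 = n6070 := rfl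
theorem F9983 : act 1 n6070 = n4724 := d5_1 D6070 F7698 F5691 (iv F5511) (iv F7443)
theorem F9984 : act 5 n6070 = n4721 := d11_2 F7444 D6070 F7694
def n6071 : Q := act 4 n4569
theorem D6071 : act 4 n4569 = n6071 := rfl
theorem F9985 : act 1 n6071 = n4571 := d7_1 D6071 (iv D4571) (iv F7443)
theorem F9986 : act 3 n6071 = n4576 := d12_1 D6071 (iv D4576) (iv D3402) (iv F5509) D4569
def n6072 : Q := act 4 n4570
theorem D6072 : act 4 n4570 = n6072 := rfl
theorem F9987 : act 1 n6072 = n4572 := d7_1 D6072 (iv D4572) (iv F7445)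
theorem F9988 : act 2 n6072 = n4584 := d10_1 D6072 (iv D4584) (iv F7446)
theorem F9989 : act 5 n6072 = n4577 := d14_2 D4570 D6072 (iv D4577) (iv D3403) (iv F5509)
def n6073 : Q := act 5 n4571
theorem D6073 : act 5 n4571 = n6073 := rfl
theorem F9990 : act 0 n6073 = n4715 := d4_1 D6073 (iv D4715) (iv F7448)
theorem F9991 : act 2 n6073 = n4732 := d11_1 D6073 F7706 (iv F7449)
theorem F9992 : act 3 n6073 = n4578 := d13_1 D6073 (iv D4578) (iv F7450)
theorem F9993 : act 4 n6073 = n4731 := d14_1 D6073 (iv D4731) (iv D3515) F5512 D4571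
def n6074 : Q := act 3 n4572
theorem D6074 : act 3 n4572 = n6074 := rfl
theorem F9994 : act 0 n6074 = n4716 := d2_1 D6074 (iv D4716) (iv F7451)
theorem F9995 : act 4 n6074 = n4730 := d12_2 D4572 D6074 (iv D4730) (iv D3515) (iv F5515)
theorem F9996 : act 5 n6074 = n4579 := d13_2 (iv F7453) D6074 (iv D4579)
def n6075 : Q := act 2 n4573
theorem D6075 : act 2 n4573 = n6075 := rfl
theorem F9997 : act 0 n6075 = n4575 := d1_1 D6075 (iv D4575) (iv F7454)
def n6076 : Q := act 4 n4573
theorem D6076 : act 4 n4573 = n6076 := rfl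
theorem F9998 : act 0 n6076 = n4576 := d3_1 D6076 (iv D4576) (iv F7454)
def n6077 : Q := act 4 n4574
theorem D6077 : act 4 n4574 = n6077 := rfl
theorem F9999 : act 0 n6077 = n4577 := d3_1 D6077 (iv D4577) (iv F7455)
theorem F10000 : act 2 n6077 = n4589 := d10_1 D6077 (iv D4589) (iv F7456)
def n6078 : Q := act 3 n4575
theorem D6078 : act 3 n4575 = n6078 := rfl
def n6079 : Q := act 4 n4575
theorem D6079 : act 4 n4575 = n6079 := rfl
theorem F10001 : act 2 n6079 = n4576 := d10_1 D6079 (iv D4576) D4575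
def n6080 : Q := act 5 n4576
theorem D6080 : act 5 n4576 = n6080 := rfl
theorem F10002 : act 1 n6080 = n4578 := d8_1 D6080 (iv D4578) (iv F7457)
def n6081 : Q := act 3 n4577
theorem D6081 : act 3 n4577 = n6081 := rfl
theorem F10003 : act 1 n6081 = n4579 := d6_1 D6081 (iv D4579) (iv F7458)
def n6082 : Q := act 2 n4579
theorem D6082 : act 2 n4579 = n6082 := rfl
theorem F10004 : act 3 n6082 = n5348 := d15_1 D6082 (iv D5348) (iv D4013) F4829 (iv F4163) (iv F5685) D4716 (iv F9929) F9927
def n6083 : Q := act 2 n4580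
theorem D6083 : act 2 n4580 = n6083 := rfl
theorem F10005 : act 0 n6083 = n4582 := d1_1 D6083 (iv D4582) (iv F7460)
theorem F10006 : act 5 n6083 = n5356 := d11_2 F7462 D6083 F8825
def n6084 : Q := act 4 n4580
theorem D6084 : act 4 n4580 = n6084 := rfl
theorem F10007 : act 0 n6084 = n4583 := d3_1 D6084 (iv D4583) (iv F7460)
theorem F10008 : act 1 n6084 = n5342 := d7_1 D6084 (iv D5342) (iv F7461)
theorem F10009 : act 3 n6084 = n4588 := d12_1 D6084 (iv D4588) (iv D3411) (iv F5526) D4580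
def n6085 : Q := act 4 n4581
theorem D6085 : act 4 n4581 = n6085 := rfl
theorem F10010 : act 0 n6085 = n4584 := d3_1 D6085 (iv D4584) (iv F7463)
theorem F10011 : act 1 n6085 = n5343 := d7_1 D6085 (iv D5343) (iv F7464)
theorem F10012 : act 5 n6085 = n4589 := d14_2 D4581 D6085 (iv D4589) (iv D3412) (iv F5526)
def n6086 : Q := act 3 n4582
theorem D6086 : act 3 n4582 = n6086 := rfl
theorem F10013 : act 1 n6086 = n5361 := d6_1 D6086 F8834 (iv F7466)
theorem F10014 : act 5 n6086 = n5357 := d13_2 (iv F7467) D6086 (iv D5357)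
def n6087 : Q := act 4 n4582
theorem D6087 : act 4 n4582 = n6087 := rfl
theorem F10015 : act 1 n6087 = n5364 := d7_1 D6087 (iv D5364) (iv F7466)
theorem F10016 : act 2 n6087 = n4583 := d10_1 D6087 (iv D4583) D4582
def n6088 : Q := act 5 n4583
theorem D6088 : act 5 n4583 = n6088 := rfl
theorem F10017 : act 1 n6088 = n4585 := d8_1 D6088 (iv D4585) (iv F7468)
theorem F10018 : act 3 n6088 = n4592 := d13_1 D6088 (iv D4592) (iv F7469)
theorem F10019 : act 4 n6088 = n5370 := d14_1 D6088 (iv D5370) (iv D4026) F5528 D4583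
def n6089 : Q := act 3 n4584
theorem D6089 : act 3 n4584 = n6089 := rfl
theorem F10020 : act 1 n6089 = n4586 := d6_1 D6089 (iv D4586) (iv F7470)
theorem F10021 : act 4 n6089 = n5369 := d12_2 D4584 D6089 (iv D5369) (iv D4026) (iv F5530)
theorem F10022 : act 5 n6089 = n4593 := d13_2 (iv F7471) D6089 (iv D4593)
def n6090 : Q := act 2 n4586
theorem D6090 : act 2 n4586 = n6090 := rfl
theorem F10023 : act 0 n6090 = n5348 := d1_1 D6090 (iv D5348) (iv F7476)
theorem F10024 : act 4 n6090 = n5371 := d10_2 (iv F7477) D6090 (iv D5371)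
theorem F10025 : act 5 n6090 = n4594 := d11_2 (iv F7478) D6090 (iv D4594)
def n6091 : Q := act 1 n4587
theorem D6091 : act 1 n4587 = n6091 := rfl
def n6092 : Q := act 3 n4587
theorem D6092 : act 3 n4587 = n6092 := rfl
theorem F10026 : act 0 n6092 = n4590 := d2_1 D6092 (iv D4590) (iv F7479)
def n6093 : Q := act 4 n4587
theorem D6093 : act 4 n4587 = n6093 := rfl
theorem F10027 : act 0 n6093 = n4591 := d3_1 D6093 (iv D4591) (iv F7479)
theorem F10028 : act 2 n6093 = n4588 := d10_1 D6093 (iv D4588) D4587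
def n6094 : Q := act 5 n4588
theorem D6094 : act 5 n4588 = n6094 := rfl
theorem F10029 : act 0 n6094 = n4592 := d4_1 D6094 (iv D4592) (iv F7480)
def n6095 : Q := act 3 n4589
theorem D6095 : act 3 n4589 = n6095 := rfl
theorem F10030 : act 0 n6095 = n4593 := d2_1 D6095 (iv D4593) (iv F7481)
def n6096 : Q := act 2 n4590
theorem D6096 : act 2 n4590 = n6096 := rfl
def n6097 : Q := act 4 n4590
theorem D6097 : act 4 n4590 = n6097 := rfl
def n6098 : Q := act 3 n4591
theorem D6098 : act 3 n4591 = n6098 := rfl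
def n6099 : Q := act 5 n4591
theorem D6099 : act 5 n4591 = n6099 := rfl
theorem F10031 : act 2 n6099 = n4592 := d11_1 D6099 (iv D4592) (iv F7482)
def n6100 : Q := act 2 n4593
theorem D6100 : act 2 n4593 = n6100 := rfl
def n6101 : Q := act 1 n4594
theorem D6101 : act 1 n4594 = n6101 := rfl
def n6102 : Q := act 3 n4594
theorem D6102 : act 3 n4594 = n6102 := rfl
theorem F10032 : act 2 n6102 = n4716 := d9_1 D6102 (iv D4716) F5685 F4163 (iv F4829) D4013 D5348 (iv F10004) (iv D6082) (iv D4579) F5524 F4045 (iv F4057) D3417 D4594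
def n6103 : Q := act 2 n4595
theorem D6103 : act 2 n4595 = n6103 := rfl
theorem F10033 : act 0 n6103 = n4596 := d1_1 D6103 (iv D4596) (iv F7485)
theorem F10034 : act 3 n6103 = n4621 := d9_2 D4595 D6103 (iv D4621) (iv D3436) (iv D2526) (iv D1842) (iv F2983) D2515 D3422 D4602 F7496 (iv D4538) F5450 (iv F4076) (iv F5541)
theorem F10035 : act 5 n6103 = n4599 := d11_2 (iv F7486) D6103 (iv D4599)
def n6104 : Q := act 4 n4595
theorem D6104 : act 4 n4595 = n6104 := rfl
theorem F10036 : act 0 n6104 = n4597 := d3_1 D6104 (iv D4597) (iv F7485)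
def n6105 : Q := act 3 n4596
theorem D6105 : act 3 n4596 = n6105 := rfl
theorem F10037 : act 0 n6105 = n4621 := d2_1 D6105 (iv F10034) F10033
theorem F10038 : act 2 n6105 = n4620 := d9_1 D6105 (iv D4620) (iv D3435) (iv D2524) (iv F4061) D3421 D4599 F7491 (iv D4539) (iv D3372) F4003 (iv F2995) (iv F4058) D3419 D4596
theorem F10039 : act 5 n6105 = n4602 := d13_2 (iv F7487) D6105 (iv D4602)
def n6106 : Q := act 4 n4596
theorem D6106 : act 4 n4596 = n6106 := rfl
theorem F10040 : act 2 n6106 = n4597 := d10_1 D6106 (iv D4597) D4596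
def n6107 : Q := act 5 n4597
theorem D6107 : act 5 n4597 = n6107 := rfl
theorem F10041 : act 1 n6107 = n4598 := d8_1 D6107 (iv D4598) (iv F7488)
theorem F10042 : act 4 n6107 = n4604 := d14_1 D6107 (iv D4604) (iv D3423) (iv F5544) D4597
def n6108 : Q := act 1 n4599
theorem D6108 : act 1 n4599 = n6108 := rfl
theorem F10043 : act 3 n6108 = n6032 := d6_2 (iv F7491) D6108 (iv D6032)
def n6109 : Q := act 4 n4599
theorem D6109 : act 4 n4599 = n6109 := rfl
theorem F10044 : act 0 n6109 = n4603 := d3_1 D6109 (iv D4603) (iv F7490)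
theorem F10045 : act 2 n6109 = n4600 := d10_1 D6109 (iv D4600) D4599
def n6110 : Q := act 5 n4600
theorem D6110 : act 5 n4600 = n6110 := rfl
theorem F10046 : act 0 n6110 = n4604 := d4_1 D6110 (iv D4604) (iv F7492)
theorem F10047 : act 3 n6110 = n4611 := d13_1 D6110 (iv D4611) (iv F7493)
def n6111 : Q := act 0 n4601
theorem D6111 : act 0 n4601 = n6111 := rfl
theorem F10048 : act 2 n6111 = n4605 := d1_2 (iv F7494) D6111 (iv D4605)
def n6112 : Q := act 3 n4601
theorem D6112 : act 3 n4601 = n6112 := rfl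
theorem F10049 : act 1 n6112 = n4602 := d6_1 D6112 (iv D4602) D4601
def n6113 : Q := act 4 n4601
theorem D6113 : act 4 n4601 = n6113 := rfl
theorem F10050 : act 1 n6113 = n4603 := d7_1 D6113 (iv D4603) D4601
theorem F10051 : act 2 n6113 = n4606 := d10_1 D6113 (iv D4606) (iv F7494)
def n6114 : Q := act 4 n4602
theorem D6114 : act 4 n4602 = n6114 := rfl
theorem F10052 : act 0 n6114 = n6033 := d3_1 D6114 (iv D6033) (iv F7495)
theorem F10053 : act 2 n6114 = n6031 := d10_1 D6114 (iv D6031) (iv F7496)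
def n6115 : Q := act 3 n4603
theorem D6115 : act 3 n4603 = n6115 := rfl
def n6116 : Q := act 5 n4603
theorem D6116 : act 5 n4603 = n6116 := rfl
theorem F10054 : act 2 n6116 = n4604 := d11_1 D6116 (iv D4604) (iv F7497)
def n6117 : Q := act 4 n4605
theorem D6117 : act 4 n4605 = n6117 := rfl
theorem F10055 : act 0 n6117 = n4606 := d3_1 D6117 (iv D4606) D4605
def n6118 : Q := act 3 n4606
theorem D6118 : act 3 n4606 = n6118 := rfl
theorem F10056 : act 1 n6118 = n4607 := d6_1 D6118 (iv D4607) (iv F7500)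
def n6119 : Q := act 5 n4606
theorem D6119 : act 5 n4606 = n6119 := rfl
theorem F10057 : act 1 n6119 = n4608 := d8_1 D6119 (iv D4608) (iv F7500)
def n6120 : Q := act 2 n4607
theorem D6120 : act 2 n4607 = n6120 := rfl
theorem F10058 : act 3 n6120 = n4690 := d15_3 (iv F5548) D4607 D6120 F7646 F5645 (iv F5506) (iv F7435) (iv D4565) F5499
theorem F10059 : act 5 n4689 = n6120 := d13_0 F10058 (iv D4690) D4689
def n6121 : Q := act 5 n4607
theorem D6121 : act 5 n4607 = n6121 := rfl
theorem F10060 : act 2 n6121 = n4689 := d11_1 D6121 F10059 (iv D6120)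
theorem F10061 : act 3 n6121 = n4608 := d13_1 D6121 (iv D4608) D4607
def n6122 : Q := act 4 n4609
theorem D6122 : act 4 n4609 = n6122 := rfl
theorem F10062 : act 0 n6122 = n5139 := d3_1 D6122 (iv D5139) (iv F7502)
theorem F10063 : act 1 n6122 = n4610 := d7_1 D6122 (iv D4610) D4609
theorem F10064 : act 2 n6122 = n5136 := d10_1 D6122 (iv D5136) (iv F7503)
def n6123 : Q := act 3 n4610
theorem D6123 : act 3 n4610 = n6123 := rfl
theorem F10065 : act 0 n6123 = n4613 := d2_1 D6123 (iv D4613) (iv F7506)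
theorem F10066 : act 4 n6123 = n4613 := d12_2 D4610 D6123 (iv D4613) (iv D3430) (iv F5551)
def n6124 : Q := act 5 n4610
theorem D6124 : act 5 n4610 = n6124 := rfl
theorem F10067 : act 0 n6124 = n4614 := d4_1 D6124 (iv D4614) (iv F7506)
theorem F10068 : act 2 n6124 = n4611 := d11_1 D6124 (iv D4611) (iv F7507)
def n6125 : Q := act 3 n4612
theorem D6125 : act 3 n4612 = n6125 := rfl
theorem F10069 : act 1 n6125 = n4613 := d6_1 D6125 (iv D4613) (iv F7509)
def n6126 : Q := act 5 n4612
theorem D6126 : act 5 n4612 = n6126 := rfl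
theorem F10070 : act 1 n6126 = n4614 := d8_1 D6126 (iv D4614) (iv F7509)
theorem F10071 : act 2 n6126 = n4616 := d11_1 D6126 (iv D4616) (iv F7510)
theorem F10072 : act 4 n6126 = n4709 := d14_1 D6126 (iv D4709) (iv D3501) (iv F5554) D4612
def n6127 : Q := act 2 n4613
theorem D6127 : act 2 n4613 = n6127 := rfl
def n6128 : Q := act 5 n4613
theorem D6128 : act 5 n4613 = n6128 := rfl
theorem F10073 : act 3 n6128 = n4614 := d13_1 D6128 (iv D4614) D4613
def n6129 : Q := act 2 n4615
theorem D6129 : act 2 n4615 = n6129 := rfl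
theorem F10074 : act 4 n6129 = n4645 := d10_2 (iv F7513) D6129 (iv D4645)
def n6130 : Q := act 5 n4615
theorem D6130 : act 5 n4615 = n6130 := rfl
theorem F10075 : act 1 n6130 = n4618 := d8_1 D6130 (iv D4618) (iv F7512)
theorem F10076 : act 3 n6130 = n4616 := d13_1 D6130 (iv D4616) D4615
theorem F10077 : act 4 n6130 = n5395 := d14_1 D6130 (iv D5395) F6621 (iv F5599) (iv F7513)
def n6131 : Q := act 1 n4617
theorem D6131 : act 1 n4617 = n6131 := rfl
theorem F10078 : act 4 n6131 = n4646 := d7_2 (iv F7517) D6131 (iv D4646)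
def n6132 : Q := act 3 n4617
theorem D6132 : act 3 n4617 = n6132 := rfl
theorem F10079 : act 0 n6132 = n4689 := d2_1 D6132 (iv D4689) (iv F7516)
theorem F10080 : act 4 n6132 = n4658 := d12_2 (iv F7517) D6132 (iv D4658) (iv D3463) (iv F5601)
def n6133 : Q := act 5 n4617
theorem D6133 : act 5 n4617 = n6133 := rfl
theorem F10081 : act 0 n6133 = n4690 := d4_1 D6133 (iv D4690) (iv F7516)
theorem F10082 : act 2 n6133 = n4618 := d11_1 D6133 (iv D4618) D4617
theorem F10083 : act 4 n6133 = n4657 := d14_1 D6133 (iv D4657) (iv D3462) (iv F5602) (iv F7517)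
def n6134 : Q := act 3 n4619
theorem D6134 : act 3 n4619 = n6134 := rfl
theorem F10084 : act 0 n6134 = n5992 := d2_1 D6134 (iv D5992) (iv F7521)
theorem F10085 : act 1 n6134 = n4620 := d6_1 D6134 (iv D4620) D4619
theorem F10086 : act 5 n6134 = n5994 := d13_2 (iv F7524) D6134 (iv D5994)
def n6135 : Q := act 4 n4620
theorem D6135 : act 4 n4620 = n6135 := rfl
theorem F10087 : act 0 n6135 = n4622 := d3_1 D6135 (iv D4622) (iv F7525)
theorem F10088 : act 3 n6135 = n6104 := d12_1 D6135 (iv D6104) (iv D4595) (iv F5564) D4620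
def n6136 : Q := act 1 n4621
theorem D6136 : act 1 n4621 = n6136 := rfl
theorem F10089 : act 2 n6136 = n5990 := d5_2 D4621 D6136 F9795 F7303 (iv F5566)
theorem F10090 : act 5 n6136 = n6032 := d8_2 (iv F7527) D6136 (iv D6032)
def n6137 : Q := act 4 n4621
theorem D6137 : act 4 n4621 = n6137 := rfl
theorem F10091 : act 2 n6137 = n4622 := d10_1 D6137 (iv D4622) D4621
def n6138 : Q := act 5 n4622
theorem D6138 : act 5 n4622 = n6138 := rfl
theorem F10092 : act 1 n6138 = n6030 := d8_1 D6138 (iv D6030) (iv F7528)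
theorem F10093 : act 3 n6138 = n6107 := d13_1 D6138 (iv D6107) (iv F7529)
theorem F10094 : act 4 n6138 = n6034 := d14_1 D6138 (iv D6034) (iv D4540) (iv F5567) D4622
def n6139 : Q := act 0 n4623
theorem D6139 : act 0 n4623 = n6139 := rfl
theorem F10095 : act 1 n6139 = n4631 := d0_2 D4623 D6139 (iv D4631) (iv D3441) (iv F5568)
theorem F10096 : act 2 n6139 = n4644 := d1_2 (iv F7530) D6139 (iv D4644)
theorem F10097 : act 3 n5448 = n6139 := d15_3 (iv F7182) D5853 (iv F9613) F10096 F7579 (iv F7181) (iv F9520) F9521 (iv D4404)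
theorem F10098 : act 5 n4735 = n6139 := d8_0 F10095 F7546 D4735
def n6140 : Q := act 3 n4623
theorem D6140 : act 3 n4623 = n6140 := rfl
theorem F10099 : act 0 n6140 = n5448 := d2_1 D6140 F10097 (iv D6139)
theorem F10100 : act 1 n6140 = n4624 := d6_1 D6140 (iv D4624) D4623
theorem F10101 : act 2 n6140 = n5189 := d15_4 F5322 (iv F5597) (iv F7530) D6140 F9609 F9607 (iv F8597) F8598 (iv D4398)
theorem F10102 : act 5 n5021 = n6140 := d8_0 F10100 (iv F7533) D5021
def n6141 : Q := act 5 n4623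
theorem D6141 : act 5 n4623 = n6141 := rfl
theorem F10103 : act 0 n6141 = n4735 := d4_1 D6141 F10098 (iv D6139)
theorem F10104 : act 1 n6141 = n4625 := d8_1 D6141 (iv D4625) D4623
theorem F10105 : act 2 n6141 = n4643 := d11_1 D6141 F7577 (iv F7530)
theorem F10106 : act 3 n6141 = n5021 := d13_1 D6141 F10102 (iv D6140)
def n6142 : Q := act 4 n4624
theorem D6142 : act 4 n4624 = n6142 := rfl
theorem F10107 : act 0 n6142 = n4634 := d3_1 D6142 (iv D4634) (iv F7531)
theorem F10108 : act 2 n6142 = n5024 := d10_1 D6142 (iv D5024) (iv F7532)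
def n6143 : Q := act 4 n4625
theorem D6143 : act 4 n4625 = n6143 := rfl
theorem F10109 : act 0 n6143 = n4636 := d3_1 D6143 (iv D4636) (iv F7534)
theorem F10110 : act 2 n6143 = n4626 := d10_1 D6143 (iv D4626) (iv F7535)
def n6144 : Q := act 0 n4627
theorem D6144 : act 0 n4627 = n6144 := rfl
theorem F10111 : act 2 n6144 = n4637 := d1_2 (iv F7540) D6144 (iv D4637)
theorem F10112 : act 4 n6144 = n4631 := d3_2 (iv F7541) D6144 (iv D4631)
def n6145 : Q := act 3 n4627
theorem D6145 : act 3 n4627 = n6145 := rfl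
theorem F10113 : act 1 n6145 = n4628 := d6_1 D6145 (iv D4628) D4627
def n6146 : Q := act 5 n4627
theorem D6146 : act 5 n4627 = n6146 := rfl
theorem F10114 : act 1 n6146 = n4629 := d8_1 D6146 (iv D4629) D4627
theorem F10115 : act 2 n6146 = n4639 := d11_1 D6146 (iv D4639) (iv F7540)
theorem F10116 : act 4 n6146 = n4743 := d14_1 D6146 (iv D4743) (iv D3523) F5576 (iv F7541)
def n6147 : Q := act 2 n4628
theorem D6147 : act 2 n4628 = n6147 := rfl
theorem F10117 : act 3 n6147 = n4629 := d15_3 D3439 D4628 D6147 F7542 F5574 (iv F5430) (iv F7340) (iv D4520) F5425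
theorem F10118 : act 5 n4628 = n6147 := d13_0 F10117 (iv D4629) D4628
def n6148 : Q := act 4 n4628
theorem D6148 : act 4 n4628 = n6148 := rfl
theorem F10119 : act 3 n6148 = n4634 := d12_1 D6148 (iv D4634) (iv D3442) (iv F5572) D4628
def n6149 : Q := act 4 n4629
theorem D6149 : act 4 n4629 = n6149 := rfl
theorem F10120 : act 1 n6149 = n4743 := d7_1 D6149 (iv F10116) F10114
theorem F10121 : act 2 n6149 = n4630 := d10_1 D6149 (iv D4630) (iv F7542)
theorem F10122 : act 5 n6149 = n4636 := d14_2 D4629 D6149 (iv D4636) (iv D3443) (iv F5572)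
def n6150 : Q := act 4 n4632
theorem D6150 : act 4 n4632 = n6150 := rfl
theorem F10123 : act 0 n6150 = n5449 := d3_1 D6150 (iv D5449) (iv F7548)
theorem F10124 : act 1 n6150 = n4634 := d7_1 D6150 (iv D4634) (iv F7549)
theorem F10125 : act 2 n6150 = n5446 := d10_1 D6150 (iv D5446) (iv F7551)
def n6151 : Q := act 1 n4633
theorem D6151 : act 1 n4633 = n6151 := rfl
theorem F10126 : act 0 n6151 = n5183 := d0_1 D6151 F8501 F6333 (iv F6121) (iv F7552)
theorem F10127 : act 2 n6151 = n5444 := d5_2 D4633 D6151 F8987 (iv F7551) F7549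
theorem F10128 : act 3 n6151 = n5011 := d6_2 (iv F7553) D6151 F8178
theorem F10129 : act 5 n6151 = n5010 := d8_2 F7554 D6151 F8176
def n6152 : Q := act 4 n4633
theorem D6152 : act 4 n4633 = n6152 := rfl
theorem F10130 : act 0 n6152 = n5024 := d3_1 D6152 (iv D5024) (iv F7552)
theorem F10131 : act 2 n6152 = n4634 := d10_1 D6152 (iv D4634) D4633
def n6153 : Q := act 5 n4634
theorem D6153 : act 5 n4634 = n6153 := rfl
def n6154 : Q := act 4 n4635
theorem D6154 : act 4 n4635 = n6154 := rfl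
theorem F10132 : act 0 n6154 = n5022 := d3_1 D6154 (iv D5022) (iv F7555)
theorem F10133 : act 1 n6154 = n4741 := d7_1 D6154 (iv D4741) (iv F7556)
theorem F10134 : act 2 n6154 = n5012 := d10_1 D6154 (iv D5012) (iv F7557)
def n6155 : Q := act 3 n4636
theorem D6155 : act 3 n4636 = n6155 := rfl
theorem F10135 : act 1 n6155 = n4742 := d6_1 D6155 (iv D4742) (iv F7559)
def n6156 : Q := act 3 n4637
theorem D6156 : act 3 n4637 = n6156 := rfl
theorem F10136 : act 0 n6156 = n4638 := d2_1 D6156 (iv D4638) D4637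
theorem F10137 : act 1 n6156 = n4668 := d6_1 D6156 (iv D4668) (iv F7561)
theorem F10138 : act 4 n6156 = n4739 := d12_2 (iv F7562) D6156 (iv D4739) (iv D3521) (iv F5590)
def n6157 : Q := act 5 n4637
theorem D6157 : act 5 n4637 = n6157 := rfl
theorem F10139 : act 0 n6157 = n4639 := d4_1 D6157 (iv D4639) D4637
theorem F10140 : act 1 n6157 = n4669 := d8_1 D6157 (iv D4669) (iv F7561)
theorem F10141 : act 4 n6157 = n4738 := d14_1 D6157 (iv D4738) (iv D3520) (iv F5591) (iv F7562)
def n6158 : Q := act 2 n4638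
theorem D6158 : act 2 n4638 = n6158 := rfl
theorem F10142 : act 4 n6158 = n4744 := d10_2 (iv F7564) D6158 (iv D4744)
def n6159 : Q := act 5 n4638
theorem D6159 : act 5 n4638 = n6159 := rfl
theorem F10143 : act 1 n6159 = n4641 := d8_1 D6159 (iv D4641) (iv F7563)
theorem F10144 : act 3 n6159 = n4639 := d13_1 D6159 (iv D4639) D4638
def n6160 : Q := act 1 n4640
theorem D6160 : act 1 n4640 = n6160 := rfl
theorem F10145 : act 3 n6160 = n4665 := d6_2 (iv F7568) D6160 F7606
theorem F10146 : act 4 n6160 = n4745 := d7_2 (iv F7569) D6160 (iv D4745)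
theorem F10147 : act 5 n6160 = n4664 := d8_2 F7570 D6160 F7605
def n6161 : Q := act 4 n4641
theorem D6161 : act 4 n4641 = n6161 := rfl
theorem F10148 : act 0 n6161 = n4677 := d3_1 D6161 (iv D4677) (iv F7571)
theorem F10149 : act 2 n6161 = n4666 := d10_1 D6161 (iv D4666) (iv F7572)
theorem F10150 : act 3 n6161 = n4732 := d12_1 D6161 (iv D4732) F5697 (iv F5585) (iv F7573)
theorem F10151 : act 5 n6161 = n4733 := d14_2 D4641 D6161 F7707 F5698 (iv F5582)
def n6162 : Q := act 1 n4642
theorem D6162 : act 1 n4642 = n6162 := rfl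
theorem F10152 : act 4 n6162 = n4643 := d7_2 (iv F7575) D6162 (iv D4643)
def n6163 : Q := act 3 n4642
theorem D6163 : act 3 n4642 = n6163 := rfl
theorem F10153 : act 0 n6163 = n4658 := d2_1 D6163 (iv D4658) (iv F7574)
theorem F10154 : act 4 n6163 = n4689 := d12_2 (iv F7575) D6163 (iv D4689) (iv D3485) (iv F5595)
def n6164 : Q := act 0 n4643
theorem D6164 : act 0 n4643 = n6164 := rfl
theorem F10155 : act 1 n6164 = n4653 := d0_2 D4643 D6164 F7594 F5611 (iv F5594)
theorem F10156 : act 2 n6164 = n4735 := d1_2 F10105 D6164 (iv F10103)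
theorem F10157 : act 3 n6164 = n4687 := d2_2 (iv F7576) D6164 (iv D4687)
theorem F10158 : act 5 n6164 = n4644 := d4_2 (iv F7577) D6164 (iv D4644)
def n6165 : Q := act 1 n4645
theorem D6165 : act 1 n4645 = n6165 := rfl
theorem F10159 : act 2 n6165 = n4646 := d5_2 D4645 D6165 (iv D4646) (iv D3454) (iv F5598)
theorem F10160 : act 5 n6165 = n4654 := d8_2 (iv F7580) D6165 F7596
def n6166 : Q := act 3 n4645
theorem D6166 : act 3 n4645 = n6166 := rfl
theorem F10161 : act 2 n6166 = n5517 := d9_1 D6166 (iv D5517) (iv D4141) (iv D3070) (iv F3887) D3264 D4388 D5838 F9591 (iv D5037) (iv D3767) (iv D2787) (iv F4104) D3453 D4645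
theorem F10162 : act 5 n6166 = n5494 := d13_2 (iv F7580) D6166 (iv D5494)
def n6167 : Q := act 0 n4646
theorem D6167 : act 0 n4646 = n6167 := rfl
theorem F10163 : act 1 n6167 = n4687 := d0_2 D4646 D6167 (iv D4687) (iv D3484) (iv F5600)
theorem F10164 : act 3 n6167 = n4653 := d2_2 (iv F7581) D6167 F7594
theorem F10165 : act 5 n6167 = n4652 := d4_2 (iv F7582) D6167 F7592
def n6168 : Q := act 3 n4647
theorem D6168 : act 3 n4647 = n6168 := rfl
theorem F10166 : act 0 n6168 = n4648 := d2_1 D6168 (iv D4648) D4647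
def n6169 : Q := act 5 n4647
theorem D6169 : act 5 n4647 = n6169 := rfl
theorem F10167 : act 0 n6169 = n4649 := d4_1 D6169 (iv D4649) D4647
theorem F10168 : act 2 n6169 = n4669 := d11_1 D6169 (iv D4669) (iv F7583)
def n6170 : Q := act 2 n4648
theorem D6170 : act 2 n4648 = n6170 := rfl
def n6171 : Q := act 4 n4648
theorem D6171 : act 4 n4648 = n6171 := rfl
theorem F10169 : act 1 n6171 = n4650 := d7_1 D6171 (iv D4650) (iv F7585)
theorem F10170 : act 3 n6171 = n4655 := d12_1 D6171 (iv D4655) (iv D3460) (iv F5604) D4648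
def n6172 : Q := act 4 n4649
theorem D6172 : act 4 n4649 = n6172 := rfl
theorem F10171 : act 1 n6172 = n4651 := d7_1 D6172 (iv D4651) (iv F7586)
theorem F10172 : act 2 n6172 = n4673 := d10_1 D6172 (iv D4673) (iv F7587)
theorem F10173 : act 5 n6172 = n4656 := d14_2 D4649 D6172 (iv D4656) (iv D3461) (iv F5604)
def n6173 : Q := act 5 n4650
theorem D6173 : act 5 n4650 = n6173 := rfl
theorem F10174 : act 0 n6173 = n5371 := d4_1 D6173 (iv F8848) (iv F7588)
theorem F10175 : act 2 n6173 = n5326 := d11_1 D6173 (iv F9879) F9877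
theorem F10176 : act 3 n6173 = n4657 := d13_1 D6173 (iv D4657) (iv F7589)
theorem F10177 : act 4 n6173 = n5348 := d14_1 D6173 F9875 (iv D6024) (iv F7353) D4650
def n6174 : Q := act 3 n4651
theorem D6174 : act 3 n4651 = n6174 := rfl
theorem F10178 : act 5 n6174 = n4658 := d13_2 (iv F7591) D6174 (iv D4658)
theorem F10179 : act 2 n6174 = n4730 := d15_2 (iv F7590) D6174 (iv D4730) F5696 F4169 (iv F4099) D3450 (iv F7348) F7346
def n6175 : Q := act 2 n4652
theorem D6175 : act 2 n4652 = n6175 := rfl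
theorem F10180 : act 0 n6175 = n4654 := d1_1 D6175 (iv D4654) (iv F7592)
theorem F10181 : act 3 n6175 = n4692 := d15_1 D6175 (iv D4692) (iv D3488) F4135 (iv F4127) (iv F5612) (iv F7581) F7582 (iv F7592)
def n6176 : Q := act 4 n4652
theorem D6176 : act 4 n4652 = n6176 := rfl
theorem F10182 : act 0 n6176 = n4655 := d3_1 D6176 (iv D4655) (iv F7592)
theorem F10183 : act 1 n6176 = n5515 := d7_1 D6176 F9085 (iv F7593)
def n6177 : Q := act 4 n4653
theorem D6177 : act 4 n4653 = n6177 := rfl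
theorem F10184 : act 0 n6177 = n4656 := d3_1 D6177 (iv D4656) (iv F7594)
theorem F10185 : act 2 n6177 = n4681 := d10_1 D6177 (iv D4681) (iv F7595)
def n6178 : Q := act 3 n4654
theorem D6178 : act 3 n4654 = n6178 := rfl
theorem F10186 : act 0 n6178 = n4692 := d2_1 D6178 (iv F10181) F10180
theorem F10187 : act 1 n6178 = n5494 := d6_1 D6178 (iv D5494) (iv F7596)
theorem F10188 : act 2 n6178 = n4691 := d15_2 D4654 D6178 (iv D4691) F5648 (iv F5633) (iv F7595) (iv F10164) F10165 F7592
def n6179 : Q := act 4 n4654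
theorem D6179 : act 4 n4654 = n6179 := rfl
theorem F10189 : act 1 n6179 = n5394 := d7_1 D6179 F8890 (iv F7596)
theorem F10190 : act 2 n6179 = n4655 := d10_1 D6179 (iv D4655) D4654
def n6180 : Q := act 5 n4655
theorem D6180 : act 5 n4655 = n6180 := rfl
theorem F10191 : act 1 n6180 = n4657 := d8_1 D6180 (iv D4657) (iv F7597)
def n6181 : Q := act 3 n4656
theorem D6181 : act 3 n4656 = n6181 := rfl
theorem F10192 : act 1 n6181 = n4658 := d6_1 D6181 (iv D4658) (iv F7598)
def n6182 : Q := act 2 n4658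
theorem D6182 : act 2 n4658 = n6182 := rfl
theorem F10193 : act 5 n6182 = n4730 := d11_2 F10178 D6182 (iv F10179)
theorem F10194 : act 3 n6182 = n4731 := d15_3 (iv F5615) D4658 D6182 F7705 F5697 (iv F5587) (iv F7347) F7348 F5592
def n6183 : Q := act 0 n4659
theorem D6183 : act 0 n4659 = n6183 := rfl
theorem F10195 : act 2 n6183 = n4663 := d1_2 (iv F7602) D6183 (iv D4663)
def n6184 : Q := act 3 n4659
theorem D6184 : act 3 n4659 = n6184 := rfl
theorem F10196 : act 1 n6184 = n4660 := d6_1 D6184 (iv D4660) D4659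
def n6185 : Q := act 5 n4659
theorem D6185 : act 5 n4659 = n6185 := rfl
theorem F10197 : act 1 n6185 = n4661 := d8_1 D6185 (iv D4661) D4659
theorem F10198 : act 2 n6185 = n4665 := d11_1 D6185 (iv D4665) (iv F7602)
def n6186 : Q := act 2 n4660
theorem D6186 : act 2 n4660 = n6186 := rfl
theorem F10199 : act 3 n6186 = n4661 := d15_3 D3464 D4660 D6186 F7603 F5617 (iv F5389) (iv F7275) (iv D4491) F5384
theorem F10200 : act 5 n4660 = n6186 := d13_0 F10199 (iv D4661) D4660
def n6187 : Q := act 4 n4660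
theorem D6187 : act 4 n4660 = n6187 := rfl
def n6188 : Q := act 4 n4661
theorem D6188 : act 4 n4661 = n6188 := rfl
theorem F10201 : act 2 n6188 = n4662 := d10_1 D6188 (iv D4662) (iv F7603)
def n6189 : Q := act 3 n4663
theorem D6189 : act 3 n4663 = n6189 := rfl
theorem F10202 : act 0 n6189 = n4664 := d2_1 D6189 (iv D4664) D4663
def n6190 : Q := act 5 n4663
theorem D6190 : act 5 n4663 = n6190 := rfl
theorem F10203 : act 0 n6190 = n4665 := d4_1 D6190 (iv D4665) D4663
def n6191 : Q := act 2 n4664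
theorem D6191 : act 2 n4664 = n6191 := rfl
def n6192 : Q := act 4 n4664
theorem D6192 : act 4 n4664 = n6192 := rfl
theorem F10204 : act 1 n6192 = n4666 := d7_1 D6192 (iv D4666) (iv F7605)
def n6193 : Q := act 4 n4665
theorem D6193 : act 4 n4665 = n6193 := rfl
theorem F10205 : act 1 n6193 = n4667 := d7_1 D6193 (iv D4667) (iv F7606)
def n6194 : Q := act 5 n4666
theorem D6194 : act 5 n4666 = n6194 := rfl
theorem F10206 : act 0 n6194 = n5399 := d4_1 D6194 (iv F9825) F9822
theorem F10207 : act 2 n6194 = n4733 := d11_1 D6194 (iv F10151) F10149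
theorem F10208 : act 3 n6194 = n5512 := d13_1 D6194 (iv F9800) F9799
theorem F10209 : act 4 n6194 = n4734 := d14_1 D6194 F7710 (iv F7569) (iv F7570) D4666
def n6195 : Q := act 3 n4667
theorem D6195 : act 3 n4667 = n6195 := rfl
theorem F10210 : act 0 n6195 = n5374 := d2_1 D6195 (iv F9828) F9826
theorem F10211 : act 2 n6195 = n5329 := d9_1 D6195 (iv D5329) F6551 (iv F5448) F5447 (iv F5424) (iv F7335) D6008 F9843 (iv D5373) (iv F7473) F7474 (iv F7288) F7289 (iv F7607)
theorem F10212 : act 4 n6195 = n4746 := d12_2 D4667 D6195 (iv D4746) (iv F7569) F7568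
theorem F10213 : act 5 n6195 = n5513 := d13_2 F9789 D6195 (iv F9790)
def n6196 : Q := act 2 n4668
theorem D6196 : act 2 n4668 = n6196 := rfl
theorem F10214 : act 0 n6196 = n4670 := d1_1 D6196 (iv D4670) (iv F7608)
def n6197 : Q := act 4 n4668
theorem D6197 : act 4 n4668 = n6197 := rfl
theorem F10215 : act 0 n6197 = n4671 := d3_1 D6197 (iv D4671) (iv F7608)
theorem F10216 : act 1 n6197 = n4739 := d7_1 D6197 (iv F10138) F10137
theorem F10217 : act 3 n6197 = n4680 := d12_1 D6197 (iv D4680) (iv D3477) (iv F5619) D4668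
def n6198 : Q := act 5 n4668
theorem D6198 : act 5 n4668 = n6198 := rfl
theorem F10218 : act 0 n6198 = n4672 := d4_1 D6198 (iv D4672) (iv F7608)
theorem F10219 : act 3 n6198 = n4669 := d13_1 D6198 (iv D4669) D4668
def n6199 : Q := act 4 n4669
theorem D6199 : act 4 n4669 = n6199 := rfl
theorem F10220 : act 0 n6199 = n4673 := d3_1 D6199 (iv D4673) (iv F7609)
theorem F10221 : act 1 n6199 = n4738 := d7_1 D6199 (iv F10141) F10140
theorem F10222 : act 5 n6199 = n4681 := d14_2 D4669 D6199 (iv D4681) (iv D3478) (iv F5619)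
def n6200 : Q := act 1 n4670
theorem D6200 : act 1 n4670 = n6200 := rfl
theorem F10223 : act 2 n6200 = n4674 := d5_2 D4670 D6200 (iv D4674) (iv D3473) (iv F5620)
def n6201 : Q := act 3 n4670
theorem D6201 : act 3 n4670 = n6201 := rfl
def n6202 : Q := act 4 n4670
theorem D6202 : act 4 n4670 = n6202 := rfl
theorem F10224 : act 2 n6202 = n4671 := d10_1 D6202 (iv D4671) D4670
def n6203 : Q := act 5 n4670
theorem D6203 : act 5 n4670 = n6203 := rfl
theorem F10225 : act 2 n6203 = n4672 := d11_1 D6203 (iv D4672) D4670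
def n6204 : Q := act 5 n4671
theorem D6204 : act 5 n4671 = n6204 := rfl
theorem F10226 : act 1 n6204 = n4676 := d8_1 D6204 (iv D4676) (iv F7610)
theorem F10227 : act 3 n6204 = n4684 := d13_1 D6204 (iv D4684) (iv F7611)
def n6205 : Q := act 4 n4672
theorem D6205 : act 4 n4672 = n6205 := rfl
theorem F10228 : act 1 n6205 = n4677 := d7_1 D6205 (iv D4677) (iv F7612)
def n6206 : Q := act 3 n4673
theorem D6206 : act 3 n4673 = n6206 := rfl
theorem F10229 : act 1 n6206 = n4678 := d6_1 D6206 (iv D4678) (iv F7614)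
theorem F10230 : act 5 n6206 = n4685 := d13_2 (iv F7615) D6206 (iv D4685)
def n6207 : Q := act 0 n4674
theorem D6207 : act 0 n4674 = n6207 := rfl
def n6208 : Q := act 4 n4674
theorem D6208 : act 4 n4674 = n6208 := rfl
theorem F10231 : act 1 n6208 = n4675 := d7_1 D6208 (iv D4675) D4674
theorem F10232 : act 3 n5375 = n6208 := d6_0 F10231 (iv F7618) D5375
theorem F10233 : act 5 n5398 = n6208 := d8_0 F10231 F7619 (iv F8894)
def n6209 : Q := act 4 n4676
theorem D6209 : act 4 n4676 = n6209 := rfl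
theorem F10234 : act 0 n6209 = n4733 := d3_1 D6209 F7707 (iv F7620)
theorem F10235 : act 2 n6209 = n5399 := d10_1 D6209 (iv D5399) (iv F7621)
theorem F10236 : act 3 n6209 = n4704 := d12_1 D6209 (iv D4704) F5673 (iv F5640) (iv F7622)
theorem F10237 : act 5 n6209 = n4677 := d14_2 D4676 D6209 (iv D4677) (iv D3475) D3474
def n6210 : Q := act 3 n4677
theorem D6210 : act 3 n4677 = n6210 := rfl
theorem F10238 : act 0 n6210 = n4732 := d2_1 D6210 (iv F10150) F10148
theorem F10239 : act 2 n6210 = n4715 := d9_1 D6210 (iv F9943) F9942 (iv F9894) F9893 (iv F10208) F10207 (iv D4733) (iv F7449) F7450 (iv F7425) (iv F9805) F9804 (iv F9824) F9823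
theorem F10240 : act 4 n6210 = n4678 := d12_2 D4677 D6210 (iv D4678) (iv D3476) (iv F5624)
theorem F10241 : act 5 n6210 = n4704 := d13_2 F10237 D6210 (iv F10236)
def n6211 : Q := act 2 n4678
theorem D6211 : act 2 n4678 = n6211 := rfl
theorem F10242 : act 0 n6211 = n4731 := d1_1 D6211 F7705 (iv F7623)
theorem F10243 : act 4 n6211 = n4715 := d10_2 F10240 D6211 (iv F10239)
theorem F10244 : act 5 n6211 = n4686 := d11_2 (iv F7624) D6211 (iv D4686)
def n6212 : Q := act 3 n4679
theorem D6212 : act 3 n4679 = n6212 := rfl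
theorem F10245 : act 0 n6212 = n4682 := d2_1 D6212 (iv D4682) (iv F7625)
theorem F10246 : act 1 n6212 = n5121 := d6_1 D6212 F8396 (iv F7626)
theorem F10247 : act 5 n6212 = n4691 := d13_2 (iv F7627) D6212 (iv D4691)
def n6213 : Q := act 4 n4679
theorem D6213 : act 4 n4679 = n6213 := rfl
theorem F10248 : act 0 n6213 = n4683 := d3_1 D6213 (iv D4683) (iv F7625)
theorem F10249 : act 1 n6213 = n5280 := d7_1 D6213 F8680 (iv F7626)
theorem F10250 : act 2 n6213 = n4680 := d10_1 D6213 (iv D4680) D4679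
theorem F10251 : act 5 n6213 = n5914 := d14_2 (iv F7627) D6213 (iv D5914) (iv D4445) (iv F5649)
def n6214 : Q := act 5 n4680
theorem D6214 : act 5 n4680 = n6214 := rfl
theorem F10252 : act 0 n6214 = n4684 := d4_1 D6214 (iv D4684) (iv F7628)
theorem F10253 : act 1 n6214 = n4720 := d8_1 D6214 F7693 (iv F7629)
theorem F10254 : act 2 n6214 = n5914 := d11_1 D6214 (iv F10251) F10250
theorem F10255 : act 4 n6214 = n4700 := d14_1 D6214 (iv D4700) F5664 F5630 D4680
def n6215 : Q := act 3 n4681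
theorem D6215 : act 3 n4681 = n6215 := rfl
theorem F10256 : act 0 n6215 = n4685 := d2_1 D6215 (iv D4685) (iv F7630)
theorem F10257 : act 1 n6215 = n4718 := d6_1 D6215 F7688 (iv F7631)
theorem F10258 : act 4 n6215 = n4699 := d12_2 D4681 D6215 (iv D4699) F5664 (iv F5633)
def n6216 : Q := act 2 n4682
theorem D6216 : act 2 n4682 = n6216 := rfl
theorem F10259 : act 1 n6216 = n4783 := d5_1 D6216 (iv D4783) F5758 (iv F5657) (iv F7632)
theorem F10260 : act 5 n6216 = n4692 := d11_2 (iv F7633) D6216 (iv D4692)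
def n6217 : Q := act 4 n4682
theorem D6217 : act 4 n4682 = n6217 := rfl
theorem F10261 : act 1 n6217 = n4697 := d7_1 D6217 (iv D4697) (iv F7632)
def n6218 : Q := act 3 n4683
theorem D6218 : act 3 n4683 = n6218 := rfl
theorem F10262 : act 1 n6218 = n4698 := d6_1 D6218 (iv D4698) (iv F7634)
theorem F10263 : act 5 n6218 = n5918 := d13_2 (iv F7636) D6218 (iv D5918)
def n6219 : Q := act 2 n4685
theorem D6219 : act 2 n4685 = n6219 := rfl
theorem F10264 : act 4 n6219 = n4701 := d10_2 (iv F7641) D6219 (iv D4701)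
def n6220 : Q := act 1 n4686
theorem D6220 : act 1 n4686 = n6220 := rfl
theorem F10265 : act 4 n6220 = n4703 := d7_2 (iv F7643) D6220 (iv D4703)
def n6221 : Q := act 3 n4686
theorem D6221 : act 3 n4686 = n6221 := rfl
theorem F10266 : act 0 n6221 = n4730 := d2_1 D6221 (iv D4730) (iv F7642)
theorem F10267 : act 4 n6221 = n4716 := d12_2 (iv F7643) D6221 (iv D4716) (iv D3507) (iv F5669)
def n6222 : Q := act 4 n4687
theorem D6222 : act 4 n4687 = n6222 := rfl
theorem F10268 : act 0 n6222 = n4688 := d3_1 D6222 (iv D4688) D4687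
def n6223 : Q := act 3 n4688
theorem D6223 : act 3 n4688 = n6223 := rfl
theorem F10269 : act 1 n6223 = n4689 := d6_1 D6223 (iv D4689) (iv F7645)
def n6224 : Q := act 5 n4688
theorem D6224 : act 5 n4688 = n6224 := rfl
theorem F10270 : act 1 n6224 = n4690 := d8_1 D6224 (iv D4690) (iv F7645)
theorem F10271 : act 4 n6224 = n5514 := d14_1 D6224 F9084 F6761 (iv F5643) D4688
def n6225 : Q := act 4 n4691
theorem D6225 : act 4 n4691 = n6225 := rfl
theorem F10272 : act 0 n6225 = n4693 := d3_1 D6225 (iv D4693) (iv F7648)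
theorem F10273 : act 1 n6225 = n5284 := d7_1 D6225 (iv D5284) (iv F7649)
theorem F10274 : act 3 n6225 = n5913 := d12_1 D6225 (iv D5913) (iv D4444) (iv F5649) D4691
def n6226 : Q := act 1 n4692
theorem D6226 : act 1 n4692 = n6226 := rfl
theorem F10275 : act 2 n6226 = n4694 := d5_2 D4692 D6226 (iv D4694) (iv D3489) (iv F5650)
theorem F10276 : act 5 n6226 = n4783 := d8_2 F10260 D6226 (iv F10259)
def n6227 : Q := act 4 n4692
theorem D6227 : act 4 n4692 = n6227 := rfl
theorem F10277 : act 2 n6227 = n4693 := d10_1 D6227 (iv D4693) D4692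
def n6228 : Q := act 5 n4693
theorem D6228 : act 5 n4693 = n6228 := rfl
theorem F10278 : act 1 n6228 = n4696 := d8_1 D6228 (iv D4696) (iv F7650)
theorem F10279 : act 3 n6228 = n5917 := d13_1 D6228 (iv D5917) (iv F7651)
def n6229 : Q := act 0 n4694
theorem D6229 : act 0 n4694 = n6229 := rfl
theorem F10280 : act 1 n6229 = n5083 := d0_2 D4694 D6229 F8321 F6203 (iv F5651)
theorem F10281 : act 3 n6229 = n4781 := d2_2 (iv F7652) D6229 (iv D4781)
theorem F10282 : act 5 n6229 = n4782 := d4_2 (iv F7653) D6229 F7785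
def n6230 : Q := act 4 n4694
theorem D6230 : act 4 n4694 = n6230 := rfl
theorem F10283 : act 1 n6230 = n4695 := d7_1 D6230 (iv D4695) D4694
def n6231 : Q := act 3 n4695
theorem D6231 : act 3 n4695 = n6231 := rfl
theorem F10284 : act 0 n6231 = n5126 := d2_1 D6231 (iv D5126) (iv F7654)
theorem F10285 : act 4 n6231 = n4780 := d12_2 D4695 D6231 (iv D4780) F5753 (iv F5652)
def n6232 : Q := act 5 n4695
theorem D6232 : act 5 n4695 = n6232 := rfl
theorem F10286 : act 0 n6232 = n5125 := d4_1 D6232 F8403 (iv F7654)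
theorem F10287 : act 2 n6232 = n4696 := d11_1 D6232 (iv D4696) (iv F7655)
theorem F10288 : act 4 n6232 = n4785 := d14_1 D6232 (iv D4785) (iv D3558) F5653 D4695
def n6233 : Q := act 4 n4696
theorem D6233 : act 4 n4696 = n6233 := rfl
theorem F10289 : act 0 n6233 = n5124 := d3_1 D6233 F8401 (iv F7656)
theorem F10290 : act 2 n6233 = n4785 := d10_1 D6233 (iv F10288) F10287
theorem F10291 : act 5 n6233 = n4697 := d14_2 D4696 D6233 (iv D4697) (iv D3491) D3490
def n6234 : Q := act 3 n4697
theorem D6234 : act 3 n4697 = n6234 := rfl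
theorem F10292 : act 0 n6234 = n5123 := d2_1 D6234 (iv D5123) (iv F7658)
theorem F10293 : act 4 n6234 = n4698 := d12_2 D4697 D6234 (iv D4698) (iv D3492) (iv F5658)
def n6235 : Q := act 2 n4698
theorem D6235 : act 2 n4698 = n6235 := rfl
theorem F10294 : act 0 n6235 = n5282 := d1_1 D6235 (iv D5282) (iv F7660)
theorem F10295 : act 3 n6235 = n5267 := d9_2 D4698 D6235 (iv D5267) (iv D3947) F4724 F3440 (iv F3931) D3319 D4468 (iv F8628) (iv D5251) (iv D3937) F4709 (iv F4142) (iv F5660)
theorem F10296 : act 5 n6235 = n5279 := d11_2 (iv F7661) D6235 F8678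
def n6236 : Q := act 2 n4699
theorem D6236 : act 2 n4699 = n6236 := rfl
theorem F10297 : act 0 n6236 = n4701 := d1_1 D6236 (iv D4701) (iv F7662)
def n6237 : Q := act 5 n4699
theorem D6237 : act 5 n4699 = n6237 := rfl
theorem F10298 : act 0 n6237 = n4702 := d4_1 D6237 (iv D4702) (iv F7662)
theorem F10299 : act 1 n6237 = n4719 := d8_1 D6237 (iv D4719) (iv F7663)
theorem F10300 : act 3 n6237 = n4700 := d13_1 D6237 (iv D4700) D4699
def n6238 : Q := act 1 n4701
theorem D6238 : act 1 n4701 = n6238 := rfl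
theorem F10301 : act 2 n6238 = n4703 := d5_2 D4701 D6238 (iv D4703) (iv D3496) (iv F5665)
theorem F10302 : act 5 n4712 = n6238 := d11_0 F10301 F7670 D4712
def n6239 : Q := act 3 n4701
theorem D6239 : act 3 n4701 = n6239 := rfl
def n6240 : Q := act 5 n4701
theorem D6240 : act 5 n4701 = n6240 := rfl
theorem F10303 : act 1 n6240 = n4712 := d8_1 D6240 F10302 (iv D6238)
theorem F10304 : act 2 n6240 = n4702 := d11_1 D6240 (iv D4702) D4701
def n6241 : Q := act 4 n4702
theorem D6241 : act 4 n4702 = n6241 := rfl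
theorem F10305 : act 1 n6241 = n4704 := d7_1 D6241 (iv D4704) (iv F7667)
def n6242 : Q := act 0 n4703
theorem D6242 : act 0 n4703 = n6242 := rfl
theorem F10306 : act 1 n6242 = n4728 := d0_2 D4703 D6242 (iv D4728) (iv D3514) (iv F5668)
theorem F10307 : act 3 n6242 = n4711 := d2_2 (iv F7669) D6242 F7680
theorem F10308 : act 5 n6242 = n4710 := d4_2 (iv F7670) D6242 F7679
def n6243 : Q := act 3 n4705
theorem D6243 : act 3 n4705 = n6243 := rfl
theorem F10309 : act 0 n6243 = n4708 := d2_1 D6243 (iv D4708) (iv F7673)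
def n6244 : Q := act 5 n4705
theorem D6244 : act 5 n4705 = n6244 := rfl
theorem F10310 : act 0 n6244 = n4709 := d4_1 D6244 (iv D4709) (iv F7673)
theorem F10311 : act 2 n6244 = n4706 := d11_1 D6244 (iv D4706) (iv F7674)
def n6245 : Q := act 3 n4707
theorem D6245 : act 3 n4707 = n6245 := rfl
theorem F10312 : act 4 n6245 = n4708 := d12_2 D4707 D6245 (iv D4708) (iv D3501) D3500
def n6246 : Q := act 5 n4707
theorem D6246 : act 5 n4707 = n6246 := rfl
def n6247 : Q := act 2 n4708
theorem D6247 : act 2 n4708 = n6247 := rfl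
def n6248 : Q := act 5 n4708
theorem D6248 : act 5 n4708 = n6248 := rfl
theorem F10313 : act 3 n6248 = n4709 := d13_1 D6248 (iv D4709) D4708
def n6249 : Q := act 2 n4710
theorem D6249 : act 2 n4710 = n6249 := rfl
theorem F10314 : act 0 n6249 = n4712 := d1_1 D6249 (iv D4712) (iv F7679)
def n6250 : Q := act 4 n4710
theorem D6250 : act 4 n4710 = n6250 := rfl
theorem F10315 : act 0 n6250 = n4713 := d3_1 D6250 (iv D4713) (iv F7679)
def n6251 : Q := act 4 n4711
theorem D6251 : act 4 n4711 = n6251 := rfl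
theorem F10316 : act 0 n6251 = n4714 := d3_1 D6251 (iv D4714) (iv F7680)
theorem F10317 : act 2 n6251 = n5892 := d10_1 D6251 (iv D5892) (iv F7681)
def n6252 : Q := act 3 n4712
theorem D6252 : act 3 n4712 = n6252 := rfl
def n6253 : Q := act 4 n4712
theorem D6253 : act 4 n4712 = n6253 := rfl
theorem F10318 : act 2 n6253 = n4713 := d10_1 D6253 (iv D4713) D4712
def n6254 : Q := act 5 n4713
theorem D6254 : act 5 n4713 = n6254 := rfl
theorem F10319 : act 1 n6254 = n4715 := d8_1 D6254 (iv D4715) (iv F7682)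
def n6255 : Q := act 3 n4714
theorem D6255 : act 3 n4714 = n6255 := rfl
theorem F10320 : act 1 n6255 = n4716 := d6_1 D6255 (iv D4716) (iv F7683)
def n6256 : Q := act 1 n4717
theorem D6256 : act 1 n4717 = n6256 := rfl
theorem F10321 : act 3 n6256 = n5959 := d6_2 (iv F7686) D6256 (iv D5959)
def n6257 : Q := act 4 n4717
theorem D6257 : act 4 n4717 = n6257 := rfl
theorem F10322 : act 0 n6257 = n4723 := d3_1 D6257 (iv D4723) (iv F7685)
theorem F10323 : act 2 n6257 = n4718 := d10_1 D6257 (iv D4718) D4717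
def n6258 : Q := act 5 n4717
theorem D6258 : act 5 n4717 = n6258 := rfl
theorem F10324 : act 0 n6258 = n4724 := d4_1 D6258 (iv D4724) (iv F7685)
theorem F10325 : act 2 n6258 = n4719 := d11_1 D6258 (iv D4719) D4717
theorem F10326 : act 3 n6258 = n5438 := d13_1 D6258 F8975 (iv F7686)
def n6259 : Q := act 5 n4718
theorem D6259 : act 5 n4718 = n6259 := rfl
theorem F10327 : act 0 n6259 = n4725 := d4_1 D6259 (iv D4725) (iv F7687)
theorem F10328 : act 3 n6259 = n4738 := d13_1 D6259 (iv D4738) (iv F7688)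
def n6260 : Q := act 4 n4719
theorem D6260 : act 4 n4719 = n6260 := rfl
theorem F10329 : act 0 n6260 = n4726 := d3_1 D6260 (iv D4726) (iv F7689)
def n6261 : Q := act 3 n4720
theorem D6261 : act 3 n4720 = n6261 := rfl
theorem F10330 : act 0 n6261 = n4727 := d2_1 D6261 (iv D4727) (iv F7691)
theorem F10331 : act 5 n6261 = n4739 := d13_2 (iv F7693) D6261 (iv D4739)
def n6262 : Q := act 0 n4721
theorem D6262 : act 0 n4721 = n6262 := rfl
theorem F10332 : act 2 n6262 = n4728 := d1_2 (iv F7694) D6262 (iv D4728)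
def n6263 : Q := act 3 n4721
theorem D6263 : act 3 n4721 = n6263 := rfl
theorem F10333 : act 1 n6263 = n4722 := d6_1 D6263 (iv D4722) D4721
def n6264 : Q := act 4 n4721
theorem D6264 : act 4 n4721 = n6264 := rfl
theorem F10334 : act 1 n6264 = n4723 := d7_1 D6264 (iv D4723) D4721
theorem F10335 : act 2 n6264 = n4729 := d10_1 D6264 (iv D4729) (iv F7694)
def n6265 : Q := act 4 n4722
theorem D6265 : act 4 n4722 = n6265 := rfl
theorem F10336 : act 0 n6265 = n5960 := d3_1 D6265 (iv D5960) (iv F7695)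
theorem F10337 : act 2 n6265 = n5958 := d10_1 D6265 (iv D5958) (iv F7696)
def n6266 : Q := act 5 n4722
theorem D6266 : act 5 n4722 = n6266 := rfl
theorem F10338 : act 0 n6266 = n5438 := d4_1 D6266 F8975 (iv F7695)
theorem F10339 : act 2 n6266 = n5436 := d11_1 D6266 F8971 (iv F7696)
theorem F10340 : act 3 n6266 = n4724 := d13_1 D6266 (iv D4724) D4722
def n6267 : Q := act 3 n4723
theorem D6267 : act 3 n4723 = n6267 := rfl
def n6268 : Q := act 5 n4723
theorem D6268 : act 5 n4723 = n6268 := rfl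
theorem F10341 : act 2 n6268 = n4725 := d11_1 D6268 (iv D4725) (iv F7697)
def n6269 : Q := act 4 n4724
theorem D6269 : act 4 n4724 = n6269 := rfl
theorem F10342 : act 2 n6269 = n4726 := d10_1 D6269 (iv D4726) (iv F7698)
def n6270 : Q := act 4 n4725
theorem D6270 : act 4 n4725 = n6270 := rfl
theorem F10343 : act 1 n6270 = n4732 := d7_1 D6270 (iv D4732) (iv F7699)
theorem F10344 : act 5 n6270 = n4726 := d14_2 D4725 D6270 (iv D4726) (iv D3512) D3511
def n6271 : Q := act 3 n4726
theorem D6271 : act 3 n4726 = n6271 := rfl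
theorem F10345 : act 1 n6271 = n4733 := d6_1 D6271 (iv D4733) (iv F7701)
theorem F10346 : act 4 n6271 = n4727 := d12_2 D4726 D6271 (iv D4727) (iv D3513) (iv F5692)
def n6272 : Q := act 2 n4727
theorem D6272 : act 2 n4727 = n6272 := rfl
theorem F10347 : act 5 n6272 = n4744 := d11_2 (iv F7703) D6272 (iv D4744)
def n6273 : Q := act 4 n4728
theorem D6273 : act 4 n4728 = n6273 := rfl
theorem F10348 : act 0 n6273 = n4729 := d3_1 D6273 (iv D4729) D4728
def n6274 : Q := act 3 n4729
theorem D6274 : act 3 n4729 = n6274 := rfl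
theorem F10349 : act 1 n6274 = n4730 := d6_1 D6274 (iv D4730) (iv F7704)
def n6275 : Q := act 5 n4729
theorem D6275 : act 5 n4729 = n6275 := rfl
theorem F10350 : act 1 n6275 = n4731 := d8_1 D6275 (iv D4731) (iv F7704)
def n6276 : Q := act 1 n4734
theorem D6276 : act 1 n4734 = n6276 := rfl
theorem F10351 : act 3 n6276 = n5333 := d6_2 (iv F7709) D6276 (iv D5333)
theorem F10352 : act 5 n6276 = n4745 := d8_2 (iv F7710) D6276 (iv D4745)
def n6277 : Q := act 3 n4735
theorem D6277 : act 3 n4735 = n6277 := rfl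
theorem F10353 : act 0 n6277 = n5021 := d2_1 D6277 (iv F10106) F10103
theorem F10354 : act 1 n6277 = n4736 := d6_1 D6277 (iv D4736) D4735
theorem F10355 : act 2 n6277 = n5310 := d9_1 D6277 (iv F9476) F9475 F7110 F5322 (iv F5597) (iv F7530) D6140 F10101 F9609 F9607 (iv F8597) F8596 (iv F10157) F10156
theorem F10356 : act 5 n6277 = n5448 := d13_2 (iv F10098) D6277 F10097
def n6278 : Q := act 4 n4735
theorem D6278 : act 4 n4735 = n6278 := rfl
theorem F10357 : act 1 n6278 = n4737 := d7_1 D6278 (iv D4737) D4735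
def n6279 : Q := act 4 n4736
theorem D6279 : act 4 n4736 = n6279 := rfl
theorem F10358 : act 0 n6279 = n4741 := d3_1 D6279 (iv D4741) (iv F7711)
theorem F10359 : act 2 n6279 = n5309 := d10_1 D6279 (iv D5309) (iv F7712)
def n6280 : Q := act 3 n4737
theorem D6280 : act 3 n4737 = n6280 := rfl
theorem F10360 : act 0 n6280 = n4742 := d2_1 D6280 (iv D4742) (iv F7714)
def n6281 : Q := act 5 n4737
theorem D6281 : act 5 n4737 = n6281 := rfl
theorem F10361 : act 0 n6281 = n4743 := d4_1 D6281 (iv D4743) (iv F7714)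
theorem F10362 : act 2 n6281 = n4738 := d11_1 D6281 (iv D4738) (iv F7715)
def n6282 : Q := act 2 n4739
theorem D6282 : act 2 n4739 = n6282 := rfl
theorem F10363 : act 0 n6282 = n4744 := d1_1 D6282 (iv D4744) (iv F7717)
theorem F10364 : act 3 n6282 = n4744 := d15_1 D6282 (iv D4744) (iv D3525) F4178 (iv F4923) (iv F5694) D4727 F7703 (iv F7717)
def n6283 : Q := act 1 n4740
theorem D6283 : act 1 n4740 = n6283 := rfl
theorem F10365 : act 0 n6283 = n5307 := d0_1 D6283 F8736 F6527 (iv F6531) (iv F7718)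
theorem F10366 : act 2 n6283 = n5010 := d5_2 D4740 D6283 F8176 (iv F7557) F7556
theorem F10367 : act 3 n6283 = n5306 := d6_2 (iv F7719) D6283 F8732
theorem F10368 : act 5 n6283 = n5444 := d8_2 (iv F7720) D6283 F8987
def n6284 : Q := act 4 n4740
theorem D6284 : act 4 n4740 = n6284 := rfl
theorem F10369 : act 0 n6284 = n5309 := d3_1 D6284 (iv D5309) (iv F7718)
theorem F10370 : act 2 n6284 = n4741 := d10_1 D6284 (iv D4741) D4740
theorem F10371 : act 3 n6284 = n5958 := d12_1 D6284 (iv D5958) (iv D4480) (iv F6529) (iv F7719)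
def n6285 : Q := act 3 n4741
theorem D6285 : act 3 n4741 = n6285 := rfl
theorem F10372 : act 4 n6285 = n4742 := d12_2 D4741 D6285 (iv D4742) (iv D3523) D3522
def n6286 : Q := act 5 n4741
theorem D6286 : act 5 n4741 = n6286 := rfl
def n6287 : Q := act 2 n4742
theorem D6287 : act 2 n4742 = n6287 := rfl
def n6288 : Q := act 5 n4742
theorem D6288 : act 5 n4742 = n6288 := rfl
theorem F10373 : act 3 n6288 = n4743 := d13_1 D6288 (iv D4743) D4742
def n6289 : Q := act 1 n4744
theorem D6289 : act 1 n4744 = n6289 := rfl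
theorem F10374 : act 2 n6289 = n4745 := d5_2 D4744 D6289 (iv D4745) (iv D3526) (iv F5705)
def n6290 : Q := act 0 n4745
theorem D6290 : act 0 n4745 = n6290 := rfl
def n6291 : Q := act 3 n4745
theorem D6291 : act 3 n4745 = n6291 := rfl
theorem F10375 : act 1 n6291 = n4746 := d6_1 D6291 (iv D4746) D4745
theorem F10376 : act 5 n6291 = n5333 := d13_2 F10352 D6291 (iv F10351)
def n6292 : Q := act 3 n4747
theorem D6292 : act 3 n4747 = n6292 := rfl
theorem F10377 : act 0 n6292 = n4748 := d2_1 D6292 (iv D4748) (iv F7725)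
def n6293 : Q := act 5 n4747
theorem D6293 : act 5 n4747 = n6293 := rfl
theorem F10378 : act 0 n6293 = n4749 := d4_1 D6293 (iv D4749) (iv F7725)
theorem F10379 : act 2 n6293 = n4753 := d11_1 D6293 (iv D4753) (iv F7726)
def n6294 : Q := act 2 n4748
theorem D6294 : act 2 n4748 = n6294 := rfl
def n6295 : Q := act 5 n4748
theorem D6295 : act 5 n4748 = n6295 := rfl
theorem F10380 : act 1 n6295 = n4751 := d8_1 D6295 (iv D4751) (iv F7727)
theorem F10381 : act 3 n6295 = n4749 := d13_1 D6295 (iv D4749) D4748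
def n6296 : Q := act 1 n4750
theorem D6296 : act 1 n4750 = n6296 := rfl
def n6297 : Q := act 4 n4751
theorem D6297 : act 4 n4751 = n6297 := rfl
def n6298 : Q := act 2 n4752
theorem D6298 : act 2 n4752 = n6298 := rfl
theorem F10382 : act 0 n6298 = n4754 := d1_1 D6298 (iv D4754) (iv F7731)
def n6299 : Q := act 5 n4752
theorem D6299 : act 5 n4752 = n6299 := rfl
theorem F10383 : act 0 n6299 = n4755 := d4_1 D6299 (iv D4755) (iv F7731)
theorem F10384 : act 3 n6299 = n4753 := d13_1 D6299 (iv D4753) D4752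
def n6300 : Q := act 1 n4754
theorem D6300 : act 1 n4754 = n6300 := rfl
theorem F10385 : act 2 n6300 = n4756 := d5_2 D4754 D6300 (iv D4756) (iv D3535) (iv F5713)
def n6301 : Q := act 3 n4754
theorem D6301 : act 3 n4754 = n6301 := rfl
def n6302 : Q := act 5 n4754
theorem D6302 : act 5 n4754 = n6302 := rfl
theorem F10386 : act 2 n6302 = n4755 := d11_1 D6302 (iv D4755) D4754
def n6303 : Q := act 4 n4755
theorem D6303 : act 4 n4755 = n6303 := rfl
theorem F10387 : act 1 n6303 = n4759 := d7_1 D6303 (iv D4759) (iv F7733)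
def n6304 : Q := act 0 n4756
theorem D6304 : act 0 n4756 = n6304 := rfl
def n6305 : Q := act 3 n4756
theorem D6305 : act 3 n4756 = n6305 := rfl
theorem F10388 : act 1 n6305 = n4757 := d6_1 D6305 (iv D4757) D4756
theorem F10389 : act 5 n5396 = n6305 := d8_0 F10388 F7737 D5396
def n6306 : Q := act 5 n4756
theorem D6306 : act 5 n4756 = n6306 := rfl
theorem F10390 : act 1 n6306 = n4758 := d8_1 D6306 (iv D4758) D4756
theorem F10391 : act 3 n6306 = n5396 := d13_1 D6306 F10389 (iv D6305)
def n6307 : Q := act 5 n4760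
theorem D6307 : act 5 n4760 = n6307 := rfl
theorem F10392 : act 1 n6307 = n4762 := d8_1 D6307 (iv D4762) (iv F7741)
theorem F10393 : act 2 n6307 = n5645 := d11_1 D6307 (iv D5645) (iv F7742)
theorem F10394 : act 4 n6307 = n5273 := d14_1 D6307 (iv D5273) (iv D3952) F5721 D4760
def n6308 : Q := act 3 n4761
theorem D6308 : act 3 n4761 = n6308 := rfl
theorem F10395 : act 0 n6308 = n4961 := d2_1 D6308 (iv D4961) (iv F7743)
theorem F10396 : act 1 n6308 = n4763 := d6_1 D6308 (iv D4763) (iv F7744)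
theorem F10397 : act 4 n6308 = n5272 := d12_2 D4761 D6308 (iv D5272) (iv D3952) (iv F5725)
def n6309 : Q := act 2 n4763
theorem D6309 : act 2 n4763 = n6309 := rfl
theorem F10398 : act 0 n6309 = n4778 := d1_1 D6309 (iv D4778) (iv F7749)
theorem F10399 : act 4 n6309 = n5274 := d10_2 (iv F7750) D6309 (iv D5274)
def n6310 : Q := act 2 n4764
theorem D6310 : act 2 n4764 = n6310 := rfl
theorem F10400 : act 0 n6310 = n4766 := d1_1 D6310 (iv D4766) (iv F7751)
def n6311 : Q := act 5 n4764
theorem D6311 : act 5 n4764 = n6311 := rfl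
theorem F10401 : act 0 n6311 = n4768 := d4_1 D6311 (iv D4768) (iv F7751)
theorem F10402 : act 3 n6311 = n4765 := d13_1 D6311 (iv D4765) D4764
def n6312 : Q := act 1 n4766
theorem D6312 : act 1 n4766 = n6312 := rfl
theorem F10403 : act 2 n6312 = n4768 := d5_2 D4766 D6312 F7757 (iv D3545) (iv F5732)
theorem F10404 : act 5 n4766 = n6312 := d11_0 F10403 (iv D4768) D4766
def n6313 : Q := act 3 n4766
theorem D6313 : act 3 n4766 = n6313 := rfl
def n6314 : Q := act 4 n4766
theorem D6314 : act 4 n4766 = n6314 := rfl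
theorem F10405 : act 2 n6314 = n4767 := d10_1 D6314 (iv D4767) D4766
def n6315 : Q := act 5 n4767
theorem D6315 : act 5 n4767 = n6315 := rfl
theorem F10406 : act 1 n6315 = n4770 := d8_1 D6315 (iv D4770) (iv F7755)
theorem F10407 : act 3 n6315 = n4772 := d13_1 D6315 (iv D4772) (iv F7756)
def n6316 : Q := act 4 n4768
theorem D6316 : act 4 n4768 = n6316 := rfl
theorem F10408 : act 1 n6316 = n4769 := d7_1 D6316 (iv D4769) (iv F7757)
theorem F10409 : act 3 n6316 = n4977 := d12_1 D6316 (iv D4977) F6076 (iv F5735) (iv F7758)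
def n6317 : Q := act 3 n4769
theorem D6317 : act 3 n4769 = n6317 := rfl
theorem F10410 : act 1 n6317 = n4977 := d6_1 D6317 (iv F10409) F10408
theorem F10411 : act 4 n6317 = n4771 := d12_2 D4769 D6317 (iv D4771) (iv D3547) (iv F5736)
def n6318 : Q := act 5 n4769
theorem D6318 : act 5 n4769 = n6318 := rfl
theorem F10412 : act 2 n6318 = n4770 := d11_1 D6318 (iv D4770) (iv F7759)
theorem F10413 : act 4 n6318 = n4770 := d14_1 D6318 (iv D4770) (iv D3546) F5737 D4769
def n6319 : Q := act 2 n4771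
theorem D6319 : act 2 n4771 = n6319 := rfl
theorem F10414 : act 5 n6319 = n4778 := d11_2 (iv F7762) D6319 (iv D4778)
theorem F10415 : act 3 n6319 = n5127 := d15_1 D6319 (iv D5127) (iv D3836) F4588 (iv F4196) (iv F5729) D4763 (iv F8449) F8448
def n6320 : Q := act 3 n4773
theorem D6320 : act 3 n4773 = n6320 := rfl
theorem F10416 : act 0 n6320 = n5632 := d2_1 D6320 (iv D5632) (iv F7765)
theorem F10417 : act 1 n6320 = n4774 := d6_1 D6320 (iv D4774) (iv F7766)
theorem F10418 : act 4 n6320 = n5250 := d12_2 D4773 D6320 (iv D5250) (iv D3935) (iv F5744)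
def n6321 : Q := act 5 n4773
theorem D6321 : act 5 n4773 = n6321 := rfl
theorem F10419 : act 0 n6321 = n5633 := d4_1 D6321 (iv D5633) (iv F7765)
theorem F10420 : act 1 n6321 = n4775 := d8_1 D6321 (iv D4775) (iv F7766)
theorem F10421 : act 4 n6321 = n5249 := d14_1 D6321 (iv D5249) (iv D3934) (iv F5745) D4773
def n6322 : Q := act 2 n4774
theorem D6322 : act 2 n4774 = n6322 := rfl
theorem F10422 : act 0 n6322 = n5277 := d1_1 D6322 (iv D5277) (iv F7767)
theorem F10423 : act 4 n6322 = n5251 := d10_2 (iv F7768) D6322 (iv D5251)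
def n6323 : Q := act 5 n4774
theorem D6323 : act 5 n4774 = n6323 := rfl
theorem F10424 : act 0 n6323 = n5276 := d4_1 D6323 F8674 (iv F7767)
theorem F10425 : act 3 n6323 = n4775 := d13_1 D6323 (iv D4775) D4774
theorem F10426 : act 4 n6323 = n5940 := d14_1 D6323 (iv D5940) (iv F8620) F8621 (iv F7768)
def n6324 : Q := act 3 n4776
theorem D6324 : act 3 n4776 = n6324 := rfl
theorem F10427 : act 0 n6324 = n5275 := d2_1 D6324 F8672 (iv F7772)
theorem F10428 : act 1 n6324 = n4973 := d6_1 D6324 F8129 (iv F7773)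
theorem F10429 : act 5 n6324 = n4777 := d13_2 (iv F7775) D6324 (iv D4777)
def n6325 : Q := act 2 n4777
theorem D6325 : act 2 n4777 = n6325 := rfl
theorem F10430 : act 0 n6325 = n5274 := d1_1 D6325 (iv D5274) (iv F7776)
theorem F10431 : act 4 n6325 = n4778 := d10_2 (iv F7778) D6325 (iv D4778)
def n6326 : Q := act 1 n4778
theorem D6326 : act 1 n4778 = n6326 := rfl
theorem F10432 : act 2 n6326 = n4974 := d5_2 D4778 D6326 (iv D4974) (iv D3721) (iv F5751)
def n6327 : Q := act 3 n4778
theorem D6327 : act 3 n4778 = n6327 := rfl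
theorem F10433 : act 5 n6327 = n5127 := d13_2 F10414 D6327 (iv F10415)
theorem F10434 : act 2 n6327 = n5116 := d15_2 D4778 D6327 (iv D5116) F6251 (iv F4613) (iv F6292) D5152 F8449 F7749
def n6328 : Q := act 0 n4779
theorem D6328 : act 0 n4779 = n6328 := rfl
theorem F10435 : act 1 n6328 = n5084 := d0_2 D4779 D6328 F8323 F6205 (iv F5752)
theorem F10436 : act 2 n6328 = n4793 := d1_2 (iv F7779) D6328 (iv D4793)
theorem F10437 : act 4 n6328 = n4781 := d3_2 (iv F7780) D6328 (iv D4781)
def n6329 : Q := act 3 n4779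
theorem D6329 : act 3 n4779 = n6329 := rfl
theorem F10438 : act 1 n6329 = n4780 := d6_1 D6329 (iv D4780) D4779
def n6330 : Q := act 2 n4780
theorem D6330 : act 2 n4780 = n6330 := rfl
theorem F10439 : act 0 n6330 = n5127 := d1_1 D6330 (iv D5127) (iv F7781)
def n6331 : Q := act 4 n4782
theorem D6331 : act 4 n4782 = n6331 := rfl
theorem F10440 : act 0 n6331 = n4784 := d3_1 D6331 (iv D4784) (iv F7785)
theorem F10441 : act 1 n6331 = n5117 := d7_1 D6331 (iv D5117) (iv F7786)
def n6332 : Q := act 4 n4783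
theorem D6332 : act 4 n4783 = n6332 := rfl
theorem F10442 : act 2 n6332 = n4784 := d10_1 D6332 (iv D4784) D4783
def n6333 : Q := act 5 n4784
theorem D6333 : act 5 n4784 = n6333 := rfl
theorem F10443 : act 1 n6333 = n4785 := d8_1 D6333 (iv D4785) (iv F7787)
def n6334 : Q := act 1 n4786
theorem D6334 : act 1 n4786 = n6334 := rfl
theorem F10444 : act 2 n6334 = n4850 := d5_2 D4786 D6334 (iv D4850) (iv D3614) (iv F5761)
theorem F10445 : act 4 n6334 = n4967 := d7_2 (iv F7790) D6334 (iv D4967)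
def n6335 : Q := act 3 n4786
theorem D6335 : act 3 n4786 = n6335 := rfl
theorem F10446 : act 0 n6335 = n4789 := d2_1 D6335 (iv D4789) (iv F7789)
def n6336 : Q := act 5 n4786
theorem D6336 : act 5 n4786 = n6336 := rfl
theorem F10447 : act 0 n6336 = n4790 := d4_1 D6336 (iv D4790) (iv F7789)
theorem F10448 : act 2 n6336 = n4787 := d11_1 D6336 (iv D4787) D4786
def n6337 : Q := act 4 n4787
theorem D6337 : act 4 n4787 = n6337 := rfl
theorem F10449 : act 0 n6337 = n4791 := d3_1 D6337 (iv D4791) (iv F7791)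
theorem F10450 : act 1 n6337 = n4855 := d7_1 D6337 (iv D4855) (iv F7792)
theorem F10451 : act 3 n6337 = n4939 := d12_1 D6337 (iv D4939) F6035 (iv F5765) (iv F7793)
theorem F10452 : act 5 n6337 = n4940 := d14_2 D4787 D6337 F8084 F6038 (iv F5762)
def n6338 : Q := act 0 n4788
theorem D6338 : act 0 n4788 = n6338 := rfl
theorem F10453 : act 2 n6338 = n4792 := d1_2 (iv F7794) D6338 (iv D4792)
theorem F10454 : act 4 n6338 = n4978 := d3_2 (iv F7795) D6338 (iv D4978)
theorem F10455 : act 5 n6338 = n4843 := d4_2 F7796 D6338 F7912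
def n6339 : Q := act 3 n4788
theorem D6339 : act 3 n4788 = n6339 := rfl
theorem F10456 : act 1 n6339 = n4789 := d6_1 D6339 (iv D4789) D4788
theorem F10457 : act 5 n6339 = n4846 := d13_2 F7796 D6339 (iv D4846)
def n6340 : Q := act 2 n4789
theorem D6340 : act 2 n4789 = n6340 := rfl
def n6341 : Q := act 4 n4789
theorem D6341 : act 4 n4789 = n6341 := rfl
theorem F10458 : act 3 n6341 = n4981 := d12_1 D6341 (iv D4981) (iv D3724) (iv F5766) D4789
def n6342 : Q := act 5 n4789
theorem D6342 : act 5 n4789 = n6342 := rfl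
theorem F10459 : act 1 n6342 = n4846 := d8_1 D6342 (iv F10457) F10456
theorem F10460 : act 3 n6342 = n4790 := d13_1 D6342 (iv D4790) D4789
def n6343 : Q := act 4 n4790
theorem D6343 : act 4 n4790 = n6343 := rfl
theorem F10461 : act 1 n6343 = n4847 := d7_1 D6343 (iv D4847) (iv F7797)
theorem F10462 : act 2 n6343 = n4791 := d10_1 D6343 (iv D4791) (iv F7798)
theorem F10463 : act 5 n6343 = n4953 := d14_2 D4790 D6343 F8104 F6058 (iv F5766)
def n6344 : Q := act 3 n4793
theorem D6344 : act 3 n4793 = n6344 := rfl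
theorem F10464 : act 0 n6344 = n4794 := d2_1 D6344 (iv D4794) D4793
theorem F10465 : act 1 n6344 = n4884 := d6_1 D6344 (iv D4884) (iv F7806)
theorem F10466 : act 4 n6344 = n4895 := d12_2 (iv F7807) D6344 (iv D4895) (iv D3653) (iv F5781)
def n6345 : Q := act 2 n4794
theorem D6345 : act 2 n4794 = n6345 := rfl
theorem F10467 : act 1 n6345 = n5821 := d5_1 D6345 F9568 F7145 F5779 (iv F7808)
theorem F10468 : act 4 n6345 = n4897 := d10_2 (iv F7809) D6345 (iv D4897)
def n6346 : Q := act 4 n4796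
theorem D6346 : act 4 n4796 = n6346 := rfl
theorem F10469 : act 0 n6346 = n5190 := d3_1 D6346 (iv D5190) (iv F7813)
theorem F10470 : act 1 n6346 = n4798 := d7_1 D6346 (iv D4798) (iv F7814)
theorem F10471 : act 2 n6346 = n5185 := d10_1 D6346 (iv D5185) (iv F7816)
def n6347 : Q := act 1 n4797
theorem D6347 : act 1 n4797 = n6347 := rfl
theorem F10472 : act 0 n6347 = n5444 := d0_1 D6347 F8987 F6698 (iv F6520) (iv F7817)
theorem F10473 : act 2 n6347 = n5183 := d5_2 D4797 D6347 F8501 (iv F7816) F7814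
theorem F10474 : act 3 n6347 = n5302 := d6_2 (iv F7818) D6347 (iv D5302)
theorem F10475 : act 5 n6347 = n5307 := d8_2 (iv F7819) D6347 F8736
def n6348 : Q := act 4 n4797
theorem D6348 : act 4 n4797 = n6348 := rfl
theorem F10476 : act 0 n6348 = n5304 := d3_1 D6348 (iv D5304) (iv F7817)
theorem F10477 : act 2 n6348 = n4798 := d10_1 D6348 (iv D4798) D4797
def n6349 : Q := act 5 n4798
theorem D6349 : act 5 n4798 = n6349 := rfl
def n6350 : Q := act 5 n4799
theorem D6350 : act 5 n4799 = n6350 := rfl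
theorem F10478 : act 0 n6350 = n4801 := d4_1 D6350 (iv D4801) (iv F7820)
theorem F10479 : act 1 n6350 = n4815 := d8_1 D6350 (iv D4815) (iv F7821)
theorem F10480 : act 2 n6350 = n5826 := d11_1 D6350 (iv D5826) (iv F7822)
theorem F10481 : act 4 n6350 = n4911 := d14_1 D6350 (iv D4911) (iv D3667) F5791 D4799
def n6351 : Q := act 3 n4800
theorem D6351 : act 3 n4800 = n6351 := rfl
theorem F10482 : act 0 n6351 = n4802 := d2_1 D6351 (iv D4802) (iv F7823)
theorem F10483 : act 1 n6351 = n4817 := d6_1 D6351 (iv D4817) (iv F7824)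
theorem F10484 : act 4 n6351 = n4910 := d12_2 D4800 D6351 (iv D4910) (iv D3667) (iv F5795)
def n6352 : Q := act 2 n4802
theorem D6352 : act 2 n4802 = n6352 := rfl
theorem F10485 : act 4 n6352 = n4912 := d10_2 (iv F7830) D6352 (iv D4912)
def n6353 : Q := act 1 n4803
theorem D6353 : act 1 n4803 = n6353 := rfl
theorem F10486 : act 3 n6353 = n5182 := d6_2 (iv F7834) D6353 (iv D5182)
theorem F10487 : act 4 n6353 = n4914 := d7_2 (iv F7832) D6353 (iv D4914)
theorem F10488 : act 5 n6353 = n5198 := d8_2 (iv F7833) D6353 F8512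
def n6354 : Q := act 1 n4804
theorem D6354 : act 1 n4804 = n6354 := rfl
def n6355 : Q := act 3 n4804
theorem D6355 : act 3 n4804 = n6355 := rfl
theorem F10489 : act 0 n6355 = n4807 := d2_1 D6355 (iv D4807) (iv F7835)
theorem F10490 : act 2 n6355 = n4862 := d9_1 D6355 F7940 F5878 F4292 (iv F4256) (iv F4632) (iv F6313) D5168 F8480 (iv D4851) (iv D3614) (iv D2660) (iv F4252) D3577 D4804
theorem F10491 : act 5 n6355 = n4860 := d13_2 F8475 D6355 F8476
def n6356 : Q := act 4 n4804
theorem D6356 : act 4 n4804 = n6356 := rfl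
theorem F10492 : act 0 n6356 = n4808 := d3_1 D6356 (iv D4808) (iv F7835)
theorem F10493 : act 2 n6356 = n4805 := d10_1 D6356 (iv D4805) D4804
def n6357 : Q := act 5 n4805
theorem D6357 : act 5 n4805 = n6357 := rfl
theorem F10494 : act 0 n6357 = n4809 := d4_1 D6357 (iv D4809) (iv F7836)
theorem F10495 : act 3 n6357 = n4815 := d13_1 D6357 (iv D4815) (iv F7837)
def n6358 : Q := act 3 n4806
theorem D6358 : act 3 n4806 = n6358 := rfl
theorem F10496 : act 0 n6358 = n4810 := d2_1 D6358 (iv D4810) (iv F7838)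
theorem F10497 : act 5 n6358 = n4817 := d13_2 (iv F7840) D6358 (iv D4817)
def n6359 : Q := act 2 n4807
theorem D6359 : act 2 n4807 = n6359 := rfl
theorem F10498 : act 0 n6359 = n4862 := d1_1 D6359 (iv F10490) F10489
theorem F10499 : act 3 n6359 = n4853 := d9_2 D4807 D6359 F7928 F5872 (iv F5806) (iv F6323) (iv F8474) (iv F8476) (iv D4860) (iv D3619) (iv D2662) (iv D1939) (iv F3120) D2636 D3579
theorem F10500 : act 5 n6359 = n4851 := d11_2 F8479 D6359 (iv F8480)
def n6360 : Q := act 4 n4807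
theorem D6360 : act 4 n4807 = n6360 := rfl
def n6361 : Q := act 3 n4808
theorem D6361 : act 3 n4808 = n6361 := rfl
def n6362 : Q := act 5 n4808
theorem D6362 : act 5 n4808 = n6362 := rfl
theorem F10501 : act 2 n6362 = n4809 := d11_1 D6362 (iv D4809) (iv F7841)
def n6363 : Q := act 2 n4810
theorem D6363 : act 2 n4810 = n6363 := rfl
theorem F10502 : act 5 n6363 = n4827 := d11_2 (iv F7845) D6363 (iv D4827)
def n6364 : Q := act 1 n4811
theorem D6364 : act 1 n4811 = n6364 := rfl
theorem F10503 : act 3 n6364 = n5079 := d6_2 (iv F7847) D6364 F8308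
theorem F10504 : act 5 n6364 = n4832 := d8_2 (iv F7848) D6364 (iv D4832)
def n6365 : Q := act 4 n4812
theorem D6365 : act 4 n4812 = n6365 := rfl
theorem F10505 : act 0 n6365 = n5585 := d3_1 D6365 (iv D5585) (iv F7849)
theorem F10506 : act 1 n6365 = n4813 := d7_1 D6365 (iv D4813) D4812
theorem F10507 : act 2 n6365 = n5581 := d10_1 D6365 (iv D5581) (iv F7850)
def n6366 : Q := act 3 n4813
theorem D6366 : act 3 n4813 = n6366 := rfl
theorem F10508 : act 0 n6366 = n4822 := d2_1 D6366 (iv D4822) (iv F7853)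
theorem F10509 : act 4 n6366 = n4881 := d12_2 D4813 D6366 (iv D4881) F5931 (iv F5815)
def n6367 : Q := act 5 n4813
theorem D6367 : act 5 n4813 = n6367 := rfl
theorem F10510 : act 0 n6367 = n4823 := d4_1 D6367 (iv D4823) (iv F7853)
theorem F10511 : act 2 n6367 = n4815 := d11_1 D6367 (iv D4815) (iv F7854)
def n6368 : Q := act 4 n4814
theorem D6368 : act 4 n4814 = n6368 := rfl
theorem F10512 : act 0 n6368 = n4824 := d3_1 D6368 (iv D4824) (iv F7855)
theorem F10513 : act 1 n6368 = n4931 := d7_1 D6368 (iv D4931) (iv F7856)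
theorem F10514 : act 2 n6368 = n4816 := d10_1 D6368 (iv D4816) (iv F7857)
def n6369 : Q := act 4 n4815
theorem D6369 : act 4 n4815 = n6369 := rfl
theorem F10515 : act 0 n6369 = n4825 := d3_1 D6369 (iv D4825) (iv F7859)
theorem F10516 : act 1 n6369 = n4911 := d7_1 D6369 (iv F10481) F10479
theorem F10517 : act 5 n6369 = n4816 := d14_2 D4815 D6369 (iv D4816) (iv D3586) D3585
def n6370 : Q := act 3 n4816
theorem D6370 : act 3 n4816 = n6370 := rfl
theorem F10518 : act 0 n6370 = n4826 := d2_1 D6370 (iv D4826) (iv F7860)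
theorem F10519 : act 1 n6370 = n4910 := d6_1 D6370 (iv D4910) (iv F7861)
theorem F10520 : act 4 n6370 = n4817 := d12_2 D4816 D6370 (iv D4817) (iv D3587) (iv F5819)
def n6371 : Q := act 2 n4817
theorem D6371 : act 2 n4817 = n6371 := rfl
theorem F10521 : act 0 n6371 = n4827 := d1_1 D6371 (iv D4827) (iv F7862)
def n6372 : Q := act 4 n4818
theorem D6372 : act 4 n4818 = n6372 := rfl
theorem F10522 : act 0 n6372 = n5489 := d3_1 D6372 (iv D5489) (iv F7863)
theorem F10523 : act 1 n6372 = n4820 := d7_1 D6372 (iv D4820) (iv F7864)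
theorem F10524 : act 2 n6372 = n4935 := d10_1 D6372 (iv D4935) (iv F7866)
def n6373 : Q := act 3 n4819
theorem D6373 : act 3 n4819 = n6373 := rfl
theorem F10525 : act 0 n6373 = n5823 := d2_1 D6373 (iv D5823) (iv F7867)
theorem F10526 : act 1 n6373 = n4822 := d6_1 D6373 (iv D4822) (iv F7868)
def n6374 : Q := act 5 n4819
theorem D6374 : act 5 n4819 = n6374 := rfl
theorem F10527 : act 0 n6374 = n5824 := d4_1 D6374 (iv D5824) (iv F7867)
theorem F10528 : act 1 n6374 = n4823 := d8_1 D6374 (iv D4823) (iv F7868)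
theorem F10529 : act 2 n6374 = n4829 := d11_1 D6374 (iv D4829) (iv F7869)
theorem F10530 : act 4 n6374 = n4903 := d14_1 D6374 (iv D4903) (iv D3659) F5824 D4819
def n6375 : Q := act 3 n4820
theorem D6375 : act 3 n4820 = n6375 := rfl
theorem F10531 : act 0 n6375 = n4881 := d2_1 D6375 (iv D4881) (iv F7870)
theorem F10532 : act 4 n6375 = n4822 := d12_2 D4820 D6375 (iv D4822) (iv D3590) D3589
def n6376 : Q := act 5 n4820
theorem D6376 : act 5 n4820 = n6376 := rfl
theorem F10533 : act 0 n6376 = n4868 := d4_1 D6376 F7949 (iv F7870)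
theorem F10534 : act 2 n6376 = n4856 := d11_1 D6376 F7935 (iv F7871)
def n6377 : Q := act 4 n4821
theorem D6377 : act 4 n4821 = n6377 := rfl
theorem F10535 : act 0 n6377 = n4879 := d3_1 D6377 (iv D4879) (iv F7872)
theorem F10536 : act 1 n6377 = n4901 := d7_1 D6377 (iv D4901) (iv F7873)
theorem F10537 : act 2 n6377 = n4878 := d10_1 D6377 (iv D4878) (iv F7874)
def n6378 : Q := act 2 n4822
theorem D6378 : act 2 n4822 = n6378 := rfl
def n6379 : Q := act 5 n4822
theorem D6379 : act 5 n4822 = n6379 := rfl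
theorem F10538 : act 3 n6379 = n4823 := d13_1 D6379 (iv D4823) D4822
def n6380 : Q := act 4 n4823
theorem D6380 : act 4 n4823 = n6380 := rfl
theorem F10539 : act 1 n6380 = n4903 := d7_1 D6380 (iv F10530) F10528
theorem F10540 : act 2 n6380 = n4825 := d10_1 D6380 (iv D4825) (iv F7876)
theorem F10541 : act 5 n6380 = n4824 := d14_2 D4823 D6380 (iv D4824) (iv D3591) D3590
def n6381 : Q := act 3 n4824
theorem D6381 : act 3 n4824 = n6381 := rfl
theorem F10542 : act 1 n6381 = n4902 := d6_1 D6381 (iv D4902) (iv F7877)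
def n6382 : Q := act 3 n4825
theorem D6382 : act 3 n4825 = n6382 := rfl
theorem F10543 : act 1 n6382 = n4830 := d6_1 D6382 (iv D4830) (iv F7879)
theorem F10544 : act 5 n6382 = n4826 := d13_2 (iv F7880) D6382 (iv D4826)
def n6383 : Q := act 2 n4826
theorem D6383 : act 2 n4826 = n6383 := rfl
theorem F10545 : act 4 n6383 = n4827 := d10_2 (iv F7882) D6383 (iv D4827)
def n6384 : Q := act 1 n4827
theorem D6384 : act 1 n4827 = n6384 := rfl
theorem F10546 : act 2 n6384 = n4832 := d5_2 D4827 D6384 (iv D4832) (iv D3600) (iv F5832)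
def n6385 : Q := act 3 n4827
theorem D6385 : act 3 n4827 = n6385 := rfl
def n6386 : Q := act 2 n4828
theorem D6386 : act 2 n4828 = n6386 := rfl
theorem F10547 : act 0 n6386 = n5518 := d1_1 D6386 F9087 (iv F7883)
theorem F10548 : act 1 n6386 = n5050 := d5_1 D6386 F8251 F6159 F5837 (iv F7884)
theorem F10549 : act 4 n6386 = n4904 := d10_2 (iv F7885) D6386 (iv D4904)
def n6387 : Q := act 1 n4831
theorem D6387 : act 1 n4831 = n6387 := rfl
theorem F10550 : act 3 n6387 = n5226 := d6_2 (iv F7893) D6387 F8562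
theorem F10551 : act 4 n6387 = n4832 := d7_2 (iv F7894) D6387 (iv D4832)
theorem F10552 : act 5 n6387 = n5225 := d8_2 (iv F7895) D6387 F8560
def n6388 : Q := act 0 n4832
theorem D6388 : act 0 n4832 = n6388 := rfl
def n6389 : Q := act 3 n4832
theorem D6389 : act 3 n4832 = n6389 := rfl
theorem F10553 : act 1 n6389 = n4833 := d6_1 D6389 (iv D4833) D4832
theorem F10554 : act 5 n6389 = n5079 := d13_2 F10504 D6389 (iv F10503)
def n6390 : Q := act 2 n4834
theorem D6390 : act 2 n4834 = n6390 := rfl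
theorem F10555 : act 0 n6390 = n4836 := d1_1 D6390 (iv D4836) (iv F7899)
def n6391 : Q := act 4 n4834
theorem D6391 : act 4 n4834 = n6391 := rfl
theorem F10556 : act 0 n6391 = n4837 := d3_1 D6391 (iv D4837) (iv F7899)
theorem F10557 : act 3 n6391 = n6331 := d12_1 D6391 (iv D6331) (iv D4782) (iv F5847) D4834
def n6392 : Q := act 5 n4834
theorem D6392 : act 5 n4834 = n6392 := rfl
theorem F10558 : act 0 n6392 = n4838 := d4_1 D6392 (iv D4838) (iv F7899)
theorem F10559 : act 3 n6392 = n4835 := d13_1 D6392 (iv D4835) D4834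
def n6393 : Q := act 4 n4835
theorem D6393 : act 4 n4835 = n6393 := rfl
theorem F10560 : act 0 n6393 = n4839 := d3_1 D6393 (iv D4839) (iv F7900)
theorem F10561 : act 2 n6393 = n4845 := d10_1 D6393 (iv D4845) (iv F7901)
theorem F10562 : act 5 n6393 = n6328 := d14_2 D4835 D6393 F10437 F7784 (iv F5847)
def n6394 : Q := act 1 n4836
theorem D6394 : act 1 n4836 = n6394 := rfl
theorem F10563 : act 2 n6394 = n4838 := d5_2 D4836 D6394 F7904 (iv D3604) (iv F5848)
theorem F10564 : act 5 n4836 = n6394 := d11_0 F10563 (iv D4838) D4836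
def n6395 : Q := act 3 n4836
theorem D6395 : act 3 n4836 = n6395 := rfl
def n6396 : Q := act 4 n4836
theorem D6396 : act 4 n4836 = n6396 := rfl
theorem F10565 : act 2 n6396 = n4837 := d10_1 D6396 (iv D4837) D4836
def n6397 : Q := act 5 n4837
theorem D6397 : act 5 n4837 = n6397 := rfl
theorem F10566 : act 1 n6397 = n4841 := d8_1 D6397 (iv D4841) (iv F7902)
theorem F10567 : act 3 n6397 = n6333 := d13_1 D6397 (iv D6333) (iv F7903)
def n6398 : Q := act 4 n4838
theorem D6398 : act 4 n4838 = n6398 := rfl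
theorem F10568 : act 1 n6398 = n4840 := d7_1 D6398 (iv D4840) (iv F7904)
def n6399 : Q := act 3 n4839
theorem D6399 : act 3 n4839 = n6399 := rfl
theorem F10569 : act 1 n6399 = n4842 := d6_1 D6399 (iv D4842) (iv F7906)
theorem F10570 : act 5 n6399 = n6329 := d13_2 (iv F7908) D6399 (iv D6329)
def n6400 : Q := act 3 n4840
theorem D6400 : act 3 n4840 = n6400 := rfl
theorem F10571 : act 4 n6400 = n4842 := d12_2 D4840 D6400 (iv D4842) (iv D3606) (iv F5851)
def n6401 : Q := act 5 n4840
theorem D6401 : act 5 n4840 = n6401 := rfl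
theorem F10572 : act 2 n6401 = n4841 := d11_1 D6401 (iv D4841) (iv F7909)
theorem F10573 : act 4 n6401 = n4841 := d14_1 D6401 (iv D4841) (iv D3605) F5852 D4840
def n6402 : Q := act 2 n4842
theorem D6402 : act 2 n4842 = n6402 := rfl
theorem F10574 : act 0 n6402 = n6327 := d1_1 D6402 F10434 F8389
theorem F10575 : act 3 n6402 = n6309 := d9_2 D4842 D6402 (iv D6309) (iv D4763) F5729 F4196 (iv F4588) D3836 D5127 (iv F10415) (iv D6319) (iv D4771) F5740 (iv F4279) (iv F5854)
theorem F10576 : act 5 n6402 = n6330 := d11_2 (iv F7911) D6402 (iv D6330)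
def n6403 : Q := act 1 n4843
theorem D6403 : act 1 n4843 = n6403 := rfl
def n6404 : Q := act 3 n4843
theorem D6404 : act 3 n4843 = n6404 := rfl
theorem F10577 : act 0 n6404 = n4846 := d2_1 D6404 (iv D4846) (iv F7912)
def n6405 : Q := act 4 n4843
theorem D6405 : act 4 n4843 = n6405 := rfl
theorem F10578 : act 0 n6405 = n4847 := d3_1 D6405 (iv D4847) (iv F7912)
theorem F10579 : act 2 n6405 = n4844 := d10_1 D6405 (iv D4844) D4843
def n6406 : Q := act 5 n4844
theorem D6406 : act 5 n4844 = n6406 := rfl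
theorem F10580 : act 0 n6406 = n4848 := d4_1 D6406 (iv D4848) (iv F7913)
theorem F10581 : act 3 n6406 = n5822 := d13_1 D6406 F9571 (iv F7914)
theorem F10582 : act 4 n6406 = n4959 := d14_1 D6406 F8113 (iv F7804) F7805 D4844
def n6407 : Q := act 3 n4845
theorem D6407 : act 3 n4845 = n6407 := rfl
theorem F10583 : act 0 n6407 = n4849 := d2_1 D6407 (iv D4849) (iv F7915)
theorem F10584 : act 4 n6407 = n4982 := d12_2 D4845 D6407 (iv D4982) (iv F7804) F7803
theorem F10585 : act 5 n6407 = n6344 := d13_2 (iv F7916) D6407 (iv D6344)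
def n6408 : Q := act 2 n4846
theorem D6408 : act 2 n4846 = n6408 := rfl
def n6409 : Q := act 4 n4846
theorem D6409 : act 4 n4846 = n6409 := rfl
def n6410 : Q := act 3 n4847
theorem D6410 : act 3 n4847 = n6410 := rfl
def n6411 : Q := act 5 n4847
theorem D6411 : act 5 n4847 = n6411 := rfl
theorem F10586 : act 1 n6411 = n4953 := d8_1 D6411 (iv F10463) F10461
theorem F10587 : act 2 n6411 = n4848 := d11_1 D6411 (iv D4848) (iv F7917)
theorem F10588 : act 4 n6411 = n4954 := d14_1 D6411 F8106 (iv F7795) (iv F7796) D4847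
def n6412 : Q := act 2 n4849
theorem D6412 : act 2 n4849 = n6412 := rfl
theorem F10589 : act 4 n6412 = n4983 := d10_2 (iv F7922) D6412 (iv D4983)
theorem F10590 : act 5 n6412 = n6345 := d11_2 (iv F7923) D6412 (iv D6345)
def n6413 : Q := act 0 n4850
theorem D6413 : act 0 n4850 = n6413 := rfl
theorem F10591 : act 1 n6413 = n4857 := d0_2 D4850 D6413 (iv D4857) (iv D3618) (iv F5867)
def n6414 : Q := act 3 n4850
theorem D6414 : act 3 n4850 = n6414 := rfl
theorem F10592 : act 1 n6414 = n4851 := d6_1 D6414 (iv D4851) D4850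
def n6415 : Q := act 4 n4850
theorem D6415 : act 4 n4850 = n6415 := rfl
theorem F10593 : act 1 n6415 = n4852 := d7_1 D6415 (iv D4852) D4850
theorem F10594 : act 2 n6415 = n4967 := d10_1 D6415 (iv F10445) F10444
def n6416 : Q := act 5 n4850
theorem D6416 : act 5 n4850 = n6416 := rfl
theorem F10595 : act 1 n6416 = n4853 := d8_1 D6416 (iv D4853) D4850
def n6417 : Q := act 4 n4851
theorem D6417 : act 4 n4851 = n6417 := rfl
theorem F10596 : act 0 n6417 = n4861 := d3_1 D6417 (iv D4861) (iv F7924)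
def n6418 : Q := act 3 n4852
theorem D6418 : act 3 n4852 = n6418 := rfl
theorem F10597 : act 0 n6418 = n4863 := d2_1 D6418 (iv D4863) (iv F7925)
theorem F10598 : act 2 n6418 = n4863 := d15_2 (iv F7926) D6418 (iv D4863) F5877 F4290 (iv F4325) (iv F5880) (iv D3622) (iv F5868)
def n6419 : Q := act 5 n4852
theorem D6419 : act 5 n4852 = n6419 := rfl
theorem F10599 : act 0 n6419 = n4864 := d4_1 D6419 (iv D4864) (iv F7925)
theorem F10600 : act 2 n6419 = n4854 := d11_1 D6419 (iv D4854) (iv F7926)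
def n6420 : Q := act 4 n4853
theorem D6420 : act 4 n4853 = n6420 := rfl
theorem F10601 : act 0 n6420 = n4865 := d3_1 D6420 (iv D4865) (iv F7927)
theorem F10602 : act 2 n6420 = n4855 := d10_1 D6420 (iv D4855) (iv F7928)
def n6421 : Q := act 4 n4854
theorem D6421 : act 4 n4854 = n6421 := rfl
theorem F10603 : act 0 n6421 = n4866 := d3_1 D6421 (iv D4866) (iv F7929)
theorem F10604 : act 1 n6421 = n4940 := d7_1 D6421 F8084 (iv F7930)
theorem F10605 : act 3 n6421 = n4878 := d12_1 D6421 (iv D4878) (iv D3637) D3638 (iv F7931)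
theorem F10606 : act 5 n6421 = n4855 := d14_2 D4854 D6421 (iv D4855) (iv D3616) D3615
def n6422 : Q := act 3 n4855
theorem D6422 : act 3 n4855 = n6422 := rfl
theorem F10607 : act 0 n6422 = n4867 := d2_1 D6422 (iv D4867) (iv F7932)
theorem F10608 : act 1 n6422 = n4939 := d6_1 D6422 (iv F10451) F10450
theorem F10609 : act 4 n6422 = n4856 := d12_2 D4855 D6422 (iv D4856) (iv D3617) (iv F5872)
theorem F10610 : act 5 n6422 = n4878 := d13_2 F10606 D6422 (iv F10605)
def n6423 : Q := act 4 n4857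
theorem D6423 : act 4 n4857 = n6423 := rfl
theorem F10611 : act 0 n6423 = n4859 := d3_1 D6423 (iv D4859) D4857
theorem F10612 : act 2 n6423 = n4869 := d10_1 D6423 (iv D4869) (iv F7936)
def n6424 : Q := act 4 n4858
theorem D6424 : act 4 n4858 = n6424 := rfl
theorem F10613 : act 1 n6424 = n4861 := d7_1 D6424 (iv D4861) (iv F7937)
def n6425 : Q := act 3 n4859
theorem D6425 : act 3 n4859 = n6425 := rfl
theorem F10614 : act 1 n6425 = n4863 := d6_1 D6425 (iv D4863) (iv F7938)
def n6426 : Q := act 1 n4860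
theorem D6426 : act 1 n4860 = n6426 := rfl
def n6427 : Q := act 4 n4860
theorem D6427 : act 4 n4860 = n6427 := rfl
theorem F10615 : act 2 n6427 = n4861 := d10_1 D6427 (iv D4861) D4860
def n6428 : Q := act 3 n4861
theorem D6428 : act 3 n4861 = n6428 := rfl
theorem F10616 : act 4 n6428 = n4863 := d12_2 D4861 D6428 (iv D4863) (iv D3620) D3619
def n6429 : Q := act 5 n4861
theorem D6429 : act 5 n4861 = n6429 := rfl
def n6430 : Q := act 4 n4862
theorem D6430 : act 4 n4862 = n6430 := rfl
def n6431 : Q := act 5 n4863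
theorem D6431 : act 5 n4863 = n6431 := rfl
theorem F10617 : act 3 n6431 = n4864 := d13_1 D6431 (iv D4864) D4863
def n6432 : Q := act 4 n4864
theorem D6432 : act 4 n4864 = n6432 := rfl
theorem F10618 : act 2 n6432 = n4866 := d10_1 D6432 (iv D4866) (iv F7941)
theorem F10619 : act 5 n6432 = n4865 := d14_2 D4864 D6432 (iv D4865) (iv D3621) D3620
def n6433 : Q := act 3 n4865
theorem D6433 : act 3 n4865 = n6433 := rfl
def n6434 : Q := act 2 n4867
theorem D6434 : act 2 n4867 = n6434 := rfl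
theorem F10620 : act 1 n6434 = n4933 := d5_1 D6434 F8072 F6024 (iv F5889) (iv F7946)
theorem F10621 : act 4 n6434 = n4868 := d10_2 (iv F7947) D6434 (iv D4868)
theorem F10622 : act 5 n6434 = n4879 := d11_2 (iv F7948) D6434 F7977
def n6435 : Q := act 1 n4868
theorem D6435 : act 1 n4868 = n6435 := rfl
theorem F10623 : act 2 n6435 = n4870 := d5_2 D4868 D6435 (iv D4870) (iv D3629) (iv F5882)
theorem F10624 : act 4 n6435 = n4933 := d7_2 F10621 D6435 (iv F10620)
theorem F10625 : act 5 n6435 = n4880 := d8_2 (iv F7949) D6435 (iv D4880)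
def n6436 : Q := act 3 n4868
theorem D6436 : act 3 n4868 = n6436 := rfl
theorem F10626 : act 5 n6436 = n4881 := d13_2 (iv F7949) D6436 (iv D4881)
def n6437 : Q := act 0 n4870
theorem D6437 : act 0 n4870 = n6437 := rfl
theorem F10627 : act 1 n6437 = n4957 := d0_2 D4870 D6437 F8110 F6062 (iv F5892)
theorem F10628 : act 3 n6437 = n5815 := d2_2 (iv F7952) D6437 F9564
theorem F10629 : act 4 n6437 = n4929 := d3_2 (iv F7953) D6437 F8064
theorem F10630 : act 5 n6437 = n4882 := d4_2 (iv F7954) D6437 (iv D4882)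
def n6438 : Q := act 3 n4871
theorem D6438 : act 3 n4871 = n6438 := rfl
theorem F10631 : act 0 n6438 = n4872 := d2_1 D6438 (iv D4872) D4871
theorem F10632 : act 1 n6438 = n6407 := d6_1 D6438 (iv D6407) (iv F7955)
theorem F10633 : act 4 n6438 = n5527 := d12_2 (iv F7957) D6438 F9098 (iv D4869) (iv F5905)
theorem F10634 : act 5 n6438 = n4884 := d13_2 (iv F7958) D6438 (iv D4884)
def n6439 : Q := act 2 n4872
theorem D6439 : act 2 n4872 = n6439 := rfl
theorem F10635 : act 1 n6439 = n4958 := d5_1 D6439 (iv D4958) F6060 (iv F5900) (iv F7959)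
theorem F10636 : act 4 n6439 = n5442 := d10_2 (iv F7960) D6439 F8982
theorem F10637 : act 5 n6439 = n4885 := d11_2 (iv F7961) D6439 (iv D4885)
def n6440 : Q := act 1 n4873
theorem D6440 : act 1 n4873 = n6440 := rfl
theorem F10638 : act 0 n6440 = n6416 := d0_1 D6440 F10595 F7927 (iv F5910) (iv F7962)
theorem F10639 : act 2 n6440 = n6403 := d5_2 D4873 D6440 (iv D6403) (iv D4843) (iv F5908)
theorem F10640 : act 5 n6440 = n6413 := d8_2 (iv F7963) D6440 F10591
def n6441 : Q := act 3 n4873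
theorem D6441 : act 3 n4873 = n6441 := rfl
theorem F10641 : act 0 n6441 = n4875 := d2_1 D6441 (iv D4875) (iv F7962)
theorem F10642 : act 2 n6441 = n5172 := d9_1 D6441 F8486 F6317 F4629 (iv F4304) F4305 (iv F5876) D4858 (iv F8464) (iv D5161) (iv D3864) (iv D2858) (iv F4308) D3633 D4873
theorem F10643 : act 5 n6441 = n5170 := d13_2 (iv F7963) D6441 F8484
def n6442 : Q := act 4 n4873
theorem D6442 : act 4 n4873 = n6442 := rfl
theorem F10644 : act 0 n6442 = n4876 := d3_1 D6442 (iv D4876) (iv F7962)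
theorem F10645 : act 2 n6442 = n4874 := d10_1 D6442 (iv D4874) D4873
def n6443 : Q := act 5 n4874
theorem D6443 : act 5 n4874 = n6443 := rfl
theorem F10646 : act 0 n6443 = n4877 := d4_1 D6443 (iv D4877) (iv F7964)
theorem F10647 : act 1 n6443 = n6406 := d8_1 D6443 (iv D6406) (iv F7965)
theorem F10648 : act 3 n6443 = n4890 := d13_1 D6443 (iv D4890) (iv F7966)
theorem F10649 : act 4 n6443 = n5629 := d14_1 D6443 F9290 (iv D4869) (iv F5909) D4874
def n6444 : Q := act 2 n4875
theorem D6444 : act 2 n4875 = n6444 := rfl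
theorem F10650 : act 0 n6444 = n5172 := d1_1 D6444 (iv F10642) F10641
theorem F10651 : act 3 n6444 = n5163 := d9_2 D4875 D6444 F8468 F6310 (iv F5904) F5905 (iv F7936) (iv F8484) (iv D5170) (iv D3869) (iv D2860) (iv D2084) (iv F3160) D2674 D3634
theorem F10652 : act 5 n6444 = n5161 := d11_2 (iv F7968) D6444 F8464
def n6445 : Q := act 4 n4875
theorem D6445 : act 4 n4875 = n6445 := rfl
theorem F10653 : act 1 n6445 = n6430 := d7_1 D6445 (iv D6430) (iv F7967)
def n6446 : Q := act 3 n4876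
theorem D6446 : act 3 n4876 = n6446 := rfl
theorem F10654 : act 1 n6446 = n6433 := d6_1 D6446 (iv D6433) (iv F7969)
def n6447 : Q := act 5 n4876
theorem D6447 : act 5 n4876 = n6447 := rfl
theorem F10655 : act 1 n6447 = n6432 := d8_1 D6447 F10619 (iv F7969)
theorem F10656 : act 2 n6447 = n4877 := d11_1 D6447 (iv D4877) (iv F7970)
theorem F10657 : act 4 n6447 = n5630 := d14_1 D6447 F9292 (iv D4859) (iv F5911) D4876
def n6448 : Q := act 3 n4879
theorem D6448 : act 3 n4879 = n6448 := rfl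
theorem F10658 : act 1 n6448 = n4932 := d6_1 D6448 (iv D4932) (iv F7976)
def n6449 : Q := act 0 n4880
theorem D6449 : act 0 n4880 = n6449 := rfl
theorem F10659 : act 1 n6449 = n5489 := d0_2 D4880 D6449 (iv F10522) F10523 F7870
theorem F10660 : act 2 n6449 = n4882 := d1_2 (iv F7978) D6449 (iv D4882)
theorem F10661 : act 4 n6449 = n4919 := d3_2 (iv F7979) D6449 (iv D4919)
def n6450 : Q := act 3 n4880
theorem D6450 : act 3 n4880 = n6450 := rfl
theorem F10662 : act 1 n6450 = n4881 := d6_1 D6450 (iv D4881) D4880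
def n6451 : Q := act 2 n4881
theorem D6451 : act 2 n4881 = n6451 := rfl
def n6452 : Q := act 3 n4882
theorem D6452 : act 3 n4882 = n6452 := rfl
theorem F10663 : act 0 n6452 = n4883 := d2_1 D6452 (iv D4883) D4882
theorem F10664 : act 1 n6452 = n4956 := d6_1 D6452 (iv D4956) (iv F7980)
theorem F10665 : act 4 n6452 = n4930 := d12_2 (iv F7981) D6452 (iv D4930) (iv D3685) (iv F5995)
theorem F10666 : act 5 n6452 = n5815 := d13_2 F10630 D6452 (iv F10628)
def n6453 : Q := act 2 n4883
theorem D6453 : act 2 n4883 = n6453 := rfl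
theorem F10667 : act 1 n6453 = n6412 := d5_1 D6453 (iv D6412) F7921 (iv F5936) (iv F7982)
theorem F10668 : act 4 n6453 = n4934 := d10_2 (iv F7983) D6453 (iv D4934)
theorem F10669 : act 5 n6453 = n5821 := d11_2 (iv F7984) D6453 F9568
def n6454 : Q := act 2 n4884
theorem D6454 : act 2 n4884 = n6454 := rfl
theorem F10670 : act 0 n6454 = n4885 := d1_1 D6454 (iv D4885) (iv F7985)
def n6455 : Q := act 1 n4885
theorem D6455 : act 1 n4885 = n6455 := rfl
theorem F10671 : act 2 n6455 = n4886 := d5_2 D4885 D6455 (iv D4886) (iv D3647) (iv F5939)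
theorem F10672 : act 4 n6455 = n5620 := d7_2 F8172 D6455 F9274
theorem F10673 : act 5 n6455 = n4958 := d8_2 F10637 D6455 (iv F10635)
def n6456 : Q := act 3 n4885
theorem D6456 : act 3 n4885 = n6456 := rfl
def n6457 : Q := act 0 n4886
theorem D6457 : act 0 n4886 = n6457 := rfl
theorem F10674 : act 1 n6457 = n5815 := d0_2 D4886 D6457 F9564 F7145 (iv F5940)
theorem F10675 : act 3 n6457 = n4957 := d2_2 (iv F7986) D6457 F8110
theorem F10676 : act 4 n6457 = n5601 := d3_2 (iv F7987) D6457 F9243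
theorem F10677 : act 5 n6457 = n4956 := d4_2 (iv F7988) D6457 F8108
def n6458 : Q := act 3 n4887
theorem D6458 : act 3 n4887 = n6458 := rfl
theorem F10678 : act 0 n6458 = n5310 := d2_1 D6458 (iv F9476) F9474
theorem F10679 : act 1 n6458 = n4888 := d6_1 D6458 (iv D4888) D4887
theorem F10680 : act 2 n6458 = n5021 := d9_1 D6458 (iv F10106) F10105 F7576 (iv F6415) F6416 (iv F7182) D5853 (iv F9613) F10097 F10096 F7579 (iv F7181) (iv F9520) F9519
theorem F10681 : act 5 n6458 = n5189 := d13_2 F9608 D6458 F9609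
def n6459 : Q := act 4 n4887
theorem D6459 : act 4 n4887 = n6459 := rfl
theorem F10682 : act 1 n6459 = n4889 := d7_1 D6459 (iv D4889) D4887
def n6460 : Q := act 4 n4888
theorem D6460 : act 4 n4888 = n6460 := rfl
theorem F10683 : act 0 n6460 = n4892 := d3_1 D6460 (iv D4892) (iv F7989)
theorem F10684 : act 2 n6460 = n5020 := d10_1 D6460 (iv D5020) (iv F7990)
def n6461 : Q := act 3 n4889
theorem D6461 : act 3 n4889 = n6461 := rfl
theorem F10685 : act 0 n6461 = n4893 := d2_1 D6461 (iv D4893) (iv F7992)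
def n6462 : Q := act 5 n4889
theorem D6462 : act 5 n4889 = n6462 := rfl
theorem F10686 : act 0 n6462 = n4894 := d4_1 D6462 (iv D4894) (iv F7992)
theorem F10687 : act 2 n6462 = n4890 := d11_1 D6462 (iv D4890) (iv F7993)
def n6463 : Q := act 1 n4891
theorem D6463 : act 1 n4891 = n6463 := rfl
theorem F10688 : act 0 n6463 = n5010 := d0_1 D6463 F8176 F6106 (iv F6119) (iv F7995)
theorem F10689 : act 2 n6463 = n5307 := d5_2 D4891 D6463 F8736 (iv F7088) F7086
theorem F10690 : act 3 n6463 = n5009 := d6_2 (iv F7996) D6463 F8173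
theorem F10691 : act 5 n6463 = n5183 := d8_2 (iv F7997) D6463 F8501
def n6464 : Q := act 4 n4891
theorem D6464 : act 4 n4891 = n6464 := rfl
theorem F10692 : act 0 n6464 = n5020 := d3_1 D6464 (iv D5020) (iv F7995)
theorem F10693 : act 2 n6464 = n4892 := d10_1 D6464 (iv D4892) D4891
def n6465 : Q := act 3 n4892
theorem D6465 : act 3 n4892 = n6465 := rfl
theorem F10694 : act 4 n6465 = n4893 := d12_2 D4892 D6465 (iv D4893) (iv D3651) D3650
def n6466 : Q := act 5 n4892
theorem D6466 : act 5 n4892 = n6466 := rfl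
def n6467 : Q := act 2 n4893
theorem D6467 : act 2 n4893 = n6467 := rfl
def n6468 : Q := act 5 n4893
theorem D6468 : act 5 n4893 = n6468 := rfl
theorem F10695 : act 3 n6468 = n4894 := d13_1 D6468 (iv D4894) D4893
def n6469 : Q := act 2 n4895
theorem D6469 : act 2 n4895 = n6469 := rfl
theorem F10696 : act 0 n6469 = n4897 := d1_1 D6469 (iv D4897) (iv F7999)
theorem F10697 : act 5 n6469 = n5816 := d11_2 F8000 D6469 F9565
def n6470 : Q := act 3 n4897
theorem D6470 : act 3 n4897 = n6470 := rfl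
theorem F10698 : act 1 n6470 = n5820 := d6_1 D6470 F9567 (iv F8003)
theorem F10699 : act 5 n6470 = n5817 := d13_2 (iv F8004) D6470 (iv D5817)
def n6471 : Q := act 4 n4898
theorem D6471 : act 4 n4898 = n6471 := rfl
theorem F10700 : act 0 n6471 = n4901 := d3_1 D6471 (iv D4901) (iv F8005)
theorem F10701 : act 1 n6471 = n4928 := d7_1 D6471 (iv D4928) (iv F8006)
theorem F10702 : act 2 n6471 = n5381 := d10_1 D6471 (iv D5381) (iv F8007)
def n6472 : Q := act 3 n4899
theorem D6472 : act 3 n4899 = n6472 := rfl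
theorem F10703 : act 0 n6472 = n4902 := d2_1 D6472 (iv D4902) (iv F8009)
theorem F10704 : act 1 n6472 = n5785 := d6_1 D6472 (iv D5785) (iv F8010)
def n6473 : Q := act 5 n4899
theorem D6473 : act 5 n4899 = n6473 := rfl
theorem F10705 : act 0 n6473 = n4903 := d4_1 D6473 (iv D4903) (iv F8009)
theorem F10706 : act 1 n6473 = n5786 := d8_1 D6473 (iv D5786) (iv F8010)
theorem F10707 : act 2 n6473 = n4900 := d11_1 D6473 (iv D4900) (iv F8011)
theorem F10708 : act 4 n6473 = n5824 := d14_1 D6473 (iv D5824) (iv D4377) (iv F5955) D4899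
def n6474 : Q := act 3 n4901
theorem D6474 : act 3 n4901 = n6474 := rfl
theorem F10709 : act 4 n6474 = n4902 := d12_2 D4901 D6474 (iv D4902) (iv D3659) D3658
def n6475 : Q := act 5 n4901
theorem D6475 : act 5 n4901 = n6475 := rfl
def n6476 : Q := act 2 n4902
theorem D6476 : act 2 n4902 = n6476 := rfl
def n6477 : Q := act 5 n4902
theorem D6477 : act 5 n4902 = n6477 := rfl
theorem F10710 : act 3 n6477 = n4903 := d13_1 D6477 (iv D4903) D4902
def n6478 : Q := act 3 n4904
theorem D6478 : act 3 n4904 = n6478 := rfl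
theorem F10711 : act 0 n6478 = n5517 := d2_1 D6478 (iv D5517) (iv F8017)
theorem F10712 : act 1 n6478 = n5049 := d6_1 D6478 (iv D5049) (iv F8018)
theorem F10713 : act 5 n6478 = n5037 := d13_2 (iv F8019) D6478 (iv D5037)
def n6479 : Q := act 3 n4905
theorem D6479 : act 3 n4905 = n6479 := rfl
theorem F10714 : act 0 n6479 = n4906 := d2_1 D6479 (iv D4906) (iv F8020)
theorem F10715 : act 1 n6479 = n5781 := d6_1 D6479 (iv D5781) (iv F8021)
theorem F10716 : act 4 n6479 = n5767 := d12_2 D4905 D6479 (iv D5767) (iv D4335) (iv F5971)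
def n6480 : Q := act 5 n4905
theorem D6480 : act 5 n4905 = n6480 := rfl
theorem F10717 : act 0 n6480 = n4907 := d4_1 D6480 (iv D4907) (iv F8020)
theorem F10718 : act 1 n6480 = n5782 := d8_1 D6480 (iv D5782) (iv F8021)
theorem F10719 : act 2 n6480 = n4911 := d11_1 D6480 (iv D4911) (iv F8022)
theorem F10720 : act 4 n6480 = n5826 := d14_1 D6480 (iv D5826) (iv D4379) (iv F5972) D4905
def n6481 : Q := act 2 n4906
theorem D6481 : act 2 n4906 = n6481 := rfl
theorem F10721 : act 4 n6481 = n5769 := d10_2 (iv F8024) D6481 (iv D5769)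
def n6482 : Q := act 5 n4906
theorem D6482 : act 5 n4906 = n6482 := rfl
theorem F10722 : act 1 n6482 = n4909 := d8_1 D6482 (iv D4909) (iv F8023)
theorem F10723 : act 3 n6482 = n4907 := d13_1 D6482 (iv D4907) D4906
def n6483 : Q := act 1 n4908
theorem D6483 : act 1 n4908 = n6483 := rfl
theorem F10724 : act 4 n6483 = n5773 := d7_2 (iv F8029) D6483 (iv D5773)
def n6484 : Q := act 3 n4908
theorem D6484 : act 3 n4908 = n6484 := rfl
theorem F10725 : act 0 n6484 = n5216 := d2_1 D6484 F8546 (iv F8028)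
theorem F10726 : act 2 n6484 = n5203 := d9_1 D6484 F8522 F6348 (iv F5967) F5966 (iv F7123) (iv F8543) (iv D5215) (iv D3906) (iv D2884) F3402 (iv F3207) (iv F4363) D3665 D4908
theorem F10727 : act 5 n6484 = n5202 := d15_8 (iv D3906) (iv D2884) F3402 (iv F3207) (iv F4363) D3665 D4908 D6484 F8519
def n6485 : Q := act 5 n4908
theorem D6485 : act 5 n4908 = n6485 := rfl
theorem F10728 : act 0 n6485 = n5215 := d4_1 D6485 F8544 (iv F8028)
theorem F10729 : act 2 n6485 = n4909 := d11_1 D6485 (iv D4909) D4908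
theorem F10730 : act 3 n6485 = n5202 := d13_1 D6485 (iv F10727) (iv D6484)
def n6486 : Q := act 4 n4909
theorem D6486 : act 4 n4909 = n6486 := rfl
theorem F10731 : act 0 n6486 = n5794 := d3_1 D6486 (iv D5794) (iv F8030)
theorem F10732 : act 3 n6486 = n5832 := d12_1 D6486 (iv D5832) F7155 (iv F5979) (iv F8031)
theorem F10733 : act 5 n6486 = n5774 := d14_2 D4909 D6486 (iv D5774) (iv D4340) (iv F5976)
def n6487 : Q := act 2 n4910
theorem D6487 : act 2 n4910 = n6487 := rfl
theorem F10734 : act 0 n6487 = n4912 := d1_1 D6487 (iv D4912) (iv F8032)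
def n6488 : Q := act 5 n4910
theorem D6488 : act 5 n4910 = n6488 := rfl
theorem F10735 : act 0 n6488 = n4913 := d4_1 D6488 (iv D4913) (iv F8032)
theorem F10736 : act 3 n6488 = n4911 := d13_1 D6488 (iv D4911) D4910
def n6489 : Q := act 1 n4912
theorem D6489 : act 1 n4912 = n6489 := rfl
theorem F10737 : act 2 n6489 = n4914 := d5_2 D4912 D6489 (iv D4914) (iv D3670) (iv F5981)
def n6490 : Q := act 3 n4912
theorem D6490 : act 3 n4912 = n6490 := rfl
def n6491 : Q := act 5 n4912
theorem D6491 : act 5 n4912 = n6491 := rfl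
theorem F10738 : act 2 n6491 = n4913 := d11_1 D6491 (iv D4913) D4912
def n6492 : Q := act 4 n4913
theorem D6492 : act 4 n4913 = n6492 := rfl
theorem F10739 : act 1 n6492 = n4915 := d7_1 D6492 (iv D4915) (iv F8034)
def n6493 : Q := act 0 n4914
theorem D6493 : act 0 n4914 = n6493 := rfl
def n6494 : Q := act 1 n4916
theorem D6494 : act 1 n4916 = n6494 := rfl
theorem F10740 : act 2 n6494 = n5522 := d5_2 D4916 D6494 F9094 F6767 (iv F5984)
theorem F10741 : act 4 n6494 = n5101 := d7_2 (iv F8037) D6494 F8362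
theorem F10742 : act 5 n6494 = n4917 := d8_2 (iv F8038) D6494 (iv D4917)
def n6495 : Q := act 0 n4917
theorem D6495 : act 0 n4917 = n6495 := rfl
theorem F10743 : act 1 n6495 = n5047 := d0_2 D4917 D6495 F8246 F6159 (iv F5987)
theorem F10744 : act 2 n6495 = n5520 := d1_2 (iv F8039) D6495 F9092
theorem F10745 : act 4 n6495 = n4918 := d3_2 (iv F8040) D6495 (iv D4918)
def n6496 : Q := act 1 n4920
theorem D6496 : act 1 n4920 = n6496 := rfl
theorem F10746 : act 2 n6496 = n5406 := d5_2 D4920 D6496 F8906 F6639 (iv F5998)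
theorem F10747 : act 4 n6496 = n5400 := d7_2 (iv F8050) D6496 (iv D5400)
def n6497 : Q := act 4 n4921
theorem D6497 : act 4 n4921 = n6497 := rfl
theorem F10748 : act 0 n6497 = n4927 := d3_1 D6497 (iv D4927) (iv F8051)
theorem F10749 : act 1 n6497 = n5409 := d7_1 D6497 (iv D5409) (iv F8052)
theorem F10750 : act 5 n6497 = n5403 := d14_2 D4921 D6497 (iv D5403) (iv D4053) (iv F5999)
def n6498 : Q := act 1 n4922
theorem D6498 : act 1 n4922 = n6498 := rfl
theorem F10751 : act 2 n6498 = n5477 := d5_2 D4922 D6498 (iv D5477) (iv D4109) (iv F6004)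
theorem F10752 : act 4 n6498 = n4924 := d7_2 (iv F8055) D6498 (iv D4924)
def n6499 : Q := act 3 n4922
theorem D6499 : act 3 n4922 = n6499 := rfl
theorem F10753 : act 0 n6499 = n5401 := d2_1 D6499 (iv D5401) (iv F8054)
theorem F10754 : act 2 n6499 = n5292 := d15_2 D4922 D6499 (iv D5292) F6489 F4754 (iv F4874) (iv F6631) (iv D4053) (iv F6003)
theorem F10755 : act 5 n5415 = n6499 := d11_0 F10754 F8704 D5415
def n6500 : Q := act 5 n4922
theorem D6500 : act 5 n4922 = n6500 := rfl
theorem F10756 : act 0 n6500 = n5402 := d4_1 D6500 (iv D5402) (iv F8054)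
theorem F10757 : act 2 n6500 = n4923 := d11_1 D6500 (iv D4923) D4922
theorem F10758 : act 3 n6500 = n5415 := d13_1 D6500 F10755 (iv D6499)
def n6501 : Q := act 4 n4923
theorem D6501 : act 4 n4923 = n6501 := rfl
theorem F10759 : act 0 n6501 = n5403 := d3_1 D6501 (iv D5403) (iv F8056)
theorem F10760 : act 1 n6501 = n5478 := d7_1 D6501 (iv D5478) (iv F8057)
theorem F10761 : act 3 n6501 = n5729 := d12_1 D6501 (iv D5729) F7046 (iv F6009) (iv F8058)
theorem F10762 : act 5 n6501 = n4927 := d14_2 D4923 D6501 (iv D4927) (iv D3682) (iv F6005)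
def n6502 : Q := act 0 n4924
theorem D6502 : act 0 n4924 = n6502 := rfl
theorem F10763 : act 2 n6502 = n5860 := d1_2 (iv F8059) D6502 (iv D5860)
def n6503 : Q := act 3 n4924
theorem D6503 : act 3 n4924 = n6503 := rfl
theorem F10764 : act 1 n6503 = n4925 := d6_1 D6503 (iv D4925) D4924
def n6504 : Q := act 5 n4924
theorem D6504 : act 5 n4924 = n6504 := rfl
theorem F10765 : act 1 n6504 = n4926 := d8_1 D6504 (iv D4926) D4924
theorem F10766 : act 2 n6504 = n5862 := d11_1 D6504 (iv D5862) (iv F8059)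
def n6505 : Q := act 4 n4925
theorem D6505 : act 4 n4925 = n6505 := rfl
def n6506 : Q := act 4 n4926
theorem D6506 : act 4 n4926 = n6506 := rfl
theorem F10767 : act 2 n6506 = n4927 := d10_1 D6506 (iv D4927) (iv F8060)
def n6507 : Q := act 3 n4928
theorem D6507 : act 3 n4928 = n6507 := rfl
theorem F10768 : act 0 n6507 = n4932 := d2_1 D6507 (iv D4932) (iv F8062)
theorem F10769 : act 4 n6507 = n5785 := d12_2 D4928 D6507 (iv D5785) (iv D4349) (iv F6013)
def n6508 : Q := act 5 n4928
theorem D6508 : act 5 n4928 = n6508 := rfl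
theorem F10770 : act 0 n6508 = n4933 := d4_1 D6508 (iv D4933) (iv F8062)
theorem F10771 : act 2 n6508 = n4929 := d11_1 D6508 (iv D4929) (iv F8063)
def n6509 : Q := act 2 n4930
theorem D6509 : act 2 n4930 = n6509 := rfl
theorem F10772 : act 0 n6509 = n4934 := d1_1 D6509 (iv D4934) (iv F8067)
theorem F10773 : act 5 n6509 = n5584 := d11_2 (iv F8069) D6509 (iv D5584)
def n6510 : Q := act 3 n4931
theorem D6510 : act 3 n4931 = n6510 := rfl
theorem F10774 : act 0 n6510 = n5785 := d2_1 D6510 (iv D5785) (iv F8070)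
theorem F10775 : act 4 n6510 = n4932 := d12_2 D4931 D6510 (iv D4932) (iv D3687) D3686
def n6511 : Q := act 5 n4931
theorem D6511 : act 5 n4931 = n6511 := rfl
theorem F10776 : act 0 n6511 = n5786 := d4_1 D6511 (iv D5786) (iv F8070)
theorem F10777 : act 2 n6511 = n5782 := d11_1 D6511 (iv D5782) (iv F8071)
def n6512 : Q := act 2 n4932
theorem D6512 : act 2 n4932 = n6512 := rfl
def n6513 : Q := act 5 n4932
theorem D6513 : act 5 n4932 = n6513 := rfl
theorem F10778 : act 3 n6513 = n4933 := d13_1 D6513 (iv D4933) D4932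
def n6514 : Q := act 3 n4934
theorem D6514 : act 3 n4934 = n6514 := rfl
theorem F10779 : act 5 n6514 = n5591 := d13_2 (iv F8073) D6514 (iv D5591)
def n6515 : Q := act 3 n4935
theorem D6515 : act 3 n4935 = n6515 := rfl
theorem F10780 : act 0 n6515 = n5490 := d2_1 D6515 (iv D5490) (iv F8074)
theorem F10781 : act 1 n6515 = n4936 := d6_1 D6515 (iv D4936) (iv F8075)
theorem F10782 : act 4 n6515 = n5487 := d12_2 D4935 D6515 (iv D5487) (iv D4117) (iv F6028)
def n6516 : Q := act 5 n4935
theorem D6516 : act 5 n4935 = n6516 := rfl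
theorem F10783 : act 0 n6516 = n5491 := d4_1 D6516 (iv D5491) (iv F8074)
theorem F10784 : act 1 n6516 = n4937 := d8_1 D6516 (iv D4937) (iv F8075)
def n6517 : Q := act 2 n4936
theorem D6517 : act 2 n4936 = n6517 := rfl
theorem F10785 : act 0 n6517 = n4949 := d1_1 D6517 (iv D4949) (iv F8076)
theorem F10786 : act 3 n6517 = n4976 := d15_1 D6517 F8130 F6076 F4439 (iv F4420) (iv F6051) (iv F8099) (iv D4950) (iv F8076)
theorem F10787 : act 5 n4975 = n6517 := d13_0 F10786 (iv D4976) D4975
def n6518 : Q := act 5 n4936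
theorem D6518 : act 5 n4936 = n6518 := rfl
theorem F10788 : act 0 n6518 = n4950 := d4_1 D6518 (iv D4950) (iv F8076)
theorem F10789 : act 2 n6518 = n4975 := d11_1 D6518 F10787 (iv D6517)
theorem F10790 : act 3 n6518 = n4937 := d13_1 D6518 (iv D4937) D4936
def n6519 : Q := act 4 n4937
theorem D6519 : act 4 n4937 = n6519 := rfl
theorem F10791 : act 0 n6519 = n4951 := d3_1 D6519 (iv D4951) (iv F8077)
theorem F10792 : act 2 n6519 = n4939 := d10_1 D6519 (iv D4939) (iv F8078)
theorem F10793 : act 5 n6519 = n4938 := d14_2 D4937 D6519 (iv D4938) (iv D3692) D3691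
def n6520 : Q := act 3 n4938
theorem D6520 : act 3 n4938 = n6520 := rfl
theorem F10794 : act 0 n6520 = n4952 := d2_1 D6520 (iv D4952) (iv F8079)
def n6521 : Q := act 2 n4940
theorem D6521 : act 2 n4940 = n6521 := rfl
theorem F10795 : act 0 n6521 = n4953 := d1_1 D6521 (iv D4953) (iv F8083)
theorem F10796 : act 4 n6521 = n4941 := d10_2 (iv F8084) D6521 (iv D4941)
def n6522 : Q := act 1 n4941
theorem D6522 : act 1 n4941 = n6522 := rfl
theorem F10797 : act 5 n6522 = n4967 := d8_2 (iv F8086) D6522 (iv D4967)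
def n6523 : Q := act 3 n4942
theorem D6523 : act 3 n4942 = n6523 := rfl
theorem F10798 : act 0 n6523 = n4944 := d2_1 D6523 (iv D4944) (iv F8087)
theorem F10799 : act 1 n6523 = n5490 := d6_1 D6523 (iv D5490) (iv F8088)
theorem F10800 : act 4 n6523 = n5389 := d12_2 D4942 D6523 (iv D5389) (iv D4041) F6042
def n6524 : Q := act 5 n4942
theorem D6524 : act 5 n4942 = n6524 := rfl
theorem F10801 : act 0 n6524 = n4945 := d4_1 D6524 (iv D4945) (iv F8087)
theorem F10802 : act 1 n6524 = n5491 := d8_1 D6524 (iv D5491) (iv F8088)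
theorem F10803 : act 2 n6524 = n4957 := d11_1 D6524 (iv D4957) (iv F8089)
theorem F10804 : act 4 n6524 = n5385 := d14_1 D6524 (iv D5385) (iv D4038) (iv F6041) D4942
def n6525 : Q := act 3 n4943
theorem D6525 : act 3 n4943 = n6525 := rfl
theorem F10805 : act 0 n6525 = n5389 := d2_1 D6525 (iv D5389) (iv F8090)
theorem F10806 : act 1 n6525 = n4946 := d6_1 D6525 (iv D4946) (iv F8091)
theorem F10807 : act 4 n6525 = n4944 := d12_2 D4943 D6525 (iv D4944) (iv D3698) D3697
def n6526 : Q := act 5 n4943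
theorem D6526 : act 5 n4943 = n6526 := rfl
theorem F10808 : act 0 n6526 = n5388 := d4_1 D6526 F8881 (iv F8090)
theorem F10809 : act 1 n6526 = n4947 := d8_1 D6526 (iv D4947) (iv F8091)
theorem F10810 : act 2 n6526 = n5378 := d11_1 D6526 F8862 (iv F8092)
theorem F10811 : act 4 n6526 = n5377 := d14_1 D6526 (iv D5377) (iv D4032) (iv F6046) D4943
def n6527 : Q := act 2 n4944
theorem D6527 : act 2 n4944 = n6527 := rfl
def n6528 : Q := act 5 n4944
theorem D6528 : act 5 n4944 = n6528 := rfl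
theorem F10812 : act 1 n6528 = n4950 := d8_1 D6528 (iv D4950) (iv F8093)
theorem F10813 : act 3 n6528 = n4945 := d13_1 D6528 (iv D4945) D4944
def n6529 : Q := act 2 n4946
theorem D6529 : act 2 n4946 = n6529 := rfl
theorem F10814 : act 4 n6529 = n4949 := d10_2 (iv F8097) D6529 (iv D4949)
def n6530 : Q := act 5 n4946
theorem D6530 : act 5 n4946 = n6530 := rfl
theorem F10815 : act 3 n6530 = n4947 := d13_1 D6530 (iv D4947) D4946
def n6531 : Q := act 4 n4947
theorem D6531 : act 4 n4947 = n6531 := rfl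
theorem F10816 : act 1 n6531 = n5377 := d7_1 D6531 (iv F10811) F10809
theorem F10817 : act 5 n6531 = n4948 := d14_2 D4947 D6531 (iv D4948) (iv D3700) D3699
def n6532 : Q := act 3 n4948
theorem D6532 : act 3 n4948 = n6532 := rfl
theorem F10818 : act 1 n6532 = n5376 := d6_1 D6532 (iv D5376) (iv F8098)
theorem F10819 : act 4 n6532 = n4952 := d12_2 D4948 D6532 (iv D4952) (iv D3703) (iv F6050)
def n6533 : Q := act 1 n4949
theorem D6533 : act 1 n4949 = n6533 := rfl
def n6534 : Q := act 3 n4949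
theorem D6534 : act 3 n4949 = n6534 := rfl
theorem F10820 : act 0 n6534 = n4976 := d2_1 D6534 (iv F10786) F10785
theorem F10821 : act 2 n6534 = n4966 := d9_1 D6534 F8123 F6071 (iv F6035) (iv F8078) (iv F10790) F10789 (iv D4975) (iv D3721) (iv D2752) F3263 (iv F3249) (iv F4416) D3701 D4949
theorem F10822 : act 5 n6534 = n4965 := d15_8 (iv D3721) (iv D2752) F3263 (iv F3249) (iv F4416) D3701 D4949 D6534 F8121
def n6535 : Q := act 5 n4949
theorem D6535 : act 5 n4949 = n6535 := rfl
theorem F10823 : act 0 n6535 = n4975 := d4_1 D6535 F10787 F10785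
theorem F10824 : act 2 n6535 = n4950 := d11_1 D6535 (iv D4950) D4949
theorem F10825 : act 3 n6535 = n4965 := d13_1 D6535 (iv F10822) (iv D6534)
def n6536 : Q := act 4 n4950
theorem D6536 : act 4 n4950 = n6536 := rfl
def n6537 : Q := act 3 n4951
theorem D6537 : act 3 n4951 = n6537 := rfl
theorem F10826 : act 1 n6537 = n5526 := d6_1 D6537 F9096 (iv F8100)
theorem F10827 : act 5 n6537 = n4952 := d13_2 (iv F8102) D6537 (iv D4952)
def n6538 : Q := act 2 n4952
theorem D6538 : act 2 n4952 = n6538 := rfl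
def n6539 : Q := act 3 n4953
theorem D6539 : act 3 n4953 = n6539 := rfl
def n6540 : Q := act 0 n4954
theorem D6540 : act 0 n4954 = n6540 := rfl
theorem F10828 : act 2 n6540 = n4959 := d1_2 (iv F8105) D6540 (iv D4959)
theorem F10829 : act 5 n6540 = n4978 := d4_2 (iv F8106) D6540 (iv D4978)
def n6541 : Q := act 3 n4954
theorem D6541 : act 3 n4954 = n6541 := rfl
theorem F10830 : act 1 n6541 = n4955 := d6_1 D6541 (iv D4955) D4954
theorem F10831 : act 5 n6541 = n4979 := d13_2 (iv F8106) D6541 (iv D4979)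
def n6542 : Q := act 4 n4955
theorem D6542 : act 4 n4955 = n6542 := rfl
def n6543 : Q := act 2 n4956
theorem D6543 : act 2 n4956 = n6543 := rfl
theorem F10832 : act 0 n6543 = n4958 := d1_1 D6543 (iv D4958) (iv F8108)
theorem F10833 : act 4 n6543 = n5441 := d10_2 (iv F8109) D6543 (iv D5441)
def n6544 : Q := act 3 n4958
theorem D6544 : act 3 n4958 = n6544 := rfl
def n6545 : Q := act 3 n4960
theorem D6545 : act 3 n4960 = n6545 := rfl
theorem F10834 : act 0 n6545 = n5272 := d2_1 D6545 (iv D5272) (iv F8114)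
theorem F10835 : act 1 n6545 = n4963 := d6_1 D6545 (iv D4963) (iv F8115)
theorem F10836 : act 4 n6545 = n4961 := d12_2 D4960 D6545 (iv D4961) (iv D3712) D3711
def n6546 : Q := act 5 n4960
theorem D6546 : act 5 n4960 = n6546 := rfl
theorem F10837 : act 0 n6546 = n5273 := d4_1 D6546 (iv D5273) (iv F8114)
theorem F10838 : act 1 n6546 = n4964 := d8_1 D6546 (iv D4964) (iv F8115)
def n6547 : Q := act 2 n4961
theorem D6547 : act 2 n4961 = n6547 := rfl
def n6548 : Q := act 5 n4961
theorem D6548 : act 5 n4961 = n6548 := rfl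
theorem F10839 : act 1 n6548 = n4966 := d8_1 D6548 (iv D4966) (iv F8116)
theorem F10840 : act 3 n6548 = n4962 := d13_1 D6548 (iv D4962) D4961
def n6549 : Q := act 2 n4963
theorem D6549 : act 2 n4963 = n6549 := rfl
theorem F10841 : act 0 n6549 = n4972 := d1_1 D6549 (iv D4972) (iv F8118)
theorem F10842 : act 4 n6549 = n4965 := d10_2 (iv F8119) D6549 (iv D4965)
def n6550 : Q := act 5 n4963
theorem D6550 : act 5 n4963 = n6550 := rfl
theorem F10843 : act 0 n6550 = n4973 := d4_1 D6550 (iv D4973) (iv F8118)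
theorem F10844 : act 3 n6550 = n4964 := d13_1 D6550 (iv D4964) D4963
def n6551 : Q := act 1 n4965
theorem D6551 : act 1 n4965 = n6551 := rfl
def n6552 : Q := act 4 n4966
theorem D6552 : act 4 n4966 = n6552 := rfl
theorem F10845 : act 0 n6552 = n4977 := d3_1 D6552 (iv D4977) (iv F8122)
def n6553 : Q := act 0 n4967
theorem D6553 : act 0 n4967 = n6553 := rfl
theorem F10846 : act 1 n6553 = n4978 := d0_2 D4967 D6553 (iv D4978) (iv D3723) (iv F6072)
def n6554 : Q := act 3 n4967
theorem D6554 : act 3 n4967 = n6554 := rfl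
theorem F10847 : act 1 n6554 = n4968 := d6_1 D6554 (iv D4968) D4967
def n6555 : Q := act 4 n4968
theorem D6555 : act 4 n4968 = n6555 := rfl
theorem F10848 : act 0 n6555 = n4981 := d3_1 D6555 (iv D4981) (iv F8124)
def n6556 : Q := act 3 n4969
theorem D6556 : act 3 n4969 = n6556 := rfl
theorem F10849 : act 1 n6556 = n4970 := d6_1 D6556 (iv D4970) (iv F8125)
def n6557 : Q := act 5 n4969
theorem D6557 : act 5 n4969 = n6557 := rfl
theorem F10850 : act 1 n6557 = n4971 := d8_1 D6557 (iv D4971) (iv F8125)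
theorem F10851 : act 2 n6557 = n5249 := d11_1 D6557 (iv D5249) (iv F8126)
def n6558 : Q := act 2 n4970
theorem D6558 : act 2 n4970 = n6558 := rfl
def n6559 : Q := act 5 n4970
theorem D6559 : act 5 n4970 = n6559 := rfl
theorem F10852 : act 3 n6559 = n4971 := d13_1 D6559 (iv D4971) D4970
def n6560 : Q := act 1 n4972
theorem D6560 : act 1 n4972 = n6560 := rfl
theorem F10853 : act 4 n6560 = n4974 := d7_2 (iv F8128) D6560 (iv D4974)
def n6561 : Q := act 3 n4972
theorem D6561 : act 3 n4972 = n6561 := rfl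
def n6562 : Q := act 5 n4972
theorem D6562 : act 5 n4972 = n6562 := rfl
theorem F10854 : act 2 n6562 = n4973 := d11_1 D6562 (iv D4973) D4972
def n6563 : Q := act 4 n4973
theorem D6563 : act 4 n4973 = n6563 := rfl
theorem F10855 : act 5 n6563 = n4977 := d14_2 D4973 D6563 (iv D4977) (iv D3722) (iv F6075)
def n6564 : Q := act 0 n4974
theorem D6564 : act 0 n4974 = n6564 := rfl
def n6565 : Q := act 3 n4974
theorem D6565 : act 3 n4974 = n6565 := rfl
theorem F10856 : act 1 n6565 = n4975 := d6_1 D6565 (iv D4975) D4974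
def n6566 : Q := act 5 n4974
theorem D6566 : act 5 n4974 = n6566 := rfl
theorem F10857 : act 1 n6566 = n4976 := d8_1 D6566 (iv D4976) D4974
def n6567 : Q := act 4 n4975
theorem D6567 : act 4 n4975 = n6567 := rfl
def n6568 : Q := act 4 n4976
theorem D6568 : act 4 n4976 = n6568 := rfl
theorem F10858 : act 2 n6568 = n4977 := d10_1 D6568 (iv D4977) (iv F8130)
def n6569 : Q := act 3 n4978
theorem D6569 : act 3 n4978 = n6569 := rfl
theorem F10859 : act 0 n6569 = n4979 := d2_1 D6569 (iv D4979) D4978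
def n6570 : Q := act 2 n4979
theorem D6570 : act 2 n4979 = n6570 := rfl
def n6571 : Q := act 4 n4979
theorem D6571 : act 4 n4979 = n6571 := rfl
theorem F10860 : act 1 n6571 = n4981 := d7_1 D6571 (iv D4981) (iv F8132)
def n6572 : Q := act 1 n4980
theorem D6572 : act 1 n4980 = n6572 := rfl
def n6573 : Q := act 4 n4980
theorem D6573 : act 4 n4980 = n6573 := rfl
theorem F10861 : act 2 n6573 = n4981 := d10_1 D6573 (iv D4981) D4980
def n6574 : Q := act 5 n4981
theorem D6574 : act 5 n4981 = n6574 := rfl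
def n6575 : Q := act 2 n4982
theorem D6575 : act 2 n4982 = n6575 := rfl
theorem F10862 : act 0 n6575 = n4983 := d1_1 D6575 (iv D4983) (iv F8133)
def n6576 : Q := act 3 n4983
theorem D6576 : act 3 n4983 = n6576 := rfl
theorem F10863 : act 1 n6576 = n6514 := d6_1 D6576 (iv D6514) (iv F8134)
def n6577 : Q := act 1 n4984
theorem D6577 : act 1 n4984 = n6577 := rfl
theorem F10864 : act 2 n6577 = n5903 := d5_2 D4984 D6577 (iv D5903) (iv D4438) (iv F6080)
def n6578 : Q := act 3 n4984
theorem D6578 : act 3 n4984 = n6578 := rfl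
theorem F10865 : act 0 n6578 = n4987 := d2_1 D6578 (iv D4987) (iv F8135)
theorem F10866 : act 2 n6578 = n5004 := d15_2 D4984 D6578 F8162 F6095 F4457 (iv F4446) (iv F6086) (iv D3730) (iv F6079)
theorem F10867 : act 5 n5002 = n6578 := d11_0 F10866 (iv D5004) D5002
def n6579 : Q := act 5 n4984
theorem D6579 : act 5 n4984 = n6579 := rfl
theorem F10868 : act 0 n6579 = n4988 := d4_1 D6579 (iv D4988) (iv F8135)
theorem F10869 : act 2 n6579 = n4985 := d11_1 D6579 (iv D4985) D4984
theorem F10870 : act 3 n6579 = n5002 := d13_1 D6579 F10867 (iv D6578)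
def n6580 : Q := act 4 n4985
theorem D6580 : act 4 n4985 = n6580 := rfl
theorem F10871 : act 0 n6580 = n4989 := d3_1 D6580 (iv D4989) (iv F8136)
theorem F10872 : act 1 n6580 = n5906 := d7_1 D6580 (iv D5906) (iv F8137)
theorem F10873 : act 3 n6580 = n6497 := d12_1 D6580 (iv D6497) F8053 (iv F6084) (iv F8138)
def n6581 : Q := act 0 n4986
theorem D6581 : act 0 n4986 = n6581 := rfl
theorem F10874 : act 2 n6581 = n4990 := d1_2 (iv F8139) D6581 (iv D4990)
def n6582 : Q := act 3 n4986
theorem D6582 : act 3 n4986 = n6582 := rfl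
theorem F10875 : act 1 n6582 = n4987 := d6_1 D6582 (iv D4987) D4986
def n6583 : Q := act 5 n4986
theorem D6583 : act 5 n4986 = n6583 := rfl
theorem F10876 : act 1 n6583 = n4988 := d8_1 D6583 (iv D4988) D4986
theorem F10877 : act 2 n6583 = n4992 := d11_1 D6583 (iv D4992) (iv F8139)
def n6584 : Q := act 2 n4987
theorem D6584 : act 2 n4987 = n6584 := rfl
theorem F10878 : act 0 n6584 = n5004 := d1_1 D6584 (iv F10866) F10865
theorem F10879 : act 3 n6584 = n4997 := d9_2 D4987 D6584 F8150 F6092 (iv F6083) (iv F8138) (iv F10869) F10870 (iv D5002) (iv D3738) (iv D2764) (iv D2016) (iv F3271) D2758 D3729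
theorem F10880 : act 5 n4996 = n6584 := d13_0 F10879 (iv D4997) D4996
def n6585 : Q := act 4 n4987
theorem D6585 : act 4 n4987 = n6585 := rfl
def n6586 : Q := act 5 n4987
theorem D6586 : act 5 n4987 = n6586 := rfl
theorem F10881 : act 0 n6586 = n5002 := d4_1 D6586 F10867 F10865
theorem F10882 : act 2 n6586 = n4996 := d11_1 D6586 F10880 (iv D6584)
theorem F10883 : act 3 n6586 = n4988 := d13_1 D6586 (iv D4988) D4987
def n6587 : Q := act 4 n4988
theorem D6587 : act 4 n4988 = n6587 := rfl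
theorem F10884 : act 2 n6587 = n4989 := d10_1 D6587 (iv D4989) (iv F8140)
def n6588 : Q := act 3 n4990
theorem D6588 : act 3 n4990 = n6588 := rfl
theorem F10885 : act 0 n6588 = n4991 := d2_1 D6588 (iv D4991) D4990
def n6589 : Q := act 5 n4990
theorem D6589 : act 5 n4990 = n6589 := rfl
theorem F10886 : act 0 n6589 = n4992 := d4_1 D6589 (iv D4992) D4990
def n6590 : Q := act 2 n4991
theorem D6590 : act 2 n4991 = n6590 := rfl
def n6591 : Q := act 4 n4991
theorem D6591 : act 4 n4991 = n6591 := rfl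
theorem F10887 : act 1 n6591 = n4993 := d7_1 D6591 (iv D4993) (iv F8143)
def n6592 : Q := act 4 n4992
theorem D6592 : act 4 n4992 = n6592 := rfl
theorem F10888 : act 1 n6592 = n4994 := d7_1 D6592 (iv D4994) (iv F8144)
def n6593 : Q := act 5 n4993
theorem D6593 : act 5 n4993 = n6593 := rfl
theorem F10889 : act 2 n6593 = n6486 := d11_1 D6593 F10733 F9507
theorem F10890 : act 4 n6593 = n6485 := d14_1 D6593 (iv D6485) F8029 (iv F7096) D4993
def n6594 : Q := act 3 n4994
theorem D6594 : act 3 n4994 = n6594 := rfl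
theorem F10891 : act 4 n6594 = n6484 := d12_2 D4994 D6594 (iv D6484) F8029 F7095
def n6595 : Q := act 0 n4995
theorem D6595 : act 0 n4995 = n6595 := rfl
theorem F10892 : act 1 n6595 = n4999 := d0_2 D4995 D6595 (iv D4999) (iv D3737) (iv F6088)
theorem F10893 : act 2 n6595 = n5855 := d1_2 (iv F8146) D6595 (iv D5855)
theorem F10894 : act 4 n6595 = n5852 := d3_2 (iv F8147) D6595 (iv D5852)
def n6596 : Q := act 3 n4995
theorem D6596 : act 3 n4995 = n6596 := rfl
theorem F10895 : act 1 n6596 = n4996 := d6_1 D6596 (iv D4996) D4995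
def n6597 : Q := act 5 n4995
theorem D6597 : act 5 n4995 = n6597 := rfl
theorem F10896 : act 1 n6597 = n4997 := d8_1 D6597 (iv D4997) D4995
theorem F10897 : act 2 n6597 = n5857 := d11_1 D6597 (iv D5857) (iv F8146)
def n6598 : Q := act 4 n4996
theorem D6598 : act 4 n4996 = n6598 := rfl
theorem F10898 : act 0 n6598 = n5003 := d3_1 D6598 (iv D5003) (iv F8148)
theorem F10899 : act 3 n6598 = n5854 := d12_1 D6598 (iv D5854) (iv D4400) (iv F6089) D4996
def n6599 : Q := act 4 n4997
theorem D6599 : act 4 n4997 = n6599 := rfl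
theorem F10900 : act 0 n6599 = n5005 := d3_1 D6599 (iv D5005) (iv F8149)
theorem F10901 : act 2 n6599 = n4998 := d10_1 D6599 (iv D4998) (iv F8150)
theorem F10902 : act 5 n6599 = n5626 := d14_2 D4997 D6599 F9282 F7079 (iv F6089)
def n6600 : Q := act 3 n4999
theorem D6600 : act 3 n4999 = n6600 := rfl
theorem F10903 : act 0 n6600 = n5000 := d2_1 D6600 (iv D5000) D4999
def n6601 : Q := act 5 n4999
theorem D6601 : act 5 n4999 = n6601 := rfl
theorem F10904 : act 0 n6601 = n5001 := d4_1 D6601 (iv D5001) D4999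
theorem F10905 : act 2 n6601 = n5007 := d11_1 D6601 (iv D5007) (iv F8155)
theorem F10906 : act 4 n6601 = n6462 := d14_1 D6601 (iv D6462) (iv D4889) (iv F7811) (iv F8156)
def n6602 : Q := act 2 n5000
theorem D6602 : act 2 n5000 = n6602 := rfl
def n6603 : Q := act 4 n5000
theorem D6603 : act 4 n5000 = n6603 := rfl
theorem F10907 : act 1 n6603 = n5003 := d7_1 D6603 (iv D5003) (iv F8157)
theorem F10908 : act 3 n6603 = n6346 := d12_1 D6603 (iv D6346) (iv D4796) (iv F6094) D5000
def n6604 : Q := act 5 n5000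
theorem D6604 : act 5 n5000 = n6604 := rfl
theorem F10909 : act 1 n6604 = n5004 := d8_1 D6604 (iv D5004) (iv F8157)
theorem F10910 : act 3 n6604 = n5001 := d13_1 D6604 (iv D5001) D5000
def n6605 : Q := act 1 n5002
theorem D6605 : act 1 n5002 = n6605 := rfl
def n6606 : Q := act 4 n5002
theorem D6606 : act 4 n5002 = n6606 := rfl
theorem F10911 : act 2 n6606 = n5003 := d10_1 D6606 (iv D5003) D5002
def n6607 : Q := act 5 n5003
theorem D6607 : act 5 n5003 = n6607 := rfl
theorem F10912 : act 3 n6607 = n6349 := d13_1 D6607 (iv D6349) (iv F8161)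
def n6608 : Q := act 4 n5004
theorem D6608 : act 4 n5004 = n6608 := rfl
def n6609 : Q := act 3 n5005
theorem D6609 : act 3 n5005 = n6609 := rfl
theorem F10913 : act 1 n6609 = n6468 := d6_1 D6609 F10695 (iv F8163)
theorem F10914 : act 5 n6609 = n5627 := d13_2 (iv F8165) D6609 (iv D5627)
def n6610 : Q := act 2 n5006
theorem D6610 : act 2 n5006 = n6610 := rfl
theorem F10915 : act 0 n6610 = n5008 := d1_1 D6610 (iv D5008) (iv F8166)
theorem F10916 : act 4 n6610 = n6454 := d10_2 (iv F8168) D6610 (iv D6454)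
def n6611 : Q := act 3 n5008
theorem D6611 : act 3 n5008 = n6611 := rfl
def n6612 : Q := act 4 n5010
theorem D6612 : act 4 n5010 = n6612 := rfl
theorem F10917 : act 1 n6612 = n5012 := d7_1 D6612 (iv D5012) (iv F8176)
def n6613 : Q := act 4 n5011
theorem D6613 : act 4 n5011 = n6613 := rfl
theorem F10918 : act 0 n6613 = n5184 := d3_1 D6613 (iv D5184) (iv F8177)
theorem F10919 : act 1 n6613 = n5013 := d7_1 D6613 (iv D5013) (iv F8178)
theorem F10920 : act 2 n6613 = n5032 := d10_1 D6613 F8215 (iv F8179)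
def n6614 : Q := act 5 n5012
theorem D6614 : act 5 n5012 = n6614 := rfl
theorem F10921 : act 0 n6614 = n5023 := d4_1 D6614 (iv D5023) (iv F8180)
def n6615 : Q := act 3 n5013
theorem D6615 : act 3 n5013 = n6615 := rfl
theorem F10922 : act 0 n6615 = n5025 := d2_1 D6615 (iv D5025) (iv F8181)
def n6616 : Q := act 3 n5014
theorem D6616 : act 3 n5014 = n6616 := rfl
theorem F10923 : act 0 n6616 = n5015 := d2_1 D6616 (iv D5015) D5014
def n6617 : Q := act 5 n5014
theorem D6617 : act 5 n5014 = n6617 := rfl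
theorem F10924 : act 0 n6617 = n5016 := d4_1 D6617 (iv D5016) D5014
theorem F10925 : act 2 n6617 = n5027 := d11_1 D6617 (iv D5027) (iv F8183)
theorem F10926 : act 4 n6617 = n5187 := d14_1 D6617 (iv D5187) (iv D3884) (iv F6118) (iv F8184)
def n6618 : Q := act 2 n5015
theorem D6618 : act 2 n5015 = n6618 := rfl
def n6619 : Q := act 4 n5015
theorem D6619 : act 4 n5015 = n6619 := rfl
theorem F10927 : act 1 n6619 = n5018 := d7_1 D6619 (iv D5018) (iv F8185)
theorem F10928 : act 3 n6619 = n5020 := d12_1 D6619 (iv D5020) (iv D3753) (iv F6113) D5015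
def n6620 : Q := act 5 n5015
theorem D6620 : act 5 n5015 = n6620 := rfl
theorem F10929 : act 1 n6620 = n5017 := d8_1 D6620 (iv F8190) (iv F8185)
theorem F10930 : act 3 n6620 = n5016 := d13_1 D6620 (iv D5016) D5015
def n6621 : Q := act 4 n5017
theorem D6621 : act 4 n5017 = n6621 := rfl
theorem F10931 : act 2 n6621 = n5018 := d10_1 D6621 (iv D5018) D5017
def n6622 : Q := act 5 n5018
theorem D6622 : act 5 n5018 = n6622 := rfl
theorem F10932 : act 3 n6622 = n5023 := d13_1 D6622 (iv D5023) (iv F8191)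
def n6623 : Q := act 3 n5019
theorem D6623 : act 3 n5019 = n6623 := rfl
theorem F10933 : act 1 n6623 = n5194 := d6_1 D6623 F8510 (iv F8192)
theorem F10934 : act 5 n6623 = n5025 := d13_2 (iv F8194) D6623 (iv D5025)
def n6624 : Q := act 5 n5020
theorem D6624 : act 5 n5020 = n6624 := rfl
theorem F10935 : act 1 n6624 = n5023 := d8_1 D6624 (iv D5023) (iv F8195)
theorem F10936 : act 4 n6624 = n5192 := d14_1 D6624 (iv D5192) (iv D3888) (iv F6120) D5020
def n6625 : Q := act 4 n5021
theorem D6625 : act 4 n5021 = n6625 := rfl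
theorem F10937 : act 1 n6625 = n5022 := d7_1 D6625 (iv D5022) D5021
def n6626 : Q := act 3 n5022
theorem D6626 : act 3 n5022 = n6626 := rfl
def n6627 : Q := act 5 n5022
theorem D6627 : act 5 n5022 = n6627 := rfl
theorem F10938 : act 2 n6627 = n5023 := d11_1 D6627 (iv D5023) (iv F8196)
def n6628 : Q := act 4 n5023
theorem D6628 : act 4 n5023 = n6628 := rfl
theorem F10939 : act 1 n6628 = n5192 := d7_1 D6628 (iv F10936) F10935
theorem F10940 : act 5 n6628 = n5024 := d14_2 D5023 D6628 (iv D5024) (iv D3756) D3755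
def n6629 : Q := act 3 n5024
theorem D6629 : act 3 n5024 = n6629 := rfl
theorem F10941 : act 1 n6629 = n5191 := d6_1 D6629 (iv D5191) (iv F8197)
theorem F10942 : act 4 n6629 = n5025 := d12_2 D5024 D6629 (iv D5025) (iv D3757) (iv F6122)
def n6630 : Q := act 2 n5025
theorem D6630 : act 2 n5025 = n6630 := rfl
def n6631 : Q := act 2 n5026
theorem D6631 : act 2 n5026 = n6631 := rfl
theorem F10943 : act 0 n6631 = n5028 := d1_1 D6631 (iv D5028) (iv F8199)
theorem F10944 : act 4 n6631 = n5188 := d10_2 (iv F8201) D6631 (iv D5188)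
def n6632 : Q := act 5 n5026
theorem D6632 : act 5 n5026 = n6632 := rfl
theorem F10945 : act 0 n6632 = n5029 := d4_1 D6632 (iv D5029) (iv F8199)
theorem F10946 : act 1 n6632 = n5069 := d8_1 D6632 (iv D5069) (iv F8200)
theorem F10947 : act 3 n6632 = n5027 := d13_1 D6632 (iv D5027) D5026
def n6633 : Q := act 1 n5028
theorem D6633 : act 1 n5028 = n6633 := rfl
theorem F10948 : act 2 n6633 = n5030 := d5_2 D5028 D6633 (iv D5030) (iv D3761) (iv F6127)
theorem F10949 : act 4 n6633 = n5195 := d7_2 (iv F8205) D6633 (iv D5195)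
theorem F10950 : act 5 n5062 = n6633 := d11_0 F10948 F8210 D5062
def n6634 : Q := act 3 n5028
theorem D6634 : act 3 n5028 = n6634 := rfl
def n6635 : Q := act 5 n5028
theorem D6635 : act 5 n5028 = n6635 := rfl
theorem F10951 : act 1 n6635 = n5062 := d8_1 D6635 F10950 (iv D6633)
theorem F10952 : act 2 n6635 = n5029 := d11_1 D6635 (iv D5029) D5028
def n6636 : Q := act 4 n5029
theorem D6636 : act 4 n5029 = n6636 := rfl
theorem F10953 : act 1 n6636 = n5031 := d7_1 D6636 (iv D5031) (iv F8206)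
theorem F10954 : act 3 n6636 = n5176 := d12_1 D6636 (iv D5176) F6319 (iv F6130) (iv F8207)
theorem F10955 : act 5 n6636 = n5177 := d14_2 D5029 D6636 F8493 F6322 (iv F6128)
def n6637 : Q := act 0 n5030
theorem D6637 : act 0 n5030 = n6637 := rfl
theorem F10956 : act 1 n6637 = n5078 := d0_2 D5030 D6637 (iv D5078) (iv D3796) (iv F6131)
theorem F10957 : act 3 n6637 = n5061 := d2_2 (iv F8208) D6637 F8274
theorem F10958 : act 4 n6637 = n5197 := d3_2 (iv F8209) D6637 (iv D5197)
theorem F10959 : act 5 n6637 = n5060 := d4_2 (iv F8210) D6637 F8272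
def n6638 : Q := act 0 n5032
theorem D6638 : act 0 n5032 = n6638 := rfl
theorem F10960 : act 1 n6638 = n5048 := d0_2 D5032 D6638 F8247 F6160 (iv F6138)
theorem F10961 : act 2 n6638 = n5184 := d1_2 F10920 D6638 (iv F10918)
theorem F10962 : act 4 n6638 = n5034 := d3_2 (iv F8215) D6638 (iv D5034)
def n6639 : Q := act 3 n5032
theorem D6639 : act 3 n5032 = n6639 := rfl
theorem F10963 : act 1 n6639 = n5033 := d6_1 D6639 (iv D5033) D5032
theorem F10964 : act 4 n6639 = n5100 := d12_2 (iv F8215) D6639 (iv D5100) (iv D3814) (iv F6140)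
def n6640 : Q := act 3 n5035
theorem D6640 : act 3 n5035 = n6640 := rfl
theorem F10965 : act 0 n6640 = n5037 := d2_1 D6640 (iv D5037) (iv F8223)
theorem F10966 : act 1 n6640 = n5283 := d6_1 D6640 F8686 (iv F8224)
theorem F10967 : act 5 n6640 = n5517 := d13_2 (iv F8225) D6640 (iv D5517)
theorem F10968 : act 2 n6640 = n5494 := d15_2 D5035 D6640 (iv D5494) (iv D4123) (iv D3056) (iv F4349) D3661 F5964 (iv F6143)
def n6641 : Q := act 0 n5036
theorem D6641 : act 0 n5036 = n6641 := rfl
theorem F10969 : act 1 n6641 = n5285 := d0_2 D5036 D6641 F8689 (iv F8224) F8223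
theorem F10970 : act 2 n6641 = n5038 := d1_2 (iv F8226) D6641 (iv D5038)
theorem F10971 : act 5 n6641 = n5046 := d4_2 (iv F8227) D6641 F8244
theorem F10972 : act 3 n5087 = n6641 := d13_3 F10971 F8245 (iv F8332)
def n6642 : Q := act 3 n5036
theorem D6642 : act 3 n5036 = n6642 := rfl
theorem F10973 : act 0 n6642 = n5087 := d2_1 D6642 F10972 (iv D6641)
theorem F10974 : act 1 n6642 = n5037 := d6_1 D6642 (iv D5037) D5036
theorem F10975 : act 2 n6642 = n5083 := d9_1 D6642 (iv D5083) (iv D3801) (iv D2811) (iv F4510) D3774 D5046 F8245 (iv D3830) (iv D2834) F3353 (iv F3332) (iv F4513) (iv F6146) (iv F8226)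
theorem F10976 : act 5 n6642 = n5049 := d13_2 (iv F8227) D6642 (iv D5049)
def n6643 : Q := act 4 n5037
theorem D6643 : act 4 n5037 = n6643 := rfl
def n6644 : Q := act 2 n5039
theorem D6644 : act 2 n5039 = n6644 := rfl
theorem F10977 : act 0 n6644 = n5041 := d1_1 D6644 (iv D5041) (iv F8231)
def n6645 : Q := act 4 n5039
theorem D6645 : act 4 n5039 = n6645 := rfl
theorem F10978 : act 0 n6645 = n5042 := d3_1 D6645 (iv D5042) (iv F8231)
theorem F10979 : act 3 n6645 = n5047 := d12_1 D6645 (iv D5047) (iv D3774) (iv F6149) D5039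
def n6646 : Q := act 4 n5040
theorem D6646 : act 4 n5040 = n6646 := rfl
theorem F10980 : act 0 n6646 = n5043 := d3_1 D6646 (iv D5043) (iv F8232)
theorem F10981 : act 2 n6646 = n5070 := d10_1 D6646 (iv D5070) (iv F8233)
theorem F10982 : act 5 n6646 = n5048 := d14_2 D5040 D6646 (iv D5048) (iv D3775) (iv F6149)
def n6647 : Q := act 3 n5041
theorem D6647 : act 3 n5041 = n6647 := rfl
def n6648 : Q := act 4 n5041
theorem D6648 : act 4 n5041 = n6648 := rfl
theorem F10983 : act 2 n6648 = n5042 := d10_1 D6648 (iv D5042) D5041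
def n6649 : Q := act 5 n5042
theorem D6649 : act 5 n5042 = n6649 := rfl
theorem F10984 : act 1 n6649 = n5044 := d8_1 D6649 (iv D5044) (iv F8234)
theorem F10985 : act 3 n6649 = n5051 := d13_1 D6649 (iv D5051) (iv F8235)
theorem F10986 : act 4 n6649 = n6389 := d14_1 D6649 F10554 (iv D5079) F6189 D5042
def n6650 : Q := act 3 n5043
theorem D6650 : act 3 n5043 = n6650 := rfl
theorem F10987 : act 1 n6650 = n5045 := d6_1 D6650 (iv D5045) (iv F8236)
theorem F10988 : act 4 n6650 = n6364 := d12_2 D5043 D6650 F10503 (iv D5079) F6188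
theorem F10989 : act 5 n6650 = n5052 := d13_2 (iv F8238) D6650 (iv D5052)
def n6651 : Q := act 1 n5046
theorem D6651 : act 1 n5046 = n6651 := rfl
theorem F10990 : act 0 n6651 = n5299 := d0_1 D6651 F8718 (iv F8017) F8018 (iv F8244)
theorem F10991 : act 2 n6651 = n5297 := d5_2 D5046 D6651 F8713 (iv F8042) F8041
theorem F10992 : act 3 n6651 = n5118 := d6_2 (iv F8245) D6651 (iv D5118)
theorem F10993 : act 5 n6651 = n5285 := d8_2 F10971 D6651 (iv F10969)
def n6652 : Q := act 4 n5046
theorem D6652 : act 4 n5046 = n6652 := rfl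
theorem F10994 : act 0 n6652 = n5050 := d3_1 D6652 (iv D5050) (iv F8244)
theorem F10995 : act 2 n6652 = n5047 := d10_1 D6652 (iv D5047) D5046
def n6653 : Q := act 5 n5047
theorem D6653 : act 5 n5047 = n6653 := rfl
theorem F10996 : act 0 n6653 = n5051 := d4_1 D6653 (iv D5051) (iv F8246)
def n6654 : Q := act 3 n5048
theorem D6654 : act 3 n5048 = n6654 := rfl
theorem F10997 : act 0 n6654 = n5052 := d2_1 D6654 (iv D5052) (iv F8247)
def n6655 : Q := act 4 n5049
theorem D6655 : act 4 n5049 = n6655 := rfl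
theorem F10998 : act 0 n6655 = n5119 := d3_1 D6655 (iv D5119) (iv F8249)
theorem F10999 : act 2 n6655 = n5117 := d10_1 D6655 (iv D5117) (iv F8250)
def n6656 : Q := act 3 n5050
theorem D6656 : act 3 n5050 = n6656 := rfl
def n6657 : Q := act 5 n5050
theorem D6657 : act 5 n5050 = n6657 := rfl
theorem F11000 : act 2 n6657 = n5051 := d11_1 D6657 (iv D5051) (iv F8251)
def n6658 : Q := act 2 n5052
theorem D6658 : act 2 n5052 = n6658 := rfl
def n6659 : Q := act 1 n5053
theorem D6659 : act 1 n5053 = n6659 := rfl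
theorem F11001 : act 3 n6659 = n5181 := d6_2 (iv F8257) D6659 F8498
theorem F11002 : act 4 n6659 = n6382 := d7_2 (iv F8255) D6659 F10543
theorem F11003 : act 5 n6659 = n5180 := d8_2 (iv F8256) D6659 F8496
def n6660 : Q := act 3 n5054
theorem D6660 : act 3 n5054 = n6660 := rfl
theorem F11004 : act 0 n6660 = n5055 := d2_1 D6660 (iv D5055) D5054
theorem F11005 : act 1 n6660 = n6616 := d6_1 D6660 (iv D6616) (iv F8258)
def n6661 : Q := act 5 n5054
theorem D6661 : act 5 n5054 = n6661 := rfl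
theorem F11006 : act 0 n6661 = n5056 := d4_1 D6661 (iv D5056) D5054
theorem F11007 : act 1 n6661 = n6617 := d8_1 D6661 (iv D6617) (iv F8258)
theorem F11008 : act 2 n6661 = n5061 := d11_1 D6661 (iv D5061) (iv F8259)
def n6662 : Q := act 2 n5055
theorem D6662 : act 2 n5055 = n6662 := rfl
def n6663 : Q := act 4 n5055
theorem D6663 : act 4 n5055 = n6663 := rfl
theorem F11009 : act 1 n6663 = n5058 := d7_1 D6663 (iv D5058) (iv F8261)
theorem F11010 : act 3 n6663 = n6612 := d12_1 D6663 (iv D6612) (iv D5010) (iv F6163) D5055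
def n6664 : Q := act 5 n5055
theorem D6664 : act 5 n5055 = n6664 := rfl
theorem F11011 : act 1 n6664 = n5057 := d8_1 D6664 (iv F8266) (iv F8261)
theorem F11012 : act 3 n6664 = n5056 := d13_1 D6664 (iv D5056) D5055
def n6665 : Q := act 4 n5056
theorem D6665 : act 4 n5056 = n6665 := rfl
theorem F11013 : act 1 n6665 = n5059 := d7_1 D6665 (iv D5059) (iv F8262)
theorem F11014 : act 2 n6665 = n5064 := d10_1 D6665 (iv D5064) (iv F8263)
theorem F11015 : act 5 n6665 = n6613 := d14_2 D5056 D6665 (iv D6613) (iv D5011) (iv F6163)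
def n6666 : Q := act 4 n5057
theorem D6666 : act 4 n5057 = n6666 := rfl
theorem F11016 : act 0 n6666 = n6621 := d3_1 D6666 (iv D6621) (iv F8264)
theorem F11017 : act 2 n6666 = n5058 := d10_1 D6666 (iv D5058) D5057
def n6667 : Q := act 5 n5058
theorem D6667 : act 5 n5058 = n6667 := rfl
theorem F11018 : act 0 n6667 = n6622 := d4_1 D6667 (iv D6622) (iv F8267)
theorem F11019 : act 3 n6667 = n6614 := d13_1 D6667 (iv D6614) (iv F8268)
def n6668 : Q := act 3 n5059
theorem D6668 : act 3 n5059 = n6668 := rfl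
theorem F11020 : act 0 n6668 = n6623 := d2_1 D6668 (iv D6623) (iv F8269)
theorem F11021 : act 5 n6668 = n6615 := d13_2 (iv F8271) D6668 (iv D6615)
def n6669 : Q := act 2 n5060
theorem D6669 : act 2 n5060 = n6669 := rfl
theorem F11022 : act 0 n6669 = n5062 := d1_1 D6669 (iv D5062) (iv F8272)
def n6670 : Q := act 4 n5060
theorem D6670 : act 4 n5060 = n6670 := rfl
theorem F11023 : act 0 n6670 = n5063 := d3_1 D6670 (iv D5063) (iv F8272)
theorem F11024 : act 1 n6670 = n6645 := d7_1 D6670 (iv D6645) (iv F8273)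
theorem F11025 : act 3 n6670 = n6495 := d12_1 D6670 F10745 F8043 (iv F6172) D5060
def n6671 : Q := act 4 n5061
theorem D6671 : act 4 n5061 = n6671 := rfl
theorem F11026 : act 0 n6671 = n5064 := d3_1 D6671 (iv D5064) (iv F8274)
theorem F11027 : act 1 n6671 = n6646 := d7_1 D6671 (iv D6646) (iv F8275)
theorem F11028 : act 5 n6671 = n6638 := d14_2 D5061 D6671 F10962 F8222 (iv F6172)
def n6672 : Q := act 3 n5062
theorem D6672 : act 3 n5062 = n6672 := rfl
def n6673 : Q := act 4 n5062
theorem D6673 : act 4 n5062 = n6673 := rfl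
theorem F11029 : act 2 n6673 = n5063 := d10_1 D6673 (iv D5063) D5062
def n6674 : Q := act 5 n5063
theorem D6674 : act 5 n5063 = n6674 := rfl
theorem F11030 : act 1 n6674 = n5065 := d8_1 D6674 (iv D5065) (iv F8276)
theorem F11031 : act 3 n6674 = n6494 := d13_1 D6674 F10742 (iv F8277)
theorem F11032 : act 4 n6674 = n5182 := d14_1 D6674 F8500 (iv F8209) F8210 D5063
def n6675 : Q := act 3 n5064
theorem D6675 : act 3 n5064 = n6675 := rfl
theorem F11033 : act 1 n6675 = n5066 := d6_1 D6675 (iv D5066) (iv F8278)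
theorem F11034 : act 4 n6675 = n5198 := d12_2 D5064 D6675 (iv D5198) (iv F8209) F8208
theorem F11035 : act 5 n6675 = n6639 := d13_2 (iv F8279) D6675 (iv D6639)
def n6676 : Q := act 1 n5067
theorem D6676 : act 1 n5067 = n6676 := rfl
def n6677 : Q := act 3 n5067
theorem D6677 : act 3 n5067 = n6677 := rfl
theorem F11036 : act 0 n6677 = n5072 := d2_1 D6677 (iv D5072) (iv F8287)
def n6678 : Q := act 4 n5067
theorem D6678 : act 4 n5067 = n6678 := rfl
theorem F11037 : act 0 n6678 = n5073 := d3_1 D6678 (iv D5073) (iv F8287)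
theorem F11038 : act 2 n6678 = n5068 := d10_1 D6678 (iv D5068) D5067
def n6679 : Q := act 5 n5067
theorem D6679 : act 5 n5067 = n6679 := rfl
theorem F11039 : act 0 n6679 = n5074 := d4_1 D6679 (iv D5074) (iv F8287)
theorem F11040 : act 2 n6679 = n5069 := d11_1 D6679 (iv D5069) D5067
def n6680 : Q := act 5 n5068
theorem D6680 : act 5 n5068 = n6680 := rfl
theorem F11041 : act 0 n6680 = n5075 := d4_1 D6680 (iv D5075) (iv F8288)
theorem F11042 : act 1 n6680 = n5166 := d8_1 D6680 F8473 (iv F8289)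
theorem F11043 : act 3 n6680 = n5085 := d13_1 D6680 (iv D5085) (iv F8290)
def n6681 : Q := act 4 n5069
theorem D6681 : act 4 n5069 = n6681 := rfl
theorem F11044 : act 0 n6681 = n5076 := d3_1 D6681 (iv D5076) (iv F8291)
def n6682 : Q := act 3 n5070
theorem D6682 : act 3 n5070 = n6682 := rfl
theorem F11045 : act 0 n6682 = n5077 := d2_1 D6682 (iv D5077) (iv F8293)
theorem F11046 : act 1 n6682 = n5164 := d6_1 D6682 F8470 (iv F8294)
theorem F11047 : act 5 n6682 = n5086 := d13_2 (iv F8295) D6682 (iv D5086)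
def n6683 : Q := act 0 n5071
theorem D6683 : act 0 n5071 = n6683 := rfl
theorem F11048 : act 2 n6683 = n5078 := d1_2 (iv F8296) D6683 (iv D5078)
theorem F11049 : act 5 n6683 = n6644 := d4_2 F8297 D6683 F10977
def n6684 : Q := act 3 n5071
theorem D6684 : act 3 n5071 = n6684 := rfl
theorem F11050 : act 1 n6684 = n5072 := d6_1 D6684 (iv D5072) D5071
theorem F11051 : act 5 n6684 = n6647 := d13_2 F8297 D6684 (iv D6647)
theorem F11052 : act 2 n6684 = n6677 := d15_2 (iv F8296) D6684 (iv D6677) (iv D5067) (iv D3790) (iv F6148) D5039 (iv F8307) (iv D5078)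
def n6685 : Q := act 4 n5071
theorem D6685 : act 4 n5071 = n6685 := rfl
theorem F11053 : act 1 n6685 = n5073 := d7_1 D6685 (iv D5073) D5071
theorem F11054 : act 2 n6685 = n5079 := d10_1 D6685 (iv D5079) (iv F8296)
def n6686 : Q := act 2 n5072
theorem D6686 : act 2 n5072 = n6686 := rfl
theorem F11055 : act 0 n6686 = n6684 := d1_1 D6686 F11052 F11036
theorem F11056 : act 3 n6686 = n6683 := d15_3 D3792 D5072 D6686 F11048 F8306 F8233 (iv F8292) (iv D5069) F6180
def n6687 : Q := act 4 n5072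
theorem D6687 : act 4 n5072 = n6687 := rfl
def n6688 : Q := act 5 n5072
theorem D6688 : act 5 n5072 = n6688 := rfl
theorem F11057 : act 1 n6688 = n6647 := d8_1 D6688 (iv F11051) F11050
theorem F11058 : act 3 n6688 = n5074 := d13_1 D6688 (iv D5074) D5072
def n6689 : Q := act 3 n5073
theorem D6689 : act 3 n5073 = n6689 := rfl
def n6690 : Q := act 5 n5073
theorem D6690 : act 5 n5073 = n6690 := rfl
theorem F11059 : act 2 n6690 = n5075 := d11_1 D6690 (iv D5075) (iv F8298)
def n6691 : Q := act 4 n5074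
theorem D6691 : act 4 n5074 = n6691 := rfl
theorem F11060 : act 1 n6691 = n6648 := d7_1 D6691 (iv D6648) (iv F8299)
theorem F11061 : act 2 n6691 = n5076 := d10_1 D6691 (iv D5076) (iv F8300)
def n6692 : Q := act 4 n5075
theorem D6692 : act 4 n5075 = n6692 := rfl
theorem F11062 : act 1 n6692 = n5080 := d7_1 D6692 (iv D5080) (iv F8301)
theorem F11063 : act 3 n6692 = n5133 := d12_1 D6692 (iv D5133) F6264 (iv F6208) (iv F8302)
theorem F11064 : act 5 n6692 = n5076 := d14_2 D5075 D6692 (iv D5076) (iv D3794) D3793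
def n6693 : Q := act 3 n5076
theorem D6693 : act 3 n5076 = n6693 := rfl
theorem F11065 : act 1 n6693 = n5081 := d6_1 D6693 (iv D5081) (iv F8303)
theorem F11066 : act 4 n6693 = n5077 := d12_2 D5076 D6693 (iv D5077) (iv D3795) (iv F6185)
theorem F11067 : act 5 n6693 = n5133 := d13_2 F11064 D6693 (iv F11063)
def n6694 : Q := act 2 n5077
theorem D6694 : act 2 n5077 = n6694 := rfl
theorem F11068 : act 5 n6694 = n5091 := d11_2 (iv F8305) D6694 (iv D5091)
def n6695 : Q := act 4 n5078
theorem D6695 : act 4 n5078 = n6695 := rfl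
theorem F11069 : act 0 n6695 = n5079 := d3_1 D6695 (iv D5079) D5078
theorem F11070 : act 1 n6695 = n5197 := d7_1 D6695 (iv F10958) F10956
def n6696 : Q := act 1 n5082
theorem D6696 : act 1 n5082 = n6696 := rfl
theorem F11071 : act 3 n6696 = n6492 := d6_2 (iv F8318) D6696 F10739
theorem F11072 : act 4 n6696 = n5158 := d7_2 (iv F8319) D6696 F8459
theorem F11073 : act 5 n6696 = n5092 := d8_2 (iv F8320) D6696 (iv D5092)
def n6697 : Q := act 4 n5083
theorem D6697 : act 4 n5083 = n6697 := rfl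
theorem F11074 : act 0 n6697 = n5088 := d3_1 D6697 (iv D5088) (iv F8321)
def n6698 : Q := act 3 n5084
theorem D6698 : act 3 n5084 = n6698 := rfl
theorem F11075 : act 0 n6698 = n5089 := d2_1 D6698 (iv D5089) (iv F8323)
def n6699 : Q := act 5 n5084
theorem D6699 : act 5 n5084 = n6699 := rfl
theorem F11076 : act 0 n6699 = n5090 := d4_1 D6699 (iv D5090) (iv F8323)
theorem F11077 : act 1 n6699 = n6393 := d8_1 D6699 F10562 F10435
theorem F11078 : act 2 n6699 = n5085 := d11_1 D6699 (iv D5085) (iv F8324)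
theorem F11079 : act 4 n6699 = n5110 := d14_1 D6699 (iv D5110) F6241 (iv F6198) D5084
def n6700 : Q := act 2 n5086
theorem D6700 : act 2 n5086 = n6700 := rfl
theorem F11080 : act 0 n6700 = n5091 := d1_1 D6700 (iv D5091) (iv F8328)
theorem F11081 : act 4 n6700 = n5128 := d10_2 (iv F8330) D6700 (iv D5128)
def n6701 : Q := act 4 n5087
theorem D6701 : act 4 n5087 = n6701 := rfl
theorem F11082 : act 1 n6701 = n5286 := d7_1 D6701 (iv D5286) (iv F8331)
theorem F11083 : act 2 n6701 = n5088 := d10_1 D6701 (iv D5088) D5087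
def n6702 : Q := act 3 n5088
theorem D6702 : act 3 n5088 = n6702 := rfl
theorem F11084 : act 1 n6702 = n5126 := d6_1 D6702 (iv D5126) (iv F8333)
theorem F11085 : act 4 n6702 = n5089 := d12_2 D5088 D6702 (iv D5089) (iv D3805) D3804
def n6703 : Q := act 5 n5088
theorem D6703 : act 5 n5088 = n6703 := rfl
theorem F11086 : act 1 n6703 = n5125 := d8_1 D6703 F8403 (iv F8333)
theorem F11087 : act 4 n6703 = n5120 := d14_1 D6703 (iv D5120) (iv D3831) (iv F6204) D5088
def n6704 : Q := act 2 n5089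
theorem D6704 : act 2 n5089 = n6704 := rfl
def n6705 : Q := act 5 n5089
theorem D6705 : act 5 n5089 = n6705 := rfl
theorem F11088 : act 1 n6705 = n5116 := d8_1 D6705 F8390 (iv F8334)
theorem F11089 : act 3 n6705 = n5090 := d13_1 D6705 (iv D5090) D5089
def n6706 : Q := act 1 n5091
theorem D6706 : act 1 n5091 = n6706 := rfl
theorem F11090 : act 2 n6706 = n5092 := d5_2 D5091 D6706 (iv D5092) (iv D3808) (iv F6209)
theorem F11091 : act 4 n6706 = n5130 := d7_2 (iv F8338) D6706 (iv D5130)
def n6707 : Q := act 3 n5091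
theorem D6707 : act 3 n5091 = n6707 := rfl
def n6708 : Q := act 0 n5092
theorem D6708 : act 0 n5092 = n6708 := rfl
theorem F11092 : act 1 n6708 = n5179 := d0_2 D5092 D6708 F8495 F6325 (iv F6211)
theorem F11093 : act 4 n6708 = n5134 := d3_2 (iv F8339) D6708 (iv D5134)
def n6709 : Q := act 3 n5092
theorem D6709 : act 3 n5092 = n6709 := rfl
theorem F11094 : act 1 n6709 = n5093 := d6_1 D6709 (iv D5093) D5092
theorem F11095 : act 4 n6709 = n5159 := d12_2 (iv F8339) D6709 (iv D5159) (iv D3861) (iv F6265)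
theorem F11096 : act 5 n6709 = n6492 := d13_2 F11073 D6709 (iv F11071)
def n6710 : Q := act 4 n5095
theorem D6710 : act 4 n5095 = n6710 := rfl
theorem F11097 : act 0 n6710 = n5096 := d3_1 D6710 (iv D5096) D5095
theorem F11098 : act 1 n6710 = n5465 := d7_1 D6710 (iv D5465) (iv F8348)
theorem F11099 : act 2 n6710 = n5099 := d10_1 D6710 (iv D5099) (iv F8349)
def n6711 : Q := act 3 n5096
theorem D6711 : act 3 n5096 = n6711 := rfl
theorem F11100 : act 1 n6711 = n5097 := d6_1 D6711 (iv D5097) (iv F8352)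
theorem F11101 : act 4 n6711 = n5461 := d12_2 D5096 D6711 (iv D5461) (iv D4097) (iv F6217)
def n6712 : Q := act 5 n5096
theorem D6712 : act 5 n5096 = n6712 := rfl
theorem F11102 : act 1 n6712 = n5098 := d8_1 D6712 (iv D5098) (iv F8352)
theorem F11103 : act 2 n6712 = n5101 := d11_1 D6712 (iv D5101) (iv F8353)
theorem F11104 : act 4 n6712 = n5522 := d14_1 D6712 (iv D5522) (iv D4145) (iv F6218) D5096
def n6713 : Q := act 2 n5097
theorem D6713 : act 2 n5097 = n6713 := rfl
theorem F11105 : act 0 n6713 = n5471 := d1_1 D6713 (iv D5471) (iv F8354)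
theorem F11106 : act 4 n6713 = n5463 := d10_2 (iv F8355) D6713 (iv D5463)
def n6714 : Q := act 5 n5097
theorem D6714 : act 5 n5097 = n6714 := rfl
theorem F11107 : act 0 n6714 = n5472 := d4_1 D6714 (iv D5472) (iv F8354)
theorem F11108 : act 3 n6714 = n5098 := d13_1 D6714 (iv D5098) D5097
def n6715 : Q := act 3 n5099
theorem D6715 : act 3 n5099 = n6715 := rfl
theorem F11109 : act 0 n6715 = n5100 := d2_1 D6715 (iv D5100) (iv F8359)
theorem F11110 : act 5 n6493 = n6715 := d4_0 F11109 (iv F8361) D6493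
def n6716 : Q := act 5 n5099
theorem D6716 : act 5 n5099 = n6716 := rfl
theorem F11111 : act 0 n6716 = n5101 := d4_1 D6716 (iv D5101) (iv F8359)
theorem F11112 : act 3 n6716 = n6493 := d13_1 D6716 F11110 (iv D6715)
def n6717 : Q := act 2 n5100
theorem D6717 : act 2 n5100 = n6717 := rfl
theorem F11113 : act 1 n6717 = n6491 := d5_1 D6717 F10738 F8034 (iv F6225) (iv F8360)
theorem F11114 : act 5 n6717 = n6489 := d11_2 F8361 D6717 F10737
def n6718 : Q := act 3 n5102
theorem D6718 : act 3 n5102 = n6718 := rfl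
theorem F11115 : act 1 n6718 = n5103 := d6_1 D6718 (iv D5103) (iv F8364)
theorem F11116 : act 4 n6718 = n5233 := d12_2 D5102 D6718 (iv D5233) (iv D3922) (iv F6229)
def n6719 : Q := act 5 n5102
theorem D6719 : act 5 n5102 = n6719 := rfl
theorem F11117 : act 1 n6719 = n5104 := d8_1 D6719 (iv D5104) (iv F8364)
theorem F11118 : act 4 n6719 = n5201 := d14_1 D6719 (iv D5201) (iv D3895) (iv F6230) D5102
def n6720 : Q := act 2 n5103
theorem D6720 : act 2 n5103 = n6720 := rfl
theorem F11119 : act 0 n6720 = n5107 := d1_1 D6720 (iv D5107) (iv F8365)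
theorem F11120 : act 4 n6720 = n5235 := d10_2 (iv F8366) D6720 (iv D5235)
def n6721 : Q := act 5 n5103
theorem D6721 : act 5 n5103 = n6721 := rfl
theorem F11121 : act 0 n6721 = n5108 := d4_1 D6721 (iv D5108) (iv F8365)
theorem F11122 : act 3 n6721 = n5104 := d13_1 D6721 (iv D5104) D5103
def n6722 : Q := act 2 n5105
theorem D6722 : act 2 n5105 = n6722 := rfl
theorem F11123 : act 0 n6722 = n5235 := d1_1 D6722 (iv D5235) (iv F8370)
theorem F11124 : act 4 n6722 = n5107 := d10_2 (iv F8371) D6722 (iv D5107)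
def n6723 : Q := act 5 n5105
theorem D6723 : act 5 n5105 = n6723 := rfl
theorem F11125 : act 0 n6723 = n5236 := d4_1 D6723 (iv D5236) (iv F8370)
theorem F11126 : act 3 n6723 = n5106 := d13_1 D6723 (iv D5106) D5105
def n6724 : Q := act 1 n5107
theorem D6724 : act 1 n5107 = n6724 := rfl
def n6725 : Q := act 3 n5107
theorem D6725 : act 3 n5107 = n6725 := rfl
theorem F11127 : act 2 n6725 = n5472 := d15_2 D5107 D6725 F9033 (iv F8345) F8346 (iv F8368) (iv F11122) (iv D6721) F8365
theorem F11128 : act 5 n6725 = n5471 := d15_8 (iv D6713) (iv D5097) F6220 F4561 (iv F4571) D3821 D5107 D6725 (iv F11105)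
def n6726 : Q := act 5 n5107
theorem D6726 : act 5 n5107 = n6726 := rfl
theorem F11129 : act 2 n6726 = n5108 := d11_1 D6726 (iv D5108) D5107
theorem F11130 : act 3 n6726 = n5471 := d13_1 D6726 (iv F11128) (iv D6725)
def n6727 : Q := act 4 n5108
theorem D6727 : act 4 n5108 = n6727 := rfl
theorem F11131 : act 3 n6727 = n5217 := d12_1 D6727 (iv D5217) F6368 (iv F6238) (iv F8375)
def n6728 : Q := act 2 n5109
theorem D6728 : act 2 n5109 = n6728 := rfl
theorem F11132 : act 0 n6728 = n5111 := d1_1 D6728 (iv D5111) (iv F8376)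
def n6729 : Q := act 4 n5109
theorem D6729 : act 4 n5109 = n6729 := rfl
theorem F11133 : act 0 n6729 = n5112 := d3_1 D6729 (iv D5112) (iv F8376)
theorem F11134 : act 1 n6729 = n6391 := d7_1 D6729 (iv D6391) (iv F8377)
theorem F11135 : act 3 n6729 = n5117 := d12_1 D6729 (iv D5117) (iv D3829) (iv F6241) D5109
def n6730 : Q := act 5 n5109
theorem D6730 : act 5 n5109 = n6730 := rfl
theorem F11136 : act 0 n6730 = n5113 := d4_1 D6730 (iv D5113) (iv F8376)
theorem F11137 : act 1 n6730 = n6392 := d8_1 D6730 (iv D6392) (iv F8377)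
theorem F11138 : act 3 n6730 = n5110 := d13_1 D6730 (iv D5110) D5109
def n6731 : Q := act 1 n5111
theorem D6731 : act 1 n5111 = n6731 := rfl
theorem F11139 : act 2 n6731 = n5113 := d5_2 D5111 D6731 F8383 (iv D3826) (iv F6242)
theorem F11140 : act 5 n5111 = n6731 := d11_0 F11139 (iv D5113) D5111
def n6732 : Q := act 3 n5111
theorem D6732 : act 3 n5111 = n6732 := rfl
def n6733 : Q := act 4 n5111
theorem D6733 : act 4 n5111 = n6733 := rfl
theorem F11141 : act 2 n6733 = n5112 := d10_1 D6733 (iv D5112) D5111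
def n6734 : Q := act 5 n5112
theorem D6734 : act 5 n5112 = n6734 := rfl
theorem F11142 : act 1 n6734 = n5115 := d8_1 D6734 (iv D5115) (iv F8381)
theorem F11143 : act 3 n6734 = n5120 := d13_1 D6734 (iv D5120) (iv F8382)
def n6735 : Q := act 4 n5113
theorem D6735 : act 4 n5113 = n6735 := rfl
theorem F11144 : act 1 n6735 = n5114 := d7_1 D6735 (iv D5114) (iv F8383)
def n6736 : Q := act 3 n5114
theorem D6736 : act 3 n5114 = n6736 := rfl
theorem F11145 : act 0 n6736 = n6400 := d2_1 D6736 (iv D6400) (iv F8385)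
theorem F11146 : act 4 n6736 = n5116 := d12_2 D5114 D6736 (iv D5116) (iv D3828) (iv F6246)
def n6737 : Q := act 5 n5114
theorem D6737 : act 5 n5114 = n6737 := rfl
theorem F11147 : act 0 n6737 = n6401 := d4_1 D6737 (iv D6401) (iv F8385)
theorem F11148 : act 2 n6737 = n5115 := d11_1 D6737 (iv D5115) (iv F8386)
theorem F11149 : act 4 n6737 = n5115 := d14_1 D6737 (iv D5115) (iv D3827) F6247 D5114
def n6738 : Q := act 5 n5117
theorem D6738 : act 5 n5117 = n6738 := rfl
theorem F11150 : act 0 n6738 = n5120 := d4_1 D6738 (iv D5120) (iv F8391)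
def n6739 : Q := act 0 n5118
theorem D6739 : act 0 n5118 = n6739 := rfl
theorem F11151 : act 1 n6739 = n5517 := d0_2 D5118 D6739 (iv F10711) F10712 F8249
theorem F11152 : act 2 n6739 = n5121 := d1_2 (iv F8392) D6739 (iv D5121)
theorem F11153 : act 3 n6739 = n5299 := d2_2 F10992 D6739 (iv F10990)
theorem F11154 : act 5 n6739 = n5283 := d4_2 (iv F8393) D6739 F8685
def n6740 : Q := act 4 n5118
theorem D6740 : act 4 n5118 = n6740 := rfl
theorem F11155 : act 1 n6740 = n5119 := d7_1 D6740 (iv D5119) D5118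
theorem F11156 : act 2 n6740 = n5122 := d10_1 D6740 (iv D5122) (iv F8392)
def n6741 : Q := act 3 n5119
theorem D6741 : act 3 n5119 = n6741 := rfl
def n6742 : Q := act 5 n5119
theorem D6742 : act 5 n5119 = n6742 := rfl
theorem F11157 : act 2 n6742 = n5120 := d11_1 D6742 (iv D5120) (iv F8394)
def n6743 : Q := act 4 n5121
theorem D6743 : act 4 n5121 = n6743 := rfl
theorem F11158 : act 0 n6743 = n5122 := d3_1 D6743 (iv D5122) D5121
def n6744 : Q := act 3 n5122
theorem D6744 : act 3 n5122 = n6744 := rfl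
theorem F11159 : act 1 n6744 = n5123 := d6_1 D6744 (iv D5123) (iv F8398)
theorem F11160 : act 4 n6744 = n5281 := d12_2 D5122 D6744 (iv D5281) F6474 (iv F6255)
def n6745 : Q := act 5 n5122
theorem D6745 : act 5 n5122 = n6745 := rfl
theorem F11161 : act 1 n6745 = n5124 := d8_1 D6745 (iv D5124) (iv F8398)
theorem F11162 : act 4 n6745 = n5287 := d14_1 D6745 (iv D5287) (iv D3963) (iv F6256) D5122
def n6746 : Q := act 2 n5123
theorem D6746 : act 2 n5123 = n6746 := rfl
theorem F11163 : act 4 n6746 = n5282 := d10_2 (iv F8399) D6746 (iv D5282)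
def n6747 : Q := act 5 n5123
theorem D6747 : act 5 n5123 = n6747 := rfl
theorem F11164 : act 3 n6747 = n5124 := d13_1 D6747 (iv D5124) D5123
theorem F11165 : act 4 n6747 = n5941 := d14_1 D6747 F9721 F7253 (iv F6476) (iv F8399)
def n6748 : Q := act 3 n5125
theorem D6748 : act 3 n5125 = n6748 := rfl
theorem F11166 : act 5 n6748 = n5126 := d13_2 (iv F8403) D6748 (iv D5126)
def n6749 : Q := act 2 n5126
theorem D6749 : act 2 n5126 = n6749 := rfl
theorem F11167 : act 4 n6749 = n5127 := d10_2 (iv F8404) D6749 (iv D5127)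
def n6750 : Q := act 1 n5127
theorem D6750 : act 1 n5127 = n6750 := rfl
def n6751 : Q := act 1 n5128
theorem D6751 : act 1 n5128 = n6751 := rfl
theorem F11168 : act 2 n6751 = n5160 := d5_2 D5128 D6751 (iv D5160) (iv D3864) (iv F6260)
def n6752 : Q := act 3 n5128
theorem D6752 : act 3 n5128 = n6752 := rfl
theorem F11169 : act 0 n6752 = n5131 := d2_1 D6752 (iv D5131) (iv F8405)
def n6753 : Q := act 5 n5128
theorem D6753 : act 5 n5128 = n6753 := rfl
theorem F11170 : act 0 n6753 = n5132 := d4_1 D6753 (iv D5132) (iv F8405)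
theorem F11171 : act 2 n6753 = n5129 := d11_1 D6753 (iv D5129) D5128
def n6754 : Q := act 4 n5129
theorem D6754 : act 4 n5129 = n6754 := rfl
theorem F11172 : act 0 n6754 = n5133 := d3_1 D6754 (iv D5133) (iv F8406)
theorem F11173 : act 1 n6754 = n5165 := d7_1 D6754 (iv D5165) (iv F8407)
def n6755 : Q := act 0 n5130
theorem D6755 : act 0 n5130 = n6755 := rfl
theorem F11174 : act 2 n6755 = n5134 := d1_2 (iv F8409) D6755 (iv D5134)
theorem F11175 : act 5 n6755 = n5153 := d4_2 F8410 D6755 F8450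
def n6756 : Q := act 3 n5130
theorem D6756 : act 3 n5130 = n6756 := rfl
theorem F11176 : act 1 n6756 = n5131 := d6_1 D6756 (iv D5131) D5130
theorem F11177 : act 5 n6756 = n5156 := d13_2 F8410 D6756 (iv D5156)
def n6757 : Q := act 2 n5131
theorem D6757 : act 2 n5131 = n6757 := rfl
def n6758 : Q := act 4 n5131
theorem D6758 : act 4 n5131 = n6758 := rfl
def n6759 : Q := act 5 n5131
theorem D6759 : act 5 n5131 = n6759 := rfl
theorem F11178 : act 1 n6759 = n5156 := d8_1 D6759 (iv F11177) F11176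
theorem F11179 : act 3 n6759 = n5132 := d13_1 D6759 (iv D5132) D5131
def n6760 : Q := act 4 n5132
theorem D6760 : act 4 n5132 = n6760 := rfl
theorem F11180 : act 1 n6760 = n5157 := d7_1 D6760 (iv D5157) (iv F8411)
theorem F11181 : act 2 n6760 = n5133 := d10_1 D6760 (iv D5133) (iv F8412)
def n6761 : Q := act 3 n5135
theorem D6761 : act 3 n5135 = n6761 := rfl
theorem F11182 : act 0 n6761 = n6718 := d2_1 D6761 (iv D6718) (iv F8417)
theorem F11183 : act 1 n6761 = n5137 := d6_1 D6761 (iv D5137) (iv F8418)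
def n6762 : Q := act 5 n5135
theorem D6762 : act 5 n5135 = n6762 := rfl
theorem F11184 : act 0 n6762 = n6719 := d4_1 D6762 (iv D6719) (iv F8417)
theorem F11185 : act 1 n6762 = n5138 := d8_1 D6762 (iv D5138) (iv F8418)
theorem F11186 : act 2 n6762 = n5201 := d11_1 D6762 (iv D5201) (iv F8419)
def n6763 : Q := act 3 n5136
theorem D6763 : act 3 n5136 = n6763 := rfl
theorem F11187 : act 0 n6763 = n5140 := d2_1 D6763 (iv D5140) (iv F8420)
theorem F11188 : act 4 n6763 = n5137 := d12_2 D5136 D6763 (iv D5137) (iv D3845) D3844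
def n6764 : Q := act 5 n5136
theorem D6764 : act 5 n5136 = n6764 := rfl
theorem F11189 : act 0 n6764 = n5141 := d4_1 D6764 (iv D5141) (iv F8420)
def n6765 : Q := act 2 n5137
theorem D6765 : act 2 n5137 = n6765 := rfl
theorem F11190 : act 0 n6765 = n5142 := d1_1 D6765 (iv D5142) (iv F8421)
def n6766 : Q := act 5 n5137
theorem D6766 : act 5 n5137 = n6766 := rfl
theorem F11191 : act 0 n6766 = n5143 := d4_1 D6766 (iv D5143) (iv F8421)
theorem F11192 : act 3 n6766 = n5138 := d13_1 D6766 (iv D5138) D5137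
def n6767 : Q := act 3 n5139
theorem D6767 : act 3 n5139 = n6767 := rfl
def n6768 : Q := act 5 n5139
theorem D6768 : act 5 n5139 = n6768 := rfl
theorem F11193 : act 2 n6768 = n5141 := d11_1 D6768 (iv D5141) (iv F8424)
def n6769 : Q := act 2 n5140
theorem D6769 : act 2 n5140 = n6769 := rfl
theorem F11194 : act 4 n6769 = n5142 := d10_2 (iv F8426) D6769 (iv D5142)
def n6770 : Q := act 5 n5140
theorem D6770 : act 5 n5140 = n6770 := rfl
theorem F11195 : act 1 n6770 = n6723 := d8_1 D6770 (iv D6723) (iv F8425)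
theorem F11196 : act 3 n6770 = n5141 := d13_1 D6770 (iv D5141) D5140
def n6771 : Q := act 1 n5142
theorem D6771 : act 1 n5142 = n6771 := rfl
theorem F11197 : act 2 n6771 = n6724 := d5_2 D5142 D6771 (iv D6724) (iv D5107) (iv F6277)
def n6772 : Q := act 3 n5142
theorem D6772 : act 3 n5142 = n6772 := rfl
def n6773 : Q := act 5 n5142
theorem D6773 : act 5 n5142 = n6773 := rfl
theorem F11198 : act 2 n6773 = n5143 := d11_1 D6773 (iv D5143) D5142
def n6774 : Q := act 4 n5143
theorem D6774 : act 4 n5143 = n6774 := rfl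
theorem F11199 : act 1 n6774 = n6727 := d7_1 D6774 (iv D6727) (iv F8428)
def n6775 : Q := act 2 n5144
theorem D6775 : act 2 n5144 = n6775 := rfl
theorem F11200 : act 0 n6775 = n5146 := d1_1 D6775 (iv D5146) (iv F8430)
def n6776 : Q := act 4 n5144
theorem D6776 : act 4 n5144 = n6776 := rfl
theorem F11201 : act 0 n6776 = n5147 := d3_1 D6776 (iv D5147) (iv F8430)
theorem F11202 : act 1 n6776 = n5677 := d7_1 D6776 F9347 (iv F8431)
theorem F11203 : act 3 n6776 = n5676 := d12_1 D6776 (iv D5676) F6987 (iv F6282) D5144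
def n6777 : Q := act 5 n5144
theorem D6777 : act 5 n5144 = n6777 := rfl
theorem F11204 : act 0 n6777 = n5148 := d4_1 D6777 (iv D5148) (iv F8430)
theorem F11205 : act 1 n6777 = n6311 := d8_1 D6777 (iv D6311) (iv F8431)
theorem F11206 : act 3 n6777 = n5145 := d13_1 D6777 (iv D5145) D5144
def n6778 : Q := act 1 n5146
theorem D6778 : act 1 n5146 = n6778 := rfl
theorem F11207 : act 2 n6778 = n5148 := d5_2 D5146 D6778 F8438 (iv D3854) (iv F6283)
theorem F11208 : act 5 n5146 = n6778 := d11_0 F11207 (iv D5148) D5146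
def n6779 : Q := act 3 n5146
theorem D6779 : act 3 n5146 = n6779 := rfl
def n6780 : Q := act 4 n5146
theorem D6780 : act 4 n5146 = n6780 := rfl
theorem F11209 : act 2 n6780 = n5147 := d10_1 D6780 (iv D5147) D5146
def n6781 : Q := act 5 n5147
theorem D6781 : act 5 n5147 = n6781 := rfl
theorem F11210 : act 1 n6781 = n5151 := d8_1 D6781 (iv D5151) (iv F8436)
theorem F11211 : act 3 n6781 = n6307 := d13_1 D6781 (iv D6307) (iv F8437)
def n6782 : Q := act 4 n5148
theorem D6782 : act 4 n5148 = n6782 := rfl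
theorem F11212 : act 1 n6782 = n5150 := d7_1 D6782 (iv D5150) (iv F8438)
def n6783 : Q := act 3 n5149
theorem D6783 : act 3 n5149 = n6783 := rfl
theorem F11213 : act 0 n6783 = n6548 := d2_1 D6783 F10840 (iv F8440)
theorem F11214 : act 1 n6783 = n5152 := d6_1 D6783 (iv D5152) (iv F8441)
theorem F11215 : act 5 n6783 = n6308 := d13_2 (iv F8443) D6783 (iv D6308)
def n6784 : Q := act 3 n5150
theorem D6784 : act 3 n5150 = n6784 := rfl
theorem F11216 : act 0 n6784 = n6317 := d2_1 D6784 (iv D6317) (iv F8444)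
theorem F11217 : act 4 n6784 = n5152 := d12_2 D5150 D6784 (iv D5152) (iv D3856) (iv F6287)
def n6785 : Q := act 5 n5150
theorem D6785 : act 5 n5150 = n6785 := rfl
theorem F11218 : act 0 n6785 = n6318 := d4_1 D6785 (iv D6318) (iv F8444)
theorem F11219 : act 2 n6785 = n5151 := d11_1 D6785 (iv D5151) (iv F8445)
theorem F11220 : act 4 n6785 = n5151 := d14_1 D6785 (iv D5151) (iv D3855) F6288 D5150
def n6786 : Q := act 2 n5152
theorem D6786 : act 2 n5152 = n6786 := rfl
theorem F11221 : act 0 n6786 = n6319 := d1_1 D6786 (iv D6319) (iv F8448)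
theorem F11222 : act 3 n6786 = n6330 := d9_2 D5152 D6786 (iv D6330) (iv D4780) (iv D3554) (iv D2616) (iv F4214) D3553 D4778 D6327 F10434 (iv D5116) F6251 (iv F4613) (iv F6292)
theorem F11223 : act 5 n6786 = n6309 := d11_2 (iv F8449) D6786 (iv D6309)
def n6787 : Q := act 1 n5153
theorem D6787 : act 1 n5153 = n6787 := rfl
theorem F11224 : act 2 n6787 = n6354 := d5_2 D5153 D6787 (iv D6354) (iv D4804) (iv F6295)
def n6788 : Q := act 3 n5153
theorem D6788 : act 3 n5153 = n6788 := rfl
theorem F11225 : act 0 n6788 = n5156 := d2_1 D6788 (iv D5156) (iv F8450)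
def n6789 : Q := act 4 n5153
theorem D6789 : act 4 n5153 = n6789 := rfl
theorem F11226 : act 0 n6789 = n5157 := d3_1 D6789 (iv D5157) (iv F8450)
theorem F11227 : act 2 n6789 = n5154 := d10_1 D6789 (iv D5154) D5153
def n6790 : Q := act 5 n5154
theorem D6790 : act 5 n5154 = n6790 := rfl
theorem F11228 : act 0 n6790 = n5158 := d4_1 D6790 (iv D5158) (iv F8451)
theorem F11229 : act 1 n6790 = n6357 := d8_1 D6790 (iv D6357) (iv F8452)
theorem F11230 : act 3 n6790 = n6350 := d13_1 D6790 (iv D6350) (iv F8453)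
def n6791 : Q := act 3 n5155
theorem D6791 : act 3 n5155 = n6791 := rfl
theorem F11231 : act 0 n6791 = n5159 := d2_1 D6791 (iv D5159) (iv F8454)
theorem F11232 : act 1 n6791 = n6358 := d6_1 D6791 (iv D6358) (iv F8455)
theorem F11233 : act 5 n6791 = n6351 := d13_2 (iv F8457) D6791 (iv D6351)
def n6792 : Q := act 2 n5156
theorem D6792 : act 2 n5156 = n6792 := rfl
def n6793 : Q := act 4 n5156
theorem D6793 : act 4 n5156 = n6793 := rfl
def n6794 : Q := act 3 n5157
theorem D6794 : act 3 n5157 = n6794 := rfl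
def n6795 : Q := act 5 n5157
theorem D6795 : act 5 n5157 = n6795 := rfl
theorem F11234 : act 2 n6795 = n5158 := d11_1 D6795 (iv D5158) (iv F8458)
def n6796 : Q := act 2 n5159
theorem D6796 : act 2 n5159 = n6796 := rfl
theorem F11235 : act 5 n6796 = n6352 := d11_2 (iv F8462) D6796 (iv D6352)
def n6797 : Q := act 0 n5160
theorem D6797 : act 0 n5160 = n6797 := rfl
theorem F11236 : act 1 n6797 = n5167 := d0_2 D5160 D6797 (iv D5167) (iv D3868) (iv F6306)
theorem F11237 : act 3 n6426 = n6797 := d6_0 F11236 (iv F8476) D6426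
theorem F11238 : act 5 n6354 = n6797 := d8_0 F11236 F8475 D6354
def n6798 : Q := act 3 n5160
theorem D6798 : act 3 n5160 = n6798 := rfl
theorem F11239 : act 0 n6798 = n6426 := d2_1 D6798 F11237 (iv D6797)
theorem F11240 : act 1 n6798 = n5161 := d6_1 D6798 (iv D5161) D5160
theorem F11241 : act 2 n6426 = n6798 := d5_0 F11240 F8464 F7937 D4860 D6426
def n6799 : Q := act 4 n5160
theorem D6799 : act 4 n5160 = n6799 := rfl
theorem F11242 : act 1 n6799 = n5162 := d7_1 D6799 (iv D5162) D5160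
def n6800 : Q := act 5 n5160
theorem D6800 : act 5 n5160 = n6800 := rfl
theorem F11243 : act 0 n6800 = n6354 := d4_1 D6800 F11238 (iv D6797)
theorem F11244 : act 1 n6800 = n5163 := d8_1 D6800 (iv D5163) D5160
def n6801 : Q := act 4 n5161
theorem D6801 : act 4 n5161 = n6801 := rfl
theorem F11245 : act 0 n6801 = n5171 := d3_1 D6801 (iv D5171) (iv F8463)
theorem F11246 : act 2 n6801 = n6424 := d10_1 D6801 (iv D6424) (iv F8464)
def n6802 : Q := act 3 n5162
theorem D6802 : act 3 n5162 = n6802 := rfl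
theorem F11247 : act 0 n6802 = n5173 := d2_1 D6802 (iv D5173) (iv F8465)
def n6803 : Q := act 5 n5162
theorem D6803 : act 5 n5162 = n6803 := rfl
theorem F11248 : act 0 n6803 = n5174 := d4_1 D6803 (iv D5174) (iv F8465)
theorem F11249 : act 2 n6803 = n5164 := d11_1 D6803 (iv D5164) (iv F8466)
def n6804 : Q := act 4 n5163
theorem D6804 : act 4 n5163 = n6804 := rfl
theorem F11250 : act 0 n6804 = n5175 := d3_1 D6804 (iv D5175) (iv F8467)
theorem F11251 : act 2 n6804 = n5165 := d10_1 D6804 (iv D5165) (iv F8468)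
def n6805 : Q := act 4 n5164
theorem D6805 : act 4 n5164 = n6805 := rfl
theorem F11252 : act 0 n6805 = n5176 := d3_1 D6805 (iv D5176) (iv F8469)
theorem F11253 : act 5 n6805 = n5165 := d14_2 D5164 D6805 (iv D5165) (iv D3866) D3865
def n6806 : Q := act 3 n5165
theorem D6806 : act 3 n5165 = n6806 := rfl
theorem F11254 : act 0 n6806 = n5177 := d2_1 D6806 (iv D5177) (iv F8471)
theorem F11255 : act 4 n6806 = n5166 := d12_2 D5165 D6806 (iv D5166) (iv D3867) (iv F6310)
def n6807 : Q := act 2 n5166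
theorem D6807 : act 2 n5166 = n6807 := rfl
theorem F11256 : act 0 n6807 = n5178 := d1_1 D6807 (iv D5178) (iv F8472)
theorem F11257 : act 5 n6807 = n5188 := d11_2 (iv F8473) D6807 (iv D5188)
def n6808 : Q := act 4 n5167
theorem D6808 : act 4 n5167 = n6808 := rfl
theorem F11258 : act 0 n6808 = n5169 := d3_1 D6808 (iv D5169) D5167
theorem F11259 : act 2 n6808 = n5179 := d10_1 D6808 (iv D5179) (iv F8474)
def n6809 : Q := act 4 n5168
theorem D6809 : act 4 n5168 = n6809 := rfl
theorem F11260 : act 0 n6809 = n6427 := d3_1 D6809 (iv D6427) (iv F8477)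
theorem F11261 : act 1 n6809 = n5171 := d7_1 D6809 (iv D5171) (iv F8478)
theorem F11262 : act 2 n6809 = n6417 := d10_1 D6809 (iv D6417) (iv F8480)
def n6810 : Q := act 3 n5169
theorem D6810 : act 3 n5169 = n6810 := rfl
theorem F11263 : act 1 n6810 = n5173 := d6_1 D6810 (iv D5173) (iv F8481)
def n6811 : Q := act 5 n5169
theorem D6811 : act 5 n5169 = n6811 := rfl
theorem F11264 : act 1 n6811 = n5174 := d8_1 D6811 (iv D5174) (iv F8481)
theorem F11265 : act 2 n6811 = n5181 := d11_1 D6811 (iv D5181) (iv F8482)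
theorem F11266 : act 4 n6811 = n6362 := d14_1 D6811 (iv D6362) (iv D4808) F6314 D5169
def n6812 : Q := act 1 n5170
theorem D6812 : act 1 n5170 = n6812 := rfl
theorem F11267 : act 0 n6812 = n6414 := d0_1 D6812 F10592 F7924 (iv F7937) (iv F8483)
theorem F11268 : act 2 n6812 = n6414 := d5_2 D5170 D6812 F10592 (iv F8480) F8478
theorem F11269 : act 3 n6812 = n6413 := d6_2 (iv F8484) D6812 F10591
def n6813 : Q := act 4 n5170
theorem D6813 : act 4 n5170 = n6813 := rfl
theorem F11270 : act 0 n6813 = n6424 := d3_1 D6813 (iv D6424) (iv F8483)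
theorem F11271 : act 2 n6813 = n5171 := d10_1 D6813 (iv D5171) D5170
def n6814 : Q := act 3 n5171
theorem D6814 : act 3 n5171 = n6814 := rfl
theorem F11272 : act 4 n6814 = n5173 := d12_2 D5171 D6814 (iv D5173) (iv D3870) D3869
def n6815 : Q := act 5 n5171
theorem D6815 : act 5 n5171 = n6815 := rfl
def n6816 : Q := act 4 n5172
theorem D6816 : act 4 n5172 = n6816 := rfl
theorem F11273 : act 1 n6816 = n6360 := d7_1 D6816 (iv D6360) (iv F8485)
def n6817 : Q := act 2 n5173
theorem D6817 : act 2 n5173 = n6817 := rfl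
def n6818 : Q := act 5 n5173
theorem D6818 : act 5 n5173 = n6818 := rfl
theorem F11274 : act 3 n6818 = n5174 := d13_1 D6818 (iv D5174) D5173
def n6819 : Q := act 4 n5174
theorem D6819 : act 4 n5174 = n6819 := rfl
theorem F11275 : act 1 n6819 = n6362 := d7_1 D6819 (iv F11266) F11264
theorem F11276 : act 2 n6819 = n5176 := d10_1 D6819 (iv D5176) (iv F8487)
theorem F11277 : act 5 n6819 = n5175 := d14_2 D5174 D6819 (iv D5175) (iv D3871) D3870
def n6820 : Q := act 3 n5175
theorem D6820 : act 3 n5175 = n6820 := rfl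
theorem F11278 : act 1 n6820 = n6361 := d6_1 D6820 (iv D6361) (iv F8488)
def n6821 : Q := act 2 n5177
theorem D6821 : act 2 n5177 = n6821 := rfl
theorem F11279 : act 4 n6821 = n5178 := d10_2 (iv F8493) D6821 (iv D5178)
def n6822 : Q := act 1 n5178
theorem D6822 : act 1 n5178 = n6822 := rfl
theorem F11280 : act 2 n6822 = n5182 := d5_2 D5178 D6822 (iv D5182) (iv D3881) (iv F6321)
theorem F11281 : act 5 n6822 = n5195 := d8_2 (iv F8494) D6822 (iv D5195)
def n6823 : Q := act 3 n5178
theorem D6823 : act 3 n5178 = n6823 := rfl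
theorem F11282 : act 5 n6823 = n5196 := d13_2 (iv F8494) D6823 (iv D5196)
def n6824 : Q := act 3 n5179
theorem D6824 : act 3 n5179 = n6824 := rfl
theorem F11283 : act 0 n6824 = n5180 := d2_1 D6824 (iv D5180) (iv F8495)
theorem F11284 : act 4 n6824 = n6358 := d12_2 D5179 D6824 (iv D6358) (iv D4806) (iv F6323)
def n6825 : Q := act 5 n5179
theorem D6825 : act 5 n5179 = n6825 := rfl
theorem F11285 : act 0 n6825 = n5181 := d4_1 D6825 (iv D5181) (iv F8495)
theorem F11286 : act 4 n6825 = n6357 := d14_1 D6825 (iv D6357) (iv D4805) (iv F6324) D5179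
def n6826 : Q := act 2 n5180
theorem D6826 : act 2 n5180 = n6826 := rfl
theorem F11287 : act 4 n6826 = n6363 := d10_2 (iv F8497) D6826 (iv D6363)
def n6827 : Q := act 0 n5182
theorem D6827 : act 0 n5182 = n6827 := rfl
theorem F11288 : act 5 n6827 = n5197 := d4_2 (iv F8500) D6827 (iv D5197)
def n6828 : Q := act 4 n5183
theorem D6828 : act 4 n5183 = n6828 := rfl
theorem F11289 : act 1 n6828 = n5185 := d7_1 D6828 (iv D5185) (iv F8501)
def n6829 : Q := act 3 n5184
theorem D6829 : act 3 n5184 = n6829 := rfl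
theorem F11290 : act 1 n6829 = n5186 := d6_1 D6829 (iv D5186) (iv F8502)
def n6830 : Q := act 5 n5184
theorem D6830 : act 5 n5184 = n6830 := rfl
theorem F11291 : act 0 n6830 = n6665 := d4_1 D6830 F11015 F10918
theorem F11292 : act 1 n6830 = n5187 := d8_1 D6830 (iv D5187) (iv F8502)
theorem F11293 : act 2 n6830 = n6671 := d11_1 D6830 F11028 F10961
theorem F11294 : act 4 n6830 = n6661 := d14_1 D6830 (iv D6661) F8260 (iv F8175) D5184
def n6831 : Q := act 3 n5185
theorem D6831 : act 3 n5185 = n6831 := rfl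
theorem F11295 : act 0 n6831 = n5191 := d2_1 D6831 (iv D5191) (iv F8503)
theorem F11296 : act 4 n6831 = n5186 := d12_2 D5185 D6831 (iv D5186) (iv D3884) D3883
def n6832 : Q := act 5 n5185
theorem D6832 : act 5 n5185 = n6832 := rfl
theorem F11297 : act 0 n6832 = n5192 := d4_1 D6832 (iv D5192) (iv F8503)
def n6833 : Q := act 2 n5186
theorem D6833 : act 2 n5186 = n6833 := rfl
theorem F11298 : act 0 n6833 = n5193 := d1_1 D6833 (iv D5193) (iv F8504)
def n6834 : Q := act 5 n5186
theorem D6834 : act 5 n5186 = n6834 := rfl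
theorem F11299 : act 0 n6834 = n5194 := d4_1 D6834 (iv D5194) (iv F8504)
theorem F11300 : act 3 n6834 = n5187 := d13_1 D6834 (iv D5187) D5186
def n6835 : Q := act 1 n5188
theorem D6835 : act 1 n5188 = n6835 := rfl
def n6836 : Q := act 3 n5188
theorem D6836 : act 3 n5188 = n6836 := rfl
theorem F11301 : act 0 n6836 = n5196 := d2_1 D6836 (iv D5196) (iv F8507)
def n6837 : Q := act 4 n5189
theorem D6837 : act 4 n5189 = n6837 := rfl
theorem F11302 : act 1 n6837 = n5190 := d7_1 D6837 (iv D5190) D5189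
def n6838 : Q := act 3 n5190
theorem D6838 : act 3 n5190 = n6838 := rfl
theorem F11303 : act 0 n6838 = n6603 := d2_1 D6838 F10908 F10469
theorem F11304 : act 4 n6838 = n6600 := d12_2 D5190 D6838 (iv D6600) F8156 (iv F7812)
def n6839 : Q := act 5 n5190
theorem D6839 : act 5 n5190 = n6839 := rfl
theorem F11305 : act 2 n6839 = n5192 := d11_1 D6839 (iv D5192) (iv F8508)
def n6840 : Q := act 2 n5191
theorem D6840 : act 2 n5191 = n6840 := rfl
theorem F11306 : act 4 n6840 = n5193 := d10_2 (iv F8509) D6840 (iv D5193)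
def n6841 : Q := act 5 n5191
theorem D6841 : act 5 n5191 = n6841 := rfl
theorem F11307 : act 3 n6841 = n5192 := d13_1 D6841 (iv D5192) D5191
def n6842 : Q := act 1 n5193
theorem D6842 : act 1 n5193 = n6842 := rfl
def n6843 : Q := act 3 n5193
theorem D6843 : act 3 n5193 = n6843 := rfl
def n6844 : Q := act 5 n5193
theorem D6844 : act 5 n5193 = n6844 := rfl
theorem F11308 : act 2 n6844 = n5194 := d11_1 D6844 (iv D5194) D5193
def n6845 : Q := act 4 n5194
theorem D6845 : act 4 n5194 = n6845 := rfl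
def n6846 : Q := act 0 n5195
theorem D6846 : act 0 n5195 = n6846 := rfl
theorem F11309 : act 2 n6846 = n5197 := d1_2 (iv F8511) D6846 (iv D5197)
def n6847 : Q := act 3 n5195
theorem D6847 : act 3 n5195 = n6847 := rfl
theorem F11310 : act 1 n6847 = n5196 := d6_1 D6847 (iv D5196) D5195
def n6848 : Q := act 2 n5196
theorem D6848 : act 2 n5196 = n6848 := rfl
def n6849 : Q := act 4 n5196
theorem D6849 : act 4 n5196 = n6849 := rfl
def n6850 : Q := act 3 n5197
theorem D6850 : act 3 n5197 = n6850 := rfl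
theorem F11311 : act 0 n6850 = n5198 := d2_1 D6850 (iv D5198) D5197
def n6851 : Q := act 2 n5198
theorem D6851 : act 2 n5198 = n6851 := rfl
theorem F11312 : act 1 n6851 = n6796 := d5_1 D6851 (iv D6796) F8461 (iv F6339) (iv F8512)
def n6852 : Q := act 3 n5199
theorem D6852 : act 3 n5199 = n6852 := rfl
theorem F11313 : act 0 n6852 = n5200 := d2_1 D6852 (iv D5200) (iv F8513)
theorem F11314 : act 1 n6852 = n5205 := d6_1 D6852 (iv D5205) (iv F8514)
theorem F11315 : act 4 n6852 = n6292 := d12_2 D5199 D6852 (iv D6292) (iv D4747) (iv F6342)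
def n6853 : Q := act 5 n5199
theorem D6853 : act 5 n5199 = n6853 := rfl
theorem F11316 : act 0 n6853 = n5201 := d4_1 D6853 (iv D5201) (iv F8513)
theorem F11317 : act 1 n6853 = n5206 := d8_1 D6853 (iv D5206) (iv F8514)
theorem F11318 : act 2 n6853 = n6719 := d11_1 D6853 (iv D6719) (iv F8515)
theorem F11319 : act 4 n6853 = n6762 := d14_1 D6853 (iv D6762) (iv D5135) (iv F6343) D5199
def n6854 : Q := act 2 n5200
theorem D6854 : act 2 n5200 = n6854 := rfl
theorem F11320 : act 4 n6854 = n6294 := d10_2 (iv F8517) D6854 (iv D6294)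
def n6855 : Q := act 5 n5200
theorem D6855 : act 5 n5200 = n6855 := rfl
theorem F11321 : act 1 n6855 = n5203 := d8_1 D6855 (iv D5203) (iv F8516)
theorem F11322 : act 3 n6855 = n5201 := d13_1 D6855 (iv D5201) D5200
def n6856 : Q := act 1 n5202
theorem D6856 : act 1 n5202 = n6856 := rfl
theorem F11323 : act 4 n6856 = n6296 := d7_2 (iv F8520) D6856 (iv D6296)
def n6857 : Q := act 4 n5203
theorem D6857 : act 4 n5203 = n6857 := rfl
theorem F11324 : act 0 n6857 = n5217 := d3_1 D6857 (iv D5217) (iv F8521)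
theorem F11325 : act 2 n6857 = n6594 := d10_1 D6857 F10891 F10726
theorem F11326 : act 5 n6857 = n6297 := d14_2 D5203 D6857 (iv D6297) (iv D4751) (iv F6346)
def n6858 : Q := act 3 n5204
theorem D6858 : act 3 n5204 = n6858 := rfl
theorem F11327 : act 0 n6858 = n5208 := d2_1 D6858 (iv D5208) (iv F8523)
theorem F11328 : act 1 n6858 = n6292 := d6_1 D6858 (iv D6292) (iv F8524)
theorem F11329 : act 4 n6858 = n5205 := d12_2 D5204 D6858 (iv D5205) (iv D3899) D3898
def n6859 : Q := act 5 n5204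
theorem D6859 : act 5 n5204 = n6859 := rfl
theorem F11330 : act 0 n6859 = n5209 := d4_1 D6859 (iv D5209) (iv F8523)
theorem F11331 : act 1 n6859 = n6293 := d8_1 D6859 (iv D6293) (iv F8524)
theorem F11332 : act 2 n6859 = n6246 := d11_1 D6859 (iv D6246) (iv F8525)
theorem F11333 : act 4 n6859 = n6764 := d14_1 D6859 (iv D6764) (iv D5136) (iv F6351) D5204
def n6860 : Q := act 2 n5205
theorem D6860 : act 2 n5205 = n6860 := rfl
theorem F11334 : act 0 n6860 = n5210 := d1_1 D6860 (iv D5210) (iv F8526)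
def n6861 : Q := act 5 n5205
theorem D6861 : act 5 n5205 = n6861 := rfl
theorem F11335 : act 0 n6861 = n5211 := d4_1 D6861 (iv D5211) (iv F8526)
theorem F11336 : act 3 n6861 = n5206 := d13_1 D6861 (iv D5206) D5205
def n6862 : Q := act 3 n5207
theorem D6862 : act 3 n5207 = n6862 := rfl
theorem F11337 : act 0 n6862 = n6245 := d2_1 D6862 (iv D6245) (iv F8530)
theorem F11338 : act 1 n6862 = n6243 := d6_1 D6862 (iv D6243) (iv F8531)
theorem F11339 : act 4 n6862 = n6243 := d12_2 D5207 D6862 (iv D6243) (iv D4705) (iv F6358)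
def n6863 : Q := act 5 n5207
theorem D6863 : act 5 n5207 = n6863 := rfl
theorem F11340 : act 0 n6863 = n6246 := d4_1 D6863 (iv D6246) (iv F8530)
theorem F11341 : act 1 n6863 = n6244 := d8_1 D6863 (iv D6244) (iv F8531)
theorem F11342 : act 2 n6863 = n5209 := d11_1 D6863 (iv D5209) (iv F8532)
theorem F11343 : act 4 n6863 = n6768 := d14_1 D6863 (iv D6768) (iv D5139) (iv F6357) D5207
def n6864 : Q := act 2 n5208
theorem D6864 : act 2 n5208 = n6864 := rfl
theorem F11344 : act 4 n6864 = n5210 := d10_2 (iv F8534) D6864 (iv D5210)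
def n6865 : Q := act 5 n5208
theorem D6865 : act 5 n5208 = n6865 := rfl
theorem F11345 : act 1 n6865 = n5213 := d8_1 D6865 (iv D5213) (iv F8533)
theorem F11346 : act 3 n6865 = n5209 := d13_1 D6865 (iv D5209) D5208
def n6866 : Q := act 1 n5210
theorem D6866 : act 1 n5210 = n6866 := rfl
theorem F11347 : act 2 n6866 = n5214 := d5_2 D5210 D6866 (iv D5214) (iv D3906) (iv F6360)
def n6867 : Q := act 3 n5210
theorem D6867 : act 3 n5210 = n6867 := rfl
def n6868 : Q := act 5 n5210
theorem D6868 : act 5 n5210 = n6868 := rfl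
theorem F11348 : act 2 n6868 = n5211 := d11_1 D6868 (iv D5211) D5210
def n6869 : Q := act 4 n5211
theorem D6869 : act 4 n5211 = n6869 := rfl
theorem F11349 : act 1 n6869 = n5217 := d7_1 D6869 (iv D5217) (iv F8537)
theorem F11350 : act 3 n6869 = n6774 := d12_1 D6869 (iv D6774) F8429 (iv F6363) (iv F8538)
def n6870 : Q := act 1 n5212
theorem D6870 : act 1 n5212 = n6870 := rfl
theorem F11351 : act 4 n6870 = n5214 := d7_2 (iv F8540) D6870 (iv D5214)
def n6871 : Q := act 4 n5213
theorem D6871 : act 4 n5213 = n6871 := rfl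
theorem F11352 : act 0 n6871 = n6297 := d3_1 D6871 (iv D6297) (iv F8541)
theorem F11353 : act 2 n6871 = n5750 := d10_1 D6871 F9459 F9071
theorem F11354 : act 5 n6871 = n5217 := d14_2 D5213 D6871 (iv D5217) (iv D3907) (iv F6365)
def n6872 : Q := act 0 n5214
theorem D6872 : act 0 n5214 = n6872 := rfl
def n6873 : Q := act 3 n5214
theorem D6873 : act 3 n5214 = n6873 := rfl
theorem F11355 : act 1 n6873 = n5215 := d6_1 D6873 (iv D5215) D5214
theorem F11356 : act 5 n5793 = n6873 := d8_0 F11355 F8544 D5793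
def n6874 : Q := act 5 n5214
theorem D6874 : act 5 n5214 = n6874 := rfl
theorem F11357 : act 1 n6874 = n5216 := d8_1 D6874 (iv D5216) D5214
theorem F11358 : act 3 n6874 = n5793 := d13_1 D6874 F11356 (iv D6873)
def n6875 : Q := act 4 n5215
theorem D6875 : act 4 n5215 = n6875 := rfl
theorem F11359 : act 0 n6875 = n6593 := d3_1 D6875 F10890 F10728
theorem F11360 : act 2 n6875 = n5794 := d10_1 D6875 (iv D5794) (iv F8543)
theorem F11361 : act 3 n6875 = n5749 := d12_1 D6875 F9458 F9074 F8540 D5215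
theorem F11362 : act 5 n6875 = n5742 := d14_2 (iv F8544) D6875 (iv D5742) (iv F7062) (iv F7122)
def n6876 : Q := act 4 n5216
theorem D6876 : act 4 n5216 = n6876 := rfl
theorem F11363 : act 0 n6876 = n6594 := d3_1 D6876 F10891 F10725
theorem F11364 : act 2 n6876 = n5217 := d10_1 D6876 (iv D5217) (iv F8545)
theorem F11365 : act 3 n6876 = n5743 := d12_1 D6876 (iv D5743) F7065 (iv F7122) (iv F8546)
theorem F11366 : act 5 n6876 = n5750 := d14_2 D5216 D6876 F9459 F9072 F8540
def n6877 : Q := act 3 n5218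
theorem D6877 : act 3 n5218 = n6877 := rfl
theorem F11367 : act 0 n6877 = n5221 := d2_1 D6877 (iv D5221) (iv F8547)
def n6878 : Q := act 5 n5218
theorem D6878 : act 5 n5218 = n6878 := rfl
theorem F11368 : act 0 n6878 = n5222 := d4_1 D6878 (iv D5222) (iv F8547)
theorem F11369 : act 2 n6878 = n5219 := d11_1 D6878 (iv D5219) D5218
def n6879 : Q := act 0 n5220
theorem D6879 : act 0 n5220 = n6879 := rfl
theorem F11370 : act 2 n6879 = n5224 := d1_2 (iv F8552) D6879 (iv D5224)
theorem F11371 : act 4 n6879 = n6641 := d3_2 (iv F8553) D6879 (iv D6641)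
def n6880 : Q := act 3 n5220
theorem D6880 : act 3 n5220 = n6880 := rfl
theorem F11372 : act 1 n6880 = n5221 := d6_1 D6880 (iv D5221) D5220
def n6881 : Q := act 5 n5220
theorem D6881 : act 5 n5220 = n6881 := rfl
theorem F11373 : act 1 n6881 = n5222 := d8_1 D6881 (iv D5222) D5220
theorem F11374 : act 2 n6881 = n5226 := d11_1 D6881 (iv D5226) (iv F8552)
theorem F11375 : act 4 n6881 = n6657 := d14_1 D6881 (iv D6657) (iv D5050) (iv F8227) (iv F8553)
def n6882 : Q := act 2 n5221
theorem D6882 : act 2 n5221 = n6882 := rfl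
def n6883 : Q := act 4 n5221
theorem D6883 : act 4 n5221 = n6883 := rfl
theorem F11376 : act 3 n6883 = n6643 := d12_1 D6883 (iv D6643) (iv D5037) (iv F6375) D5221
def n6884 : Q := act 5 n5221
theorem D6884 : act 5 n5221 = n6884 := rfl
theorem F11377 : act 3 n6884 = n5222 := d13_1 D6884 (iv D5222) D5221
def n6885 : Q := act 4 n5222
theorem D6885 : act 4 n5222 = n6885 := rfl
theorem F11378 : act 1 n6885 = n6657 := d7_1 D6885 (iv F11375) F11373
theorem F11379 : act 2 n6885 = n5223 := d10_1 D6885 (iv D5223) (iv F8554)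
theorem F11380 : act 5 n6885 = n6386 := d14_2 D5222 D6885 F10549 F8019 (iv F6375)
def n6886 : Q := act 3 n5224
theorem D6886 : act 3 n5224 = n6886 := rfl
theorem F11381 : act 0 n6886 = n5225 := d2_1 D6886 (iv D5225) D5224
theorem F11382 : act 1 n6886 = n6715 := d6_1 D6886 (iv D6715) (iv F8558)
theorem F11383 : act 4 n6886 = n6654 := d12_2 (iv F8559) D6886 (iv D6654) (iv D5048) (iv F8229)
def n6887 : Q := act 5 n5224
theorem D6887 : act 5 n5224 = n6887 := rfl
theorem F11384 : act 0 n6887 = n5226 := d4_1 D6887 (iv D5226) D5224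
theorem F11385 : act 1 n6887 = n6716 := d8_1 D6887 (iv D6716) (iv F8558)
theorem F11386 : act 4 n6887 = n6653 := d14_1 D6887 (iv D6653) (iv D5047) (iv F8230) (iv F8559)
def n6888 : Q := act 2 n5225
theorem D6888 : act 2 n5225 = n6888 := rfl
theorem F11387 : act 4 n6888 = n6658 := d10_2 (iv F8561) D6888 (iv D6658)
def n6889 : Q := act 3 n5227
theorem D6889 : act 3 n5227 = n6889 := rfl
theorem F11388 : act 0 n6889 = n6125 := d2_1 D6889 (iv D6125) (iv F8564)
theorem F11389 : act 1 n6889 = n6767 := d6_1 D6889 (iv D6767) (iv F8565)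
theorem F11390 : act 4 n6889 = n6767 := d12_2 D5227 D6889 (iv D6767) (iv D5139) (iv F6390)
def n6890 : Q := act 5 n5227
theorem D6890 : act 5 n5227 = n6890 := rfl
theorem F11391 : act 0 n6890 = n6126 := d4_1 D6890 (iv D6126) (iv F8564)
theorem F11392 : act 1 n6890 = n6768 := d8_1 D6890 (iv D6768) (iv F8565)
theorem F11393 : act 2 n6890 = n5229 := d11_1 D6890 (iv D5229) (iv F8566)
theorem F11394 : act 4 n6890 = n6244 := d14_1 D6890 (iv D6244) (iv D4705) (iv F6391) D5227
def n6891 : Q := act 2 n5228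
theorem D6891 : act 2 n5228 = n6891 := rfl
theorem F11395 : act 0 n6891 = n6129 := d1_1 D6891 (iv D6129) (iv F8567)
theorem F11396 : act 1 n6891 = n5877 := d5_1 D6891 F9643 F7201 F6399 (iv F8568)
theorem F11397 : act 4 n6891 = n5230 := d10_2 (iv F8569) D6891 (iv D5230)
def n6892 : Q := act 5 n5228
theorem D6892 : act 5 n5228 = n6892 := rfl
theorem F11398 : act 0 n6892 = n6130 := d4_1 D6892 (iv D6130) (iv F8567)
theorem F11399 : act 1 n6892 = n5231 := d8_1 D6892 (iv D5231) (iv F8568)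
theorem F11400 : act 3 n6892 = n5229 := d13_1 D6892 (iv D5229) D5228
theorem F11401 : act 4 n6892 = n5837 := d14_1 D6892 (iv D5837) F7164 (iv F6396) (iv F8569)
def n6893 : Q := act 3 n5230
theorem D6893 : act 3 n5230 = n6893 := rfl
theorem F11402 : act 0 n6893 = n6166 := d2_1 D6893 (iv D6166) (iv F8573)
theorem F11403 : act 1 n6893 = n5876 := d6_1 D6893 (iv D5876) (iv F8574)
theorem F11404 : act 2 n6893 = n6478 := d9_1 D6893 (iv D6478) (iv D4904) (iv D3661) F4349 D3056 D4123 D5494 (iv F10968) (iv D6640) (iv D5035) (iv D3766) (iv F4672) D3918 D5230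
theorem F11405 : act 5 n6893 = n5838 := d13_2 (iv F8575) D6893 (iv D5838)
def n6894 : Q := act 3 n5232
theorem D6894 : act 3 n5232 = n6894 := rfl
theorem F11406 : act 0 n6894 = n5233 := d2_1 D6894 (iv D5233) (iv F8580)
theorem F11407 : act 1 n6894 = n6763 := d6_1 D6894 (iv D6763) (iv F8581)
theorem F11408 : act 4 n6894 = n6761 := d12_2 D5232 D6894 (iv D6761) (iv D5135) (iv F6404)
def n6895 : Q := act 5 n5232
theorem D6895 : act 5 n5232 = n6895 := rfl
theorem F11409 : act 0 n6895 = n5234 := d4_1 D6895 (iv D5234) (iv F8580)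
theorem F11410 : act 1 n6895 = n6764 := d8_1 D6895 (iv D6764) (iv F8581)
theorem F11411 : act 2 n6895 = n6067 := d11_1 D6895 (iv D6067) (iv F8582)
theorem F11412 : act 4 n6895 = n6293 := d14_1 D6895 (iv D6293) (iv D4747) (iv F6405) D5232
def n6896 : Q := act 2 n5233
theorem D6896 : act 2 n5233 = n6896 := rfl
def n6897 : Q := act 5 n5233
theorem D6897 : act 5 n5233 = n6897 := rfl
theorem F11413 : act 1 n6897 = n5236 := d8_1 D6897 (iv D5236) (iv F8583)
theorem F11414 : act 3 n6897 = n5234 := d13_1 D6897 (iv D5234) D5233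
def n6898 : Q := act 1 n5235
theorem D6898 : act 1 n5235 = n6898 := rfl
def n6899 : Q := act 3 n5235
theorem D6899 : act 3 n5235 = n6899 := rfl
theorem F11415 : act 2 n6899 = n5872 := d15_2 D5235 D6899 F9637 (iv F8577) F8578 (iv F8373) (iv F11126) (iv D6723) F8370
theorem F11416 : act 5 n5871 = n6899 := d11_0 F11415 (iv D5872) (iv F9636)
def n6900 : Q := act 5 n5235
theorem D6900 : act 5 n5235 = n6900 := rfl
theorem F11417 : act 2 n6900 = n5236 := d11_1 D6900 (iv D5236) D5235
theorem F11418 : act 3 n6900 = n5871 := d13_1 D6900 F11416 (iv D6899)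
def n6901 : Q := act 4 n5236
theorem D6901 : act 4 n5236 = n6901 := rfl
theorem F11419 : act 3 n6901 = n6297 := d12_1 D6901 (iv D6297) F7730 (iv F6409) (iv F8587)
def n6902 : Q := act 0 n5237
theorem D6902 : act 0 n5237 = n6902 := rfl
theorem F11420 : act 1 n6902 = n5875 := d0_2 D5237 D6902 F9640 F7201 (iv F6410)
theorem F11421 : act 2 n6902 = n6222 := d1_2 (iv F8588) D6902 F10268
theorem F11422 : act 4 n6902 = n5240 := d3_2 (iv F8589) D6902 (iv D5240)
def n6903 : Q := act 3 n5237
theorem D6903 : act 3 n5237 = n6903 := rfl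
theorem F11423 : act 1 n6903 = n5238 := d6_1 D6903 (iv D5238) D5237
theorem F11424 : act 4 n6903 = n5856 := d12_2 (iv F8589) D6903 (iv D5856) F7186 (iv F6416)
def n6904 : Q := act 5 n5237
theorem D6904 : act 5 n5237 = n6904 := rfl
theorem F11425 : act 1 n6904 = n5239 := d8_1 D6904 (iv D5239) D5237
theorem F11426 : act 2 n6904 = n6224 := d11_1 D6904 (iv D6224) (iv F8588)
theorem F11427 : act 4 n6904 = n5849 := d14_1 D6904 (iv D5849) F7179 (iv F6417) (iv F8589)
def n6905 : Q := act 2 n5238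
theorem D6905 : act 2 n5238 = n6905 := rfl
theorem F11428 : act 0 n6905 = n5871 := d1_1 D6905 F9636 (iv F8590)
theorem F11429 : act 4 n6905 = n5858 := d10_2 (iv F8591) D6905 (iv D5858)
def n6906 : Q := act 5 n5238
theorem D6906 : act 5 n5238 = n6906 := rfl
theorem F11430 : act 0 n6906 = n5872 := d4_1 D6906 (iv D5872) (iv F8590)
theorem F11431 : act 3 n6906 = n5239 := d13_1 D6906 (iv D5239) D5238
def n6907 : Q := act 2 n5241
theorem D6907 : act 2 n5241 = n6907 := rfl
theorem F11432 : act 0 n6907 = n5243 := d1_1 D6907 (iv D5243) (iv F8599)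
theorem F11433 : act 5 n6907 = n5925 := d11_2 F8601 D6907 F9704
def n6908 : Q := act 4 n5241
theorem D6908 : act 4 n5241 = n6908 := rfl
theorem F11434 : act 0 n6908 = n5244 := d3_1 D6908 (iv D5244) (iv F8599)
theorem F11435 : act 1 n6908 = n5253 := d7_1 D6908 (iv D5253) (iv F8600)
theorem F11436 : act 3 n6908 = n5248 := d12_1 D6908 (iv D5248) (iv D3933) (iv F6420) D5241
def n6909 : Q := act 3 n5243
theorem D6909 : act 3 n5243 = n6909 := rfl
theorem F11437 : act 1 n6909 = n5929 := d6_1 D6909 F9710 (iv F8607)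
theorem F11438 : act 5 n6909 = n5926 := d13_2 (iv F8608) D6909 (iv D5926)
def n6910 : Q := act 4 n5243
theorem D6910 : act 4 n5243 = n6910 := rfl
theorem F11439 : act 1 n6910 = n5932 := d7_1 D6910 (iv D5932) (iv F8607)
theorem F11440 : act 2 n6910 = n5244 := d10_1 D6910 (iv D5244) D5243
def n6911 : Q := act 5 n5244
theorem D6911 : act 5 n5244 = n6911 := rfl
theorem F11441 : act 1 n6911 = n5246 := d8_1 D6911 (iv D5246) (iv F8609)
theorem F11442 : act 3 n6911 = n5249 := d13_1 D6911 (iv D5249) (iv F8610)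
theorem F11443 : act 4 n6911 = n5938 := d14_1 D6911 (iv D5938) (iv D4463) F6422 D5244
def n6912 : Q := act 3 n5245
theorem D6912 : act 3 n5245 = n6912 := rfl
theorem F11444 : act 0 n6912 = n5635 := d2_1 D6912 F9299 (iv F8611)
theorem F11445 : act 1 n6912 = n5247 := d6_1 D6912 (iv D5247) (iv F8612)
theorem F11446 : act 4 n6912 = n5937 := d12_2 D5245 D6912 (iv D5937) (iv D4463) (iv F6425)
theorem F11447 : act 5 n6912 = n5250 := d13_2 (iv F8614) D6912 (iv D5250)
def n6913 : Q := act 2 n5247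
theorem D6913 : act 2 n5247 = n6913 := rfl
theorem F11448 : act 0 n6913 = n5267 := d1_1 D6913 (iv D5267) (iv F8619)
theorem F11449 : act 3 n6913 = n5282 := d9_2 D5247 D6913 (iv D5282) (iv D3959) (iv D2924) (iv D2129) (iv F3449) D2923 D3957 D5279 F8678 (iv D4450) F5355 (iv F4698) (iv F6430)
theorem F11450 : act 4 n6913 = n5939 := d10_2 (iv F8620) D6913 (iv D5939)
theorem F11451 : act 5 n6913 = n5251 := d11_2 (iv F8621) D6913 (iv D5251)
def n6914 : Q := act 5 n5248
theorem D6914 : act 5 n5248 = n6914 := rfl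
theorem F11452 : act 0 n6914 = n5249 := d4_1 D6914 (iv D5249) (iv F8622)
theorem F11453 : act 1 n6914 = n5268 := d8_1 D6914 (iv D5268) (iv F8623)
theorem F11454 : act 4 n6914 = n5633 := d14_1 D6914 (iv D5633) (iv D4238) (iv F6434) D5248
def n6915 : Q := act 2 n5250
theorem D6915 : act 2 n5250 = n6915 := rfl
theorem F11455 : act 0 n6915 = n5634 := d1_1 D6915 (iv D5634) (iv F8625)
def n6916 : Q := act 1 n5251
theorem D6916 : act 1 n5251 = n6916 := rfl
theorem F11456 : act 3 n6916 = n5943 := d6_2 (iv F8628) D6916 (iv D5943)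
def n6917 : Q := act 1 n5252
theorem D6917 : act 1 n5252 = n6917 := rfl
def n6918 : Q := act 3 n5252
theorem D6918 : act 3 n5252 = n6918 := rfl
theorem F11457 : act 0 n6918 = n5256 := d2_1 D6918 (iv D5256) (iv F8629)
theorem F11458 : act 2 n6918 = n5295 := d15_2 D5252 D6918 F8707 F6493 F4752 (iv F4714) (iv F6448) (iv D3942) (iv F6441)
theorem F11459 : act 5 n5293 = n6918 := d11_0 F11458 (iv D5295) D5293
def n6919 : Q := act 4 n5252
theorem D6919 : act 4 n5252 = n6919 := rfl
theorem F11460 : act 0 n6919 = n5257 := d3_1 D6919 (iv D5257) (iv F8629)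
theorem F11461 : act 2 n6919 = n5253 := d10_1 D6919 (iv D5253) D5252
def n6920 : Q := act 5 n5252
theorem D6920 : act 5 n5252 = n6920 := rfl
theorem F11462 : act 0 n6920 = n5258 := d4_1 D6920 (iv D5258) (iv F8629)
theorem F11463 : act 2 n6920 = n5254 := d11_1 D6920 (iv D5254) D5252
theorem F11464 : act 3 n6920 = n5293 := d13_1 D6920 F11459 (iv D6918)
def n6921 : Q := act 5 n5253
theorem D6921 : act 5 n5253 = n6921 := rfl
theorem F11465 : act 0 n6921 = n5259 := d4_1 D6921 (iv D5259) (iv F8630)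
theorem F11466 : act 3 n6921 = n5268 := d13_1 D6921 (iv D5268) (iv F8631)
def n6922 : Q := act 4 n5254
theorem D6922 : act 4 n5254 = n6922 := rfl
theorem F11467 : act 0 n6922 = n5260 := d3_1 D6922 (iv D5260) (iv F8632)
theorem F11468 : act 1 n6922 = n5936 := d7_1 D6922 (iv D5936) (iv F8633)
theorem F11469 : act 3 n6922 = n5639 := d12_1 D6922 (iv D5639) F6960 (iv F6444) (iv F8634)
def n6923 : Q := act 0 n5255
theorem D6923 : act 0 n5255 = n6923 := rfl
theorem F11470 : act 2 n6923 = n5261 := d1_2 (iv F8635) D6923 (iv D5261)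
theorem F11471 : act 5 n6923 = n5912 := d4_2 F8636 D6923 F9688
def n6924 : Q := act 3 n5255
theorem D6924 : act 3 n5255 = n6924 := rfl
theorem F11472 : act 1 n6924 = n5256 := d6_1 D6924 (iv D5256) D5255
theorem F11473 : act 5 n6924 = n5915 := d13_2 F8636 D6924 (iv D5915)
def n6925 : Q := act 4 n5255
theorem D6925 : act 4 n5255 = n6925 := rfl
theorem F11474 : act 1 n6925 = n5257 := d7_1 D6925 (iv D5257) D5255
theorem F11475 : act 2 n6925 = n5262 := d10_1 D6925 (iv D5262) (iv F8635)
def n6926 : Q := act 2 n5256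
theorem D6926 : act 2 n5256 = n6926 := rfl
theorem F11476 : act 0 n6926 = n5295 := d1_1 D6926 (iv F11458) F11457
theorem F11477 : act 3 n6926 = n5290 := d9_2 D5256 D6926 F8698 F6487 (iv F6443) (iv F8634) (iv F11463) F11464 (iv D5293) (iv D3968) (iv D2931) (iv D2134) (iv F3436) D2910 D3940
theorem F11478 : act 5 n5289 = n6926 := d13_0 F11477 (iv D5290) D5289
def n6927 : Q := act 4 n5256
theorem D6927 : act 4 n5256 = n6927 := rfl
def n6928 : Q := act 5 n5256
theorem D6928 : act 5 n5256 = n6928 := rfl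
theorem F11479 : act 0 n6928 = n5293 := d4_1 D6928 F11459 F11457
theorem F11480 : act 1 n6928 = n5915 := d8_1 D6928 (iv F11473) F11472
theorem F11481 : act 2 n6928 = n5289 := d11_1 D6928 F11478 (iv D6926)
theorem F11482 : act 3 n6928 = n5258 := d13_1 D6928 (iv D5258) D5256
def n6929 : Q := act 3 n5257
theorem D6929 : act 3 n5257 = n6929 := rfl
def n6930 : Q := act 5 n5257
theorem D6930 : act 5 n5257 = n6930 := rfl
theorem F11483 : act 2 n6930 = n5259 := d11_1 D6930 (iv D5259) (iv F8637)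
def n6931 : Q := act 4 n5258
theorem D6931 : act 4 n5258 = n6931 := rfl
theorem F11484 : act 1 n6931 = n5916 := d7_1 D6931 (iv D5916) (iv F8638)
theorem F11485 : act 2 n6931 = n5260 := d10_1 D6931 (iv D5260) (iv F8639)
def n6932 : Q := act 4 n5259
theorem D6932 : act 4 n5259 = n6932 := rfl
theorem F11486 : act 1 n6932 = n5265 := d7_1 D6932 (iv D5265) (iv F8640)
theorem F11487 : act 3 n6932 = n5651 := d12_1 D6932 (iv D5651) F6968 (iv F6466) (iv F8641)
theorem F11488 : act 5 n6932 = n5260 := d14_2 D5259 D6932 (iv D5260) (iv D3942) D3941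
def n6933 : Q := act 4 n5261
theorem D6933 : act 4 n5261 = n6933 := rfl
theorem F11489 : act 0 n6933 = n5262 := d3_1 D6933 (iv D5262) D5261
theorem F11490 : act 1 n6933 = n5923 := d7_1 D6933 (iv D5923) (iv F8644)
def n6934 : Q := act 3 n5262
theorem D6934 : act 3 n5262 = n6934 := rfl
theorem F11491 : act 1 n6934 = n5263 := d6_1 D6934 (iv D5263) (iv F8647)
theorem F11492 : act 4 n6934 = n5918 := d12_2 D5262 D6934 (iv D5918) (iv D4448) (iv F6449)
def n6935 : Q := act 5 n5262
theorem D6935 : act 5 n5262 = n6935 := rfl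
theorem F11493 : act 1 n6935 = n5264 := d8_1 D6935 (iv D5264) (iv F8647)
theorem F11494 : act 4 n6935 = n5917 := d14_1 D6935 (iv D5917) (iv D4447) (iv F6450) D5262
def n6936 : Q := act 2 n5263
theorem D6936 : act 2 n5263 = n6936 := rfl
theorem F11495 : act 0 n6936 = n5942 := d1_1 D6936 (iv D5942) (iv F8648)
theorem F11496 : act 4 n6936 = n5279 := d10_2 (iv F8649) D6936 F8678
def n6937 : Q := act 5 n5263
theorem D6937 : act 5 n5263 = n6937 := rfl
theorem F11497 : act 0 n6937 = n5941 := d4_1 D6937 F9721 (iv F8648)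
theorem F11498 : act 3 n6937 = n5264 := d13_1 D6937 (iv D5264) D5263
def n6938 : Q := act 3 n5265
theorem D6938 : act 3 n5265 = n6938 := rfl
theorem F11499 : act 0 n6938 = n5940 := d2_1 D6938 F9720 (iv F8653)
theorem F11500 : act 1 n6938 = n5651 := d6_1 D6938 (iv F11487) F11486
theorem F11501 : act 4 n6938 = n5276 := d12_2 D5265 D6938 (iv D5276) (iv D3955) (iv F6453)
theorem F11502 : act 5 n6938 = n5266 := d13_2 (iv F8655) D6938 (iv D5266)
def n6939 : Q := act 2 n5266
theorem D6939 : act 2 n5266 = n6939 := rfl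
theorem F11503 : act 0 n6939 = n5939 := d1_1 D6939 (iv D5939) (iv F8656)
theorem F11504 : act 4 n6939 = n5267 := d10_2 (iv F8658) D6939 (iv D5267)
def n6940 : Q := act 1 n5267
theorem D6940 : act 1 n5267 = n6940 := rfl
theorem F11505 : act 2 n6940 = n5654 := d5_2 D5267 D6940 F9317 F6969 (iv F6456)
theorem F11506 : act 5 n6940 = n5278 := d8_2 (iv F8659) D6940 (iv D5278)
def n6941 : Q := act 3 n5269
theorem D6941 : act 3 n5269 = n6941 := rfl
theorem F11507 : act 1 n6941 = n5270 := d6_1 D6941 (iv D5270) (iv F8663)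
theorem F11508 : act 4 n6941 = n5594 := d12_2 D5269 D6941 (iv D5594) (iv D4208) (iv F6461)
def n6942 : Q := act 5 n5269
theorem D6942 : act 5 n5269 = n6942 := rfl
theorem F11509 : act 1 n6942 = n5271 := d8_1 D6942 (iv D5271) (iv F8663)
theorem F11510 : act 2 n6942 = n5273 := d11_1 D6942 (iv D5273) (iv F8664)
theorem F11511 : act 4 n6942 = n5645 := d14_1 D6942 (iv D5645) (iv D4248) (iv F6462) D5269
def n6943 : Q := act 2 n5270
theorem D6943 : act 2 n5270 = n6943 := rfl
theorem F11512 : act 0 n6943 = n5610 := d1_1 D6943 (iv D5610) (iv F8665)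
theorem F11513 : act 4 n6943 = n5597 := d10_2 (iv F8666) D6943 (iv D5597)
def n6944 : Q := act 5 n5270
theorem D6944 : act 5 n5270 = n6944 := rfl
theorem F11514 : act 0 n6944 = n5611 := d4_1 D6944 (iv D5611) (iv F8665)
theorem F11515 : act 3 n6944 = n5271 := d13_1 D6944 (iv D5271) D5270
def n6945 : Q := act 2 n5272
theorem D6945 : act 2 n5272 = n6945 := rfl
def n6946 : Q := act 5 n5272
theorem D6946 : act 5 n5272 = n6946 := rfl
theorem F11516 : act 1 n6946 = n5275 := d8_1 D6946 (iv D5275) (iv F8670)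
theorem F11517 : act 3 n6946 = n5273 := d13_1 D6946 (iv D5273) D5272
def n6947 : Q := act 1 n5274
theorem D6947 : act 1 n5274 = n6947 := rfl
def n6948 : Q := act 3 n5274
theorem D6948 : act 3 n5274 = n6948 := rfl
theorem F11518 : act 2 n6948 = n5941 := d15_2 D5274 D6948 (iv D5941) (iv F8616) F8617 (iv F7774) D6324 F10429 F7776
theorem F11519 : act 5 n6948 = n5942 := d15_8 (iv D6936) (iv D5263) F6452 F4719 (iv F4733) D3953 D5274 D6948 (iv F11495)
def n6949 : Q := act 5 n5274
theorem D6949 : act 5 n5274 = n6949 := rfl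
theorem F11520 : act 2 n6949 = n5275 := d11_1 D6949 (iv D5275) D5274
theorem F11521 : act 3 n6949 = n5942 := d13_1 D6949 (iv F11519) (iv D6948)
def n6950 : Q := act 4 n5275
theorem D6950 : act 4 n5275 = n6950 := rfl
theorem F11522 : act 3 n6950 = n6785 := d12_1 D6950 F11220 F8447 F7748 (iv F8672)
theorem F11523 : act 5 n6950 = n6784 := d14_2 D5275 D6950 F11217 F8449 F7750
def n6951 : Q := act 2 n5276
theorem D6951 : act 2 n5276 = n6951 := rfl
theorem F11524 : act 5 n6951 = n5277 := d11_2 (iv F8674) D6951 (iv D5277)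
def n6952 : Q := act 1 n5277
theorem D6952 : act 1 n5277 = n6952 := rfl
theorem F11525 : act 2 n6952 = n5648 := d5_2 D5277 D6952 (iv D5648) (iv D4251) (iv F6471)
theorem F11526 : act 4 n6952 = n5278 := d7_2 (iv F8675) D6952 (iv D5278)
def n6953 : Q := act 3 n5277
theorem D6953 : act 3 n5277 = n6953 := rfl
def n6954 : Q := act 0 n5278
theorem D6954 : act 0 n5278 = n6954 := rfl
theorem F11527 : act 2 n6954 = n5652 := d1_2 (iv F8676) D6954 (iv D5652)
def n6955 : Q := act 3 n5278
theorem D6955 : act 3 n5278 = n6955 := rfl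
theorem F11528 : act 1 n6955 = n5279 := d6_1 D6955 (iv D5279) D5278
def n6956 : Q := act 3 n5280
theorem D6956 : act 3 n5280 = n6956 := rfl
theorem F11529 : act 0 n6956 = n5281 := d2_1 D6956 (iv D5281) D5280
theorem F11530 : act 5 n6956 = n5924 := d13_2 (iv F8681) D6956 (iv D5924)
def n6957 : Q := act 2 n5281
theorem D6957 : act 2 n5281 = n6957 := rfl
theorem F11531 : act 5 n6957 = n5935 := d11_2 (iv F8683) D6957 (iv D5935)
def n6958 : Q := act 1 n5282
theorem D6958 : act 1 n5282 = n6958 := rfl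
theorem F11532 : act 5 n6958 = n5943 := d8_2 (iv F8684) D6958 (iv D5943)
def n6959 : Q := act 4 n5283
theorem D6959 : act 4 n5283 = n6959 := rfl
theorem F11533 : act 0 n6959 = n5286 := d3_1 D6959 (iv D5286) (iv F8685)
theorem F11534 : act 2 n6959 = n5284 := d10_1 D6959 (iv D5284) D5283
def n6960 : Q := act 5 n5284
theorem D6960 : act 5 n5284 = n6960 := rfl
theorem F11535 : act 0 n6960 = n5287 := d4_1 D6960 (iv D5287) (iv F8687)
theorem F11536 : act 3 n6960 = n5922 := d13_1 D6960 (iv D5922) (iv F8688)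
def n6961 : Q := act 4 n5285
theorem D6961 : act 4 n5285 = n6961 := rfl
theorem F11537 : act 0 n6961 = n5467 := d3_1 D6961 (iv D5467) (iv F8689)
theorem F11538 : act 1 n6961 = n6879 := d7_1 D6961 F11371 F10969
theorem F11539 : act 2 n6961 = n5465 := d10_1 D6961 (iv D5465) (iv F8690)
def n6962 : Q := act 3 n5286
theorem D6962 : act 3 n5286 = n6962 := rfl
def n6963 : Q := act 5 n5286
theorem D6963 : act 5 n5286 = n6963 := rfl
theorem F11540 : act 2 n6963 = n5287 := d11_1 D6963 (iv D5287) (iv F8691)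
def n6964 : Q := act 0 n5288
theorem D6964 : act 0 n5288 = n6964 := rfl
theorem F11541 : act 1 n6964 = n5291 := d0_2 D5288 D6964 (iv D5291) (iv D3967) (iv F6483)
theorem F11542 : act 2 n6964 = n5418 := d1_2 (iv F8694) D6964 (iv D5418)
theorem F11543 : act 4 n6964 = n5640 := d3_2 (iv F8695) D6964 (iv D5640)
theorem F11544 : act 5 n5412 = n6964 := d11_0 F11542 (iv F8933) (iv F8920)
def n6965 : Q := act 3 n5288
theorem D6965 : act 3 n5288 = n6965 := rfl
theorem F11545 : act 1 n6965 = n5289 := d6_1 D6965 (iv D5289) D5288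
def n6966 : Q := act 5 n5288
theorem D6966 : act 5 n5288 = n6966 := rfl
theorem F11546 : act 0 n6966 = n5412 := d4_1 D6966 F11544 (iv D6964)
theorem F11547 : act 1 n6966 = n5290 := d8_1 D6966 (iv D5290) D5288
theorem F11548 : act 2 n6966 = n5421 := d11_1 D6966 (iv D5421) (iv F8694)
theorem F11549 : act 4 n6966 = n5421 := d14_1 D6966 (iv D5421) D5420 (iv F8938) (iv F8695)
def n6967 : Q := act 4 n5289
theorem D6967 : act 4 n5289 = n6967 := rfl
theorem F11550 : act 0 n6967 = n5294 := d3_1 D6967 (iv D5294) (iv F8696)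
theorem F11551 : act 3 n6967 = n5642 := d12_1 D6967 (iv D5642) (iv D4246) (iv F6484) D5289
def n6968 : Q := act 3 n5291
theorem D6968 : act 3 n5291 = n6968 := rfl
theorem F11552 : act 0 n6968 = n5292 := d2_1 D6968 (iv D5292) D5291
theorem F11553 : act 2 n6968 = n5401 := d9_1 D6968 (iv D5401) (iv D4052) (iv D2996) F3543 D2187 D3004 D4062 D5415 (iv F10758) F10757 F8058 F6008 (iv F6496) (iv F8700)
theorem F11554 : act 5 n6968 = n5413 := d13_2 (iv F8702) D6968 (iv D5413)
def n6969 : Q := act 4 n5292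
theorem D6969 : act 4 n5292 = n6969 := rfl
theorem F11555 : act 1 n6969 = n5294 := d7_1 D6969 (iv D5294) (iv F8703)
theorem F11556 : act 3 n6969 = n5659 := d12_1 D6969 (iv D5659) (iv D4258) (iv F6490) D5292
def n6970 : Q := act 1 n5293
theorem D6970 : act 1 n5293 = n6970 := rfl
def n6971 : Q := act 4 n5293
theorem D6971 : act 4 n5293 = n6971 := rfl
theorem F11557 : act 2 n6971 = n5294 := d10_1 D6971 (iv D5294) D5293
def n6972 : Q := act 5 n5294
theorem D6972 : act 5 n5294 = n6972 := rfl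
theorem F11558 : act 3 n6972 = n5662 := d13_1 D6972 (iv D5662) (iv F8705)
def n6973 : Q := act 4 n5295
theorem D6973 : act 4 n5295 = n6973 := rfl
theorem F11559 : act 1 n6973 = n5416 := d7_1 D6973 (iv D5416) (iv F8706)
theorem F11560 : act 3 n6973 = n5431 := d12_1 D6973 (iv D5431) F6672 (iv F6494) (iv F8707)
def n6974 : Q := act 4 n5296
theorem D6974 : act 4 n5296 = n6974 := rfl
theorem F11561 : act 0 n6974 = n5453 := d3_1 D6974 (iv D5453) (iv F8708)
theorem F11562 : act 1 n6974 = n5298 := d7_1 D6974 (iv D5298) D5296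
theorem F11563 : act 2 n6974 = n5445 := d10_1 D6974 (iv D5445) (iv F8709)
theorem F11564 : act 5 n6974 = n5945 := d14_2 (iv F8710) D6974 (iv D5945) F9009 (iv D5460)
def n6975 : Q := act 4 n5297
theorem D6975 : act 4 n5297 = n6975 := rfl
theorem F11565 : act 0 n6975 = n5300 := d3_1 D6975 (iv D5300) (iv F8712)
theorem F11566 : act 1 n6975 = n5520 := d7_1 D6975 (iv D5520) (iv F8713)
def n6976 : Q := act 3 n5298
theorem D6976 : act 3 n5298 = n6976 := rfl
theorem F11567 : act 0 n6976 = n5301 := d2_1 D6976 (iv D5301) (iv F8715)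
theorem F11568 : act 5 n6976 = n5947 := d13_2 (iv F8717) D6976 (iv D5947)
def n6977 : Q := act 4 n5299
theorem D6977 : act 4 n5299 = n6977 := rfl
theorem F11569 : act 1 n6977 = n5518 := d7_1 D6977 (iv D5518) (iv F8718)
theorem F11570 : act 2 n6977 = n5300 := d10_1 D6977 (iv D5300) D5299
def n6978 : Q := act 3 n5300
theorem D6978 : act 3 n5300 = n6978 := rfl
theorem F11571 : act 1 n6978 = n5456 := d6_1 D6978 (iv D5456) (iv F8720)
theorem F11572 : act 4 n6978 = n5301 := d12_2 D5300 D6978 (iv D5301) (iv D3975) D3974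
def n6979 : Q := act 5 n5300
theorem D6979 : act 5 n5300 = n6979 := rfl
theorem F11573 : act 1 n6979 = n5457 := d8_1 D6979 (iv D5457) (iv F8720)
theorem F11574 : act 4 n6979 = n5469 := d14_1 D6979 (iv D5469) (iv D4103) (iv F6510) D5300
def n6980 : Q := act 2 n5301
theorem D6980 : act 2 n5301 = n6980 := rfl
theorem F11575 : act 5 n6980 = n5952 := d11_2 (iv F8722) D6980 (iv D5952)
def n6981 : Q := act 4 n5302
theorem D6981 : act 4 n5302 = n6981 := rfl
theorem F11576 : act 0 n6981 = n5445 := d3_1 D6981 (iv D5445) (iv F8723)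
theorem F11577 : act 1 n6981 = n5303 := d7_1 D6981 (iv D5303) D5302
theorem F11578 : act 2 n6981 = n5453 := d10_1 D6981 (iv D5453) (iv F8724)
theorem F11579 : act 5 n6981 = n5955 := d14_2 (iv F8725) D6981 (iv D5955) (iv D4477) (iv F6526)
def n6982 : Q := act 3 n5303
theorem D6982 : act 3 n5303 = n6982 := rfl
theorem F11580 : act 0 n6982 = n5305 := d2_1 D6982 (iv D5305) (iv F8726)
theorem F11581 : act 5 n6982 = n5957 := d13_2 (iv F8728) D6982 (iv D5957)
def n6983 : Q := act 3 n5304
theorem D6983 : act 3 n5304 = n6983 := rfl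
theorem F11582 : act 1 n6983 = n5450 := d6_1 D6983 (iv D5450) (iv F8729)
theorem F11583 : act 4 n6983 = n5305 := d12_2 D5304 D6983 (iv D5305) (iv D3979) D3978
def n6984 : Q := act 5 n5304
theorem D6984 : act 5 n5304 = n6984 := rfl
theorem F11584 : act 1 n6984 = n5451 := d8_1 D6984 (iv D5451) (iv F8729)
theorem F11585 : act 4 n6984 = n5312 := d14_1 D6984 (iv D5312) (iv D3985) (iv F6521) D5304
def n6985 : Q := act 2 n5305
theorem D6985 : act 2 n5305 = n6985 := rfl
theorem F11586 : act 5 n6985 = n5967 := d11_2 (iv F8731) D6985 (iv D5967)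
def n6986 : Q := act 4 n5307
theorem D6986 : act 4 n5307 = n6986 := rfl
theorem F11587 : act 1 n6986 = n5308 := d7_1 D6986 (iv D5308) (iv F8736)
theorem F11588 : act 3 n6986 = n5954 := d12_1 D6986 (iv D5954) (iv D4476) (iv F6526) D5307
def n6987 : Q := act 5 n5308
theorem D6987 : act 5 n5308 = n6987 := rfl
theorem F11589 : act 0 n6987 = n5312 := d4_1 D6987 (iv D5312) (iv F8737)
theorem F11590 : act 3 n6987 = n5956 := d13_1 D6987 (iv D5956) (iv F8738)
def n6988 : Q := act 5 n5309
theorem D6988 : act 5 n5309 = n6988 := rfl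
theorem F11591 : act 1 n6988 = n5312 := d8_1 D6988 (iv D5312) (iv F8739)
theorem F11592 : act 3 n6988 = n5961 := d13_1 D6988 (iv D5961) (iv F8740)
theorem F11593 : act 4 n6988 = n5451 := d14_1 D6988 (iv D5451) (iv D4088) (iv F6532) D5309
def n6989 : Q := act 4 n5310
theorem D6989 : act 4 n5310 = n6989 := rfl
theorem F11594 : act 1 n6989 = n5311 := d7_1 D6989 (iv D5311) D5310
def n6990 : Q := act 3 n5311
theorem D6990 : act 3 n5311 = n6990 := rfl
def n6991 : Q := act 5 n5311
theorem D6991 : act 5 n5311 = n6991 := rfl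
theorem F11595 : act 2 n6991 = n5312 := d11_1 D6991 (iv D5312) (iv F8741)
def n6992 : Q := act 1 n5313
theorem D6992 : act 1 n5313 = n6992 := rfl
theorem F11596 : act 2 n6992 = n5349 := d5_2 D5313 D6992 (iv D5349) (iv D4014) (iv F6535)
def n6993 : Q := act 3 n5313
theorem D6993 : act 3 n5313 = n6993 := rfl
theorem F11597 : act 0 n6993 = n5318 := d2_1 D6993 (iv D5318) (iv F8743)
theorem F11598 : act 2 n6993 = n5926 := d15_2 D5313 D6993 (iv D5926) F7244 (iv F6425) F6424 (iv F6541) (iv D3990) (iv F6534)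
def n6994 : Q := act 4 n5313
theorem D6994 : act 4 n5313 = n6994 := rfl
theorem F11599 : act 0 n6994 = n5319 := d3_1 D6994 (iv D5319) (iv F8743)
theorem F11600 : act 2 n6994 = n5314 := d10_1 D6994 (iv D5314) D5313
def n6995 : Q := act 5 n5313
theorem D6995 : act 5 n5313 = n6995 := rfl
theorem F11601 : act 0 n6995 = n5320 := d4_1 D6995 (iv D5320) (iv F8743)
theorem F11602 : act 2 n6995 = n5315 := d11_1 D6995 (iv D5315) D5313
def n6996 : Q := act 5 n5314
theorem D6996 : act 5 n5314 = n6996 := rfl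
theorem F11603 : act 0 n6996 = n5321 := d4_1 D6996 (iv D5321) (iv F8744)
theorem F11604 : act 1 n6996 = n5353 := d8_1 D6996 (iv D5353) (iv F8745)
theorem F11605 : act 3 n6996 = n5330 := d13_1 D6996 (iv D5330) (iv F8746)
def n6997 : Q := act 4 n5315
theorem D6997 : act 4 n5315 = n6997 := rfl
theorem F11606 : act 0 n6997 = n5322 := d3_1 D6997 (iv D5322) (iv F8747)
theorem F11607 : act 1 n6997 = n5354 := d7_1 D6997 (iv D5354) (iv F8748)
def n6998 : Q := act 3 n5316
theorem D6998 : act 3 n5316 = n6998 := rfl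
theorem F11608 : act 0 n6998 = n5323 := d2_1 D6998 (iv D5323) (iv F8750)
theorem F11609 : act 1 n6998 = n5355 := d6_1 D6998 (iv D5355) (iv F8751)
theorem F11610 : act 5 n6998 = n5331 := d13_2 (iv F8753) D6998 (iv D5331)
def n6999 : Q := act 0 n5317
theorem D6999 : act 0 n5317 = n6999 := rfl
theorem F11611 : act 2 n6999 = n5324 := d1_2 (iv F8754) D6999 (iv D5324)
theorem F11612 : act 5 n6999 = n5341 := d4_2 F8755 D6999 F8805
def n7000 : Q := act 3 n5317
theorem D7000 : act 3 n5317 = n7000 := rfl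
theorem F11613 : act 1 n7000 = n5318 := d6_1 D7000 (iv D5318) D5317
theorem F11614 : act 5 n7000 = n5344 := d13_2 F8755 D7000 (iv D5344)
def n7001 : Q := act 4 n5317
theorem D7001 : act 4 n5317 = n7001 := rfl
theorem F11615 : act 1 n7001 = n5319 := d7_1 D7001 (iv D5319) D5317
theorem F11616 : act 2 n7001 = n5325 := d10_1 D7001 (iv D5325) (iv F8754)
def n7002 : Q := act 2 n5318
theorem D7002 : act 2 n5318 = n7002 := rfl
theorem F11617 : act 0 n7002 = n5926 := d1_1 D7002 (iv F11598) F11597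
theorem F11618 : act 3 n7002 = n5925 := d15_3 D3988 D5318 D7002 F9704 (iv F8605) F8604 (iv F8749) (iv D5315) F6534
def n7003 : Q := act 4 n5318
theorem D7003 : act 4 n5318 = n7003 := rfl
def n7004 : Q := act 5 n5318
theorem D7004 : act 5 n5318 = n7004 := rfl
theorem F11619 : act 1 n7004 = n5344 := d8_1 D7004 (iv F11614) F11613
theorem F11620 : act 3 n7004 = n5320 := d13_1 D7004 (iv D5320) D5318
def n7005 : Q := act 3 n5319
theorem D7005 : act 3 n5319 = n7005 := rfl
def n7006 : Q := act 5 n5319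
theorem D7006 : act 5 n5319 = n7006 := rfl
theorem F11621 : act 2 n7006 = n5321 := d11_1 D7006 (iv D5321) (iv F8756)
def n7007 : Q := act 4 n5320
theorem D7007 : act 4 n5320 = n7007 := rfl
theorem F11622 : act 1 n7007 = n5345 := d7_1 D7007 (iv D5345) (iv F8757)
theorem F11623 : act 2 n7007 = n5322 := d10_1 D7007 (iv D5322) (iv F8758)
def n7008 : Q := act 4 n5321
theorem D7008 : act 4 n5321 = n7008 := rfl
theorem F11624 : act 1 n7008 = n5328 := d7_1 D7008 (iv D5328) (iv F8759)
theorem F11625 : act 3 n7008 = n5508 := d12_1 D7008 (iv D5508) F6758 (iv F6560) (iv F8760)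
theorem F11626 : act 5 n7008 = n5322 := d14_2 D5321 D7008 (iv D5322) (iv D3990) D3989
def n7009 : Q := act 3 n5322
theorem D7009 : act 3 n5322 = n7009 := rfl
theorem F11627 : act 1 n7009 = n5329 := d6_1 D7009 (iv D5329) (iv F8761)
theorem F11628 : act 4 n7009 = n5323 := d12_2 D5322 D7009 (iv D5323) (iv D3991) (iv F6541)
theorem F11629 : act 5 n7009 = n5508 := d13_2 F11626 D7009 (iv F11625)
def n7010 : Q := act 2 n5323
theorem D7010 : act 2 n5323 = n7010 := rfl
theorem F11630 : act 5 n7010 = n5332 := d11_2 (iv F8763) D7010 (iv D5332)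
def n7011 : Q := act 4 n5324
theorem D7011 : act 4 n5324 = n7011 := rfl
theorem F11631 : act 0 n7011 = n5325 := d3_1 D7011 (iv D5325) D5324
theorem F11632 : act 1 n7011 = n5368 := d7_1 D7011 (iv D5368) (iv F8764)
def n7012 : Q := act 3 n5325
theorem D7012 : act 3 n5325 = n7012 := rfl
theorem F11633 : act 1 n7012 = n5326 := d6_1 D7012 (iv D5326) (iv F8767)
theorem F11634 : act 4 n7012 = n5347 := d12_2 D5325 D7012 (iv D5347) (iv D4011) (iv F6544)
def n7013 : Q := act 5 n5325
theorem D7013 : act 5 n5325 = n7013 := rfl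
theorem F11635 : act 1 n7013 = n5327 := d8_1 D7013 (iv D5327) (iv F8767)
theorem F11636 : act 4 n7013 = n5346 := d14_1 D7013 (iv D5346) (iv D4010) (iv F6545) D5325
def n7014 : Q := act 2 n5331
theorem D7014 : act 2 n5331 = n7014 := rfl
theorem F11637 : act 0 n7014 = n5332 := d1_1 D7014 (iv D5332) (iv F8783)
theorem F11638 : act 4 n7014 = n5503 := d10_2 (iv F8785) D7014 (iv D5503)
def n7015 : Q := act 1 n5332
theorem D7015 : act 1 n5332 = n7015 := rfl
theorem F11639 : act 2 n7015 = n5333 := d5_2 D5332 D7015 (iv D5333) (iv D4001) (iv F6561)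
theorem F11640 : act 4 n7015 = n5505 := d7_2 (iv F8786) D7015 (iv D5505)
def n7016 : Q := act 3 n5332
theorem D7016 : act 3 n5332 = n7016 := rfl
def n7017 : Q := act 0 n5333
theorem D7017 : act 0 n5333 = n7017 := rfl
theorem F11641 : act 1 n7017 = n5397 := d0_2 D5333 D7017 (iv D5397) (iv D4050) (iv F6563)
theorem F11642 : act 4 n7017 = n5509 := d3_2 (iv F8787) D7017 (iv D5509)
def n7018 : Q := act 2 n5334
theorem D7018 : act 2 n5334 = n7018 := rfl
theorem F11643 : act 0 n7018 = n5336 := d1_1 D7018 (iv D5336) (iv F8788)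
theorem F11644 : act 5 n7018 = n5483 := d11_2 F8790 D7018 F9057
def n7019 : Q := act 4 n5334
theorem D7019 : act 4 n5334 = n7019 := rfl
theorem F11645 : act 0 n7019 = n5337 := d3_1 D7019 (iv D5337) (iv F8788)
theorem F11646 : act 1 n7019 = n5891 := d7_1 D7019 (iv D5891) (iv F8789)
def n7020 : Q := act 4 n5335
theorem D7020 : act 4 n5335 = n7020 := rfl
theorem F11647 : act 0 n7020 = n5338 := d3_1 D7020 (iv D5338) (iv F8791)
theorem F11648 : act 1 n7020 = n5892 := d7_1 D7020 (iv D5892) (iv F8792)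
theorem F11649 : act 2 n7020 = n5343 := d10_1 D7020 (iv D5343) (iv F8793)
def n7021 : Q := act 3 n5336
theorem D7021 : act 3 n5336 = n7021 := rfl
theorem F11650 : act 1 n7021 = n5463 := d6_1 D7021 F9015 (iv F8795)
theorem F11651 : act 5 n7021 = n5484 := d13_2 (iv F8796) D7021 (iv D5484)
def n7022 : Q := act 4 n5336
theorem D7022 : act 4 n5336 = n7022 := rfl
theorem F11652 : act 1 n7022 = n5486 := d7_1 D7022 (iv D5486) (iv F8795)
theorem F11653 : act 2 n7022 = n5337 := d10_1 D7022 (iv D5337) D5336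
def n7023 : Q := act 5 n5337
theorem D7023 : act 5 n5337 = n7023 := rfl
theorem F11654 : act 1 n7023 = n5339 := d8_1 D7023 (iv D5339) (iv F8797)
theorem F11655 : act 4 n7023 = n5900 := d14_1 D7023 (iv D5900) (iv D4434) F6568 D5337
def n7024 : Q := act 3 n5338
theorem D7024 : act 3 n5338 = n7024 := rfl
theorem F11656 : act 1 n7024 = n5340 := d6_1 D7024 (iv D5340) (iv F8798)
theorem F11657 : act 4 n7024 = n5899 := d12_2 D5338 D7024 (iv D5899) (iv D4434) (iv F6571)
def n7025 : Q := act 2 n5340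
theorem D7025 : act 2 n5340 = n7025 := rfl
theorem F11658 : act 0 n7025 = n5897 := d1_1 D7025 (iv D5897) (iv F8803)
theorem F11659 : act 4 n7025 = n5901 := d10_2 (iv F8804) D7025 (iv D5901)
def n7026 : Q := act 1 n5341
theorem D7026 : act 1 n5341 = n7026 := rfl
def n7027 : Q := act 3 n5341
theorem D7027 : act 3 n5341 = n7027 := rfl
theorem F11660 : act 0 n7027 = n5344 := d2_1 D7027 (iv D5344) (iv F8805)
theorem F11661 : act 2 n7027 = n5484 := d15_2 D5341 D7027 (iv D5484) F6739 (iv F6571) F6570 (iv F6544) F6545 (iv F6576)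
def n7028 : Q := act 4 n5341
theorem D7028 : act 4 n5341 = n7028 := rfl
theorem F11662 : act 0 n7028 = n5345 := d3_1 D7028 (iv D5345) (iv F8805)
theorem F11663 : act 2 n7028 = n5342 := d10_1 D7028 (iv D5342) D5341
def n7029 : Q := act 5 n5342
theorem D7029 : act 5 n5342 = n7029 := rfl
theorem F11664 : act 0 n7029 = n5346 := d4_1 D7029 (iv D5346) (iv F8806)
def n7030 : Q := act 3 n5343
theorem D7030 : act 3 n5343 = n7030 := rfl
theorem F11665 : act 0 n7030 = n5347 := d2_1 D7030 (iv D5347) (iv F8807)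
def n7031 : Q := act 2 n5344
theorem D7031 : act 2 n5344 = n7031 := rfl
theorem F11666 : act 0 n7031 = n5484 := d1_1 D7031 (iv F11661) F11660
theorem F11667 : act 3 n7031 = n5483 := d15_3 D4009 D5344 D7031 F9057 (iv F8794) F8793 (iv F8765) F8766 F6576
def n7032 : Q := act 4 n5344
theorem D7032 : act 4 n5344 = n7032 := rfl
def n7033 : Q := act 3 n5345
theorem D7033 : act 3 n5345 = n7033 := rfl
def n7034 : Q := act 5 n5345
theorem D7034 : act 5 n5345 = n7034 := rfl
theorem F11668 : act 2 n7034 = n5346 := d11_1 D7034 (iv D5346) (iv F8808)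
def n7035 : Q := act 2 n5347
theorem D7035 : act 2 n5347 = n7035 := rfl
def n7036 : Q := act 1 n5348
theorem D7036 : act 1 n5348 = n7036 := rfl
def n7037 : Q := act 0 n5349
theorem D7037 : act 0 n5349 = n7037 := rfl
theorem F11669 : act 1 n7037 = n5356 := d0_2 D5349 D7037 (iv D5356) (iv D4018) (iv F6580)
def n7038 : Q := act 3 n5349
theorem D7038 : act 3 n5349 = n7038 := rfl
theorem F11670 : act 1 n7038 = n5350 := d6_1 D7038 (iv D5350) D5349
theorem F11671 : act 2 n5909 = n7038 := d5_0 F11670 F8812 F6671 D4442 D5909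
theorem F11672 : act 5 n5427 = n7038 := d8_0 F11670 (iv F8813) D5427
def n7039 : Q := act 4 n5349
theorem D7039 : act 4 n5349 = n7039 := rfl
theorem F11673 : act 1 n7039 = n5351 := d7_1 D7039 (iv D5351) D5349
def n7040 : Q := act 5 n5349
theorem D7040 : act 5 n5349 = n7040 := rfl
theorem F11674 : act 1 n7040 = n5352 := d8_1 D7040 (iv D5352) D5349
theorem F11675 : act 3 n7040 = n5427 := d13_1 D7040 F11672 (iv D7038)
def n7041 : Q := act 4 n5350
theorem D7041 : act 4 n5350 = n7041 := rfl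
theorem F11676 : act 0 n7041 = n5360 := d3_1 D7041 (iv D5360) (iv F8811)
theorem F11677 : act 2 n7041 = n5431 := d10_1 D7041 (iv D5431) (iv F8812)
def n7042 : Q := act 3 n5351
theorem D7042 : act 3 n5351 = n7042 := rfl
theorem F11678 : act 0 n7042 = n5362 := d2_1 D7042 (iv D5362) (iv F8814)
def n7043 : Q := act 5 n5351
theorem D7043 : act 5 n5351 = n7043 := rfl
theorem F11679 : act 0 n7043 = n5363 := d4_1 D7043 (iv D5363) (iv F8814)
theorem F11680 : act 2 n7043 = n5353 := d11_1 D7043 (iv D5353) (iv F8815)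
def n7044 : Q := act 4 n5352
theorem D7044 : act 4 n5352 = n7044 := rfl
theorem F11681 : act 0 n7044 = n5364 := d3_1 D7044 (iv D5364) (iv F8816)
theorem F11682 : act 2 n7044 = n5354 := d10_1 D7044 (iv D5354) (iv F8817)
def n7045 : Q := act 4 n5353
theorem D7045 : act 4 n5353 = n7045 := rfl
theorem F11683 : act 0 n7045 = n5365 := d3_1 D7045 (iv D5365) (iv F8819)
theorem F11684 : act 5 n7045 = n5354 := d14_2 D5353 D7045 (iv D5354) (iv D4016) D4015
def n7046 : Q := act 3 n5354
theorem D7046 : act 3 n5354 = n7046 := rfl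
theorem F11685 : act 0 n7046 = n5366 := d2_1 D7046 (iv D5366) (iv F8821)
theorem F11686 : act 4 n7046 = n5355 := d12_2 D5354 D7046 (iv D5355) (iv D4017) (iv F6584)
theorem F11687 : act 2 n5655 = n7046 := d10_3 F11686 F8824 D5655
def n7047 : Q := act 3 n5356
theorem D7047 : act 3 n5356 = n7047 := rfl
theorem F11688 : act 0 n7047 = n5357 := d2_1 D7047 (iv D5357) D5356
def n7048 : Q := act 4 n5356
theorem D7048 : act 4 n5356 = n7048 := rfl
theorem F11689 : act 0 n7048 = n5358 := d3_1 D7048 (iv D5358) D5356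
theorem F11690 : act 2 n7048 = n5368 := d10_1 D7048 (iv D5368) (iv F8825)
def n7049 : Q := act 2 n5357
theorem D7049 : act 2 n5357 = n7049 := rfl
def n7050 : Q := act 4 n5357
theorem D7050 : act 4 n5357 = n7050 := rfl
theorem F11691 : act 1 n7050 = n5360 := d7_1 D7050 (iv D5360) (iv F8826)
def n7051 : Q := act 3 n5358
theorem D7051 : act 3 n5358 = n7051 := rfl
theorem F11692 : act 1 n7051 = n5362 := d6_1 D7051 (iv D5362) (iv F8827)
def n7052 : Q := act 5 n5358
theorem D7052 : act 5 n5358 = n7052 := rfl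
theorem F11693 : act 1 n7052 = n5363 := d8_1 D7052 (iv D5363) (iv F8827)
theorem F11694 : act 2 n7052 = n5370 := d11_1 D7052 (iv D5370) (iv F8828)
def n7053 : Q := act 1 n5359
theorem D7053 : act 1 n5359 = n7053 := rfl
theorem F11695 : act 0 n7053 = n5907 := d0_1 D7053 F9680 F7224 (iv F6671) (iv F8829)
theorem F11696 : act 3 n7053 = n5421 := d6_2 (iv F8830) D7053 F8940
theorem F11697 : act 5 n7053 = n5419 := d8_2 F8831 D7053 F8935
def n7054 : Q := act 4 n5359
theorem D7054 : act 4 n5359 = n7054 := rfl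
theorem F11698 : act 0 n7054 = n5431 := d3_1 D7054 (iv D5431) (iv F8829)
theorem F11699 : act 2 n7054 = n5360 := d10_1 D7054 (iv D5360) D5359
def n7055 : Q := act 3 n5360
theorem D7055 : act 3 n5360 = n7055 := rfl
theorem F11700 : act 4 n7055 = n5362 := d12_2 D5360 D7055 (iv D5362) (iv D4020) D4019
def n7056 : Q := act 5 n5360
theorem D7056 : act 5 n5360 = n7056 := rfl
def n7057 : Q := act 4 n5361
theorem D7057 : act 4 n5361 = n7057 := rfl
theorem F11701 : act 0 n7057 = n5428 := d3_1 D7057 (iv D5428) (iv F8832)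
theorem F11702 : act 2 n7057 = n5422 := d10_1 D7057 (iv D5422) (iv F8833)
def n7058 : Q := act 2 n5362
theorem D7058 : act 2 n5362 = n7058 := rfl
def n7059 : Q := act 5 n5362
theorem D7059 : act 5 n5362 = n7059 := rfl
theorem F11703 : act 3 n7059 = n5363 := d13_1 D7059 (iv D5363) D5362
def n7060 : Q := act 4 n5363
theorem D7060 : act 4 n5363 = n7060 := rfl
theorem F11704 : act 2 n7060 = n5365 := d10_1 D7060 (iv D5365) (iv F8835)
theorem F11705 : act 5 n7060 = n5364 := d14_2 D5363 D7060 (iv D5364) (iv D4021) D4020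
def n7061 : Q := act 3 n5364
theorem D7061 : act 3 n5364 = n7061 := rfl
def n7062 : Q := act 3 n5365
theorem D7062 : act 3 n5365 = n7062 := rfl
theorem F11706 : act 1 n7062 = n5373 := d6_1 D7062 (iv D5373) (iv F8837)
theorem F11707 : act 4 n7062 = n5390 := d12_2 D5365 D7062 (iv D5390) (iv D4042) (iv F6592)
theorem F11708 : act 5 n7062 = n5366 := d13_2 (iv F8838) D7062 (iv D5366)
def n7063 : Q := act 2 n5366
theorem D7063 : act 2 n5366 = n7063 := rfl
theorem F11709 : act 0 n7063 = n5655 := d1_1 D7063 F11687 F11685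
theorem F11710 : act 4 n7063 = n5367 := d10_2 (iv F8840) D7063 (iv D5367)
def n7064 : Q := act 1 n5367
theorem D7064 : act 1 n5367 = n7064 := rfl
theorem F11711 : act 2 n7064 = n5375 := d5_2 D5367 D7064 (iv D5375) (iv D4031) (iv F6594)
theorem F11712 : act 3 n7064 = n5638 := d6_2 (iv F8843) D7064 (iv D5638)
theorem F11713 : act 5 n7064 = n5392 := d8_2 (iv F8842) D7064 (iv D5392)
def n7065 : Q := act 3 n5368
theorem D7065 : act 3 n5368 = n7065 := rfl
theorem F11714 : act 0 n7065 = n5369 := d2_1 D7065 (iv D5369) (iv F8844)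
def n7066 : Q := act 5 n5368
theorem D7066 : act 5 n5368 = n7066 := rfl
theorem F11715 : act 0 n7066 = n5370 := d4_1 D7066 (iv D5370) (iv F8844)
def n7067 : Q := act 2 n5369
theorem D7067 : act 2 n5369 = n7067 := rfl
def n7068 : Q := act 5 n5369
theorem D7068 : act 5 n5369 = n7068 := rfl
theorem F11716 : act 1 n7068 = n5372 := d8_1 D7068 (iv D5372) (iv F8845)
theorem F11717 : act 3 n7068 = n5370 := d13_1 D7068 (iv D5370) D5369
def n7069 : Q := act 1 n5371
theorem D7069 : act 1 n5371 = n7069 := rfl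
theorem F11718 : act 3 n7069 = n5514 := d6_2 (iv F8847) D7069 (iv D5514)
theorem F11719 : act 5 n7069 = n5516 := d8_2 F8848 D7069 F9086
def n7070 : Q := act 1 n5374
theorem D7070 : act 1 n5374 = n7070 := rfl
theorem F11720 : act 4 n7070 = n5375 := d7_2 (iv F8854) D7070 (iv D5375)
def n7071 : Q := act 0 n5375
theorem D7071 : act 0 n5375 = n7071 := rfl
theorem F11721 : act 5 n7071 = n5397 := d4_2 (iv F8855) D7071 (iv D5397)
def n7072 : Q := act 2 n5376
theorem D7072 : act 2 n5376 = n7072 := rfl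
theorem F11722 : act 0 n7072 = n5386 := d1_1 D7072 (iv D5386) (iv F8856)
theorem F11723 : act 4 n7072 = n5525 := d10_2 (iv F8857) D7072 (iv D5525)
def n7073 : Q := act 5 n5376
theorem D7073 : act 5 n5376 = n7073 := rfl
theorem F11724 : act 0 n7073 = n5387 := d4_1 D7073 (iv D5387) (iv F8856)
theorem F11725 : act 3 n7073 = n5377 := d13_1 D7073 (iv D5377) D5376
def n7074 : Q := act 3 n5378
theorem D7074 : act 3 n5378 = n7074 := rfl
theorem F11726 : act 0 n7074 = n5390 := d2_1 D7074 (iv D5390) (iv F8860)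
theorem F11727 : act 1 n7074 = n5504 := d6_1 D7074 F9077 (iv F8861)
theorem F11728 : act 5 n7074 = n5379 := d13_2 (iv F8862) D7074 (iv D5379)
def n7075 : Q := act 2 n5379
theorem D7075 : act 2 n5379 = n7075 := rfl
theorem F11729 : act 0 n7075 = n5391 := d1_1 D7075 (iv D5391) (iv F8863)
theorem F11730 : act 4 n7075 = n5380 := d10_2 (iv F8865) D7075 (iv D5380)
def n7076 : Q := act 1 n5380
theorem D7076 : act 1 n5380 = n7076 := rfl
theorem F11731 : act 3 n7076 = n5654 := d6_2 (iv F8867) D7076 F9317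
theorem F11732 : act 5 n7076 = n5653 := d8_2 (iv F8868) D7076 F9316
def n7077 : Q := act 3 n5381
theorem D7077 : act 3 n5381 = n7077 := rfl
theorem F11733 : act 1 n7077 = n5384 := d6_1 D7077 (iv D5384) (iv F8869)
theorem F11734 : act 4 n7077 = n5382 := d12_2 D5381 D7077 (iv D5382) (iv D4037) D4036
def n7078 : Q := act 5 n5381
theorem D7078 : act 5 n5381 = n7078 := rfl
theorem F11735 : act 1 n7078 = n5385 := d8_1 D7078 (iv D5385) (iv F8869)
theorem F11736 : act 4 n7078 = n5491 := d14_1 D7078 (iv D5491) (iv D4120) (iv F6608) D5381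
def n7079 : Q := act 2 n5382
theorem D7079 : act 2 n5382 = n7079 := rfl
def n7080 : Q := act 5 n5382
theorem D7080 : act 5 n5382 = n7080 := rfl
theorem F11737 : act 1 n7080 = n5387 := d8_1 D7080 (iv D5387) (iv F8870)
theorem F11738 : act 3 n7080 = n5383 := d13_1 D7080 (iv D5383) D5382
def n7081 : Q := act 2 n5384
theorem D7081 : act 2 n5384 = n7081 := rfl
theorem F11739 : act 0 n7081 = n5525 := d1_1 D7081 (iv D5525) (iv F8874)
theorem F11740 : act 4 n7081 = n5386 := d10_2 (iv F8875) D7081 (iv D5386)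
theorem F11741 : act 3 n7081 = n5616 := d15_1 D7081 F9271 F6927 F5129 (iv F5014) (iv F6770) (iv F9096) (iv D5526) (iv F8874)
theorem F11742 : act 5 n5615 = n7081 := d13_0 F11741 (iv D5616) D5615
def n7082 : Q := act 5 n5384
theorem D7082 : act 5 n5384 = n7082 := rfl
theorem F11743 : act 0 n7082 = n5526 := d4_1 D7082 (iv D5526) (iv F8874)
theorem F11744 : act 2 n7082 = n5615 := d11_1 D7082 F11742 (iv D7081)
theorem F11745 : act 3 n7082 = n5385 := d13_1 D7082 (iv D5385) D5384
def n7083 : Q := act 1 n5386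
theorem D7083 : act 1 n5386 = n7083 := rfl
def n7084 : Q := act 3 n5386
theorem D7084 : act 3 n5386 = n7084 := rfl
def n7085 : Q := act 5 n5386
theorem D7085 : act 5 n5386 = n7085 := rfl
theorem F11746 : act 2 n7085 = n5387 := d11_1 D7085 (iv D5387) D5386
def n7086 : Q := act 4 n5387
theorem D7086 : act 4 n5387 = n7086 := rfl
def n7087 : Q := act 3 n5388
theorem D7087 : act 3 n5388 = n7087 := rfl
theorem F11747 : act 1 n7087 = n5493 := d6_1 D7087 F9065 (iv F8879)
theorem F11748 : act 5 n7087 = n5389 := d13_2 (iv F8881) D7087 (iv D5389)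
def n7088 : Q := act 2 n5389
theorem D7088 : act 2 n5389 = n7088 := rfl
def n7089 : Q := act 2 n5390
theorem D7089 : act 2 n5390 = n7089 := rfl
theorem F11749 : act 5 n7089 = n5391 := d11_2 (iv F8884) D7089 (iv D5391)
def n7090 : Q := act 1 n5391
theorem D7090 : act 1 n5391 = n7090 := rfl
theorem F11750 : act 2 n7090 = n5396 := d5_2 D5391 D7090 (iv D5396) (iv D4049) (iv F6618)
theorem F11751 : act 4 n7090 = n5392 := d7_2 (iv F8885) D7090 (iv D5392)
def n7091 : Q := act 3 n5391
theorem D7091 : act 3 n5391 = n7091 := rfl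
def n7092 : Q := act 0 n5392
theorem D7092 : act 0 n5392 = n7092 := rfl
theorem F11752 : act 2 n7092 = n5397 := d1_2 (iv F8886) D7092 (iv D5397)
def n7093 : Q := act 3 n5392
theorem D7093 : act 3 n5392 = n7093 := rfl
theorem F11753 : act 1 n7093 = n5393 := d6_1 D7093 (iv D5393) D5392
theorem F11754 : act 5 n7093 = n5638 := d13_2 F11713 D7093 (iv F11712)
def n7094 : Q := act 4 n5393
theorem D7094 : act 4 n5393 = n7094 := rfl
theorem F11755 : act 0 n7094 = n5656 := d3_1 D7094 (iv D5656) (iv F8887)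
theorem F11756 : act 2 n7094 = n5639 := d10_1 D7094 (iv D5639) (iv F8888)
def n7095 : Q := act 3 n5394
theorem D7095 : act 3 n5394 = n7095 := rfl
def n7096 : Q := act 5 n5394
theorem D7096 : act 5 n5394 = n7096 := rfl
theorem F11757 : act 2 n7096 = n5395 := d11_1 D7096 (iv D5395) D5394
def n7097 : Q := act 0 n5396
theorem D7097 : act 0 n5396 = n7097 := rfl
theorem F11758 : act 1 n7097 = n5509 := d0_2 D5396 D7097 (iv D5509) (iv D4133) (iv F6628)
theorem F11759 : act 4 n7097 = n5397 := d3_2 (iv F8893) D7097 (iv D5397)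
def n7098 : Q := act 3 n5397
theorem D7098 : act 3 n5397 = n7098 := rfl
theorem F11760 : act 0 n7098 = n5398 := d2_1 D7098 (iv D5398) D5397
def n7099 : Q := act 2 n5398
theorem D7099 : act 2 n5398 = n7099 := rfl
def n7100 : Q := act 4 n5398
theorem D7100 : act 4 n5398 = n7100 := rfl
theorem F11761 : act 1 n7100 = n5399 := d7_1 D7100 (iv D5399) (iv F8894)
def n7101 : Q := act 0 n5400
theorem D7101 : act 0 n5400 = n7101 := rfl
theorem F11762 : act 2 n7101 = n5405 := d1_2 (iv F8895) D7101 (iv D5405)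
theorem F11763 : act 5 n7101 = n5890 := d4_2 F8896 D7101 F9660
def n7102 : Q := act 3 n5400
theorem D7102 : act 3 n5400 = n7102 := rfl
theorem F11764 : act 1 n7102 = n5401 := d6_1 D7102 (iv D5401) D5400
theorem F11765 : act 5 n7102 = n5893 := d13_2 F8896 D7102 (iv D5893)
def n7103 : Q := act 4 n5401
theorem D7103 : act 4 n5401 = n7103 := rfl
def n7104 : Q := act 5 n5401
theorem D7104 : act 5 n5401 = n7104 := rfl
theorem F11766 : act 0 n7104 = n5415 := d4_1 D7104 F10755 F10753
theorem F11767 : act 1 n7104 = n5893 := d8_1 D7104 (iv F11765) F11764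
theorem F11768 : act 2 n7104 = n5413 := d11_1 D7104 (iv F11554) F11553
theorem F11769 : act 3 n7104 = n5402 := d13_1 D7104 (iv D5402) D5401
def n7105 : Q := act 4 n5402
theorem D7105 : act 4 n5402 = n7105 := rfl
theorem F11770 : act 1 n7105 = n5894 := d7_1 D7105 (iv D5894) (iv F8897)
theorem F11771 : act 2 n7105 = n5403 := d10_1 D7105 (iv D5403) (iv F8898)
def n7106 : Q := act 3 n5403
theorem D7106 : act 3 n5403 = n7106 := rfl
theorem F11772 : act 0 n7106 = n5729 := d2_1 D7106 (iv F10761) F10759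
theorem F11773 : act 1 n7106 = n5410 := d6_1 D7106 (iv D5410) (iv F8899)
theorem F11774 : act 4 n7106 = n5404 := d12_2 D5403 D7106 (iv D5404) (iv D4054) (iv F6631)
theorem F11775 : act 5 n7106 = n6580 := d13_2 F10750 D7106 F10873
def n7107 : Q := act 2 n5404
theorem D7107 : act 2 n5404 = n7107 := rfl
theorem F11776 : act 0 n7107 = n5728 := d1_1 D7107 F9425 (iv F8900)
theorem F11777 : act 5 n7107 = n5575 := d11_2 (iv F8902) D7107 (iv D5575)
def n7108 : Q := act 4 n5405
theorem D7108 : act 4 n5405 = n7108 := rfl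
theorem F11778 : act 0 n7108 = n5406 := d3_1 D7108 (iv D5406) D5405
theorem F11779 : act 1 n7108 = n5898 := d7_1 D7108 (iv D5898) (iv F8903)
def n7109 : Q := act 3 n5406
theorem D7109 : act 3 n5406 = n7109 := rfl
theorem F11780 : act 1 n7109 = n5407 := d6_1 D7109 (iv D5407) (iv F8906)
theorem F11781 : act 4 n7109 = n5896 := d12_2 D5406 D7109 (iv D5896) (iv D4430) (iv F6636)
def n7110 : Q := act 5 n5406
theorem D7110 : act 5 n5406 = n7110 := rfl
theorem F11782 : act 1 n7110 = n5408 := d8_1 D7110 (iv D5408) (iv F8906)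
theorem F11783 : act 4 n7110 = n5895 := d14_1 D7110 (iv D5895) (iv D4429) (iv F6637) D5406
def n7111 : Q := act 2 n5407
theorem D7111 : act 2 n5407 = n7111 := rfl
theorem F11784 : act 0 n7111 = n5901 := d1_1 D7111 (iv D5901) (iv F8907)
theorem F11785 : act 3 n7111 = n5905 := d9_2 D5407 D7111 F9676 F7223 F5347 (iv F5343) (iv F7218) (iv F9672) F9671 (iv D5733) (iv D4310) (iv D3200) (iv F3911) (iv F4879) (iv F6639)
theorem F11786 : act 4 n7111 = n5897 := d10_2 (iv F8908) D7111 (iv D5897)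
theorem F11787 : act 5 n5904 = n7111 := d13_0 F11785 (iv D5905) D5904
def n7112 : Q := act 5 n5407
theorem D7112 : act 5 n5407 = n7112 := rfl
theorem F11788 : act 0 n7112 = n5902 := d4_1 D7112 (iv D5902) (iv F8907)
theorem F11789 : act 2 n7112 = n5904 := d11_1 D7112 F11787 (iv D7111)
theorem F11790 : act 3 n7112 = n5408 := d13_1 D7112 (iv D5408) D5407
def n7113 : Q := act 2 n5410
theorem D7113 : act 2 n5410 = n7113 := rfl
theorem F11791 : act 0 n7113 = n5738 := d1_1 D7113 F9440 (iv F8915)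
theorem F11792 : act 4 n7113 = n5411 := d10_2 (iv F8916) D7113 (iv D5411)
def n7114 : Q := act 1 n5411
theorem D7114 : act 1 n5411 = n7114 := rfl
theorem F11793 : act 3 n7114 = n5731 := d6_2 (iv F8918) D7114 (iv D5731)
theorem F11794 : act 5 n7114 = n5731 := d8_2 (iv F8919) D7114 (iv D5731)
def n7115 : Q := act 3 n5412
theorem D7115 : act 3 n5412 = n7115 := rfl
theorem F11795 : act 1 n7115 = n5413 := d6_1 D7115 (iv D5413) D5412
def n7116 : Q := act 4 n5413
theorem D7116 : act 4 n5413 = n7116 := rfl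
theorem F11796 : act 0 n7116 = n5416 := d3_1 D7116 (iv D5416) (iv F8922)
theorem F11797 : act 3 n7116 = n5908 := d12_1 D7116 (iv D5908) (iv D4441) (iv F6647) D5413
def n7117 : Q := act 2 n5414
theorem D7117 : act 2 n5414 = n7117 := rfl
theorem F11798 : act 0 n7117 = n5417 := d1_1 D7117 (iv D5417) (iv F8923)
theorem F11799 : act 4 n7117 = n5663 := d10_2 (iv F8925) D7117 (iv D5663)
theorem F11800 : act 5 n7117 = n5573 := d11_2 (iv F8926) D7117 (iv D5573)
def n7118 : Q := act 1 n5415
theorem D7118 : act 1 n5415 = n7118 := rfl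
def n7119 : Q := act 4 n5415
theorem D7119 : act 4 n5415 = n7119 := rfl
theorem F11801 : act 2 n7119 = n5416 := d10_1 D7119 (iv D5416) D5415
def n7120 : Q := act 5 n5416
theorem D7120 : act 5 n5416 = n7120 := rfl
theorem F11802 : act 3 n7120 = n5911 := d13_1 D7120 (iv D5911) (iv F8927)
def n7121 : Q := act 3 n5417
theorem D7121 : act 3 n5417 = n7121 := rfl
theorem F11803 : act 1 n7121 = n5571 := d6_1 D7121 (iv D5571) (iv F8928)
theorem F11804 : act 5 n7121 = n5576 := d13_2 (iv F8930) D7121 (iv D5576)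
theorem F11805 : act 2 n7121 = n5727 := d15_2 D5417 D7121 (iv D5727) (iv D4305) (iv D3195) (iv F5077) D4188 (iv F8926) F8923
def n7122 : Q := act 4 n5418
theorem D7122 : act 4 n5418 = n7122 := rfl
theorem F11806 : act 0 n7122 = n5420 := d3_1 D7122 (iv D5420) D5418
theorem F11807 : act 1 n7122 = n5424 := d7_1 D7122 (iv D5424) (iv F8931)
theorem F11808 : act 2 n7122 = n5640 := d10_1 D7122 (iv F11543) F11542
theorem F11809 : act 5 n7122 = n5640 := d14_2 F8933 D7122 (iv F11543) (iv F11544) F8921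
def n7123 : Q := act 2 n5419
theorem D7123 : act 2 n5419 = n7123 := rfl
theorem F11810 : act 0 n7123 = n5959 := d1_1 D7123 F9736 (iv F8934)
def n7124 : Q := act 4 n5419
theorem D7124 : act 4 n5419 = n7124 := rfl
theorem F11811 : act 0 n7124 = n5962 := d3_1 D7124 (iv D5962) (iv F8934)
theorem F11812 : act 1 n7124 = n5422 := d7_1 D7124 (iv D5422) (iv F8935)
def n7125 : Q := act 3 n5420
theorem D7125 : act 3 n5420 = n7125 := rfl
theorem F11813 : act 1 n7125 = n5423 := d6_1 D7125 (iv D5423) (iv F8936)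
theorem F11814 : act 5 n7125 = n5641 := d13_2 F8938 D7125 (iv D5641)
def n7126 : Q := act 3 n5422
theorem D7126 : act 3 n5422 = n7126 := rfl
theorem F11815 : act 0 n7126 = n5429 := d2_1 D7126 (iv D5429) (iv F8941)
theorem F11816 : act 4 n7126 = n5423 := d12_2 D5422 D7126 (iv D5423) (iv D4066) D4065
theorem F11817 : act 2 n5625 = n7126 := d10_3 F11816 F8944 D5625
def n7127 : Q := act 5 n5422
theorem D7127 : act 5 n5422 = n7127 := rfl
theorem F11818 : act 0 n7127 = n5430 := d4_1 D7127 (iv D5430) (iv F8941)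
def n7128 : Q := act 3 n5424
theorem D7128 : act 3 n5424 = n7128 := rfl
theorem F11819 : act 0 n7128 = n5426 := d2_1 D7128 (iv D5426) (iv F8945)
theorem F11820 : act 4 n7128 = n5963 := d12_2 D5424 D7128 (iv D5963) (iv D4484) F6663
theorem F11821 : act 5 n7128 = n5657 := d13_2 (iv F8947) D7128 (iv D5657)
def n7129 : Q := act 3 n5425
theorem D7129 : act 3 n5425 = n7129 := rfl
theorem F11822 : act 0 n7129 = n5963 := d2_1 D7129 (iv D5963) (iv F8948)
theorem F11823 : act 1 n7129 = n5429 := d6_1 D7129 (iv D5429) (iv F8949)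
theorem F11824 : act 4 n7129 = n5426 := d12_2 D5425 D7129 (iv D5426) (iv D4070) D4069
def n7130 : Q := act 5 n5425
theorem D7130 : act 5 n5425 = n7130 := rfl
theorem F11825 : act 0 n7130 = n5964 := d4_1 D7130 (iv D5964) (iv F8948)
theorem F11826 : act 1 n7130 = n5430 := d8_1 D7130 (iv D5430) (iv F8949)
theorem F11827 : act 2 n7130 = n5956 := d11_1 D7130 (iv D5956) (iv F8950)
theorem F11828 : act 4 n7130 = n5911 := d14_1 D7130 (iv D5911) (iv D4443) (iv F6666) D5425
def n7131 : Q := act 2 n5426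
theorem D7131 : act 2 n5426 = n7131 := rfl
theorem F11829 : act 5 n7131 = n5658 := d11_2 (iv F8952) D7131 (iv D5658)
def n7132 : Q := act 0 n5427
theorem D7132 : act 0 n5427 = n7132 := rfl
theorem F11830 : act 2 n7132 = n5953 := d1_2 (iv F8953) D7132 F9729
def n7133 : Q := act 4 n5427
theorem D7133 : act 4 n5427 = n7133 := rfl
theorem F11831 : act 1 n7133 = n5428 := d7_1 D7133 (iv D5428) D5427
theorem F11832 : act 2 n7133 = n5954 := d10_1 D7133 (iv D5954) (iv F8953)
def n7134 : Q := act 3 n5428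
theorem D7134 : act 3 n5428 = n7134 := rfl
def n7135 : Q := act 5 n5428
theorem D7135 : act 5 n5428 = n7135 := rfl
theorem F11833 : act 2 n7135 = n5430 := d11_1 D7135 (iv D5430) (iv F8954)
def n7136 : Q := act 2 n5429
theorem D7136 : act 2 n5429 = n7136 := rfl
theorem F11834 : act 0 n7136 = n5625 := d1_1 D7136 F11817 F11815
theorem F11835 : act 4 n7136 = n5432 := d10_2 (iv F8955) D7136 (iv D5432)
def n7137 : Q := act 5 n5429
theorem D7137 : act 5 n5429 = n7137 := rfl
theorem F11836 : act 3 n7137 = n5430 := d13_1 D7137 (iv D5430) D5429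
theorem F11837 : act 4 n7137 = n5662 := d14_1 D7137 (iv D5662) (iv D4260) (iv F6673) (iv F8955)
def n7138 : Q := act 4 n5430
theorem D7138 : act 4 n5430 = n7138 := rfl
theorem F11838 : act 1 n7138 = n5911 := d7_1 D7138 (iv F11828) F11826
theorem F11839 : act 5 n7138 = n5431 := d14_2 D5430 D7138 (iv D5431) (iv D4073) D4072
def n7139 : Q := act 1 n5432
theorem D7139 : act 1 n5432 = n7139 := rfl
theorem F11840 : act 3 n7139 = n5603 := d6_2 (iv F8959) D7139 (iv D5603)
theorem F11841 : act 5 n7139 = n5660 := d8_2 (iv F8958) D7139 (iv D5660)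
def n7140 : Q := act 2 n5433
theorem D7140 : act 2 n5433 = n7140 := rfl
theorem F11842 : act 0 n7140 = n5434 := d1_1 D7140 (iv D5434) (iv F8960)
theorem F11843 : act 4 n7140 = n5566 := d10_2 (iv F8962) D7140 F9179
theorem F11844 : act 5 n7140 = n5663 := d11_2 (iv F8963) D7140 (iv D5663)
def n7141 : Q := act 3 n5434
theorem D7141 : act 3 n5434 = n7141 := rfl
theorem F11845 : act 1 n7141 = n5529 := d6_1 D7141 (iv D5529) (iv F8964)
theorem F11846 : act 5 n7141 = n5664 := d13_2 (iv F8966) D7141 (iv D5664)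
def n7142 : Q := act 3 n5435
theorem D7142 : act 3 n5435 = n7142 := rfl
theorem F11847 : act 0 n7142 = n5909 := d2_1 D7142 F9684 (iv F8967)
theorem F11848 : act 1 n7142 = n5436 := d6_1 D7142 (iv D5436) D5435
theorem F11849 : act 5 n7142 = n5953 := d13_2 (iv F8969) D7142 (iv D5953)
def n7143 : Q := act 4 n5435
theorem D7143 : act 4 n5435 = n7143 := rfl
theorem F11850 : act 0 n7143 = n5955 := d3_1 D7143 (iv D5955) (iv F8967)
theorem F11851 : act 1 n7143 = n5437 := d7_1 D7143 (iv D5437) D5435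
theorem F11852 : act 2 n7143 = n5945 := d10_1 D7143 (iv D5945) (iv F8968)
theorem F11853 : act 5 n7143 = n5445 := d14_2 (iv F8969) D7143 (iv D5445) (iv F8735) F8734
def n7144 : Q := act 4 n5436
theorem D7144 : act 4 n5436 = n7144 := rfl
theorem F11854 : act 0 n7144 = n5439 := d3_1 D7144 (iv D5439) (iv F8970)
def n7145 : Q := act 3 n5437
theorem D7145 : act 3 n5437 = n7145 := rfl
theorem F11855 : act 0 n7145 = n5440 := d2_1 D7145 (iv D5440) (iv F8972)
theorem F11856 : act 5 n7145 = n5447 := d13_2 (iv F8974) D7145 (iv D5447)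
def n7146 : Q := act 1 n5438
theorem D7146 : act 1 n5438 = n7146 := rfl
theorem F11857 : act 2 n7146 = n5907 := d5_2 D5438 D7146 F9680 F7225 (iv F6690)
theorem F11858 : act 5 n7146 = n5959 := d8_2 (iv F8975) D7146 (iv D5959)
def n7147 : Q := act 4 n5438
theorem D7147 : act 4 n5438 = n7147 := rfl
theorem F11859 : act 2 n7147 = n5439 := d10_1 D7147 (iv D5439) D5438
def n7148 : Q := act 3 n5439
theorem D7148 : act 3 n5439 = n7148 := rfl
theorem F11860 : act 1 n7148 = n5966 := d6_1 D7148 (iv D5966) (iv F8976)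
theorem F11861 : act 4 n7148 = n5440 := d12_2 D5439 D7148 (iv D5440) (iv D4081) D4080
def n7149 : Q := act 5 n5439
theorem D7149 : act 5 n5439 = n7149 := rfl
theorem F11862 : act 1 n7149 = n5965 := d8_1 D7149 F9741 (iv F8976)
theorem F11863 : act 4 n7149 = n5961 := d14_1 D7149 (iv D5961) (iv D4482) (iv F6691) D5439
def n7150 : Q := act 2 n5440
theorem D7150 : act 2 n5440 = n7150 := rfl
theorem F11864 : act 5 n7150 = n5452 := d11_2 (iv F8978) D7150 (iv D5452)
def n7151 : Q := act 1 n5441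
theorem D7151 : act 1 n5441 = n7151 := rfl
theorem F11865 : act 3 n7151 = n5660 := d6_2 (iv F8980) D7151 (iv D5660)
theorem F11866 : act 5 n7151 = n5603 := d8_2 (iv F8981) D7151 (iv D5603)
def n7152 : Q := act 0 n5442
theorem D7152 : act 0 n5442 = n7152 := rfl
theorem F11867 : act 2 n7152 = n5527 := d1_2 (iv F8982) D7152 (iv D5527)
theorem F11868 : act 5 n7152 = n5623 := d4_2 (iv F8983) D7152 (iv D5623)
def n7153 : Q := act 3 n5442
theorem D7153 : act 3 n5442 = n7153 := rfl
theorem F11869 : act 1 n7153 = n5443 := d6_1 D7153 (iv D5443) D5442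
theorem F11870 : act 5 n7153 = n5624 := d13_2 (iv F8983) D7153 (iv D5624)
def n7154 : Q := act 4 n5443
theorem D7154 : act 4 n5443 = n7154 := rfl
theorem F11871 : act 0 n7154 = n5661 := d3_1 D7154 (iv D5661) (iv F8984)
theorem F11872 : act 2 n7154 = n5642 := d10_1 D7154 (iv D5642) (iv F8985)
def n7155 : Q := act 4 n5444
theorem D7155 : act 4 n5444 = n7155 := rfl
theorem F11873 : act 1 n7155 = n5446 := d7_1 D7155 (iv D5446) (iv F8987)
def n7156 : Q := act 3 n5445
theorem D7156 : act 3 n5445 = n7156 := rfl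
theorem F11874 : act 1 n7156 = n5447 := d6_1 D7156 (iv D5447) (iv F8988)
def n7157 : Q := act 3 n5446
theorem D7157 : act 3 n5446 = n7157 := rfl
theorem F11875 : act 0 n7157 = n5450 := d2_1 D7157 (iv D5450) (iv F8989)
theorem F11876 : act 4 n7157 = n5447 := d12_2 D5446 D7157 (iv D5447) (iv D4086) D4085
def n7158 : Q := act 5 n5446
theorem D7158 : act 5 n5446 = n7158 := rfl
theorem F11877 : act 0 n7158 = n5451 := d4_1 D7158 (iv D5451) (iv F8989)
def n7159 : Q := act 2 n5447
theorem D7159 : act 2 n5447 = n7159 := rfl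
theorem F11878 : act 0 n7159 = n5452 := d1_1 D7159 (iv D5452) (iv F8990)
theorem F11879 : act 3 n7159 = n5452 := d15_1 D7159 (iv D5452) (iv D4089) F4945 (iv F4935) (iv F6693) D5440 F8978 (iv F8990)
def n7160 : Q := act 4 n5448
theorem D7160 : act 4 n5448 = n7160 := rfl
theorem F11880 : act 1 n7160 = n5449 := d7_1 D7160 (iv D5449) D5448
def n7161 : Q := act 3 n5449
theorem D7161 : act 3 n5449 = n7161 := rfl
def n7162 : Q := act 5 n5449
theorem D7162 : act 5 n5449 = n7162 := rfl
theorem F11881 : act 2 n7162 = n5451 := d11_1 D7162 (iv D5451) (iv F8991)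
def n7163 : Q := act 2 n5450
theorem D7163 : act 2 n5450 = n7163 := rfl
theorem F11882 : act 4 n7163 = n5452 := d10_2 (iv F8992) D7163 (iv D5452)
def n7164 : Q := act 5 n5450
theorem D7164 : act 5 n5450 = n7164 := rfl
theorem F11883 : act 3 n7164 = n5451 := d13_1 D7164 (iv D5451) D5450
def n7165 : Q := act 1 n5452
theorem D7165 : act 1 n5452 = n7165 := rfl
def n7166 : Q := act 3 n5453
theorem D7166 : act 3 n5453 = n7166 := rfl
theorem F11884 : act 1 n7166 = n5454 := d6_1 D7166 (iv D5454) (iv F8993)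
theorem F11885 : act 4 n7166 = n5521 := d12_2 D5453 D7166 (iv D5521) (iv D4145) (iv F6701)
def n7167 : Q := act 5 n5453
theorem D7167 : act 5 n5453 = n7167 := rfl
theorem F11886 : act 0 n7167 = n5945 := d4_1 D7167 (iv F11564) F11561
theorem F11887 : act 1 n7167 = n5455 := d8_1 D7167 (iv D5455) (iv F8993)
theorem F11888 : act 2 n7167 = n5955 := d11_1 D7167 (iv F11579) F11578
theorem F11889 : act 4 n7167 = n5462 := d14_1 D7167 (iv D5462) (iv D4097) (iv F6702) D5453
def n7168 : Q := act 2 n5454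
theorem D7168 : act 2 n5454 = n7168 := rfl
theorem F11890 : act 0 n7168 = n5458 := d1_1 D7168 (iv D5458) (iv F8994)
theorem F11891 : act 4 n7168 = n5523 := d10_2 (iv F8995) D7168 (iv D5523)
theorem F11892 : act 3 n7168 = n5693 := d15_1 D7168 F9366 F7004 F5183 (iv F4956) (iv F6712) (iv F9005) (iv D5459) (iv F8994)
theorem F11893 : act 5 n5692 = n7168 := d13_0 F11892 (iv D5693) D5692
def n7169 : Q := act 5 n5454
theorem D7169 : act 5 n5454 = n7169 := rfl
theorem F11894 : act 0 n7169 = n5459 := d4_1 D7169 (iv D5459) (iv F8994)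
theorem F11895 : act 2 n7169 = n5692 := d11_1 D7169 F11893 (iv D7168)
theorem F11896 : act 3 n7169 = n5455 := d13_1 D7169 (iv D5455) D5454
def n7170 : Q := act 2 n5456
theorem D7170 : act 2 n5456 = n7170 := rfl
theorem F11897 : act 0 n7170 = n5523 := d1_1 D7170 (iv D5523) (iv F8999)
theorem F11898 : act 4 n7170 = n5458 := d10_2 (iv F9000) D7170 (iv D5458)
theorem F11899 : act 3 n7170 = n5831 := d15_1 D7170 F9577 F7155 F5302 (iv F5009) (iv F6767) (iv F9095) (iv D5524) (iv F8999)
theorem F11900 : act 5 n5830 = n7170 := d13_0 F11899 (iv D5831) D5830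
def n7171 : Q := act 5 n5456
theorem D7171 : act 5 n5456 = n7171 := rfl
theorem F11901 : act 0 n7171 = n5524 := d4_1 D7171 (iv D5524) (iv F8999)
theorem F11902 : act 2 n7171 = n5830 := d11_1 D7171 F11900 (iv D7170)
theorem F11903 : act 3 n7171 = n5457 := d13_1 D7171 (iv D5457) D5456
def n7172 : Q := act 1 n5458
theorem D7172 : act 1 n5458 = n7172 := rfl
def n7173 : Q := act 3 n5458
theorem D7173 : act 3 n5458 = n7173 := rfl
theorem F11904 : act 0 n7173 = n5693 := d2_1 D7173 (iv F11892) F11890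
theorem F11905 : act 2 n7173 = n5688 := d9_1 D7173 F9361 F6997 (iv F6707) (iv F8997) (iv F11896) F11895 (iv D5692) (iv D4281) (iv D3175) F3791 (iv F3608) (iv F4954) D4094 D5458
theorem F11906 : act 5 n7173 = n5687 := d15_8 (iv D4281) (iv D3175) F3791 (iv F3608) (iv F4954) D4094 D5458 D7173 F9358
def n7174 : Q := act 5 n5458
theorem D7174 : act 5 n5458 = n7174 := rfl
theorem F11907 : act 0 n7174 = n5692 := d4_1 D7174 F11893 F11890
theorem F11908 : act 2 n7174 = n5459 := d11_1 D7174 (iv D5459) D5458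
theorem F11909 : act 3 n7174 = n5687 := d13_1 D7174 (iv F11906) (iv D7173)
def n7175 : Q := act 4 n5459
theorem D7175 : act 4 n5459 = n7175 := rfl
theorem F11910 : act 1 n7175 = n5950 := d7_1 D7175 F9728 (iv F9004)
theorem F11911 : act 3 n7175 = n5476 := d12_1 D7175 (iv D5476) F6729 (iv F6713) (iv F9005)
def n7176 : Q := act 3 n5460
theorem D7176 : act 3 n5460 = n7176 := rfl
theorem F11912 : act 0 n7176 = n5461 := d2_1 D7176 (iv D5461) (iv F9006)
theorem F11913 : act 1 n7176 = n5466 := d6_1 D7176 (iv D5466) (iv F9007)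
theorem F11914 : act 5 n7176 = n5944 := d13_2 F9009 D7176 (iv D5944)
def n7177 : Q := act 2 n5461
theorem D7177 : act 2 n5461 = n7177 := rfl
def n7178 : Q := act 5 n5461
theorem D7178 : act 5 n5461 = n7178 := rfl
theorem F11915 : act 0 n7178 = n5944 := d4_1 D7178 (iv F11914) F11912
theorem F11916 : act 1 n7178 = n5464 := d8_1 D7178 (iv D5464) (iv F9010)
theorem F11917 : act 3 n7178 = n5462 := d13_1 D7178 (iv D5462) D5461
def n7179 : Q := act 4 n5464
theorem D7179 : act 4 n5464 = n7179 := rfl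
theorem F11918 : act 0 n7179 = n5476 := d3_1 D7179 (iv D5476) (iv F9017)
theorem F11919 : act 2 n7179 = n5485 := d10_1 D7179 (iv D5485) (iv F9018)
def n7180 : Q := act 3 n5465
theorem D7180 : act 3 n5465 = n7180 := rfl
theorem F11920 : act 0 n7180 = n5468 := d2_1 D7180 (iv D5468) (iv F9020)
theorem F11921 : act 4 n7180 = n5466 := d12_2 D5465 D7180 (iv D5466) (iv D4101) D4100
theorem F11922 : act 2 n5928 = n7180 := d10_3 F11921 F9023 D5928
def n7181 : Q := act 5 n5465
theorem D7181 : act 5 n5465 = n7181 := rfl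
theorem F11923 : act 0 n7181 = n5469 := d4_1 D7181 (iv D5469) (iv F9020)
def n7182 : Q := act 3 n5467
theorem D7182 : act 3 n5467 = n7182 := rfl
theorem F11924 : act 1 n7182 = n6877 := d6_1 D7182 (iv D6877) (iv F9024)
def n7183 : Q := act 5 n5467
theorem D7183 : act 5 n5467 = n7183 := rfl
theorem F11925 : act 1 n7183 = n6878 := d8_1 D7183 (iv D6878) (iv F9024)
theorem F11926 : act 2 n7183 = n5469 := d11_1 D7183 (iv D5469) (iv F9025)
def n7184 : Q := act 2 n5468
theorem D7184 : act 2 n5468 = n7184 := rfl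
theorem F11927 : act 0 n7184 = n5928 := d1_1 D7184 F11922 F11920
theorem F11928 : act 4 n7184 = n5470 := d10_2 (iv F9027) D7184 (iv D5470)
def n7185 : Q := act 5 n5468
theorem D7185 : act 5 n5468 = n7185 := rfl
theorem F11929 : act 1 n7185 = n5472 := d8_1 D7185 (iv D5472) (iv F9026)
theorem F11930 : act 3 n7185 = n5469 := d13_1 D7185 (iv D5469) D5468
theorem F11931 : act 4 n7185 = n5951 := d14_1 D7185 (iv D5951) (iv D4473) (iv F6726) (iv F9027)
def n7186 : Q := act 1 n5470
theorem D7186 : act 1 n5470 = n7186 := rfl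
theorem F11932 : act 2 n7186 = n5473 := d5_2 D5470 D7186 (iv D5473) (iv D4107) (iv F6725)
theorem F11933 : act 3 n7186 = n5919 := d6_2 (iv F9031) D7186 (iv D5919)
theorem F11934 : act 5 n7186 = n5948 := d8_2 (iv F9030) D7186 (iv D5948)
def n7187 : Q := act 1 n5471
theorem D7187 : act 1 n5471 = n7187 := rfl
theorem F11935 : act 4 n7187 = n5473 := d7_2 (iv F9032) D7187 (iv D5473)
def n7188 : Q := act 4 n5472
theorem D7188 : act 4 n5472 = n7188 := rfl
theorem F11936 : act 1 n7188 = n5951 := d7_1 D7188 (iv F11931) F11929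
theorem F11937 : act 5 n7188 = n5476 := d14_2 D5472 D7188 (iv D5476) (iv D4108) (iv F6727)
def n7189 : Q := act 0 n5473
theorem D7189 : act 0 n5473 = n7189 := rfl
def n7190 : Q := act 3 n5473
theorem D7190 : act 3 n5473 = n7190 := rfl
theorem F11938 : act 1 n7190 = n5474 := d6_1 D7190 (iv D5474) D5473
theorem F11939 : act 5 n5477 = n7190 := d8_0 F11938 F9036 D5477
def n7191 : Q := act 5 n5473
theorem D7191 : act 5 n5473 = n7191 := rfl
theorem F11940 : act 1 n7191 = n5475 := d8_1 D7191 (iv D5475) D5473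
theorem F11941 : act 2 n7191 = n5948 := d11_1 D7191 (iv F11934) F11932
theorem F11942 : act 3 n7191 = n5477 := d13_1 D7191 F11939 (iv D7190)
def n7192 : Q := act 4 n5474
theorem D7192 : act 4 n5474 = n7192 := rfl
theorem F11943 : act 0 n7192 = n5486 := d3_1 D7192 (iv D5486) (iv F9034)
theorem F11944 : act 2 n7192 = n5478 := d10_1 D7192 (iv D5478) (iv F9035)
theorem F11945 : act 5 n7192 = n5864 := d14_2 (iv F9036) D7192 (iv D5864) (iv D4407) (iv F6731)
def n7193 : Q := act 4 n5475
theorem D7193 : act 4 n5475 = n7193 := rfl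
theorem F11946 : act 0 n7193 = n5485 := d3_1 D7193 (iv D5485) (iv F9037)
theorem F11947 : act 2 n7193 = n5476 := d10_1 D7193 (iv D5476) (iv F9038)
theorem F11948 : act 3 n7193 = n5863 := d12_1 D7193 (iv D5863) (iv D4406) (iv F6731) (iv F9039)
def n7194 : Q := act 0 n5477
theorem D7194 : act 0 n5477 = n7194 := rfl
theorem F11949 : act 1 n7194 = n5483 := d0_2 D5477 D7194 (iv D5483) (iv D4113) (iv F6730)
theorem F11950 : act 4 n7194 = n5860 := d3_2 (iv F9041) D7194 (iv D5860)
def n7195 : Q := act 0 n5479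
theorem D7195 : act 0 n5479 = n7195 := rfl
theorem F11951 : act 1 n7195 = n5860 := d0_2 D5479 D7195 (iv D5860) (iv D4405) (iv F6734)
theorem F11952 : act 2 n7195 = n5898 := d1_2 (iv F9045) D7195 F9666
theorem F11953 : act 4 n7195 = n5483 := d3_2 (iv F9046) D7195 (iv D5483)
def n7196 : Q := act 3 n5479
theorem D7196 : act 3 n5479 = n7196 := rfl
theorem F11954 : act 1 n7196 = n5480 := d6_1 D7196 (iv D5480) D5479
theorem F11955 : act 5 n5870 = n7196 := d8_0 F11954 (iv F9049) D5870
def n7197 : Q := act 5 n5479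
theorem D7197 : act 5 n5479 = n7197 := rfl
theorem F11956 : act 1 n7197 = n5481 := d8_1 D7197 (iv D5481) D5479
theorem F11957 : act 2 n7197 = n5900 := d11_1 D7197 (iv D5900) (iv F9045)
theorem F11958 : act 3 n7197 = n5870 := d13_1 D7197 F11955 (iv D7196)
def n7198 : Q := act 4 n5480
theorem D7198 : act 4 n5480 = n7198 := rfl
theorem F11959 : act 0 n7198 = n5863 := d3_1 D7198 (iv D5863) (iv F9047)
theorem F11960 : act 2 n7198 = n5873 := d10_1 D7198 (iv D5873) (iv F9048)
theorem F11961 : act 3 n7198 = n5485 := d12_1 D7198 (iv D5485) (iv D4114) (iv F6735) D5480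
def n7199 : Q := act 4 n5481
theorem D7199 : act 4 n5481 = n7199 := rfl
theorem F11962 : act 0 n7199 = n5864 := d3_1 D7199 (iv D5864) (iv F9050)
theorem F11963 : act 2 n7199 = n5482 := d10_1 D7199 (iv D5482) (iv F9051)
theorem F11964 : act 5 n7199 = n5486 := d14_2 D5481 D7199 (iv D5486) (iv D4115) (iv F6735)
def n7200 : Q := act 4 n5484
theorem D7200 : act 4 n5484 = n7200 := rfl
theorem F11965 : act 1 n7200 = n5485 := d7_1 D7200 (iv D5485) (iv F9058)
def n7201 : Q := act 5 n5485
theorem D7201 : act 5 n5485 = n7201 := rfl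
def n7202 : Q := act 3 n5486
theorem D7202 : act 3 n5486 = n7202 := rfl
def n7203 : Q := act 2 n5487
theorem D7203 : act 2 n5487 = n7203 := rfl
theorem F11966 : act 0 n7203 = n5492 := d1_1 D7203 (iv D5492) (iv F9060)
def n7204 : Q := act 5 n5487
theorem D7204 : act 5 n5487 = n7204 := rfl
theorem F11967 : act 0 n7204 = n5493 := d4_1 D7204 (iv D5493) (iv F9060)
theorem F11968 : act 3 n7204 = n5488 := d13_1 D7204 (iv D5488) D5487
def n7205 : Q := act 3 n5489
theorem D7205 : act 3 n5489 = n7205 := rfl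
theorem F11969 : act 4 n7205 = n5823 := d12_2 D5489 D7205 (iv D5823) (iv D4377) (iv F6747)
def n7206 : Q := act 5 n5489
theorem D7206 : act 5 n5489 = n7206 := rfl
theorem F11970 : act 2 n7206 = n5491 := d11_1 D7206 (iv D5491) (iv F9063)
def n7207 : Q := act 2 n5490
theorem D7207 : act 2 n5490 = n7207 := rfl
theorem F11971 : act 4 n7207 = n5492 := d10_2 (iv F9064) D7207 (iv D5492)
def n7208 : Q := act 5 n5490
theorem D7208 : act 5 n5490 = n7208 := rfl
theorem F11972 : act 3 n7208 = n5491 := d13_1 D7208 (iv D5491) D5490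
def n7209 : Q := act 1 n5492
theorem D7209 : act 1 n5492 = n7209 := rfl
def n7210 : Q := act 3 n5492
theorem D7210 : act 3 n5492 = n7210 := rfl
def n7211 : Q := act 5 n5492
theorem D7211 : act 5 n5492 = n7211 := rfl
theorem F11973 : act 2 n7211 = n5493 := d11_1 D7211 (iv D5493) D5492
def n7212 : Q := act 4 n5493
theorem D7212 : act 4 n5493 = n7212 := rfl
def n7213 : Q := act 4 n5494
theorem D7213 : act 4 n5494 = n7213 := rfl
def n7214 : Q := act 2 n5495
theorem D7214 : act 2 n5495 = n7214 := rfl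
theorem F11974 : act 0 n7214 = n5497 := d1_1 D7214 (iv D5497) (iv F9066)
def n7215 : Q := act 5 n5495
theorem D7215 : act 5 n5495 = n7215 := rfl
theorem F11975 : act 0 n7215 = n5498 := d4_1 D7215 (iv D5498) (iv F9066)
theorem F11976 : act 3 n7215 = n5496 := d13_1 D7215 (iv D5496) D5495
def n7216 : Q := act 1 n5497
theorem D7216 : act 1 n5497 = n7216 := rfl
theorem F11977 : act 2 n7216 = n5499 := d5_2 D5497 D7216 (iv D5499) (iv D4127) (iv F6751)
def n7217 : Q := act 3 n5497
theorem D7217 : act 3 n5497 = n7217 := rfl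
def n7218 : Q := act 5 n5497
theorem D7218 : act 5 n5497 = n7218 := rfl
theorem F11978 : act 2 n7218 = n5498 := d11_1 D7218 (iv D5498) D5497
def n7219 : Q := act 4 n5498
theorem D7219 : act 4 n5498 = n7219 := rfl
theorem F11979 : act 1 n7219 = n5502 := d7_1 D7219 (iv D5502) (iv F9069)
def n7220 : Q := act 0 n5499
theorem D7220 : act 0 n5499 = n7220 := rfl
def n7221 : Q := act 3 n5499
theorem D7221 : act 3 n5499 = n7221 := rfl
theorem F11980 : act 1 n7221 = n5500 := d6_1 D7221 (iv D5500) D5499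
theorem F11981 : act 5 n6870 = n7221 := d8_0 F11980 F9072 D6870
def n7222 : Q := act 5 n5499
theorem D7222 : act 5 n5499 = n7222 := rfl
theorem F11982 : act 1 n7222 = n5501 := d8_1 D7222 (iv D5501) D5499
theorem F11983 : act 3 n7222 = n6870 := d13_1 D7222 F11981 (iv D7221)
def n7223 : Q := act 1 n5503
theorem D7223 : act 1 n5503 = n7223 := rfl
def n7224 : Q := act 3 n5503
theorem D7224 : act 3 n5503 = n7224 := rfl
theorem F11984 : act 0 n7224 = n5506 := d2_1 D7224 (iv D5506) (iv F9075)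
def n7225 : Q := act 5 n5503
theorem D7225 : act 5 n5503 = n7225 := rfl
theorem F11985 : act 0 n7225 = n5507 := d4_1 D7225 (iv D5507) (iv F9075)
theorem F11986 : act 2 n7225 = n5504 := d11_1 D7225 (iv D5504) D5503
def n7226 : Q := act 4 n5504
theorem D7226 : act 4 n5504 = n7226 := rfl
theorem F11987 : act 0 n7226 = n5508 := d3_1 D7226 (iv D5508) (iv F9076)
def n7227 : Q := act 0 n5505
theorem D7227 : act 0 n5505 = n7227 := rfl
theorem F11988 : act 2 n7227 = n5509 := d1_2 (iv F9078) D7227 (iv D5509)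
def n7228 : Q := act 3 n5505
theorem D7228 : act 3 n5505 = n7228 := rfl
theorem F11989 : act 1 n7228 = n5506 := d6_1 D7228 (iv D5506) D5505
def n7229 : Q := act 5 n5505
theorem D7229 : act 5 n5505 = n7229 := rfl
theorem F11990 : act 1 n7229 = n5507 := d8_1 D7229 (iv D5507) D5505
theorem F11991 : act 2 n7229 = n5511 := d11_1 D7229 (iv D5511) (iv F9078)
def n7230 : Q := act 2 n5506
theorem D7230 : act 2 n5506 = n7230 := rfl
def n7231 : Q := act 4 n5506
theorem D7231 : act 4 n5506 = n7231 := rfl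
def n7232 : Q := act 5 n5506
theorem D7232 : act 5 n5506 = n7232 := rfl
theorem F11992 : act 3 n7232 = n5507 := d13_1 D7232 (iv D5507) D5506
def n7233 : Q := act 4 n5507
theorem D7233 : act 4 n5507 = n7233 := rfl
theorem F11993 : act 2 n7233 = n5508 := d10_1 D7233 (iv D5508) (iv F9079)
def n7234 : Q := act 3 n5509
theorem D7234 : act 3 n5509 = n7234 := rfl
theorem F11994 : act 0 n7234 = n5510 := d2_1 D7234 (iv D5510) D5509
def n7235 : Q := act 5 n5509
theorem D7235 : act 5 n5509 = n7235 := rfl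
theorem F11995 : act 0 n7235 = n5511 := d4_1 D7235 (iv D5511) D5509
def n7236 : Q := act 2 n5510
theorem D7236 : act 2 n5510 = n7236 := rfl
def n7237 : Q := act 4 n5510
theorem D7237 : act 4 n5510 = n7237 := rfl
theorem F11996 : act 1 n7237 = n5512 := d7_1 D7237 (iv D5512) (iv F9081)
def n7238 : Q := act 4 n5511
theorem D7238 : act 4 n5511 = n7238 := rfl
theorem F11997 : act 1 n7238 = n5513 := d7_1 D7238 (iv D5513) (iv F9082)
def n7239 : Q := act 0 n5514
theorem D7239 : act 0 n5514 = n7239 := rfl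
theorem F11998 : act 5 n7239 = n5515 := d4_2 (iv F9084) D7239 (iv D5515)
def n7240 : Q := act 3 n5515
theorem D7240 : act 3 n5515 = n7240 := rfl
theorem F11999 : act 0 n7240 = n5516 := d2_1 D7240 (iv D5516) D5515
def n7241 : Q := act 2 n5516
theorem D7241 : act 2 n5516 = n7241 := rfl
def n7242 : Q := act 4 n5517
theorem D7242 : act 4 n5517 = n7242 := rfl
def n7243 : Q := act 3 n5518
theorem D7243 : act 3 n5518 = n7243 := rfl
def n7244 : Q := act 5 n5518
theorem D7244 : act 5 n5518 = n7244 := rfl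
theorem F12000 : act 0 n7244 = n6885 := d4_1 D7244 F11380 F10547
theorem F12001 : act 2 n7244 = n5519 := d11_1 D7244 (iv D5519) (iv F9087)
theorem F12002 : act 4 n7244 = n6878 := d14_1 D7244 (iv D6878) F8548 F8225 D5518
def n7245 : Q := act 3 n5520
theorem D7245 : act 3 n5520 = n7245 := rfl
theorem F12003 : act 0 n7245 = n5521 := d2_1 D7245 (iv D5521) (iv F9092)
def n7246 : Q := act 5 n5520
theorem D7246 : act 5 n5520 = n7246 := rfl
theorem F12004 : act 0 n7246 = n5522 := d4_1 D7246 (iv D5522) (iv F9092)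
def n7247 : Q := act 2 n5521
theorem D7247 : act 2 n5521 = n7247 := rfl
def n7248 : Q := act 5 n5521
theorem D7248 : act 5 n5521 = n7248 := rfl
theorem F12005 : act 1 n7248 = n5524 := d8_1 D7248 (iv D5524) (iv F9093)
theorem F12006 : act 3 n7248 = n5522 := d13_1 D7248 (iv D5522) D5521
def n7249 : Q := act 1 n5523
theorem D7249 : act 1 n5523 = n7249 := rfl
def n7250 : Q := act 3 n5523
theorem D7250 : act 3 n5523 = n7250 := rfl
theorem F12007 : act 0 n7250 = n5831 := d2_1 D7250 (iv F11899) F11897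
theorem F12008 : act 2 n7250 = n5795 := d9_1 D7250 (iv D5795) F7125 (iv F6765) (iv F9002) (iv F11903) F11902 (iv D5830) (iv D4382) (iv D3260) F3881 (iv F3652) (iv F5008) D4146 D5523
theorem F12009 : act 5 n7250 = n5796 := d15_8 (iv D4382) (iv D3260) F3881 (iv F3652) (iv F5008) D4146 D5523 D7250 F9539
def n7251 : Q := act 5 n5523
theorem D7251 : act 5 n5523 = n7251 := rfl
theorem F12010 : act 0 n7251 = n5830 := d4_1 D7251 F11900 F11897
theorem F12011 : act 2 n7251 = n5524 := d11_1 D7251 (iv D5524) D5523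
theorem F12012 : act 3 n7251 = n5796 := d13_1 D7251 (iv F12009) (iv D7250)
def n7252 : Q := act 4 n5524
theorem D7252 : act 4 n5524 = n7252 := rfl
def n7253 : Q := act 1 n5525
theorem D7253 : act 1 n5525 = n7253 := rfl
def n7254 : Q := act 3 n5525
theorem D7254 : act 3 n5525 = n7254 := rfl
theorem F12013 : act 0 n7254 = n5616 := d2_1 D7254 (iv F11741) F11739
theorem F12014 : act 2 n7254 = n5598 := d9_1 D7254 F9237 F6904 (iv F6769) (iv F8877) (iv F11745) F11744 (iv D5615) (iv D4223) (iv D3132) F3749 (iv F3655) (iv F5012) D4149 D5525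
theorem F12015 : act 5 n7254 = n5597 := d15_8 (iv D4223) (iv D3132) F3749 (iv F3655) (iv F5012) D4149 D5525 D7254 F9235
def n7255 : Q := act 5 n5525
theorem D7255 : act 5 n5525 = n7255 := rfl
theorem F12016 : act 0 n7255 = n5615 := d4_1 D7255 F11742 F11739
theorem F12017 : act 2 n7255 = n5526 := d11_1 D7255 (iv D5526) D5525
theorem F12018 : act 3 n7255 = n5597 := d13_1 D7255 (iv F12015) (iv D7254)
def n7256 : Q := act 4 n5526
theorem D7256 : act 4 n5526 = n7256 := rfl
def n7257 : Q := act 1 n5528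
theorem D7257 : act 1 n5528 = n7257 := rfl
theorem F12019 : act 2 n7257 = n5665 := d5_2 D5528 D7257 (iv D5665) (iv D4263) (iv F6774)
theorem F12020 : act 3 n7257 = n6572 := d6_2 (iv F9103) D7257 (iv D6572)
theorem F12021 : act 4 n7257 = n5722 := d7_2 (iv F9101) D7257 (iv D5722)
theorem F12022 : act 5 n7257 = n5665 := d8_2 (iv F9102) D7257 (iv D5665)
def n7258 : Q := act 4 n5529
theorem D7258 : act 4 n5529 = n7258 := rfl
theorem F12023 : act 0 n7258 = n6573 := d3_1 D7258 (iv D6573) (iv F9104)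
theorem F12024 : act 2 n7258 = n6555 := d10_1 D7258 (iv D6555) (iv F9106)
theorem F12025 : act 3 n7258 = n5725 := d12_1 D7258 (iv D5725) (iv D4304) (iv F6777) D5529
def n7259 : Q := act 3 n5530
theorem D7259 : act 3 n5530 = n7259 := rfl
theorem F12026 : act 0 n7259 = n5685 := d2_1 D7259 (iv D5685) (iv F9107)
theorem F12027 : act 1 n7259 = n5532 := d6_1 D7259 (iv D5532) (iv F9108)
theorem F12028 : act 4 n7259 = n5839 := d12_2 D5530 D7259 (iv D5839) (iv D4390) F6782
def n7260 : Q := act 5 n5530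
theorem D7260 : act 5 n5530 = n7260 := rfl
theorem F12029 : act 0 n7260 = n5686 := d4_1 D7260 (iv D5686) (iv F9107)
theorem F12030 : act 1 n7260 = n5533 := d8_1 D7260 (iv D5533) (iv F9108)
theorem F12031 : act 2 n7260 = n5671 := d11_1 D7260 (iv D5671) (iv F9109)
theorem F12032 : act 4 n7260 = n5696 := d14_1 D7260 (iv D5696) (iv D4283) (iv F6781) D5530
def n7261 : Q := act 3 n5531
theorem D7261 : act 3 n5531 = n7261 := rfl
theorem F12033 : act 0 n7261 = n5535 := d2_1 D7261 (iv D5535) (iv F9110)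
theorem F12034 : act 1 n7261 = n5839 := d6_1 D7261 (iv D5839) (iv F9111)
theorem F12035 : act 4 n7261 = n5532 := d12_2 D5531 D7261 (iv D5532) (iv D4156) D4155
def n7262 : Q := act 5 n5531
theorem D7262 : act 5 n5531 = n7262 := rfl
theorem F12036 : act 0 n7262 = n5536 := d4_1 D7262 (iv D5536) (iv F9110)
theorem F12037 : act 1 n7262 = n5840 := d8_1 D7262 (iv D5840) (iv F9111)
theorem F12038 : act 2 n7262 = n6531 := d11_1 D7262 F10817 (iv F9112)
theorem F12039 : act 4 n7262 = n5702 := d14_1 D7262 (iv D5702) (iv D4288) (iv F6786) D5531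
def n7263 : Q := act 2 n5532
theorem D7263 : act 2 n5532 = n7263 := rfl
theorem F12040 : act 0 n7263 = n5537 := d1_1 D7263 (iv D5537) (iv F9113)
theorem F12041 : act 3 n7263 = n5683 := d15_1 D7263 F9353 F6992 F5174 (iv F5035) (iv F6800) (iv F9125) (iv D5538) (iv F9113)
theorem F12042 : act 5 n5682 = n7263 := d13_0 F12041 (iv D5683) D5682
def n7264 : Q := act 5 n5532
theorem D7264 : act 5 n5532 = n7264 := rfl
theorem F12043 : act 0 n7264 = n5538 := d4_1 D7264 (iv D5538) (iv F9113)
theorem F12044 : act 2 n7264 = n5682 := d11_1 D7264 F12042 (iv D7263)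
theorem F12045 : act 3 n7264 = n5533 := d13_1 D7264 (iv D5533) D5532
def n7265 : Q := act 3 n5534
theorem D7265 : act 3 n5534 = n7265 := rfl
theorem F12046 : act 0 n7265 = n6532 := d2_1 D7265 (iv D6532) (iv F9117)
theorem F12047 : act 1 n7265 = n5834 := d6_1 D7265 (iv D5834) (iv F9118)
theorem F12048 : act 4 n7265 = n6520 := d12_2 D5534 D7265 (iv D6520) (iv D4938) (iv F6795)
def n7266 : Q := act 5 n5534
theorem D7266 : act 5 n5534 = n7266 := rfl
theorem F12049 : act 0 n7266 = n6531 := d4_1 D7266 F10817 (iv F9117)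
theorem F12050 : act 1 n7266 = n5835 := d8_1 D7266 (iv D5835) (iv F9118)
theorem F12051 : act 2 n7266 = n5536 := d11_1 D7266 (iv D5536) (iv F9119)
theorem F12052 : act 4 n7266 = n5706 := d14_1 D7266 (iv D5706) (iv D4291) (iv F6796) D5534
def n7267 : Q := act 2 n5535
theorem D7267 : act 2 n5535 = n7267 := rfl
theorem F12053 : act 4 n7267 = n5537 := d10_2 (iv F9121) D7267 (iv D5537)
def n7268 : Q := act 5 n5535
theorem D7268 : act 5 n5535 = n7268 := rfl
theorem F12054 : act 1 n7268 = n5690 := d8_1 D7268 (iv D5690) (iv F9120)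
theorem F12055 : act 3 n7268 = n5536 := d13_1 D7268 (iv D5536) D5535
def n7269 : Q := act 1 n5537
theorem D7269 : act 1 n5537 = n7269 := rfl
theorem F12056 : act 2 n7269 = n5691 := d5_2 D5537 D7269 (iv D5691) (iv D4281) (iv F6798)
def n7270 : Q := act 3 n5537
theorem D7270 : act 3 n5537 = n7270 := rfl
theorem F12057 : act 0 n7270 = n5683 := d2_1 D7270 (iv F12041) F12040
theorem F12058 : act 2 n7270 = n5675 := d9_1 D7270 F9342 F6984 (iv F6791) (iv F9115) (iv F12045) F12044 (iv D5682) (iv D4274) (iv D3169) F3782 (iv F3674) (iv F5033) D4160 D5537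
theorem F12059 : act 5 n7270 = n5674 := d15_8 (iv D4274) (iv D3169) F3782 (iv F3674) (iv F5033) D4160 D5537 D7270 F9340
def n7271 : Q := act 5 n5537
theorem D7271 : act 5 n5537 = n7271 := rfl
theorem F12060 : act 0 n7271 = n5682 := d4_1 D7271 F12042 F12040
theorem F12061 : act 2 n7271 = n5538 := d11_1 D7271 (iv D5538) D5537
theorem F12062 : act 3 n7271 = n5674 := d13_1 D7271 (iv F12059) (iv D7270)
def n7272 : Q := act 4 n5538
theorem D7272 : act 4 n5538 = n7272 := rfl
theorem F12063 : act 1 n7272 = n5694 := d7_1 D7272 (iv D5694) (iv F9124)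
theorem F12064 : act 3 n7272 = n5712 := d12_1 D7272 (iv D5712) F7030 (iv F6801) (iv F9125)
def n7273 : Q := act 3 n5539
theorem D7273 : act 3 n5539 = n7273 := rfl
theorem F12065 : act 0 n7273 = n5670 := d2_1 D7273 (iv D5670) (iv F9126)
theorem F12066 : act 1 n7273 = n5540 := d6_1 D7273 (iv D5540) (iv F9127)
def n7274 : Q := act 5 n5539
theorem D7274 : act 5 n5539 = n7274 := rfl
theorem F12067 : act 0 n7274 = n5671 := d4_1 D7274 (iv D5671) (iv F9126)
theorem F12068 : act 1 n7274 = n5541 := d8_1 D7274 (iv D5541) (iv F9127)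
theorem F12069 : act 2 n7274 = n5686 := d11_1 D7274 (iv D5686) (iv F9128)
theorem F12070 : act 4 n7274 = n5549 := d14_1 D7274 (iv D5549) (iv D4170) (iv F6804) D5539
def n7275 : Q := act 2 n5540
theorem D7275 : act 2 n5540 = n7275 := rfl
theorem F12071 : act 0 n7275 = n5544 := d1_1 D7275 (iv D5544) (iv F9129)
theorem F12072 : act 3 n7275 = n5967 := d15_1 D7275 (iv D5967) (iv D4487) F5376 (iv F5046) (iv F6814) (iv F9138) (iv D5545) (iv F9129)
def n7276 : Q := act 5 n5540
theorem D7276 : act 5 n5540 = n7276 := rfl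
theorem F12073 : act 0 n7276 = n5545 := d4_1 D7276 (iv D5545) (iv F9129)
theorem F12074 : act 3 n7276 = n5541 := d13_1 D7276 (iv D5541) D5540
def n7277 : Q := act 2 n5542
theorem D7277 : act 2 n5542 = n7277 := rfl
theorem F12075 : act 4 n7277 = n5544 := d10_2 (iv F9134) D7277 (iv D5544)
def n7278 : Q := act 5 n5542
theorem D7278 : act 5 n5542 = n7278 := rfl
theorem F12076 : act 1 n7278 = n5680 := d8_1 D7278 (iv D5680) (iv F9133)
theorem F12077 : act 3 n7278 = n5543 := d13_1 D7278 (iv D5543) D5542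
def n7279 : Q := act 1 n5544
theorem D7279 : act 1 n5544 = n7279 := rfl
theorem F12078 : act 2 n7279 = n5681 := d5_2 D5544 D7279 (iv D5681) (iv D4274) (iv F6812)
def n7280 : Q := act 3 n5544
theorem D7280 : act 3 n5544 = n7280 := rfl
theorem F12079 : act 0 n7280 = n5967 := d2_1 D7280 (iv F12072) F12071
theorem F12080 : act 2 n7280 = n5957 := d15_2 D5544 D7280 (iv D5957) F7262 (iv F6809) (iv F9131) (iv F12074) (iv D7276) F9129
def n7281 : Q := act 5 n5544
theorem D7281 : act 5 n5544 = n7281 := rfl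
theorem F12081 : act 2 n7281 = n5545 := d11_1 D7281 (iv D5545) D5544
def n7282 : Q := act 4 n5545
theorem D7282 : act 4 n5545 = n7282 := rfl
theorem F12082 : act 1 n7282 = n5684 := d7_1 D7282 (iv D5684) (iv F9137)
theorem F12083 : act 3 n7282 = n5568 := d12_1 D7282 (iv D5568) F6842 (iv F6815) (iv F9138)
def n7283 : Q := act 3 n5546
theorem D7283 : act 3 n5546 = n7283 := rfl
theorem F12084 : act 0 n7283 = n5548 := d2_1 D7283 (iv D5548) (iv F9139)
theorem F12085 : act 1 n7283 = n5554 := d6_1 D7283 (iv D5554) (iv F9140)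
theorem F12086 : act 4 n7283 = n6556 := d12_2 D5546 D7283 (iv D6556) (iv D4969) F6819
def n7284 : Q := act 5 n5546
theorem D7284 : act 5 n5546 = n7284 := rfl
theorem F12087 : act 0 n7284 = n5549 := d4_1 D7284 (iv D5549) (iv F9139)
theorem F12088 : act 1 n7284 = n5555 := d8_1 D7284 (iv D5555) (iv F9140)
theorem F12089 : act 2 n7284 = n5696 := d11_1 D7284 (iv D5696) (iv F9141)
theorem F12090 : act 4 n7284 = n5671 := d14_1 D7284 (iv D5671) (iv D4266) (iv F6818) D5546
def n7285 : Q := act 3 n5547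
theorem D7285 : act 3 n5547 = n7285 := rfl
theorem F12091 : act 0 n7285 = n6556 := d2_1 D7285 (iv D6556) (iv F9142)
theorem F12092 : act 1 n7285 = n5550 := d6_1 D7285 (iv D5550) (iv F9143)
theorem F12093 : act 4 n7285 = n5548 := d12_2 D5547 D7285 (iv D5548) (iv D4170) D4169
def n7286 : Q := act 5 n5547
theorem D7286 : act 5 n5547 = n7286 := rfl
theorem F12094 : act 0 n7286 = n6557 := d4_1 D7286 (iv D6557) (iv F9142)
theorem F12095 : act 1 n7286 = n5551 := d8_1 D7286 (iv D5551) (iv F9143)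
theorem F12096 : act 2 n7286 = n6914 := d11_1 D7286 (iv D6914) (iv F9144)
def n7287 : Q := act 2 n5548
theorem D7287 : act 2 n5548 = n7287 := rfl
theorem F12097 : act 1 n7287 = n5724 := d5_1 D7287 (iv D5724) F9153 (iv D5552) (iv F9145)
def n7288 : Q := act 5 n5548
theorem D7288 : act 5 n5548 = n7288 := rfl
theorem F12098 : act 1 n7288 = n5553 := d8_1 D7288 (iv D5553) (iv F9145)
theorem F12099 : act 3 n7288 = n5549 := d13_1 D7288 (iv D5549) D5548
def n7289 : Q := act 2 n5550
theorem D7289 : act 2 n5550 = n7289 := rfl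
theorem F12100 : act 0 n7289 = n5563 := d1_1 D7289 (iv D5563) (iv F9148)
theorem F12101 : act 4 n7289 = n5552 := d10_2 (iv F9149) D7289 (iv D5552)
theorem F12102 : act 1 n5725 = n7289 := d7_3 F12101 (iv F9153) D5725
def n7290 : Q := act 5 n5550
theorem D7290 : act 5 n5550 = n7290 := rfl
theorem F12103 : act 0 n7290 = n5564 := d4_1 D7290 (iv D5564) (iv F9148)
theorem F12104 : act 3 n7290 = n5551 := d13_1 D7290 (iv D5551) D5550
def n7291 : Q := act 4 n5553
theorem D7291 : act 4 n5553 = n7291 := rfl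
theorem F12105 : act 0 n7291 = n5568 := d3_1 D7291 (iv D5568) (iv F9155)
theorem F12106 : act 2 n7291 = n5579 := d10_1 D7291 (iv D5579) (iv F9156)
def n7292 : Q := act 2 n5554
theorem D7292 : act 2 n5554 = n7292 := rfl
theorem F12107 : act 0 n7292 = n5558 := d1_1 D7292 (iv D5558) (iv F9158)
theorem F12108 : act 4 n7292 = n6558 := d10_2 (iv F9159) D7292 (iv D6558)
def n7293 : Q := act 5 n5554
theorem D7293 : act 5 n5554 = n7293 := rfl
theorem F12109 : act 0 n7293 = n5559 := d4_1 D7293 (iv D5559) (iv F9158)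
theorem F12110 : act 3 n7293 = n5555 := d13_1 D7293 (iv D5555) D5554
def n7294 : Q := act 2 n5556
theorem D7294 : act 2 n5556 = n7294 := rfl
theorem F12111 : act 0 n7294 = n6558 := d1_1 D7294 (iv D6558) (iv F9163)
theorem F12112 : act 4 n7294 = n5558 := d10_2 (iv F9165) D7294 (iv D5558)
def n7295 : Q := act 5 n5556
theorem D7295 : act 5 n5556 = n7295 := rfl
theorem F12113 : act 0 n7295 = n6559 := d4_1 D7295 (iv D6559) (iv F9163)
theorem F12114 : act 1 n7295 = n5564 := d8_1 D7295 (iv D5564) (iv F9164)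
theorem F12115 : act 3 n7295 = n5557 := d13_1 D7295 (iv D5557) D5556
def n7296 : Q := act 1 n5558
theorem D7296 : act 1 n5558 = n7296 := rfl
theorem F12116 : act 2 n7296 = n5565 := d5_2 D5558 D7296 (iv D5565) (iv D4182) (iv F6834)
def n7297 : Q := act 3 n5558
theorem D7297 : act 3 n5558 = n7297 := rfl
def n7298 : Q := act 5 n5558
theorem D7298 : act 5 n5558 = n7298 := rfl
theorem F12117 : act 2 n7298 = n5559 := d11_1 D7298 (iv D5559) D5558
def n7299 : Q := act 4 n5559
theorem D7299 : act 4 n5559 = n7299 := rfl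
theorem F12118 : act 1 n7299 = n5568 := d7_1 D7299 (iv D5568) (iv F9170)
theorem F12119 : act 3 n7299 = n5684 := d12_1 D7299 (iv D5684) F6992 (iv F6837) (iv F9171)
def n7300 : Q := act 3 n5560
theorem D7300 : act 3 n5560 = n7300 := rfl
theorem F12120 : act 0 n7300 = n6941 := d2_1 D7300 (iv D6941) (iv F9172)
theorem F12121 : act 1 n7300 = n5561 := d6_1 D7300 (iv D5561) (iv F9173)
def n7301 : Q := act 5 n5560
theorem D7301 : act 5 n5560 = n7301 := rfl
theorem F12122 : act 0 n7301 = n6942 := d4_1 D7301 (iv D6942) (iv F9172)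
theorem F12123 : act 1 n7301 = n5562 := d8_1 D7301 (iv D5562) (iv F9173)
theorem F12124 : act 2 n7301 = n6546 := d11_1 D7301 (iv D6546) (iv F9174)
def n7302 : Q := act 2 n5561
theorem D7302 : act 2 n5561 = n7302 := rfl
def n7303 : Q := act 5 n5561
theorem D7303 : act 5 n5561 = n7303 := rfl
theorem F12125 : act 3 n7303 = n5562 := d13_1 D7303 (iv D5562) D5561
def n7304 : Q := act 1 n5563
theorem D7304 : act 1 n5563 = n7304 := rfl
theorem F12126 : act 4 n7304 = n5565 := d7_2 (iv F9176) D7304 (iv D5565)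
def n7305 : Q := act 3 n5563
theorem D7305 : act 3 n5563 = n7305 := rfl
def n7306 : Q := act 5 n5563
theorem D7306 : act 5 n5563 = n7306 := rfl
theorem F12127 : act 2 n7306 = n5564 := d11_1 D7306 (iv D5564) D5563
def n7307 : Q := act 4 n5564
theorem D7307 : act 4 n5564 = n7307 := rfl
theorem F12128 : act 5 n7307 = n5568 := d14_2 D5564 D7307 (iv D5568) (iv D4183) (iv F6841)
def n7308 : Q := act 0 n5565
theorem D7308 : act 0 n5565 = n7308 := rfl
theorem F12129 : act 1 n7308 = n5723 := d0_2 D5565 D7308 F9422 F9153 F9151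
theorem F12130 : act 3 n5722 = n7308 := d6_0 F12129 (iv D5723) D5722
def n7309 : Q := act 3 n5565
theorem D7309 : act 3 n5565 = n7309 := rfl
theorem F12131 : act 0 n7309 = n5722 := d2_1 D7309 F12130 (iv D7308)
theorem F12132 : act 1 n7309 = n5566 := d6_1 D7309 (iv D5566) D5565
theorem F12133 : act 5 n5574 = n7309 := d8_0 F12132 F9180 D5574
def n7310 : Q := act 5 n5565
theorem D7310 : act 5 n5565 = n7310 := rfl
theorem F12134 : act 1 n7310 = n5567 := d8_1 D7310 (iv D5567) D5565
theorem F12135 : act 3 n7310 = n5574 := d13_1 D7310 F12133 (iv D7309)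
def n7311 : Q := act 4 n5567
theorem D7311 : act 4 n5567 = n7311 := rfl
theorem F12136 : act 0 n7311 = n5579 := d3_1 D7311 (iv D5579) (iv F9181)
theorem F12137 : act 2 n7311 = n5568 := d10_1 D7311 (iv D5568) (iv F9182)
def n7312 : Q := act 1 n5569
theorem D7312 : act 1 n5569 = n7312 := rfl
theorem F12138 : act 2 n7312 = n5722 := d5_2 D5569 D7312 (iv D5722) (iv D4302) (iv F6844)
theorem F12139 : act 4 n7312 = n5665 := d7_2 (iv F9185) D7312 (iv D5665)
def n7313 : Q := act 3 n5569
theorem D7313 : act 3 n5569 = n7313 := rfl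
theorem F12140 : act 0 n7313 = n5571 := d2_1 D7313 (iv D5571) (iv F9184)
def n7314 : Q := act 5 n5569
theorem D7314 : act 5 n5569 = n7314 := rfl
theorem F12141 : act 0 n7314 = n5572 := d4_1 D7314 (iv D5572) (iv F9184)
theorem F12142 : act 2 n7314 = n5570 := d11_1 D7314 (iv D5570) D5569
theorem F12143 : act 4 n7314 = n5577 := d14_1 D7314 F9198 (iv F9101) F9102 (iv F9185)
def n7315 : Q := act 2 n5571
theorem D7315 : act 2 n5571 = n7315 := rfl
def n7316 : Q := act 4 n5571
theorem D7316 : act 4 n5571 = n7316 := rfl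
theorem F12144 : act 3 n7316 = n5668 := d12_1 D7316 (iv D5668) (iv D4264) (iv F6849) D5571
def n7317 : Q := act 5 n5571
theorem D7317 : act 5 n5571 = n7317 := rfl
theorem F12145 : act 1 n7317 = n5576 := d8_1 D7317 (iv F11804) F11803
theorem F12146 : act 3 n7317 = n5572 := d13_1 D7317 (iv D5572) D5571
def n7318 : Q := act 1 n5573
theorem D7318 : act 1 n5573 = n7318 := rfl
theorem F12147 : act 2 n7318 = n5574 := d5_2 D5573 D7318 (iv D5574) (iv D4189) (iv F6854)
theorem F12148 : act 4 n7318 = n5574 := d7_2 (iv F9194) D7318 (iv D5574)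
def n7319 : Q := act 3 n5573
theorem D7319 : act 3 n5573 = n7319 := rfl
theorem F12149 : act 0 n7319 = n5576 := d2_1 D7319 (iv D5576) (iv F9193)
def n7320 : Q := act 0 n5574
theorem D7320 : act 0 n5574 = n7320 := rfl
theorem F12150 : act 1 n7320 = n5577 := d0_2 D5574 D7320 (iv D5577) (iv D4193) (iv F6856)
theorem F12151 : act 5 n7320 = n5722 := d4_2 (iv F12133) D7320 (iv F12131)
def n7321 : Q := act 1 n5575
theorem D7321 : act 1 n5575 = n7321 := rfl
theorem F12152 : act 2 n7321 = n5731 := d5_2 D5575 D7321 (iv D5731) (iv D4309) (iv F6860)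
theorem F12153 : act 4 n7321 = n6577 := d7_2 (iv F9196) D7321 (iv D6577)
def n7322 : Q := act 3 n5575
theorem D7322 : act 3 n5575 = n7322 := rfl
theorem F12154 : act 0 n7322 = n5727 := d2_1 D7322 (iv D5727) (iv F9195)
def n7323 : Q := act 2 n5576
theorem D7323 : act 2 n5576 = n7323 := rfl
theorem F12155 : act 5 n7323 = n5727 := d11_2 F11804 D7323 (iv F11805)
theorem F12156 : act 3 n7323 = n5728 := d15_3 D4192 D5576 D7323 F9425 F7046 (iv F6650) D5414 F8926 F6853
def n7324 : Q := act 4 n5576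
theorem D7324 : act 4 n5576 = n7324 := rfl
theorem F12157 : act 3 n7324 = n5579 := d12_1 D7324 (iv D5579) (iv D4194) (iv F6862) D5576
def n7325 : Q := act 3 n5577
theorem D7325 : act 3 n5577 = n7325 := rfl
theorem F12158 : act 0 n7325 = n5578 := d2_1 D7325 (iv D5578) D5577
theorem F12159 : act 5 n7325 = n5723 := d13_2 (iv F9198) D7325 (iv D5723)
theorem F12160 : act 2 n7325 = n5710 := d15_2 (iv F9197) D7325 (iv D5710) (iv D4294) (iv D3185) F3802 D2342 D3194 (iv F7042)
def n7326 : Q := act 2 n5578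
theorem D7326 : act 2 n5578 = n7326 := rfl
theorem F12161 : act 0 n7326 = n5710 := d1_1 D7326 (iv F12160) F12158
theorem F12162 : act 5 n7326 = n5724 := d11_2 (iv F9200) D7326 (iv D5724)
theorem F12163 : act 3 n7326 = n5703 := d15_1 D7326 (iv D5703) (iv D4289) F5196 D3191 D4302 D5723 (iv F12159) F12158
def n7327 : Q := act 4 n5578
theorem D7327 : act 4 n5578 = n7327 := rfl
theorem F12164 : act 1 n7327 = n5579 := d7_1 D7327 (iv D5579) (iv F9199)
def n7328 : Q := act 5 n5579
theorem D7328 : act 5 n5579 = n7328 := rfl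
def n7329 : Q := act 3 n5580
theorem D7329 : act 3 n5580 = n7329 := rfl
theorem F12165 : act 0 n7329 = n5772 := d2_1 D7329 (iv D5772) (iv F9201)
theorem F12166 : act 1 n7329 = n5582 := d6_1 D7329 (iv D5582) (iv F9202)
theorem F12167 : act 4 n7329 = n5825 := d12_2 D5580 D7329 (iv D5825) (iv D4379) F6870
def n7330 : Q := act 5 n5580
theorem D7330 : act 5 n5580 = n7330 := rfl
theorem F12168 : act 0 n7330 = n5771 := d4_1 D7330 F9501 (iv F9201)
theorem F12169 : act 1 n7330 = n5583 := d8_1 D7330 (iv D5583) (iv F9202)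
theorem F12170 : act 2 n7330 = n5595 := d11_1 D7330 (iv D5595) (iv F9203)
theorem F12171 : act 4 n7330 = n5768 := d14_1 D7330 (iv D5768) (iv D4335) (iv F6869) D5580
def n7331 : Q := act 3 n5581
theorem D7331 : act 3 n5581 = n7331 := rfl
theorem F12172 : act 0 n7331 = n5586 := d2_1 D7331 (iv D5586) (iv F9204)
theorem F12173 : act 1 n7331 = n5825 := d6_1 D7331 (iv D5825) (iv F9205)
theorem F12174 : act 4 n7331 = n5582 := d12_2 D5581 D7331 (iv D5582) (iv D4198) D4197
def n7332 : Q := act 5 n5581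
theorem D7332 : act 5 n5581 = n7332 := rfl
theorem F12175 : act 0 n7332 = n5587 := d4_1 D7332 (iv D5587) (iv F9204)
theorem F12176 : act 1 n7332 = n5826 := d8_1 D7332 (iv D5826) (iv F9205)
theorem F12177 : act 4 n7332 = n5782 := d14_1 D7332 (iv D5782) (iv D4346) (iv F6873) D5581
def n7333 : Q := act 2 n5582
theorem D7333 : act 2 n5582 = n7333 := rfl
theorem F12178 : act 0 n7333 = n5588 := d1_1 D7333 (iv D5588) (iv F9206)
def n7334 : Q := act 5 n5582
theorem D7334 : act 5 n5582 = n7334 := rfl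
theorem F12179 : act 0 n7334 = n5589 := d4_1 D7334 (iv D5589) (iv F9206)
theorem F12180 : act 3 n7334 = n5583 := d13_1 D7334 (iv D5583) D5582
def n7335 : Q := act 1 n5584
theorem D7335 : act 1 n5584 = n7335 := rfl
theorem F12181 : act 2 n7335 = n5603 := d5_2 D5584 D7335 (iv D5603) (iv D4215) (iv F6880)
theorem F12182 : act 4 n7335 = n5812 := d7_2 (iv F9211) D7335 (iv D5812)
def n7336 : Q := act 3 n5584
theorem D7336 : act 3 n5584 = n7336 := rfl
theorem F12183 : act 0 n7336 = n5591 := d2_1 D7336 (iv D5591) (iv F9210)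
theorem F12184 : act 2 n7336 = n5591 := d15_2 D5584 D7336 (iv D5591) (iv D4205) (iv D3119) (iv F4401) D3689 F6027 (iv F6879)
def n7337 : Q := act 3 n5585
theorem D7337 : act 3 n5585 = n7337 := rfl
theorem F12185 : act 1 n7337 = n5823 := d6_1 D7337 (iv D5823) (iv F9212)
def n7338 : Q := act 5 n5585
theorem D7338 : act 5 n5585 = n7338 := rfl
theorem F12186 : act 1 n7338 = n5824 := d8_1 D7338 (iv D5824) (iv F9212)
theorem F12187 : act 2 n7338 = n5587 := d11_1 D7338 (iv D5587) (iv F9213)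
theorem F12188 : act 4 n7338 = n5786 := d14_1 D7338 (iv D5786) (iv D4349) (iv F6883) D5585
def n7339 : Q := act 2 n5586
theorem D7339 : act 2 n5586 = n7339 := rfl
theorem F12189 : act 4 n7339 = n5588 := d10_2 (iv F9215) D7339 (iv D5588)
def n7340 : Q := act 5 n5586
theorem D7340 : act 5 n5586 = n7340 := rfl
theorem F12190 : act 1 n7340 = n5795 := d8_1 D7340 F9538 (iv F9214)
theorem F12191 : act 3 n7340 = n5587 := d13_1 D7340 (iv D5587) D5586
def n7341 : Q := act 1 n5588
theorem D7341 : act 1 n5588 = n7341 := rfl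
theorem F12192 : act 2 n7341 = n5800 := d5_2 D5588 D7341 (iv D5800) (iv D4361) (iv F6885)
def n7342 : Q := act 3 n5588
theorem D7342 : act 3 n5588 = n7342 := rfl
def n7343 : Q := act 5 n5588
theorem D7343 : act 5 n5588 = n7343 := rfl
theorem F12193 : act 2 n7343 = n5589 := d11_1 D7343 (iv D5589) D5588
def n7344 : Q := act 4 n5589
theorem D7344 : act 4 n5589 = n7344 := rfl
theorem F12194 : act 1 n7344 = n5798 := d7_1 D7344 F9541 (iv F9218)
theorem F12195 : act 3 n7344 = n5792 := d12_1 D7344 (iv D5792) F7121 (iv F6888) (iv F9219)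
def n7345 : Q := act 0 n5590
theorem D7345 : act 0 n5590 = n7345 := rfl
theorem F12196 : act 2 n7345 = n5592 := d1_2 (iv F9220) D7345 (iv D5592)
theorem F12197 : act 4 n7345 = n5816 := d3_2 (iv F9221) D7345 (iv D5816)
theorem F12198 : act 5 n7345 = n6575 := d4_2 (iv F9222) D7345 F10862
def n7346 : Q := act 3 n5590
theorem D7346 : act 3 n5590 = n7346 := rfl
theorem F12199 : act 1 n7346 = n5591 := d6_1 D7346 (iv D5591) D5590
theorem F12200 : act 5 n7346 = n6576 := d13_2 (iv F9222) D7346 (iv D6576)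
def n7347 : Q := act 4 n5591
theorem D7347 : act 4 n5591 = n7347 := rfl
theorem F12201 : act 3 n7347 = n5819 := d12_1 D7347 (iv D5819) (iv D4371) (iv F6889) D5591
def n7348 : Q := act 3 n5593
theorem D7348 : act 3 n5593 = n7348 := rfl
theorem F12202 : act 0 n7348 = n5594 := d2_1 D7348 (iv D5594) (iv F9227)
theorem F12203 : act 1 n7348 = n5604 := d6_1 D7348 (iv D5604) (iv F9228)
theorem F12204 : act 4 n7348 = n7300 := d12_2 D5593 D7348 (iv D7300) (iv D5560) (iv F6895)
def n7349 : Q := act 5 n5593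
theorem D7349 : act 5 n5593 = n7349 := rfl
theorem F12205 : act 0 n7349 = n5595 := d4_1 D7349 (iv D5595) (iv F9227)
theorem F12206 : act 1 n7349 = n5605 := d8_1 D7349 (iv D5605) (iv F9228)
theorem F12207 : act 2 n7349 = n5771 := d11_1 D7349 F9501 (iv F9229)
theorem F12208 : act 4 n7349 = n5752 := d14_1 D7349 (iv D5752) (iv D4324) F6896 D5593
def n7350 : Q := act 2 n5594
theorem D7350 : act 2 n5594 = n7350 := rfl
def n7351 : Q := act 5 n5594
theorem D7351 : act 5 n5594 = n7351 := rfl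
theorem F12209 : act 1 n7351 = n5598 := d8_1 D7351 (iv D5598) (iv F9230)
theorem F12210 : act 3 n7351 = n5595 := d13_1 D7351 (iv D5595) D5594
def n7352 : Q := act 4 n5595
theorem D7352 : act 4 n5595 = n7352 := rfl
theorem F12211 : act 0 n7352 = n5752 := d3_1 D7352 (iv F12208) F12205
theorem F12212 : act 1 n7352 = n5599 := d7_1 D7352 (iv D5599) (iv F9231)
theorem F12213 : act 2 n7352 = n5768 := d10_1 D7352 (iv F12171) F12170
theorem F12214 : act 5 n7352 = n5596 := d14_2 D5595 D7352 (iv D5596) (iv D4209) D4208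
def n7353 : Q := act 3 n5596
theorem D7353 : act 3 n5596 = n7353 := rfl
theorem F12215 : act 0 n7353 = n5751 := d2_1 D7353 (iv D5751) (iv F9232)
theorem F12216 : act 1 n7353 = n5600 := d6_1 D7353 (iv D5600) (iv F9233)
theorem F12217 : act 4 n7353 = n5644 := d12_2 D5596 D7353 (iv D5644) (iv D4248) (iv F6901)
def n7354 : Q := act 1 n5597
theorem D7354 : act 1 n5597 = n7354 := rfl
def n7355 : Q := act 4 n5598
theorem D7355 : act 4 n5598 = n7355 := rfl
theorem F12218 : act 0 n7355 = n5617 := d3_1 D7355 (iv D5617) (iv F9236)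
def n7356 : Q := act 3 n5599
theorem D7356 : act 3 n5599 = n7356 := rfl
theorem F12219 : act 0 n7356 = n5618 := d2_1 D7356 (iv D5618) (iv F9238)
theorem F12220 : act 5 n7356 = n5600 := d13_2 (iv F9240) D7356 (iv D5600)
def n7357 : Q := act 2 n5600
theorem D7357 : act 2 n5600 = n7357 := rfl
theorem F12221 : act 0 n7357 = n5619 := d1_1 D7357 (iv D5619) (iv F9241)
theorem F12222 : act 4 n7357 = n5646 := d10_2 (iv F9242) D7357 (iv D5646)
def n7358 : Q := act 2 n5601
theorem D7358 : act 2 n5601 = n7358 := rfl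
theorem F12223 : act 0 n7358 = n5620 := d1_1 D7358 (iv D5620) (iv F9243)
theorem F12224 : act 5 n7358 = n5602 := d11_2 (iv F9245) D7358 (iv D5602)
def n7359 : Q := act 1 n5602
theorem D7359 : act 1 n5602 = n7359 := rfl
theorem F12225 : act 2 n7359 = n5812 := d5_2 D5602 D7359 (iv D5812) (iv D4368) (iv F6911)
theorem F12226 : act 4 n7359 = n5603 := d7_2 (iv F9247) D7359 (iv D5603)
def n7360 : Q := act 3 n5602
theorem D7360 : act 3 n5602 = n7360 := rfl
theorem F12227 : act 0 n7360 = n5622 := d2_1 D7360 (iv D5622) (iv F9246)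
def n7361 : Q := act 0 n5603
theorem D7361 : act 0 n5603 = n7361 := rfl
theorem F12228 : act 1 n7361 = n5623 := d0_2 D5603 D7361 (iv D5623) (iv D4229) (iv F6913)
def n7362 : Q := act 2 n5604
theorem D7362 : act 2 n5604 = n7362 := rfl
theorem F12229 : act 0 n7362 = n5608 := d1_1 D7362 (iv D5608) (iv F9248)
theorem F12230 : act 4 n7362 = n7302 := d10_2 (iv F9249) D7362 (iv D7302)
def n7363 : Q := act 5 n5604
theorem D7363 : act 5 n5604 = n7363 := rfl
theorem F12231 : act 0 n7363 = n5609 := d4_1 D7363 (iv D5609) (iv F9248)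
theorem F12232 : act 3 n7363 = n5605 := d13_1 D7363 (iv D5605) D5604
def n7364 : Q := act 2 n5606
theorem D7364 : act 2 n5606 = n7364 := rfl
theorem F12233 : act 0 n7364 = n7302 := d1_1 D7364 (iv D7302) (iv F9253)
theorem F12234 : act 4 n7364 = n5608 := d10_2 (iv F9255) D7364 (iv D5608)
def n7365 : Q := act 5 n5606
theorem D7365 : act 5 n5606 = n7365 := rfl
theorem F12235 : act 0 n7365 = n7303 := d4_1 D7365 (iv D7303) (iv F9253)
theorem F12236 : act 1 n7365 = n5611 := d8_1 D7365 (iv D5611) (iv F9254)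
theorem F12237 : act 3 n7365 = n5607 := d13_1 D7365 (iv D5607) D5606
def n7366 : Q := act 1 n5608
theorem D7366 : act 1 n5608 = n7366 := rfl
theorem F12238 : act 2 n7366 = n5614 := d5_2 D5608 D7366 (iv D5614) (iv D4223) (iv F6919)
def n7367 : Q := act 3 n5608
theorem D7367 : act 3 n5608 = n7367 := rfl
def n7368 : Q := act 5 n5608
theorem D7368 : act 5 n5608 = n7368 := rfl
theorem F12239 : act 2 n7368 = n5609 := d11_1 D7368 (iv D5609) D5608
def n7369 : Q := act 4 n5609
theorem D7369 : act 4 n5609 = n7369 := rfl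
theorem F12240 : act 1 n7369 = n5617 := d7_1 D7369 (iv D5617) (iv F9260)
theorem F12241 : act 3 n7369 = n5765 := d12_1 D7369 (iv D5765) F7084 (iv F6922) (iv F9261)
def n7370 : Q := act 1 n5610
theorem D7370 : act 1 n5610 = n7370 := rfl
theorem F12242 : act 4 n7370 = n5614 := d7_2 (iv F9262) D7370 (iv D5614)
def n7371 : Q := act 3 n5610
theorem D7371 : act 3 n5610 = n7371 := rfl
def n7372 : Q := act 5 n5610
theorem D7372 : act 5 n5610 = n7372 := rfl
theorem F12243 : act 2 n7372 = n5611 := d11_1 D7372 (iv D5611) D5610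
def n7373 : Q := act 4 n5611
theorem D7373 : act 4 n5611 = n7373 := rfl
theorem F12244 : act 5 n7373 = n5617 := d14_2 D5611 D7373 (iv D5617) (iv D4224) (iv F6923)
def n7374 : Q := act 3 n5612
theorem D7374 : act 3 n5612 = n7374 := rfl
theorem F12245 : act 0 n7374 = n5647 := d2_1 D7374 F9312 (iv F9264)
theorem F12246 : act 1 n7374 = n5761 := d6_1 D7374 F9484 (iv F9265)
theorem F12247 : act 5 n7374 = n5613 := d13_2 (iv F9267) D7374 (iv D5613)
def n7375 : Q := act 2 n5613
theorem D7375 : act 2 n5613 = n7375 := rfl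
theorem F12248 : act 0 n7375 = n5646 := d1_1 D7375 (iv D5646) (iv F9268)
theorem F12249 : act 4 n7375 = n5619 := d10_2 (iv F9270) D7375 (iv D5619)
def n7376 : Q := act 0 n5614
theorem D7376 : act 0 n5614 = n7376 := rfl
def n7377 : Q := act 3 n5614
theorem D7377 : act 3 n5614 = n7377 := rfl
theorem F12250 : act 1 n7377 = n5615 := d6_1 D7377 (iv D5615) D5614
def n7378 : Q := act 5 n5614
theorem D7378 : act 5 n5614 = n7378 := rfl
theorem F12251 : act 1 n7378 = n5616 := d8_1 D7378 (iv D5616) D5614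
def n7379 : Q := act 4 n5615
theorem D7379 : act 4 n5615 = n7379 := rfl
def n7380 : Q := act 4 n5616
theorem D7380 : act 4 n5616 = n7380 := rfl
theorem F12252 : act 2 n7380 = n5617 := d10_1 D7380 (iv D5617) (iv F9271)
def n7381 : Q := act 3 n5617
theorem D7381 : act 3 n5617 = n7381 := rfl
theorem F12253 : act 1 n7381 = n5765 := d6_1 D7381 (iv F12241) F12240
theorem F12254 : act 4 n7381 = n5618 := d12_2 D5617 D7381 (iv D5618) (iv D4225) (iv F6927)
def n7382 : Q := act 2 n5618
theorem D7382 : act 2 n5618 = n7382 := rfl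
theorem F12255 : act 5 n7382 = n5619 := d11_2 (iv F9273) D7382 (iv D5619)
def n7383 : Q := act 1 n5619
theorem D7383 : act 1 n5619 = n7383 := rfl
theorem F12256 : act 2 n7383 = n5762 := d5_2 D5619 D7383 (iv D5762) (iv D4332) (iv F6931)
def n7384 : Q := act 3 n5619
theorem D7384 : act 3 n5619 = n7384 := rfl
def n7385 : Q := act 3 n5620
theorem D7385 : act 3 n5620 = n7385 := rfl
theorem F12257 : act 1 n7385 = n6611 := d6_1 D7385 (iv D6611) (iv F9274)
theorem F12258 : act 5 n7385 = n5622 := d13_2 (iv F9275) D7385 (iv D5622)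
def n7386 : Q := act 0 n5621
theorem D7386 : act 0 n5621 = n7386 := rfl
theorem F12259 : act 2 n7386 = n5628 := d1_2 (iv F9276) D7386 (iv D5628)
theorem F12260 : act 4 n7386 = n5623 := d3_2 (iv F9277) D7386 (iv D5623)
theorem F12261 : act 5 n7386 = n6610 := d4_2 (iv F9278) D7386 F10915
def n7387 : Q := act 3 n5621
theorem D7387 : act 3 n5621 = n7387 := rfl
theorem F12262 : act 1 n7387 = n5622 := d6_1 D7387 (iv D5622) D5621
theorem F12263 : act 5 n7387 = n6611 := d13_2 (iv F9278) D7387 (iv D6611)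
def n7388 : Q := act 2 n5622
theorem D7388 : act 2 n5622 = n7388 := rfl
def n7389 : Q := act 4 n5622
theorem D7389 : act 4 n5622 = n7389 := rfl
theorem F12264 : act 3 n7389 = n5625 := d12_1 D7389 (iv D5625) (iv D4230) (iv F6934) D5622
def n7390 : Q := act 3 n5623
theorem D7390 : act 3 n5623 = n7390 := rfl
theorem F12265 : act 0 n7390 = n5624 := d2_1 D7390 (iv D5624) D5623
def n7391 : Q := act 2 n5624
theorem D7391 : act 2 n5624 = n7391 := rfl
def n7392 : Q := act 4 n5624
theorem D7392 : act 4 n5624 = n7392 := rfl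
theorem F12266 : act 1 n7392 = n5625 := d7_1 D7392 (iv D5625) (iv F9280)
def n7393 : Q := act 5 n5625
theorem D7393 : act 5 n5625 = n7393 := rfl
def n7394 : Q := act 1 n5626
theorem D7394 : act 1 n5626 = n7394 := rfl
theorem F12267 : act 0 n7394 = n6459 := d0_1 D7394 F10682 F7992 (iv F6942) (iv F9281)
theorem F12268 : act 2 n7394 = n5778 := d5_2 D5626 D7394 (iv D5778) (iv D4344) (iv F6937)
theorem F12269 : act 4 n7394 = n5757 := d7_2 (iv F9282) D7394 (iv D5757)
def n7395 : Q := act 3 n5626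
theorem D7395 : act 3 n5626 = n7395 := rfl
theorem F12270 : act 0 n7395 = n5627 := d2_1 D7395 (iv D5627) (iv F9281)
theorem F12271 : act 4 n7395 = n6990 := d12_2 (iv F9282) D7395 (iv D6990) (iv D5311) (iv F7080)
def n7396 : Q := act 2 n5627
theorem D7396 : act 2 n5627 = n7396 := rfl
def n7397 : Q := act 4 n5627
theorem D7397 : act 4 n5627 = n7397 := rfl
theorem F12272 : act 0 n7397 = n6990 := d3_1 D7397 (iv F12271) F12270
theorem F12273 : act 1 n7397 = n6465 := d7_1 D7397 F10694 (iv F9283)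
theorem F12274 : act 3 n7397 = n5766 := d12_1 D7397 (iv D5766) (iv D4334) (iv F6943) D5627
def n7398 : Q := act 2 n5629
theorem D7398 : act 2 n5629 = n7398 := rfl
theorem F12275 : act 0 n7398 = n5630 := d1_1 D7398 (iv D5630) (iv F9288)
theorem F12276 : act 5 n7398 = n6423 := d11_2 (iv F9290) D7398 F10612
def n7399 : Q := act 3 n5630
theorem D7399 : act 3 n5630 = n7399 := rfl
theorem F12277 : act 1 n7399 = n6431 := d6_1 D7399 F10617 (iv F9291)
theorem F12278 : act 5 n7399 = n6425 := d13_2 (iv F9292) D7399 (iv D6425)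
def n7400 : Q := act 3 n5631
theorem D7400 : act 3 n5631 = n7400 := rfl
theorem F12279 : act 1 n7400 = n5758 := d6_1 D7400 (iv D5758) (iv F9293)
theorem F12280 : act 4 n7400 = n7273 := d12_2 D5631 D7400 (iv D7273) (iv D5539) (iv F6950)
def n7401 : Q := act 5 n5631
theorem D7401 : act 5 n5631 = n7401 := rfl
theorem F12281 : act 1 n7401 = n5759 := d8_1 D7401 (iv D5759) (iv F9293)
theorem F12282 : act 2 n7401 = n5633 := d11_1 D7401 (iv D5633) (iv F9294)
theorem F12283 : act 4 n7401 = n7286 := d14_1 D7401 (iv D7286) (iv D5547) (iv F6951) D5631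
def n7402 : Q := act 2 n5632
theorem D7402 : act 2 n5632 = n7402 := rfl
theorem F12284 : act 4 n7402 = n5634 := d10_2 (iv F9296) D7402 (iv D5634)
def n7403 : Q := act 5 n5632
theorem D7403 : act 5 n5632 = n7403 := rfl
theorem F12285 : act 1 n7403 = n5637 := d8_1 D7403 (iv D5637) (iv F9295)
theorem F12286 : act 3 n7403 = n5633 := d13_1 D7403 (iv D5633) D5632
def n7404 : Q := act 1 n5634
theorem D7404 : act 1 n5634 = n7404 := rfl
theorem F12287 : act 2 n7404 = n5638 := d5_2 D5634 D7404 (iv D5638) (iv D4243) (iv F6953)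
def n7405 : Q := act 3 n5634
theorem D7405 : act 3 n5634 = n7405 := rfl
def n7406 : Q := act 5 n5634
theorem D7406 : act 5 n5634 = n7406 := rfl
theorem F12288 : act 2 n7406 = n5635 := d11_1 D7406 (iv D5635) D5634
def n7407 : Q := act 4 n5635
theorem D7407 : act 4 n5635 = n7407 := rfl
theorem F12289 : act 0 n7407 = n5937 := d3_1 D7407 (iv F11446) F11444
theorem F12290 : act 1 n7407 = n5639 := d7_1 D7407 (iv D5639) (iv F9298)
theorem F12291 : act 3 n7407 = n5936 := d12_1 D7407 (iv D5936) (iv F8605) F8606 (iv F9299)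
def n7408 : Q := act 1 n5636
theorem D7408 : act 1 n5636 = n7408 := rfl
theorem F12292 : act 4 n7408 = n5638 := d7_2 (iv F9301) D7408 (iv D5638)
def n7409 : Q := act 3 n5636
theorem D7409 : act 3 n5636 = n7409 := rfl
theorem F12293 : act 0 n7409 = n5649 := d2_1 D7409 (iv D5649) (iv F9300)
def n7410 : Q := act 5 n5636
theorem D7410 : act 5 n5636 = n7410 := rfl
theorem F12294 : act 0 n7410 = n5650 := d4_1 D7410 (iv D5650) (iv F9300)
theorem F12295 : act 2 n7410 = n5637 := d11_1 D7410 (iv D5637) D5636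
def n7411 : Q := act 4 n5637
theorem D7411 : act 4 n5637 = n7411 := rfl
theorem F12296 : act 0 n7411 = n5651 := d3_1 D7411 (iv D5651) (iv F9302)
theorem F12297 : act 5 n7411 = n5639 := d14_2 D5637 D7411 (iv D5639) (iv D4244) (iv F6956)
def n7412 : Q := act 0 n5638
theorem D7412 : act 0 n5638 = n7412 := rfl
theorem F12298 : act 1 n7412 = n5652 := d0_2 D5638 D7412 (iv D5652) (iv D4253) (iv F6958)
def n7413 : Q := act 3 n5640
theorem D7413 : act 3 n5640 = n7413 := rfl
theorem F12299 : act 0 n7413 = n5641 := d2_1 D7413 (iv D5641) D5640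
theorem F12300 : act 1 n7413 = n5657 := d6_1 D7413 (iv D5657) (iv F9305)
def n7414 : Q := act 2 n5641
theorem D7414 : act 2 n5641 = n7414 := rfl
def n7415 : Q := act 4 n5641
theorem D7415 : act 4 n5641 = n7415 := rfl
theorem F12301 : act 1 n7415 = n5642 := d7_1 D7415 (iv D5642) (iv F9306)
def n7416 : Q := act 5 n5642
theorem D7416 : act 5 n5642 = n7416 := rfl
theorem F12302 : act 0 n7416 = n5662 := d4_1 D7416 (iv D5662) (iv F9307)
def n7417 : Q := act 3 n5643
theorem D7417 : act 3 n5643 = n7417 := rfl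
theorem F12303 : act 0 n7417 = n5644 := d2_1 D7417 (iv D5644) (iv F9308)
theorem F12304 : act 1 n7417 = n5753 := d6_1 D7417 (iv D5753) (iv F9309)
theorem F12305 : act 4 n7417 = n5751 := d12_2 D5643 D7417 (iv D5751) (iv D4324) (iv F6963)
def n7418 : Q := act 5 n5643
theorem D7418 : act 5 n5643 = n7418 := rfl
theorem F12306 : act 0 n7418 = n5645 := d4_1 D7418 (iv D5645) (iv F9308)
theorem F12307 : act 1 n7418 = n5754 := d8_1 D7418 (iv D5754) (iv F9309)
theorem F12308 : act 4 n7418 = n7301 := d14_1 D7418 (iv D7301) (iv D5560) (iv F6964) D5643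
def n7419 : Q := act 2 n5644
theorem D7419 : act 2 n5644 = n7419 := rfl
def n7420 : Q := act 5 n5644
theorem D7420 : act 5 n5644 = n7420 := rfl
theorem F12309 : act 1 n7420 = n5647 := d8_1 D7420 (iv D5647) (iv F9310)
theorem F12310 : act 3 n7420 = n5645 := d13_1 D7420 (iv D5645) D5644
def n7421 : Q := act 1 n5646
theorem D7421 : act 1 n5646 = n7421 := rfl
def n7422 : Q := act 3 n5646
theorem D7422 : act 3 n5646 = n7422 := rfl
def n7423 : Q := act 5 n5646
theorem D7423 : act 5 n5646 = n7423 := rfl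
theorem F12311 : act 2 n7423 = n5647 := d11_1 D7423 (iv D5647) D5646
def n7424 : Q := act 4 n5647
theorem D7424 : act 4 n5647 = n7424 := rfl
def n7425 : Q := act 0 n5648
theorem D7425 : act 0 n5648 = n7425 := rfl
theorem F12312 : act 4 n7425 = n5652 := d3_2 (iv F9313) D7425 (iv D5652)
def n7426 : Q := act 3 n5648
theorem D7426 : act 3 n5648 = n7426 := rfl
theorem F12313 : act 1 n7426 = n5649 := d6_1 D7426 (iv D5649) D5648
def n7427 : Q := act 5 n5648
theorem D7427 : act 5 n5648 = n7427 := rfl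
theorem F12314 : act 1 n7427 = n5650 := d8_1 D7427 (iv D5650) D5648
def n7428 : Q := act 2 n5649
theorem D7428 : act 2 n5649 = n7428 := rfl
def n7429 : Q := act 4 n5649
theorem D7429 : act 4 n5649 = n7429 := rfl
theorem F12315 : act 3 n7429 = n5655 := d12_1 D7429 (iv D5655) (iv D4254) (iv F6967) D5649
def n7430 : Q := act 5 n5649
theorem D7430 : act 5 n5649 = n7430 := rfl
theorem F12316 : act 3 n7430 = n5650 := d13_1 D7430 (iv D5650) D5649
def n7431 : Q := act 4 n5650
theorem D7431 : act 4 n5650 = n7431 := rfl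
theorem F12317 : act 2 n7431 = n5651 := d10_1 D7431 (iv D5651) (iv F9314)
theorem F12318 : act 5 n7431 = n5656 := d14_2 D5650 D7431 (iv D5656) (iv D4255) (iv F6967)
def n7432 : Q := act 3 n5652
theorem D7432 : act 3 n5652 = n7432 := rfl
theorem F12319 : act 0 n7432 = n5653 := d2_1 D7432 (iv D5653) D5652
def n7433 : Q := act 5 n5652
theorem D7433 : act 5 n5652 = n7433 := rfl
theorem F12320 : act 0 n7433 = n5654 := d4_1 D7433 (iv D5654) D5652
def n7434 : Q := act 2 n5653
theorem D7434 : act 2 n5653 = n7434 := rfl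
def n7435 : Q := act 4 n5653
theorem D7435 : act 4 n5653 = n7435 := rfl
theorem F12321 : act 1 n7435 = n5655 := d7_1 D7435 (iv D5655) (iv F9316)
def n7436 : Q := act 4 n5654
theorem D7436 : act 4 n5654 = n7436 := rfl
theorem F12322 : act 1 n7436 = n5656 := d7_1 D7436 (iv D5656) (iv F9317)
def n7437 : Q := act 5 n5655
theorem D7437 : act 5 n5655 = n7437 := rfl
def n7438 : Q := act 3 n5656
theorem D7438 : act 3 n5656 = n7438 := rfl
def n7439 : Q := act 2 n5657
theorem D7439 : act 2 n5657 = n7439 := rfl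
theorem F12323 : act 0 n7439 = n5658 := d1_1 D7439 (iv D5658) (iv F9319)
def n7440 : Q := act 4 n5657
theorem D7440 : act 4 n5657 = n7440 := rfl
theorem F12324 : act 0 n7440 = n5659 := d3_1 D7440 (iv D5659) (iv F9319)
def n7441 : Q := act 1 n5658
theorem D7441 : act 1 n5658 = n7441 := rfl
theorem F12325 : act 2 n7441 = n5660 := d5_2 D5658 D7441 (iv D5660) (iv D4259) (iv F6971)
def n7442 : Q := act 3 n5658
theorem D7442 : act 3 n5658 = n7442 := rfl
def n7443 : Q := act 4 n5658
theorem D7443 : act 4 n5658 = n7443 := rfl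
theorem F12326 : act 2 n7443 = n5659 := d10_1 D7443 (iv D5659) D5658
def n7444 : Q := act 5 n5659
theorem D7444 : act 5 n5659 = n7444 := rfl
theorem F12327 : act 1 n7444 = n5662 := d8_1 D7444 (iv D5662) (iv F9320)
def n7445 : Q := act 0 n5660
theorem D7445 : act 0 n5660 = n7445 := rfl
def n7446 : Q := act 4 n5660
theorem D7446 : act 4 n5660 = n7446 := rfl
theorem F12328 : act 1 n7446 = n5661 := d7_1 D7446 (iv D5661) D5660
def n7447 : Q := act 3 n5661
theorem D7447 : act 3 n5661 = n7447 := rfl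
def n7448 : Q := act 5 n5661
theorem D7448 : act 5 n5661 = n7448 := rfl
theorem F12329 : act 2 n7448 = n5662 := d11_1 D7448 (iv D5662) (iv F9321)
def n7449 : Q := act 1 n5663
theorem D7449 : act 1 n5663 = n7449 := rfl
theorem F12330 : act 0 n7449 = n5665 := d0_1 D7449 (iv D5665) F6974 (iv F6973) (iv F9322)
def n7450 : Q := act 3 n5663
theorem D7450 : act 3 n5663 = n7450 := rfl
theorem F12331 : act 0 n7450 = n5664 := d2_1 D7450 (iv D5664) (iv F9322)
def n7451 : Q := act 2 n5664
theorem D7451 : act 2 n5664 = n7451 := rfl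
def n7452 : Q := act 4 n5664
theorem D7452 : act 4 n5664 = n7452 := rfl
theorem F12332 : act 1 n7452 = n5668 := d7_1 D7452 (iv D5668) (iv F9323)
def n7453 : Q := act 3 n5665
theorem D7453 : act 3 n5665 = n7453 := rfl
theorem F12333 : act 1 n7453 = n5666 := d6_1 D7453 (iv D5666) D5665
theorem F12334 : act 5 n7453 = n6572 := d13_2 F12022 D7453 (iv F12020)
def n7454 : Q := act 4 n5666
theorem D7454 : act 4 n5666 = n7454 := rfl
theorem F12335 : act 0 n7454 = n5668 := d3_1 D7454 (iv D5668) (iv F9324)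
theorem F12336 : act 2 n7454 = n6542 := d10_1 D7454 (iv D6542) (iv F9325)
def n7455 : Q := act 1 n5667
theorem D7455 : act 1 n5667 = n7455 := rfl
theorem F12337 : act 3 n7455 = n6522 := d6_2 (iv F9328) D7455 (iv D6522)
theorem F12338 : act 5 n7455 = n6554 := d8_2 (iv F9329) D7455 F10847
def n7456 : Q := act 4 n5667
theorem D7456 : act 4 n5667 = n7456 := rfl
theorem F12339 : act 0 n7456 = n6542 := d3_1 D7456 (iv D6542) (iv F9327)
theorem F12340 : act 2 n7456 = n5668 := d10_1 D7456 (iv D5668) D5667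
def n7457 : Q := act 5 n5668
theorem D7457 : act 5 n5668 = n7457 := rfl
def n7458 : Q := act 3 n5669
theorem D7458 : act 3 n5669 = n7458 := rfl
theorem F12341 : act 0 n7458 = n7400 := d2_1 D7458 (iv D7400) (iv F9330)
theorem F12342 : act 1 n7458 = n5672 := d6_1 D7458 (iv D5672) (iv F9331)
theorem F12343 : act 4 n7458 = n5670 := d12_2 D5669 D7458 (iv D5670) (iv D4266) D4265
def n7459 : Q := act 5 n5669
theorem D7459 : act 5 n5669 = n7459 := rfl
theorem F12344 : act 0 n7459 = n7401 := d4_1 D7459 (iv D7401) (iv F9330)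
theorem F12345 : act 1 n7459 = n5673 := d8_1 D7459 (iv D5673) (iv F9331)
theorem F12346 : act 2 n7459 = n6321 := d11_1 D7459 (iv D6321) (iv F9332)
theorem F12347 : act 4 n7459 = n6557 := d14_1 D7459 (iv D6557) (iv D4969) (iv F6978) D5669
def n7460 : Q := act 2 n5670
theorem D7460 : act 2 n5670 = n7460 := rfl
def n7461 : Q := act 5 n5670
theorem D7461 : act 5 n5670 = n7461 := rfl
theorem F12348 : act 1 n7461 = n5675 := d8_1 D7461 (iv D5675) (iv F9333)
theorem F12349 : act 3 n7461 = n5671 := d13_1 D7461 (iv D5671) D5670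
def n7462 : Q := act 2 n5672
theorem D7462 : act 2 n5672 = n7462 := rfl
theorem F12350 : act 0 n7462 = n5679 := d1_1 D7462 (iv D5679) (iv F9335)
theorem F12351 : act 4 n7462 = n5674 := d10_2 (iv F9336) D7462 (iv D5674)
def n7463 : Q := act 5 n5672
theorem D7463 : act 5 n5672 = n7463 := rfl
theorem F12352 : act 0 n7463 = n5680 := d4_1 D7463 (iv D5680) (iv F9335)
theorem F12353 : act 3 n7463 = n5673 := d13_1 D7463 (iv D5673) D5672
def n7464 : Q := act 1 n5674
theorem D7464 : act 1 n5674 = n7464 := rfl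
def n7465 : Q := act 4 n5675
theorem D7465 : act 4 n5675 = n7465 := rfl
theorem F12354 : act 0 n7465 = n5684 := d3_1 D7465 (iv D5684) (iv F9341)
def n7466 : Q := act 5 n5676
theorem D7466 : act 5 n5676 = n7466 := rfl
theorem F12355 : act 0 n7466 = n6307 := d4_1 D7466 (iv D6307) (iv F9343)
theorem F12356 : act 1 n7466 = n5678 := d8_1 D7466 (iv D5678) (iv F9344)
theorem F12357 : act 2 n7466 = n7418 := d11_1 D7466 (iv D7418) (iv F9345)
theorem F12358 : act 4 n7466 = n6546 := d14_1 D7466 (iv D6546) (iv D4960) (iv F6988) D5676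
def n7467 : Q := act 2 n5677
theorem D7467 : act 2 n5677 = n7467 := rfl
theorem F12359 : act 0 n7467 = n6314 := d1_1 D7467 F10405 (iv F9346)
theorem F12360 : act 4 n7467 = n6310 := d10_2 (iv F9347) D7467 (iv D6310)
def n7468 : Q := act 5 n5677
theorem D7468 : act 5 n5677 = n7468 := rfl
theorem F12361 : act 0 n7468 = n6315 := d4_1 D7468 (iv D6315) (iv F9346)
theorem F12362 : act 3 n7468 = n5678 := d13_1 D7468 (iv D5678) D5677
def n7469 : Q := act 1 n5679
theorem D7469 : act 1 n5679 = n7469 := rfl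
theorem F12363 : act 4 n7469 = n5681 := d7_2 (iv F9351) D7469 (iv D5681)
def n7470 : Q := act 3 n5679
theorem D7470 : act 3 n5679 = n7470 := rfl
def n7471 : Q := act 5 n5679
theorem D7471 : act 5 n5679 = n7471 := rfl
theorem F12364 : act 2 n7471 = n5680 := d11_1 D7471 (iv D5680) D5679
def n7472 : Q := act 4 n5680
theorem D7472 : act 4 n5680 = n7472 := rfl
theorem F12365 : act 5 n7472 = n5684 := d14_2 D5680 D7472 (iv D5684) (iv D4275) (iv F6991)
def n7473 : Q := act 0 n5681
theorem D7473 : act 0 n5681 = n7473 := rfl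
def n7474 : Q := act 3 n5681
theorem D7474 : act 3 n5681 = n7474 := rfl
theorem F12366 : act 1 n7474 = n5682 := d6_1 D7474 (iv D5682) D5681
def n7475 : Q := act 5 n5681
theorem D7475 : act 5 n5681 = n7475 := rfl
theorem F12367 : act 1 n7475 = n5683 := d8_1 D7475 (iv D5683) D5681
def n7476 : Q := act 4 n5682
theorem D7476 : act 4 n5682 = n7476 := rfl
def n7477 : Q := act 4 n5683
theorem D7477 : act 4 n5683 = n7477 := rfl
theorem F12368 : act 2 n7477 = n5684 := d10_1 D7477 (iv D5684) (iv F9353)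
def n7478 : Q := act 2 n5685
theorem D7478 : act 2 n5685 = n7478 := rfl
theorem F12369 : act 4 n7478 = n5841 := d10_2 (iv F9355) D7478 (iv D5841)
def n7479 : Q := act 5 n5685
theorem D7479 : act 5 n5685 = n7479 := rfl
theorem F12370 : act 1 n7479 = n5688 := d8_1 D7479 (iv D5688) (iv F9354)
theorem F12371 : act 3 n7479 = n5686 := d13_1 D7479 (iv D5686) D5685
def n7480 : Q := act 1 n5687
theorem D7480 : act 1 n5687 = n7480 := rfl
theorem F12372 : act 4 n7480 = n5843 := d7_2 (iv F9359) D7480 (iv D5843)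
def n7481 : Q := act 4 n5688
theorem D7481 : act 4 n5688 = n7481 := rfl
theorem F12373 : act 0 n7481 = n5694 := d3_1 D7481 (iv D5694) (iv F9360)
theorem F12374 : act 3 n7481 = n5700 := d12_1 D7481 (iv D5700) F7016 (iv F6998) (iv F9361)
theorem F12375 : act 5 n7481 = n5846 := d14_2 D5688 D7481 (iv D5846) (iv D4394) (iv F6995)
def n7482 : Q := act 1 n5689
theorem D7482 : act 1 n5689 = n7482 := rfl
theorem F12376 : act 4 n7482 = n5691 := d7_2 (iv F9363) D7482 (iv D5691)
def n7483 : Q := act 3 n5689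
theorem D7483 : act 3 n5689 = n7483 := rfl
theorem F12377 : act 0 n7483 = n5844 := d2_1 D7483 (iv D5844) (iv F9362)
theorem F12378 : act 2 n7483 = n5851 := d15_2 D5689 D7483 F9605 F7180 F5321 (iv F5317) (iv F7177) (iv D4394) (iv F6999)
theorem F12379 : act 5 n5850 = n7483 := d11_0 F12378 (iv D5851) D5850
def n7484 : Q := act 5 n5689
theorem D7484 : act 5 n5689 = n7484 := rfl
theorem F12380 : act 0 n7484 = n5845 := d4_1 D7484 (iv D5845) (iv F9362)
theorem F12381 : act 2 n7484 = n5690 := d11_1 D7484 (iv D5690) D5689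
theorem F12382 : act 3 n7484 = n5850 := d13_1 D7484 F12379 (iv D7483)
def n7485 : Q := act 4 n5690
theorem D7485 : act 4 n5690 = n7485 := rfl
theorem F12383 : act 0 n7485 = n5846 := d3_1 D7485 (iv D5846) (iv F9364)
theorem F12384 : act 3 n7485 = n5716 := d12_1 D7485 (iv D5716) F7034 (iv F7003) (iv F9365)
theorem F12385 : act 5 n7485 = n5694 := d14_2 D5690 D7485 (iv D5694) (iv D4282) (iv F7000)
def n7486 : Q := act 0 n5691
theorem D7486 : act 0 n5691 = n7486 := rfl
def n7487 : Q := act 3 n5691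
theorem D7487 : act 3 n5691 = n7487 := rfl
theorem F12386 : act 1 n7487 = n5692 := d6_1 D7487 (iv D5692) D5691
def n7488 : Q := act 5 n5691
theorem D7488 : act 5 n5691 = n7488 := rfl
theorem F12387 : act 1 n7488 = n5693 := d8_1 D7488 (iv D5693) D5691
def n7489 : Q := act 4 n5692
theorem D7489 : act 4 n5692 = n7489 := rfl
def n7490 : Q := act 4 n5693
theorem D7490 : act 4 n5693 = n7490 := rfl
theorem F12388 : act 2 n7490 = n5694 := d10_1 D7490 (iv D5694) (iv F9366)
def n7491 : Q := act 2 n5695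
theorem D7491 : act 2 n5695 = n7491 := rfl
theorem F12389 : act 0 n7491 = n5697 := d1_1 D7491 (iv D5697) (iv F9368)
theorem F12390 : act 4 n7491 = n7214 := d10_2 (iv F9370) D7491 (iv D7214)
def n7492 : Q := act 5 n5695
theorem D7492 : act 5 n5695 = n7492 := rfl
theorem F12391 : act 0 n7492 = n5698 := d4_1 D7492 (iv D5698) (iv F9368)
theorem F12392 : act 1 n7492 = n5704 := d8_1 D7492 (iv D5704) (iv F9369)
theorem F12393 : act 3 n7492 = n5696 := d13_1 D7492 (iv D5696) D5695
def n7493 : Q := act 1 n5697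
theorem D7493 : act 1 n5697 = n7493 := rfl
theorem F12394 : act 2 n7493 = n5699 := d5_2 D5697 D7493 (iv D5699) (iv D4286) (iv F7007)
theorem F12395 : act 4 n7493 = n7216 := d7_2 (iv F9373) D7493 (iv D7216)
theorem F12396 : act 5 n5746 = n7493 := d11_0 F12394 F9378 D5746
def n7494 : Q := act 3 n5697
theorem D7494 : act 3 n5697 = n7494 := rfl
def n7495 : Q := act 5 n5697
theorem D7495 : act 5 n5697 = n7495 := rfl
theorem F12397 : act 1 n7495 = n5746 := d8_1 D7495 F12396 (iv D7493)
theorem F12398 : act 2 n7495 = n5698 := d11_1 D7495 (iv D5698) D5697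
def n7496 : Q := act 4 n5698
theorem D7496 : act 4 n5698 = n7496 := rfl
theorem F12399 : act 1 n7496 = n5700 := d7_1 D7496 (iv D5700) (iv F9374)
theorem F12400 : act 5 n7496 = n7219 := d14_2 D5698 D7496 (iv D7219) (iv D5498) (iv F7008)
def n7497 : Q := act 0 n5699
theorem D7497 : act 0 n5699 = n7497 := rfl
theorem F12401 : act 1 n7497 = n5717 := d0_2 D5699 D7497 (iv D5717) (iv D4298) (iv F7010)
theorem F12402 : act 3 n7497 = n5745 := d2_2 (iv F9376) D7497 F9454
theorem F12403 : act 4 n7497 = n7220 := d3_2 (iv F9377) D7497 (iv D7220)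
theorem F12404 : act 5 n7497 = n5744 := d4_2 (iv F9378) D7497 F9453
def n7498 : Q := act 2 n5701
theorem D7498 : act 2 n5701 = n7498 := rfl
theorem F12405 : act 0 n7498 = n5707 := d1_1 D7498 (iv D5707) (iv F9382)
theorem F12406 : act 4 n7498 = n5703 := d10_2 (iv F9384) D7498 (iv D5703)
def n7499 : Q := act 5 n5701
theorem D7499 : act 5 n5701 = n7499 := rfl
theorem F12407 : act 0 n7499 = n5708 := d4_1 D7499 (iv D5708) (iv F9382)
theorem F12408 : act 1 n7499 = n7215 := d8_1 D7499 (iv D7215) (iv F9383)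
theorem F12409 : act 3 n7499 = n5702 := d13_1 D7499 (iv D5702) D5701
def n7500 : Q := act 1 n5703
theorem D7500 : act 1 n5703 = n7500 := rfl
def n7501 : Q := act 5 n5703
theorem D7501 : act 5 n5703 = n7501 := rfl
theorem F12410 : act 0 n7501 = n5711 := d4_1 D7501 (iv D5711) (iv F9388)
theorem F12411 : act 2 n7501 = n5704 := d11_1 D7501 (iv D5704) D5703
theorem F12412 : act 3 n7501 = n5724 := d13_1 D7501 (iv F12162) F12163
def n7502 : Q := act 4 n5704
theorem D7502 : act 4 n5704 = n7502 := rfl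
theorem F12413 : act 0 n7502 = n5712 := d3_1 D7502 (iv D5712) (iv F9389)
def n7503 : Q := act 2 n5705
theorem D7503 : act 2 n5705 = n7503 := rfl
theorem F12414 : act 0 n7503 = n6529 := d1_1 D7503 (iv D6529) (iv F9391)
theorem F12415 : act 4 n7503 = n6517 := d10_2 (iv F9393) D7503 (iv D6517)
def n7504 : Q := act 5 n5705
theorem D7504 : act 5 n5705 = n7504 := rfl
theorem F12416 : act 0 n7504 = n6530 := d4_1 D7504 (iv D6530) (iv F9391)
theorem F12417 : act 1 n7504 = n7204 := d8_1 D7504 (iv D7204) (iv F9392)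
theorem F12418 : act 3 n7504 = n5706 := d13_1 D7504 (iv D5706) D5705
def n7505 : Q := act 1 n5707
theorem D7505 : act 1 n5707 = n7505 := rfl
theorem F12419 : act 2 n7505 = n5713 := d5_2 D5707 D7505 (iv D5713) (iv D4296) (iv F7026)
theorem F12420 : act 4 n7505 = n5709 := d7_2 (iv F9397) D7505 (iv D5709)
def n7506 : Q := act 3 n5707
theorem D7506 : act 3 n5707 = n7506 := rfl
def n7507 : Q := act 5 n5707
theorem D7507 : act 5 n5707 = n7507 := rfl
theorem F12421 : act 2 n7507 = n5708 := d11_1 D7507 (iv D5708) D5707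
def n7508 : Q := act 4 n5708
theorem D7508 : act 4 n5708 = n7508 := rfl
theorem F12422 : act 1 n7508 = n5716 := d7_1 D7508 (iv D5716) (iv F9398)
theorem F12423 : act 5 n7508 = n5712 := d14_2 D5708 D7508 (iv D5712) (iv D4295) (iv F7027)
def n7509 : Q := act 0 n5709
theorem D7509 : act 0 n5709 = n7509 := rfl
theorem F12424 : act 2 n7509 = n5717 := d1_2 (iv F9400) D7509 (iv D5717)
def n7510 : Q := act 3 n5709
theorem D7510 : act 3 n5709 = n7510 := rfl
theorem F12425 : act 1 n7510 = n5710 := d6_1 D7510 (iv D5710) D5709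
def n7511 : Q := act 5 n5709
theorem D7511 : act 5 n5709 = n7511 := rfl
theorem F12426 : act 1 n7511 = n5711 := d8_1 D7511 (iv D5711) D5709
theorem F12427 : act 2 n7511 = n5719 := d11_1 D7511 (iv D5719) (iv F9400)
def n7512 : Q := act 4 n5710
theorem D7512 : act 4 n5710 = n7512 := rfl
def n7513 : Q := act 5 n5710
theorem D7513 : act 5 n5710 = n7513 := rfl
theorem F12428 : act 0 n7513 = n5724 := d4_1 D7513 (iv F12162) F12161
theorem F12429 : act 2 n7513 = n5723 := d11_1 D7513 (iv F12159) F12160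
theorem F12430 : act 3 n7513 = n5711 := d13_1 D7513 (iv D5711) D5710
def n7514 : Q := act 4 n5711
theorem D7514 : act 4 n5711 = n7514 := rfl
theorem F12431 : act 2 n7514 = n5712 := d10_1 D7514 (iv D5712) (iv F9401)
def n7515 : Q := act 0 n5713
theorem D7515 : act 0 n5713 = n7515 := rfl
theorem F12432 : act 1 n7515 = n7220 := d0_2 D5713 D7515 (iv D7220) (iv D5499) (iv F7031)
theorem F12433 : act 4 n7515 = n5717 := d3_2 (iv F9403) D7515 (iv D5717)
def n7516 : Q := act 3 n5713
theorem D7516 : act 3 n5713 = n7516 := rfl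
theorem F12434 : act 1 n7516 = n5714 := d6_1 D7516 (iv D5714) D5713
theorem F12435 : act 5 n6296 = n7516 := d8_0 F12434 F9406 D6296
def n7517 : Q := act 5 n5713
theorem D7517 : act 5 n5713 = n7517 := rfl
theorem F12436 : act 1 n7517 = n5715 := d8_1 D7517 (iv D5715) D5713
theorem F12437 : act 3 n7517 = n6296 := d13_1 D7517 F12435 (iv D7516)
def n7518 : Q := act 4 n5714
theorem D7518 : act 4 n5714 = n7518 := rfl
theorem F12438 : act 0 n7518 = n5750 := d3_1 D7518 F9459 (iv F9404)
theorem F12439 : act 2 n7518 = n6297 := d10_1 D7518 (iv D6297) (iv F9405)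
theorem F12440 : act 3 n7518 = n5720 := d12_1 D7518 (iv D5720) (iv D4299) (iv F7032) D5714
theorem F12441 : act 5 n7518 = n6594 := d14_2 (iv F9406) D7518 F10891 F10727 F8520
def n7519 : Q := act 4 n5715
theorem D7519 : act 4 n5715 = n7519 := rfl
theorem F12442 : act 0 n7519 = n5749 := d3_1 D7519 F9458 (iv F9407)
theorem F12443 : act 2 n7519 = n5716 := d10_1 D7519 (iv D5716) (iv F9408)
theorem F12444 : act 3 n7519 = n6593 := d12_1 D7519 F10890 F10730 F8520 (iv F9409)
theorem F12445 : act 5 n7519 = n5721 := d14_2 D5715 D7519 (iv D5721) (iv D4300) (iv F7032)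
def n7520 : Q := act 3 n5717
theorem D7520 : act 3 n5717 = n7520 := rfl
theorem F12446 : act 0 n7520 = n5718 := d2_1 D7520 (iv D5718) D5717
theorem F12447 : act 1 n7520 = n5745 := d6_1 D7520 (iv F12402) F12401
theorem F12448 : act 5 n5730 = n7520 := d8_0 F12447 (iv D5745) (iv F9428)
def n7521 : Q := act 5 n5717
theorem D7521 : act 5 n5717 = n7521 := rfl
theorem F12449 : act 0 n7521 = n5719 := d4_1 D7521 (iv D5719) D5717
theorem F12450 : act 1 n7521 = n5744 := d8_1 D7521 (iv F12404) F12401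
theorem F12451 : act 3 n7521 = n5730 := d13_1 D7521 F12448 (iv D7520)
def n7522 : Q := act 2 n5718
theorem D7522 : act 2 n5718 = n7522 := rfl
theorem F12452 : act 1 n7522 = n5728 := d5_1 D7522 F9425 F7045 (iv F7036) (iv F9412)
theorem F12453 : act 5 n7522 = n5726 := d11_2 F9413 D7522 F9423
def n7523 : Q := act 4 n5718
theorem D7523 : act 4 n5718 = n7523 := rfl
theorem F12454 : act 1 n7523 = n5720 := d7_1 D7523 (iv D5720) (iv F9412)
theorem F12455 : act 5 n7523 = n6592 := d14_2 F9413 D7523 (iv D6592) (iv D4992) (iv F7047)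
def n7524 : Q := act 4 n5719
theorem D7524 : act 4 n5719 = n7524 := rfl
theorem F12456 : act 1 n7524 = n5721 := d7_1 D7524 (iv D5721) (iv F9414)
theorem F12457 : act 3 n7524 = n6591 := d12_1 D7524 (iv D6591) (iv D4991) (iv F7047) (iv F9415)
def n7525 : Q := act 4 n5723
theorem D7525 : act 4 n5723 = n7525 := rfl
theorem F12458 : act 0 n7525 = n5725 := d3_1 D7525 (iv D5725) (iv F9422)
theorem F12459 : act 3 n7525 = n6573 := d12_1 D7525 (iv D6573) (iv F9103) F9101 D5723
def n7526 : Q := act 4 n5724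
theorem D7526 : act 4 n5724 = n7526 := rfl
theorem F12460 : act 2 n7526 = n5725 := d10_1 D7526 (iv D5725) D5724
def n7527 : Q := act 5 n5725
theorem D7527 : act 5 n5725 = n7527 := rfl
def n7528 : Q := act 0 n5726
theorem D7528 : act 0 n5726 = n7528 := rfl
theorem F12461 : act 2 n7528 = n5730 := d1_2 (iv F9423) D7528 (iv D5730)
theorem F12462 : act 4 n7528 = n6581 := d3_2 (iv F9424) D7528 (iv D6581)
def n7529 : Q := act 3 n5726
theorem D7529 : act 3 n5726 = n7529 := rfl
theorem F12463 : act 1 n7529 = n5727 := d6_1 D7529 (iv D5727) D5726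
def n7530 : Q := act 4 n5727
theorem D7530 : act 4 n5727 = n7530 := rfl
theorem F12464 : act 3 n7530 = n6585 := d12_1 D7530 (iv D6585) (iv D4987) (iv F7044) D5727
def n7531 : Q := act 4 n5728
theorem D7531 : act 4 n5728 = n7531 := rfl
theorem F12465 : act 2 n7531 = n5729 := d10_1 D7531 (iv D5729) (iv F9425)
theorem F12466 : act 5 n7531 = n6587 := d14_2 D5728 D7531 (iv D6587) (iv D4988) (iv F7044)
def n7532 : Q := act 0 n5731
theorem D7532 : act 0 n5731 = n7532 := rfl
theorem F12467 : act 1 n7532 = n5736 := d0_2 D5731 D7532 (iv D5736) (iv D4312) (iv F7050)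
def n7533 : Q := act 0 n5732
theorem D7533 : act 0 n5732 = n7533 := rfl
theorem F12468 : act 2 n7533 = n5739 := d1_2 (iv F9430) D7533 (iv D5739)
theorem F12469 : act 4 n7533 = n5736 := d3_2 (iv F9431) D7533 (iv D5736)
def n7534 : Q := act 3 n5732
theorem D7534 : act 3 n5732 = n7534 := rfl
theorem F12470 : act 1 n7534 = n5733 := d6_1 D7534 (iv D5733) D5732
def n7535 : Q := act 5 n5732
theorem D7535 : act 5 n5732 = n7535 := rfl
theorem F12471 : act 1 n7535 = n5734 := d8_1 D7535 (iv D5734) D5732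
theorem F12472 : act 2 n7535 = n5741 := d11_1 D7535 (iv D5741) (iv F9430)
def n7536 : Q := act 4 n5733
theorem D7536 : act 4 n5733 = n7536 := rfl
theorem F12473 : act 3 n7536 = n5738 := d12_1 D7536 (iv D5738) (iv D4313) (iv F7051) D5733
def n7537 : Q := act 4 n5734
theorem D7537 : act 4 n5734 = n7537 := rfl
theorem F12474 : act 2 n7537 = n5735 := d10_1 D7537 (iv D5735) (iv F9432)
theorem F12475 : act 5 n7537 = n5738 := d14_2 D5734 D7537 (iv D5738) F7056 (iv F7051)
def n7538 : Q := act 3 n5736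
theorem D7538 : act 3 n5736 = n7538 := rfl
theorem F12476 : act 0 n7538 = n5737 := d2_1 D7538 (iv D5737) D5736
theorem F12477 : act 2 n5745 = n7538 := d1_0 F12476 (iv F9438) (iv F9454)
theorem F12478 : act 5 n5736 = n7538 := d4_0 F12476 (iv F9439) D5736
def n7539 : Q := act 4 n5737
theorem D7539 : act 4 n5737 = n7539 := rfl
theorem F12479 : act 1 n7539 = n5738 := d7_1 D7539 (iv D5738) (iv F9437)
theorem F12480 : act 2 n7539 = n5748 := d10_1 D7539 (iv D5748) F9438
def n7540 : Q := act 3 n5739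
theorem D7540 : act 3 n5739 = n7540 := rfl
theorem F12481 : act 0 n7540 = n5740 := d2_1 D7540 (iv D5740) D5739
theorem F12482 : act 1 n7540 = n6588 := d6_1 D7540 (iv D6588) (iv F9441)
theorem F12483 : act 5 n5797 = n7540 := d4_0 F12481 (iv F9444) D5797
def n7541 : Q := act 5 n5739
theorem D7541 : act 5 n5739 = n7541 := rfl
theorem F12484 : act 0 n7541 = n5741 := d4_1 D7541 (iv D5741) D5739
theorem F12485 : act 1 n7541 = n6589 := d8_1 D7541 (iv D6589) (iv F9441)
theorem F12486 : act 3 n7541 = n5797 := d13_1 D7541 F12483 (iv D7540)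
def n7542 : Q := act 2 n5740
theorem D7542 : act 2 n5740 = n7542 := rfl
theorem F12487 : act 1 n7542 = n5791 := d5_1 D7542 F9533 F7120 (iv F7061) (iv F9443)
theorem F12488 : act 5 n7542 = n5789 := d11_2 F9444 D7542 F9532
def n7543 : Q := act 4 n5740
theorem D7543 : act 4 n5740 = n7543 := rfl
theorem F12489 : act 1 n7543 = n5742 := d7_1 D7543 (iv D5742) (iv F9443)
theorem F12490 : act 3 n7543 = n5747 := d12_1 D7543 (iv D5747) (iv D4320) (iv F7059) D5740
def n7544 : Q := act 4 n5741
theorem D7544 : act 4 n5741 = n7544 := rfl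
theorem F12491 : act 1 n7544 = n5743 := d7_1 D7544 (iv D5743) (iv F9445)
theorem F12492 : act 5 n7544 = n5748 := d14_2 D5741 D7544 (iv D5748) (iv D4321) (iv F7059)
def n7545 : Q := act 2 n5744
theorem D7545 : act 2 n5744 = n7545 := rfl
theorem F12493 : act 0 n7545 = n5746 := d1_1 D7545 (iv D5746) (iv F9453)
theorem F12494 : act 3 n7545 = n5746 := d15_1 D7545 (iv D5746) (iv D4320) (iv F7054) D5737 (iv F9438) (iv F9376) F9378 (iv F9453)
def n7546 : Q := act 4 n5744
theorem D7546 : act 4 n5744 = n7546 := rfl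
theorem F12495 : act 0 n7546 = n5747 := d3_1 D7546 (iv D5747) (iv F9453)
def n7547 : Q := act 4 n5745
theorem D7547 : act 4 n5745 = n7547 := rfl
theorem F12496 : act 0 n7547 = n5748 := d3_1 D7547 (iv D5748) (iv F9454)
def n7548 : Q := act 4 n5746
theorem D7548 : act 4 n5746 = n7548 := rfl
theorem F12497 : act 2 n7548 = n5747 := d10_1 D7548 (iv D5747) D5746
def n7549 : Q := act 5 n5747
theorem D7549 : act 5 n5747 = n7549 := rfl
theorem F12498 : act 1 n7549 = n5749 := d8_1 D7549 (iv D5749) (iv F9455)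
theorem F12499 : act 4 n7549 = n7222 := d14_1 D7549 (iv D7222) (iv F9377) F9378 D5747
def n7550 : Q := act 3 n5748
theorem D7550 : act 3 n5748 = n7550 := rfl
theorem F12500 : act 1 n7550 = n5750 := d6_1 D7550 (iv D5750) (iv F9456)
theorem F12501 : act 4 n7550 = n7221 := d12_2 D5748 D7550 (iv D7221) (iv F9377) F9376
def n7551 : Q := act 2 n5751
theorem D7551 : act 2 n5751 = n7551 := rfl
def n7552 : Q := act 5 n5751
theorem D7552 : act 5 n5751 = n7552 := rfl
theorem F12502 : act 1 n7552 = n5756 := d8_1 D7552 (iv D5756) (iv F9460)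
theorem F12503 : act 3 n7552 = n5752 := d13_1 D7552 (iv D5752) D5751
def n7553 : Q := act 2 n5753
theorem D7553 : act 2 n5753 = n7553 := rfl
theorem F12504 : act 0 n7553 = n5760 := d1_1 D7553 (iv D5760) (iv F9463)
theorem F12505 : act 4 n7553 = n5755 := d10_2 (iv F9464) D7553 (iv D5755)
def n7554 : Q := act 5 n5753
theorem D7554 : act 5 n5753 = n7554 := rfl
theorem F12506 : act 0 n7554 = n5761 := d4_1 D7554 (iv D5761) (iv F9463)
theorem F12507 : act 3 n7554 = n5754 := d13_1 D7554 (iv D5754) D5753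
def n7555 : Q := act 1 n5755
theorem D7555 : act 1 n5755 = n7555 := rfl
theorem F12508 : act 3 n7555 = n6504 := d6_2 (iv F9469) D7555 F10765
theorem F12509 : act 5 n7555 = n6503 := d8_2 F9470 D7555 F10764
def n7556 : Q := act 4 n5756
theorem D7556 : act 4 n5756 = n7556 := rfl
theorem F12510 : act 0 n7556 = n5765 := d3_1 D7556 (iv D5765) (iv F9471)
theorem F12511 : act 2 n7556 = n6505 := d10_1 D7556 (iv D6505) (iv F9472)
def n7557 : Q := act 2 n5758
theorem D7557 : act 2 n5758 = n7557 := rfl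
theorem F12512 : act 0 n7557 = n7277 := d1_1 D7557 (iv D7277) (iv F9478)
theorem F12513 : act 4 n7557 = n7275 := d10_2 (iv F9479) D7557 (iv D7275)
def n7558 : Q := act 5 n5758
theorem D7558 : act 5 n5758 = n7558 := rfl
theorem F12514 : act 0 n7558 = n7278 := d4_1 D7558 (iv D7278) (iv F9478)
theorem F12515 : act 3 n7558 = n5759 := d13_1 D7558 (iv D5759) D5758
def n7559 : Q := act 1 n5760
theorem D7559 : act 1 n5760 = n7559 := rfl
theorem F12516 : act 4 n7559 = n5762 := d7_2 (iv F9483) D7559 (iv D5762)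
def n7560 : Q := act 3 n5760
theorem D7560 : act 3 n5760 = n7560 := rfl
def n7561 : Q := act 5 n5760
theorem D7561 : act 5 n5760 = n7561 := rfl
theorem F12517 : act 2 n7561 = n5761 := d11_1 D7561 (iv D5761) D5760
def n7562 : Q := act 4 n5761
theorem D7562 : act 4 n5761 = n7562 := rfl
theorem F12518 : act 5 n7562 = n5765 := d14_2 D5761 D7562 (iv D5765) (iv D4333) (iv F7083)
def n7563 : Q := act 0 n5762
theorem D7563 : act 0 n5762 = n7563 := rfl
def n7564 : Q := act 3 n5762
theorem D7564 : act 3 n5762 = n7564 := rfl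
theorem F12519 : act 1 n7564 = n5763 := d6_1 D7564 (iv D5763) D5762
theorem F12520 : act 2 n7110 = n7564 := d5_0 F12519 F9486 F8052 (iv F8910) (iv F11782)
theorem F12521 : act 5 n6496 = n7564 := d8_0 F12519 F9487 D6496
def n7565 : Q := act 5 n5762
theorem D7565 : act 5 n5762 = n7565 := rfl
theorem F12522 : act 1 n7565 = n5764 := d8_1 D7565 (iv D5764) D5762
theorem F12523 : act 3 n7565 = n6496 := d13_1 D7565 F12521 (iv D7564)
def n7566 : Q := act 4 n5763
theorem D7566 : act 4 n5763 = n7566 := rfl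
theorem F12524 : act 0 n7566 = n6506 := d3_1 D7566 (iv D6506) (iv F9485)
theorem F12525 : act 2 n7566 = n6497 := d10_1 D7566 (iv D6497) (iv F9486)
theorem F12526 : act 5 n7566 = n7105 := d14_2 (iv F9487) D7566 (iv D7105) (iv D5402) (iv F8050)
def n7567 : Q := act 4 n5764
theorem D7567 : act 4 n5764 = n7567 := rfl
theorem F12527 : act 0 n7567 = n6505 := d3_1 D7567 (iv D6505) (iv F9488)
theorem F12528 : act 2 n7567 = n5765 := d10_1 D7567 (iv D5765) (iv F9489)
theorem F12529 : act 3 n7567 = n7103 := d12_1 D7567 (iv D7103) (iv D5401) (iv F8050) (iv F9490)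
def n7568 : Q := act 5 n5766
theorem D7568 : act 5 n5766 = n7568 := rfl
theorem F12530 : act 0 n7568 = n6991 := d4_1 D7568 (iv D6991) (iv F9491)
theorem F12531 : act 1 n7568 = n6466 := d8_1 D7568 (iv D6466) (iv F9492)
theorem F12532 : act 2 n7568 = n6987 := d11_1 D7568 (iv D6987) (iv F9493)
theorem F12533 : act 4 n7568 = n6349 := d14_1 D7568 (iv D6349) (iv D4798) (iv F7087) D5766
def n7569 : Q := act 2 n5767
theorem D7569 : act 2 n5767 = n7569 := rfl
theorem F12534 : act 0 n7569 = n5769 := d1_1 D7569 (iv D5769) (iv F9494)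
def n7570 : Q := act 5 n5767
theorem D7570 : act 5 n5767 = n7570 := rfl
theorem F12535 : act 0 n7570 = n5770 := d4_1 D7570 (iv D5770) (iv F9494)
theorem F12536 : act 1 n7570 = n5784 := d8_1 D7570 (iv D5784) (iv F9495)
theorem F12537 : act 3 n7570 = n5768 := d13_1 D7570 (iv D5768) D5767
def n7571 : Q := act 1 n5769
theorem D7571 : act 1 n5769 = n7571 := rfl
theorem F12538 : act 2 n7571 = n5773 := d5_2 D5769 D7571 (iv D5773) (iv D4339) (iv F7091)
theorem F12539 : act 5 n6590 = n7571 := d11_0 F12538 F9505 D6590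
def n7572 : Q := act 3 n5769
theorem D7572 : act 3 n5769 = n7572 := rfl
def n7573 : Q := act 5 n5769
theorem D7573 : act 5 n5769 = n7573 := rfl
theorem F12540 : act 1 n7573 = n6590 := d8_1 D7573 F12539 (iv D7571)
theorem F12541 : act 2 n7573 = n5770 := d11_1 D7573 (iv D5770) D5769
def n7574 : Q := act 4 n5770
theorem D7574 : act 4 n5770 = n7574 := rfl
theorem F12542 : act 1 n7574 = n5774 := d7_1 D7574 (iv D5774) (iv F9498)
def n7575 : Q := act 3 n5771
theorem D7575 : act 3 n5771 = n7575 := rfl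
theorem F12543 : act 1 n7575 = n5775 := d6_1 D7575 (iv D5775) (iv F9500)
theorem F12544 : act 5 n7575 = n5772 := d13_2 (iv F9501) D7575 (iv D5772)
def n7576 : Q := act 2 n5772
theorem D7576 : act 2 n5772 = n7576 := rfl
theorem F12545 : act 4 n7576 = n5827 := d10_2 (iv F9503) D7576 (iv D5827)
def n7577 : Q := act 0 n5773
theorem D7577 : act 0 n5773 = n7577 := rfl
theorem F12546 : act 1 n7577 = n5797 := d0_2 D5773 D7577 (iv D5797) (iv D4358) (iv F7094)
theorem F12547 : act 3 n7577 = n6589 := d2_2 (iv F9504) D7577 F10886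
theorem F12548 : act 5 n7577 = n6588 := d4_2 (iv F9505) D7577 F10885
def n7578 : Q := act 3 n5774
theorem D7578 : act 3 n5774 = n7578 := rfl
theorem F12549 : act 0 n7578 = n5798 := d2_1 D7578 (iv D5798) (iv F9506)
theorem F12550 : act 4 n7578 = n5775 := d12_2 D5774 D7578 (iv D5775) (iv D4341) (iv F7099)
theorem F12551 : act 5 n7578 = n5832 := d13_2 F10733 D7578 (iv F10732)
def n7579 : Q := act 2 n5775
theorem D7579 : act 2 n5775 = n7579 := rfl
theorem F12552 : act 0 n7579 = n5799 := d1_1 D7579 (iv D5799) (iv F9508)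
theorem F12553 : act 5 n7579 = n5776 := d11_2 (iv F9509) D7579 (iv D5776)
theorem F12554 : act 3 n7579 = n5806 := d15_1 D7579 (iv D5806) (iv D4364) (iv D3243) (iv D2380) (iv F3863) D3241 (iv F7129) (iv F9508)
def n7580 : Q := act 1 n5776
theorem D7580 : act 1 n5776 = n7580 := rfl
theorem F12555 : act 4 n7580 = n5829 := d7_2 (iv F9511) D7580 (iv D5829)
def n7581 : Q := act 3 n5776
theorem D7581 : act 3 n5776 = n7581 := rfl
theorem F12556 : act 0 n7581 = n5801 := d2_1 D7581 (iv D5801) (iv F9510)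
theorem F12557 : act 5 n7581 = n5806 := d13_2 F12553 D7581 (iv F12554)
theorem F12558 : act 2 n7581 = n5803 := d15_2 D5776 D7581 (iv D5803) (iv D4362) (iv D3242) (iv F5277) D4360 F7129 (iv F7103)
def n7582 : Q := act 1 n5777
theorem D7582 : act 1 n5777 = n7582 := rfl
theorem F12559 : act 4 n7582 = n5857 := d7_2 (iv F9513) D7582 F9619
theorem F12560 : act 5 n7582 = n5778 := d8_2 (iv F9514) D7582 (iv D5778)
def n7583 : Q := act 3 n5777
theorem D7583 : act 3 n5777 = n7583 := rfl
theorem F12561 : act 0 n7583 = n5803 := d2_1 D7583 (iv D5803) (iv F9512)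
theorem F12562 : act 2 n7583 = n5801 := d9_1 D7583 (iv D5801) (iv D4361) (iv D3241) F3863 D2380 D3243 D4364 D5806 (iv F12554) (iv D7579) (iv D5775) F7101 D4343 D5777
theorem F12563 : act 5 n7583 = n5779 := d13_2 (iv F9514) D7583 (iv D5779)
def n7584 : Q := act 0 n5778
theorem D7584 : act 0 n5778 = n7584 := rfl
theorem F12564 : act 1 n7584 = n5804 := d0_2 D5778 D7584 (iv D5804) (iv D4363) (iv F7108)
theorem F12565 : act 2 n7584 = n6459 := d1_2 F12268 D7584 (iv F12267)
theorem F12566 : act 4 n7584 = n5780 := d3_2 (iv F9515) D7584 (iv D5780)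
def n7585 : Q := act 3 n5778
theorem D7585 : act 3 n5778 = n7585 := rfl
theorem F12567 : act 1 n7585 = n5779 := d6_1 D7585 (iv D5779) D5778
theorem F12568 : act 4 n7585 = n5848 := d12_2 (iv F9515) D7585 (iv D5848) F7179 (iv F7110)
def n7586 : Q := act 2 n5779
theorem D7586 : act 2 n5779 = n7586 := rfl
theorem F12569 : act 0 n7586 = n5806 := d1_1 D7586 (iv D5806) (iv F9516)
theorem F12570 : act 3 n7586 = n5799 := d9_2 D5779 D7586 (iv D5799) (iv D4360) F5277 D3242 D4362 D5803 (iv F12558) (iv D7581) (iv D5776) (iv D4342) F5258 D3227 D4344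
theorem F12571 : act 4 n7586 = n5850 := d10_2 (iv F9517) D7586 (iv D5850)
theorem F12572 : act 5 n7586 = n5801 := d11_2 F12563 D7586 (iv F12562)
def n7587 : Q := act 2 n5781
theorem D7587 : act 2 n5781 = n7587 := rfl
theorem F12573 : act 0 n7587 = n5787 := d1_1 D7587 (iv D5787) (iv F9522)
theorem F12574 : act 4 n7587 = n5783 := d10_2 (iv F9523) D7587 (iv D5783)
def n7588 : Q := act 5 n5781
theorem D7588 : act 5 n5781 = n7588 := rfl
theorem F12575 : act 0 n7588 = n5788 := d4_1 D7588 (iv D5788) (iv F9522)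
theorem F12576 : act 3 n7588 = n5782 := d13_1 D7588 (iv D5782) D5781
def n7589 : Q := act 1 n5783
theorem D7589 : act 1 n5783 = n7589 := rfl
def n7590 : Q := act 3 n5783
theorem D7590 : act 3 n5783 = n7590 := rfl
theorem F12577 : act 0 n7590 = n5790 := d2_1 D7590 (iv D5790) (iv F9525)
theorem F12578 : act 2 n7590 = n5820 := d15_2 D5783 D7590 F9567 F7144 F5291 (iv F5272) (iv F7121) (iv D4353) (iv F7113)
theorem F12579 : act 5 n5818 = n7590 := d11_0 F12578 (iv D5820) D5818
def n7591 : Q := act 5 n5783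
theorem D7591 : act 5 n5783 = n7591 := rfl
theorem F12580 : act 0 n7591 = n5791 := d4_1 D7591 (iv D5791) (iv F9525)
theorem F12581 : act 2 n7591 = n5784 := d11_1 D7591 (iv D5784) D5783
theorem F12582 : act 3 n7591 = n5818 := d13_1 D7591 F12579 (iv D7590)
def n7592 : Q := act 4 n5784
theorem D7592 : act 4 n5784 = n7592 := rfl
theorem F12583 : act 0 n7592 = n5792 := d3_1 D7592 (iv D5792) (iv F9526)
def n7593 : Q := act 2 n5785
theorem D7593 : act 2 n5785 = n7593 := rfl
def n7594 : Q := act 5 n5785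
theorem D7594 : act 5 n5785 = n7594 := rfl
theorem F12584 : act 3 n7594 = n5786 := d13_1 D7594 (iv D5786) D5785
def n7595 : Q := act 1 n5787
theorem D7595 : act 1 n5787 = n7595 := rfl
theorem F12585 : act 2 n7595 = n5793 := d5_2 D5787 D7595 (iv D5793) (iv D4354) (iv F7117)
theorem F12586 : act 4 n7595 = n5789 := d7_2 (iv F9529) D7595 (iv D5789)
def n7596 : Q := act 3 n5787
theorem D7596 : act 3 n5787 = n7596 := rfl
def n7597 : Q := act 5 n5787
theorem D7597 : act 5 n5787 = n7597 := rfl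
theorem F12587 : act 2 n7597 = n5788 := d11_1 D7597 (iv D5788) D5787
def n7598 : Q := act 4 n5788
theorem D7598 : act 4 n5788 = n7598 := rfl
theorem F12588 : act 1 n7598 = n5794 := d7_1 D7598 (iv D5794) (iv F9530)
theorem F12589 : act 5 n7598 = n5792 := d14_2 D5788 D7598 (iv D5792) (iv D4353) (iv F7118)
def n7599 : Q := act 0 n5789
theorem D7599 : act 0 n5789 = n7599 := rfl
theorem F12590 : act 2 n7599 = n5797 := d1_2 (iv F9532) D7599 (iv D5797)
def n7600 : Q := act 3 n5789
theorem D7600 : act 3 n5789 = n7600 := rfl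
theorem F12591 : act 1 n7600 = n5790 := d6_1 D7600 (iv D5790) D5789
def n7601 : Q := act 2 n5790
theorem D7601 : act 2 n5790 = n7601 := rfl
theorem F12592 : act 0 n7601 = n5820 := d1_1 D7601 (iv F12578) F12577
theorem F12593 : act 3 n7601 = n5814 := d9_2 D5790 D7601 F9563 F7142 (iv F7115) (iv F9527) (iv F12581) F12582 (iv D5818) (iv D4371) (iv D3248) (iv D2383) (iv F3858) D3233 D4352
theorem F12594 : act 5 n5813 = n7601 := d13_0 F12593 (iv D5814) D5813
def n7602 : Q := act 4 n5790
theorem D7602 : act 4 n5790 = n7602 := rfl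
def n7603 : Q := act 5 n5790
theorem D7603 : act 5 n5790 = n7603 := rfl
theorem F12595 : act 0 n7603 = n5818 := d4_1 D7603 F12579 F12577
theorem F12596 : act 2 n7603 = n5813 := d11_1 D7603 F12594 (iv D7601)
theorem F12597 : act 3 n7603 = n5791 := d13_1 D7603 (iv D5791) D5790
def n7604 : Q := act 4 n5791
theorem D7604 : act 4 n5791 = n7604 := rfl
theorem F12598 : act 2 n7604 = n5792 := d10_1 D7604 (iv D5792) (iv F9533)
def n7605 : Q := act 0 n5793
theorem D7605 : act 0 n5793 = n7605 := rfl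
theorem F12599 : act 4 n7605 = n5797 := d3_2 (iv F9535) D7605 (iv D5797)
def n7606 : Q := act 3 n5794
theorem D7606 : act 3 n5794 = n7606 := rfl
theorem F12600 : act 0 n7606 = n5832 := d2_1 D7606 (iv F10732) F10731
theorem F12601 : act 4 n7606 = n5795 := d12_2 D5794 D7606 (iv D5795) (iv D4356) (iv F7123)
theorem F12602 : act 5 n7606 = n5798 := d13_2 (iv F9536) D7606 (iv D5798)
def n7607 : Q := act 1 n5796
theorem D7607 : act 1 n5796 = n7607 := rfl
theorem F12603 : act 4 n7607 = n5800 := d7_2 (iv F9540) D7607 (iv D5800)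
def n7608 : Q := act 2 n5798
theorem D7608 : act 2 n5798 = n7608 := rfl
theorem F12604 : act 4 n7608 = n5799 := d10_2 (iv F9541) D7608 (iv D5799)
def n7609 : Q := act 1 n5799
theorem D7609 : act 1 n5799 = n7609 := rfl
theorem F12605 : act 5 n7609 = n5800 := d8_2 (iv F9542) D7609 (iv D5800)
def n7610 : Q := act 0 n5800
theorem D7610 : act 0 n5800 = n7610 := rfl
def n7611 : Q := act 3 n5800
theorem D7611 : act 3 n5800 = n7611 := rfl
theorem F12606 : act 1 n7611 = n5801 := d6_1 D7611 (iv D5801) D5800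
def n7612 : Q := act 4 n5801
theorem D7612 : act 4 n5801 = n7612 := rfl
def n7613 : Q := act 0 n5802
theorem D7613 : act 0 n5802 = n7613 := rfl
theorem F12607 : act 2 n7613 = n5822 := d1_2 (iv F9543) D7613 (iv D5822)
theorem F12608 : act 4 n7613 = n5866 := d3_2 (iv F9544) D7613 F9630
theorem F12609 : act 5 n7613 = n5804 := d4_2 (iv F9545) D7613 (iv D5804)
def n7614 : Q := act 3 n5802
theorem D7614 : act 3 n5802 = n7614 := rfl
theorem F12610 : act 1 n7614 = n5803 := d6_1 D7614 (iv D5803) D5802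
theorem F12611 : act 5 n7614 = n5805 := d13_2 (iv F9545) D7614 (iv D5805)
def n7615 : Q := act 4 n5803
theorem D7615 : act 4 n5803 = n7615 := rfl
theorem F12612 : act 3 n7615 = n5873 := d12_1 D7615 (iv D5873) F7199 (iv F7130) D5803
def n7616 : Q := act 3 n5804
theorem D7616 : act 3 n5804 = n7616 := rfl
theorem F12613 : act 0 n7616 = n5805 := d2_1 D7616 (iv D5805) D5804
def n7617 : Q := act 2 n5805
theorem D7617 : act 2 n5805 = n7617 := rfl
def n7618 : Q := act 4 n5805
theorem D7618 : act 4 n5805 = n7618 := rfl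
theorem F12614 : act 1 n7618 = n5807 := d7_1 D7618 (iv D5807) (iv F9549)
theorem F12615 : act 3 n7618 = n5810 := d12_1 D7618 (iv D5810) (iv D4366) (iv F7133) D5805
def n7619 : Q := act 1 n5806
theorem D7619 : act 1 n5806 = n7619 := rfl
def n7620 : Q := act 4 n5806
theorem D7620 : act 4 n5806 = n7620 := rfl
theorem F12616 : act 0 n7620 = n5850 := d3_1 D7620 (iv F12571) F12569
theorem F12617 : act 2 n7620 = n5807 := d10_1 D7620 (iv D5807) D5806
theorem F12618 : act 3 n5845 = n7620 := d9_0 F12617 F9551 F7139 (iv D3265) (iv F5182) D4279 D5689 D7483 F12378 F9605 F7180 F5321 (iv F5317) (iv F7177) (iv F9598)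
theorem F12619 : act 5 n7620 = n5844 := d13_2 D5845 F12618 (iv D5844)
def n7621 : Q := act 5 n5807
theorem D7621 : act 5 n5807 = n7621 := rfl
theorem F12620 : act 0 n7621 = n5851 := d4_1 D7621 (iv D5851) (iv F9550)
theorem F12621 : act 2 n7621 = n5844 := d11_1 D7621 (iv F12619) F12617
theorem F12622 : act 3 n7621 = n5811 := d13_1 D7621 (iv D5811) (iv F9551)
def n7622 : Q := act 2 n5808
theorem D7622 : act 2 n5808 = n7622 := rfl
theorem F12623 : act 0 n7622 = n5809 := d1_1 D7622 (iv D5809) (iv F9552)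
theorem F12624 : act 1 n7622 = n6175 := d5_1 D7622 (iv D6175) F7593 (iv F7181) (iv F9553)
theorem F12625 : act 3 n7622 = n6226 := d9_2 D5808 D7622 F10275 F7652 F5754 F4237 (iv F3909) D3284 D4416 D5876 F9642 (iv D4782) F5757 (iv F5297) (iv F7134)
theorem F12626 : act 5 n7622 = n5874 := d11_2 (iv F9554) D7622 (iv D5874)
def n7623 : Q := act 4 n5808
theorem D7623 : act 4 n5808 = n7623 := rfl
theorem F12627 : act 0 n7623 = n5810 := d3_1 D7623 (iv D5810) (iv F9552)
theorem F12628 : act 1 n7623 = n5847 := d7_1 D7623 F9601 (iv F9553)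
def n7624 : Q := act 3 n5809
theorem D7624 : act 3 n5809 = n7624 := rfl
theorem F12629 : act 0 n7624 = n6226 := d2_1 D7624 (iv F12625) F12623
theorem F12630 : act 1 n7624 = n5838 := d6_1 D7624 (iv D5838) (iv F9555)
theorem F12631 : act 2 n7624 = n6229 := d9_1 D7624 F10281 F7783 F5781 (iv F5332) D4415 D5874 F9639 (iv D4783) (iv D3557) F4220 (iv F3877) (iv F5283) D4366 D5809
theorem F12632 : act 5 n7624 = n5876 := d13_2 (iv F9556) D7624 (iv D5876)
def n7625 : Q := act 4 n5809
theorem D7625 : act 4 n5809 = n7625 := rfl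
theorem F12633 : act 1 n7625 = n5836 := d7_1 D7625 F9586 (iv F9555)
theorem F12634 : act 2 n7625 = n5810 := d10_1 D7625 (iv D5810) D5809
def n7626 : Q := act 5 n5810
theorem D7626 : act 5 n5810 = n7626 := rfl
theorem F12635 : act 1 n7626 = n5811 := d8_1 D7626 (iv D5811) (iv F9557)
theorem F12636 : act 4 n7626 = n5878 := d14_1 D7626 (iv D5878) (iv D4417) (iv F7137) D5810
def n7627 : Q := act 0 n5812
theorem D7627 : act 0 n5812 = n7627 := rfl
theorem F12637 : act 1 n7627 = n5816 := d0_2 D5812 D7627 (iv D5816) (iv D4370) (iv F7140)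
def n7628 : Q := act 3 n5812
theorem D7628 : act 3 n5812 = n7628 := rfl
theorem F12638 : act 1 n7628 = n5813 := d6_1 D7628 (iv D5813) D5812
def n7629 : Q := act 5 n5812
theorem D7629 : act 5 n5812 = n7629 := rfl
theorem F12639 : act 1 n7629 = n5814 := d8_1 D7629 (iv D5814) D5812
def n7630 : Q := act 4 n5813
theorem D7630 : act 4 n5813 = n7630 := rfl
theorem F12640 : act 0 n7630 = n5819 := d3_1 D7630 (iv D5819) (iv F9561)
def n7631 : Q := act 4 n5814
theorem D7631 : act 4 n5814 = n7631 := rfl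
theorem F12641 : act 0 n7631 = n5821 := d3_1 D7631 (iv D5821) (iv F9562)
theorem F12642 : act 2 n7631 = n5815 := d10_1 D7631 (iv D5815) (iv F9563)
def n7632 : Q := act 3 n5816
theorem D7632 : act 3 n5816 = n7632 := rfl
theorem F12643 : act 0 n7632 = n5817 := d2_1 D7632 (iv D5817) D5816
def n7633 : Q := act 2 n5817
theorem D7633 : act 2 n5817 = n7633 := rfl
def n7634 : Q := act 4 n5817
theorem D7634 : act 4 n5817 = n7634 := rfl
theorem F12644 : act 1 n7634 = n5819 := d7_1 D7634 (iv D5819) (iv F9566)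
def n7635 : Q := act 1 n5818
theorem D7635 : act 1 n5818 = n7635 := rfl
def n7636 : Q := act 4 n5818
theorem D7636 : act 4 n5818 = n7636 := rfl
theorem F12645 : act 2 n7636 = n5819 := d10_1 D7636 (iv D5819) D5818
def n7637 : Q := act 5 n5819
theorem D7637 : act 5 n5819 = n7637 := rfl
def n7638 : Q := act 4 n5820
theorem D7638 : act 4 n5820 = n7638 := rfl
def n7639 : Q := act 3 n5821
theorem D7639 : act 3 n5821 = n7639 := rfl
def n7640 : Q := act 2 n5823
theorem D7640 : act 2 n5823 = n7640 := rfl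
def n7641 : Q := act 5 n5823
theorem D7641 : act 5 n5823 = n7641 := rfl
theorem F12646 : act 3 n7641 = n5824 := d13_1 D7641 (iv D5824) D5823
def n7642 : Q := act 2 n5825
theorem D7642 : act 2 n5825 = n7642 := rfl
theorem F12647 : act 0 n7642 = n5827 := d1_1 D7642 (iv D5827) (iv F9573)
def n7643 : Q := act 5 n5825
theorem D7643 : act 5 n5825 = n7643 := rfl
theorem F12648 : act 0 n7643 = n5828 := d4_1 D7643 (iv D5828) (iv F9573)
theorem F12649 : act 3 n7643 = n5826 := d13_1 D7643 (iv D5826) D5825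
def n7644 : Q := act 1 n5827
theorem D7644 : act 1 n5827 = n7644 := rfl
theorem F12650 : act 2 n7644 = n5829 := d5_2 D5827 D7644 (iv D5829) (iv D4382) (iv F7153)
def n7645 : Q := act 3 n5827
theorem D7645 : act 3 n5827 = n7645 := rfl
def n7646 : Q := act 5 n5827
theorem D7646 : act 5 n5827 = n7646 := rfl
theorem F12651 : act 2 n7646 = n5828 := d11_1 D7646 (iv D5828) D5827
def n7647 : Q := act 4 n5828
theorem D7647 : act 4 n5828 = n7647 := rfl
theorem F12652 : act 1 n7647 = n5832 := d7_1 D7647 (iv D5832) (iv F9575)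
def n7648 : Q := act 0 n5829
theorem D7648 : act 0 n5829 = n7648 := rfl
def n7649 : Q := act 3 n5829
theorem D7649 : act 3 n5829 = n7649 := rfl
theorem F12653 : act 1 n7649 = n5830 := d6_1 D7649 (iv D5830) D5829
def n7650 : Q := act 5 n5829
theorem D7650 : act 5 n5829 = n7650 := rfl
theorem F12654 : act 1 n7650 = n5831 := d8_1 D7650 (iv D5831) D5829
def n7651 : Q := act 4 n5830
theorem D7651 : act 4 n5830 = n7651 := rfl
def n7652 : Q := act 4 n5831
theorem D7652 : act 4 n5831 = n7652 := rfl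
theorem F12655 : act 2 n7652 = n5832 := d10_1 D7652 (iv D5832) (iv F9577)
def n7653 : Q := act 3 n5833
theorem D7653 : act 3 n5833 = n7653 := rfl
theorem F12656 : act 0 n7653 = n7077 := d2_1 D7653 (iv D7077) (iv F9578)
theorem F12657 : act 1 n7653 = n6520 := d6_1 D7653 (iv D6520) (iv F9579)
theorem F12658 : act 4 n7653 = n5834 := d12_2 D5833 D7653 (iv D5834) (iv D4385) D4384
def n7654 : Q := act 5 n5833
theorem D7654 : act 5 n5833 = n7654 := rfl
theorem F12659 : act 0 n7654 = n7078 := d4_1 D7654 (iv D7078) (iv F9578)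
theorem F12660 : act 1 n7654 = n6519 := d8_1 D7654 F10793 (iv F9579)
theorem F12661 : act 2 n7654 = n6475 := d11_1 D7654 (iv D6475) (iv F9580)
theorem F12662 : act 4 n7654 = n6516 := d14_1 D7654 (iv D6516) (iv D4935) (iv F7159) D5833
def n7655 : Q := act 2 n5834
theorem D7655 : act 2 n5834 = n7655 := rfl
theorem F12663 : act 0 n7655 = n7079 := d1_1 D7655 (iv D7079) (iv F9581)
def n7656 : Q := act 5 n5834
theorem D7656 : act 5 n5834 = n7656 := rfl
theorem F12664 : act 0 n7656 = n7080 := d4_1 D7656 (iv D7080) (iv F9581)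
theorem F12665 : act 3 n7656 = n5835 := d13_1 D7656 (iv D5835) D5834
def n7657 : Q := act 3 n5836
theorem D7657 : act 3 n5836 = n7657 := rfl
theorem F12666 : act 0 n7657 = n7095 := d2_1 D7657 (iv D7095) (iv F9585)
def n7658 : Q := act 5 n5836
theorem D7658 : act 5 n5836 = n7658 := rfl
theorem F12667 : act 0 n7658 = n7096 := d4_1 D7658 (iv D7096) (iv F9585)
theorem F12668 : act 2 n7658 = n5837 := d11_1 D7658 (iv D5837) D5836
def n7659 : Q := act 4 n5838
theorem D7659 : act 4 n5838 = n7659 := rfl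
theorem F12669 : act 0 n7659 = n7213 := d3_1 D7659 (iv D7213) (iv F9590)
theorem F12670 : act 2 n7659 = n6643 := d10_1 D7659 (iv D6643) (iv F9591)
def n7660 : Q := act 2 n5839
theorem D7660 : act 2 n5839 = n7660 := rfl
theorem F12671 : act 0 n7660 = n5841 := d1_1 D7660 (iv D5841) (iv F9592)
def n7661 : Q := act 5 n5839
theorem D7661 : act 5 n5839 = n7661 := rfl
theorem F12672 : act 0 n7661 = n5842 := d4_1 D7661 (iv D5842) (iv F9592)
theorem F12673 : act 3 n7661 = n5840 := d13_1 D7661 (iv D5840) D5839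
def n7662 : Q := act 1 n5841
theorem D7662 : act 1 n5841 = n7662 := rfl
theorem F12674 : act 2 n7662 = n5843 := d5_2 D5841 D7662 (iv D5843) (iv D4393) (iv F7173)
def n7663 : Q := act 3 n5841
theorem D7663 : act 3 n5841 = n7663 := rfl
def n7664 : Q := act 5 n5841
theorem D7664 : act 5 n5841 = n7664 := rfl
theorem F12675 : act 2 n7664 = n5842 := d11_1 D7664 (iv D5842) D5841
def n7665 : Q := act 4 n5842
theorem D7665 : act 4 n5842 = n7665 := rfl
theorem F12676 : act 1 n7665 = n5846 := d7_1 D7665 (iv D5846) (iv F9596)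
theorem F12677 : act 3 n7665 = n7219 := d12_1 D7665 (iv D7219) F9070 (iv F7176) (iv F9597)
def n7666 : Q := act 0 n5843
theorem D7666 : act 0 n5843 = n7666 := rfl
def n7667 : Q := act 3 n5843
theorem D7667 : act 3 n5843 = n7667 := rfl
theorem F12678 : act 1 n7667 = n5844 := d6_1 D7667 (iv D5844) D5843
def n7668 : Q := act 5 n5843
theorem D7668 : act 5 n5843 = n7668 := rfl
theorem F12679 : act 1 n7668 = n5845 := d8_1 D7668 (iv D5845) D5843
def n7669 : Q := act 4 n5844
theorem D7669 : act 4 n5844 = n7669 := rfl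
def n7670 : Q := act 4 n5845
theorem D7670 : act 4 n5845 = n7670 := rfl
theorem F12680 : act 2 n7670 = n5846 := d10_1 D7670 (iv D5846) (iv F9598)
def n7671 : Q := act 3 n5847
theorem D7671 : act 3 n5847 = n7671 := rfl
theorem F12681 : act 0 n7671 = n5848 := d2_1 D7671 (iv D5848) D5847
def n7672 : Q := act 5 n5847
theorem D7672 : act 5 n5847 = n7672 := rfl
theorem F12682 : act 0 n7672 = n5849 := d4_1 D7672 (iv D5849) D5847
theorem F12683 : act 2 n7672 = n7239 := d11_1 D7672 F11998 (iv F9600)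
def n7673 : Q := act 2 n5848
theorem D7673 : act 2 n5848 = n7673 := rfl
def n7674 : Q := act 5 n5848
theorem D7674 : act 5 n5848 = n7674 := rfl
theorem F12684 : act 1 n7674 = n5851 := d8_1 D7674 (iv D5851) (iv F9602)
theorem F12685 : act 3 n7674 = n5849 := d13_1 D7674 (iv D5849) D5848
def n7675 : Q := act 1 n5850
theorem D7675 : act 1 n5850 = n7675 := rfl
def n7676 : Q := act 4 n5851
theorem D7676 : act 4 n5851 = n7676 := rfl
def n7677 : Q := act 4 n5853
theorem D7677 : act 4 n5853 = n7677 := rfl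
theorem F12686 : act 0 n7677 = n6837 := d3_1 D7677 (iv D6837) (iv F9610)
theorem F12687 : act 1 n7677 = n5854 := d7_1 D7677 (iv D5854) (iv F9611)
theorem F12688 : act 2 n7677 = n7160 := d10_1 D7677 (iv D7160) F9613
def n7678 : Q := act 5 n5854
theorem D7678 : act 5 n5854 = n7678 := rfl
theorem F12689 : act 0 n7678 = n6349 := d4_1 D7678 (iv D6349) (iv F9614)
theorem F12690 : act 2 n7678 = n6984 := d11_1 D7678 (iv D6984) (iv F9615)
theorem F12691 : act 4 n7678 = n6991 := d14_1 D7678 (iv D6991) (iv D5311) (iv F7185) D5854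
def n7679 : Q := act 3 n5855
theorem D7679 : act 3 n5855 = n7679 := rfl
theorem F12692 : act 0 n7679 = n5856 := d2_1 D7679 (iv D5856) D5855
theorem F12693 : act 1 n7679 = n5865 := d6_1 D7679 (iv D5865) (iv F9616)
def n7680 : Q := act 5 n5855
theorem D7680 : act 5 n5855 = n7680 := rfl
theorem F12694 : act 0 n7680 = n5857 := d4_1 D7680 (iv D5857) D5855
theorem F12695 : act 1 n7680 = n5866 := d8_1 D7680 (iv D5866) (iv F9616)
def n7681 : Q := act 2 n5856
theorem D7681 : act 2 n5856 = n7681 := rfl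
def n7682 : Q := act 5 n5856
theorem D7682 : act 5 n5856 = n7682 := rfl
theorem F12696 : act 1 n7682 = n5859 := d8_1 D7682 (iv D5859) (iv F9618)
theorem F12697 : act 3 n7682 = n5857 := d13_1 D7682 (iv D5857) D5856
def n7683 : Q := act 1 n5858
theorem D7683 : act 1 n5858 = n7683 := rfl
theorem F12698 : act 3 n7683 = n5862 := d6_2 (iv F9621) D7683 F9627
theorem F12699 : act 5 n7683 = n5861 := d8_2 F9622 D7683 F9626
def n7684 : Q := act 4 n5859
theorem D7684 : act 4 n5859 = n7684 := rfl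
theorem F12700 : act 0 n7684 = n5873 := d3_1 D7684 (iv D5873) (iv F9623)
theorem F12701 : act 2 n7684 = n5863 := d10_1 D7684 (iv D5863) (iv F9624)
def n7685 : Q := act 3 n5860
theorem D7685 : act 3 n5860 = n7685 := rfl
theorem F12702 : act 0 n7685 = n5861 := d2_1 D7685 (iv D5861) D5860
def n7686 : Q := act 5 n5860
theorem D7686 : act 5 n5860 = n7686 := rfl
theorem F12703 : act 0 n7686 = n5862 := d4_1 D7686 (iv D5862) D5860
def n7687 : Q := act 2 n5861
theorem D7687 : act 2 n5861 = n7687 := rfl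
def n7688 : Q := act 4 n5861
theorem D7688 : act 4 n5861 = n7688 := rfl
theorem F12704 : act 1 n7688 = n5863 := d7_1 D7688 (iv D5863) (iv F9626)
def n7689 : Q := act 4 n5862
theorem D7689 : act 4 n5862 = n7689 := rfl
theorem F12705 : act 1 n7689 = n5864 := d7_1 D7689 (iv D5864) (iv F9627)
def n7690 : Q := act 5 n5863
theorem D7690 : act 5 n5863 = n7690 := rfl
def n7691 : Q := act 3 n5864
theorem D7691 : act 3 n5864 = n7691 := rfl
def n7692 : Q := act 2 n5865
theorem D7692 : act 2 n5865 = n7692 := rfl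
theorem F12706 : act 0 n7692 = n5867 := d1_1 D7692 (iv D5867) (iv F9629)
theorem F12707 : act 3 n7692 = n7633 := d15_1 D7692 (iv D7633) (iv D5817) F7143 (iv F5952) (iv F7197) (iv F9635) (iv D5869) (iv F9629)
def n7693 : Q := act 4 n5865
theorem D7693 : act 4 n5865 = n7693 := rfl
theorem F12708 : act 0 n7693 = n5868 := d3_1 D7693 (iv D5868) (iv F9629)
theorem F12709 : act 3 n7693 = n5875 := d12_1 D7693 (iv D5875) (iv D4415) (iv F7194) D5865
def n7694 : Q := act 5 n5865
theorem D7694 : act 5 n5865 = n7694 := rfl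
theorem F12710 : act 0 n7694 = n5869 := d4_1 D7694 (iv D5869) (iv F9629)
theorem F12711 : act 3 n7694 = n5866 := d13_1 D7694 (iv D5866) D5865
def n7695 : Q := act 1 n5867
theorem D7695 : act 1 n5867 = n7695 := rfl
theorem F12712 : act 2 n7695 = n5870 := d5_2 D5867 D7695 (iv D5870) (iv D4412) (iv F7195)
def n7696 : Q := act 3 n5867
theorem D7696 : act 3 n5867 = n7696 := rfl
theorem F12713 : act 0 n7696 = n7633 := d2_1 D7696 (iv F12707) F12706
theorem F12714 : act 2 n7696 = n7632 := d15_2 D5867 D7696 (iv D7632) F9565 (iv F8002) (iv F9631) (iv F12711) (iv D7694) F9629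
def n7697 : Q := act 4 n5867
theorem D7697 : act 4 n5867 = n7697 := rfl
theorem F12715 : act 2 n7697 = n5868 := d10_1 D7697 (iv D5868) D5867
def n7698 : Q := act 5 n5867
theorem D7698 : act 5 n5867 = n7698 := rfl
theorem F12716 : act 2 n7698 = n5869 := d11_1 D7698 (iv D5869) D5867
def n7699 : Q := act 5 n5868
theorem D7699 : act 5 n5868 = n7699 := rfl
theorem F12717 : act 1 n7699 = n5872 := d8_1 D7699 (iv D5872) (iv F9632)
theorem F12718 : act 3 n7699 = n5878 := d13_1 D7699 (iv D5878) (iv F9633)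
def n7700 : Q := act 4 n5869
theorem D7700 : act 4 n5869 = n7700 := rfl
theorem F12719 : act 1 n7700 = n5873 := d7_1 D7700 (iv D5873) (iv F9634)
def n7701 : Q := act 0 n5870
theorem D7701 : act 0 n5870 = n7701 := rfl
def n7702 : Q := act 4 n5870
theorem D7702 : act 4 n5870 = n7702 := rfl
theorem F12720 : act 1 n7702 = n5871 := d7_1 D7702 (iv D5871) D5870
def n7703 : Q := act 4 n5872
theorem D7703 : act 4 n5872 = n7703 := rfl
theorem F12721 : act 5 n7703 = n5873 := d14_2 D5872 D7703 (iv D5873) (iv D4414) D4413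
def n7704 : Q := act 1 n5874
theorem D7704 : act 1 n5874 = n7704 := rfl
theorem F12722 : act 0 n7704 = n6165 := d0_1 D7704 (iv D6165) (iv F8573) F8574 (iv F9638)
theorem F12723 : act 2 n7704 = n6167 := d5_2 D5874 D7704 F10163 (iv F8596) F8595
theorem F12724 : act 3 n7704 = n6216 := d6_2 (iv F9639) D7704 F10259
theorem F12725 : act 5 n7704 = n6175 := d8_2 F12626 D7704 (iv F12624)
def n7705 : Q := act 4 n5874
theorem D7705 : act 4 n5874 = n7705 := rfl
theorem F12726 : act 0 n7705 = n5877 := d3_1 D7705 (iv D5877) (iv F9638)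
theorem F12727 : act 2 n7705 = n5875 := d10_1 D7705 (iv D5875) D5874
def n7706 : Q := act 5 n5875
theorem D7706 : act 5 n5875 = n7706 := rfl
theorem F12728 : act 0 n7706 = n5878 := d4_1 D7706 (iv D5878) (iv F9640)
def n7707 : Q := act 4 n5876
theorem D7707 : act 4 n5876 = n7707 := rfl
theorem F12729 : act 0 n7707 = n6332 := d3_1 D7707 (iv D6332) (iv F9641)
theorem F12730 : act 2 n7707 = n6331 := d10_1 D7707 (iv D6331) (iv F9642)
def n7708 : Q := act 3 n5877
theorem D7708 : act 3 n5877 = n7708 := rfl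
def n7709 : Q := act 5 n5877
theorem D7709 : act 5 n5877 = n7709 := rfl
theorem F12731 : act 2 n7709 = n5878 := d11_1 D7709 (iv D5878) (iv F9643)
def n7710 : Q := act 2 n5879
theorem D7710 : act 2 n5879 = n7710 := rfl
theorem F12732 : act 0 n7710 = n5881 := d1_1 D7710 (iv D5881) (iv F9645)
def n7711 : Q := act 4 n5879
theorem D7711 : act 4 n5879 = n7711 := rfl
theorem F12733 : act 0 n7711 = n5882 := d3_1 D7711 (iv D5882) (iv F9645)
theorem F12734 : act 3 n7711 = n5891 := d12_1 D7711 (iv D5891) (iv D4426) (iv F7202) D5879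
def n7712 : Q := act 5 n5879
theorem D7712 : act 5 n5879 = n7712 := rfl
theorem F12735 : act 0 n7712 = n5883 := d4_1 D7712 (iv D5883) (iv F9645)
theorem F12736 : act 3 n7712 = n5880 := d13_1 D7712 (iv D5880) D5879
def n7713 : Q := act 4 n5880
theorem D7713 : act 4 n5880 = n7713 := rfl
theorem F12737 : act 0 n7713 = n5884 := d3_1 D7713 (iv D5884) (iv F9646)
theorem F12738 : act 5 n7713 = n5892 := d14_2 D5880 D7713 (iv D5892) (iv D4427) (iv F7202)
def n7714 : Q := act 1 n5881
theorem D7714 : act 1 n5881 = n7714 := rfl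
theorem F12739 : act 2 n7714 = n5885 := d5_2 D5881 D7714 (iv D5885) (iv D4422) (iv F7203)
theorem F12740 : act 5 n6042 = n7714 := d11_0 F12739 F9654 D6042
def n7715 : Q := act 3 n5881
theorem D7715 : act 3 n5881 = n7715 := rfl
def n7716 : Q := act 4 n5881
theorem D7716 : act 4 n5881 = n7716 := rfl
theorem F12741 : act 2 n7716 = n5882 := d10_1 D7716 (iv D5882) D5881
def n7717 : Q := act 5 n5881
theorem D7717 : act 5 n5881 = n7717 := rfl
theorem F12742 : act 1 n7717 = n6042 := d8_1 D7717 F12740 (iv D7714)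
theorem F12743 : act 2 n7717 = n5883 := d11_1 D7717 (iv D5883) D5881
def n7718 : Q := act 5 n5882
theorem D7718 : act 5 n5882 = n7718 := rfl
theorem F12744 : act 1 n7718 = n5887 := d8_1 D7718 (iv D5887) (iv F9647)
theorem F12745 : act 3 n7718 = n5895 := d13_1 D7718 (iv D5895) (iv F9648)
def n7719 : Q := act 4 n5883
theorem D7719 : act 4 n5883 = n7719 := rfl
theorem F12746 : act 1 n7719 = n5888 := d7_1 D7719 (iv D5888) (iv F9649)
def n7720 : Q := act 3 n5884
theorem D7720 : act 3 n5884 = n7720 := rfl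
theorem F12747 : act 1 n7720 = n5889 := d6_1 D7720 (iv D5889) (iv F9651)
theorem F12748 : act 5 n7720 = n5896 := d13_2 (iv F9652) D7720 (iv D5896)
def n7721 : Q := act 0 n5885
theorem D7721 : act 0 n5885 = n7721 := rfl
theorem F12749 : act 1 n7721 = n7712 := d0_2 D5885 D7721 F12735 F9649 F7208
theorem F12750 : act 3 n7721 = n6026 := d2_2 (iv F9653) D7721 F9880
theorem F12751 : act 5 n7721 = n6041 := d4_2 (iv F9654) D7721 F9916
def n7722 : Q := act 4 n5885
theorem D7722 : act 4 n5885 = n7722 := rfl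
theorem F12752 : act 1 n7722 = n5886 := d7_1 D7722 (iv D5886) D5885
def n7723 : Q := act 3 n5886
theorem D7723 : act 3 n5886 = n7723 := rfl
theorem F12753 : act 4 n7723 = n6045 := d12_2 D5886 D7723 (iv D6045) (iv D4551) (iv F7205)
def n7724 : Q := act 5 n5886
theorem D7724 : act 5 n5886 = n7724 := rfl
theorem F12754 : act 2 n7724 = n5887 := d11_1 D7724 (iv D5887) (iv F9655)
theorem F12755 : act 4 n7724 = n6044 := d14_1 D7724 (iv D6044) (iv D4550) F7206 D5886
def n7725 : Q := act 4 n5887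
theorem D7725 : act 4 n5887 = n7725 := rfl
theorem F12756 : act 0 n7725 = n7724 := d3_1 D7725 F12755 F9920
theorem F12757 : act 2 n7725 = n6044 := d10_1 D7725 (iv F12755) F12754
theorem F12758 : act 5 n7725 = n5888 := d14_2 D5887 D7725 (iv D5888) (iv D4424) D4423
def n7726 : Q := act 3 n5888
theorem D7726 : act 3 n5888 = n7726 := rfl
theorem F12759 : act 0 n7726 = n7723 := d2_1 D7726 (iv D7723) (iv F9657)
theorem F12760 : act 4 n7726 = n5889 := d12_2 D5888 D7726 (iv D5889) (iv D4425) (iv F7210)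
def n7727 : Q := act 2 n5889
theorem D7727 : act 2 n5889 = n7727 := rfl
theorem F12761 : act 5 n7727 = n5897 := d11_2 (iv F9659) D7727 (iv D5897)
theorem F12762 : act 3 n7727 = n5897 := d15_1 D7727 (iv D5897) (iv D4432) F5341 (iv F4826) (iv F6575) D5340 (iv F9923) F9922
def n7728 : Q := act 1 n5890
theorem D7728 : act 1 n5890 = n7728 := rfl
def n7729 : Q := act 3 n5890
theorem D7729 : act 3 n5890 = n7729 := rfl
theorem F12763 : act 0 n7729 = n5893 := d2_1 D7729 (iv D5893) (iv F9660)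
def n7730 : Q := act 4 n5890
theorem D7730 : act 4 n5890 = n7730 := rfl
theorem F12764 : act 0 n7730 = n5894 := d3_1 D7730 (iv D5894) (iv F9660)
theorem F12765 : act 2 n7730 = n5891 := d10_1 D7730 (iv D5891) D5890
def n7731 : Q := act 5 n5891
theorem D7731 : act 5 n5891 = n7731 := rfl
theorem F12766 : act 0 n7731 = n5895 := d4_1 D7731 (iv D5895) (iv F9661)
def n7732 : Q := act 3 n5892
theorem D7732 : act 3 n5892 = n7732 := rfl
theorem F12767 : act 0 n7732 = n5896 := d2_1 D7732 (iv D5896) (iv F9662)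
def n7733 : Q := act 2 n5893
theorem D7733 : act 2 n5893 = n7733 := rfl
def n7734 : Q := act 4 n5893
theorem D7734 : act 4 n5893 = n7734 := rfl
def n7735 : Q := act 3 n5894
theorem D7735 : act 3 n5894 = n7735 := rfl
def n7736 : Q := act 5 n5894
theorem D7736 : act 5 n5894 = n7736 := rfl
theorem F12768 : act 1 n7736 = n7566 := d8_1 D7736 F12526 F11770
theorem F12769 : act 2 n7736 = n5895 := d11_1 D7736 (iv D5895) (iv F9663)
theorem F12770 : act 4 n7736 = n7564 := d14_1 D7736 (iv F12521) F10747 (iv F8896) D5894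
def n7737 : Q := act 2 n5896
theorem D7737 : act 2 n5896 = n7737 := rfl
def n7738 : Q := act 1 n5897
theorem D7738 : act 1 n5897 = n7738 := rfl
def n7739 : Q := act 3 n5898
theorem D7739 : act 3 n5898 = n7739 := rfl
theorem F12771 : act 0 n7739 = n5899 := d2_1 D7739 (iv D5899) (iv F9666)
def n7740 : Q := act 5 n5898
theorem D7740 : act 5 n5898 = n7740 := rfl
theorem F12772 : act 0 n7740 = n5900 := d4_1 D7740 (iv D5900) (iv F9666)
def n7741 : Q := act 2 n5899
theorem D7741 : act 2 n5899 = n7741 := rfl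
def n7742 : Q := act 5 n5899
theorem D7742 : act 5 n5899 = n7742 := rfl
theorem F12773 : act 1 n7742 = n5902 := d8_1 D7742 (iv D5902) (iv F9667)
theorem F12774 : act 3 n7742 = n5900 := d13_1 D7742 (iv D5900) D5899
def n7743 : Q := act 1 n5901
theorem D7743 : act 1 n5901 = n7743 := rfl
theorem F12775 : act 3 n7743 = n7535 := d6_2 (iv F9669) D7743 F12471
theorem F12776 : act 5 n7743 = n7534 := d8_2 F9670 D7743 F12470
def n7744 : Q := act 4 n5902
theorem D7744 : act 4 n5902 = n7744 := rfl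
theorem F12777 : act 2 n7744 = n7536 := d10_1 D7744 (iv D7536) (iv F9671)
theorem F12778 : act 3 n7744 = n7724 := d12_1 D7744 F12755 F9921 F8802 (iv F9672)
theorem F12779 : act 5 n7744 = n7723 := d14_2 D5902 D7744 F12753 F9923 F8804
def n7745 : Q := act 0 n5903
theorem D7745 : act 0 n5903 = n7745 := rfl
theorem F12780 : act 1 n7745 = n7533 := d0_2 D5903 D7745 (iv D7533) (iv D5732) (iv F7220)
theorem F12781 : act 4 n7745 = n7532 := d3_2 (iv F9673) D7745 (iv D7532)
def n7746 : Q := act 3 n5903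
theorem D7746 : act 3 n5903 = n7746 := rfl
theorem F12782 : act 1 n7746 = n5904 := d6_1 D7746 (iv D5904) D5903
def n7747 : Q := act 5 n5903
theorem D7747 : act 5 n5903 = n7747 := rfl
theorem F12783 : act 1 n7747 = n5905 := d8_1 D7747 (iv D5905) D5903
def n7748 : Q := act 4 n5904
theorem D7748 : act 4 n5904 = n7748 := rfl
theorem F12784 : act 0 n7748 = n7536 := d3_1 D7748 (iv D7536) (iv F9674)
theorem F12785 : act 3 n7748 = n7113 := d12_1 D7748 F11792 F8918 (iv F7221) D5904
def n7749 : Q := act 4 n5905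
theorem D7749 : act 4 n5905 = n7749 := rfl
theorem F12786 : act 0 n7749 = n7537 := d3_1 D7749 (iv D7537) (iv F9675)
theorem F12787 : act 2 n7749 = n5906 := d10_1 D7749 (iv D5906) (iv F9676)
theorem F12788 : act 5 n7749 = n7113 := d14_2 D5905 D7749 F11792 F8919 (iv F7221)
def n7750 : Q := act 4 n5907
theorem D7750 : act 4 n5907 = n7750 := rfl
theorem F12789 : act 1 n7750 = n5908 := d7_1 D7750 (iv D5908) (iv F9680)
def n7751 : Q := act 5 n5908
theorem D7751 : act 5 n5908 = n7751 := rfl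
theorem F12790 : act 0 n7751 = n5911 := d4_1 D7751 (iv D5911) (iv F9682)
theorem F12791 : act 2 n7751 = n5965 := d11_1 D7751 F9741 (iv F9683)
theorem F12792 : act 4 n7751 = n5964 := d14_1 D7751 (iv D5964) (iv D4484) (iv F7226) D5908
def n7752 : Q := act 4 n5909
theorem D7752 : act 4 n5909 = n7752 := rfl
theorem F12793 : act 1 n7752 = n5910 := d7_1 D7752 (iv D5910) D5909
def n7753 : Q := act 3 n5910
theorem D7753 : act 3 n5910 = n7753 := rfl
theorem F12794 : act 0 n7753 = n5966 := d2_1 D7753 (iv D5966) (iv F9686)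
theorem F12795 : act 4 n7753 = n5957 := d12_2 D5910 D7753 (iv D5957) (iv D4479) (iv F7228)
def n7754 : Q := act 5 n5910
theorem D7754 : act 5 n5910 = n7754 := rfl
theorem F12796 : act 0 n7754 = n5965 := d4_1 D7754 F9741 (iv F9686)
theorem F12797 : act 2 n7754 = n5911 := d11_1 D7754 (iv D5911) (iv F9687)
theorem F12798 : act 4 n7754 = n5956 := d14_1 D7754 (iv D5956) (iv D4478) (iv F7229) D5910
def n7755 : Q := act 1 n5912
theorem D7755 : act 1 n5912 = n7755 := rfl
theorem F12799 : act 2 n7755 = n5919 := d5_2 D5912 D7755 (iv D5919) (iv D4451) (iv F7231)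
def n7756 : Q := act 3 n5912
theorem D7756 : act 3 n5912 = n7756 := rfl
theorem F12800 : act 0 n7756 = n5915 := d2_1 D7756 (iv D5915) (iv F9688)
def n7757 : Q := act 4 n5912
theorem D7757 : act 4 n5912 = n7757 := rfl
theorem F12801 : act 0 n7757 = n5916 := d3_1 D7757 (iv D5916) (iv F9688)
theorem F12802 : act 2 n7757 = n5913 := d10_1 D7757 (iv D5913) D5912
def n7758 : Q := act 5 n5913
theorem D7758 : act 5 n5913 = n7758 := rfl
theorem F12803 : act 0 n7758 = n5917 := d4_1 D7758 (iv D5917) (iv F9689)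
theorem F12804 : act 1 n7758 = n5922 := d8_1 D7758 (iv D5922) (iv F9690)
def n7759 : Q := act 3 n5914
theorem D7759 : act 3 n5914 = n7759 := rfl
theorem F12805 : act 0 n7759 = n5918 := d2_1 D7759 (iv D5918) (iv F9691)
theorem F12806 : act 1 n7759 = n5924 := d6_1 D7759 (iv D5924) (iv F9692)
def n7760 : Q := act 2 n5915
theorem D7760 : act 2 n5915 = n7760 := rfl
def n7761 : Q := act 4 n5915
theorem D7761 : act 4 n5915 = n7761 := rfl
def n7762 : Q := act 3 n5916
theorem D7762 : act 3 n5916 = n7762 := rfl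
def n7763 : Q := act 5 n5916
theorem D7763 : act 5 n5916 = n7763 := rfl
theorem F12807 : act 2 n7763 = n5917 := d11_1 D7763 (iv D5917) (iv F9693)
def n7764 : Q := act 2 n5918
theorem D7764 : act 2 n5918 = n7764 := rfl
def n7765 : Q := act 0 n5919
theorem D7765 : act 0 n5919 = n7765 := rfl
theorem F12808 : act 1 n7765 = n5925 := d0_2 D5919 D7765 (iv D5925) (iv D4455) (iv F7238)
def n7766 : Q := act 4 n5919
theorem D7766 : act 4 n5919 = n7766 := rfl
theorem F12809 : act 1 n7766 = n5920 := d7_1 D7766 (iv D5920) D5919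
def n7767 : Q := act 5 n5919
theorem D7767 : act 5 n5919 = n7767 := rfl
theorem F12810 : act 1 n7767 = n5921 := d8_1 D7767 (iv D5921) D5919
theorem F12811 : act 3 n7767 = n5948 := d13_1 D7767 (iv F11934) F11933
def n7768 : Q := act 3 n5920
theorem D7768 : act 3 n5920 = n7768 := rfl
theorem F12812 : act 0 n7768 = n5930 := d2_1 D7768 (iv D5930) (iv F9696)
def n7769 : Q := act 5 n5920
theorem D7769 : act 5 n5920 = n7769 := rfl
theorem F12813 : act 0 n7769 = n5931 := d4_1 D7769 (iv D5931) (iv F9696)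
theorem F12814 : act 2 n7769 = n5922 := d11_1 D7769 (iv D5922) (iv F9697)
def n7770 : Q := act 4 n5921
theorem D7770 : act 4 n5921 = n7770 := rfl
theorem F12815 : act 0 n7770 = n5932 := d3_1 D7770 (iv D5932) (iv F9698)
theorem F12816 : act 2 n7770 = n5923 := d10_1 D7770 (iv D5923) (iv F9699)
def n7771 : Q := act 4 n5922
theorem D7771 : act 4 n5922 = n7771 := rfl
theorem F12817 : act 0 n7771 = n5933 := d3_1 D7771 (iv D5933) (iv F9701)
theorem F12818 : act 5 n7771 = n5923 := d14_2 D5922 D7771 (iv D5923) (iv D4453) D4452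
def n7772 : Q := act 3 n5923
theorem D7772 : act 3 n5923 = n7772 := rfl
theorem F12819 : act 0 n7772 = n5934 := d2_1 D7772 (iv D5934) (iv F9702)
theorem F12820 : act 4 n7772 = n5924 := d12_2 D5923 D7772 (iv D5924) (iv D4454) (iv F7241)
def n7773 : Q := act 2 n5924
theorem D7773 : act 2 n5924 = n7773 := rfl
theorem F12821 : act 0 n7773 = n5935 := d1_1 D7773 (iv D5935) (iv F9703)
theorem F12822 : act 3 n7773 = n5935 := d15_1 D7773 (iv D5935) (iv D4461) F5363 (iv F4757) (iv F6473) D5281 F8683 (iv F9703)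
def n7774 : Q := act 4 n5925
theorem D7774 : act 4 n5925 = n7774 := rfl
theorem F12823 : act 0 n7774 = n5927 := d3_1 D7774 (iv D5927) D5925
theorem F12824 : act 2 n7774 = n5936 := d10_1 D7774 (iv D5936) (iv F9704)
def n7775 : Q := act 4 n5926
theorem D7775 : act 4 n5926 = n7775 := rfl
theorem F12825 : act 1 n7775 = n5928 := d7_1 D7775 (iv D5928) (iv F9705)
def n7776 : Q := act 3 n5927
theorem D7776 : act 3 n5927 = n7776 := rfl
theorem F12826 : act 1 n7776 = n5930 := d6_1 D7776 (iv D5930) (iv F9706)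
def n7777 : Q := act 5 n5927
theorem D7777 : act 5 n5927 = n7777 := rfl
theorem F12827 : act 1 n7777 = n5931 := d8_1 D7777 (iv D5931) (iv F9706)
theorem F12828 : act 2 n7777 = n5938 := d11_1 D7777 (iv D5938) (iv F9707)
def n7778 : Q := act 3 n5928
theorem D7778 : act 3 n5928 = n7778 := rfl
theorem F12829 : act 4 n7778 = n5930 := d12_2 D5928 D7778 (iv D5930) (iv D4457) D4456
def n7779 : Q := act 5 n5928
theorem D7779 : act 5 n5928 = n7779 := rfl
def n7780 : Q := act 4 n5929
theorem D7780 : act 4 n5929 = n7780 := rfl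
theorem F12830 : act 0 n7780 = n5949 := d3_1 D7780 (iv D5949) (iv F9708)
theorem F12831 : act 2 n7780 = n5946 := d10_1 D7780 (iv D5946) (iv F9709)
def n7781 : Q := act 2 n5930
theorem D7781 : act 2 n5930 = n7781 := rfl
def n7782 : Q := act 5 n5930
theorem D7782 : act 5 n5930 = n7782 := rfl
theorem F12832 : act 3 n7782 = n5931 := d13_1 D7782 (iv D5931) D5930
def n7783 : Q := act 4 n5931
theorem D7783 : act 4 n5931 = n7783 := rfl
theorem F12833 : act 2 n7783 = n5933 := d10_1 D7783 (iv D5933) (iv F9711)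
theorem F12834 : act 5 n7783 = n5932 := d14_2 D5931 D7783 (iv D5932) (iv D4458) D4457
def n7784 : Q := act 3 n5932
theorem D7784 : act 3 n5932 = n7784 := rfl
def n7785 : Q := act 3 n5933
theorem D7785 : act 3 n5933 = n7785 := rfl
theorem F12835 : act 1 n7785 = n5941 := d6_1 D7785 (iv D5941) (iv F9713)
theorem F12836 : act 5 n7785 = n5934 := d13_2 (iv F9714) D7785 (iv D5934)
def n7786 : Q := act 2 n5934
theorem D7786 : act 2 n5934 = n7786 := rfl
theorem F12837 : act 4 n7786 = n5935 := d10_2 (iv F9716) D7786 (iv D5935)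
def n7787 : Q := act 1 n5935
theorem D7787 : act 1 n5935 = n7787 := rfl
theorem F12838 : act 2 n7787 = n5943 := d5_2 D5935 D7787 (iv D5943) (iv D4468) (iv F7249)
def n7788 : Q := act 5 n5936
theorem D7788 : act 5 n5936 = n7788 := rfl
theorem F12839 : act 0 n7788 = n5938 := d4_1 D7788 (iv D5938) (iv F9717)
def n7789 : Q := act 2 n5937
theorem D7789 : act 2 n5937 = n7789 := rfl
def n7790 : Q := act 5 n5937
theorem D7790 : act 5 n5937 = n7790 := rfl
theorem F12840 : act 1 n7790 = n5940 := d8_1 D7790 (iv D5940) (iv F9718)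
theorem F12841 : act 3 n7790 = n5938 := d13_1 D7790 (iv D5938) D5937
def n7791 : Q := act 1 n5939
theorem D7791 : act 1 n5939 = n7791 := rfl
def n7792 : Q := act 3 n5939
theorem D7792 : act 3 n5939 = n7792 := rfl
def n7793 : Q := act 5 n5939
theorem D7793 : act 5 n5939 = n7793 := rfl
theorem F12842 : act 2 n7793 = n5940 := d11_1 D7793 (iv D5940) D5939
def n7794 : Q := act 1 n5942
theorem D7794 : act 1 n5942 = n7794 := rfl
theorem F12843 : act 4 n7794 = n5943 := d7_2 (iv F9722) D7794 (iv D5943)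
def n7795 : Q := act 0 n5943
theorem D7795 : act 0 n5943 = n7795 := rfl
def n7796 : Q := act 2 n5944
theorem D7796 : act 2 n5944 = n7796 := rfl
def n7797 : Q := act 4 n5944
theorem D7797 : act 4 n5944 = n7797 := rfl
theorem F12844 : act 1 n7797 = n5946 := d7_1 D7797 (iv D5946) (iv F9723)
def n7798 : Q := act 3 n5945
theorem D7798 : act 3 n5945 = n7798 := rfl
theorem F12845 : act 1 n7798 = n5947 := d6_1 D7798 (iv D5947) (iv F9724)
def n7799 : Q := act 3 n5946
theorem D7799 : act 3 n5946 = n7799 := rfl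
theorem F12846 : act 0 n7799 = n5950 := d2_1 D7799 (iv D5950) (iv F9725)
theorem F12847 : act 4 n7799 = n5947 := d12_2 D5946 D7799 (iv D5947) (iv D4471) D4470
def n7800 : Q := act 5 n5946
theorem D7800 : act 5 n5946 = n7800 := rfl
theorem F12848 : act 0 n7800 = n5951 := d4_1 D7800 (iv D5951) (iv F9725)
def n7801 : Q := act 2 n5947
theorem D7801 : act 2 n5947 = n7801 := rfl
theorem F12849 : act 0 n7801 = n5952 := d1_1 D7801 (iv D5952) (iv F9726)
theorem F12850 : act 3 n7801 = n5952 := d15_1 D7801 (iv D5952) (iv D4474) F5368 (iv F4769) (iv F6512) D5301 F8722 (iv F9726)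
def n7802 : Q := act 0 n5948
theorem D7802 : act 0 n5948 = n7802 := rfl
def n7803 : Q := act 4 n5948
theorem D7803 : act 4 n5948 = n7803 := rfl
theorem F12851 : act 1 n7803 = n5949 := d7_1 D7803 (iv D5949) D5948
def n7804 : Q := act 3 n5949
theorem D7804 : act 3 n5949 = n7804 := rfl
def n7805 : Q := act 5 n5949
theorem D7805 : act 5 n5949 = n7805 := rfl
theorem F12852 : act 2 n7805 = n5951 := d11_1 D7805 (iv D5951) (iv F9727)
def n7806 : Q := act 2 n5950
theorem D7806 : act 2 n5950 = n7806 := rfl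
theorem F12853 : act 4 n7806 = n5952 := d10_2 (iv F9728) D7806 (iv D5952)
def n7807 : Q := act 5 n5950
theorem D7807 : act 5 n5950 = n7807 := rfl
theorem F12854 : act 3 n7807 = n5951 := d13_1 D7807 (iv D5951) D5950
def n7808 : Q := act 1 n5952
theorem D7808 : act 1 n5952 = n7808 := rfl
def n7809 : Q := act 4 n5953
theorem D7809 : act 4 n5953 = n7809 := rfl
theorem F12855 : act 0 n7809 = n5954 := d3_1 D7809 (iv D5954) (iv F9729)
theorem F12856 : act 1 n7809 = n5958 := d7_1 D7809 (iv D5958) (iv F9730)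
def n7810 : Q := act 5 n5954
theorem D7810 : act 5 n5954 = n7810 := rfl
theorem F12857 : act 1 n7810 = n5956 := d8_1 D7810 (iv D5956) (iv F9731)
def n7811 : Q := act 3 n5955
theorem D7811 : act 3 n5955 = n7811 := rfl
theorem F12858 : act 1 n7811 = n5957 := d6_1 D7811 (iv D5957) (iv F9732)
def n7812 : Q := act 5 n5958
theorem D7812 : act 5 n5958 = n7812 := rfl
theorem F12859 : act 0 n7812 = n5961 := d4_1 D7812 (iv D5961) (iv F9735)
def n7813 : Q := act 4 n5959
theorem D7813 : act 4 n5959 = n7813 := rfl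
theorem F12860 : act 1 n7813 = n5960 := d7_1 D7813 (iv D5960) D5959
theorem F12861 : act 2 n7813 = n5962 := d10_1 D7813 (iv D5962) (iv F9736)
def n7814 : Q := act 3 n5960
theorem D7814 : act 3 n5960 = n7814 := rfl
def n7815 : Q := act 5 n5960
theorem D7815 : act 5 n5960 = n7815 := rfl
theorem F12862 : act 2 n7815 = n5961 := d11_1 D7815 (iv D5961) (iv F9737)
def n7816 : Q := act 3 n5962
theorem D7816 : act 3 n5962 = n7816 := rfl
theorem F12863 : act 1 n7816 = n5963 := d6_1 D7816 (iv D5963) (iv F9739)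
def n7817 : Q := act 5 n5962
theorem D7817 : act 5 n5962 = n7817 := rfl
theorem F12864 : act 1 n7817 = n5964 := d8_1 D7817 (iv D5964) (iv F9739)
def n7818 : Q := act 2 n5963
theorem D7818 : act 2 n5963 = n7818 := rfl
def n7819 : Q := act 5 n5963
theorem D7819 : act 5 n5963 = n7819 := rfl
theorem F12865 : act 3 n7819 = n5964 := d13_1 D7819 (iv D5964) D5963
def n7820 : Q := act 3 n5965
theorem D7820 : act 3 n5965 = n7820 := rfl
theorem F12866 : act 5 n7820 = n5966 := d13_2 (iv F9741) D7820 (iv D5966)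
def n7821 : Q := act 2 n5966
theorem D7821 : act 2 n5966 = n7821 := rfl
theorem F12867 : act 4 n7821 = n5967 := d10_2 (iv F9742) D7821 (iv D5967)
def n7822 : Q := act 1 n5967
theorem D7822 : act 1 n5967 = n7822 := rfl
def n7823 : Q := act 0 n5968
theorem D7823 : act 0 n5968 = n7823 := rfl
theorem F12868 : act 1 n7823 = n5976 := d0_2 D5968 D7823 (iv D5976) (iv D4492) (iv F7266)
theorem F12869 : act 2 n7823 = n5989 := d1_2 (iv F9743) D7823 (iv D5989)
theorem F12870 : act 4 n7823 = n6183 := d3_2 (iv F9744) D7823 (iv D6183)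
theorem F12871 : act 5 n6091 = n7823 := d8_0 F12868 F9762 D6091
def n7824 : Q := act 3 n5968
theorem D7824 : act 3 n5968 = n7824 := rfl
theorem F12872 : act 1 n7824 = n5969 := d6_1 D7824 (iv D5969) D5968
def n7825 : Q := act 5 n5968
theorem D7825 : act 5 n5968 = n7825 := rfl
theorem F12873 : act 0 n7825 = n6091 := d4_1 D7825 F12871 (iv D7823)
theorem F12874 : act 1 n7825 = n5970 := d8_1 D7825 (iv D5970) D5968
theorem F12875 : act 2 n7825 = n5988 := d11_1 D7825 F9792 (iv F9743)
def n7826 : Q := act 4 n5969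
theorem D7826 : act 4 n5969 = n7826 := rfl
theorem F12876 : act 0 n7826 = n5979 := d3_1 D7826 (iv D5979) (iv F9745)
theorem F12877 : act 3 n7826 = n6187 := d12_1 D7826 (iv D6187) (iv D4660) (iv F7267) D5969
def n7827 : Q := act 4 n5970
theorem D7827 : act 4 n5970 = n7827 := rfl
theorem F12878 : act 0 n7827 = n5981 := d3_1 D7827 (iv D5981) (iv F9746)
theorem F12879 : act 2 n7827 = n5971 := d10_1 D7827 (iv D5971) (iv F9747)
theorem F12880 : act 5 n7827 = n6188 := d14_2 D5970 D7827 (iv D6188) (iv D4661) (iv F7267)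
def n7828 : Q := act 0 n5972
theorem D7828 : act 0 n5972 = n7828 := rfl
theorem F12881 : act 1 n7828 = n6183 := d0_2 D5972 D7828 (iv D6183) (iv D4659) (iv F7271)
theorem F12882 : act 2 n7828 = n5982 := d1_2 (iv F9752) D7828 (iv D5982)
theorem F12883 : act 4 n7828 = n5976 := d3_2 (iv F9753) D7828 (iv D5976)
def n7829 : Q := act 3 n5972
theorem D7829 : act 3 n5972 = n7829 := rfl
theorem F12884 : act 1 n7829 = n5973 := d6_1 D7829 (iv D5973) D5972
def n7830 : Q := act 5 n5972
theorem D7830 : act 5 n5972 = n7830 := rfl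
theorem F12885 : act 1 n7830 = n5974 := d8_1 D7830 (iv D5974) D5972
theorem F12886 : act 2 n7830 = n5984 := d11_1 D7830 (iv D5984) (iv F9752)
theorem F12887 : act 4 n7830 = n6099 := d14_1 D7830 (iv D6099) (iv D4591) F7277 (iv F9753)
def n7831 : Q := act 2 n5973
theorem D7831 : act 2 n5973 = n7831 := rfl
theorem F12888 : act 0 n7831 = n6186 := d1_1 D7831 (iv D6186) (iv F9754)
theorem F12889 : act 3 n7831 = n5974 := d9_2 D5973 D7831 F9756 F7275 F5389 (iv F5617) (iv F7603) (iv F10199) (iv D6186) (iv D4660) (iv D3464) (iv D2547) (iv F3947) D3337 D4490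
theorem F12890 : act 5 n5973 = n7831 := d13_0 F12889 (iv D5974) D5973
def n7832 : Q := act 4 n5973
theorem D7832 : act 4 n5973 = n7832 := rfl
theorem F12891 : act 0 n7832 = n6187 := d3_1 D7832 (iv D6187) (iv F9754)
theorem F12892 : act 3 n7832 = n5979 := d12_1 D7832 (iv D5979) (iv D4493) (iv F7272) D5973
def n7833 : Q := act 4 n5974
theorem D7833 : act 4 n5974 = n7833 := rfl
theorem F12893 : act 0 n7833 = n6188 := d3_1 D7833 (iv D6188) (iv F9755)
theorem F12894 : act 1 n7833 = n6099 := d7_1 D7833 (iv F12887) F12885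
theorem F12895 : act 2 n7833 = n5975 := d10_1 D7833 (iv D5975) (iv F9756)
theorem F12896 : act 5 n7833 = n5981 := d14_2 D5974 D7833 (iv D5981) (iv D4494) (iv F7272)
def n7834 : Q := act 3 n5976
theorem D7834 : act 3 n5976 = n7834 := rfl
theorem F12897 : act 0 n7834 = n5977 := d2_1 D7834 (iv D5977) D5976
theorem F12898 : act 5 n7834 = n6092 := d13_2 (iv F9762) D7834 (iv D6092)
theorem F12899 : act 2 n7834 = n6078 := d15_2 (iv F9761) D7834 (iv D6078) (iv D4575) (iv D3402) F4042 D2508 (iv F5398) D4500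
def n7835 : Q := act 2 n5977
theorem D7835 : act 2 n5977 = n7835 := rfl
theorem F12900 : act 0 n7835 = n6078 := d1_1 D7835 (iv F12899) F12897
theorem F12901 : act 5 n7835 = n6096 := d11_2 (iv F9764) D7835 (iv D6096)
theorem F12902 : act 3 n7835 = n6075 := d15_1 D7835 (iv D6075) (iv D4573) F5520 D3411 D4587 D6092 (iv F12898) F12897
def n7836 : Q := act 4 n5977
theorem D7836 : act 4 n5977 = n7836 := rfl
theorem F12903 : act 1 n7836 = n5979 := d7_1 D7836 (iv D5979) (iv F9763)
def n7837 : Q := act 1 n5978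
theorem D7837 : act 1 n5978 = n7837 := rfl
theorem F12904 : act 3 n7837 = n7825 := d6_2 (iv F9765) D7837 F12874
theorem F12905 : act 5 n7837 = n7824 := d8_2 F9766 D7837 F12872
def n7838 : Q := act 4 n5978
theorem D7838 : act 4 n5978 = n7838 := rfl
theorem F12906 : act 2 n7838 = n5979 := d10_1 D7838 (iv D5979) D5978
def n7839 : Q := act 5 n5979
theorem D7839 : act 5 n5979 = n7839 := rfl
def n7840 : Q := act 4 n5980
theorem D7840 : act 4 n5980 = n7840 := rfl
theorem F12907 : act 0 n7840 = n7838 := d3_1 D7840 (iv D7838) (iv F9767)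
theorem F12908 : act 1 n7840 = n6097 := d7_1 D7840 (iv D6097) (iv F9768)
theorem F12909 : act 2 n7840 = n7826 := d10_1 D7840 (iv D7826) (iv F9769)
def n7841 : Q := act 3 n5981
theorem D7841 : act 3 n5981 = n7841 := rfl
theorem F12910 : act 1 n7841 = n6098 := d6_1 D7841 (iv D6098) (iv F9771)
def n7842 : Q := act 3 n5982
theorem D7842 : act 3 n5982 = n7842 := rfl
theorem F12911 : act 0 n7842 = n5983 := d2_1 D7842 (iv D5983) D5982
theorem F12912 : act 1 n7842 = n6017 := d6_1 D7842 (iv D6017) (iv F9773)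
theorem F12913 : act 4 n7842 = n6095 := d12_2 (iv F9774) D7842 (iv D6095) (iv D4589) (iv F7292)
def n7843 : Q := act 5 n5982
theorem D7843 : act 5 n5982 = n7843 := rfl
theorem F12914 : act 0 n7843 = n5984 := d4_1 D7843 (iv D5984) D5982
theorem F12915 : act 1 n7843 = n6018 := d8_1 D7843 (iv D6018) (iv F9773)
theorem F12916 : act 4 n7843 = n6094 := d14_1 D7843 (iv D6094) (iv D4588) (iv F7293) (iv F9774)
def n7844 : Q := act 2 n5983
theorem D7844 : act 2 n5983 = n7844 := rfl
theorem F12917 : act 4 n7844 = n6100 := d10_2 (iv F9776) D7844 (iv D6100)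
def n7845 : Q := act 5 n5983
theorem D7845 : act 5 n5983 = n7845 := rfl
theorem F12918 : act 1 n7845 = n5986 := d8_1 D7845 (iv D5986) (iv F9775)
theorem F12919 : act 3 n7845 = n5984 := d13_1 D7845 (iv D5984) D5983
theorem F12920 : act 4 n7845 = n7068 := d14_1 D7845 (iv D7068) (iv F10021) F10022 (iv F9776)
def n7846 : Q := act 1 n5985
theorem D7846 : act 1 n5985 = n7846 := rfl
theorem F12921 : act 3 n7846 = n6015 := d6_2 (iv F9780) D7846 F9857
theorem F12922 : act 4 n7846 = n6101 := d7_2 (iv F9781) D7846 (iv D6101)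
theorem F12923 : act 5 n7846 = n6014 := d8_2 F9782 D7846 F9855
def n7847 : Q := act 1 n5987
theorem D7847 : act 1 n5987 = n7847 := rfl
theorem F12924 : act 3 n7847 = n7238 := d6_2 (iv F9790) D7847 F11997
theorem F12925 : act 4 n7847 = n5988 := d7_2 (iv F9788) D7847 (iv D5988)
theorem F12926 : act 5 n7847 = n6193 := d8_2 (iv F9789) D7847 F10205
def n7848 : Q := act 0 n5988
theorem D7848 : act 0 n5988 = n7848 := rfl
theorem F12927 : act 1 n7848 = n6003 := d0_2 D5988 D7848 F9831 F7333 (iv F7297)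
theorem F12928 : act 2 n7848 = n6091 := d1_2 F12875 D7848 (iv F12873)
theorem F12929 : act 3 n7848 = n6035 := d2_2 (iv F9791) D7848 (iv D6035)
theorem F12930 : act 5 n7848 = n5989 := d4_2 (iv F9792) D7848 (iv D5989)
def n7849 : Q := act 3 n5989
theorem D7849 : act 3 n5989 = n7849 := rfl
theorem F12931 : act 0 n7849 = n5990 := d2_1 D7849 (iv D5990) D5989
theorem F12932 : act 1 n7849 = n6002 := d6_1 D7849 (iv D6002) (iv F9793)
theorem F12933 : act 5 n7849 = n6035 := d13_2 F12930 D7849 (iv F12929)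
def n7850 : Q := act 4 n5990
theorem D7850 : act 4 n5990 = n7850 := rfl
theorem F12934 : act 1 n7850 = n5991 := d7_1 D7850 (iv D5991) (iv F9795)
theorem F12935 : act 3 n7850 = n6192 := d12_1 D7850 (iv D6192) (iv D4664) (iv F7300) D5990
theorem F12936 : act 5 n7850 = n7237 := d14_2 (iv F9796) D7850 (iv D7237) F9905 (iv D6036)
def n7851 : Q := act 2 n5992
theorem D7851 : act 2 n5992 = n7851 := rfl
theorem F12937 : act 1 n7851 = n6004 := d5_1 D7851 (iv D6004) F7332 (iv F7308) (iv F9801)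
theorem F12938 : act 5 n7851 = n5995 := d11_2 (iv F9802) D7851 (iv D5995)
def n7852 : Q := act 4 n5992
theorem D7852 : act 4 n5992 = n7852 := rfl
theorem F12939 : act 1 n7852 = n5993 := d7_1 D7852 (iv D5993) (iv F9801)
theorem F12940 : act 3 n7852 = n6055 := d12_1 D7852 (iv D6055) (iv D4558) (iv F7305) D5992
theorem F12941 : act 5 n7852 = n6303 := d14_2 (iv F9802) D7852 (iv D6303) (iv D4755) (iv F7314)
def n7853 : Q := act 2 n5994
theorem D7853 : act 2 n5994 = n7853 := rfl
theorem F12942 : act 0 n7853 = n5995 := d1_1 D7853 (iv D5995) (iv F9807)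
theorem F12943 : act 4 n7853 = n6298 := d10_2 (iv F9809) D7853 (iv D6298)
def n7854 : Q := act 1 n5995
theorem D7854 : act 1 n5995 = n7854 := rfl
theorem F12944 : act 2 n7854 = n5996 := d5_2 D5995 D7854 (iv D5996) (iv D4509) (iv F7313)
theorem F12945 : act 4 n7854 = n6300 := d7_2 (iv F9810) D7854 (iv D6300)
theorem F12946 : act 5 n7854 = n6004 := d8_2 F12938 D7854 (iv F12937)
def n7855 : Q := act 3 n5995
theorem D7855 : act 3 n5995 = n7855 := rfl
def n7856 : Q := act 0 n5996
theorem D7856 : act 0 n5996 = n7856 := rfl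
theorem F12947 : act 1 n7856 = n6035 := d0_2 D5996 D7856 (iv D6035) (iv D4541) (iv F7315)
theorem F12948 : act 3 n7856 = n6003 := d2_2 (iv F9811) D7856 F9831
theorem F12949 : act 4 n7856 = n6304 := d3_2 (iv F9812) D7856 (iv D6304)
theorem F12950 : act 5 n7856 = n6002 := d4_2 (iv F9813) D7856 F9830
def n7857 : Q := act 3 n5997
theorem D7857 : act 3 n5997 = n7857 := rfl
theorem F12951 : act 0 n7857 = n5998 := d2_1 D7857 (iv D5998) D5997
theorem F12952 : act 1 n7857 = n6189 := d6_1 D7857 (iv D6189) (iv F9814)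
theorem F12953 : act 5 n6207 = n7857 := d4_0 F12951 (iv F9818) D6207
def n7858 : Q := act 5 n5997
theorem D7858 : act 5 n5997 = n7858 := rfl
theorem F12954 : act 0 n7858 = n5999 := d4_1 D7858 (iv D5999) D5997
theorem F12955 : act 1 n7858 = n6190 := d8_1 D7858 (iv D6190) (iv F9814)
theorem F12956 : act 2 n7858 = n6018 := d11_1 D7858 (iv D6018) (iv F9815)
theorem F12957 : act 3 n7858 = n6207 := d13_1 D7858 F12953 (iv D7857)
def n7859 : Q := act 2 n5998
theorem D7859 : act 2 n5998 = n7859 := rfl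
theorem F12958 : act 1 n7859 = n6203 := d5_1 D7859 F10225 F7612 (iv F7322) (iv F9817)
theorem F12959 : act 5 n7859 = n6200 := d11_2 F9818 D7859 F10223
def n7860 : Q := act 4 n5998
theorem D7860 : act 4 n5998 = n7860 := rfl
theorem F12960 : act 1 n7860 = n6000 := d7_1 D7860 (iv D6000) (iv F9817)
theorem F12961 : act 3 n7860 = n6005 := d12_1 D7860 (iv D6005) (iv D4515) (iv F7320) D5998
theorem F12962 : act 5 n7860 = n7100 := d14_2 F9818 D7860 (iv D7100) F10233 (iv D6208)
def n7861 : Q := act 4 n5999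
theorem D7861 : act 4 n5999 = n7861 := rfl
theorem F12963 : act 1 n7861 = n6001 := d7_1 D7861 (iv D6001) (iv F9819)
theorem F12964 : act 2 n7861 = n6022 := d10_1 D7861 (iv D6022) (iv F9820)
theorem F12965 : act 3 n7861 = n7070 := d12_1 D7861 F11720 F10232 (iv D6208) (iv F9821)
theorem F12966 : act 5 n7861 = n6006 := d14_2 D5999 D7861 (iv D6006) (iv D4516) (iv F7320)
def n7862 : Q := act 2 n6002
theorem D7862 : act 2 n6002 = n7862 := rfl
theorem F12967 : act 0 n7862 = n6004 := d1_1 D7862 (iv D6004) (iv F9830)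
theorem F12968 : act 3 n7862 = n6042 := d15_1 D7862 (iv D6042) (iv D4549) F5464 (iv F5442) (iv F7334) (iv F9811) F9813 (iv F9830)
def n7863 : Q := act 4 n6002
theorem D7863 : act 4 n6002 = n7863 := rfl
theorem F12969 : act 0 n7863 = n6005 := d3_1 D7863 (iv D6005) (iv F9830)
def n7864 : Q := act 4 n6003
theorem D7864 : act 4 n6003 = n7864 := rfl
theorem F12970 : act 0 n7864 = n6006 := d3_1 D7864 (iv D6006) (iv F9831)
theorem F12971 : act 2 n7864 = n6028 := d10_1 D7864 (iv D6028) (iv F9832)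
def n7865 : Q := act 3 n6004
theorem D7865 : act 3 n6004 = n7865 := rfl
theorem F12972 : act 0 n7865 = n6042 := d2_1 D7865 (iv F12968) F12967
theorem F12973 : act 2 n7865 = n6041 := d15_2 D6004 D7865 (iv D6041) F7397 (iv F7368) (iv F9832) (iv F12948) F12950 F9830
def n7866 : Q := act 4 n6004
theorem D7866 : act 4 n6004 = n7866 := rfl
theorem F12974 : act 2 n7866 = n6005 := d10_1 D7866 (iv D6005) D6004
def n7867 : Q := act 5 n6005
theorem D7867 : act 5 n6005 = n7867 := rfl
theorem F12975 : act 1 n7867 = n6007 := d8_1 D7867 (iv D6007) (iv F9833)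
theorem F12976 : act 3 n7867 = n7100 := d13_1 D7867 (iv F12962) F12961
theorem F12977 : act 4 n7867 = n6306 := d14_1 D7867 (iv D6306) (iv F9812) F9813 D6005
def n7868 : Q := act 3 n6006
theorem D7868 : act 3 n6006 = n7868 := rfl
theorem F12978 : act 1 n7868 = n6008 := d6_1 D7868 (iv D6008) (iv F9834)
theorem F12979 : act 4 n7868 = n6305 := d12_2 D6006 D7868 (iv D6305) (iv F9812) F9811
theorem F12980 : act 5 n7868 = n7070 := d13_2 F12966 D7868 (iv F12965)
def n7869 : Q := act 0 n6009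
theorem D7869 : act 0 n6009 = n7869 := rfl
theorem F12981 : act 1 n7869 = n6144 := d0_2 D6009 D7869 (iv D6144) (iv D4627) (iv F7336)
theorem F12982 : act 2 n7869 = n6013 := d1_2 (iv F9844) D7869 (iv D6013)
theorem F12983 : act 4 n7869 = n6139 := d3_2 (iv F9845) D7869 (iv D6139)
def n7870 : Q := act 3 n6009
theorem D7870 : act 3 n6009 = n7870 := rfl
theorem F12984 : act 1 n7870 = n6010 := d6_1 D7870 (iv D6010) D6009
def n7871 : Q := act 5 n6009
theorem D7871 : act 5 n6009 = n7871 := rfl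
theorem F12985 : act 1 n7871 = n6011 := d8_1 D7871 (iv D6011) D6009
theorem F12986 : act 2 n7871 = n6015 := d11_1 D7871 (iv D6015) (iv F9844)
def n7872 : Q := act 2 n6010
theorem D7872 : act 2 n6010 = n7872 := rfl
theorem F12987 : act 0 n7872 = n6147 := d1_1 D7872 (iv D6147) (iv F9846)
theorem F12988 : act 3 n7872 = n6011 := d9_2 D6010 D7872 F9848 F7340 F5430 (iv F5574) (iv F7542) (iv F10117) (iv D6147) (iv D4628) (iv D3439) (iv D2529) (iv F3987) D3357 D4519
theorem F12989 : act 5 n6010 = n7872 := d13_0 F12988 (iv D6011) D6010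
def n7873 : Q := act 4 n6010
theorem D7873 : act 4 n6010 = n7873 := rfl
theorem F12990 : act 0 n7873 = n6148 := d3_1 D7873 (iv D6148) (iv F9846)
theorem F12991 : act 3 n7873 = n6142 := d12_1 D7873 (iv D6142) (iv D4624) (iv F7337) D6010
def n7874 : Q := act 4 n6011
theorem D7874 : act 4 n6011 = n7874 := rfl
theorem F12992 : act 0 n7874 = n6149 := d3_1 D7874 (iv D6149) (iv F9847)
theorem F12993 : act 2 n7874 = n6012 := d10_1 D7874 (iv D6012) (iv F9848)
theorem F12994 : act 5 n7874 = n6143 := d14_2 D6011 D7874 (iv D6143) (iv D4625) (iv F7337)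
def n7875 : Q := act 3 n6013
theorem D7875 : act 3 n6013 = n7875 := rfl
theorem F12995 : act 0 n7875 = n6014 := d2_1 D7875 (iv D6014) D6013
theorem F12996 : act 1 n7875 = n6168 := d6_1 D7875 (iv D6168) (iv F9853)
theorem F12997 : act 4 n7875 = n7240 := d12_2 (iv F9854) D7875 (iv D7240) F9085 (iv F7579)
def n7876 : Q := act 5 n6013
theorem D7876 : act 5 n6013 = n7876 := rfl
theorem F12998 : act 0 n7876 = n6015 := d4_1 D7876 (iv D6015) D6013
theorem F12999 : act 1 n7876 = n6169 := d8_1 D7876 (iv D6169) (iv F9853)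
def n7877 : Q := act 2 n6014
theorem D7877 : act 2 n6014 = n7877 := rfl
theorem F13000 : act 4 n7877 = n7241 := d10_2 (iv F9856) D7877 (iv D7241)
def n7878 : Q := act 4 n6015
theorem D7878 : act 4 n6015 = n7878 := rfl
theorem F13001 : act 1 n7878 = n6016 := d7_1 D7878 (iv D6016) (iv F9857)
theorem F13002 : act 5 n7878 = n6162 := d14_2 D6015 D7878 F10152 F7577 (iv F7341)
def n7879 : Q := act 3 n6016
theorem D7879 : act 3 n6016 = n7879 := rfl
theorem F13003 : act 0 n7879 = n6174 := d2_1 D7879 (iv D6174) (iv F9858)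
theorem F13004 : act 2 n7879 = n6221 := d9_1 D7879 (iv D6221) (iv D4686) (iv D3483) F4131 (iv F4117) (iv F5615) D4658 D6182 F10194 F7705 F5697 (iv F5587) (iv F7347) (iv F9859)
theorem F13005 : act 4 n7879 = n6102 := d12_2 D6016 D7879 (iv D6102) (iv F9781) F9780
theorem F13006 : act 5 n7879 = n6163 := d13_2 (iv F9860) D7879 (iv D6163)
def n7880 : Q := act 2 n6017
theorem D7880 : act 2 n6017 = n7880 := rfl
theorem F13007 : act 0 n7880 = n6019 := d1_1 D7880 (iv D6019) (iv F9861)
def n7881 : Q := act 4 n6017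
theorem D7881 : act 4 n6017 = n7881 := rfl
theorem F13008 : act 0 n7881 = n6020 := d3_1 D7881 (iv D6020) (iv F9861)
theorem F13009 : act 1 n7881 = n6095 := d7_1 D7881 (iv F12913) F12912
theorem F13010 : act 3 n7881 = n6027 := d12_1 D7881 (iv D6027) (iv D4532) (iv F7349) D6017
theorem F13011 : act 5 n7030 = n7881 := d13_0 F13010 F9885 D7030
def n7882 : Q := act 5 n6017
theorem D7882 : act 5 n6017 = n7882 := rfl
theorem F13012 : act 0 n7882 = n6021 := d4_1 D7882 (iv D6021) (iv F9861)
theorem F13013 : act 3 n7882 = n6018 := d13_1 D7882 (iv D6018) D6017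
def n7883 : Q := act 4 n6018
theorem D7883 : act 4 n6018 = n7883 := rfl
theorem F13014 : act 0 n7883 = n6022 := d3_1 D7883 (iv D6022) (iv F9862)
theorem F13015 : act 1 n7883 = n6094 := d7_1 D7883 (iv F12916) F12915
theorem F13016 : act 5 n7883 = n6028 := d14_2 D6018 D7883 (iv D6028) (iv D4533) (iv F7349)
theorem F13017 : act 3 n7029 = n7883 := d13_3 F13016 F9888 D7029
def n7884 : Q := act 1 n6019
theorem D7884 : act 1 n6019 = n7884 := rfl
theorem F13018 : act 2 n7884 = n6023 := d5_2 D6019 D7884 (iv D6023) (iv D4528) (iv F7350)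
theorem F13019 : act 5 n6170 = n7884 := d11_0 F13018 F9872 D6170
def n7885 : Q := act 3 n6019
theorem D7885 : act 3 n6019 = n7885 := rfl
def n7886 : Q := act 4 n6019
theorem D7886 : act 4 n6019 = n7886 := rfl
theorem F13020 : act 2 n7886 = n6020 := d10_1 D7886 (iv D6020) D6019
theorem F13021 : act 5 n7035 = n7886 := d11_0 F13020 (iv F9865) D7035
def n7887 : Q := act 5 n6019
theorem D7887 : act 5 n6019 = n7887 := rfl
theorem F13022 : act 1 n7887 = n6170 := d8_1 D7887 F13019 (iv D7884)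
theorem F13023 : act 2 n7887 = n6021 := d11_1 D7887 (iv D6021) D6019
def n7888 : Q := act 4 n6021
theorem D7888 : act 4 n6021 = n7888 := rfl
theorem F13024 : act 1 n7888 = n6025 := d7_1 D7888 (iv D6025) (iv F9866)
theorem F13025 : act 3 n7888 = n7013 := d12_1 D7888 F11636 F9870 (iv D6022) (iv F9867)
theorem F13026 : act 5 n7888 = n7012 := d14_2 D6021 D7888 F11634 F9865 (iv D6020)
def n7889 : Q := act 0 n6023
theorem D7889 : act 0 n6023 = n7889 := rfl
theorem F13027 : act 3 n7889 = n6169 := d2_2 (iv F9871) D7889 F10167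
theorem F13028 : act 5 n7889 = n6168 := d4_2 (iv F9872) D7889 F10166
def n7890 : Q := act 4 n6023
theorem D7890 : act 4 n6023 = n7890 := rfl
theorem F13029 : act 1 n7890 = n6024 := d7_1 D7890 (iv D6024) D6023
theorem F13030 : act 5 n7036 = n7890 := d8_0 F13029 (iv F9875) D7036
def n7891 : Q := act 3 n6024
theorem D7891 : act 3 n6024 = n7891 := rfl
theorem F13031 : act 0 n7891 = n6102 := d2_1 D7891 (iv D6102) (iv F9873)
theorem F13032 : act 4 n7891 = n6174 := d12_2 D6024 D7891 (iv D6174) (iv D4651) (iv F7352)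
theorem F13033 : act 5 n7891 = n6082 := d13_2 F9875 D7891 F10004
theorem F13034 : act 2 n7891 = n6074 := d15_2 (iv F9874) D7891 (iv D6074) F7452 F5518 (iv F5535) D4586 F7478 (iv F7354)
def n7892 : Q := act 4 n6026
theorem D7892 : act 4 n6026 = n7892 := rfl
theorem F13035 : act 0 n7892 = n6029 := d3_1 D7892 (iv D6029) (iv F9880)
theorem F13036 : act 1 n7892 = n7713 := d7_1 D7892 (iv D7713) F9882
theorem F13037 : act 2 n7892 = n6027 := d10_1 D7892 (iv D6027) D6026
theorem F13038 : act 5 n7892 = n7020 := d14_2 (iv F9881) D7892 (iv D7020) (iv D5335) (iv F7398)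
def n7893 : Q := act 3 n6029
theorem D7893 : act 3 n6029 = n7893 := rfl
theorem F13039 : act 1 n7893 = n6045 := d6_1 D7893 (iv D6045) (iv F9889)
theorem F13040 : act 5 n7893 = n7024 := d13_2 (iv F9891) D7893 (iv D7024)
def n7894 : Q := act 5 n6031
theorem D7894 : act 5 n6031 = n7894 := rfl
theorem F13041 : act 0 n7894 = n6034 := d4_1 D7894 (iv D6034) (iv F9896)
theorem F13042 : act 1 n7894 = n6299 := d8_1 D7894 (iv D6299) (iv F9897)
theorem F13043 : act 3 n7894 = n6038 := d13_1 D7894 (iv D6038) (iv F9898)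
def n7895 : Q := act 0 n6032
theorem D7895 : act 0 n6032 = n7895 := rfl
theorem F13044 : act 2 n7895 = n6035 := d1_2 (iv F9899) D7895 (iv D6035)
def n7896 : Q := act 4 n6032
theorem D7896 : act 4 n6032 = n7896 := rfl
theorem F13045 : act 1 n7896 = n6033 := d7_1 D7896 (iv D6033) D6032
theorem F13046 : act 2 n7896 = n6036 := d10_1 D7896 (iv D6036) (iv F9899)
theorem F13047 : act 5 n7236 = n7896 := d11_0 F13046 (iv F9905) D7236
def n7897 : Q := act 3 n6033
theorem D7897 : act 3 n6033 = n7897 := rfl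
def n7898 : Q := act 5 n6033
theorem D7898 : act 5 n6033 = n7898 := rfl
theorem F13048 : act 1 n7898 = n7236 := d8_1 D7898 F13047 F13045
theorem F13049 : act 2 n7898 = n6034 := d11_1 D7898 (iv D6034) (iv F9900)
def n7899 : Q := act 4 n6035
theorem D7899 : act 4 n6035 = n7899 := rfl
theorem F13050 : act 0 n7899 = n6036 := d3_1 D7899 (iv D6036) D6035
theorem F13051 : act 1 n7899 = n6304 := d7_1 D7899 (iv F12949) F12947
theorem F13052 : act 3 n7235 = n7899 := d2_0 F13050 (iv F9904) (iv F11995)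
theorem F13053 : act 5 n7234 = n7899 := d4_0 F13050 (iv F9905) (iv F11994)
def n7900 : Q := act 3 n6037
theorem D7900 : act 3 n6037 = n7900 := rfl
theorem F13054 : act 0 n7900 = n6039 := d2_1 D7900 (iv D6039) (iv F9906)
theorem F13055 : act 1 n7900 = n6245 := d6_1 D7900 (iv D6245) (iv F9907)
theorem F13056 : act 4 n7900 = n6039 := d12_2 D6037 D7900 (iv D6039) (iv D4546) (iv F7388)
def n7901 : Q := act 5 n6037
theorem D7901 : act 5 n6037 = n7901 := rfl
theorem F13057 : act 0 n7901 = n6040 := d4_1 D7901 (iv D6040) (iv F9906)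
theorem F13058 : act 1 n7901 = n6246 := d8_1 D7901 (iv D6246) (iv F9907)
theorem F13059 : act 2 n7901 = n6038 := d11_1 D7901 (iv D6038) (iv F9908)
theorem F13060 : act 4 n7901 = n6124 := d14_1 D7901 (iv D6124) (iv D4610) (iv F7389) D6037
def n7902 : Q := act 2 n6039
theorem D7902 : act 2 n6039 = n7902 := rfl
def n7903 : Q := act 5 n6039
theorem D7903 : act 5 n6039 = n7903 := rfl
theorem F13061 : act 1 n7903 = n6248 := d8_1 D7903 (iv D6248) (iv F9912)
theorem F13062 : act 3 n7903 = n6040 := d13_1 D7903 (iv D6040) D6039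
def n7904 : Q := act 4 n6041
theorem D7904 : act 4 n6041 = n7904 := rfl
theorem F13063 : act 0 n7904 = n6043 := d3_1 D7904 (iv D6043) (iv F9916)
theorem F13064 : act 1 n7904 = n7711 := d7_1 D7904 (iv D7711) (iv F9917)
theorem F13065 : act 3 n7904 = n7019 := d12_1 D7904 (iv D7019) (iv D5334) (iv F7398) D6041
def n7905 : Q := act 4 n6042
theorem D7905 : act 4 n6042 = n7905 := rfl
theorem F13066 : act 2 n7905 = n6043 := d10_1 D7905 (iv D6043) D6042
def n7906 : Q := act 5 n6043
theorem D7906 : act 5 n6043 = n7906 := rfl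
theorem F13067 : act 1 n7906 = n6044 := d8_1 D7906 (iv D6044) (iv F9918)
theorem F13068 : act 3 n7906 = n7023 := d13_1 D7906 (iv D7023) (iv F9919)
def n7907 : Q := act 2 n6045
theorem D7907 : act 2 n6045 = n7907 := rfl
theorem F13069 : act 0 n7907 = n7727 := d1_1 D7907 (iv D7727) (iv F9922)
theorem F13070 : act 3 n7907 = n7025 := d9_2 D6045 D7907 (iv D7025) (iv D5340) F6575 F4826 (iv F5341) D4432 D5897 (iv F12762) (iv D7727) (iv D5889) F7211 (iv F5471) (iv F7403)
theorem F13071 : act 5 n7907 = n7025 := d11_2 (iv F9923) D7907 (iv D7025)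
def n7908 : Q := act 0 n6046
theorem D7908 : act 0 n6046 = n7908 := rfl
theorem F13072 : act 1 n7908 = n6077 := d0_2 D6046 D7908 F9999 F7458 (iv F7405)
theorem F13073 : act 2 n7908 = n7713 := d1_2 (iv F9924) D7908 F12737
theorem F13074 : act 4 n7908 = n6048 := d3_2 (iv F9925) D7908 (iv D6048)
theorem F13075 : act 5 n7908 = n6251 := d4_2 (iv F9926) D7908 F10316
def n7909 : Q := act 3 n6046
theorem D7909 : act 3 n6046 = n7909 := rfl
theorem F13076 : act 1 n7909 = n6047 := d6_1 D7909 (iv D6047) D6046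
theorem F13077 : act 4 n7909 = n6118 := d12_2 (iv F9925) D7909 (iv D6118) (iv D4606) (iv F7409)
theorem F13078 : act 5 n7909 = n6255 := d13_2 (iv F9926) D7909 (iv D6255)
def n7910 : Q := act 2 n6047
theorem D7910 : act 2 n6047 = n7910 := rfl
theorem F13079 : act 0 n7910 = n6082 := d1_1 D7910 (iv D6082) (iv F9927)
theorem F13080 : act 3 n7910 = n6090 := d9_2 D6047 D7910 (iv D6090) (iv D4586) F5535 (iv F5518) (iv F7452) D6074 (iv F13034) (iv D7891) F9874 F7355 F5444 D3384 D4552
theorem F13081 : act 4 n7910 = n6120 := d10_2 (iv F9928) D7910 (iv D6120)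
theorem F13082 : act 5 n7910 = n6102 := d11_2 (iv F9929) D7910 F10032
def n7911 : Q := act 2 n6049
theorem D7911 : act 2 n6049 = n7911 := rfl
theorem F13083 : act 0 n7911 = n6050 := d1_1 D7911 (iv D6050) (iv F9934)
theorem F13084 : act 5 n7911 = n6111 := d11_2 (iv F9936) D7911 F10048
def n7912 : Q := act 4 n6049
theorem D7912 : act 4 n6049 = n7912 := rfl
theorem F13085 : act 0 n7912 = n6051 := d3_1 D7912 (iv D6051) (iv F9934)
theorem F13086 : act 1 n7912 = n6076 := d7_1 D7912 (iv D6076) (iv F9935)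
theorem F13087 : act 3 n7912 = n6250 := d12_1 D7912 (iv D6250) (iv D4710) (iv F7413) D6049
def n7913 : Q := act 3 n6050
theorem D7913 : act 3 n6050 = n7913 := rfl
theorem F13088 : act 1 n7913 = n6105 := d6_1 D7913 (iv D6105) (iv F9937)
theorem F13089 : act 5 n7913 = n6112 := d13_2 (iv F9938) D7913 (iv D6112)
def n7914 : Q := act 4 n6050
theorem D7914 : act 4 n6050 = n7914 := rfl
theorem F13090 : act 1 n7914 = n6106 := d7_1 D7914 (iv D6106) (iv F9937)
theorem F13091 : act 2 n7914 = n6051 := d10_1 D7914 (iv D6051) D6050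
def n7915 : Q := act 5 n6051
theorem D7915 : act 5 n6051 = n7915 := rfl
theorem F13092 : act 1 n7915 = n6052 := d8_1 D7915 (iv D6052) (iv F9939)
theorem F13093 : act 3 n7915 = n6254 := d13_1 D7915 (iv D6254) (iv F9940)
theorem F13094 : act 4 n7915 = n6119 := d14_1 D7915 (iv D6119) (iv D4606) (iv F7415) D6051
def n7916 : Q := act 2 n6053
theorem D7916 : act 2 n6053 = n7916 := rfl
theorem F13095 : act 0 n7916 = n6054 := d1_1 D7916 (iv D6054) (iv F9945)
theorem F13096 : act 5 n7916 = n6057 := d11_2 (iv F9947) D7916 (iv D6057)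
def n7917 : Q := act 4 n6053
theorem D7917 : act 4 n6053 = n7917 := rfl
theorem F13097 : act 0 n7917 = n6055 := d3_1 D7917 (iv D6055) (iv F9945)
theorem F13098 : act 1 n7917 = n6104 := d7_1 D7917 (iv D6104) (iv F9946)
def n7918 : Q := act 3 n6054
theorem D7918 : act 3 n6054 = n7918 := rfl
theorem F13099 : act 1 n7918 = n6078 := d6_1 D7918 (iv D6078) (iv F9948)
theorem F13100 : act 5 n7918 = n6060 := d13_2 (iv F9949) D7918 (iv D6060)
def n7919 : Q := act 4 n6054
theorem D7919 : act 4 n6054 = n7919 := rfl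
theorem F13101 : act 1 n7919 = n6079 := d7_1 D7919 (iv D6079) (iv F9948)
theorem F13102 : act 2 n7919 = n6055 := d10_1 D7919 (iv D6055) D6054
def n7920 : Q := act 5 n6055
theorem D7920 : act 5 n6055 = n7920 := rfl
theorem F13103 : act 1 n7920 = n6056 := d8_1 D7920 (iv D6056) (iv F9950)
theorem F13104 : act 3 n7920 = n6303 := d13_1 D7920 (iv F12941) F12940
theorem F13105 : act 4 n7920 = n6062 := d14_1 D7920 (iv D6062) (iv D4562) (iv F7423) D6055
def n7921 : Q := act 1 n6057
theorem D7921 : act 1 n6057 = n7921 := rfl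
theorem F13106 : act 2 n7921 = n6108 := d5_2 D6057 D7921 (iv D6108) (iv D4599) (iv F7427)
def n7922 : Q := act 3 n6057
theorem D7922 : act 3 n6057 = n7922 := rfl
theorem F13107 : act 0 n7922 = n6060 := d2_1 D7922 (iv D6060) (iv F9955)
theorem F13108 : act 2 n7922 = n7918 := d15_2 D6057 D7922 (iv D7918) (iv D6054) (iv D4558) F5487 D4558 F7423 (iv F7426)
def n7923 : Q := act 4 n6057
theorem D7923 : act 4 n6057 = n7923 := rfl
theorem F13109 : act 0 n7923 = n6061 := d3_1 D7923 (iv D6061) (iv F9955)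
theorem F13110 : act 2 n7923 = n6058 := d10_1 D7923 (iv D6058) D6057
def n7924 : Q := act 5 n6058
theorem D7924 : act 5 n6058 = n7924 := rfl
theorem F13111 : act 0 n7924 = n6062 := d4_1 D7924 (iv D6062) (iv F9956)
theorem F13112 : act 1 n7924 = n6110 := d8_1 D7924 (iv D6110) (iv F9957)
theorem F13113 : act 3 n7924 = n6067 := d13_1 D7924 (iv D6067) (iv F9958)
def n7925 : Q := act 0 n6059
theorem D7925 : act 0 n6059 = n7925 := rfl
theorem F13114 : act 2 n7925 = n6063 := d1_2 (iv F9959) D7925 (iv D6063)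
theorem F13115 : act 5 n7925 = n6075 := d4_2 (iv F9960) D7925 F9997
theorem F13116 : act 3 n6096 = n7925 := d13_3 F13115 (iv F12902) F12901
def n7926 : Q := act 3 n6059
theorem D7926 : act 3 n6059 = n7926 := rfl
theorem F13117 : act 0 n7926 = n6096 := d2_1 D7926 F13116 (iv D7925)
theorem F13118 : act 1 n7926 = n6060 := d6_1 D7926 (iv D6060) D6059
theorem F13119 : act 2 n7926 = n6092 := d9_1 D7926 (iv D6092) (iv D4587) (iv D3411) (iv F5520) D4573 D6075 (iv F12902) (iv D7835) (iv D5977) F7276 F5397 (iv F5523) (iv F7430) (iv F9959)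
theorem F13120 : act 5 n7926 = n6078 := d13_2 (iv F9960) D7926 (iv D6078)
def n7927 : Q := act 4 n6059
theorem D7927 : act 4 n6059 = n7927 := rfl
theorem F13121 : act 1 n7927 = n6061 := d7_1 D7927 (iv D6061) D6059
theorem F13122 : act 2 n7927 = n6064 := d10_1 D7927 (iv D6064) (iv F9959)
def n7928 : Q := act 2 n6060
theorem D7928 : act 2 n6060 = n7928 := rfl
theorem F13123 : act 0 n7928 = n7918 := d1_1 D7928 (iv F13108) F13107
theorem F13124 : act 5 n7928 = n7922 := d11_2 F13100 D7928 F13108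
theorem F13125 : act 3 n7928 = n7916 := d15_3 D4561 D6060 D7928 (iv D7916) (iv D6053) F7420 D6053 F9947 F7426
def n7929 : Q := act 4 n6060
theorem D7929 : act 4 n6060 = n7929 := rfl
def n7930 : Q := act 3 n6061
theorem D7930 : act 3 n6061 = n7930 := rfl
def n7931 : Q := act 5 n6061
theorem D7931 : act 5 n6061 = n7931 := rfl
theorem F13126 : act 2 n7931 = n6062 := d11_1 D7931 (iv D6062) (iv F9961)
def n7932 : Q := act 4 n6063
theorem D7932 : act 4 n6063 = n7932 := rfl
theorem F13127 : act 0 n7932 = n6064 := d3_1 D7932 (iv D6064) D6063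
theorem F13128 : act 1 n7932 = n6117 := d7_1 D7932 (iv D6117) (iv F9964)
def n7933 : Q := act 3 n6064
theorem D7933 : act 3 n6064 = n7933 := rfl
theorem F13129 : act 1 n7933 = n6065 := d6_1 D7933 (iv D6065) (iv F9967)
theorem F13130 : act 4 n7933 = n6081 := d12_2 D6064 D7933 (iv D6081) (iv D4577) (iv F7430)
def n7934 : Q := act 5 n6064
theorem D7934 : act 5 n6064 = n7934 := rfl
theorem F13131 : act 1 n7934 = n6066 := d8_1 D7934 (iv D6066) (iv F9967)
theorem F13132 : act 4 n7934 = n6080 := d14_1 D7934 (iv D6080) (iv D4576) (iv F7431) D6064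
def n7935 : Q := act 2 n6065
theorem D7935 : act 2 n6065 = n7935 := rfl
theorem F13133 : act 0 n7935 = n6120 := d1_1 D7935 (iv D6120) (iv F9968)
theorem F13134 : act 3 n7935 = n6133 := d9_2 D6065 D7935 F10082 F7519 F5561 (iv F5549) (iv F7501) (iv F10061) F10060 (iv D4689) F5644 F4133 (iv F4036) (iv F5500) (iv F7433)
theorem F13135 : act 4 n7935 = n6082 := d10_2 (iv F9969) D7935 (iv D6082)
theorem F13136 : act 5 n6132 = n7935 := d14_0 F13135 (iv F13033) F13032 F10178 (iv F10080)
def n7936 : Q := act 5 n6065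
theorem D7936 : act 5 n6065 = n7936 := rfl
theorem F13137 : act 0 n7936 = n6121 := d4_1 D7936 (iv D6121) (iv F9968)
theorem F13138 : act 2 n7936 = n6132 := d11_1 D7936 F13136 (iv D7935)
theorem F13139 : act 3 n7936 = n6066 := d13_1 D7936 (iv D6066) D6065
theorem F13140 : act 4 n7936 = n6182 := d14_1 D7936 F10193 (iv F9995) F9996 (iv F9969)
def n7937 : Q := act 2 n6068
theorem D7937 : act 2 n6068 = n7937 := rfl
theorem F13141 : act 0 n7937 = n6070 := d1_1 D7937 (iv D6070) (iv F9976)
theorem F13142 : act 5 n7937 = n6262 := d11_2 F9978 D7937 F10332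
theorem F13143 : act 3 n7937 = n7049 := d15_1 D7937 (iv D7049) (iv D5357) F6588 (iv F5530) (iv F7446) F7447 F7444 (iv F9976)
def n7938 : Q := act 4 n6068
theorem D7938 : act 4 n6068 = n7938 := rfl
theorem F13144 : act 0 n7938 = n6071 := d3_1 D7938 (iv D6071) (iv F9976)
theorem F13145 : act 1 n7938 = n6250 := d7_1 D7938 (iv D6250) (iv F9977)
theorem F13146 : act 3 n7938 = n6076 := d12_1 D7938 (iv D6076) (iv D4573) (iv F7442) D6068
def n7939 : Q := act 4 n6069
theorem D7939 : act 4 n6069 = n7939 := rfl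
theorem F13147 : act 0 n7939 = n6072 := d3_1 D7939 (iv D6072) (iv F9979)
theorem F13148 : act 1 n7939 = n6251 := d7_1 D7939 (iv D6251) (iv F9980)
theorem F13149 : act 2 n7939 = n6085 := d10_1 D7939 (iv D6085) (iv F9981)
theorem F13150 : act 5 n7939 = n6077 := d14_2 D6069 D7939 (iv D6077) (iv D4574) (iv F7442)
def n7940 : Q := act 3 n6070
theorem D7940 : act 3 n6070 = n7940 := rfl
theorem F13151 : act 0 n7940 = n7049 := d2_1 D7940 (iv F13143) F13141
theorem F13152 : act 1 n7940 = n6266 := d6_1 D7940 F10340 (iv F9983)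
theorem F13153 : act 5 n7940 = n6263 := d13_2 (iv F9984) D7940 (iv D6263)
theorem F13154 : act 2 n7940 = n7047 := d15_2 D6070 D7940 (iv D7047) F8825 (iv F7465) (iv F9981) F9982 F9978 F9976
def n7941 : Q := act 4 n6070
theorem D7941 : act 4 n6070 = n7941 := rfl
theorem F13155 : act 1 n7941 = n6269 := d7_1 D7941 (iv D6269) (iv F9983)
theorem F13156 : act 2 n7941 = n6071 := d10_1 D7941 (iv D6071) D6070
def n7942 : Q := act 5 n6071
theorem D7942 : act 5 n6071 = n7942 := rfl
theorem F13157 : act 1 n7942 = n6073 := d8_1 D7942 (iv D6073) (iv F9985)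
theorem F13158 : act 3 n7942 = n6080 := d13_1 D7942 (iv D6080) (iv F9986)
theorem F13159 : act 4 n7942 = n6275 := d14_1 D7942 (iv D6275) (iv D4729) F7444 D6071
def n7943 : Q := act 3 n6072
theorem D7943 : act 3 n6072 = n7943 := rfl
theorem F13160 : act 1 n7943 = n6074 := d6_1 D7943 (iv D6074) (iv F9987)
theorem F13161 : act 4 n7943 = n6274 := d12_2 D6072 D7943 (iv D6274) (iv D4729) (iv F7447)
theorem F13162 : act 5 n7943 = n6081 := d13_2 (iv F9989) D7943 (iv D6081)
def n7944 : Q := act 1 n6075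
theorem D7944 : act 1 n6075 = n7944 := rfl
def n7945 : Q := act 4 n6075
theorem D7945 : act 4 n6075 = n7945 := rfl
theorem F13163 : act 0 n7945 = n6079 := d3_1 D7945 (iv D6079) (iv F9997)
theorem F13164 : act 2 n7945 = n6076 := d10_1 D7945 (iv D6076) D6075
def n7946 : Q := act 5 n6076
theorem D7946 : act 5 n6076 = n7946 := rfl
theorem F13165 : act 0 n7946 = n6080 := d4_1 D7946 (iv D6080) (iv F9998)
def n7947 : Q := act 3 n6077
theorem D7947 : act 3 n6077 = n7947 := rfl
theorem F13166 : act 0 n7947 = n6081 := d2_1 D7947 (iv D6081) (iv F9999)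
def n7948 : Q := act 4 n6078
theorem D7948 : act 4 n6078 = n7948 := rfl
def n7949 : Q := act 3 n6079
theorem D7949 : act 3 n6079 = n7949 := rfl
def n7950 : Q := act 5 n6079
theorem D7950 : act 5 n6079 = n7950 := rfl
theorem F13167 : act 2 n7950 = n6080 := d11_1 D7950 (iv D6080) (iv F10001)
def n7951 : Q := act 2 n6081
theorem D7951 : act 2 n6081 = n7951 := rfl
def n7952 : Q := act 1 n6082
theorem D7952 : act 1 n6082 = n7952 := rfl
theorem F13168 : act 3 n7952 = n7036 := d6_2 (iv F10004) D7952 (iv D7036)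
def n7953 : Q := act 1 n6083
theorem D7953 : act 1 n6083 = n7953 := rfl
theorem F13169 : act 0 n7953 = n7040 := d0_1 D7953 F11674 F8816 (iv F7466) (iv F10005)
theorem F13170 : act 2 n7953 = n7026 := d5_2 D6083 D7953 (iv D7026) (iv D5341) (iv F7461)
theorem F13171 : act 5 n7953 = n7037 := d8_2 (iv F10006) D7953 F11669
theorem F13172 : act 3 n7132 = n7953 := d2_0 F13169 F11675 D7132
def n7954 : Q := act 3 n6083
theorem D7954 : act 3 n6083 = n7954 := rfl
theorem F13173 : act 0 n7954 = n6086 := d2_1 D7954 (iv D6086) (iv F10005)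
theorem F13174 : act 1 n7954 = n7132 := d6_1 D7954 F13172 (iv D7953)
theorem F13175 : act 2 n7954 = n6263 := d9_1 D7954 (iv D6263) F7694 (iv F7447) F7446 F5530 (iv F6588) D5357 D7049 (iv F13143) (iv D7937) (iv D6068) F7441 D4580 D6083
theorem F13176 : act 5 n7954 = n7047 := d13_2 (iv F10006) D7954 (iv D7047)
def n7955 : Q := act 4 n6083
theorem D7955 : act 4 n6083 = n7955 := rfl
theorem F13177 : act 0 n7955 = n6087 := d3_1 D7955 (iv D6087) (iv F10005)
theorem F13178 : act 2 n7955 = n6084 := d10_1 D7955 (iv D6084) D6083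
def n7956 : Q := act 5 n6084
theorem D7956 : act 5 n6084 = n7956 := rfl
theorem F13179 : act 0 n7956 = n6088 := d4_1 D7956 (iv D6088) (iv F10007)
theorem F13180 : act 1 n7956 = n7029 := d8_1 D7956 (iv D7029) (iv F10008)
theorem F13181 : act 3 n7956 = n6094 := d13_1 D7956 (iv D6094) (iv F10009)
theorem F13182 : act 4 n7956 = n7066 := d14_1 D7956 (iv D7066) (iv D5368) F7462 D6084
def n7957 : Q := act 3 n6085
theorem D7957 : act 3 n6085 = n7957 := rfl
theorem F13183 : act 0 n7957 = n6089 := d2_1 D7957 (iv D6089) (iv F10010)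
theorem F13184 : act 1 n7957 = n7030 := d6_1 D7957 (iv D7030) (iv F10011)
theorem F13185 : act 4 n7957 = n7065 := d12_2 D6085 D7957 (iv D7065) (iv D5368) (iv F7465)
theorem F13186 : act 5 n7957 = n6095 := d13_2 (iv F10012) D7957 (iv D6095)
def n7958 : Q := act 2 n6086
theorem D7958 : act 2 n6086 = n7958 := rfl
theorem F13187 : act 0 n7958 = n6263 := d1_1 D7958 (iv F13175) F13173
theorem F13188 : act 1 n7958 = n7123 := d5_1 D7958 (iv D7123) F8935 (iv F8833) (iv F10013)
theorem F13189 : act 3 n7958 = n6262 := d9_2 D6086 D7958 F10332 (iv F9982) F9981 F7465 (iv F8825) D7047 (iv F13154) (iv D7940) (iv D6070) (iv D4569) F5508 D3407 D4582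
theorem F13190 : act 5 n7958 = n7049 := d11_2 (iv F10014) D7958 (iv D7049)
def n7959 : Q := act 4 n6086
theorem D7959 : act 4 n6086 = n7959 := rfl
theorem F13191 : act 1 n7959 = n7057 := d7_1 D7959 (iv D7057) (iv F10013)
def n7960 : Q := act 3 n6087
theorem D7960 : act 3 n6087 = n7960 := rfl
theorem F13192 : act 1 n7960 = n7061 := d6_1 D7960 (iv D7061) (iv F10015)
def n7961 : Q := act 5 n6087
theorem D7961 : act 5 n6087 = n7961 := rfl
theorem F13193 : act 1 n7961 = n7060 := d8_1 D7961 F11705 (iv F10015)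
theorem F13194 : act 2 n7961 = n6088 := d11_1 D7961 (iv D6088) (iv F10016)
theorem F13195 : act 4 n7961 = n7052 := d14_1 D7961 (iv D7052) (iv D5358) (iv F7467) D6087
def n7962 : Q := act 2 n6089
theorem D7962 : act 2 n6089 = n7962 := rfl
theorem F13196 : act 4 n7962 = n7067 := d10_2 (iv F10021) D7962 (iv D7067)
theorem F13197 : act 5 n7962 = n6100 := d11_2 (iv F10022) D7962 (iv D6100)
def n7963 : Q := act 1 n6090
theorem D7963 : act 1 n6090 = n7963 := rfl
theorem F13198 : act 4 n7963 = n7069 := d7_2 (iv F10024) D7963 (iv D7069)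
theorem F13199 : act 5 n7963 = n6101 := d8_2 (iv F10025) D7963 (iv D6101)
def n7964 : Q := act 3 n6091
theorem D7964 : act 3 n6091 = n7964 := rfl
theorem F13200 : act 0 n7964 = n7837 := d2_1 D7964 F12904 F12873
theorem F13201 : act 1 n7964 = n6092 := d6_1 D7964 (iv D6092) D6091
def n7965 : Q := act 4 n6091
theorem D7965 : act 4 n6091 = n7965 := rfl
theorem F13202 : act 1 n7965 = n6093 := d7_1 D7965 (iv D6093) D6091
def n7966 : Q := act 4 n6092
theorem D7966 : act 4 n6092 = n7966 := rfl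
theorem F13203 : act 0 n7966 = n6097 := d3_1 D7966 (iv D6097) (iv F10026)
def n7967 : Q := act 3 n6093
theorem D7967 : act 3 n6093 = n7967 := rfl
theorem F13204 : act 0 n7967 = n6098 := d2_1 D7967 (iv D6098) (iv F10027)
def n7968 : Q := act 5 n6093
theorem D7968 : act 5 n6093 = n7968 := rfl
theorem F13205 : act 0 n7968 = n6099 := d4_1 D7968 (iv D6099) (iv F10027)
theorem F13206 : act 2 n7968 = n6094 := d11_1 D7968 (iv D6094) (iv F10028)
def n7969 : Q := act 2 n6095
theorem D7969 : act 2 n6095 = n7969 := rfl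
theorem F13207 : act 0 n7969 = n6100 := d1_1 D7969 (iv D6100) (iv F10030)
def n7970 : Q := act 1 n6096
theorem D7970 : act 1 n6096 = n7970 := rfl
theorem F13208 : act 2 n7970 = n7824 := d5_2 D6096 D7970 F12872 (iv F9769) F9768
def n7971 : Q := act 4 n6096
theorem D7971 : act 4 n6096 = n7971 := rfl
theorem F13209 : act 2 n7971 = n6097 := d10_1 D7971 (iv D6097) D6096
def n7972 : Q := act 3 n6097
theorem D7972 : act 3 n6097 = n7972 := rfl
theorem F13210 : act 4 n7972 = n6098 := d12_2 D6097 D7972 (iv D6098) (iv D4591) D4590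
def n7973 : Q := act 5 n6097
theorem D7973 : act 5 n6097 = n7973 := rfl
def n7974 : Q := act 2 n6098
theorem D7974 : act 2 n6098 = n7974 := rfl
def n7975 : Q := act 5 n6098
theorem D7975 : act 5 n6098 = n7975 := rfl
theorem F13211 : act 3 n7975 = n6099 := d13_1 D7975 (iv D6099) D6098
def n7976 : Q := act 1 n6100
theorem D7976 : act 1 n6100 = n7976 := rfl
theorem F13212 : act 2 n7976 = n6101 := d5_2 D6100 D7976 (iv D6101) (iv D4594) (iv F7484)
def n7977 : Q := act 3 n6100
theorem D7977 : act 3 n6100 = n7977 := rfl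
def n7978 : Q := act 0 n6101
theorem D7978 : act 0 n6101 = n7978 := rfl
def n7979 : Q := act 3 n6101
theorem D7979 : act 3 n6101 = n7979 := rfl
theorem F13213 : act 1 n7979 = n6102 := d6_1 D7979 (iv D6102) D6101
def n7980 : Q := act 1 n6103
theorem D7980 : act 1 n6103 = n7980 := rfl
theorem F13214 : act 3 n7980 = n6136 := d6_2 (iv F10034) D7980 (iv D6136)
theorem F13215 : act 5 n7980 = n6108 := d8_2 (iv F10035) D7980 (iv D6108)
def n7981 : Q := act 4 n6103
theorem D7981 : act 4 n6103 = n7981 := rfl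
theorem F13216 : act 0 n7981 = n6106 := d3_1 D7981 (iv D6106) (iv F10033)
theorem F13217 : act 2 n7981 = n6104 := d10_1 D7981 (iv D6104) D6103
def n7982 : Q := act 5 n6104
theorem D7982 : act 5 n6104 = n7982 := rfl
theorem F13218 : act 0 n7982 = n6107 := d4_1 D7982 (iv D6107) (iv F10036)
theorem F13219 : act 4 n7982 = n6110 := d14_1 D7982 (iv D6110) (iv D4600) (iv F7486) D6104
def n7983 : Q := act 4 n6105
theorem D7983 : act 4 n6105 = n7983 := rfl
theorem F13220 : act 0 n7983 = n6137 := d3_1 D7983 (iv D6137) (iv F10037)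
theorem F13221 : act 2 n7983 = n6135 := d10_1 D7983 (iv D6135) (iv F10038)
def n7984 : Q := act 3 n6106
theorem D7984 : act 3 n6106 = n7984 := rfl
def n7985 : Q := act 5 n6106
theorem D7985 : act 5 n6106 = n7985 := rfl
theorem F13222 : act 2 n7985 = n6107 := d11_1 D7985 (iv D6107) (iv F10040)
theorem F13223 : act 4 n7985 = n6116 := d14_1 D7985 (iv D6116) (iv D4603) (iv F7487) D6106
def n7986 : Q := act 0 n6108
theorem D7986 : act 0 n6108 = n7986 := rfl
theorem F13224 : act 1 n7986 = n6111 := d0_2 D6108 D7986 (iv D6111) (iv D4601) (iv F7490)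
theorem F13225 : act 3 n7986 = n7895 := d2_2 (iv F10043) D7986 (iv D7895)
def n7987 : Q := act 4 n6108
theorem D7987 : act 4 n6108 = n7987 := rfl
theorem F13226 : act 1 n7987 = n6109 := d7_1 D7987 (iv D6109) D6108
def n7988 : Q := act 3 n6109
theorem D7988 : act 3 n6109 = n7988 := rfl
theorem F13227 : act 0 n7988 = n6115 := d2_1 D7988 (iv D6115) (iv F10044)
theorem F13228 : act 4 n7988 = n7897 := d12_2 D6109 D7988 (iv D7897) (iv D6033) (iv F7491)
def n7989 : Q := act 5 n6109
theorem D7989 : act 5 n6109 = n7989 := rfl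
theorem F13229 : act 0 n7989 = n6116 := d4_1 D7989 (iv D6116) (iv F10044)
theorem F13230 : act 2 n7989 = n6110 := d11_1 D7989 (iv D6110) (iv F10045)
def n7990 : Q := act 3 n6111
theorem D7990 : act 3 n6111 = n7990 := rfl
theorem F13231 : act 0 n7990 = n6112 := d2_1 D7990 (iv D6112) D6111
theorem F13232 : act 1 n7990 = n7895 := d6_1 D7990 (iv F13225) F13224
theorem F13233 : act 2 n7990 = n7715 := d15_2 (iv F10048) D7990 (iv D7715) (iv D5881) (iv D4420) (iv F5482) D4555 F7415 D4605
def n7991 : Q := act 4 n6111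
theorem D7991 : act 4 n6111 = n7991 := rfl
theorem F13234 : act 0 n7991 = n6113 := d3_1 D7991 (iv D6113) D6111
theorem F13235 : act 2 n7991 = n6117 := d10_1 D7991 (iv D6117) (iv F10048)
def n7992 : Q := act 2 n6112
theorem D7992 : act 2 n6112 = n7992 := rfl
theorem F13236 : act 0 n7992 = n7715 := d1_1 D7992 (iv F13233) F13231
theorem F13237 : act 1 n7992 = n7853 := d5_1 D7992 (iv D7853) F9808 (iv F7496) (iv F10049)
theorem F13238 : act 3 n7992 = n7710 := d15_3 (iv F7494) D6112 D7992 (iv D7710) (iv D5879) (iv F7412) D6049 F9936 (iv D4605)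
def n7993 : Q := act 4 n6112
theorem D7993 : act 4 n6112 = n7993 := rfl
theorem F13239 : act 1 n7993 = n6114 := d7_1 D7993 (iv D6114) (iv F10049)
def n7994 : Q := act 3 n6113
theorem D7994 : act 3 n6113 = n7994 := rfl
theorem F13240 : act 1 n7994 = n6115 := d6_1 D7994 (iv D6115) (iv F10050)
def n7995 : Q := act 5 n6113
theorem D7995 : act 5 n6113 = n7995 := rfl
theorem F13241 : act 1 n7995 = n6116 := d8_1 D7995 (iv D6116) (iv F10050)
theorem F13242 : act 2 n7995 = n6119 := d11_1 D7995 (iv D6119) (iv F10051)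
def n7996 : Q := act 3 n6114
theorem D7996 : act 3 n6114 = n7996 := rfl
theorem F13243 : act 0 n7996 = n7897 := d2_1 D7996 (iv D7897) (iv F10052)
theorem F13244 : act 4 n7996 = n6115 := d12_2 D6114 D7996 (iv D6115) (iv D4603) D4602
def n7997 : Q := act 5 n6114
theorem D7997 : act 5 n6114 = n7997 := rfl
theorem F13245 : act 0 n7997 = n7898 := d4_1 D7997 (iv D7898) (iv F10052)
theorem F13246 : act 2 n7997 = n7894 := d11_1 D7997 (iv D7894) (iv F10053)
def n7998 : Q := act 2 n6115
theorem D7998 : act 2 n6115 = n7998 := rfl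
def n7999 : Q := act 5 n6115
theorem D7999 : act 5 n6115 = n7999 := rfl
theorem F13247 : act 3 n7999 = n6116 := d13_1 D7999 (iv D6116) D6115
def n8000 : Q := act 3 n6117
theorem D8000 : act 3 n6117 = n8000 := rfl
theorem F13248 : act 0 n8000 = n6118 := d2_1 D8000 (iv D6118) (iv F10055)
def n8001 : Q := act 5 n6117
theorem D8001 : act 5 n6117 = n8001 := rfl
theorem F13249 : act 0 n8001 = n6119 := d4_1 D8001 (iv D6119) (iv F10055)
def n8002 : Q := act 2 n6118
theorem D8002 : act 2 n6118 = n8002 := rfl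
def n8003 : Q := act 5 n6118
theorem D8003 : act 5 n6118 = n8003 := rfl
theorem F13250 : act 1 n8003 = n6121 := d8_1 D8003 (iv D6121) (iv F10056)
theorem F13251 : act 3 n8003 = n6119 := d13_1 D8003 (iv D6119) D6118
def n8004 : Q := act 1 n6120
theorem D8004 : act 1 n6120 = n8004 := rfl
theorem F13252 : act 3 n8004 = n6224 := d6_2 (iv F10058) D8004 F10270
theorem F13253 : act 5 n8004 = n6223 := d8_2 F10059 D8004 F10269
def n8005 : Q := act 4 n6121
theorem D8005 : act 4 n6121 = n8005 := rfl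
theorem F13254 : act 0 n8005 = n6182 := d3_1 D8005 (iv F13140) F13137
theorem F13255 : act 2 n8005 = n6163 := d10_1 D8005 F10154 (iv F10060)
theorem F13256 : act 3 n8005 = n6211 := d12_1 D8005 F10243 (iv F9943) F9944 (iv F10061)
theorem F13257 : act 5 n8005 = n6221 := d14_2 D6121 D8005 F10267 (iv F9929) F9928
def n8006 : Q := act 3 n6122
theorem D8006 : act 3 n6122 = n8006 := rfl
theorem F13258 : act 0 n8006 = n6767 := d2_1 D8006 (iv D6767) (iv F10062)
theorem F13259 : act 1 n8006 = n6123 := d6_1 D8006 (iv D6123) (iv F10063)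
theorem F13260 : act 4 n8006 = n6125 := d12_2 D6122 D8006 (iv D6125) (iv D4612) (iv F7504)
def n8007 : Q := act 5 n6122
theorem D8007 : act 5 n6122 = n8007 := rfl
theorem F13261 : act 0 n8007 = n6768 := d4_1 D8007 (iv D6768) (iv F10062)
theorem F13262 : act 1 n8007 = n6124 := d8_1 D8007 (iv D6124) (iv F10063)
theorem F13263 : act 2 n8007 = n6764 := d11_1 D8007 (iv D6764) (iv F10064)
theorem F13264 : act 4 n8007 = n6246 := d14_1 D8007 (iv D6246) (iv D4707) (iv F7505) D6122
def n8008 : Q := act 2 n6123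
theorem D8008 : act 2 n6123 = n8008 := rfl
theorem F13265 : act 0 n8008 = n6127 := d1_1 D8008 (iv D6127) (iv F10065)
theorem F13266 : act 4 n8008 = n6127 := d10_2 (iv F10066) D8008 (iv D6127)
def n8009 : Q := act 5 n6123
theorem D8009 : act 5 n6123 = n8009 := rfl
theorem F13267 : act 0 n8009 = n6128 := d4_1 D8009 (iv D6128) (iv F10065)
theorem F13268 : act 3 n8009 = n6124 := d13_1 D8009 (iv D6124) D6123
def n8010 : Q := act 2 n6125
theorem D8010 : act 2 n6125 = n8010 := rfl
def n8011 : Q := act 5 n6125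
theorem D8011 : act 5 n6125 = n8011 := rfl
theorem F13269 : act 1 n8011 = n6128 := d8_1 D8011 (iv D6128) (iv F10069)
theorem F13270 : act 3 n8011 = n6126 := d13_1 D8011 (iv D6126) D6125
def n8012 : Q := act 1 n6127
theorem D8012 : act 1 n6127 = n8012 := rfl
def n8013 : Q := act 3 n6127
theorem D8013 : act 3 n6127 = n8013 := rfl
def n8014 : Q := act 5 n6127
theorem D8014 : act 5 n6127 = n8014 := rfl
theorem F13271 : act 2 n8014 = n6128 := d11_1 D8014 (iv D6128) D6127
def n8015 : Q := act 4 n6128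
theorem D8015 : act 4 n6128 = n8015 := rfl
def n8016 : Q := act 1 n6129
theorem D8016 : act 1 n6129 = n8016 := rfl
theorem F13272 : act 2 n8016 = n6131 := d5_2 D6129 D8016 (iv D6131) (iv D4617) (iv F7512)
theorem F13273 : act 4 n8016 = n6165 := d7_2 (iv F10074) D8016 (iv D6165)
def n8017 : Q := act 3 n6129
theorem D8017 : act 3 n6129 = n8017 := rfl
def n8018 : Q := act 5 n6129
theorem D8018 : act 5 n6129 = n8018 := rfl
theorem F13274 : act 2 n8018 = n6130 := d11_1 D8018 (iv D6130) D6129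
theorem F13275 : act 4 n8018 = n7096 := d14_1 D8018 (iv D7096) F8890 (iv F7580) (iv F10074)
def n8019 : Q := act 0 n6131
theorem D8019 : act 0 n6131 = n8019 := rfl
theorem F13276 : act 1 n8019 = n6222 := d0_2 D6131 D8019 F10268 F7645 (iv F7516)
theorem F13277 : act 4 n8019 = n6167 := d3_2 (iv F10078) D8019 (iv D6167)
def n8020 : Q := act 3 n6131
theorem D8020 : act 3 n6131 = n8020 := rfl
theorem F13278 : act 1 n8020 = n6132 := d6_1 D8020 (iv D6132) D6131
theorem F13279 : act 4 n8020 = n6181 := d12_2 (iv F10078) D8020 (iv D6181) (iv D4656) (iv F7581)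
def n8021 : Q := act 5 n6131
theorem D8021 : act 5 n6131 = n8021 := rfl
theorem F13280 : act 1 n8021 = n6133 := d8_1 D8021 (iv D6133) D6131
theorem F13281 : act 4 n8021 = n6180 := d14_1 D8021 (iv D6180) (iv D4655) (iv F7582) (iv F10078)
def n8022 : Q := act 2 n6134
theorem D8022 : act 2 n6134 = n8022 := rfl
theorem F13282 : act 0 n8022 = n7851 := d1_1 D8022 (iv D7851) (iv F10084)
theorem F13283 : act 5 n8022 = n7853 := d11_2 (iv F10086) D8022 (iv D7853)
def n8023 : Q := act 4 n6134
theorem D8023 : act 4 n6134 = n8023 := rfl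
theorem F13284 : act 0 n8023 = n7852 := d3_1 D8023 (iv D7852) (iv F10084)
theorem F13285 : act 1 n8023 = n6135 := d7_1 D8023 (iv D6135) (iv F10085)
theorem F13286 : act 3 n8023 = n7917 := d12_1 D8023 (iv D7917) (iv D6053) (iv F7523) D6134
def n8024 : Q := act 5 n6135
theorem D8024 : act 5 n6135 = n8024 := rfl
theorem F13287 : act 0 n8024 = n6138 := d4_1 D8024 (iv D6138) (iv F10087)
theorem F13288 : act 3 n8024 = n7982 := d13_1 D8024 (iv D7982) (iv F10088)
theorem F13289 : act 4 n8024 = n7894 := d14_1 D8024 (iv D7894) (iv D6031) (iv F7526) D6135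
def n8025 : Q := act 0 n6136
theorem D8025 : act 0 n6136 = n8025 := rfl
theorem F13290 : act 2 n8025 = n7849 := d1_2 (iv F10089) D8025 F12931
theorem F13291 : act 5 n8025 = n7895 := d4_2 (iv F10090) D8025 (iv D7895)
def n8026 : Q := act 4 n6136
theorem D8026 : act 4 n6136 = n8026 := rfl
theorem F13292 : act 1 n8026 = n6137 := d7_1 D8026 (iv D6137) D6136
theorem F13293 : act 2 n8026 = n7850 := d10_1 D8026 (iv D7850) (iv F10089)
def n8027 : Q := act 3 n6137
theorem D8027 : act 3 n6137 = n8027 := rfl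
def n8028 : Q := act 5 n6137
theorem D8028 : act 5 n6137 = n8028 := rfl
theorem F13294 : act 2 n8028 = n6138 := d11_1 D8028 (iv D6138) (iv F10091)
theorem F13295 : act 4 n8028 = n7898 := d14_1 D8028 (iv D7898) (iv D6033) (iv F7527) D6137
def n8029 : Q := act 4 n6140
theorem D8029 : act 4 n6140 = n8029 := rfl
theorem F13296 : act 0 n8029 = n7160 := d3_1 D8029 (iv D7160) (iv F10099)
theorem F13297 : act 1 n8029 = n6142 := d7_1 D8029 (iv D6142) (iv F10100)
theorem F13298 : act 2 n8029 = n6837 := d10_1 D8029 (iv D6837) (iv F10101)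
def n8030 : Q := act 4 n6141
theorem D8030 : act 4 n6141 = n8030 := rfl
theorem F13299 : act 0 n8030 = n6278 := d3_1 D8030 (iv D6278) (iv F10103)
theorem F13300 : act 1 n8030 = n6143 := d7_1 D8030 (iv D6143) (iv F10104)
theorem F13301 : act 2 n8030 = n6162 := d10_1 D8030 F10152 (iv F10105)
def n8031 : Q := act 5 n6142
theorem D8031 : act 5 n6142 = n8031 := rfl
theorem F13302 : act 0 n8031 = n6153 := d4_1 D8031 (iv D6153) (iv F10107)
theorem F13303 : act 2 n8031 = n6628 := d11_1 D8031 F10940 (iv F10108)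
theorem F13304 : act 4 n8031 = n6627 := d14_1 D8031 (iv D6627) (iv D5022) F7533 D6142
def n8032 : Q := act 3 n6143
theorem D8032 : act 3 n6143 = n8032 := rfl
theorem F13305 : act 0 n8032 = n6155 := d2_1 D8032 (iv D6155) (iv F10109)
theorem F13306 : act 4 n8032 = n6626 := d12_2 D6143 D8032 (iv D6626) (iv D5022) (iv F7536)
def n8033 : Q := act 3 n6144
theorem D8033 : act 3 n6144 = n8033 := rfl
theorem F13307 : act 0 n8033 = n6145 := d2_1 D8033 (iv D6145) D6144
theorem F13308 : act 4 n8033 = n7161 := d12_2 (iv F10112) D8033 (iv D7161) (iv D5449) F7547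
def n8034 : Q := act 5 n6144
theorem D8034 : act 5 n6144 = n8034 := rfl
theorem F13309 : act 0 n8034 = n6146 := d4_1 D8034 (iv D6146) D6144
theorem F13310 : act 2 n8034 = n6157 := d11_1 D8034 (iv D6157) (iv F10111)
theorem F13311 : act 4 n8034 = n6281 := d14_1 D8034 (iv D6281) (iv D4737) (iv F7546) (iv F10112)
def n8035 : Q := act 2 n6145
theorem D8035 : act 2 n6145 = n8035 := rfl
def n8036 : Q := act 4 n6145
theorem D8036 : act 4 n6145 = n8036 := rfl
theorem F13312 : act 0 n8036 = n7161 := d3_1 D8036 (iv F13308) F13307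
theorem F13313 : act 1 n8036 = n6148 := d7_1 D8036 (iv D6148) (iv F10113)
theorem F13314 : act 3 n8036 = n6150 := d12_1 D8036 (iv D6150) (iv D4632) (iv F7541) D6145
def n8037 : Q := act 5 n6145
theorem D8037 : act 5 n6145 = n8037 := rfl
theorem F13315 : act 1 n8037 = n6147 := d8_1 D8037 (iv F10118) (iv F10113)
theorem F13316 : act 3 n8037 = n6146 := d13_1 D8037 (iv D6146) D6145
def n8038 : Q := act 4 n6147
theorem D8038 : act 4 n6147 = n8038 := rfl
theorem F13317 : act 2 n8038 = n6148 := d10_1 D8038 (iv D6148) D6147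
def n8039 : Q := act 5 n6148
theorem D8039 : act 5 n6148 = n8039 := rfl
theorem F13318 : act 3 n8039 = n6153 := d13_1 D8039 (iv D6153) (iv F10119)
def n8040 : Q := act 3 n6149
theorem D8040 : act 3 n6149 = n8040 := rfl
theorem F13319 : act 1 n8040 = n6288 := d6_1 D8040 F10373 (iv F10120)
theorem F13320 : act 5 n8040 = n6155 := d13_2 (iv F10122) D8040 (iv D6155)
def n8041 : Q := act 5 n6150
theorem D8041 : act 5 n6150 = n8041 := rfl
theorem F13321 : act 0 n8041 = n7162 := d4_1 D8041 (iv D7162) (iv F10123)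
theorem F13322 : act 1 n8041 = n6153 := d8_1 D8041 (iv D6153) (iv F10124)
theorem F13323 : act 2 n8041 = n7158 := d11_1 D8041 (iv D7158) (iv F10125)
theorem F13324 : act 4 n8041 = n6286 := d14_1 D8041 (iv D6286) (iv D4741) (iv F7550) D6150
def n8042 : Q := act 4 n6151
theorem D8042 : act 4 n6151 = n8042 := rfl
theorem F13325 : act 0 n8042 = n6828 := d3_1 D8042 (iv D6828) (iv F10126)
theorem F13326 : act 1 n8042 = n6152 := d7_1 D8042 (iv D6152) D6151
theorem F13327 : act 2 n8042 = n7155 := d10_1 D8042 (iv D7155) (iv F10127)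
def n8043 : Q := act 3 n6152
theorem D8043 : act 3 n6152 = n8043 := rfl
theorem F13328 : act 0 n8043 = n6629 := d2_1 D8043 (iv D6629) (iv F10130)
theorem F13329 : act 4 n8043 = n6615 := d12_2 D6152 D8043 (iv D6615) (iv D5013) (iv F7553)
def n8044 : Q := act 5 n6152
theorem D8044 : act 5 n6152 = n8044 := rfl
theorem F13330 : act 0 n8044 = n6628 := d4_1 D8044 F10940 (iv F10130)
theorem F13331 : act 2 n8044 = n6153 := d11_1 D8044 (iv D6153) (iv F10131)
theorem F13332 : act 4 n8044 = n6614 := d14_1 D8044 (iv D6614) (iv D5012) F7554 D6152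
def n8045 : Q := act 4 n6153
theorem D8045 : act 4 n6153 = n8045 := rfl
theorem F13333 : act 0 n8045 = n6627 := d3_1 D8045 (iv F13304) F13302
theorem F13334 : act 1 n8045 = n6286 := d7_1 D8045 (iv F13324) F13322
theorem F13335 : act 2 n8045 = n6614 := d10_1 D8045 (iv F13332) F13331
theorem F13336 : act 5 n8045 = n6154 := d14_2 D6153 D8045 (iv D6154) (iv D4635) D4634
def n8046 : Q := act 3 n6154
theorem D8046 : act 3 n6154 = n8046 := rfl
theorem F13337 : act 0 n8046 = n6626 := d2_1 D8046 (iv D6626) (iv F10132)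
theorem F13338 : act 1 n8046 = n6285 := d6_1 D8046 (iv D6285) (iv F10133)
theorem F13339 : act 4 n8046 = n6155 := d12_2 D6154 D8046 (iv D6155) (iv D4636) (iv F7558)
def n8047 : Q := act 2 n6155
theorem D8047 : act 2 n6155 = n8047 := rfl
def n8048 : Q := act 2 n6156
theorem D8048 : act 2 n6156 = n8048 := rfl
theorem F13340 : act 0 n8048 = n6158 := d1_1 D8048 (iv D6158) (iv F10136)
theorem F13341 : act 4 n8048 = n6282 := d10_2 (iv F10138) D8048 (iv D6282)
def n8049 : Q := act 5 n6156
theorem D8049 : act 5 n6156 = n8049 := rfl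
theorem F13342 : act 0 n8049 = n6159 := d4_1 D8049 (iv D6159) (iv F10136)
theorem F13343 : act 1 n8049 = n6198 := d8_1 D8049 (iv D6198) (iv F10137)
theorem F13344 : act 3 n8049 = n6157 := d13_1 D8049 (iv D6157) D6156
def n8050 : Q := act 1 n6158
theorem D8050 : act 1 n6158 = n8050 := rfl
theorem F13345 : act 2 n8050 = n6160 := d5_2 D6158 D8050 (iv D6160) (iv D4640) (iv F7563)
theorem F13346 : act 4 n8050 = n6289 := d7_2 (iv F10142) D8050 (iv D6289)
theorem F13347 : act 5 n6191 = n8050 := d11_0 F13345 F10147 D6191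
def n8051 : Q := act 3 n6158
theorem D8051 : act 3 n6158 = n8051 := rfl
def n8052 : Q := act 5 n6158
theorem D8052 : act 5 n6158 = n8052 := rfl
theorem F13348 : act 1 n8052 = n6191 := d8_1 D8052 F13347 (iv D8050)
theorem F13349 : act 2 n8052 = n6159 := d11_1 D8052 (iv D6159) D6158
def n8053 : Q := act 4 n6159
theorem D8053 : act 4 n6159 = n8053 := rfl
theorem F13350 : act 1 n8053 = n6161 := d7_1 D8053 (iv D6161) (iv F10143)
theorem F13351 : act 3 n8053 = n6270 := d12_1 D8053 (iv D6270) F7700 (iv F7566) (iv F10144)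
theorem F13352 : act 5 n8053 = n6271 := d14_2 D6159 D8053 F10346 F7703 (iv F7564)
def n8054 : Q := act 0 n6160
theorem D8054 : act 0 n6160 = n8054 := rfl
theorem F13353 : act 1 n8054 = n6207 := d0_2 D6160 D8054 (iv D6207) (iv D4674) (iv F7567)
theorem F13354 : act 3 n8054 = n6190 := d2_2 (iv F10145) D8054 F10203
theorem F13355 : act 4 n8054 = n6290 := d3_2 (iv F10146) D8054 (iv D6290)
theorem F13356 : act 5 n8054 = n6189 := d4_2 (iv F10147) D8054 F10202
def n8055 : Q := act 0 n6162
theorem D8055 : act 0 n6162 = n8055 := rfl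
theorem F13357 : act 1 n8055 = n6177 := d0_2 D6162 D8055 F10184 F7598 (iv F7574)
theorem F13358 : act 2 n8055 = n6278 := d1_2 F13301 D8055 (iv F13299)
theorem F13359 : act 4 n8055 = n6164 := d3_2 (iv F10152) D8055 (iv D6164)
def n8056 : Q := act 3 n6162
theorem D8056 : act 3 n6162 = n8056 := rfl
theorem F13360 : act 1 n8056 = n6163 := d6_1 D8056 (iv D6163) D6162
theorem F13361 : act 4 n8056 = n6223 := d12_2 (iv F10152) D8056 (iv D6223) (iv D4688) (iv F7576)
def n8057 : Q := act 3 n6165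
theorem D8057 : act 3 n6165 = n8057 := rfl
theorem F13362 : act 0 n8057 = n6216 := d2_1 D8057 (iv F12724) F12722
theorem F13363 : act 1 n8057 = n6166 := d6_1 D8057 (iv D6166) D6165
theorem F13364 : act 2 n8057 = n6212 := d9_1 D8057 (iv D6212) (iv D4679) (iv D3477) (iv F5609) D4652 D6175 F10181 (iv D4692) (iv D3488) F4135 (iv F4127) (iv F5612) (iv F7581) (iv F10159)
theorem F13365 : act 5 n8057 = n6178 := d13_2 (iv F10160) D8057 (iv D6178)
def n8058 : Q := act 4 n6166
theorem D8058 : act 4 n6166 = n8058 := rfl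
theorem F13366 : act 2 n8058 = n7242 := d10_1 D8058 (iv D7242) (iv F10161)
def n8059 : Q := act 2 n6168
theorem D8059 : act 2 n6168 = n8059 := rfl
theorem F13367 : act 0 n8059 = n6170 := d1_1 D8059 (iv D6170) (iv F10166)
def n8060 : Q := act 4 n6168
theorem D8060 : act 4 n6168 = n8060 := rfl
theorem F13368 : act 0 n8060 = n6171 := d3_1 D8060 (iv D6171) (iv F10166)
theorem F13369 : act 1 n8060 = n7240 := d7_1 D8060 (iv F12997) F12996
theorem F13370 : act 3 n8060 = n6176 := d12_1 D8060 (iv D6176) (iv D4652) (iv F7584) D6168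
def n8061 : Q := act 4 n6169
theorem D8061 : act 4 n6169 = n8061 := rfl
theorem F13371 : act 0 n8061 = n6172 := d3_1 D8061 (iv D6172) (iv F10167)
theorem F13372 : act 2 n8061 = n6199 := d10_1 D8061 (iv D6199) (iv F10168)
theorem F13373 : act 5 n8061 = n6177 := d14_2 D6169 D8061 (iv D6177) (iv D4653) (iv F7584)
def n8062 : Q := act 3 n6170
theorem D8062 : act 3 n6170 = n8062 := rfl
def n8063 : Q := act 4 n6170
theorem D8063 : act 4 n6170 = n8063 := rfl
theorem F13374 : act 2 n8063 = n6171 := d10_1 D8063 (iv D6171) D6170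
def n8064 : Q := act 5 n6171
theorem D8064 : act 5 n6171 = n8064 := rfl
theorem F13375 : act 1 n8064 = n6173 := d8_1 D8064 (iv D6173) (iv F10169)
theorem F13376 : act 3 n8064 = n6180 := d13_1 D8064 (iv D6180) (iv F10170)
theorem F13377 : act 4 n8064 = n7036 := d14_1 D8064 F13030 (iv D7890) F9872 D6171
def n8065 : Q := act 3 n6172
theorem D8065 : act 3 n6172 = n8065 := rfl
theorem F13378 : act 1 n8065 = n6174 := d6_1 D8065 (iv D6174) (iv F10171)
theorem F13379 : act 5 n8065 = n6181 := d13_2 (iv F10173) D8065 (iv D6181)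
def n8066 : Q := act 4 n6175
theorem D8066 : act 4 n6175 = n8066 := rfl
theorem F13380 : act 0 n8066 = n6179 := d3_1 D8066 (iv D6179) (iv F10180)
theorem F13381 : act 2 n8066 = n6176 := d10_1 D8066 (iv D6176) D6175
def n8067 : Q := act 5 n6176
theorem D8067 : act 5 n6176 = n8067 := rfl
theorem F13382 : act 0 n8067 = n6180 := d4_1 D8067 (iv D6180) (iv F10182)
theorem F13383 : act 1 n8067 = n7239 := d8_1 D8067 F11998 (iv F10183)
def n8068 : Q := act 3 n6177
theorem D8068 : act 3 n6177 = n8068 := rfl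
theorem F13384 : act 0 n8068 = n6181 := d2_1 D8068 (iv D6181) (iv F10184)
def n8069 : Q := act 4 n6178
theorem D8069 : act 4 n6178 = n8069 := rfl
theorem F13385 : act 0 n8069 = n6227 := d3_1 D8069 (iv D6227) (iv F10186)
theorem F13386 : act 1 n8069 = n7213 := d7_1 D8069 (iv D7213) (iv F10187)
theorem F13387 : act 2 n8069 = n6225 := d10_1 D8069 (iv D6225) (iv F10188)
def n8070 : Q := act 3 n6179
theorem D8070 : act 3 n6179 = n8070 := rfl
theorem F13388 : act 1 n8070 = n7095 := d6_1 D8070 (iv D7095) (iv F10189)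
def n8071 : Q := act 5 n6179
theorem D8071 : act 5 n6179 = n8071 := rfl
theorem F13389 : act 1 n8071 = n7096 := d8_1 D8071 (iv D7096) (iv F10189)
theorem F13390 : act 2 n8071 = n6180 := d11_1 D8071 (iv D6180) (iv F10190)
def n8072 : Q := act 2 n6181
theorem D8072 : act 2 n6181 = n8072 := rfl
def n8073 : Q := act 1 n6182
theorem D8073 : act 1 n6182 = n8073 := rfl
theorem F13391 : act 3 n8073 = n6275 := d6_2 (iv F10194) D8073 F10350
theorem F13392 : act 5 n8073 = n6274 := d8_2 (iv F10193) D8073 F10349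
def n8074 : Q := act 3 n6183
theorem D8074 : act 3 n6183 = n8074 := rfl
theorem F13393 : act 0 n8074 = n6184 := d2_1 D8074 (iv D6184) D6183
def n8075 : Q := act 5 n6183
theorem D8075 : act 5 n6183 = n8075 := rfl
theorem F13394 : act 0 n8075 = n6185 := d4_1 D8075 (iv D6185) D6183
theorem F13395 : act 2 n8075 = n6190 := d11_1 D8075 (iv D6190) (iv F10195)
def n8076 : Q := act 2 n6184
theorem D8076 : act 2 n6184 = n8076 := rfl
def n8077 : Q := act 4 n6184
theorem D8077 : act 4 n6184 = n8077 := rfl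
theorem F13396 : act 1 n8077 = n6187 := d7_1 D8077 (iv D6187) (iv F10196)
def n8078 : Q := act 5 n6184
theorem D8078 : act 5 n6184 = n8078 := rfl
theorem F13397 : act 1 n8078 = n6186 := d8_1 D8078 (iv F10200) (iv F10196)
theorem F13398 : act 3 n8078 = n6185 := d13_1 D8078 (iv D6185) D6184
def n8079 : Q := act 4 n6185
theorem D8079 : act 4 n6185 = n8079 := rfl
theorem F13399 : act 1 n8079 = n6188 := d7_1 D8079 (iv D6188) (iv F10197)
theorem F13400 : act 2 n8079 = n6193 := d10_1 D8079 (iv D6193) (iv F10198)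
def n8080 : Q := act 4 n6186
theorem D8080 : act 4 n6186 = n8080 := rfl
theorem F13401 : act 2 n8080 = n6187 := d10_1 D8080 (iv D6187) D6186
def n8081 : Q := act 5 n6187
theorem D8081 : act 5 n6187 = n8081 := rfl
def n8082 : Q := act 3 n6188
theorem D8082 : act 3 n6188 = n8082 := rfl
def n8083 : Q := act 2 n6189
theorem D8083 : act 2 n6189 = n8083 := rfl
theorem F13402 : act 0 n8083 = n6191 := d1_1 D8083 (iv D6191) (iv F10202)
def n8084 : Q := act 4 n6189
theorem D8084 : act 4 n6189 = n8084 := rfl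
theorem F13403 : act 0 n8084 = n6192 := d3_1 D8084 (iv D6192) (iv F10202)
def n8085 : Q := act 4 n6190
theorem D8085 : act 4 n6190 = n8085 := rfl
theorem F13404 : act 0 n8085 = n6193 := d3_1 D8085 (iv D6193) (iv F10203)
def n8086 : Q := act 3 n6191
theorem D8086 : act 3 n6191 = n8086 := rfl
def n8087 : Q := act 4 n6191
theorem D8087 : act 4 n6191 = n8087 := rfl
theorem F13405 : act 2 n8087 = n6192 := d10_1 D8087 (iv D6192) D6191
def n8088 : Q := act 5 n6192
theorem D8088 : act 5 n6192 = n8088 := rfl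
theorem F13406 : act 1 n8088 = n6194 := d8_1 D8088 (iv D6194) (iv F10204)
theorem F13407 : act 3 n8088 = n7237 := d13_1 D8088 (iv F12936) F12935
theorem F13408 : act 4 n8088 = n6276 := d14_1 D8088 F10352 (iv F10146) F10147 D6192
def n8089 : Q := act 3 n6193
theorem D8089 : act 3 n6193 = n8089 := rfl
theorem F13409 : act 1 n8089 = n6195 := d6_1 D8089 (iv D6195) (iv F10205)
theorem F13410 : act 4 n8089 = n6291 := d12_2 D6193 D8089 (iv D6291) (iv F10146) F10145
theorem F13411 : act 5 n8089 = n7238 := d13_2 F12926 D8089 (iv F12924)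
def n8090 : Q := act 1 n6196
theorem D8090 : act 1 n6196 = n8090 := rfl
def n8091 : Q := act 3 n6196
theorem D8091 : act 3 n6196 = n8091 := rfl
theorem F13412 : act 0 n8091 = n6201 := d2_1 D8091 (iv D6201) (iv F10214)
def n8092 : Q := act 4 n6196
theorem D8092 : act 4 n6196 = n8092 := rfl
theorem F13413 : act 0 n8092 = n6202 := d3_1 D8092 (iv D6202) (iv F10214)
theorem F13414 : act 2 n8092 = n6197 := d10_1 D8092 (iv D6197) D6196
def n8093 : Q := act 5 n6196
theorem D8093 : act 5 n6196 = n8093 := rfl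
theorem F13415 : act 0 n8093 = n6203 := d4_1 D8093 (iv D6203) (iv F10214)
theorem F13416 : act 2 n8093 = n6198 := d11_1 D8093 (iv D6198) D6196
def n8094 : Q := act 5 n6197
theorem D8094 : act 5 n6197 = n8094 := rfl
theorem F13417 : act 0 n8094 = n6204 := d4_1 D8094 (iv D6204) (iv F10215)
theorem F13418 : act 1 n8094 = n6261 := d8_1 D8094 F10331 (iv F10216)
theorem F13419 : act 3 n8094 = n6214 := d13_1 D8094 (iv D6214) (iv F10217)
def n8095 : Q := act 4 n6198
theorem D8095 : act 4 n6198 = n8095 := rfl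
theorem F13420 : act 0 n8095 = n6205 := d3_1 D8095 (iv D6205) (iv F10218)
def n8096 : Q := act 3 n6199
theorem D8096 : act 3 n6199 = n8096 := rfl
theorem F13421 : act 0 n8096 = n6206 := d2_1 D8096 (iv D6206) (iv F10220)
theorem F13422 : act 1 n8096 = n6259 := d6_1 D8096 F10328 (iv F10221)
theorem F13423 : act 5 n8096 = n6215 := d13_2 (iv F10222) D8096 (iv D6215)
def n8097 : Q := act 0 n6200
theorem D8097 : act 0 n6200 = n8097 := rfl
theorem F13424 : act 2 n8097 = n6207 := d1_2 (iv F10223) D8097 (iv D6207)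
def n8098 : Q := act 3 n6200
theorem D8098 : act 3 n6200 = n8098 := rfl
theorem F13425 : act 1 n8098 = n6201 := d6_1 D8098 (iv D6201) D6200
def n8099 : Q := act 4 n6200
theorem D8099 : act 4 n6200 = n8099 := rfl
theorem F13426 : act 1 n8099 = n6202 := d7_1 D8099 (iv D6202) D6200
theorem F13427 : act 2 n8099 = n6208 := d10_1 D8099 (iv D6208) (iv F10223)
theorem F13428 : act 5 n7099 = n8099 := d11_0 F13427 (iv F10233) D7099
def n8100 : Q := act 2 n6201
theorem D8100 : act 2 n6201 = n8100 := rfl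
def n8101 : Q := act 4 n6201
theorem D8101 : act 4 n6201 = n8101 := rfl
def n8102 : Q := act 5 n6201
theorem D8102 : act 5 n6201 = n8102 := rfl
theorem F13429 : act 3 n8102 = n6203 := d13_1 D8102 (iv D6203) D6201
def n8103 : Q := act 3 n6202
theorem D8103 : act 3 n6202 = n8103 := rfl
def n8104 : Q := act 5 n6202
theorem D8104 : act 5 n6202 = n8104 := rfl
theorem F13430 : act 1 n8104 = n7099 := d8_1 D8104 F13428 F13426
theorem F13431 : act 2 n8104 = n6204 := d11_1 D8104 (iv D6204) (iv F10224)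
def n8105 : Q := act 4 n6203
theorem D8105 : act 4 n6203 = n8105 := rfl
theorem F13432 : act 2 n8105 = n6205 := d10_1 D8105 (iv D6205) (iv F10225)
def n8106 : Q := act 4 n6204
theorem D8106 : act 4 n6204 = n8106 := rfl
theorem F13433 : act 1 n8106 = n6209 := d7_1 D8106 (iv D6209) (iv F10226)
theorem F13434 : act 3 n8106 = n6241 := d12_1 D8106 (iv D6241) F7668 (iv F7639) (iv F10227)
theorem F13435 : act 5 n8106 = n6205 := d14_2 D6204 D8106 (iv D6205) (iv D4672) D4671
def n8107 : Q := act 3 n6205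
theorem D8107 : act 3 n6205 = n8107 := rfl
theorem F13436 : act 1 n8107 = n6210 := d6_1 D8107 (iv D6210) (iv F10228)
theorem F13437 : act 4 n8107 = n6206 := d12_2 D6205 D8107 (iv D6206) (iv D4673) (iv F7613)
theorem F13438 : act 5 n8107 = n6241 := d13_2 F13435 D8107 (iv F13434)
def n8108 : Q := act 2 n6206
theorem D8108 : act 2 n6206 = n8108 := rfl
theorem F13439 : act 5 n8108 = n6219 := d11_2 (iv F10230) D8108 (iv D6219)
def n8109 : Q := act 4 n6207
theorem D8109 : act 4 n6207 = n8109 := rfl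
theorem F13440 : act 0 n8109 = n6208 := d3_1 D8109 (iv D6208) D6207
theorem F13441 : act 1 n8109 = n6290 := d7_1 D8109 (iv F13355) F13353
theorem F13442 : act 3 n7071 = n8109 := d2_0 F13440 (iv F10232) D7071
theorem F13443 : act 5 n7098 = n8109 := d4_0 F13440 (iv F10233) (iv F11760)
def n8110 : Q := act 1 n6211
theorem D8110 : act 1 n6211 = n8110 := rfl
theorem F13444 : act 4 n8110 = n6254 := d7_2 (iv F10243) D8110 F10319
theorem F13445 : act 5 n8110 = n6220 := d8_2 (iv F10244) D8110 (iv D6220)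
def n8111 : Q := act 4 n6212
theorem D8111 : act 4 n6212 = n8111 := rfl
theorem F13446 : act 0 n8111 = n6217 := d3_1 D8111 (iv D6217) (iv F10245)
theorem F13447 : act 1 n8111 = n6743 := d7_1 D8111 (iv D6743) (iv F10246)
def n8112 : Q := act 3 n6213
theorem D8112 : act 3 n6213 = n8112 := rfl
theorem F13448 : act 0 n8112 = n6218 := d2_1 D8112 (iv D6218) (iv F10248)
theorem F13449 : act 1 n8112 = n6956 := d6_1 D8112 (iv D6956) (iv F10249)
theorem F13450 : act 5 n8112 = n7759 := d13_2 (iv F10251) D8112 (iv D7759)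
def n8113 : Q := act 2 n6215
theorem D8113 : act 2 n6215 = n8113 := rfl
theorem F13451 : act 0 n8113 = n6219 := d1_1 D8113 (iv D6219) (iv F10256)
theorem F13452 : act 4 n8113 = n6236 := d10_2 (iv F10258) D8113 (iv D6236)
def n8114 : Q := act 4 n6216
theorem D8114 : act 4 n6216 = n8114 := rfl
theorem F13453 : act 1 n8114 = n6332 := d7_1 D8114 (iv D6332) (iv F10259)
theorem F13454 : act 2 n8114 = n6217 := d10_1 D8114 (iv D6217) D6216
def n8115 : Q := act 3 n6217
theorem D8115 : act 3 n6217 = n8115 := rfl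
theorem F13455 : act 1 n8115 = n6234 := d6_1 D8115 (iv D6234) (iv F10261)
theorem F13456 : act 4 n8115 = n6218 := d12_2 D6217 D8115 (iv D6218) (iv D4683) D4682
def n8116 : Q := act 5 n6217
theorem D8116 : act 5 n6217 = n8116 := rfl
theorem F13457 : act 1 n8116 = n6233 := d8_1 D8116 F10291 (iv F10261)
theorem F13458 : act 4 n8116 = n6228 := d14_1 D8116 (iv D6228) (iv D4693) (iv F7633) D6217
def n8117 : Q := act 2 n6218
theorem D8117 : act 2 n6218 = n8117 := rfl
theorem F13459 : act 5 n8117 = n7764 := d11_2 (iv F10263) D8117 (iv D7764)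
def n8118 : Q := act 1 n6219
theorem D8118 : act 1 n6219 = n8118 := rfl
theorem F13460 : act 2 n8118 = n6220 := d5_2 D6219 D8118 (iv D6220) (iv D4686) (iv F7640)
theorem F13461 : act 4 n8118 = n6238 := d7_2 (iv F10264) D8118 (iv D6238)
def n8119 : Q := act 3 n6219
theorem D8119 : act 3 n6219 = n8119 := rfl
def n8120 : Q := act 0 n6220
theorem D8120 : act 0 n6220 = n8120 := rfl
theorem F13462 : act 1 n8120 = n6273 := d0_2 D6220 D8120 F10348 F7704 (iv F7642)
theorem F13463 : act 4 n8120 = n6242 := d3_2 (iv F10265) D8120 (iv D6242)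
def n8121 : Q := act 3 n6220
theorem D8121 : act 3 n6220 = n8121 := rfl
theorem F13464 : act 1 n8121 = n6221 := d6_1 D8121 (iv D6221) D6220
theorem F13465 : act 4 n8121 = n6255 := d12_2 (iv F10265) D8121 (iv D6255) (iv D4714) (iv F7669)
def n8122 : Q := act 3 n6222
theorem D8122 : act 3 n6222 = n8122 := rfl
theorem F13466 : act 0 n8122 = n6223 := d2_1 D8122 (iv D6223) (iv F10268)
def n8123 : Q := act 5 n6222
theorem D8123 : act 5 n6222 = n8123 := rfl
theorem F13467 : act 0 n8123 = n6224 := d4_1 D8123 (iv D6224) (iv F10268)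
theorem F13468 : act 4 n8123 = n7239 := d14_1 D8123 F11998 F9085 (iv F7644) D6222
def n8124 : Q := act 2 n6223
theorem D8124 : act 2 n6223 = n8124 := rfl
def n8125 : Q := act 5 n6225
theorem D8125 : act 5 n6225 = n8125 := rfl
theorem F13469 : act 0 n8125 = n6228 := d4_1 D8125 (iv D6228) (iv F10272)
theorem F13470 : act 1 n8125 = n6960 := d8_1 D8125 (iv D6960) (iv F10273)
theorem F13471 : act 3 n8125 = n7758 := d13_1 D8125 (iv D7758) (iv F10274)
def n8126 : Q := act 4 n6226
theorem D8126 : act 4 n6226 = n8126 := rfl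
theorem F13472 : act 1 n8126 = n6227 := d7_1 D8126 (iv D6227) D6226
theorem F13473 : act 2 n8126 = n6230 := d10_1 D8126 (iv D6230) (iv F10275)
def n8127 : Q := act 3 n6227
theorem D8127 : act 3 n6227 = n8127 := rfl
def n8128 : Q := act 5 n6227
theorem D8128 : act 5 n6227 = n8128 := rfl
theorem F13474 : act 2 n8128 = n6228 := d11_1 D8128 (iv D6228) (iv F10277)
def n8129 : Q := act 4 n6229
theorem D8129 : act 4 n6229 = n8129 := rfl
theorem F13475 : act 0 n8129 = n6230 := d3_1 D8129 (iv D6230) D6229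
theorem F13476 : act 1 n8129 = n6697 := d7_1 D8129 (iv D6697) (iv F10280)
def n8130 : Q := act 3 n6230
theorem D8130 : act 3 n6230 = n8130 := rfl
theorem F13477 : act 1 n8130 = n6231 := d6_1 D8130 (iv D6231) (iv F10283)
theorem F13478 : act 4 n8130 = n6329 := d12_2 D6230 D8130 (iv D6329) F7780 (iv F7652)
def n8131 : Q := act 5 n6230
theorem D8131 : act 5 n6230 = n8131 := rfl
theorem F13479 : act 1 n8131 = n6232 := d8_1 D8131 (iv D6232) (iv F10283)
theorem F13480 : act 4 n8131 = n6333 := d14_1 D8131 (iv D6333) (iv D4784) (iv F7653) D6230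
def n8132 : Q := act 2 n6231
theorem D8132 : act 2 n6231 = n8132 := rfl
theorem F13481 : act 0 n8132 = n6749 := d1_1 D8132 (iv D6749) (iv F10284)
theorem F13482 : act 4 n8132 = n6330 := d10_2 (iv F10285) D8132 (iv D6330)
theorem F13483 : act 3 n8132 = n7793 := d15_1 D8132 F12842 F9720 F7251 (iv F6482) (iv F8402) D6748 F11166 (iv F10284)
theorem F13484 : act 5 n7792 = n8132 := d13_0 F13483 (iv D7793) D7792
def n8133 : Q := act 5 n6231
theorem D8133 : act 5 n6231 = n8133 := rfl
theorem F13485 : act 0 n8133 = n6748 := d4_1 D8133 F11166 (iv F10284)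
theorem F13486 : act 2 n8133 = n7792 := d11_1 D8133 F13484 (iv D8132)
theorem F13487 : act 3 n8133 = n6232 := d13_1 D8133 (iv D6232) D6231
def n8134 : Q := act 3 n6233
theorem D8134 : act 3 n6233 = n8134 := rfl
theorem F13488 : act 0 n8134 = n6747 := d2_1 D8134 F11164 (iv F10289)
theorem F13489 : act 4 n8134 = n6937 := d12_2 D6233 D8134 F11498 F8652 (iv F7657)
theorem F13490 : act 5 n8134 = n6234 := d13_2 (iv F10291) D8134 (iv D6234)
def n8135 : Q := act 2 n6234
theorem D8135 : act 2 n6234 = n8135 := rfl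
theorem F13491 : act 0 n8135 = n6746 := d1_1 D8135 (iv D6746) (iv F10292)
theorem F13492 : act 4 n8135 = n6235 := d10_2 (iv F10293) D8135 (iv D6235)
def n8136 : Q := act 1 n6235
theorem D8136 : act 1 n6235 = n8136 := rfl
theorem F13493 : act 3 n8136 = n6940 := d6_2 (iv F10295) D8136 (iv D6940)
theorem F13494 : act 5 n8136 = n6955 := d8_2 (iv F10296) D8136 F11528
def n8137 : Q := act 1 n6236
theorem D8137 : act 1 n6236 = n8137 := rfl
theorem F13495 : act 2 n8137 = n6256 := d5_2 D6236 D8137 (iv D6256) (iv D4717) (iv F7663)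
def n8138 : Q := act 3 n6236
theorem D8138 : act 3 n6236 = n8138 := rfl
theorem F13496 : act 0 n8138 = n6239 := d2_1 D8138 (iv D6239) (iv F10297)
theorem F13497 : act 2 n8138 = n6924 := d15_2 D6236 D8138 (iv D6924) F8635 F6449 (iv F5667) (iv F7668) (iv D4702) (iv F7662)
theorem F13498 : act 5 n7760 = n8138 := d11_0 F13497 F11473 D7760
def n8139 : Q := act 5 n6236
theorem D8139 : act 5 n6236 = n8139 := rfl
theorem F13499 : act 0 n8139 = n6240 := d4_1 D8139 (iv D6240) (iv F10297)
theorem F13500 : act 2 n8139 = n6237 := d11_1 D8139 (iv D6237) D6236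
theorem F13501 : act 3 n8139 = n7760 := d13_1 D8139 F13498 (iv D8138)
def n8140 : Q := act 4 n6237
theorem D8140 : act 4 n6237 = n8140 := rfl
theorem F13502 : act 0 n8140 = n6241 := d3_1 D8140 (iv D6241) (iv F10298)
theorem F13503 : act 1 n8140 = n6260 := d7_1 D8140 (iv D6260) (iv F10299)
def n8141 : Q := act 0 n6238
theorem D8141 : act 0 n6238 = n8141 := rfl
theorem F13504 : act 2 n8141 = n6242 := d1_2 (iv F10301) D8141 (iv D6242)
theorem F13505 : act 5 n8141 = n6249 := d4_2 F10302 D8141 F10314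
theorem F13506 : act 3 n7733 = n8141 := d15_7 (iv D4712) (iv D3504) F4160 D3292 D4428 D5893 D7733 F13505 F10314
def n8142 : Q := act 3 n6238
theorem D8142 : act 3 n6238 = n8142 := rfl
theorem F13507 : act 0 n8142 = n7733 := d2_1 D8142 F13506 (iv D8141)
theorem F13508 : act 1 n8142 = n6239 := d6_1 D8142 (iv D6239) D6238
theorem F13509 : act 5 n8142 = n6252 := d13_2 F10302 D8142 (iv D6252)
theorem F13510 : act 2 n8142 = n7729 := d15_2 (iv F10301) D8142 (iv D7729) (iv D5890) (iv D4426) (iv F5681) D4710 (iv F10308) (iv D6242)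
def n8143 : Q := act 2 n6239
theorem D8143 : act 2 n6239 = n8143 := rfl
theorem F13511 : act 0 n8143 = n6924 := d1_1 D8143 (iv F13497) F13496
theorem F13512 : act 3 n8143 = n6923 := d9_2 D6239 D8143 F11470 F8645 (iv F7666) (iv F10300) (iv F13500) F13501 (iv D7760) (iv D5915) (iv D4446) (iv D3305) (iv F4144) D3494 D4701
theorem F13513 : act 5 n7756 = n8143 := d13_0 F13512 F11471 D7756
def n8144 : Q := act 4 n6239
theorem D8144 : act 4 n6239 = n8144 := rfl
def n8145 : Q := act 5 n6239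
theorem D8145 : act 5 n6239 = n8145 := rfl
theorem F13514 : act 0 n8145 = n7760 := d4_1 D8145 F13498 F13496
theorem F13515 : act 1 n8145 = n6252 := d8_1 D8145 (iv F13509) F13508
theorem F13516 : act 2 n8145 = n7756 := d11_1 D8145 F13513 (iv D8143)
theorem F13517 : act 3 n8145 = n6240 := d13_1 D8145 (iv D6240) D6239
def n8146 : Q := act 4 n6240
theorem D8146 : act 4 n6240 = n8146 := rfl
theorem F13518 : act 1 n8146 = n6253 := d7_1 D8146 (iv D6253) (iv F10303)
theorem F13519 : act 2 n8146 = n6241 := d10_1 D8146 (iv D6241) (iv F10304)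
def n8147 : Q := act 2 n6243
theorem D8147 : act 2 n6243 = n8147 := rfl
theorem F13520 : act 0 n8147 = n6247 := d1_1 D8147 (iv D6247) (iv F10309)
theorem F13521 : act 3 n8147 = n7211 := d15_1 D8147 F11973 F9065 F6748 (iv F5680) (iv F7678) (iv F10313) (iv D6248) (iv F10309)
theorem F13522 : act 5 n7210 = n8147 := d13_0 F13521 (iv D7211) D7210
def n8148 : Q := act 5 n6243
theorem D8148 : act 5 n6243 = n8148 := rfl
theorem F13523 : act 0 n8148 = n6248 := d4_1 D8148 (iv D6248) (iv F10309)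
theorem F13524 : act 2 n8148 = n7210 := d11_1 D8148 F13522 (iv D8147)
theorem F13525 : act 3 n8148 = n6244 := d13_1 D8148 (iv D6244) D6243
def n8149 : Q := act 2 n6245
theorem D8149 : act 2 n6245 = n8149 := rfl
theorem F13526 : act 4 n8149 = n6247 := d10_2 (iv F10312) D8149 (iv D6247)
def n8150 : Q := act 5 n6245
theorem D8150 : act 5 n6245 = n8150 := rfl
theorem F13527 : act 3 n8150 = n6246 := d13_1 D8150 (iv D6246) D6245
def n8151 : Q := act 1 n6247
theorem D8151 : act 1 n6247 = n8151 := rfl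
def n8152 : Q := act 3 n6247
theorem D8152 : act 3 n6247 = n8152 := rfl
theorem F13528 : act 0 n8152 = n7211 := d2_1 D8152 (iv F13521) F13520
theorem F13529 : act 2 n8152 = n7204 := d9_1 D8152 F11968 F9062 (iv F7677) (iv F10311) (iv F13525) F13524 (iv D7210) (iv D5492) (iv D4121) F4991 (iv F4157) (iv F5678) D4708 D6247
theorem F13530 : act 5 n8152 = n7203 := d15_8 (iv D5492) (iv D4121) F4991 (iv F4157) (iv F5678) D4708 D6247 D8152 F11966
def n8153 : Q := act 5 n6247
theorem D8153 : act 5 n6247 = n8153 := rfl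
theorem F13531 : act 0 n8153 = n7210 := d4_1 D8153 F13522 F13520
theorem F13532 : act 2 n8153 = n6248 := d11_1 D8153 (iv D6248) D6247
theorem F13533 : act 3 n8153 = n7203 := d13_1 D8153 (iv F13530) (iv D8152)
def n8154 : Q := act 4 n6248
theorem D8154 : act 4 n6248 = n8154 := rfl
def n8155 : Q := act 1 n6249
theorem D8155 : act 1 n6249 = n8155 := rfl
def n8156 : Q := act 3 n6249
theorem D8156 : act 3 n6249 = n8156 := rfl
theorem F13534 : act 0 n8156 = n6252 := d2_1 D8156 (iv D6252) (iv F10314)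
theorem F13535 : act 2 n8156 = n7102 := d9_1 D8156 (iv D7102) F8895 F6636 (iv F5684) (iv F7669) (iv F10301) D8142 F13510 (iv D7729) (iv D5890) (iv D4426) (iv F5681) D4710 D6249
theorem F13536 : act 5 n8156 = n7733 := d13_2 F13505 D8156 F13506
def n8157 : Q := act 4 n6249
theorem D8157 : act 4 n6249 = n8157 := rfl
theorem F13537 : act 0 n8157 = n6253 := d3_1 D8157 (iv D6253) (iv F10314)
theorem F13538 : act 2 n8157 = n6250 := d10_1 D8157 (iv D6250) D6249
def n8158 : Q := act 5 n6250
theorem D8158 : act 5 n6250 = n8158 := rfl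
theorem F13539 : act 0 n8158 = n6254 := d4_1 D8158 (iv D6254) (iv F10315)
def n8159 : Q := act 3 n6251
theorem D8159 : act 3 n6251 = n8159 := rfl
theorem F13540 : act 0 n8159 = n6255 := d2_1 D8159 (iv D6255) (iv F10316)
def n8160 : Q := act 2 n6252
theorem D8160 : act 2 n6252 = n8160 := rfl
theorem F13541 : act 0 n8160 = n7102 := d1_1 D8160 (iv F13535) F13534
theorem F13542 : act 3 n8160 = n7101 := d9_2 D6252 D8160 F11762 F8904 (iv F7681) (iv F10307) (iv F13504) (iv F13506) (iv D7733) (iv D5893) (iv D4428) (iv D3292) (iv F4160) D3504 D4712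
theorem F13543 : act 5 n8160 = n7729 := d11_2 F13509 D8160 (iv F13510)
def n8161 : Q := act 4 n6252
theorem D8161 : act 4 n6252 = n8161 := rfl
def n8162 : Q := act 3 n6253
theorem D8162 : act 3 n6253 = n8162 := rfl
def n8163 : Q := act 5 n6253
theorem D8163 : act 5 n6253 = n8163 := rfl
theorem F13544 : act 2 n8163 = n6254 := d11_1 D8163 (iv D6254) (iv F10318)
def n8164 : Q := act 2 n6255
theorem D8164 : act 2 n6255 = n8164 := rfl
def n8165 : Q := act 0 n6256
theorem D8165 : act 0 n6256 = n8165 := rfl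
theorem F13545 : act 1 n8165 = n6262 := d0_2 D6256 D8165 (iv D6262) (iv D4721) (iv F7685)
theorem F13546 : act 3 n8165 = n7123 := d2_2 (iv F10321) D8165 F11810
def n8166 : Q := act 4 n6256
theorem D8166 : act 4 n6256 = n8166 := rfl
theorem F13547 : act 1 n8166 = n6257 := d7_1 D8166 (iv D6257) D6256
def n8167 : Q := act 5 n6256
theorem D8167 : act 5 n6256 = n8167 := rfl
theorem F13548 : act 1 n8167 = n6258 := d8_1 D8167 (iv D6258) D6256
theorem F13549 : act 3 n8167 = n7146 := d13_1 D8167 F11858 (iv F10321)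
def n8168 : Q := act 3 n6257
theorem D8168 : act 3 n6257 = n8168 := rfl
theorem F13550 : act 0 n8168 = n6267 := d2_1 D8168 (iv D6267) (iv F10322)
theorem F13551 : act 4 n8168 = n7814 := d12_2 D6257 D8168 (iv D7814) (iv D5960) (iv F7686)
def n8169 : Q := act 5 n6257
theorem D8169 : act 5 n6257 = n8169 := rfl
theorem F13552 : act 0 n8169 = n6268 := d4_1 D8169 (iv D6268) (iv F10322)
theorem F13553 : act 2 n8169 = n6259 := d11_1 D8169 (iv D6259) (iv F10323)
def n8170 : Q := act 4 n6258
theorem D8170 : act 4 n6258 = n8170 := rfl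
theorem F13554 : act 0 n8170 = n6269 := d3_1 D8170 (iv D6269) (iv F10324)
theorem F13555 : act 2 n8170 = n6260 := d10_1 D8170 (iv D6260) (iv F10325)
def n8171 : Q := act 4 n6259
theorem D8171 : act 4 n6259 = n8171 := rfl
theorem F13556 : act 0 n8171 = n6270 := d3_1 D8171 (iv D6270) (iv F10327)
theorem F13557 : act 5 n8171 = n6260 := d14_2 D6259 D8171 (iv D6260) (iv D4719) D4718
def n8172 : Q := act 3 n6260
theorem D8172 : act 3 n6260 = n8172 := rfl
theorem F13558 : act 0 n8172 = n6271 := d2_1 D8172 (iv D6271) (iv F10329)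
theorem F13559 : act 4 n8172 = n6261 := d12_2 D6260 D8172 (iv D6261) (iv D4720) (iv F7690)
def n8173 : Q := act 2 n6261
theorem D8173 : act 2 n6261 = n8173 := rfl
theorem F13560 : act 0 n8173 = n6272 := d1_1 D8173 (iv D6272) (iv F10330)
theorem F13561 : act 3 n8173 = n6272 := d9_2 D6261 D8173 (iv D6272) (iv D4727) F5694 F4923 (iv F4178) D3525 D4744 (iv F10364) (iv D6282) (iv D4739) F5702 (iv F6681) (iv F7692)
theorem F13562 : act 5 n8173 = n6282 := d11_2 (iv F10331) D8173 (iv D6282)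
def n8174 : Q := act 4 n6262
theorem D8174 : act 4 n6262 = n8174 := rfl
theorem F13563 : act 0 n8174 = n6264 := d3_1 D8174 (iv D6264) D6262
theorem F13564 : act 2 n8174 = n6273 := d10_1 D8174 (iv D6273) (iv F10332)
def n8175 : Q := act 4 n6263
theorem D8175 : act 4 n6263 = n8175 := rfl
theorem F13565 : act 1 n8175 = n6265 := d7_1 D8175 (iv D6265) (iv F10333)
def n8176 : Q := act 3 n6264
theorem D8176 : act 3 n6264 = n8176 := rfl
theorem F13566 : act 1 n8176 = n6267 := d6_1 D8176 (iv D6267) (iv F10334)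
def n8177 : Q := act 5 n6264
theorem D8177 : act 5 n6264 = n8177 := rfl
theorem F13567 : act 1 n8177 = n6268 := d8_1 D8177 (iv D6268) (iv F10334)
theorem F13568 : act 2 n8177 = n6275 := d11_1 D8177 (iv D6275) (iv F10335)
def n8178 : Q := act 3 n6265
theorem D8178 : act 3 n6265 = n8178 := rfl
theorem F13569 : act 0 n8178 = n7814 := d2_1 D8178 (iv D7814) (iv F10336)
theorem F13570 : act 4 n8178 = n6267 := d12_2 D6265 D8178 (iv D6267) (iv D4723) D4722
def n8179 : Q := act 5 n6265
theorem D8179 : act 5 n6265 = n8179 := rfl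
theorem F13571 : act 0 n8179 = n7815 := d4_1 D8179 (iv D7815) (iv F10336)
theorem F13572 : act 2 n8179 = n7812 := d11_1 D8179 (iv D7812) (iv F10337)
def n8180 : Q := act 4 n6266
theorem D8180 : act 4 n6266 = n8180 := rfl
theorem F13573 : act 0 n8180 = n7147 := d3_1 D8180 (iv D7147) (iv F10338)
theorem F13574 : act 2 n8180 = n7144 := d10_1 D8180 (iv D7144) (iv F10339)
def n8181 : Q := act 2 n6267
theorem D8181 : act 2 n6267 = n8181 := rfl
def n8182 : Q := act 5 n6267
theorem D8182 : act 5 n6267 = n8182 := rfl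
theorem F13575 : act 3 n8182 = n6268 := d13_1 D8182 (iv D6268) D6267
def n8183 : Q := act 4 n6268
theorem D8183 : act 4 n6268 = n8183 := rfl
theorem F13576 : act 2 n8183 = n6270 := d10_1 D8183 (iv D6270) (iv F10341)
theorem F13577 : act 5 n8183 = n6269 := d14_2 D6268 D8183 (iv D6269) (iv D4724) D4723
def n8184 : Q := act 3 n6269
theorem D8184 : act 3 n6269 = n8184 := rfl
def n8185 : Q := act 2 n6271
theorem D8185 : act 2 n6271 = n8185 := rfl
theorem F13578 : act 4 n8185 = n6272 := d10_2 (iv F10346) D8185 (iv D6272)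
def n8186 : Q := act 1 n6272
theorem D8186 : act 1 n6272 = n8186 := rfl
theorem F13579 : act 2 n8186 = n6276 := d5_2 D6272 D8186 (iv D6276) (iv D4734) (iv F7702)
theorem F13580 : act 5 n8186 = n6289 := d8_2 (iv F10347) D8186 (iv D6289)
def n8187 : Q := act 3 n6273
theorem D8187 : act 3 n6273 = n8187 := rfl
theorem F13581 : act 0 n8187 = n6274 := d2_1 D8187 (iv D6274) (iv F10348)
def n8188 : Q := act 5 n6273
theorem D8188 : act 5 n6273 = n8188 := rfl
theorem F13582 : act 0 n8188 = n6275 := d4_1 D8188 (iv D6275) (iv F10348)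
def n8189 : Q := act 2 n6274
theorem D8189 : act 2 n6274 = n8189 := rfl
def n8190 : Q := act 0 n6276
theorem D8190 : act 0 n6276 = n8190 := rfl
theorem F13583 : act 1 n8190 = n7098 := d0_2 D6276 D8190 F11760 F8894 (iv F7708)
theorem F13584 : act 3 n8190 = n7017 := d2_2 (iv F10351) D8190 (iv D7017)
theorem F13585 : act 5 n8190 = n6290 := d4_2 (iv F10352) D8190 (iv D6290)
def n8191 : Q := act 4 n6277
theorem D8191 : act 4 n6277 = n8191 := rfl
theorem F13586 : act 0 n8191 = n6625 := d3_1 D8191 (iv D6625) (iv F10353)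
theorem F13587 : act 1 n8191 = n6279 := d7_1 D8191 (iv D6279) (iv F10354)
theorem F13588 : act 2 n8191 = n6989 := d10_1 D8191 (iv D6989) (iv F10355)
def n8192 : Q := act 3 n6278
theorem D8192 : act 3 n6278 = n8192 := rfl
theorem F13589 : act 1 n8192 = n6280 := d6_1 D8192 (iv D6280) (iv F10357)
def n8193 : Q := act 5 n6278
theorem D8193 : act 5 n6278 = n8193 := rfl
theorem F13590 : act 1 n8193 = n6281 := d8_1 D8193 (iv D6281) (iv F10357)
def n8194 : Q := act 3 n6279
theorem D8194 : act 3 n6279 = n8194 := rfl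
theorem F13591 : act 0 n8194 = n6285 := d2_1 D8194 (iv D6285) (iv F10358)
theorem F13592 : act 4 n8194 = n6280 := d12_2 D6279 D8194 (iv D6280) (iv D4737) D4736
def n8195 : Q := act 5 n6279
theorem D8195 : act 5 n6279 = n8195 := rfl
theorem F13593 : act 0 n8195 = n6286 := d4_1 D8195 (iv D6286) (iv F10358)
theorem F13594 : act 2 n8195 = n6988 := d11_1 D8195 (iv D6988) (iv F10359)
theorem F13595 : act 4 n8195 = n7162 := d14_1 D8195 (iv D7162) (iv D5449) (iv F7713) D6279
def n8196 : Q := act 2 n6280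
theorem D8196 : act 2 n6280 = n8196 := rfl
theorem F13596 : act 0 n8196 = n6287 := d1_1 D8196 (iv D6287) (iv F10360)
def n8197 : Q := act 5 n6280
theorem D8197 : act 5 n6280 = n8197 := rfl
theorem F13597 : act 0 n8197 = n6288 := d4_1 D8197 (iv D6288) (iv F10360)
theorem F13598 : act 3 n8197 = n6281 := d13_1 D8197 (iv D6281) D6280
def n8198 : Q := act 1 n6282
theorem D8198 : act 1 n6282 = n8198 := rfl
theorem F13599 : act 3 n8198 = n6289 := d6_2 (iv F10364) D8198 (iv D6289)
def n8199 : Q := act 4 n6283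
theorem D8199 : act 4 n6283 = n8199 := rfl
theorem F13600 : act 0 n8199 = n6986 := d3_1 D8199 (iv D6986) (iv F10365)
theorem F13601 : act 1 n8199 = n6284 := d7_1 D8199 (iv D6284) D6283
theorem F13602 : act 2 n8199 = n6612 := d10_1 D8199 (iv D6612) (iv F10366)
theorem F13603 : act 3 n8199 = n7809 := d12_1 D8199 (iv D7809) (iv D5953) (iv F8734) (iv F10367)
def n8200 : Q := act 5 n6284
theorem D8200 : act 5 n6284 = n8200 := rfl
theorem F13604 : act 0 n8200 = n6988 := d4_1 D8200 (iv D6988) (iv F10369)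
theorem F13605 : act 2 n8200 = n6286 := d11_1 D8200 (iv D6286) (iv F10370)
theorem F13606 : act 3 n8200 = n7812 := d13_1 D8200 (iv D7812) (iv F10371)
theorem F13607 : act 4 n8200 = n7158 := d14_1 D8200 (iv D7158) (iv D5446) (iv F7720) D6284
def n8201 : Q := act 2 n6285
theorem D8201 : act 2 n6285 = n8201 := rfl
theorem F13608 : act 4 n8201 = n6287 := d10_2 (iv F10372) D8201 (iv D6287)
def n8202 : Q := act 5 n6285
theorem D8202 : act 5 n6285 = n8202 := rfl
theorem F13609 : act 3 n8202 = n6286 := d13_1 D8202 (iv D6286) D6285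
def n8203 : Q := act 1 n6287
theorem D8203 : act 1 n6287 = n8203 := rfl
def n8204 : Q := act 3 n6287
theorem D8204 : act 3 n6287 = n8204 := rfl
def n8205 : Q := act 5 n6287
theorem D8205 : act 5 n6287 = n8205 := rfl
theorem F13610 : act 2 n8205 = n6288 := d11_1 D8205 (iv D6288) D6287
def n8206 : Q := act 4 n6288
theorem D8206 : act 4 n6288 = n8206 := rfl
def n8207 : Q := act 0 n6289
theorem D8207 : act 0 n6289 = n8207 := rfl
theorem F13611 : act 2 n8207 = n6290 := d1_2 (iv F10374) D8207 (iv D6290)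
def n8208 : Q := act 3 n6290
theorem D8208 : act 3 n6290 = n8208 := rfl
theorem F13612 : act 0 n8208 = n6291 := d2_1 D8208 (iv D6291) D6290
theorem F13613 : act 1 n8208 = n7071 := d6_1 D8208 F13442 F13441
theorem F13614 : act 5 n8208 = n7017 := d13_2 F13585 D8208 (iv F13584)
def n8209 : Q := act 2 n6291
theorem D8209 : act 2 n6291 = n8209 := rfl
theorem F13615 : act 1 n8209 = n7010 := d5_1 D8209 (iv D7010) F8762 (iv F7723) (iv F10375)
theorem F13616 : act 5 n8209 = n7015 := d11_2 (iv F10376) D8209 F11639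
def n8210 : Q := act 2 n6292
theorem D8210 : act 2 n6292 = n8210 := rfl
theorem F13617 : act 0 n8210 = n6294 := d1_1 D8210 (iv D6294) (iv F10377)
def n8211 : Q := act 5 n6292
theorem D8211 : act 5 n6292 = n8211 := rfl
theorem F13618 : act 0 n8211 = n6295 := d4_1 D8211 (iv D6295) (iv F10377)
theorem F13619 : act 3 n8211 = n6293 := d13_1 D8211 (iv D6293) D6292
def n8212 : Q := act 1 n6294
theorem D8212 : act 1 n6294 = n8212 := rfl
theorem F13620 : act 2 n8212 = n6296 := d5_2 D6294 D8212 (iv D6296) (iv D4750) (iv F7727)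
def n8213 : Q := act 3 n6294
theorem D8213 : act 3 n6294 = n8213 := rfl
def n8214 : Q := act 5 n6294
theorem D8214 : act 5 n6294 = n8214 := rfl
theorem F13621 : act 2 n8214 = n6295 := d11_1 D8214 (iv D6295) D6294
def n8215 : Q := act 4 n6295
theorem D8215 : act 4 n6295 = n8215 := rfl
theorem F13622 : act 1 n8215 = n6297 := d7_1 D8215 (iv D6297) (iv F10380)
def n8216 : Q := act 0 n6296
theorem D8216 : act 0 n6296 = n8216 := rfl
def n8217 : Q := act 1 n6298
theorem D8217 : act 1 n6298 = n8217 := rfl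
theorem F13623 : act 2 n8217 = n7993 := d5_2 D6298 D8217 F13239 F10053 F9897
theorem F13624 : act 4 n8217 = n7992 := d7_2 F12943 D8217 F13237
def n8218 : Q := act 3 n6298
theorem D8218 : act 3 n6298 = n8218 := rfl
theorem F13625 : act 0 n8218 = n6301 := d2_1 D8218 (iv D6301) (iv F10382)
def n8219 : Q := act 5 n6298
theorem D8219 : act 5 n6298 = n8219 := rfl
theorem F13626 : act 0 n8219 = n6302 := d4_1 D8219 (iv D6302) (iv F10382)
theorem F13627 : act 2 n8219 = n6299 := d11_1 D8219 (iv D6299) D6298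
def n8220 : Q := act 4 n6299
theorem D8220 : act 4 n6299 = n8220 := rfl
theorem F13628 : act 0 n8220 = n6303 := d3_1 D8220 (iv D6303) (iv F10383)
theorem F13629 : act 1 n8220 = n8024 := d7_1 D8220 F13289 F13042
theorem F13630 : act 5 n8220 = n8023 := d14_2 D6299 D8220 (iv D8023) F10086 F9809
def n8221 : Q := act 0 n6300
theorem D8221 : act 0 n6300 = n8221 := rfl
theorem F13631 : act 2 n8221 = n6304 := d1_2 (iv F10385) D8221 (iv D6304)
def n8222 : Q := act 3 n6300
theorem D8222 : act 3 n6300 = n8222 := rfl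
theorem F13632 : act 1 n8222 = n6301 := d6_1 D8222 (iv D6301) D6300
def n8223 : Q := act 5 n6300
theorem D8223 : act 5 n6300 = n8223 := rfl
theorem F13633 : act 1 n8223 = n6302 := d8_1 D8223 (iv D6302) D6300
theorem F13634 : act 2 n8223 = n6306 := d11_1 D8223 (iv D6306) (iv F10385)
def n8224 : Q := act 2 n6301
theorem D8224 : act 2 n6301 = n8224 := rfl
def n8225 : Q := act 4 n6301
theorem D8225 : act 4 n6301 = n8225 := rfl
def n8226 : Q := act 5 n6301
theorem D8226 : act 5 n6301 = n8226 := rfl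
theorem F13635 : act 3 n8226 = n6302 := d13_1 D8226 (iv D6302) D6301
def n8227 : Q := act 4 n6302
theorem D8227 : act 4 n6302 = n8227 := rfl
theorem F13636 : act 2 n8227 = n6303 := d10_1 D8227 (iv D6303) (iv F10386)
def n8228 : Q := act 3 n6304
theorem D8228 : act 3 n6304 = n8228 := rfl
theorem F13637 : act 0 n8228 = n6305 := d2_1 D8228 (iv D6305) D6304
theorem F13638 : act 1 n8228 = n7235 := d6_1 D8228 F13052 F13051
theorem F13639 : act 5 n7097 = n8228 := d8_0 F13638 (iv D7235) (iv F11758)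
def n8229 : Q := act 5 n6304
theorem D8229 : act 5 n6304 = n8229 := rfl
theorem F13640 : act 0 n8229 = n6306 := d4_1 D8229 (iv D6306) D6304
theorem F13641 : act 1 n8229 = n7234 := d8_1 D8229 F13053 F13051
theorem F13642 : act 3 n8229 = n7097 := d13_1 D8229 F13639 (iv D8228)
def n8230 : Q := act 2 n6305
theorem D8230 : act 2 n6305 = n8230 := rfl
theorem F13643 : act 1 n8230 = n7089 := d5_1 D8230 (iv D7089) F8883 (iv F7736) (iv F10388)
theorem F13644 : act 5 n8230 = n7090 := d11_2 F10389 D8230 F11750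
def n8231 : Q := act 2 n6308
theorem D8231 : act 2 n6308 = n8231 := rfl
theorem F13645 : act 0 n8231 = n6547 := d1_1 D8231 (iv D6547) (iv F10395)
theorem F13646 : act 4 n8231 = n6945 := d10_2 (iv F10397) D8231 (iv D6945)
def n8232 : Q := act 1 n6309
theorem D8232 : act 1 n6309 = n8232 := rfl
theorem F13647 : act 4 n8232 = n6947 := d7_2 (iv F10399) D8232 (iv D6947)
def n8233 : Q := act 1 n6310
theorem D8233 : act 1 n6310 = n8233 := rfl
def n8234 : Q := act 3 n6310
theorem D8234 : act 3 n6310 = n8234 := rfl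
theorem F13648 : act 0 n8234 = n6313 := d2_1 D8234 (iv D6313) (iv F10400)
theorem F13649 : act 2 n8234 = n6342 := d15_2 D6310 D8234 F10460 F7798 F5768 (iv F5734) (iv F7758) (iv D4768) (iv F7751)
theorem F13650 : act 5 n6340 = n8234 := d11_0 F13649 (iv D6342) D6340
def n8235 : Q := act 5 n6310
theorem D8235 : act 5 n6310 = n8235 := rfl
theorem F13651 : act 0 n8235 = n6312 := d4_1 D8235 (iv F10404) (iv F10400)
theorem F13652 : act 2 n8235 = n6311 := d11_1 D8235 (iv D6311) D6310
theorem F13653 : act 3 n8235 = n6340 := d13_1 D8235 F13650 (iv D8234)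
def n8236 : Q := act 4 n6311
theorem D8236 : act 4 n6311 = n8236 := rfl
theorem F13654 : act 0 n8236 = n6316 := d3_1 D8236 (iv D6316) (iv F10401)
theorem F13655 : act 3 n8236 = n6552 := d12_1 D8236 (iv D6552) F8123 (iv F7754) (iv F10402)
def n8237 : Q := act 3 n6312
theorem D8237 : act 3 n6312 = n8237 := rfl
theorem F13656 : act 0 n8237 = n6340 := d2_1 D8237 (iv F13653) F13651
theorem F13657 : act 1 n8237 = n6313 := d6_1 D8237 (iv D6313) D6312
theorem F13658 : act 2 n8237 = n6335 := d9_1 D8237 (iv D6335) (iv D4786) (iv D3559) (iv F5730) D4764 D6310 D8234 F13649 F10460 F7798 F5768 (iv F5734) (iv F7758) (iv F10403)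
theorem F13659 : act 5 n8237 = n6313 := d13_2 F10404 D8237 (iv D6313)
def n8238 : Q := act 4 n6312
theorem D8238 : act 4 n6312 = n8238 := rfl
theorem F13660 : act 1 n8238 = n6314 := d7_1 D8238 (iv D6314) D6312
theorem F13661 : act 2 n8238 = n6316 := d10_1 D8238 (iv D6316) (iv F10403)
def n8239 : Q := act 2 n6313
theorem D8239 : act 2 n6313 = n8239 := rfl
theorem F13662 : act 0 n8239 = n6342 := d1_1 D8239 (iv F13649) F13648
theorem F13663 : act 3 n8239 = n6336 := d9_2 D6313 D8239 F10448 F7793 (iv F7753) (iv F10402) (iv F13652) F13653 (iv D6340) (iv D4789) (iv D3561) (iv D2621) (iv F4197) D3543 D4766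
theorem F13664 : act 5 n8239 = n6335 := d11_2 F13659 D8239 (iv F13658)
def n8240 : Q := act 4 n6313
theorem D8240 : act 4 n6313 = n8240 := rfl
def n8241 : Q := act 3 n6314
theorem D8241 : act 3 n6314 = n8241 := rfl
def n8242 : Q := act 5 n6314
theorem D8242 : act 5 n6314 = n8242 := rfl
theorem F13665 : act 2 n8242 = n6315 := d11_1 D8242 (iv D6315) (iv F10405)
def n8243 : Q := act 4 n6315
theorem D8243 : act 4 n6315 = n8243 := rfl
theorem F13666 : act 1 n8243 = n6318 := d7_1 D8243 F10413 (iv F10406)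
theorem F13667 : act 3 n8243 = n6563 := d12_1 D8243 (iv D6563) F8129 (iv F7764) (iv F10407)
theorem F13668 : act 5 n8243 = n6316 := d14_2 D6315 D8243 (iv D6316) (iv D4768) D4767
def n8244 : Q := act 2 n6317
theorem D8244 : act 2 n6317 = n8244 := rfl
theorem F13669 : act 4 n8244 = n6319 := d10_2 (iv F10411) D8244 (iv D6319)
theorem F13670 : act 3 n8244 = n6951 := d15_1 D8244 (iv D6951) (iv D5276) (iv F7747) (iv F8447) (iv F11219) (iv F11522) F11523 F11216
theorem F13671 : act 5 n6953 = n8244 := d13_0 F13670 F11524 D6953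
def n8245 : Q := act 5 n6317
theorem D8245 : act 5 n6317 = n8245 := rfl
theorem F13672 : act 0 n8245 = n6950 := d4_1 D8245 F11523 F11216
theorem F13673 : act 1 n8245 = n6563 := d8_1 D8245 F10855 (iv F10410)
theorem F13674 : act 2 n8245 = n6953 := d11_1 D8245 F13671 (iv D8244)
theorem F13675 : act 3 n8245 = n6318 := d13_1 D8245 (iv D6318) D6317
theorem F13676 : act 4 n8245 = n6324 := d14_1 D8245 F10429 F7778 (iv F7762) (iv F10411)
def n8246 : Q := act 1 n6319
theorem D8246 : act 1 n6319 = n8246 := rfl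
theorem F13677 : act 2 n8246 = n6566 := d5_2 D6319 D8246 F10857 F8130 (iv F7761)
theorem F13678 : act 3 n8246 = n6750 := d6_2 (iv F10415) D8246 (iv D6750)
theorem F13679 : act 5 n8246 = n6326 := d8_2 (iv F10414) D8246 (iv D6326)
def n8247 : Q := act 2 n6320
theorem D8247 : act 2 n6320 = n8247 := rfl
theorem F13680 : act 0 n8247 = n7402 := d1_1 D8247 (iv D7402) (iv F10416)
theorem F13681 : act 4 n8247 = n6915 := d10_2 (iv F10418) D8247 (iv D6915)
def n8248 : Q := act 5 n6320
theorem D8248 : act 5 n6320 = n8248 := rfl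
theorem F13682 : act 0 n8248 = n7403 := d4_1 D8248 (iv D7403) (iv F10416)
theorem F13683 : act 1 n8248 = n6323 := d8_1 D8248 (iv D6323) (iv F10417)
theorem F13684 : act 3 n8248 = n6321 := d13_1 D8248 (iv D6321) D6320
theorem F13685 : act 4 n8248 = n7790 := d14_1 D8248 (iv D7790) (iv F11446) F11447 (iv F10418)
def n8249 : Q := act 1 n6322
theorem D8249 : act 1 n6322 = n8249 := rfl
theorem F13686 : act 4 n8249 = n6916 := d7_2 (iv F10423) D8249 (iv D6916)
def n8250 : Q := act 3 n6322
theorem D8250 : act 3 n6322 = n8250 := rfl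
theorem F13687 : act 0 n8250 = n6953 := d2_1 D8250 (iv D6953) (iv F10422)
theorem F13688 : act 2 n8250 = n6950 := d9_1 D8250 F11522 F11219 F8447 F7747 D5276 D6951 (iv F13670) (iv D8244) (iv D6317) F7759 F5738 (iv F5747) D4774 D6322
theorem F13689 : act 4 n8250 = n6949 := d12_2 (iv F10423) D8250 F11521 F9722 (iv F8628)
def n8251 : Q := act 5 n6322
theorem D8251 : act 5 n6322 = n8251 := rfl
theorem F13690 : act 0 n8251 = n6951 := d4_1 D8251 F11524 (iv F10422)
theorem F13691 : act 2 n8251 = n6323 := d11_1 D8251 (iv D6323) D6322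
theorem F13692 : act 4 n8251 = n7793 := d14_1 D8251 (iv D7793) (iv F11450) F11451 (iv F10423)
def n8252 : Q := act 2 n6324
theorem D8252 : act 2 n6324 = n8252 := rfl
theorem F13693 : act 0 n8252 = n6949 := d1_1 D8252 F11520 (iv F10427)
theorem F13694 : act 3 n8252 = n6936 := d9_2 D6324 D8252 (iv D6936) (iv D5263) F6452 F4719 (iv F4733) D3953 D5274 D6948 F11518 (iv D5941) (iv F8616) F8617 (iv F7774)
theorem F13695 : act 4 n8252 = n6953 := d10_2 F13676 D8252 (iv F13674)
theorem F13696 : act 5 n8252 = n6325 := d11_2 (iv F10429) D8252 (iv D6325)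
def n8253 : Q := act 1 n6325
theorem D8253 : act 1 n6325 = n8253 := rfl
theorem F13697 : act 2 n8253 = n6560 := d5_2 D6325 D8253 (iv D6560) (iv D4972) (iv F7777)
theorem F13698 : act 4 n8253 = n6326 := d7_2 (iv F10431) D8253 (iv D6326)
def n8254 : Q := act 3 n6325
theorem D8254 : act 3 n6325 = n8254 := rfl
theorem F13699 : act 0 n8254 = n6948 := d2_1 D8254 (iv D6948) (iv F10430)
theorem F13700 : act 2 n8254 = n6937 := d9_1 D8254 F11498 F8651 F6453 (iv F6468) (iv F8672) (iv F11520) F11521 (iv D5942) (iv D4467) (iv F6427) F6428 (iv F5750) D4777 D6325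
theorem F13701 : act 5 n8254 = n6936 := d13_2 F13696 D8254 (iv F13694)
def n8255 : Q := act 0 n6326
theorem D8255 : act 0 n6326 = n8255 := rfl
theorem F13702 : act 2 n8255 = n6564 := d1_2 (iv F10432) D8255 (iv D6564)
def n8256 : Q := act 3 n6326
theorem D8256 : act 3 n6326 = n8256 := rfl
theorem F13703 : act 1 n8256 = n6327 := d6_1 D8256 (iv D6327) D6326
theorem F13704 : act 5 n8256 = n6750 := d13_2 F13679 D8256 (iv F13678)
def n8257 : Q := act 4 n6327
theorem D8257 : act 4 n6327 = n8257 := rfl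
theorem F13705 : act 2 n8257 = n6736 := d10_1 D8257 F11146 (iv F10434)
def n8258 : Q := act 3 n6328
theorem D8258 : act 3 n6328 = n8258 := rfl
theorem F13706 : act 0 n8258 = n6329 := d2_1 D8258 (iv D6329) D6328
theorem F13707 : act 1 n8258 = n6698 := d6_1 D8258 (iv D6698) (iv F10435)
def n8259 : Q := act 2 n6329
theorem D8259 : act 2 n6329 = n8259 := rfl
def n8260 : Q := act 1 n6330
theorem D8260 : act 1 n6330 = n8260 := rfl
def n8261 : Q := act 5 n6331
theorem D8261 : act 5 n6331 = n8261 := rfl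
theorem F13708 : act 0 n8261 = n6333 := d4_1 D8261 (iv D6333) (iv F10440)
theorem F13709 : act 1 n8261 = n6738 := d8_1 D8261 (iv D6738) (iv F10441)
def n8262 : Q := act 3 n6332
theorem D8262 : act 3 n6332 = n8262 := rfl
def n8263 : Q := act 5 n6332
theorem D8263 : act 5 n6332 = n8263 := rfl
theorem F13710 : act 2 n8263 = n6333 := d11_1 D8263 (iv D6333) (iv F10442)
def n8264 : Q := act 0 n6334
theorem D8264 : act 0 n6334 = n8264 := rfl
theorem F13711 : act 1 n8264 = n6338 := d0_2 D6334 D8264 (iv D6338) (iv D4788) (iv F7789)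
theorem F13712 : act 2 n8264 = n6413 := d1_2 (iv F10444) D8264 (iv D6413)
theorem F13713 : act 4 n8264 = n6553 := d3_2 (iv F10445) D8264 (iv D6553)
theorem F13714 : act 5 n6403 = n8264 := d11_0 F13712 (iv F10640) F10639
def n8265 : Q := act 3 n6334
theorem D8265 : act 3 n6334 = n8265 := rfl
theorem F13715 : act 1 n8265 = n6335 := d6_1 D8265 (iv D6335) D6334
def n8266 : Q := act 5 n6334
theorem D8266 : act 5 n6334 = n8266 := rfl
theorem F13716 : act 0 n8266 = n6403 := d4_1 D8266 F13714 (iv D8264)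
theorem F13717 : act 1 n8266 = n6336 := d8_1 D8266 (iv D6336) D6334
theorem F13718 : act 2 n8266 = n6416 := d11_1 D8266 (iv D6416) (iv F10444)
def n8267 : Q := act 4 n6335
theorem D8267 : act 4 n6335 = n8267 := rfl
theorem F13719 : act 0 n8267 = n6341 := d3_1 D8267 (iv D6341) (iv F10446)
theorem F13720 : act 3 n8267 = n6555 := d12_1 D8267 (iv D6555) (iv D4968) (iv F7790) D6335
def n8268 : Q := act 4 n6336
theorem D8268 : act 4 n6336 = n8268 := rfl
theorem F13721 : act 0 n8268 = n6343 := d3_1 D8268 (iv D6343) (iv F10447)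
theorem F13722 : act 2 n8268 = n6337 := d10_1 D8268 (iv D6337) (iv F10448)
theorem F13723 : act 5 n8268 = n6521 := d14_2 D6336 D8268 F10796 F8086 (iv F7790)
def n8269 : Q := act 3 n6338
theorem D8269 : act 3 n6338 = n8269 := rfl
theorem F13724 : act 0 n8269 = n6339 := d2_1 D8269 (iv D6339) D6338
theorem F13725 : act 5 n8269 = n6404 := d13_2 (iv F10455) D8269 (iv D6404)
theorem F13726 : act 2 n8269 = n6395 := d15_2 (iv F10453) D8269 (iv D6395) (iv D4836) (iv D3602) F4275 D2656 (iv F5771) D4792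
def n8270 : Q := act 2 n6339
theorem D8270 : act 2 n6339 = n8270 := rfl
theorem F13727 : act 0 n8270 = n6395 := d1_1 D8270 (iv F13726) F13724
theorem F13728 : act 5 n8270 = n6408 := d11_2 (iv F10457) D8270 (iv D6408)
theorem F13729 : act 3 n8270 = n6390 := d15_1 D8270 (iv D6390) (iv D4834) F5846 D3607 D4843 D6404 (iv F13725) F13724
def n8271 : Q := act 4 n6339
theorem D8271 : act 4 n6339 = n8271 := rfl
theorem F13730 : act 1 n8271 = n6341 := d7_1 D8271 (iv D6341) (iv F10456)
theorem F13731 : act 3 n8271 = n6571 := d12_1 D8271 (iv D6571) (iv D4979) (iv F7795) D6339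
def n8272 : Q := act 1 n6340
theorem D8272 : act 1 n6340 = n8272 := rfl
def n8273 : Q := act 4 n6340
theorem D8273 : act 4 n6340 = n8273 := rfl
theorem F13732 : act 2 n8273 = n6341 := d10_1 D8273 (iv D6341) D6340
def n8274 : Q := act 5 n6341
theorem D8274 : act 5 n6341 = n8274 := rfl
theorem F13733 : act 3 n8274 = n6574 := d13_1 D8274 (iv D6574) (iv F10458)
def n8275 : Q := act 4 n6342
theorem D8275 : act 4 n6342 = n8275 := rfl
theorem F13734 : act 1 n8275 = n6409 := d7_1 D8275 (iv D6409) (iv F10459)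
def n8276 : Q := act 3 n6343
theorem D8276 : act 3 n6343 = n8276 := rfl
theorem F13735 : act 1 n8276 = n6410 := d6_1 D8276 (iv D6410) (iv F10461)
theorem F13736 : act 5 n8276 = n6539 := d13_2 (iv F10463) D8276 (iv D6539)
def n8277 : Q := act 2 n6344
theorem D8277 : act 2 n6344 = n8277 := rfl
theorem F13737 : act 0 n8277 = n6345 := d1_1 D8277 (iv D6345) (iv F10464)
theorem F13738 : act 4 n8277 = n6469 := d10_2 (iv F10466) D8277 (iv D6469)
def n8278 : Q := act 3 n6345
theorem D8278 : act 3 n6345 = n8278 := rfl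
theorem F13739 : act 1 n8278 = n7639 := d6_1 D8278 (iv D7639) (iv F10467)
def n8279 : Q := act 5 n6346
theorem D8279 : act 5 n6346 = n8279 := rfl
theorem F13740 : act 0 n8279 = n6839 := d4_1 D8279 (iv D6839) (iv F10469)
theorem F13741 : act 1 n8279 = n6349 := d8_1 D8279 (iv D6349) (iv F10470)
theorem F13742 : act 2 n8279 = n6832 := d11_1 D8279 (iv D6832) (iv F10471)
theorem F13743 : act 4 n8279 = n6466 := d14_1 D8279 (iv D6466) (iv D4892) (iv F7815) D6346
def n8280 : Q := act 4 n6347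
theorem D8280 : act 4 n6347 = n8280 := rfl
theorem F13744 : act 0 n8280 = n7155 := d3_1 D8280 (iv D7155) (iv F10472)
theorem F13745 : act 1 n8280 = n6348 := d7_1 D8280 (iv D6348) D6347
theorem F13746 : act 2 n8280 = n6828 := d10_1 D8280 (iv D6828) (iv F10473)
def n8281 : Q := act 3 n6348
theorem D8281 : act 3 n6348 = n8281 := rfl
theorem F13747 : act 0 n8281 = n6983 := d2_1 D8281 (iv D6983) (iv F10476)
theorem F13748 : act 4 n8281 = n6982 := d12_2 D6348 D8281 (iv D6982) (iv D5303) (iv F7818)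
def n8282 : Q := act 5 n6348
theorem D8282 : act 5 n6348 = n8282 := rfl
theorem F13749 : act 0 n8282 = n6984 := d4_1 D8282 (iv D6984) (iv F10476)
theorem F13750 : act 2 n8282 = n6349 := d11_1 D8282 (iv D6349) (iv F10477)
theorem F13751 : act 4 n8282 = n6987 := d14_1 D8282 (iv D6987) (iv D5308) (iv F7819) D6348
def n8283 : Q := act 2 n6351
theorem D8283 : act 2 n6351 = n8283 := rfl
theorem F13752 : act 0 n8283 = n6352 := d1_1 D8283 (iv D6352) (iv F10482)
theorem F13753 : act 4 n8283 = n6487 := d10_2 (iv F10484) D8283 (iv D6487)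
def n8284 : Q := act 1 n6352
theorem D8284 : act 1 n6352 = n8284 := rfl
theorem F13754 : act 2 n8284 = n6353 := d5_2 D6352 D8284 (iv D6353) (iv D4803) (iv F7829)
theorem F13755 : act 4 n8284 = n6489 := d7_2 (iv F10485) D8284 (iv D6489)
theorem F13756 : act 5 n8284 = n6851 := d8_2 F11235 D8284 F11312
def n8285 : Q := act 3 n6352
theorem D8285 : act 3 n6352 = n8285 := rfl
def n8286 : Q := act 0 n6353
theorem D8286 : act 0 n6353 = n8286 := rfl
theorem F13757 : act 1 n8286 = n6388 := d0_2 D6353 D8286 (iv D6388) (iv D4832) (iv F7831)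
theorem F13758 : act 3 n8286 = n6827 := d2_2 (iv F10486) D8286 (iv D6827)
theorem F13759 : act 4 n8286 = n6493 := d3_2 (iv F10487) D8286 (iv D6493)
theorem F13760 : act 5 n8286 = n6850 := d4_2 (iv F10488) D8286 F11311
def n8287 : Q := act 3 n6354
theorem D8287 : act 3 n6354 = n8287 := rfl
theorem F13761 : act 1 n8287 = n6355 := d6_1 D8287 (iv D6355) D6354
theorem F13762 : act 5 n8287 = n6426 := d13_2 (iv F11238) D8287 F11237
def n8288 : Q := act 4 n6354
theorem D8288 : act 4 n6354 = n8288 := rfl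
theorem F13763 : act 1 n8288 = n6356 := d7_1 D8288 (iv D6356) D6354
def n8289 : Q := act 4 n6355
theorem D8289 : act 4 n6355 = n8289 := rfl
theorem F13764 : act 0 n8289 = n6360 := d3_1 D8289 (iv D6360) (iv F10489)
theorem F13765 : act 2 n8289 = n6430 := d10_1 D8289 (iv D6430) (iv F10490)
def n8290 : Q := act 3 n6356
theorem D8290 : act 3 n6356 = n8290 := rfl
theorem F13766 : act 0 n8290 = n6361 := d2_1 D8290 (iv D6361) (iv F10492)
def n8291 : Q := act 5 n6356
theorem D8291 : act 5 n6356 = n8291 := rfl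
theorem F13767 : act 0 n8291 = n6362 := d4_1 D8291 (iv D6362) (iv F10492)
theorem F13768 : act 2 n8291 = n6357 := d11_1 D8291 (iv D6357) (iv F10493)
def n8292 : Q := act 2 n6358
theorem D8292 : act 2 n6358 = n8292 := rfl
theorem F13769 : act 0 n8292 = n6363 := d1_1 D8292 (iv D6363) (iv F10496)
theorem F13770 : act 5 n8292 = n6371 := d11_2 (iv F10497) D8292 (iv D6371)
theorem F13771 : act 3 n8292 = n6451 := d15_1 D8292 (iv D6451) (iv D4881) (iv D3642) (iv D2681) (iv F4267) D3594 (iv F7845) (iv F10496)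
def n8293 : Q := act 1 n6359
theorem D8293 : act 1 n6359 = n8293 := rfl
theorem F13772 : act 3 n8293 = n6416 := d6_2 (iv F10499) D8293 F10595
theorem F13773 : act 5 n8293 = n6414 := d8_2 (iv F10500) D8293 F10592
def n8294 : Q := act 4 n6359
theorem D8294 : act 4 n6359 = n8294 := rfl
theorem F13774 : act 0 n8294 = n6430 := d3_1 D8294 (iv D6430) (iv F10498)
theorem F13775 : act 2 n8294 = n6360 := d10_1 D8294 (iv D6360) D6359
def n8295 : Q := act 3 n6360
theorem D8295 : act 3 n6360 = n8295 := rfl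
theorem F13776 : act 4 n8295 = n6361 := d12_2 D6360 D8295 (iv D6361) (iv D4808) D4807
def n8296 : Q := act 5 n6360
theorem D8296 : act 5 n6360 = n8296 := rfl
def n8297 : Q := act 2 n6361
theorem D8297 : act 2 n6361 = n8297 := rfl
def n8298 : Q := act 5 n6361
theorem D8298 : act 5 n6361 = n8298 := rfl
theorem F13777 : act 3 n8298 = n6362 := d13_1 D8298 (iv D6362) D6361
def n8299 : Q := act 1 n6363
theorem D8299 : act 1 n6363 = n8299 := rfl
theorem F13778 : act 2 n8299 = n6364 := d5_2 D6363 D8299 (iv D6364) (iv D4811) (iv F7844)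
theorem F13779 : act 5 n8299 = n6384 := d8_2 (iv F10502) D8299 (iv D6384)
def n8300 : Q := act 3 n6363
theorem D8300 : act 3 n6363 = n8300 := rfl
theorem F13780 : act 0 n8300 = n6451 := d2_1 D8300 (iv F13771) F13769
theorem F13781 : act 5 n8300 = n6385 := d13_2 (iv F10502) D8300 (iv D6385)
theorem F13782 : act 2 n8300 = n6375 := d15_2 D6363 D8300 (iv D6375) F7871 (iv D3639) (iv F5821) D4817 (iv F10497) F10496
theorem F13783 : act 4 n6378 = n8300 := d10_0 F13782 F10532 D6378
def n8301 : Q := act 0 n6364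
theorem D8301 : act 0 n6364 = n8301 := rfl
theorem F13784 : act 1 n8301 = n6850 := d0_2 D6364 D8301 F11311 F8512 (iv F7846)
theorem F13785 : act 3 n8301 = n6695 := d2_2 (iv F10503) D8301 F11069
theorem F13786 : act 5 n8301 = n6388 := d4_2 (iv F10504) D8301 (iv D6388)
def n8302 : Q := act 3 n6365
theorem D8302 : act 3 n6365 = n8302 := rfl
theorem F13787 : act 0 n8302 = n7337 := d2_1 D8302 (iv D7337) (iv F10505)
theorem F13788 : act 1 n8302 = n6366 := d6_1 D8302 (iv D6366) (iv F10506)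
theorem F13789 : act 4 n8302 = n6450 := d12_2 D6365 D8302 (iv D6450) F7979 (iv F7851)
def n8303 : Q := act 5 n6365
theorem D8303 : act 5 n6365 = n8303 := rfl
theorem F13790 : act 0 n8303 = n7338 := d4_1 D8303 (iv D7338) (iv F10505)
theorem F13791 : act 1 n8303 = n6367 := d8_1 D8303 (iv D6367) (iv F10506)
theorem F13792 : act 2 n8303 = n7332 := d11_1 D8303 (iv D7332) (iv F10507)
theorem F13793 : act 4 n8303 = n6511 := d14_1 D8303 (iv D6511) (iv D4931) F7852 D6365
def n8304 : Q := act 2 n6366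
theorem D8304 : act 2 n6366 = n8304 := rfl
theorem F13794 : act 0 n8304 = n6378 := d1_1 D8304 (iv D6378) (iv F10508)
theorem F13795 : act 4 n8304 = n6451 := d10_2 (iv F10509) D8304 (iv D6451)
def n8305 : Q := act 5 n6366
theorem D8305 : act 5 n6366 = n8305 := rfl
theorem F13796 : act 0 n8305 = n6379 := d4_1 D8305 (iv D6379) (iv F10508)
theorem F13797 : act 3 n8305 = n6367 := d13_1 D8305 (iv D6367) D6366
def n8306 : Q := act 4 n6367
theorem D8306 : act 4 n6367 = n8306 := rfl
theorem F13798 : act 0 n8306 = n6380 := d3_1 D8306 (iv D6380) (iv F10510)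
theorem F13799 : act 1 n8306 = n6511 := d7_1 D8306 (iv F13793) F13791
theorem F13800 : act 2 n8306 = n6369 := d10_1 D8306 (iv D6369) (iv F10511)
theorem F13801 : act 5 n8306 = n6368 := d14_2 D6367 D8306 (iv D6368) (iv D4814) D4813
def n8307 : Q := act 3 n6368
theorem D8307 : act 3 n6368 = n8307 := rfl
theorem F13802 : act 0 n8307 = n6381 := d2_1 D8307 (iv D6381) (iv F10512)
theorem F13803 : act 1 n8307 = n6510 := d6_1 D8307 (iv D6510) (iv F10513)
theorem F13804 : act 4 n8307 = n6448 := d12_2 D6368 D8307 (iv D6448) (iv D4879) (iv F7858)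
def n8308 : Q := act 3 n6369
theorem D8308 : act 3 n6369 = n8308 := rfl
theorem F13805 : act 0 n8308 = n6382 := d2_1 D8308 (iv D6382) (iv F10515)
theorem F13806 : act 1 n8308 = n6488 := d6_1 D8308 F10736 (iv F10516)
theorem F13807 : act 5 n8308 = n6370 := d13_2 (iv F10517) D8308 (iv D6370)
def n8309 : Q := act 2 n6370
theorem D8309 : act 2 n6370 = n8309 := rfl
theorem F13808 : act 0 n8309 = n6383 := d1_1 D8309 (iv D6383) (iv F10518)
theorem F13809 : act 4 n8309 = n6371 := d10_2 (iv F10520) D8309 (iv D6371)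
def n8310 : Q := act 1 n6371
theorem D8310 : act 1 n6371 = n8310 := rfl
def n8311 : Q := act 3 n6371
theorem D8311 : act 3 n6371 = n8311 := rfl
theorem F13810 : act 0 n8311 = n6385 := d2_1 D8311 (iv D6385) (iv F10521)
theorem F13811 : act 2 n8311 = n6436 := d9_1 D8311 (iv D6436) (iv D4868) (iv D3624) (iv F5810) D4810 D6363 D8300 F13782 (iv D6375) F7871 (iv D3639) (iv F5821) D4817 D6371
theorem F13812 : act 5 n8311 = n6451 := d13_2 F13770 D8311 (iv F13771)
def n8312 : Q := act 3 n6372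
theorem D8312 : act 3 n6372 = n8312 := rfl
theorem F13813 : act 0 n8312 = n7205 := d2_1 D8312 (iv D7205) (iv F10522)
theorem F13814 : act 1 n8312 = n6375 := d6_1 D8312 (iv D6375) (iv F10523)
theorem F13815 : act 4 n8312 = n6373 := d12_2 D6372 D8312 (iv D6373) (iv D4819) D4818
def n8313 : Q := act 5 n6372
theorem D8313 : act 5 n6372 = n8313 := rfl
theorem F13816 : act 0 n8313 = n7206 := d4_1 D8313 (iv D7206) (iv F10522)
theorem F13817 : act 1 n8313 = n6376 := d8_1 D8313 (iv D6376) (iv F10523)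
theorem F13818 : act 2 n8313 = n6516 := d11_1 D8313 (iv D6516) (iv F10524)
theorem F13819 : act 4 n8313 = n6475 := d14_1 D8313 (iv D6475) (iv D4901) (iv F7865) D6372
def n8314 : Q := act 2 n6373
theorem D8314 : act 2 n6373 = n8314 := rfl
theorem F13820 : act 0 n8314 = n7640 := d1_1 D8314 (iv D7640) (iv F10525)
def n8315 : Q := act 5 n6373
theorem D8315 : act 5 n6373 = n8315 := rfl
theorem F13821 : act 0 n8315 = n7641 := d4_1 D8315 (iv D7641) (iv F10525)
theorem F13822 : act 1 n8315 = n6379 := d8_1 D8315 (iv D6379) (iv F10526)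
theorem F13823 : act 3 n8315 = n6374 := d13_1 D8315 (iv D6374) D6373
def n8316 : Q := act 5 n6375
theorem D8316 : act 5 n6375 = n8316 := rfl
theorem F13824 : act 0 n8316 = n6436 := d4_1 D8316 F10626 (iv F10531)
theorem F13825 : act 2 n8316 = n6385 := d11_1 D8316 (iv F13781) F13782
theorem F13826 : act 3 n8316 = n6376 := d13_1 D8316 (iv D6376) D6375
def n8317 : Q := act 4 n6376
theorem D8317 : act 4 n6376 = n8317 := rfl
theorem F13827 : act 0 n8317 = n6434 := d3_1 D8317 F10621 (iv F10533)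
theorem F13828 : act 1 n8317 = n6475 := d7_1 D8317 (iv F13819) F13817
theorem F13829 : act 2 n8317 = n6422 := d10_1 D8317 F10609 (iv F10534)
theorem F13830 : act 5 n8317 = n6377 := d14_2 D6376 D8317 (iv D6377) (iv D4821) D4820
def n8318 : Q := act 3 n6377
theorem D8318 : act 3 n6377 = n8318 := rfl
theorem F13831 : act 0 n8318 = n6448 := d2_1 D8318 (iv D6448) (iv F10535)
theorem F13832 : act 1 n8318 = n6474 := d6_1 D8318 (iv D6474) (iv F10536)
theorem F13833 : act 4 n8318 = n6381 := d12_2 D6377 D8318 (iv D6381) (iv D4824) (iv F7875)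
def n8319 : Q := act 1 n6378
theorem D8319 : act 1 n6378 = n8319 := rfl
def n8320 : Q := act 3 n6378
theorem D8320 : act 3 n6378 = n8320 := rfl
def n8321 : Q := act 5 n6378
theorem D8321 : act 5 n6378 = n8321 := rfl
theorem F13834 : act 2 n8321 = n6379 := d11_1 D8321 (iv D6379) D6378
def n8322 : Q := act 4 n6379
theorem D8322 : act 4 n6379 = n8322 := rfl
def n8323 : Q := act 3 n6380
theorem D8323 : act 3 n6380 = n8323 := rfl
theorem F13835 : act 1 n8323 = n6477 := d6_1 D8323 F10710 (iv F10539)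
theorem F13836 : act 5 n8323 = n6381 := d13_2 (iv F10541) D8323 (iv D6381)
def n8324 : Q := act 2 n6381
theorem D8324 : act 2 n6381 = n8324 := rfl
def n8325 : Q := act 2 n6382
theorem D8325 : act 2 n6382 = n8325 := rfl
theorem F13837 : act 1 n8325 = n6888 := d5_1 D8325 (iv D6888) F8560 (iv F7890) (iv F10543)
theorem F13838 : act 5 n8325 = n6383 := d11_2 (iv F10544) D8325 (iv D6383)
def n8326 : Q := act 1 n6383
theorem D8326 : act 1 n6383 = n8326 := rfl
theorem F13839 : act 2 n8326 = n6387 := d5_2 D6383 D8326 (iv D6387) (iv D4831) (iv F7881)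
theorem F13840 : act 4 n8326 = n6384 := d7_2 (iv F10545) D8326 (iv D6384)
theorem F13841 : act 5 n8326 = n6888 := d8_2 F13838 D8326 (iv F13837)
def n8327 : Q := act 3 n6383
theorem D8327 : act 3 n6383 = n8327 := rfl
def n8328 : Q := act 0 n6384
theorem D8328 : act 0 n6384 = n8328 := rfl
theorem F13842 : act 2 n8328 = n6388 := d1_2 (iv F10546) D8328 (iv D6388)
def n8329 : Q := act 3 n6384
theorem D8329 : act 3 n6384 = n8329 := rfl
theorem F13843 : act 1 n8329 = n6385 := d6_1 D8329 (iv D6385) D6384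
def n8330 : Q := act 4 n6385
theorem D8330 : act 4 n6385 = n8330 := rfl
def n8331 : Q := act 3 n6386
theorem D8331 : act 3 n6386 = n8331 := rfl
theorem F13844 : act 0 n8331 = n7243 := d2_1 D8331 (iv D7243) (iv F10547)
theorem F13845 : act 1 n8331 = n6656 := d6_1 D8331 (iv D6656) (iv F10548)
def n8332 : Q := act 0 n6387
theorem D8332 : act 0 n6387 = n8332 := rfl
theorem F13846 : act 1 n8332 = n6493 := d0_2 D6387 D8332 (iv D6493) (iv D4914) (iv F7892)
theorem F13847 : act 3 n8332 = n6887 := d2_2 (iv F10550) D8332 F11384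
theorem F13848 : act 4 n8332 = n6388 := d3_2 (iv F10551) D8332 (iv D6388)
theorem F13849 : act 5 n8332 = n6886 := d4_2 (iv F10552) D8332 F11381
def n8333 : Q := act 3 n6388
theorem D8333 : act 3 n6388 = n8333 := rfl
theorem F13850 : act 0 n8333 = n6389 := d2_1 D8333 (iv D6389) D6388
theorem F13851 : act 1 n8333 = n6827 := d6_1 D8333 (iv F13758) F13757
theorem F13852 : act 5 n8333 = n6695 := d13_2 F13786 D8333 (iv F13785)
def n8334 : Q := act 2 n6389
theorem D8334 : act 2 n6389 = n8334 := rfl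
theorem F13853 : act 1 n8334 = n6690 := d5_1 D8334 F11059 F8301 (iv F7897) (iv F10553)
theorem F13854 : act 5 n8334 = n6685 := d11_2 (iv F10554) D8334 F11054
def n8335 : Q := act 1 n6390
theorem D8335 : act 1 n6390 = n8335 := rfl
def n8336 : Q := act 4 n6390
theorem D8336 : act 4 n6390 = n8336 := rfl
theorem F13855 : act 0 n8336 = n6396 := d3_1 D8336 (iv D6396) (iv F10555)
theorem F13856 : act 2 n8336 = n6391 := d10_1 D8336 (iv D6391) D6390
def n8337 : Q := act 5 n6390
theorem D8337 : act 5 n6390 = n8337 := rfl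
theorem F13857 : act 0 n8337 = n6394 := d4_1 D8337 (iv F10564) (iv F10555)
theorem F13858 : act 2 n8337 = n6392 := d11_1 D8337 (iv D6392) D6390
theorem F13859 : act 3 n8337 = n6408 := d13_1 D8337 (iv F13728) F13729
def n8338 : Q := act 5 n6391
theorem D8338 : act 5 n6391 = n8338 := rfl
theorem F13860 : act 0 n8338 = n6397 := d4_1 D8338 (iv D6397) (iv F10556)
theorem F13861 : act 3 n8338 = n8261 := d13_1 D8338 (iv D8261) (iv F10557)
def n8339 : Q := act 4 n6392
theorem D8339 : act 4 n6392 = n8339 := rfl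
theorem F13862 : act 0 n8339 = n6398 := d3_1 D8339 (iv D6398) (iv F10558)
def n8340 : Q := act 3 n6393
theorem D8340 : act 3 n6393 = n8340 := rfl
theorem F13863 : act 0 n8340 = n6399 := d2_1 D8340 (iv D6399) (iv F10560)
theorem F13864 : act 5 n8340 = n8258 := d13_2 (iv F10562) D8340 (iv D8258)
def n8341 : Q := act 3 n6394
theorem D8341 : act 3 n6394 = n8341 := rfl
theorem F13865 : act 0 n8341 = n6408 := d2_1 D8341 (iv F13859) F13857
theorem F13866 : act 1 n8341 = n6395 := d6_1 D8341 (iv D6395) D6394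
theorem F13867 : act 2 n8341 = n6404 := d9_1 D8341 (iv D6404) (iv D4843) (iv D3607) (iv F5846) D4834 D6390 (iv F13729) (iv D8270) (iv D6339) F7794 F5769 (iv F5850) (iv F7905) (iv F10563)
theorem F13868 : act 5 n8341 = n6395 := d13_2 F10564 D8341 (iv D6395)
def n8342 : Q := act 4 n6394
theorem D8342 : act 4 n6394 = n8342 := rfl
theorem F13869 : act 1 n8342 = n6396 := d7_1 D8342 (iv D6396) D6394
theorem F13870 : act 2 n8342 = n6398 := d10_1 D8342 (iv D6398) (iv F10563)
def n8343 : Q := act 4 n6395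
theorem D8343 : act 4 n6395 = n8343 := rfl
def n8344 : Q := act 3 n6396
theorem D8344 : act 3 n6396 = n8344 := rfl
def n8345 : Q := act 5 n6396
theorem D8345 : act 5 n6396 = n8345 := rfl
theorem F13871 : act 2 n8345 = n6397 := d11_1 D8345 (iv D6397) (iv F10565)
def n8346 : Q := act 4 n6397
theorem D8346 : act 4 n6397 = n8346 := rfl
theorem F13872 : act 1 n8346 = n6401 := d7_1 D8346 F10573 (iv F10566)
theorem F13873 : act 5 n8346 = n6398 := d14_2 D6397 D8346 (iv D6398) (iv D4838) D4837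
def n8347 : Q := act 3 n6398
theorem D8347 : act 3 n6398 = n8347 := rfl
theorem F13874 : act 1 n8347 = n6400 := d6_1 D8347 (iv D6400) (iv F10568)
theorem F13875 : act 4 n8347 = n6399 := d12_2 D6398 D8347 (iv D6399) (iv D4839) (iv F7905)
def n8348 : Q := act 2 n6399
theorem D8348 : act 2 n6399 = n8348 := rfl
theorem F13876 : act 5 n8348 = n8259 := d11_2 (iv F10570) D8348 (iv D8259)
def n8349 : Q := act 2 n6400
theorem D8349 : act 2 n6400 = n8349 := rfl
theorem F13877 : act 0 n8349 = n8257 := d1_1 D8349 F13705 F11145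
theorem F13878 : act 4 n8349 = n6402 := d10_2 (iv F10571) D8349 (iv D6402)
def n8350 : Q := act 5 n6400
theorem D8350 : act 5 n6400 = n8350 := rfl
theorem F13879 : act 3 n8350 = n6401 := d13_1 D8350 (iv D6401) D6400
theorem F13880 : act 4 n8350 = n8133 := d14_1 D8350 (iv D8133) F10285 (iv F7911) (iv F10571)
def n8351 : Q := act 1 n6402
theorem D8351 : act 1 n6402 = n8351 := rfl
theorem F13881 : act 3 n8351 = n8232 := d6_2 (iv F10575) D8351 (iv D8232)
theorem F13882 : act 5 n8351 = n8260 := d8_2 (iv F10576) D8351 (iv D8260)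
def n8352 : Q := act 3 n6403
theorem D8352 : act 3 n6403 = n8352 := rfl
theorem F13883 : act 1 n8352 = n6404 := d6_1 D8352 (iv D6404) D6403
def n8353 : Q := act 4 n6403
theorem D8353 : act 4 n6403 = n8353 := rfl
theorem F13884 : act 1 n8353 = n6405 := d7_1 D8353 (iv D6405) D6403
def n8354 : Q := act 4 n6404
theorem D8354 : act 4 n6404 = n8354 := rfl
theorem F13885 : act 0 n8354 = n6409 := d3_1 D8354 (iv D6409) (iv F10577)
def n8355 : Q := act 3 n6405
theorem D8355 : act 3 n6405 = n8355 := rfl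
theorem F13886 : act 0 n8355 = n6410 := d2_1 D8355 (iv D6410) (iv F10578)
def n8356 : Q := act 5 n6405
theorem D8356 : act 5 n6405 = n8356 := rfl
theorem F13887 : act 0 n8356 = n6411 := d4_1 D8356 (iv D6411) (iv F10578)
theorem F13888 : act 2 n8356 = n6406 := d11_1 D8356 (iv D6406) (iv F10579)
theorem F13889 : act 4 n8356 = n6540 := d14_1 D8356 F10829 (iv F10454) F10455 D6405
def n8357 : Q := act 2 n6407
theorem D8357 : act 2 n6407 = n8357 := rfl
theorem F13890 : act 0 n8357 = n6412 := d1_1 D8357 (iv D6412) (iv F10583)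
theorem F13891 : act 4 n8357 = n6575 := d10_2 (iv F10584) D8357 (iv D6575)
theorem F13892 : act 5 n8357 = n8277 := d11_2 (iv F10585) D8357 (iv D8277)
def n8358 : Q := act 1 n6408
theorem D8358 : act 1 n6408 = n8358 := rfl
def n8359 : Q := act 4 n6408
theorem D8359 : act 4 n6408 = n8359 := rfl
theorem F13893 : act 2 n8359 = n6409 := d10_1 D8359 (iv D6409) D6408
def n8360 : Q := act 3 n6409
theorem D8360 : act 3 n6409 = n8360 := rfl
theorem F13894 : act 4 n8360 = n6410 := d12_2 D6409 D8360 (iv D6410) (iv D4847) D4846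
def n8361 : Q := act 5 n6409
theorem D8361 : act 5 n6409 = n8361 := rfl
def n8362 : Q := act 2 n6410
theorem D8362 : act 2 n6410 = n8362 := rfl
def n8363 : Q := act 5 n6410
theorem D8363 : act 5 n6410 = n8363 := rfl
theorem F13895 : act 1 n8363 = n6539 := d8_1 D8363 (iv F13736) F13735
theorem F13896 : act 3 n8363 = n6411 := d13_1 D8363 (iv D6411) D6410
def n8364 : Q := act 3 n6412
theorem D8364 : act 3 n6412 = n8364 := rfl
theorem F13897 : act 5 n8364 = n8278 := d13_2 (iv F10590) D8364 (iv D8278)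
def n8365 : Q := act 4 n6413
theorem D8365 : act 4 n6413 = n8365 := rfl
theorem F13898 : act 0 n8365 = n6415 := d3_1 D8365 (iv D6415) D6413
theorem F13899 : act 1 n8365 = n6423 := d7_1 D8365 (iv D6423) (iv F10591)
theorem F13900 : act 2 n8365 = n6553 := d10_1 D8365 (iv F13713) F13712
def n8366 : Q := act 4 n6414
theorem D8366 : act 4 n6414 = n8366 := rfl
theorem F13901 : act 1 n8366 = n6417 := d7_1 D8366 (iv D6417) (iv F10592)
def n8367 : Q := act 3 n6415
theorem D8367 : act 3 n6415 = n8367 := rfl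
theorem F13902 : act 1 n8367 = n6418 := d6_1 D8367 (iv D6418) (iv F10593)
def n8368 : Q := act 5 n6415
theorem D8368 : act 5 n6415 = n8368 := rfl
theorem F13903 : act 1 n8368 = n6419 := d8_1 D8368 (iv D6419) (iv F10593)
theorem F13904 : act 2 n8368 = n6522 := d11_1 D8368 F10797 (iv F10594)
def n8369 : Q := act 4 n6416
theorem D8369 : act 4 n6416 = n8369 := rfl
theorem F13905 : act 1 n8369 = n6420 := d7_1 D8369 (iv D6420) (iv F10595)
def n8370 : Q := act 3 n6417
theorem D8370 : act 3 n6417 = n8370 := rfl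
theorem F13906 : act 0 n8370 = n6428 := d2_1 D8370 (iv D6428) (iv F10596)
theorem F13907 : act 4 n8370 = n6418 := d12_2 D6417 D8370 (iv D6418) (iv D4852) D4851
theorem F13908 : act 2 n6428 = n8370 := d10_3 F13907 F10598 (iv F10616)
def n8371 : Q := act 5 n6417
theorem D8371 : act 5 n6417 = n8371 := rfl
theorem F13909 : act 0 n8371 = n6429 := d4_1 D8371 (iv D6429) (iv F10596)
def n8372 : Q := act 5 n6418
theorem D8372 : act 5 n6418 = n8372 := rfl
theorem F13910 : act 0 n8372 = n6431 := d4_1 D8372 (iv D6431) (iv F10597)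
theorem F13911 : act 2 n8372 = n6431 := d11_1 D8372 (iv D6431) (iv F10598)
theorem F13912 : act 3 n8372 = n6419 := d13_1 D8372 (iv D6419) D6418
def n8373 : Q := act 4 n6419
theorem D8373 : act 4 n6419 = n8373 := rfl
theorem F13913 : act 0 n8373 = n6432 := d3_1 D8373 (iv D6432) (iv F10599)
theorem F13914 : act 2 n8373 = n6421 := d10_1 D8373 (iv D6421) (iv F10600)
theorem F13915 : act 5 n8373 = n6420 := d14_2 D6419 D8373 (iv D6420) (iv D4853) D4852
def n8374 : Q := act 3 n6420
theorem D8374 : act 3 n6420 = n8374 := rfl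
theorem F13916 : act 0 n8374 = n6433 := d2_1 D8374 (iv D6433) (iv F10601)
def n8375 : Q := act 3 n6423
theorem D8375 : act 3 n6423 = n8375 := rfl
theorem F13917 : act 0 n8375 = n6425 := d2_1 D8375 (iv D6425) (iv F10611)
def n8376 : Q := act 3 n6424
theorem D8376 : act 3 n6424 = n8376 := rfl
theorem F13918 : act 1 n8376 = n6428 := d6_1 D8376 (iv D6428) (iv F10613)
theorem F13919 : act 4 n8376 = n6425 := d12_2 D6424 D8376 (iv D6425) (iv D4859) D4858
def n8377 : Q := act 5 n6424
theorem D8377 : act 5 n6424 = n8377 := rfl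
theorem F13920 : act 1 n8377 = n6429 := d8_1 D8377 (iv D6429) (iv F10613)
def n8378 : Q := act 2 n6425
theorem D8378 : act 2 n6425 = n8378 := rfl
def n8379 : Q := act 4 n6426
theorem D8379 : act 4 n6426 = n8379 := rfl
theorem F13921 : act 1 n8379 = n6427 := d7_1 D8379 (iv D6427) D6426
def n8380 : Q := act 3 n6427
theorem D8380 : act 3 n6427 = n8380 := rfl
def n8381 : Q := act 5 n6427
theorem D8381 : act 5 n6427 = n8381 := rfl
theorem F13922 : act 2 n8381 = n6429 := d11_1 D8381 (iv D6429) (iv F10615)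
def n8382 : Q := act 5 n6428
theorem D8382 : act 5 n6428 = n8382 := rfl
theorem F13923 : act 3 n8382 = n6429 := d13_1 D8382 (iv D6429) D6428
def n8383 : Q := act 4 n6429
theorem D8383 : act 4 n6429 = n8383 := rfl
theorem F13924 : act 5 n8383 = n6430 := d14_2 D6429 D8383 (iv D6430) (iv D4862) D4861
def n8384 : Q := act 3 n6430
theorem D8384 : act 3 n6430 = n8384 := rfl
theorem F13925 : act 4 n8384 = n6433 := d12_2 D6430 D8384 (iv D6433) (iv D4865) (iv F7940)
def n8385 : Q := act 4 n6431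
theorem D8385 : act 4 n6431 = n8385 := rfl
def n8386 : Q := act 3 n6432
theorem D8386 : act 3 n6432 = n8386 := rfl
theorem F13926 : act 5 n8386 = n6433 := d13_2 (iv F10619) D8386 (iv D6433)
def n8387 : Q := act 2 n6433
theorem D8387 : act 2 n6433 = n8387 := rfl
def n8388 : Q := act 3 n6434
theorem D8388 : act 3 n6434 = n8388 := rfl
theorem F13927 : act 1 n8388 = n6513 := d6_1 D8388 F10778 (iv F10620)
theorem F13928 : act 5 n8388 = n6448 := d13_2 (iv F10622) D8388 (iv D6448)
def n8389 : Q := act 0 n6435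
theorem D8389 : act 0 n6435 = n8389 := rfl
theorem F13929 : act 1 n8389 = n7206 := d0_2 D6435 D8389 (iv F13816) F13817 F10533
theorem F13930 : act 2 n8389 = n6437 := d1_2 (iv F10623) D8389 (iv D6437)
theorem F13931 : act 4 n8389 = n6508 := d3_2 (iv F10624) D8389 F10770
theorem F13932 : act 5 n8389 = n6449 := d4_2 (iv F10625) D8389 (iv D6449)
def n8390 : Q := act 3 n6435
theorem D8390 : act 3 n6435 = n8390 := rfl
theorem F13933 : act 1 n8390 = n6436 := d6_1 D8390 (iv D6436) D6435
theorem F13934 : act 5 n8390 = n6450 := d13_2 (iv F10625) D8390 (iv D6450)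
def n8391 : Q := act 4 n6436
theorem D8391 : act 4 n6436 = n8391 := rfl
def n8392 : Q := act 2 n6438
theorem D8392 : act 2 n6438 = n8392 := rfl
theorem F13935 : act 0 n8392 = n6439 := d1_1 D8392 (iv D6439) (iv F10631)
theorem F13936 : act 4 n8392 = n7152 := d10_2 (iv F10633) D8392 F11867
theorem F13937 : act 5 n8392 = n6454 := d11_2 (iv F10634) D8392 (iv D6454)
theorem F13938 : act 3 n8392 = n6848 := d15_1 D8392 (iv D6848) (iv D5196) (iv D3891) (iv D2875) (iv F4331) D3646 (iv F7961) (iv F10631)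
def n8393 : Q := act 3 n6439
theorem D8393 : act 3 n6439 = n8393 := rfl
theorem F13939 : act 0 n8393 = n6848 := d2_1 D8393 (iv F13938) F13935
theorem F13940 : act 1 n8393 = n6544 := d6_1 D8393 (iv D6544) (iv F10635)
theorem F13941 : act 5 n8393 = n6456 := d13_2 (iv F10637) D8393 (iv D6456)
theorem F13942 : act 2 n8393 = n6836 := d15_2 D6439 D8393 (iv D6836) (iv D5188) (iv D3886) (iv F5937) D4884 (iv F10634) F10631
def n8394 : Q := act 3 n6440
theorem D8394 : act 3 n6440 = n8394 := rfl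
theorem F13943 : act 0 n8394 = n8293 := d2_1 D8394 F13772 (iv F10638)
theorem F13944 : act 1 n8394 = n6441 := d6_1 D8394 (iv D6441) D6440
theorem F13945 : act 5 n8394 = n6812 := d13_2 (iv F10640) D8394 F11269
theorem F13946 : act 2 n8293 = n8394 := d11_3 F13945 F11268 (iv F13773)
def n8395 : Q := act 4 n6440
theorem D8395 : act 4 n6440 = n8395 := rfl
theorem F13947 : act 0 n8395 = n8369 := d3_1 D8395 (iv D8369) (iv F10638)
theorem F13948 : act 1 n8395 = n6442 := d7_1 D8395 (iv D6442) D6440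
theorem F13949 : act 2 n8395 = n8353 := d10_1 D8395 (iv D8353) (iv F10639)
def n8396 : Q := act 4 n6441
theorem D8396 : act 4 n6441 = n8396 := rfl
theorem F13950 : act 0 n8396 = n6445 := d3_1 D8396 (iv D6445) (iv F10641)
theorem F13951 : act 2 n8396 = n6816 := d10_1 D8396 (iv D6816) (iv F10642)
def n8397 : Q := act 3 n6442
theorem D8397 : act 3 n6442 = n8397 := rfl
theorem F13952 : act 0 n8397 = n6446 := d2_1 D8397 (iv D6446) (iv F10644)
def n8398 : Q := act 5 n6442
theorem D8398 : act 5 n6442 = n8398 := rfl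
theorem F13953 : act 0 n8398 = n6447 := d4_1 D8398 (iv D6447) (iv F10644)
theorem F13954 : act 2 n8398 = n6443 := d11_1 D8398 (iv D6443) (iv F10645)
theorem F13955 : act 4 n8398 = n7398 := d14_1 D8398 F12276 (iv D6423) (iv F7963) D6442
def n8399 : Q := act 1 n6444
theorem D8399 : act 1 n6444 = n8399 := rfl
theorem F13956 : act 0 n8399 = n8287 := d0_1 D8399 F13761 F10489 (iv F8485) (iv F10650)
theorem F13957 : act 2 n8399 = n8287 := d5_2 D6444 D8399 F13761 F10490 (iv F7967)
theorem F13958 : act 3 n8399 = n6800 := d6_2 (iv F10651) D8399 F11244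
theorem F13959 : act 5 n8399 = n6798 := d8_2 (iv F10652) D8399 F11240
def n8400 : Q := act 4 n6444
theorem D8400 : act 4 n6444 = n8400 := rfl
theorem F13960 : act 0 n8400 = n6816 := d3_1 D8400 (iv D6816) (iv F10650)
theorem F13961 : act 2 n8400 = n6445 := d10_1 D8400 (iv D6445) D6444
def n8401 : Q := act 3 n6445
theorem D8401 : act 3 n6445 = n8401 := rfl
theorem F13962 : act 1 n8401 = n8384 := d6_1 D8401 (iv D8384) (iv F10653)
theorem F13963 : act 4 n8401 = n6446 := d12_2 D6445 D8401 (iv D6446) (iv D4876) D4875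
def n8402 : Q := act 5 n6445
theorem D8402 : act 5 n6445 = n8402 := rfl
theorem F13964 : act 1 n8402 = n8383 := d8_1 D8402 F13924 (iv F10653)
theorem F13965 : act 4 n8402 = n8377 := d14_1 D8402 (iv D8377) (iv D6424) (iv F7968) D6445
def n8403 : Q := act 2 n6446
theorem D8403 : act 2 n6446 = n8403 := rfl
def n8404 : Q := act 5 n6446
theorem D8404 : act 5 n6446 = n8404 := rfl
theorem F13966 : act 1 n8404 = n8386 := d8_1 D8404 F13926 (iv F10654)
theorem F13967 : act 3 n8404 = n6447 := d13_1 D8404 (iv D6447) D6446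
def n8405 : Q := act 2 n6448
theorem D8405 : act 2 n6448 = n8405 := rfl
def n8406 : Q := act 3 n6449
theorem D8406 : act 3 n6449 = n8406 := rfl
theorem F13968 : act 0 n8406 = n6450 := d2_1 D8406 (iv D6450) D6449
theorem F13969 : act 1 n8406 = n7205 := d6_1 D8406 (iv D7205) (iv F10659)
theorem F13970 : act 4 n8406 = n7337 := d12_2 (iv F10661) D8406 (iv D7337) (iv D5585) (iv F8047)
def n8407 : Q := act 2 n6450
theorem D8407 : act 2 n6450 = n8407 := rfl
def n8408 : Q := act 1 n6451
theorem D8408 : act 1 n6451 = n8408 := rfl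
def n8409 : Q := act 2 n6452
theorem D8409 : act 2 n6452 = n8409 := rfl
theorem F13971 : act 0 n8409 = n6453 := d1_1 D8409 (iv D6453) (iv F10663)
theorem F13972 : act 4 n8409 = n6509 := d10_2 (iv F10665) D8409 (iv D6509)
theorem F13973 : act 5 n8409 = n7631 := d11_2 (iv F10666) D8409 F12642
def n8410 : Q := act 3 n6453
theorem D8410 : act 3 n6453 = n8410 := rfl
theorem F13974 : act 1 n8410 = n8364 := d6_1 D8410 (iv D8364) (iv F10667)
theorem F13975 : act 5 n8410 = n7639 := d13_2 (iv F10669) D8410 (iv D7639)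
def n8411 : Q := act 1 n6454
theorem D8411 : act 1 n6454 = n8411 := rfl
def n8412 : Q := act 3 n6454
theorem D8412 : act 3 n6454 = n8412 := rfl
theorem F13976 : act 0 n8412 = n6456 := d2_1 D8412 (iv D6456) (iv F10670)
theorem F13977 : act 2 n8412 = n6823 := d9_1 D8412 (iv D6823) (iv D5178) (iv D3874) (iv F5896) D4872 D6439 D8393 F13942 (iv D6836) (iv D5188) (iv D3886) (iv F5937) D4884 D6454
theorem F13978 : act 5 n8412 = n6848 := d13_2 F13937 D8412 (iv F13938)
def n8413 : Q := act 0 n6455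
theorem D8413 : act 0 n6455 = n8413 := rfl
theorem F13979 : act 2 n8413 = n6457 := d1_2 (iv F10671) D8413 (iv D6457)
theorem F13980 : act 4 n8413 = n7358 := d3_2 (iv F10672) D8413 F12223
theorem F13981 : act 5 n8413 = n6543 := d4_2 (iv F10673) D8413 F10832
def n8414 : Q := act 3 n6455
theorem D8414 : act 3 n6455 = n8414 := rfl
theorem F13982 : act 1 n8414 = n6456 := d6_1 D8414 (iv D6456) D6455
theorem F13983 : act 5 n8414 = n6544 := d13_2 (iv F10673) D8414 (iv D6544)
def n8415 : Q := act 2 n6456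
theorem D8415 : act 2 n6456 = n8415 := rfl
theorem F13984 : act 0 n8415 = n6823 := d1_1 D8415 (iv F13977) F13976
theorem F13985 : act 3 n8415 = n6807 := d9_2 D6456 D8415 (iv D6807) (iv D5166) (iv F7956) D6438 D8392 F13938 (iv D6848) (iv D5196) (iv D3891) (iv D2875) (iv F4331) D3646 D4885
theorem F13986 : act 5 n8415 = n6836 := d11_2 F13941 D8415 (iv F13942)
def n8416 : Q := act 4 n6456
theorem D8416 : act 4 n6456 = n8416 := rfl
def n8417 : Q := act 4 n6458
theorem D8417 : act 4 n6458 = n8417 := rfl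
theorem F13987 : act 0 n8417 = n6989 := d3_1 D8417 (iv D6989) (iv F10678)
theorem F13988 : act 1 n8417 = n6460 := d7_1 D8417 (iv D6460) (iv F10679)
theorem F13989 : act 2 n8417 = n6625 := d10_1 D8417 (iv D6625) (iv F10680)
def n8418 : Q := act 3 n6459
theorem D8418 : act 3 n6459 = n8418 := rfl
theorem F13990 : act 1 n8418 = n6461 := d6_1 D8418 (iv D6461) (iv F10682)
def n8419 : Q := act 5 n6459
theorem D8419 : act 5 n6459 = n8419 := rfl
theorem F13991 : act 1 n8419 = n6462 := d8_1 D8419 (iv D6462) (iv F10682)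
def n8420 : Q := act 3 n6460
theorem D8420 : act 3 n6460 = n8420 := rfl
theorem F13992 : act 0 n8420 = n6465 := d2_1 D8420 (iv D6465) (iv F10683)
theorem F13993 : act 4 n8420 = n6461 := d12_2 D6460 D8420 (iv D6461) (iv D4889) D4888
def n8421 : Q := act 5 n6460
theorem D8421 : act 5 n6460 = n8421 := rfl
theorem F13994 : act 0 n8421 = n6466 := d4_1 D8421 (iv D6466) (iv F10683)
theorem F13995 : act 2 n8421 = n6624 := d11_1 D8421 (iv D6624) (iv F10684)
theorem F13996 : act 4 n8421 = n6839 := d14_1 D8421 (iv D6839) (iv D5190) (iv F7991) D6460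
def n8422 : Q := act 2 n6461
theorem D8422 : act 2 n6461 = n8422 := rfl
theorem F13997 : act 0 n8422 = n6467 := d1_1 D8422 (iv D6467) (iv F10685)
def n8423 : Q := act 5 n6461
theorem D8423 : act 5 n6461 = n8423 := rfl
theorem F13998 : act 0 n8423 = n6468 := d4_1 D8423 (iv D6468) (iv F10685)
theorem F13999 : act 3 n8423 = n6462 := d13_1 D8423 (iv D6462) D6461
def n8424 : Q := act 4 n6463
theorem D8424 : act 4 n6463 = n8424 := rfl
theorem F14000 : act 0 n8424 = n6612 := d3_1 D8424 (iv D6612) (iv F10688)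
theorem F14001 : act 1 n8424 = n6464 := d7_1 D8424 (iv D6464) D6463
theorem F14002 : act 2 n8424 = n6986 := d10_1 D8424 (iv D6986) (iv F10689)
def n8425 : Q := act 3 n6464
theorem D8425 : act 3 n6464 = n8425 := rfl
theorem F14003 : act 0 n8425 = n6619 := d2_1 D8425 F10928 (iv F10692)
theorem F14004 : act 4 n8425 = n6616 := d12_2 D6464 D8425 (iv D6616) F8184 (iv F7996)
def n8426 : Q := act 5 n6464
theorem D8426 : act 5 n6464 = n8426 := rfl
theorem F14005 : act 0 n8426 = n6624 := d4_1 D8426 (iv D6624) (iv F10692)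
theorem F14006 : act 2 n8426 = n6466 := d11_1 D8426 (iv D6466) (iv F10693)
theorem F14007 : act 4 n8426 = n6832 := d14_1 D8426 (iv D6832) (iv D5185) (iv F7997) D6464
def n8427 : Q := act 2 n6465
theorem D8427 : act 2 n6465 = n8427 := rfl
theorem F14008 : act 4 n8427 = n6467 := d10_2 (iv F10694) D8427 (iv D6467)
def n8428 : Q := act 5 n6465
theorem D8428 : act 5 n6465 = n8428 := rfl
theorem F14009 : act 3 n8428 = n6466 := d13_1 D8428 (iv D6466) D6465
def n8429 : Q := act 1 n6467
theorem D8429 : act 1 n6467 = n8429 := rfl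
def n8430 : Q := act 3 n6467
theorem D8430 : act 3 n6467 = n8430 := rfl
def n8431 : Q := act 5 n6467
theorem D8431 : act 5 n6467 = n8431 := rfl
theorem F14010 : act 2 n8431 = n6468 := d11_1 D8431 (iv D6468) D6467
def n8432 : Q := act 4 n6468
theorem D8432 : act 4 n6468 = n8432 := rfl
def n8433 : Q := act 1 n6469
theorem D8433 : act 1 n6469 = n8433 := rfl
theorem F14011 : act 0 n8433 = n7629 := d0_1 D8433 F12639 F9562 (iv F8003) (iv F10696)
theorem F14012 : act 5 n8433 = n7627 := d8_2 (iv F10697) D8433 F12637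
def n8434 : Q := act 3 n6469
theorem D8434 : act 3 n6469 = n8434 := rfl
theorem F14013 : act 0 n8434 = n6470 := d2_1 D8434 (iv D6470) (iv F10696)
theorem F14014 : act 5 n8434 = n7632 := d13_2 (iv F10697) D8434 (iv D7632)
def n8435 : Q := act 2 n6470
theorem D8435 : act 2 n6470 = n8435 := rfl
theorem F14015 : act 5 n8435 = n7633 := d11_2 (iv F10699) D8435 (iv D7633)
def n8436 : Q := act 4 n6470
theorem D8436 : act 4 n6470 = n8436 := rfl
theorem F14016 : act 1 n8436 = n7638 := d7_1 D8436 (iv D7638) (iv F10698)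
def n8437 : Q := act 3 n6471
theorem D8437 : act 3 n6471 = n8437 := rfl
theorem F14017 : act 0 n8437 = n6474 := d2_1 D8437 (iv D6474) (iv F10700)
theorem F14018 : act 1 n8437 = n6507 := d6_1 D8437 (iv D6507) (iv F10701)
theorem F14019 : act 4 n8437 = n6472 := d12_2 D6471 D8437 (iv D6472) (iv D4899) D4898
def n8438 : Q := act 5 n6471
theorem D8438 : act 5 n6471 = n8438 := rfl
theorem F14020 : act 0 n8438 = n6475 := d4_1 D8438 (iv D6475) (iv F10700)
theorem F14021 : act 1 n8438 = n6508 := d8_1 D8438 (iv D6508) (iv F10701)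
theorem F14022 : act 2 n8438 = n7078 := d11_1 D8438 (iv D7078) (iv F10702)
theorem F14023 : act 4 n8438 = n7206 := d14_1 D8438 (iv D7206) (iv D5489) (iv F8008) D6471
def n8439 : Q := act 2 n6472
theorem D8439 : act 2 n6472 = n8439 := rfl
theorem F14024 : act 0 n8439 = n6476 := d1_1 D8439 (iv D6476) (iv F10703)
theorem F14025 : act 3 n8439 = n6773 := d15_1 D8439 F11198 F8429 F6279 (iv F5961) (iv F8016) (iv F10710) (iv D6477) (iv F10703)
theorem F14026 : act 5 n6772 = n8439 := d13_0 F14025 (iv D6773) D6772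
def n8440 : Q := act 5 n6472
theorem D8440 : act 5 n6472 = n8440 := rfl
theorem F14027 : act 0 n8440 = n6477 := d4_1 D8440 (iv D6477) (iv F10703)
theorem F14028 : act 1 n8440 = n7594 := d8_1 D8440 (iv D7594) (iv F10704)
theorem F14029 : act 2 n8440 = n6772 := d11_1 D8440 F14026 (iv D8439)
theorem F14030 : act 3 n8440 = n6473 := d13_1 D8440 (iv D6473) D6472
def n8441 : Q := act 2 n6474
theorem D8441 : act 2 n6474 = n8441 := rfl
theorem F14031 : act 4 n8441 = n6476 := d10_2 (iv F10709) D8441 (iv D6476)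
def n8442 : Q := act 5 n6474
theorem D8442 : act 5 n6474 = n8442 := rfl
theorem F14032 : act 3 n8442 = n6475 := d13_1 D8442 (iv D6475) D6474
def n8443 : Q := act 1 n6476
theorem D8443 : act 1 n6476 = n8443 := rfl
def n8444 : Q := act 3 n6476
theorem D8444 : act 3 n6476 = n8444 := rfl
theorem F14033 : act 0 n8444 = n6773 := d2_1 D8444 (iv F14025) F14024
theorem F14034 : act 2 n8444 = n6766 := d9_1 D8444 F11192 F8423 (iv F8014) (iv F10707) (iv F14030) F14029 (iv D6772) (iv D5142) (iv D3849) F4604 (iv F4346) (iv F5959) D4902 D6476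
theorem F14035 : act 5 n8444 = n6765 := d15_8 (iv D5142) (iv D3849) F4604 (iv F4346) (iv F5959) D4902 D6476 D8444 F11190
def n8445 : Q := act 5 n6476
theorem D8445 : act 5 n6476 = n8445 := rfl
theorem F14036 : act 0 n8445 = n6772 := d4_1 D8445 F14026 F14024
theorem F14037 : act 2 n8445 = n6477 := d11_1 D8445 (iv D6477) D6476
theorem F14038 : act 3 n8445 = n6765 := d13_1 D8445 (iv F14035) (iv D8444)
def n8446 : Q := act 4 n6477
theorem D8446 : act 4 n6477 = n8446 := rfl
def n8447 : Q := act 4 n6478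
theorem D8447 : act 4 n6478 = n8447 := rfl
theorem F14039 : act 0 n8447 = n7242 := d3_1 D8447 (iv D7242) (iv F10711)
theorem F14040 : act 1 n8447 = n6655 := d7_1 D8447 (iv D6655) (iv F10712)
def n8448 : Q := act 2 n6479
theorem D8448 : act 2 n6479 = n8448 := rfl
theorem F14041 : act 0 n8448 = n6481 := d1_1 D8448 (iv D6481) (iv F10714)
theorem F14042 : act 4 n8448 = n7569 := d10_2 (iv F10716) D8448 (iv D7569)
def n8449 : Q := act 5 n6479
theorem D8449 : act 5 n6479 = n8449 := rfl
theorem F14043 : act 0 n8449 = n6482 := d4_1 D8449 (iv D6482) (iv F10714)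
theorem F14044 : act 1 n8449 = n7588 := d8_1 D8449 (iv D7588) (iv F10715)
theorem F14045 : act 3 n8449 = n6480 := d13_1 D8449 (iv D6480) D6479
def n8450 : Q := act 1 n6481
theorem D8450 : act 1 n6481 = n8450 := rfl
theorem F14046 : act 2 n8450 = n6483 := d5_2 D6481 D8450 (iv D6483) (iv D4908) (iv F8023)
theorem F14047 : act 4 n8450 = n7571 := d7_2 (iv F10721) D8450 (iv D7571)
def n8451 : Q := act 3 n6481
theorem D8451 : act 3 n6481 = n8451 := rfl
def n8452 : Q := act 5 n6481
theorem D8452 : act 5 n6481 = n8452 := rfl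
theorem F14048 : act 2 n8452 = n6482 := d11_1 D8452 (iv D6482) D6481
def n8453 : Q := act 4 n6482
theorem D8453 : act 4 n6482 = n8453 := rfl
theorem F14049 : act 1 n8453 = n6486 := d7_1 D8453 (iv D6486) (iv F10722)
theorem F14050 : act 3 n8453 = n7647 := d12_1 D8453 (iv D7647) F9576 (iv F8027) (iv F10723)
theorem F14051 : act 5 n8453 = n7574 := d14_2 D6482 D8453 (iv D7574) (iv D5770) (iv F8024)
def n8454 : Q := act 0 n6483
theorem D8454 : act 0 n6483 = n8454 := rfl
theorem F14052 : act 1 n8454 = n7605 := d0_2 D6483 D8454 (iv D7605) (iv D5793) (iv F8028)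
theorem F14053 : act 4 n8454 = n7577 := d3_2 (iv F10724) D8454 (iv D7577)
def n8455 : Q := act 3 n6483
theorem D8455 : act 3 n6483 = n8455 := rfl
theorem F14054 : act 1 n8455 = n6484 := d6_1 D8455 (iv D6484) D6483
theorem F14055 : act 5 n6856 = n8455 := d8_0 F14054 F10727 D6856
def n8456 : Q := act 5 n6483
theorem D8456 : act 5 n6483 = n8456 := rfl
theorem F14056 : act 1 n8456 = n6485 := d8_1 D8456 (iv D6485) D6483
theorem F14057 : act 3 n8456 = n6856 := d13_1 D8456 F14055 (iv D8455)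
def n8457 : Q := act 1 n6487
theorem D8457 : act 1 n6487 = n8457 := rfl
def n8458 : Q := act 3 n6487
theorem D8458 : act 3 n6487 = n8458 := rfl
theorem F14058 : act 0 n8458 = n6490 := d2_1 D8458 (iv D6490) (iv F10734)
def n8459 : Q := act 5 n6487
theorem D8459 : act 5 n6487 = n8459 := rfl
theorem F14059 : act 0 n8459 = n6491 := d4_1 D8459 (iv D6491) (iv F10734)
theorem F14060 : act 2 n8459 = n6488 := d11_1 D8459 (iv D6488) D6487
def n8460 : Q := act 4 n6488
theorem D8460 : act 4 n6488 = n8460 := rfl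
theorem F14061 : act 0 n8460 = n6492 := d3_1 D8460 (iv D6492) (iv F10735)
def n8461 : Q := act 0 n6489
theorem D8461 : act 0 n6489 = n8461 := rfl
theorem F14062 : act 2 n8461 = n6493 := d1_2 (iv F10737) D8461 (iv D6493)
def n8462 : Q := act 3 n6489
theorem D8462 : act 3 n6489 = n8462 := rfl
theorem F14063 : act 1 n8462 = n6490 := d6_1 D8462 (iv D6490) D6489
def n8463 : Q := act 2 n6490
theorem D8463 : act 2 n6490 = n8463 := rfl
def n8464 : Q := act 4 n6490
theorem D8464 : act 4 n6490 = n8464 := rfl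
def n8465 : Q := act 5 n6490
theorem D8465 : act 5 n6490 = n8465 := rfl
theorem F14064 : act 3 n8465 = n6491 := d13_1 D8465 (iv D6491) D6490
def n8466 : Q := act 4 n6491
theorem D8466 : act 4 n6491 = n8466 := rfl
theorem F14065 : act 2 n8466 = n6492 := d10_1 D8466 (iv D6492) (iv F10738)
def n8467 : Q := act 0 n6494
theorem D8467 : act 0 n6494 = n8467 := rfl
theorem F14066 : act 1 n8467 = n6653 := d0_2 D6494 D8467 F10996 F8252 (iv F8036)
theorem F14067 : act 2 n8467 = n7246 := d1_2 (iv F10740) D8467 F12004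
theorem F14068 : act 4 n8467 = n6716 := d3_2 (iv F10741) D8467 F11111
theorem F14069 : act 5 n8467 = n6495 := d4_2 (iv F10742) D8467 (iv D6495)
def n8468 : Q := act 0 n6496
theorem D8468 : act 0 n6496 = n8468 := rfl
theorem F14070 : act 1 n8468 = n6502 := d0_2 D6496 D8468 (iv D6502) (iv D4924) (iv F8049)
theorem F14071 : act 2 n8468 = n7108 := d1_2 (iv F10746) D8468 F11778
theorem F14072 : act 4 n8468 = n7101 := d3_2 (iv F10747) D8468 (iv D7101)
def n8469 : Q := act 0 n6498
theorem D8469 : act 0 n6498 = n8469 := rfl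
theorem F14073 : act 1 n8469 = n7101 := d0_2 D6498 D8469 (iv D7101) (iv D5400) (iv F8054)
theorem F14074 : act 2 n8469 = n7194 := d1_2 (iv F10751) D8469 (iv D7194)
theorem F14075 : act 4 n8469 = n6502 := d3_2 (iv F10752) D8469 (iv D6502)
theorem F14076 : act 5 n7728 = n8469 := d8_0 F14073 F11763 D7728
def n8470 : Q := act 3 n6498
theorem D8470 : act 3 n6498 = n8470 := rfl
theorem F14077 : act 1 n8470 = n6499 := d6_1 D8470 (iv D6499) D6498
theorem F14078 : act 2 n6970 = n8470 := d5_0 F14077 F10754 F8703 D5293 D6970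
theorem F14079 : act 5 n7118 = n8470 := d8_0 F14077 (iv F10755) D7118
def n8471 : Q := act 5 n6498
theorem D8471 : act 5 n6498 = n8471 := rfl
theorem F14080 : act 0 n8471 = n7728 := d4_1 D8471 F14076 (iv D8469)
theorem F14081 : act 1 n8471 = n6500 := d8_1 D8471 (iv D6500) D6498
theorem F14082 : act 2 n8471 = n7190 := d11_1 D8471 (iv F11939) (iv F10751)
theorem F14083 : act 3 n8471 = n7118 := d13_1 D8471 F14079 (iv D8470)
def n8472 : Q := act 4 n6499
theorem D8472 : act 4 n6499 = n8472 := rfl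
theorem F14084 : act 0 n8472 = n7103 := d3_1 D8472 (iv D7103) (iv F10753)
theorem F14085 : act 2 n8472 = n6969 := d10_1 D8472 (iv D6969) (iv F10754)
theorem F14086 : act 3 n8472 = n6505 := d12_1 D8472 (iv D6505) (iv D4925) (iv F8055) D6499
def n8473 : Q := act 4 n6500
theorem D8473 : act 4 n6500 = n8473 := rfl
theorem F14087 : act 0 n8473 = n7105 := d3_1 D8473 (iv D7105) (iv F10756)
theorem F14088 : act 2 n8473 = n6501 := d10_1 D8473 (iv D6501) (iv F10757)
theorem F14089 : act 5 n8473 = n6506 := d14_2 D6500 D8473 (iv D6506) (iv D4926) (iv F8055)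
def n8474 : Q := act 3 n6502
theorem D8474 : act 3 n6502 = n8474 := rfl
theorem F14090 : act 0 n8474 = n6503 := d2_1 D8474 (iv D6503) D6502
def n8475 : Q := act 5 n6502
theorem D8475 : act 5 n6502 = n8475 := rfl
theorem F14091 : act 0 n8475 = n6504 := d4_1 D8475 (iv D6504) D6502
theorem F14092 : act 2 n8475 = n7686 := d11_1 D8475 (iv D7686) (iv F10763)
def n8476 : Q := act 2 n6503
theorem D8476 : act 2 n6503 = n8476 := rfl
def n8477 : Q := act 4 n6503
theorem D8477 : act 4 n6503 = n8477 := rfl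
theorem F14093 : act 1 n8477 = n6505 := d7_1 D8477 (iv D6505) (iv F10764)
def n8478 : Q := act 4 n6504
theorem D8478 : act 4 n6504 = n8478 := rfl
theorem F14094 : act 1 n8478 = n6506 := d7_1 D8478 (iv D6506) (iv F10765)
theorem F14095 : act 2 n8478 = n7689 := d10_1 D8478 (iv D7689) (iv F10766)
def n8479 : Q := act 5 n6505
theorem D8479 : act 5 n6505 = n8479 := rfl
def n8480 : Q := act 3 n6506
theorem D8480 : act 3 n6506 = n8480 := rfl
def n8481 : Q := act 2 n6507
theorem D8481 : act 2 n6507 = n8481 := rfl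
theorem F14096 : act 0 n8481 = n6512 := d1_1 D8481 (iv D6512) (iv F10768)
theorem F14097 : act 4 n8481 = n7593 := d10_2 (iv F10769) D8481 (iv D7593)
theorem F14098 : act 3 n8481 = n7343 := d15_1 D8481 F12193 F9219 F6887 (iv F6025) (iv F8072) (iv F10778) (iv D6513) (iv F10768)
theorem F14099 : act 5 n7342 = n8481 := d13_0 F14098 (iv D7343) D7342
def n8482 : Q := act 5 n6507
theorem D8482 : act 5 n6507 = n8482 := rfl
theorem F14100 : act 0 n8482 = n6513 := d4_1 D8482 (iv D6513) (iv F10768)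
theorem F14101 : act 2 n8482 = n7342 := d11_1 D8482 F14099 (iv D8481)
theorem F14102 : act 3 n8482 = n6508 := d13_1 D8482 (iv D6508) D6507
def n8483 : Q := act 1 n6509
theorem D8483 : act 1 n6509 = n8483 := rfl
theorem F14103 : act 2 n8483 = n7151 := d5_2 D6509 D8483 (iv D7151) (iv D5441) (iv F8068)
theorem F14104 : act 5 n8483 = n7335 := d8_2 (iv F10773) D8483 (iv D7335)
def n8484 : Q := act 3 n6509
theorem D8484 : act 3 n6509 = n8484 := rfl
theorem F14105 : act 0 n8484 = n6514 := d2_1 D8484 (iv D6514) (iv F10772)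
theorem F14106 : act 2 n8484 = n6514 := d9_1 D8484 (iv D6514) (iv D4934) (iv D3689) F4401 D3119 D4205 D5591 (iv F12184) (iv D7336) (iv D5584) (iv D4200) (iv F6019) D4930 D6509
theorem F14107 : act 5 n8484 = n7336 := d13_2 (iv F10773) D8484 (iv D7336)
def n8485 : Q := act 2 n6510
theorem D8485 : act 2 n6510 = n8485 := rfl
theorem F14108 : act 0 n8485 = n7593 := d1_1 D8485 (iv D7593) (iv F10774)
theorem F14109 : act 4 n8485 = n6512 := d10_2 (iv F10775) D8485 (iv D6512)
def n8486 : Q := act 5 n6510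
theorem D8486 : act 5 n6510 = n8486 := rfl
theorem F14110 : act 0 n8486 = n7594 := d4_1 D8486 (iv D7594) (iv F10774)
theorem F14111 : act 3 n8486 = n6511 := d13_1 D8486 (iv D6511) D6510
def n8487 : Q := act 1 n6512
theorem D8487 : act 1 n6512 = n8487 := rfl
def n8488 : Q := act 3 n6512
theorem D8488 : act 3 n6512 = n8488 := rfl
theorem F14112 : act 0 n8488 = n7343 := d2_1 D8488 (iv F14098) F14096
theorem F14113 : act 2 n8488 = n7334 := d9_1 D8488 F12180 F9208 (iv F8066) (iv F10771) (iv F14102) F14101 (iv D7342) (iv D5588) (iv D4203) F5098 (iv F4399) (iv F6023) D4932 D6512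
theorem F14114 : act 5 n8488 = n7333 := d15_8 (iv D5588) (iv D4203) F5098 (iv F4399) (iv F6023) D4932 D6512 D8488 F12178
def n8489 : Q := act 5 n6512
theorem D8489 : act 5 n6512 = n8489 := rfl
theorem F14115 : act 0 n8489 = n7342 := d4_1 D8489 F14099 F14096
theorem F14116 : act 2 n8489 = n6513 := d11_1 D8489 (iv D6513) D6512
theorem F14117 : act 3 n8489 = n7333 := d13_1 D8489 (iv F14114) (iv D8488)
def n8490 : Q := act 4 n6513
theorem D8490 : act 4 n6513 = n8490 := rfl
def n8491 : Q := act 4 n6514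
theorem D8491 : act 4 n6514 = n8491 := rfl
def n8492 : Q := act 2 n6515
theorem D8492 : act 2 n6515 = n8492 := rfl
theorem F14118 : act 0 n8492 = n7207 := d1_1 D8492 (iv D7207) (iv F10780)
theorem F14119 : act 4 n8492 = n7203 := d10_2 (iv F10782) D8492 (iv D7203)
def n8493 : Q := act 5 n6515
theorem D8493 : act 5 n6515 = n8493 := rfl
theorem F14120 : act 0 n8493 = n7208 := d4_1 D8493 (iv D7208) (iv F10780)
theorem F14121 : act 1 n8493 = n6518 := d8_1 D8493 (iv D6518) (iv F10781)
theorem F14122 : act 3 n8493 = n6516 := d13_1 D8493 (iv D6516) D6515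
def n8494 : Q := act 1 n6517
theorem D8494 : act 1 n6517 = n8494 := rfl
theorem F14123 : act 3 n8494 = n6566 := d6_2 (iv F10786) D8494 F10857
theorem F14124 : act 5 n8494 = n6565 := d8_2 F10787 D8494 F10856
def n8495 : Q := act 4 n6518
theorem D8495 : act 4 n6518 = n8495 := rfl
theorem F14125 : act 0 n8495 = n6536 := d3_1 D8495 (iv D6536) (iv F10788)
theorem F14126 : act 2 n8495 = n6567 := d10_1 D8495 (iv D6567) (iv F10789)
def n8496 : Q := act 3 n6519
theorem D8496 : act 3 n6519 = n8496 := rfl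
theorem F14127 : act 0 n8496 = n6537 := d2_1 D8496 (iv D6537) (iv F10791)
theorem F14128 : act 5 n8496 = n6520 := d13_2 (iv F10793) D8496 (iv D6520)
def n8497 : Q := act 2 n6520
theorem D8497 : act 2 n6520 = n8497 := rfl
theorem F14129 : act 0 n8497 = n6538 := d1_1 D8497 (iv D6538) (iv F10794)
def n8498 : Q := act 1 n6521
theorem D8498 : act 1 n6521 = n8498 := rfl
theorem F14130 : act 4 n8498 = n6522 := d7_2 (iv F10796) D8498 (iv D6522)
def n8499 : Q := act 3 n6521
theorem D8499 : act 3 n6521 = n8499 := rfl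
theorem F14131 : act 0 n8499 = n6539 := d2_1 D8499 (iv D6539) (iv F10795)
def n8500 : Q := act 0 n6522
theorem D8500 : act 0 n6522 = n8500 := rfl
theorem F14132 : act 1 n8500 = n6540 := d0_2 D6522 D8500 (iv D6540) (iv D4954) (iv F8085)
theorem F14133 : act 5 n8500 = n6553 := d4_2 (iv F10797) D8500 (iv D6553)
def n8501 : Q := act 2 n6523
theorem D8501 : act 2 n6523 = n8501 := rfl
theorem F14134 : act 0 n8501 = n6527 := d1_1 D8501 (iv D6527) (iv F10798)
theorem F14135 : act 4 n8501 = n7088 := d10_2 (iv F10800) D8501 (iv D7088)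
def n8502 : Q := act 5 n6523
theorem D8502 : act 5 n6523 = n8502 := rfl
theorem F14136 : act 0 n8502 = n6528 := d4_1 D8502 (iv D6528) (iv F10798)
theorem F14137 : act 1 n8502 = n7208 := d8_1 D8502 (iv D7208) (iv F10799)
theorem F14138 : act 3 n8502 = n6524 := d13_1 D8502 (iv D6524) D6523
def n8503 : Q := act 2 n6525
theorem D8503 : act 2 n6525 = n8503 := rfl
theorem F14139 : act 0 n8503 = n7088 := d1_1 D8503 (iv D7088) (iv F10805)
theorem F14140 : act 4 n8503 = n6527 := d10_2 (iv F10807) D8503 (iv D6527)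
def n8504 : Q := act 5 n6525
theorem D8504 : act 5 n6525 = n8504 := rfl
theorem F14141 : act 0 n8504 = n7087 := d4_1 D8504 F11748 (iv F10805)
theorem F14142 : act 1 n8504 = n6530 := d8_1 D8504 (iv D6530) (iv F10806)
theorem F14143 : act 3 n8504 = n6526 := d13_1 D8504 (iv D6526) D6525
def n8505 : Q := act 1 n6527
theorem D8505 : act 1 n6527 = n8505 := rfl
theorem F14144 : act 2 n8505 = n6533 := d5_2 D6527 D8505 (iv D6533) (iv D4949) (iv F8093)
def n8506 : Q := act 3 n6527
theorem D8506 : act 3 n6527 = n8506 := rfl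
def n8507 : Q := act 5 n6527
theorem D8507 : act 5 n6527 = n8507 := rfl
theorem F14145 : act 2 n8507 = n6528 := d11_1 D8507 (iv D6528) D6527
def n8508 : Q := act 4 n6528
theorem D8508 : act 4 n6528 = n8508 := rfl
theorem F14146 : act 1 n8508 = n6536 := d7_1 D8508 (iv D6536) (iv F10812)
theorem F14147 : act 3 n8508 = n7256 := d12_1 D8508 (iv D7256) F9096 (iv F8096) (iv F10813)
def n8509 : Q := act 1 n6529
theorem D8509 : act 1 n6529 = n8509 := rfl
theorem F14148 : act 4 n8509 = n6533 := d7_2 (iv F10814) D8509 (iv D6533)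
def n8510 : Q := act 3 n6529
theorem D8510 : act 3 n6529 = n8510 := rfl
def n8511 : Q := act 5 n6529
theorem D8511 : act 5 n6529 = n8511 := rfl
theorem F14149 : act 2 n8511 = n6530 := d11_1 D8511 (iv D6530) D6529
def n8512 : Q := act 4 n6530
theorem D8512 : act 4 n6530 = n8512 := rfl
theorem F14150 : act 5 n8512 = n6536 := d14_2 D6530 D8512 (iv D6536) (iv D4950) (iv F8097)
def n8513 : Q := act 3 n6531
theorem D8513 : act 3 n6531 = n8513 := rfl
theorem F14151 : act 1 n8513 = n7073 := d6_1 D8513 F11725 (iv F10816)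
theorem F14152 : act 5 n8513 = n6532 := d13_2 (iv F10817) D8513 (iv D6532)
def n8514 : Q := act 2 n6532
theorem D8514 : act 2 n6532 = n8514 := rfl
theorem F14153 : act 4 n8514 = n6538 := d10_2 (iv F10819) D8514 (iv D6538)
def n8515 : Q := act 0 n6533
theorem D8515 : act 0 n6533 = n8515 := rfl
def n8516 : Q := act 3 n6533
theorem D8516 : act 3 n6533 = n8516 := rfl
theorem F14154 : act 1 n8516 = n6534 := d6_1 D8516 (iv D6534) D6533
theorem F14155 : act 5 n6551 = n8516 := d8_0 F14154 F10822 D6551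
def n8517 : Q := act 5 n6533
theorem D8517 : act 5 n6533 = n8517 := rfl
theorem F14156 : act 1 n8517 = n6535 := d8_1 D8517 (iv D6535) D6533
theorem F14157 : act 3 n8517 = n6551 := d13_1 D8517 F14155 (iv D8516)
def n8518 : Q := act 4 n6534
theorem D8518 : act 4 n6534 = n8518 := rfl
theorem F14158 : act 0 n8518 = n6568 := d3_1 D8518 (iv D6568) (iv F10820)
theorem F14159 : act 2 n8518 = n6552 := d10_1 D8518 (iv D6552) (iv F10821)
def n8519 : Q := act 4 n6535
theorem D8519 : act 4 n6535 = n8519 := rfl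
theorem F14160 : act 0 n8519 = n6567 := d3_1 D8519 (iv D6567) (iv F10823)
theorem F14161 : act 2 n8519 = n6536 := d10_1 D8519 (iv D6536) (iv F10824)
def n8520 : Q := act 3 n6536
theorem D8520 : act 3 n6536 = n8520 := rfl
theorem F14162 : act 1 n8520 = n7256 := d6_1 D8520 (iv F14147) F14146
theorem F14163 : act 4 n8520 = n6537 := d12_2 D6536 D8520 (iv D6537) (iv D4951) (iv F8099)
def n8521 : Q := act 2 n6537
theorem D8521 : act 2 n6537 = n8521 := rfl
theorem F14164 : act 5 n8521 = n6538 := d11_2 (iv F10827) D8521 (iv D6538)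
def n8522 : Q := act 1 n6538
theorem D8522 : act 1 n6538 = n8522 := rfl
theorem F14165 : act 2 n8522 = n7253 := d5_2 D6538 D8522 (iv D7253) (iv D5525) (iv F8103)
def n8523 : Q := act 3 n6538
theorem D8523 : act 3 n6538 = n8523 := rfl
def n8524 : Q := act 2 n6539
theorem D8524 : act 2 n6539 = n8524 := rfl
def n8525 : Q := act 4 n6539
theorem D8525 : act 4 n6539 = n8525 := rfl
theorem F14166 : act 3 n8525 = n6542 := d12_1 D8525 (iv D6542) (iv D4955) (iv F8104) D6539
def n8526 : Q := act 3 n6540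
theorem D8526 : act 3 n6540 = n8526 := rfl
theorem F14167 : act 0 n8526 = n6541 := d2_1 D8526 (iv D6541) D6540
theorem F14168 : act 5 n8526 = n6569 := d13_2 (iv F10829) D8526 (iv D6569)
def n8527 : Q := act 2 n6541
theorem D8527 : act 2 n6541 = n8527 := rfl
theorem F14169 : act 5 n8527 = n6570 := d11_2 (iv F10831) D8527 (iv D6570)
def n8528 : Q := act 4 n6541
theorem D8528 : act 4 n6541 = n8528 := rfl
theorem F14170 : act 1 n8528 = n6542 := d7_1 D8528 (iv D6542) (iv F10830)
def n8529 : Q := act 5 n6542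
theorem D8529 : act 5 n6542 = n8529 := rfl
theorem F14171 : act 4 n8529 = n6574 := d14_1 D8529 (iv D6574) (iv D4981) (iv F8107) D6542
def n8530 : Q := act 1 n6543
theorem D8530 : act 1 n6543 = n8530 := rfl
theorem F14172 : act 4 n8530 = n7151 := d7_2 (iv F10833) D8530 (iv D7151)
def n8531 : Q := act 3 n6543
theorem D8531 : act 3 n6543 = n8531 := rfl
theorem F14173 : act 0 n8531 = n6544 := d2_1 D8531 (iv D6544) (iv F10832)
theorem F14174 : act 4 n8531 = n7447 := d12_2 (iv F10833) D8531 (iv D7447) (iv D5661) (iv F8980)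
def n8532 : Q := act 2 n6544
theorem D8532 : act 2 n6544 = n8532 := rfl
def n8533 : Q := act 4 n6544
theorem D8533 : act 4 n6544 = n8533 := rfl
theorem F14175 : act 0 n8533 = n7447 := d3_1 D8533 (iv F14174) F14173
theorem F14176 : act 3 n8533 = n7154 := d12_1 D8533 (iv D7154) (iv D5443) (iv F8112) D6544
def n8534 : Q := act 2 n6545
theorem D8534 : act 2 n6545 = n8534 := rfl
theorem F14177 : act 0 n8534 = n6945 := d1_1 D8534 (iv D6945) (iv F10834)
theorem F14178 : act 4 n8534 = n6547 := d10_2 (iv F10836) D8534 (iv D6547)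
def n8535 : Q := act 5 n6545
theorem D8535 : act 5 n6545 = n8535 := rfl
theorem F14179 : act 0 n8535 = n6946 := d4_1 D8535 (iv D6946) (iv F10834)
theorem F14180 : act 1 n8535 = n6550 := d8_1 D8535 (iv D6550) (iv F10835)
theorem F14181 : act 3 n8535 = n6546 := d13_1 D8535 (iv D6546) D6545
def n8536 : Q := act 1 n6547
theorem D8536 : act 1 n6547 = n8536 := rfl
theorem F14182 : act 2 n8536 = n6551 := d5_2 D6547 D8536 (iv D6551) (iv D4965) (iv F8116)
def n8537 : Q := act 3 n6547
theorem D8537 : act 3 n6547 = n8537 := rfl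
def n8538 : Q := act 5 n6547
theorem D8538 : act 5 n6547 = n8538 := rfl
theorem F14183 : act 2 n8538 = n6548 := d11_1 D8538 (iv D6548) D6547
def n8539 : Q := act 4 n6548
theorem D8539 : act 4 n6548 = n8539 := rfl
theorem F14184 : act 1 n8539 = n6552 := d7_1 D8539 (iv D6552) (iv F10839)
def n8540 : Q := act 1 n6549
theorem D8540 : act 1 n6549 = n8540 := rfl
theorem F14185 : act 4 n8540 = n6551 := d7_2 (iv F10842) D8540 (iv D6551)
def n8541 : Q := act 3 n6549
theorem D8541 : act 3 n6549 = n8541 := rfl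
theorem F14186 : act 0 n8541 = n6561 := d2_1 D8541 (iv D6561) (iv F10841)
def n8542 : Q := act 5 n6549
theorem D8542 : act 5 n6549 = n8542 := rfl
theorem F14187 : act 0 n8542 = n6562 := d4_1 D8542 (iv D6562) (iv F10841)
theorem F14188 : act 2 n8542 = n6550 := d11_1 D8542 (iv D6550) D6549
def n8543 : Q := act 4 n6550
theorem D8543 : act 4 n6550 = n8543 := rfl
theorem F14189 : act 0 n8543 = n6563 := d3_1 D8543 (iv D6563) (iv F10843)
theorem F14190 : act 5 n8543 = n6552 := d14_2 D6550 D8543 (iv D6552) (iv D4966) (iv F8119)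
def n8544 : Q := act 0 n6551
theorem D8544 : act 0 n6551 = n8544 := rfl
theorem F14191 : act 1 n8544 = n6564 := d0_2 D6551 D8544 (iv D6564) (iv D4974) (iv F8121)
def n8545 : Q := act 3 n6553
theorem D8545 : act 3 n6553 = n8545 := rfl
theorem F14192 : act 0 n8545 = n6554 := d2_1 D8545 (iv D6554) D6553
theorem F14193 : act 1 n8545 = n6569 := d6_1 D8545 (iv D6569) (iv F10846)
def n8546 : Q := act 2 n6554
theorem D8546 : act 2 n6554 = n8546 := rfl
def n8547 : Q := act 4 n6554
theorem D8547 : act 4 n6554 = n8547 := rfl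
theorem F14194 : act 1 n8547 = n6555 := d7_1 D8547 (iv D6555) (iv F10847)
def n8548 : Q := act 5 n6555
theorem D8548 : act 5 n6555 = n8548 := rfl
theorem F14195 : act 0 n8548 = n6574 := d4_1 D8548 (iv D6574) (iv F10848)
def n8549 : Q := act 2 n6556
theorem D8549 : act 2 n6556 = n8549 := rfl
def n8550 : Q := act 5 n6556
theorem D8550 : act 5 n6556 = n8550 := rfl
theorem F14196 : act 1 n8550 = n6559 := d8_1 D8550 (iv D6559) (iv F10849)
theorem F14197 : act 3 n8550 = n6557 := d13_1 D8550 (iv D6557) D6556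
def n8551 : Q := act 1 n6558
theorem D8551 : act 1 n6558 = n8551 := rfl
def n8552 : Q := act 3 n6558
theorem D8552 : act 3 n6558 = n8552 := rfl
def n8553 : Q := act 5 n6558
theorem D8553 : act 5 n6558 = n8553 := rfl
theorem F14198 : act 2 n8553 = n6559 := d11_1 D8553 (iv D6559) D6558
def n8554 : Q := act 4 n6559
theorem D8554 : act 4 n6559 = n8554 := rfl
def n8555 : Q := act 0 n6560
theorem D8555 : act 0 n6560 = n8555 := rfl
theorem F14199 : act 4 n8555 = n6564 := d3_2 (iv F10853) D8555 (iv D6564)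
def n8556 : Q := act 3 n6560
theorem D8556 : act 3 n6560 = n8556 := rfl
theorem F14200 : act 1 n8556 = n6561 := d6_1 D8556 (iv D6561) D6560
def n8557 : Q := act 5 n6560
theorem D8557 : act 5 n6560 = n8557 := rfl
theorem F14201 : act 1 n8557 = n6562 := d8_1 D8557 (iv D6562) D6560
def n8558 : Q := act 2 n6561
theorem D8558 : act 2 n6561 = n8558 := rfl
def n8559 : Q := act 4 n6561
theorem D8559 : act 4 n6561 = n8559 := rfl
theorem F14202 : act 3 n8559 = n6567 := d12_1 D8559 (iv D6567) (iv D4975) (iv F8128) D6561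
def n8560 : Q := act 5 n6561
theorem D8560 : act 5 n6561 = n8560 := rfl
theorem F14203 : act 3 n8560 = n6562 := d13_1 D8560 (iv D6562) D6561
def n8561 : Q := act 4 n6562
theorem D8561 : act 4 n6562 = n8561 := rfl
theorem F14204 : act 2 n8561 = n6563 := d10_1 D8561 (iv D6563) (iv F10854)
theorem F14205 : act 5 n8561 = n6568 := d14_2 D6562 D8561 (iv D6568) (iv D4976) (iv F8128)
def n8562 : Q := act 3 n6564
theorem D8562 : act 3 n6564 = n8562 := rfl
theorem F14206 : act 0 n8562 = n6565 := d2_1 D8562 (iv D6565) D6564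
def n8563 : Q := act 5 n6564
theorem D8563 : act 5 n6564 = n8563 := rfl
theorem F14207 : act 0 n8563 = n6566 := d4_1 D8563 (iv D6566) D6564
def n8564 : Q := act 2 n6565
theorem D8564 : act 2 n6565 = n8564 := rfl
def n8565 : Q := act 4 n6565
theorem D8565 : act 4 n6565 = n8565 := rfl
theorem F14208 : act 1 n8565 = n6567 := d7_1 D8565 (iv D6567) (iv F10856)
def n8566 : Q := act 4 n6566
theorem D8566 : act 4 n6566 = n8566 := rfl
theorem F14209 : act 1 n8566 = n6568 := d7_1 D8566 (iv D6568) (iv F10857)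
def n8567 : Q := act 5 n6567
theorem D8567 : act 5 n6567 = n8567 := rfl
def n8568 : Q := act 3 n6568
theorem D8568 : act 3 n6568 = n8568 := rfl
def n8569 : Q := act 2 n6569
theorem D8569 : act 2 n6569 = n8569 := rfl
theorem F14210 : act 0 n8569 = n6570 := d1_1 D8569 (iv D6570) (iv F10859)
def n8570 : Q := act 4 n6569
theorem D8570 : act 4 n6569 = n8570 := rfl
theorem F14211 : act 0 n8570 = n6571 := d3_1 D8570 (iv D6571) (iv F10859)
def n8571 : Q := act 1 n6570
theorem D8571 : act 1 n6570 = n8571 := rfl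
theorem F14212 : act 2 n8571 = n6572 := d5_2 D6570 D8571 (iv D6572) (iv D4980) (iv F8132)
def n8572 : Q := act 3 n6570
theorem D8572 : act 3 n6570 = n8572 := rfl
def n8573 : Q := act 4 n6570
theorem D8573 : act 4 n6570 = n8573 := rfl
theorem F14213 : act 2 n8573 = n6571 := d10_1 D8573 (iv D6571) D6570
def n8574 : Q := act 5 n6571
theorem D8574 : act 5 n6571 = n8574 := rfl
theorem F14214 : act 1 n8574 = n6574 := d8_1 D8574 (iv D6574) (iv F10860)
def n8575 : Q := act 0 n6572
theorem D8575 : act 0 n6572 = n8575 := rfl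
def n8576 : Q := act 4 n6572
theorem D8576 : act 4 n6572 = n8576 := rfl
theorem F14215 : act 1 n8576 = n6573 := d7_1 D8576 (iv D6573) D6572
def n8577 : Q := act 5 n6573
theorem D8577 : act 5 n6573 = n8577 := rfl
theorem F14216 : act 2 n8577 = n6574 := d11_1 D8577 (iv D6574) (iv F10861)
def n8578 : Q := act 1 n6575
theorem D8578 : act 1 n6575 = n8578 := rfl
theorem F14217 : act 0 n8578 = n8483 := d0_1 D8578 (iv D8483) F10772 (iv F8134) (iv F10862)
def n8579 : Q := act 3 n6575
theorem D8579 : act 3 n6575 = n8579 := rfl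
theorem F14218 : act 0 n8579 = n6576 := d2_1 D8579 (iv D6576) (iv F10862)
def n8580 : Q := act 2 n6576
theorem D8580 : act 2 n6576 = n8580 := rfl
def n8581 : Q := act 4 n6576
theorem D8581 : act 4 n6576 = n8581 := rfl
theorem F14219 : act 1 n8581 = n8491 := d7_1 D8581 (iv D8491) (iv F10863)
def n8582 : Q := act 0 n6577
theorem D8582 : act 0 n6577 = n8582 := rfl
theorem F14220 : act 1 n8582 = n6581 := d0_2 D6577 D8582 (iv D6581) (iv D4986) (iv F8135)
theorem F14221 : act 2 n8582 = n7745 := d1_2 (iv F10864) D8582 (iv D7745)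
def n8583 : Q := act 3 n6577
theorem D8583 : act 3 n6577 = n8583 := rfl
theorem F14222 : act 1 n8583 = n6578 := d6_1 D8583 (iv D6578) D6577
theorem F14223 : act 5 n6605 = n8583 := d8_0 F14222 (iv F10867) D6605
def n8584 : Q := act 5 n6577
theorem D8584 : act 5 n6577 = n8584 := rfl
theorem F14224 : act 1 n8584 = n6579 := d8_1 D8584 (iv D6579) D6577
theorem F14225 : act 2 n8584 = n7747 := d11_1 D8584 (iv D7747) (iv F10864)
theorem F14226 : act 3 n8584 = n6605 := d13_1 D8584 F14223 (iv D8583)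
def n8585 : Q := act 4 n6578
theorem D8585 : act 4 n6578 = n8585 := rfl
theorem F14227 : act 0 n8585 = n6585 := d3_1 D8585 (iv D6585) (iv F10865)
theorem F14228 : act 2 n8585 = n6608 := d10_1 D8585 (iv D6608) (iv F10866)
def n8586 : Q := act 4 n6579
theorem D8586 : act 4 n6579 = n8586 := rfl
theorem F14229 : act 0 n8586 = n6587 := d3_1 D8586 (iv D6587) (iv F10868)
theorem F14230 : act 2 n8586 = n6580 := d10_1 D8586 (iv D6580) (iv F10869)
def n8587 : Q := act 3 n6581
theorem D8587 : act 3 n6581 = n8587 := rfl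
theorem F14231 : act 0 n8587 = n6582 := d2_1 D8587 (iv D6582) D6581
def n8588 : Q := act 5 n6581
theorem D8588 : act 5 n6581 = n8588 := rfl
theorem F14232 : act 0 n8588 = n6583 := d4_1 D8588 (iv D6583) D6581
theorem F14233 : act 2 n8588 = n6589 := d11_1 D8588 (iv D6589) (iv F10874)
def n8589 : Q := act 2 n6582
theorem D8589 : act 2 n6582 = n8589 := rfl
def n8590 : Q := act 4 n6582
theorem D8590 : act 4 n6582 = n8590 := rfl
theorem F14234 : act 1 n8590 = n6585 := d7_1 D8590 (iv D6585) (iv F10875)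
def n8591 : Q := act 5 n6582
theorem D8591 : act 5 n6582 = n8591 := rfl
theorem F14235 : act 1 n8591 = n6586 := d8_1 D8591 (iv D6586) (iv F10875)
theorem F14236 : act 3 n8591 = n6583 := d13_1 D8591 (iv D6583) D6582
def n8592 : Q := act 4 n6583
theorem D8592 : act 4 n6583 = n8592 := rfl
theorem F14237 : act 1 n8592 = n6587 := d7_1 D8592 (iv D6587) (iv F10876)
theorem F14238 : act 2 n8592 = n6592 := d10_1 D8592 (iv D6592) (iv F10877)
def n8593 : Q := act 1 n6584
theorem D8593 : act 1 n6584 = n8593 := rfl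
theorem F14239 : act 3 n8593 = n6597 := d6_2 (iv F10879) D8593 F10896
theorem F14240 : act 5 n8593 = n6596 := d8_2 F10880 D8593 F10895
def n8594 : Q := act 4 n6584
theorem D8594 : act 4 n6584 = n8594 := rfl
theorem F14241 : act 0 n8594 = n6608 := d3_1 D8594 (iv D6608) (iv F10878)
theorem F14242 : act 2 n8594 = n6585 := d10_1 D8594 (iv D6585) D6584
def n8595 : Q := act 5 n6585
theorem D8595 : act 5 n6585 = n8595 := rfl
def n8596 : Q := act 4 n6586
theorem D8596 : act 4 n6586 = n8596 := rfl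
theorem F14243 : act 0 n8596 = n6606 := d3_1 D8596 (iv D6606) (iv F10881)
theorem F14244 : act 2 n8596 = n6598 := d10_1 D8596 (iv D6598) (iv F10882)
def n8597 : Q := act 3 n6587
theorem D8597 : act 3 n6587 = n8597 := rfl
def n8598 : Q := act 2 n6588
theorem D8598 : act 2 n6588 = n8598 := rfl
theorem F14245 : act 0 n8598 = n6590 := d1_1 D8598 (iv D6590) (iv F10885)
def n8599 : Q := act 4 n6588
theorem D8599 : act 4 n6588 = n8599 := rfl
theorem F14246 : act 0 n8599 = n6591 := d3_1 D8599 (iv D6591) (iv F10885)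
def n8600 : Q := act 4 n6589
theorem D8600 : act 4 n6589 = n8600 := rfl
theorem F14247 : act 0 n8600 = n6592 := d3_1 D8600 (iv D6592) (iv F10886)
def n8601 : Q := act 3 n6590
theorem D8601 : act 3 n6590 = n8601 := rfl
def n8602 : Q := act 4 n6590
theorem D8602 : act 4 n6590 = n8602 := rfl
theorem F14248 : act 2 n8602 = n6591 := d10_1 D8602 (iv D6591) D6590
def n8603 : Q := act 5 n6591
theorem D8603 : act 5 n6591 = n8603 := rfl
theorem F14249 : act 1 n8603 = n6593 := d8_1 D8603 (iv D6593) (iv F10887)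
theorem F14250 : act 4 n8603 = n8456 := d14_1 D8603 (iv D8456) F10724 F9505 D6591
def n8604 : Q := act 3 n6592
theorem D8604 : act 3 n6592 = n8604 := rfl
theorem F14251 : act 1 n8604 = n6594 := d6_1 D8604 (iv D6594) (iv F10888)
theorem F14252 : act 4 n8604 = n8455 := d12_2 D6592 D8604 (iv D8455) F10724 F9504
def n8605 : Q := act 3 n6595
theorem D8605 : act 3 n6595 = n8605 := rfl
theorem F14253 : act 0 n8605 = n6596 := d2_1 D8605 (iv D6596) D6595
theorem F14254 : act 1 n8605 = n6600 := d6_1 D8605 (iv D6600) (iv F10892)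
def n8606 : Q := act 5 n6595
theorem D8606 : act 5 n6595 = n8606 := rfl
theorem F14255 : act 0 n8606 = n6597 := d4_1 D8606 (iv D6597) D6595
theorem F14256 : act 1 n8606 = n6601 := d8_1 D8606 (iv D6601) (iv F10892)
theorem F14257 : act 2 n8606 = n7680 := d11_1 D8606 (iv D7680) (iv F10893)
theorem F14258 : act 4 n8606 = n8419 := d14_1 D8606 (iv D8419) (iv D6459) (iv F9608) (iv F10894)
def n8607 : Q := act 2 n6596
theorem D8607 : act 2 n6596 = n8607 := rfl
def n8608 : Q := act 4 n6596
theorem D8608 : act 4 n6596 = n8608 := rfl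
theorem F14259 : act 1 n8608 = n6598 := d7_1 D8608 (iv D6598) (iv F10895)
theorem F14260 : act 3 n8608 = n7677 := d12_1 D8608 (iv D7677) (iv D5853) (iv F8147) D6596
def n8609 : Q := act 4 n6597
theorem D8609 : act 4 n6597 = n8609 := rfl
theorem F14261 : act 0 n8609 = n8419 := d3_1 D8609 (iv F14258) F14255
theorem F14262 : act 1 n8609 = n6599 := d7_1 D8609 (iv D6599) (iv F10896)
theorem F14263 : act 2 n8609 = n7582 := d10_1 D8609 F12559 (iv F10897)
theorem F14264 : act 5 n8609 = n7394 := d14_2 D6597 D8609 F12269 F9477 (iv F8147)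
def n8610 : Q := act 5 n6598
theorem D8610 : act 5 n6598 = n8610 := rfl
theorem F14265 : act 0 n8610 = n6607 := d4_1 D8610 (iv D6607) (iv F10898)
theorem F14266 : act 3 n8610 = n7678 := d13_1 D8610 (iv D7678) (iv F10899)
def n8611 : Q := act 3 n6599
theorem D8611 : act 3 n6599 = n8611 := rfl
theorem F14267 : act 0 n8611 = n6609 := d2_1 D8611 (iv D6609) (iv F10900)
theorem F14268 : act 5 n8611 = n7395 := d13_2 (iv F10902) D8611 (iv D7395)
theorem F14269 : act 2 n8611 = n7367 := d15_2 (iv F10901) D8611 (iv D7367) (iv D5608) (iv D4218) F5124 D3139 (iv F6098) (iv F8151)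
def n8612 : Q := act 2 n6600
theorem D8612 : act 2 n6600 = n8612 := rfl
theorem F14270 : act 0 n8612 = n6602 := d1_1 D8612 (iv D6602) (iv F10903)
def n8613 : Q := act 5 n6600
theorem D8613 : act 5 n6600 = n8613 := rfl
theorem F14271 : act 0 n8613 = n6604 := d4_1 D8613 (iv D6604) (iv F10903)
theorem F14272 : act 3 n8613 = n6601 := d13_1 D8613 (iv D6601) D6600
def n8614 : Q := act 1 n6602
theorem D8614 : act 1 n6602 = n8614 := rfl
theorem F14273 : act 2 n8614 = n6605 := d5_2 D6602 D8614 (iv D6605) (iv D5002) (iv F8157)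
def n8615 : Q := act 3 n6602
theorem D8615 : act 3 n6602 = n8615 := rfl
def n8616 : Q := act 4 n6602
theorem D8616 : act 4 n6602 = n8616 := rfl
theorem F14274 : act 2 n8616 = n6603 := d10_1 D8616 (iv D6603) D6602
def n8617 : Q := act 5 n6602
theorem D8617 : act 5 n6602 = n8617 := rfl
theorem F14275 : act 2 n8617 = n6604 := d11_1 D8617 (iv D6604) D6602
def n8618 : Q := act 5 n6603
theorem D8618 : act 5 n6603 = n8618 := rfl
theorem F14276 : act 1 n8618 = n6607 := d8_1 D8618 (iv D6607) (iv F10907)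
theorem F14277 : act 3 n8618 = n8279 := d13_1 D8618 (iv D8279) (iv F10908)
def n8619 : Q := act 4 n6604
theorem D8619 : act 4 n6604 = n8619 := rfl
theorem F14278 : act 1 n8619 = n6608 := d7_1 D8619 (iv D6608) (iv F10909)
theorem F14279 : act 3 n8619 = n8432 := d12_1 D8619 (iv D8432) F10695 (iv F8160) (iv F10910)
def n8620 : Q := act 0 n6605
theorem D8620 : act 0 n6605 = n8620 := rfl
def n8621 : Q := act 4 n6605
theorem D8621 : act 4 n6605 = n8621 := rfl
theorem F14280 : act 1 n8621 = n6606 := d7_1 D8621 (iv D6606) D6605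
def n8622 : Q := act 3 n6606
theorem D8622 : act 3 n6606 = n8622 := rfl
def n8623 : Q := act 5 n6606
theorem D8623 : act 5 n6606 = n8623 := rfl
theorem F14281 : act 2 n8623 = n6607 := d11_1 D8623 (iv D6607) (iv F10911)
def n8624 : Q := act 4 n6607
theorem D8624 : act 4 n6607 = n8624 := rfl
theorem F14282 : act 5 n8624 = n6608 := d14_2 D6607 D8624 (iv D6608) (iv D5004) D5003
def n8625 : Q := act 3 n6608
theorem D8625 : act 3 n6608 = n8625 := rfl
theorem F14283 : act 1 n8625 = n8432 := d6_1 D8625 (iv F14279) F14278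
theorem F14284 : act 4 n8625 = n6609 := d12_2 D6608 D8625 (iv D6609) (iv D5005) (iv F8162)
def n8626 : Q := act 2 n6609
theorem D8626 : act 2 n6609 = n8626 := rfl
theorem F14285 : act 0 n8626 = n7367 := d1_1 D8626 (iv F14269) F14267
theorem F14286 : act 5 n8626 = n7396 := d11_2 (iv F10914) D8626 (iv D7396)
theorem F14287 : act 3 n8626 = n7362 := d15_1 D8626 (iv D7362) (iv D5604) F6915 D4231 D5626 D7395 (iv F14268) F14267
def n8627 : Q := act 1 n6610
theorem D8627 : act 1 n6610 = n8627 := rfl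
theorem F14288 : act 2 n8627 = n8433 := d5_2 D6610 D8627 (iv D8433) (iv D6469) (iv F8167)
theorem F14289 : act 4 n8627 = n8411 := d7_2 (iv F10916) D8627 (iv D8411)
def n8628 : Q := act 3 n6610
theorem D8628 : act 3 n6610 = n8628 := rfl
theorem F14290 : act 0 n8628 = n6611 := d2_1 D8628 (iv D6611) (iv F10915)
def n8629 : Q := act 2 n6611
theorem D8629 : act 2 n6611 = n8629 := rfl
def n8630 : Q := act 4 n6611
theorem D8630 : act 4 n6611 = n8630 := rfl
theorem F14291 : act 3 n8630 = n8416 := d12_1 D8630 (iv D8416) (iv D6456) (iv F8172) D6611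
def n8631 : Q := act 5 n6612
theorem D8631 : act 5 n6612 = n8631 := rfl
theorem F14292 : act 1 n8631 = n6614 := d8_1 D8631 (iv D6614) (iv F10917)
def n8632 : Q := act 3 n6613
theorem D8632 : act 3 n6613 = n8632 := rfl
theorem F14293 : act 0 n8632 = n6829 := d2_1 D8632 (iv D6829) (iv F10918)
theorem F14294 : act 1 n8632 = n6615 := d6_1 D8632 (iv D6615) (iv F10919)
def n8633 : Q := act 2 n6615
theorem D8633 : act 2 n6615 = n8633 := rfl
theorem F14295 : act 0 n8633 = n6630 := d1_1 D8633 (iv D6630) (iv F10922)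
def n8634 : Q := act 2 n6616
theorem D8634 : act 2 n6616 = n8634 := rfl
theorem F14296 : act 0 n8634 = n6618 := d1_1 D8634 (iv D6618) (iv F10923)
def n8635 : Q := act 5 n6616
theorem D8635 : act 5 n6616 = n8635 := rfl
theorem F14297 : act 0 n8635 = n6620 := d4_1 D8635 (iv D6620) (iv F10923)
theorem F14298 : act 3 n8635 = n6617 := d13_1 D8635 (iv D6617) D6616
def n8636 : Q := act 1 n6618
theorem D8636 : act 1 n6618 = n8636 := rfl
theorem F14299 : act 2 n8636 = n6620 := d5_2 D6618 D8636 F10929 (iv D5017) (iv F8185)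
theorem F14300 : act 5 n6618 = n8636 := d11_0 F14299 (iv D6620) D6618
def n8637 : Q := act 3 n6618
theorem D8637 : act 3 n6618 = n8637 := rfl
def n8638 : Q := act 4 n6618
theorem D8638 : act 4 n6618 = n8638 := rfl
theorem F14301 : act 2 n8638 = n6619 := d10_1 D8638 (iv D6619) D6618
def n8639 : Q := act 5 n6619
theorem D8639 : act 5 n6619 = n8639 := rfl
theorem F14302 : act 1 n8639 = n6622 := d8_1 D8639 (iv D6622) (iv F10927)
theorem F14303 : act 3 n8639 = n6624 := d13_1 D8639 (iv D6624) (iv F10928)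
def n8640 : Q := act 4 n6620
theorem D8640 : act 4 n6620 = n8640 := rfl
theorem F14304 : act 1 n8640 = n6621 := d7_1 D8640 (iv D6621) (iv F10929)
theorem F14305 : act 3 n8640 = n6845 := d12_1 D8640 (iv D6845) F8510 (iv F8188) (iv F10930)
def n8641 : Q := act 3 n6621
theorem D8641 : act 3 n6621 = n8641 := rfl
theorem F14306 : act 1 n8641 = n6845 := d6_1 D8641 (iv F14305) F14304
theorem F14307 : act 4 n8641 = n6623 := d12_2 D6621 D8641 (iv D6623) (iv D5019) (iv F8189)
def n8642 : Q := act 5 n6621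
theorem D8642 : act 5 n6621 = n8642 := rfl
theorem F14308 : act 2 n8642 = n6622 := d11_1 D8642 (iv D6622) (iv F10931)
theorem F14309 : act 4 n8642 = n6622 := d14_1 D8642 (iv D6622) (iv D5018) F8190 D6621
def n8643 : Q := act 2 n6623
theorem D8643 : act 2 n6623 = n8643 := rfl
theorem F14310 : act 5 n8643 = n6630 := d11_2 (iv F10934) D8643 (iv D6630)
theorem F14311 : act 3 n8643 = n6630 := d15_1 D8643 (iv D6630) (iv D5025) F6124 (iv F6111) (iv F8182) D6615 (iv F11021) F11020
def n8644 : Q := act 3 n6625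
theorem D8644 : act 3 n6625 = n8644 := rfl
theorem F14312 : act 1 n8644 = n6626 := d6_1 D8644 (iv D6626) (iv F10937)
def n8645 : Q := act 5 n6625
theorem D8645 : act 5 n6625 = n8645 := rfl
theorem F14313 : act 1 n8645 = n6627 := d8_1 D8645 (iv D6627) (iv F10937)
def n8646 : Q := act 2 n6626
theorem D8646 : act 2 n6626 = n8646 := rfl
def n8647 : Q := act 5 n6626
theorem D8647 : act 5 n6626 = n8647 := rfl
theorem F14314 : act 3 n8647 = n6627 := d13_1 D8647 (iv D6627) D6626
def n8648 : Q := act 3 n6628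
theorem D8648 : act 3 n6628 = n8648 := rfl
theorem F14315 : act 1 n8648 = n6841 := d6_1 D8648 F11307 (iv F10939)
theorem F14316 : act 5 n8648 = n6629 := d13_2 (iv F10940) D8648 (iv D6629)
def n8649 : Q := act 2 n6629
theorem D8649 : act 2 n6629 = n8649 := rfl
theorem F14317 : act 4 n8649 = n6630 := d10_2 (iv F10942) D8649 (iv D6630)
def n8650 : Q := act 1 n6630
theorem D8650 : act 1 n6630 = n8650 := rfl
theorem F14318 : act 2 n8650 = n6842 := d5_2 D6630 D8650 (iv D6842) (iv D5193) (iv F8198)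
def n8651 : Q := act 1 n6631
theorem D8651 : act 1 n6631 = n8651 := rfl
theorem F14319 : act 2 n8651 = n6676 := d5_2 D6631 D8651 (iv D6676) (iv D5067) (iv F8200)
theorem F14320 : act 4 n8651 = n6835 := d7_2 (iv F10944) D8651 (iv D6835)
def n8652 : Q := act 3 n6631
theorem D8652 : act 3 n6631 = n8652 := rfl
theorem F14321 : act 0 n8652 = n6634 := d2_1 D8652 (iv D6634) (iv F10943)
def n8653 : Q := act 5 n6631
theorem D8653 : act 5 n6631 = n8653 := rfl
theorem F14322 : act 0 n8653 = n6635 := d4_1 D8653 (iv D6635) (iv F10943)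
theorem F14323 : act 2 n8653 = n6632 := d11_1 D8653 (iv D6632) D6631
def n8654 : Q := act 4 n6632
theorem D8654 : act 4 n6632 = n8654 := rfl
theorem F14324 : act 0 n8654 = n6636 := d3_1 D8654 (iv D6636) (iv F10945)
theorem F14325 : act 1 n8654 = n6681 := d7_1 D8654 (iv D6681) (iv F10946)
theorem F14326 : act 3 n8654 = n6805 := d12_1 D8654 (iv D6805) F8470 (iv F8204) (iv F10947)
theorem F14327 : act 5 n8654 = n6806 := d14_2 D6632 D8654 F11255 F8473 (iv F8201)
def n8655 : Q := act 0 n6633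
theorem D8655 : act 0 n6633 = n8655 := rfl
theorem F14328 : act 2 n8655 = n6637 := d1_2 (iv F10948) D8655 (iv D6637)
theorem F14329 : act 4 n8655 = n6846 := d3_2 (iv F10949) D8655 (iv D6846)
theorem F14330 : act 5 n8655 = n6669 := d4_2 F10950 D8655 F11022
def n8656 : Q := act 3 n6633
theorem D8656 : act 3 n6633 = n8656 := rfl
theorem F14331 : act 1 n8656 = n6634 := d6_1 D8656 (iv D6634) D6633
theorem F14332 : act 5 n8656 = n6672 := d13_2 F10950 D8656 (iv D6672)
def n8657 : Q := act 2 n6634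
theorem D8657 : act 2 n6634 = n8657 := rfl
def n8658 : Q := act 4 n6634
theorem D8658 : act 4 n6634 = n8658 := rfl
theorem F14333 : act 3 n8658 = n6849 := d12_1 D8658 (iv D6849) (iv D5196) (iv F8205) D6634
def n8659 : Q := act 5 n6634
theorem D8659 : act 5 n6634 = n8659 := rfl
theorem F14334 : act 1 n8659 = n6672 := d8_1 D8659 (iv F14332) F14331
theorem F14335 : act 3 n8659 = n6635 := d13_1 D8659 (iv D6635) D6634
def n8660 : Q := act 4 n6635
theorem D8660 : act 4 n6635 = n8660 := rfl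
theorem F14336 : act 1 n8660 = n6673 := d7_1 D8660 (iv D6673) (iv F10951)
theorem F14337 : act 2 n8660 = n6636 := d10_1 D8660 (iv D6636) (iv F10952)
theorem F14338 : act 5 n8660 = n6821 := d14_2 D6635 D8660 F11279 F8494 (iv F8205)
def n8661 : Q := act 3 n6638
theorem D8661 : act 3 n6638 = n8661 := rfl
theorem F14339 : act 0 n8661 = n6639 := d2_1 D8661 (iv D6639) D6638
theorem F14340 : act 1 n8661 = n6654 := d6_1 D8661 (iv D6654) (iv F10960)
theorem F14341 : act 4 n8661 = n6715 := d12_2 (iv F10962) D8661 (iv D6715) (iv D5099) (iv F8221)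
def n8662 : Q := act 2 n6639
theorem D8662 : act 2 n6639 = n8662 := rfl
theorem F14342 : act 1 n8662 = n8466 := d5_1 D8662 F14065 F10739 F8218 (iv F10963)
theorem F14343 : act 4 n8662 = n6717 := d10_2 (iv F10964) D8662 (iv D6717)
def n8663 : Q := act 4 n6640
theorem D8663 : act 4 n6640 = n8663 := rfl
theorem F14344 : act 0 n8663 = n6643 := d3_1 D8663 (iv D6643) (iv F10965)
theorem F14345 : act 1 n8663 = n6959 := d7_1 D8663 (iv D6959) (iv F10966)
theorem F14346 : act 2 n8663 = n7213 := d10_1 D8663 (iv D7213) (iv F10968)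
def n8664 : Q := act 4 n6642
theorem D8664 : act 4 n6642 = n8664 := rfl
theorem F14347 : act 0 n8664 = n6701 := d3_1 D8664 (iv D6701) (iv F10973)
theorem F14348 : act 1 n8664 = n6643 := d7_1 D8664 (iv D6643) (iv F10974)
theorem F14349 : act 2 n8664 = n6697 := d10_1 D8664 (iv D6697) (iv F10975)
def n8665 : Q := act 5 n6643
theorem D8665 : act 5 n6643 = n8665 := rfl
def n8666 : Q := act 1 n6644
theorem D8666 : act 1 n6644 = n8666 := rfl
def n8667 : Q := act 3 n6644
theorem D8667 : act 3 n6644 = n8667 := rfl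
theorem F14350 : act 0 n8667 = n6647 := d2_1 D8667 (iv D6647) (iv F10977)
theorem F14351 : act 2 n8667 = n6688 := d9_1 D8667 F11058 F8300 F6185 (iv F6152) (iv F6188) (iv F8296) D6684 F11052 (iv D6677) (iv D5067) (iv D3790) (iv F6148) D5039 D6644
theorem F14352 : act 5 n8667 = n6686 := d13_2 F11049 D8667 F11056
def n8668 : Q := act 4 n6644
theorem D8668 : act 4 n6644 = n8668 := rfl
theorem F14353 : act 0 n8668 = n6648 := d3_1 D8668 (iv D6648) (iv F10977)
theorem F14354 : act 2 n8668 = n6645 := d10_1 D8668 (iv D6645) D6644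
def n8669 : Q := act 5 n6645
theorem D8669 : act 5 n6645 = n8669 := rfl
theorem F14355 : act 0 n8669 = n6649 := d4_1 D8669 (iv D6649) (iv F10978)
theorem F14356 : act 3 n8669 = n6653 := d13_1 D8669 (iv D6653) (iv F10979)
theorem F14357 : act 4 n8669 = n8333 := d14_1 D8669 F13852 (iv D6695) F8307 D6645
def n8670 : Q := act 3 n6646
theorem D8670 : act 3 n6646 = n8670 := rfl
theorem F14358 : act 0 n8670 = n6650 := d2_1 D8670 (iv D6650) (iv F10980)
theorem F14359 : act 4 n8670 = n8301 := d12_2 D6646 D8670 F13785 (iv D6695) F8306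
theorem F14360 : act 5 n8670 = n6654 := d13_2 (iv F10982) D8670 (iv D6654)
def n8671 : Q := act 2 n6647
theorem D8671 : act 2 n6647 = n8671 := rfl
theorem F14361 : act 0 n8671 = n6688 := d1_1 D8671 (iv F14351) F14350
theorem F14362 : act 3 n8671 = n6679 := d9_2 D6647 D8671 F11040 F8292 (iv F8233) (iv F8306) (iv F11048) (iv F11056) (iv D6686) (iv D5072) (iv D3792) (iv D2805) (iv F4504) D3770 D5041
theorem F14363 : act 5 n8671 = n6677 := d11_2 F11051 D8671 (iv F11052)
def n8672 : Q := act 4 n6647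
theorem D8672 : act 4 n6647 = n8672 := rfl
def n8673 : Q := act 3 n6648
theorem D8673 : act 3 n6648 = n8673 := rfl
def n8674 : Q := act 5 n6648
theorem D8674 : act 5 n6648 = n8674 := rfl
theorem F14364 : act 2 n8674 = n6649 := d11_1 D8674 (iv D6649) (iv F10983)
theorem F14365 : act 4 n8674 = n8334 := d14_1 D8674 F13854 (iv D6685) (iv F8297) D6648
def n8675 : Q := act 2 n6650
theorem D8675 : act 2 n6650 = n8675 := rfl
theorem F14366 : act 1 n8675 = n6826 := d5_1 D8675 (iv D6826) F8496 (iv F8243) (iv F10987)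
theorem F14367 : act 4 n8675 = n8299 := d10_2 (iv F10988) D8675 F13778
theorem F14368 : act 5 n8675 = n6658 := d11_2 (iv F10989) D8675 (iv D6658)
def n8676 : Q := act 4 n6651
theorem D8676 : act 4 n6651 = n8676 := rfl
theorem F14369 : act 0 n8676 = n6977 := d3_1 D8676 (iv D6977) (iv F10990)
theorem F14370 : act 1 n8676 = n6652 := d7_1 D8676 (iv D6652) D6651
theorem F14371 : act 2 n8676 = n6975 := d10_1 D8676 (iv D6975) (iv F10991)
def n8677 : Q := act 3 n6652
theorem D8677 : act 3 n6652 = n8677 := rfl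
theorem F14372 : act 0 n8677 = n6656 := d2_1 D8677 (iv D6656) (iv F10994)
theorem F14373 : act 4 n8677 = n6741 := d12_2 D6652 D8677 (iv D6741) (iv D5119) (iv F8245)
def n8678 : Q := act 5 n6652
theorem D8678 : act 5 n6652 = n8678 := rfl
theorem F14374 : act 0 n8678 = n6657 := d4_1 D8678 (iv D6657) (iv F10994)
theorem F14375 : act 2 n8678 = n6653 := d11_1 D8678 (iv D6653) (iv F10995)
def n8679 : Q := act 2 n6654
theorem D8679 : act 2 n6654 = n8679 := rfl
theorem F14376 : act 0 n8679 = n6658 := d1_1 D8679 (iv D6658) (iv F10997)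
def n8680 : Q := act 3 n6655
theorem D8680 : act 3 n6655 = n8680 := rfl
theorem F14377 : act 0 n8680 = n6741 := d2_1 D8680 (iv D6741) (iv F10998)
theorem F14378 : act 4 n8680 = n6656 := d12_2 D6655 D8680 (iv D6656) (iv D5050) D5049
def n8681 : Q := act 5 n6655
theorem D8681 : act 5 n6655 = n8681 := rfl
theorem F14379 : act 0 n8681 = n6742 := d4_1 D8681 (iv D6742) (iv F10998)
theorem F14380 : act 2 n8681 = n6738 := d11_1 D8681 (iv D6738) (iv F10999)
def n8682 : Q := act 2 n6656
theorem D8682 : act 2 n6656 = n8682 := rfl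
def n8683 : Q := act 5 n6656
theorem D8683 : act 5 n6656 = n8683 := rfl
theorem F14381 : act 3 n8683 = n6657 := d13_1 D8683 (iv D6657) D6656
def n8684 : Q := act 1 n6658
theorem D8684 : act 1 n6658 = n8684 := rfl
theorem F14382 : act 2 n8684 = n6659 := d5_2 D6658 D8684 (iv D6659) (iv D5053) (iv F8253)
theorem F14383 : act 4 n8684 = n8325 := d7_2 F11387 D8684 F13837
theorem F14384 : act 5 n8684 = n6826 := d8_2 F14368 D8684 (iv F14366)
def n8685 : Q := act 3 n6658
theorem D8685 : act 3 n6658 = n8685 := rfl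
def n8686 : Q := act 0 n6659
theorem D8686 : act 0 n6659 = n8686 := rfl
theorem F14385 : act 1 n8686 = n8460 := d0_2 D6659 D8686 F14061 F10739 (iv F8254)
theorem F14386 : act 3 n8686 = n6825 := d2_2 (iv F11001) D8686 F11285
theorem F14387 : act 4 n8686 = n8308 := d3_2 (iv F11002) D8686 F13805
theorem F14388 : act 5 n8686 = n6824 := d4_2 (iv F11003) D8686 F11283
def n8687 : Q := act 2 n6660
theorem D8687 : act 2 n6660 = n8687 := rfl
theorem F14389 : act 0 n8687 = n6662 := d1_1 D8687 (iv D6662) (iv F11004)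
def n8688 : Q := act 4 n6660
theorem D8688 : act 4 n6660 = n8688 := rfl
theorem F14390 : act 0 n8688 = n6663 := d3_1 D8688 (iv D6663) (iv F11004)
theorem F14391 : act 1 n8688 = n8425 := d7_1 D8688 F14004 (iv F11005)
theorem F14392 : act 3 n8688 = n8424 := d12_1 D8688 (iv D8424) F10690 (iv F8260) D6660
def n8689 : Q := act 5 n6660
theorem D8689 : act 5 n6660 = n8689 := rfl
theorem F14393 : act 0 n8689 = n6664 := d4_1 D8689 (iv D6664) (iv F11004)
theorem F14394 : act 1 n8689 = n8635 := d8_1 D8689 (iv D8635) (iv F11005)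
theorem F14395 : act 3 n8689 = n6661 := d13_1 D8689 (iv D6661) D6660
def n8690 : Q := act 1 n6662
theorem D8690 : act 1 n6662 = n8690 := rfl
theorem F14396 : act 2 n8690 = n6664 := d5_2 D6662 D8690 F11011 (iv D5057) (iv F8261)
theorem F14397 : act 5 n6662 = n8690 := d11_0 F14396 (iv D6664) D6662
def n8691 : Q := act 3 n6662
theorem D8691 : act 3 n6662 = n8691 := rfl
def n8692 : Q := act 4 n6662
theorem D8692 : act 4 n6662 = n8692 := rfl
theorem F14398 : act 2 n8692 = n6663 := d10_1 D8692 (iv D6663) D6662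
def n8693 : Q := act 5 n6663
theorem D8693 : act 5 n6663 = n8693 := rfl
theorem F14399 : act 1 n8693 = n6667 := d8_1 D8693 (iv D6667) (iv F11009)
theorem F14400 : act 3 n8693 = n8631 := d13_1 D8693 (iv D8631) (iv F11010)
def n8694 : Q := act 4 n6664
theorem D8694 : act 4 n6664 = n8694 := rfl
theorem F14401 : act 1 n8694 = n6666 := d7_1 D8694 (iv D6666) (iv F11011)
def n8695 : Q := act 3 n6665
theorem D8695 : act 3 n6665 = n8695 := rfl
theorem F14402 : act 1 n8695 = n6668 := d6_1 D8695 (iv D6668) (iv F11013)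
theorem F14403 : act 5 n8695 = n8632 := d13_2 (iv F11015) D8695 (iv D8632)
def n8696 : Q := act 3 n6666
theorem D8696 : act 3 n6666 = n8696 := rfl
theorem F14404 : act 0 n8696 = n8641 := d2_1 D8696 (iv D8641) (iv F11016)
theorem F14405 : act 4 n8696 = n6668 := d12_2 D6666 D8696 (iv D6668) (iv D5059) (iv F8265)
def n8697 : Q := act 5 n6666
theorem D8697 : act 5 n6666 = n8697 := rfl
theorem F14406 : act 0 n8697 = n8642 := d4_1 D8697 (iv D8642) (iv F11016)
theorem F14407 : act 2 n8697 = n6667 := d11_1 D8697 (iv D6667) (iv F11017)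
theorem F14408 : act 4 n8697 = n6667 := d14_1 D8697 (iv D6667) (iv D5058) F8266 D6666
def n8698 : Q := act 2 n6668
theorem D8698 : act 2 n6668 = n8698 := rfl
theorem F14409 : act 0 n8698 = n8643 := d1_1 D8698 (iv D8643) (iv F11020)
theorem F14410 : act 3 n8698 = n8633 := d9_2 D6668 D8698 (iv D8633) (iv D6615) F8182 F6111 (iv F6124) D5025 D6630 (iv F14311) (iv D8643) (iv D6623) F8193 (iv F6169) (iv F8270)
theorem F14411 : act 5 n8698 = n8633 := d11_2 (iv F11021) D8698 (iv D8633)
def n8699 : Q := act 1 n6669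
theorem D8699 : act 1 n6669 = n8699 := rfl
theorem F14412 : act 2 n8699 = n8666 := d5_2 D6669 D8699 (iv D8666) (iv D6644) (iv F8273)
def n8700 : Q := act 3 n6669
theorem D8700 : act 3 n6669 = n8700 := rfl
theorem F14413 : act 0 n8700 = n6672 := d2_1 D8700 (iv D6672) (iv F11022)
def n8701 : Q := act 4 n6669
theorem D8701 : act 4 n6669 = n8701 := rfl
theorem F14414 : act 0 n8701 = n6673 := d3_1 D8701 (iv D6673) (iv F11022)
theorem F14415 : act 2 n8701 = n6670 := d10_1 D8701 (iv D6670) D6669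
def n8702 : Q := act 5 n6670
theorem D8702 : act 5 n6670 = n8702 := rfl
theorem F14416 : act 0 n8702 = n6674 := d4_1 D8702 (iv D6674) (iv F11023)
theorem F14417 : act 1 n8702 = n8669 := d8_1 D8702 (iv D8669) (iv F11024)
theorem F14418 : act 3 n8702 = n8467 := d13_1 D8702 F14069 (iv F11025)
theorem F14419 : act 4 n8702 = n6827 := d14_1 D8702 F11288 (iv F10958) F10959 D6670
def n8703 : Q := act 3 n6671
theorem D8703 : act 3 n6671 = n8703 := rfl
theorem F14420 : act 0 n8703 = n6675 := d2_1 D8703 (iv D6675) (iv F11026)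
theorem F14421 : act 1 n8703 = n8670 := d6_1 D8703 (iv D8670) (iv F11027)
theorem F14422 : act 4 n8703 = n6850 := d12_2 D6671 D8703 (iv D6850) (iv F10958) F10957
theorem F14423 : act 5 n8703 = n8661 := d13_2 (iv F11028) D8703 (iv D8661)
def n8704 : Q := act 2 n6672
theorem D8704 : act 2 n6672 = n8704 := rfl
def n8705 : Q := act 4 n6672
theorem D8705 : act 4 n6672 = n8705 := rfl
def n8706 : Q := act 3 n6673
theorem D8706 : act 3 n6673 = n8706 := rfl
def n8707 : Q := act 5 n6673
theorem D8707 : act 5 n6673 = n8707 := rfl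
theorem F14424 : act 1 n8707 = n6821 := d8_1 D8707 (iv F14338) F14336
theorem F14425 : act 2 n8707 = n6674 := d11_1 D8707 (iv D6674) (iv F11029)
theorem F14426 : act 4 n8707 = n6822 := d14_1 D8707 F11281 (iv F10949) (iv F10950) D6673
def n8708 : Q := act 2 n6675
theorem D8708 : act 2 n6675 = n8708 := rfl
theorem F14427 : act 4 n8708 = n6851 := d10_2 (iv F11034) D8708 (iv D6851)
theorem F14428 : act 5 n8708 = n8662 := d11_2 (iv F11035) D8708 (iv D8662)
def n8709 : Q := act 0 n6676
theorem D8709 : act 0 n6676 = n8709 := rfl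
theorem F14429 : act 1 n8709 = n6683 := d0_2 D6676 D8709 (iv D6683) (iv D5071) (iv F8287)
theorem F14430 : act 5 n8666 = n8709 := d8_0 F14429 F11049 D8666
def n8710 : Q := act 3 n6676
theorem D8710 : act 3 n6676 = n8710 := rfl
theorem F14431 : act 1 n8710 = n6677 := d6_1 D8710 (iv D6677) D6676
def n8711 : Q := act 4 n6676
theorem D8711 : act 4 n6676 = n8711 := rfl
theorem F14432 : act 1 n8711 = n6678 := d7_1 D8711 (iv D6678) D6676
theorem F14433 : act 2 n8711 = n6835 := d10_1 D8711 (iv F14320) F14319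
def n8712 : Q := act 5 n6676
theorem D8712 : act 5 n6676 = n8712 := rfl
theorem F14434 : act 0 n8712 = n8666 := d4_1 D8712 F14430 (iv D8709)
theorem F14435 : act 1 n8712 = n6679 := d8_1 D8712 (iv D6679) D6676
def n8713 : Q := act 4 n6677
theorem D8713 : act 4 n6677 = n8713 := rfl
theorem F14436 : act 0 n8713 = n6687 := d3_1 D8713 (iv D6687) (iv F11036)
def n8714 : Q := act 3 n6678
theorem D8714 : act 3 n6678 = n8714 := rfl
theorem F14437 : act 0 n8714 = n6689 := d2_1 D8714 (iv D6689) (iv F11037)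
def n8715 : Q := act 5 n6678
theorem D8715 : act 5 n6678 = n8715 := rfl
theorem F14438 : act 0 n8715 = n6690 := d4_1 D8715 (iv D6690) (iv F11037)
theorem F14439 : act 2 n8715 = n6680 := d11_1 D8715 (iv D6680) (iv F11038)
def n8716 : Q := act 4 n6679
theorem D8716 : act 4 n6679 = n8716 := rfl
theorem F14440 : act 0 n8716 = n6691 := d3_1 D8716 (iv D6691) (iv F11039)
theorem F14441 : act 2 n8716 = n6681 := d10_1 D8716 (iv D6681) (iv F11040)
def n8717 : Q := act 4 n6680
theorem D8717 : act 4 n6680 = n8717 := rfl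
theorem F14442 : act 0 n8717 = n6692 := d3_1 D8717 (iv D6692) (iv F11041)
theorem F14443 : act 1 n8717 = n6806 := d7_1 D8717 F11255 (iv F11042)
theorem F14444 : act 3 n8717 = n6754 := d12_1 D8717 (iv D6754) F8408 (iv F8327) (iv F11043)
theorem F14445 : act 5 n8717 = n6681 := d14_2 D6680 D8717 (iv D6681) (iv D5069) D5068
def n8718 : Q := act 3 n6681
theorem D8718 : act 3 n6681 = n8718 := rfl
theorem F14446 : act 0 n8718 = n6693 := d2_1 D8718 (iv D6693) (iv F11044)
theorem F14447 : act 1 n8718 = n6805 := d6_1 D8718 (iv F14326) F14325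
theorem F14448 : act 4 n8718 = n6682 := d12_2 D6681 D8718 (iv D6682) (iv D5070) (iv F8292)
theorem F14449 : act 5 n8718 = n6754 := d13_2 F14445 D8718 (iv F14444)
def n8719 : Q := act 2 n6682
theorem D8719 : act 2 n6682 = n8719 := rfl
theorem F14450 : act 0 n8719 = n6694 := d1_1 D8719 (iv D6694) (iv F11045)
theorem F14451 : act 5 n8719 = n6700 := d11_2 (iv F11047) D8719 (iv D6700)
def n8720 : Q := act 4 n6683
theorem D8720 : act 4 n6683 = n8720 := rfl
theorem F14452 : act 0 n8720 = n6685 := d3_1 D8720 (iv D6685) D6683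
theorem F14453 : act 2 n8720 = n6695 := d10_1 D8720 (iv D6695) (iv F11048)
def n8721 : Q := act 4 n6684
theorem D8721 : act 4 n6684 = n8721 := rfl
theorem F14454 : act 1 n8721 = n6687 := d7_1 D8721 (iv D6687) (iv F11050)
theorem F14455 : act 2 n8721 = n8713 := d10_1 D8721 (iv D8713) (iv F11052)
def n8722 : Q := act 3 n6685
theorem D8722 : act 3 n6685 = n8722 := rfl
theorem F14456 : act 1 n8722 = n6689 := d6_1 D8722 (iv D6689) (iv F11053)
def n8723 : Q := act 1 n6686
theorem D8723 : act 1 n6686 = n8723 := rfl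
theorem F14457 : act 0 n8723 = n8710 := d0_1 D8723 F14431 F11036 (iv F11050) (iv F11055)
theorem F14458 : act 2 n8723 = n8710 := d5_2 D6686 D8723 F14431 (iv F11052) F11050
theorem F14459 : act 3 n8723 = n8709 := d6_2 (iv F11056) D8723 F14429
def n8724 : Q := act 4 n6686
theorem D8724 : act 4 n6686 = n8724 := rfl
theorem F14460 : act 0 n8724 = n8721 := d3_1 D8724 (iv D8721) (iv F11055)
theorem F14461 : act 2 n8724 = n6687 := d10_1 D8724 (iv D6687) D6686
def n8725 : Q := act 3 n6687
theorem D8725 : act 3 n6687 = n8725 := rfl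
theorem F14462 : act 4 n8725 = n6689 := d12_2 D6687 D8725 (iv D6689) (iv D5073) D5072
def n8726 : Q := act 5 n6687
theorem D8726 : act 5 n6687 = n8726 := rfl
def n8727 : Q := act 4 n6688
theorem D8727 : act 4 n6688 = n8727 := rfl
theorem F14463 : act 1 n8727 = n8672 := d7_1 D8727 (iv D8672) (iv F11057)
def n8728 : Q := act 2 n6689
theorem D8728 : act 2 n6689 = n8728 := rfl
def n8729 : Q := act 5 n6689
theorem D8729 : act 5 n6689 = n8729 := rfl
theorem F14464 : act 3 n8729 = n6690 := d13_1 D8729 (iv D6690) D6689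
def n8730 : Q := act 4 n6690
theorem D8730 : act 4 n6690 = n8730 := rfl
theorem F14465 : act 1 n8730 = n8674 := d7_1 D8730 F14365 F13853
theorem F14466 : act 2 n8730 = n6692 := d10_1 D8730 (iv D6692) (iv F11059)
theorem F14467 : act 5 n8730 = n6691 := d14_2 D6690 D8730 (iv D6691) (iv D5074) D5073
def n8731 : Q := act 3 n6691
theorem D8731 : act 3 n6691 = n8731 := rfl
theorem F14468 : act 1 n8731 = n8673 := d6_1 D8731 (iv D8673) (iv F11060)
def n8732 : Q := act 2 n6693
theorem D8732 : act 2 n6693 = n8732 := rfl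
theorem F14469 : act 1 n8732 = n6795 := d5_1 D8732 F11234 F8459 (iv F8314) (iv F11065)
theorem F14470 : act 4 n8732 = n6694 := d10_2 (iv F11066) D8732 (iv D6694)
theorem F14471 : act 5 n8732 = n6760 := d11_2 (iv F11067) D8732 F11181
def n8733 : Q := act 1 n6694
theorem D8733 : act 1 n6694 = n8733 := rfl
theorem F14472 : act 2 n8733 = n6696 := d5_2 D6694 D8733 (iv D6696) (iv D5082) (iv F8304)
theorem F14473 : act 4 n8733 = n6795 := d7_2 F14470 D8733 (iv F14469)
theorem F14474 : act 5 n8733 = n6706 := d8_2 (iv F11068) D8733 (iv D6706)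
def n8734 : Q := act 3 n6694
theorem D8734 : act 3 n6694 = n8734 := rfl
theorem F14475 : act 5 n8734 = n6707 := d13_2 (iv F11068) D8734 (iv D6707)
def n8735 : Q := act 0 n6696
theorem D8735 : act 0 n6696 = n8735 := rfl
theorem F14476 : act 1 n8735 = n6825 := d0_2 D6696 D8735 F11285 F8498 (iv F8317)
theorem F14477 : act 3 n8735 = n8460 := d2_2 (iv F11071) D8735 F14061
theorem F14478 : act 4 n8735 = n6790 := d3_2 (iv F11072) D8735 F11228
theorem F14479 : act 5 n8735 = n6708 := d4_2 (iv F11073) D8735 (iv D6708)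
def n8736 : Q := act 3 n6697
theorem D8736 : act 3 n6697 = n8736 := rfl
theorem F14480 : act 0 n8736 = n6702 := d2_1 D8736 (iv D6702) (iv F11074)
theorem F14481 : act 4 n8736 = n6698 := d12_2 D6697 D8736 (iv D6698) (iv D5084) D5083
def n8737 : Q := act 5 n6697
theorem D8737 : act 5 n6697 = n8737 := rfl
theorem F14482 : act 0 n8737 = n6703 := d4_1 D8737 (iv D6703) (iv F11074)
theorem F14483 : act 4 n8737 = n6738 := d14_1 D8737 (iv D6738) (iv D5117) (iv F8322) D6697
def n8738 : Q := act 2 n6698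
theorem D8738 : act 2 n6698 = n8738 := rfl
theorem F14484 : act 0 n8738 = n6704 := d1_1 D8738 (iv D6704) (iv F11075)
def n8739 : Q := act 5 n6698
theorem D8739 : act 5 n6698 = n8739 := rfl
theorem F14485 : act 0 n8739 = n6705 := d4_1 D8739 (iv D6705) (iv F11075)
theorem F14486 : act 1 n8739 = n8340 := d8_1 D8739 F13864 F13707
theorem F14487 : act 3 n8739 = n6699 := d13_1 D8739 (iv D6699) D6698
def n8740 : Q := act 1 n6700
theorem D8740 : act 1 n6700 = n8740 := rfl
theorem F14488 : act 2 n8740 = n6799 := d5_2 D6700 D8740 F11242 F8466 (iv F8329)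
theorem F14489 : act 4 n8740 = n6751 := d7_2 (iv F11081) D8740 (iv D6751)
def n8741 : Q := act 3 n6700
theorem D8741 : act 3 n6700 = n8741 := rfl
theorem F14490 : act 0 n8741 = n6707 := d2_1 D8741 (iv D6707) (iv F11080)
def n8742 : Q := act 3 n6701
theorem D8742 : act 3 n6701 = n8742 := rfl
theorem F14491 : act 1 n8742 = n6962 := d6_1 D8742 (iv D6962) (iv F11082)
def n8743 : Q := act 5 n6701
theorem D8743 : act 5 n6701 = n8743 := rfl
theorem F14492 : act 1 n8743 = n6963 := d8_1 D8743 (iv D6963) (iv F11082)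
theorem F14493 : act 2 n8743 = n6703 := d11_1 D8743 (iv D6703) (iv F11083)
theorem F14494 : act 4 n8743 = n6742 := d14_1 D8743 (iv D6742) (iv D5119) (iv F8332) D6701
def n8744 : Q := act 2 n6702
theorem D8744 : act 2 n6702 = n8744 := rfl
theorem F14495 : act 4 n8744 = n6704 := d10_2 (iv F11085) D8744 (iv D6704)
def n8745 : Q := act 5 n6702
theorem D8745 : act 5 n6702 = n8745 := rfl
theorem F14496 : act 1 n8745 = n6748 := d8_1 D8745 F11166 (iv F11084)
theorem F14497 : act 3 n8745 = n6703 := d13_1 D8745 (iv D6703) D6702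
def n8746 : Q := act 1 n6704
theorem D8746 : act 1 n6704 = n8746 := rfl
theorem F14498 : act 2 n8746 = n6750 := d5_2 D6704 D8746 (iv D6750) (iv D5127) (iv F8334)
def n8747 : Q := act 3 n6704
theorem D8747 : act 3 n6704 = n8747 := rfl
def n8748 : Q := act 5 n6704
theorem D8748 : act 5 n6704 = n8748 := rfl
theorem F14499 : act 2 n8748 = n6705 := d11_1 D8748 (iv D6705) D6704
def n8749 : Q := act 4 n6705
theorem D8749 : act 4 n6705 = n8749 := rfl
theorem F14500 : act 1 n8749 = n6736 := d7_1 D8749 F11146 (iv F11088)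
theorem F14501 : act 3 n8749 = n6735 := d12_1 D8749 (iv D6735) F8384 (iv F8337) (iv F11089)
def n8750 : Q := act 0 n6706
theorem D8750 : act 0 n6706 = n8750 := rfl
theorem F14502 : act 2 n8750 = n6708 := d1_2 (iv F11090) D8750 (iv D6708)
theorem F14503 : act 4 n8750 = n6755 := d3_2 (iv F11091) D8750 (iv D6755)
def n8751 : Q := act 3 n6706
theorem D8751 : act 3 n6706 = n8751 := rfl
theorem F14504 : act 1 n8751 = n6707 := d6_1 D8751 (iv D6707) D6706
def n8752 : Q := act 2 n6707
theorem D8752 : act 2 n6707 = n8752 := rfl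
def n8753 : Q := act 4 n6707
theorem D8753 : act 4 n6707 = n8753 := rfl
theorem F14505 : act 3 n8753 = n6758 := d12_1 D8753 (iv D6758) (iv D5131) (iv F8338) D6707
def n8754 : Q := act 3 n6708
theorem D8754 : act 3 n6708 = n8754 := rfl
theorem F14506 : act 0 n8754 = n6709 := d2_1 D8754 (iv D6709) D6708
theorem F14507 : act 1 n8754 = n6824 := d6_1 D8754 (iv D6824) (iv F11092)
theorem F14508 : act 4 n8754 = n6791 := d12_2 (iv F11093) D8754 (iv D6791) (iv D5155) (iv F8415)
theorem F14509 : act 5 n8754 = n8460 := d13_2 F14479 D8754 (iv F14477)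
def n8755 : Q := act 2 n6709
theorem D8755 : act 2 n6709 = n8755 := rfl
theorem F14510 : act 1 n8755 = n8708 := d5_1 D8755 (iv D8708) F11033 (iv F8341) (iv F11094)
theorem F14511 : act 4 n8755 = n6796 := d10_2 (iv F11095) D8755 (iv D6796)
theorem F14512 : act 5 n8755 = n8466 := d11_2 (iv F11096) D8755 F14065
def n8756 : Q := act 3 n6710
theorem D8756 : act 3 n6710 = n8756 := rfl
theorem F14513 : act 0 n8756 = n6711 := d2_1 D8756 (iv D6711) (iv F11097)
theorem F14514 : act 1 n8756 = n7180 := d6_1 D8756 (iv D7180) (iv F11098)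
theorem F14515 : act 4 n8756 = n7176 := d12_2 D6710 D8756 (iv D7176) (iv D5460) (iv F8350)
def n8757 : Q := act 5 n6710
theorem D8757 : act 5 n6710 = n8757 := rfl
theorem F14516 : act 0 n8757 = n6712 := d4_1 D8757 (iv D6712) (iv F11097)
theorem F14517 : act 1 n8757 = n7181 := d8_1 D8757 (iv D7181) (iv F11098)
theorem F14518 : act 2 n8757 = n6716 := d11_1 D8757 (iv D6716) (iv F11099)
theorem F14519 : act 4 n8757 = n7246 := d14_1 D8757 (iv D7246) (iv D5520) (iv F8351) D6710
def n8758 : Q := act 2 n6711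
theorem D8758 : act 2 n6711 = n8758 := rfl
theorem F14520 : act 4 n8758 = n7177 := d10_2 (iv F11101) D8758 (iv D7177)
def n8759 : Q := act 5 n6711
theorem D8759 : act 5 n6711 = n8759 := rfl
theorem F14521 : act 1 n8759 = n6714 := d8_1 D8759 (iv D6714) (iv F11100)
theorem F14522 : act 3 n8759 = n6712 := d13_1 D8759 (iv D6712) D6711
def n8760 : Q := act 1 n6713
theorem D8760 : act 1 n6713 = n8760 := rfl
theorem F14523 : act 4 n8760 = n7021 := d7_2 (iv F11106) D8760 F11650
def n8761 : Q := act 3 n6713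
theorem D8761 : act 3 n6713 = n8761 := rfl
theorem F14524 : act 0 n8761 = n6726 := d2_1 D8761 F11130 (iv F11105)
theorem F14525 : act 2 n8761 = n6721 := d9_1 D8761 F11122 F8368 (iv F8346) F8345 (iv F9033) (iv F11127) (iv D6725) (iv D5107) (iv D3821) F4571 (iv F4561) (iv F6220) D5097 D6713
theorem F14526 : act 4 n8761 = n7202 := d12_2 (iv F11106) D8761 (iv D7202) (iv D5486) (iv F9015)
theorem F14527 : act 5 n8761 = n6720 := d15_8 (iv D5107) (iv D3821) F4571 (iv F4561) (iv F6220) D5097 D6713 D8761 F11119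
def n8762 : Q := act 5 n6713
theorem D8762 : act 5 n6713 = n8762 := rfl
theorem F14528 : act 0 n8762 = n6725 := d4_1 D8762 F11128 (iv F11105)
theorem F14529 : act 2 n8762 = n6714 := d11_1 D8762 (iv D6714) D6713
theorem F14530 : act 3 n8762 = n6720 := d13_1 D8762 (iv F14527) (iv D8761)
theorem F14531 : act 4 n8762 = n7201 := d14_1 D8762 (iv D7201) (iv D5485) F9016 (iv F11106)
def n8763 : Q := act 4 n6714
theorem D8763 : act 4 n6714 = n8763 := rfl
theorem F14532 : act 0 n8763 = n7188 := d3_1 D8763 (iv D7188) (iv F11107)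
theorem F14533 : act 2 n8763 = n7201 := d10_1 D8763 (iv F14531) F14529
theorem F14534 : act 3 n8763 = n7252 := d12_1 D8763 (iv D7252) F9095 (iv F8358) (iv F11108)
theorem F14535 : act 5 n8763 = n7179 := d14_2 D6714 D8763 (iv D7179) (iv D5464) (iv F8355)
def n8764 : Q := act 2 n6715
theorem D8764 : act 2 n6715 = n8764 := rfl
theorem F14536 : act 0 n8764 = n6717 := d1_1 D8764 (iv D6717) (iv F11109)
theorem F14537 : act 5 n8764 = n8461 := d11_2 F11110 D8764 F14062
def n8765 : Q := act 3 n6717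
theorem D8765 : act 3 n6717 = n8765 := rfl
theorem F14538 : act 1 n8765 = n8465 := d6_1 D8765 F14064 (iv F11113)
theorem F14539 : act 5 n8765 = n8462 := d13_2 (iv F11114) D8765 (iv D8462)
def n8766 : Q := act 2 n6718
theorem D8766 : act 2 n6718 = n8766 := rfl
theorem F14540 : act 4 n8766 = n6896 := d10_2 (iv F11116) D8766 (iv D6896)
def n8767 : Q := act 5 n6718
theorem D8767 : act 5 n6718 = n8767 := rfl
theorem F14541 : act 1 n8767 = n6721 := d8_1 D8767 (iv D6721) (iv F11115)
theorem F14542 : act 3 n8767 = n6719 := d13_1 D8767 (iv D6719) D6718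
def n8768 : Q := act 1 n6720
theorem D8768 : act 1 n6720 = n8768 := rfl
theorem F14543 : act 4 n8768 = n6898 := d7_2 (iv F11120) D8768 (iv D6898)
def n8769 : Q := act 4 n6721
theorem D8769 : act 4 n6721 = n8769 := rfl
theorem F14544 : act 0 n8769 = n6727 := d3_1 D8769 (iv D6727) (iv F11121)
theorem F14545 : act 2 n8769 = n7202 := d10_1 D8769 (iv F14526) F14525
theorem F14546 : act 3 n8769 = n6857 := d12_1 D8769 (iv D6857) F8522 (iv F8369) (iv F11122)
theorem F14547 : act 5 n8769 = n6901 := d14_2 D6721 D8769 (iv D6901) (iv D5236) (iv F8366)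
def n8770 : Q := act 1 n6722
theorem D8770 : act 1 n6722 = n8770 := rfl
theorem F14548 : act 4 n8770 = n6724 := d7_2 (iv F11124) D8770 (iv D6724)
def n8771 : Q := act 3 n6722
theorem D8771 : act 3 n6722 = n8771 := rfl
theorem F14549 : act 0 n8771 = n6899 := d2_1 D8771 (iv D6899) (iv F11123)
theorem F14550 : act 2 n8771 = n6906 := d9_1 D8771 F11431 F8593 F6413 (iv F6408) (iv F8587) (iv F11417) F11418 F9636 F7198 F6399 (iv D3919) (iv F6236) D5105 D6722
theorem F14551 : act 5 n8771 = n6905 := d15_8 F9636 F7198 F6399 (iv D3919) (iv F6236) D5105 D6722 D8771 F11428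
theorem F14552 : act 4 n7690 = n8771 := d14_5 F14551 F11429 (iv F9622) D5863 D7690
def n8772 : Q := act 5 n6722
theorem D8772 : act 5 n6722 = n8772 := rfl
theorem F14553 : act 0 n8772 = n6900 := d4_1 D8772 (iv D6900) (iv F11123)
theorem F14554 : act 2 n8772 = n6723 := d11_1 D8772 (iv D6723) D6722
theorem F14555 : act 3 n8772 = n6905 := d13_1 D8772 (iv F14551) (iv D8771)
theorem F14556 : act 4 n7691 = n8772 := d12_0 F14555 F11429 F9621 D5864 D7691
def n8773 : Q := act 4 n6723
theorem D8773 : act 4 n6723 = n8773 := rfl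
theorem F14557 : act 0 n8773 = n6901 := d3_1 D8773 (iv D6901) (iv F11125)
theorem F14558 : act 2 n8773 = n7691 := d10_1 D8773 F14556 F14554
theorem F14559 : act 3 n8773 = n6871 := d12_1 D8773 (iv D6871) F8542 (iv F8374) (iv F11126)
theorem F14560 : act 5 n8773 = n6727 := d14_2 D6723 D8773 (iv D6727) (iv D5108) (iv F8371)
def n8774 : Q := act 0 n6724
theorem D8774 : act 0 n6724 = n8774 := rfl
def n8775 : Q := act 3 n6724
theorem D8775 : act 3 n6724 = n8775 := rfl
theorem F14561 : act 1 n8775 = n6725 := d6_1 D8775 (iv D6725) D6724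
theorem F14562 : act 5 n7187 = n8775 := d8_0 F14561 F11128 D7187
def n8776 : Q := act 5 n6724
theorem D8776 : act 5 n6724 = n8776 := rfl
theorem F14563 : act 1 n8776 = n6726 := d8_1 D8776 (iv D6726) D6724
theorem F14564 : act 3 n8776 = n7187 := d13_1 D8776 F14562 (iv D8775)
def n8777 : Q := act 4 n6725
theorem D8777 : act 4 n6725 = n8777 := rfl
theorem F14565 : act 0 n8777 = n7201 := d3_1 D8777 (iv F14531) F14528
theorem F14566 : act 2 n8777 = n7188 := d10_1 D8777 (iv D7188) (iv F11127)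
theorem F14567 : act 3 n8777 = n7690 := d12_1 D8777 F14552 (iv D8771) F11124 D6725
theorem F14568 : act 5 n8777 = n7193 := d14_2 (iv F11128) D8777 (iv D7193) (iv D5475) (iv F9032)
def n8778 : Q := act 4 n6726
theorem D8778 : act 4 n6726 = n8778 := rfl
theorem F14569 : act 0 n8778 = n7202 := d3_1 D8778 (iv F14526) F14524
theorem F14570 : act 2 n8778 = n6727 := d10_1 D8778 (iv D6727) (iv F11129)
theorem F14571 : act 3 n8778 = n7192 := d12_1 D8778 (iv D7192) (iv D5474) (iv F9032) (iv F11130)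
theorem F14572 : act 5 n8778 = n7691 := d14_2 D6726 D8778 F14556 (iv D8772) F11124
def n8779 : Q := act 1 n6728
theorem D8779 : act 1 n6728 = n8779 := rfl
theorem F14573 : act 2 n8779 = n8335 := d5_2 D6728 D8779 (iv D8335) (iv D6390) (iv F8377)
def n8780 : Q := act 3 n6728
theorem D8780 : act 3 n6728 = n8780 := rfl
theorem F14574 : act 0 n8780 = n6732 := d2_1 D8780 (iv D6732) (iv F11132)
theorem F14575 : act 2 n8780 = n6759 := d15_2 D6728 D8780 F11179 F8412 F6264 (iv F6244) (iv F8384) (iv D5113) (iv F8376)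
theorem F14576 : act 5 n6757 = n8780 := d11_0 F14575 (iv D6759) D6757
def n8781 : Q := act 4 n6728
theorem D8781 : act 4 n6728 = n8781 := rfl
theorem F14577 : act 0 n8781 = n6733 := d3_1 D8781 (iv D6733) (iv F11132)
theorem F14578 : act 2 n8781 = n6729 := d10_1 D8781 (iv D6729) D6728
def n8782 : Q := act 5 n6728
theorem D8782 : act 5 n6728 = n8782 := rfl
theorem F14579 : act 0 n8782 = n6731 := d4_1 D8782 (iv F11140) (iv F11132)
theorem F14580 : act 2 n8782 = n6730 := d11_1 D8782 (iv D6730) D6728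
theorem F14581 : act 3 n8782 = n6757 := d13_1 D8782 F14576 (iv D8780)
def n8783 : Q := act 5 n6729
theorem D8783 : act 5 n6729 = n8783 := rfl
theorem F14582 : act 0 n8783 = n6734 := d4_1 D8783 (iv D6734) (iv F11133)
theorem F14583 : act 1 n8783 = n8338 := d8_1 D8783 (iv D8338) (iv F11134)
theorem F14584 : act 3 n8783 = n6738 := d13_1 D8783 (iv D6738) (iv F11135)
def n8784 : Q := act 4 n6730
theorem D8784 : act 4 n6730 = n8784 := rfl
theorem F14585 : act 0 n8784 = n6735 := d3_1 D8784 (iv D6735) (iv F11136)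
theorem F14586 : act 1 n8784 = n8339 := d7_1 D8784 (iv D8339) (iv F11137)
def n8785 : Q := act 3 n6731
theorem D8785 : act 3 n6731 = n8785 := rfl
theorem F14587 : act 0 n8785 = n6757 := d2_1 D8785 (iv F14581) F14579
theorem F14588 : act 1 n8785 = n6732 := d6_1 D8785 (iv D6732) D6731
theorem F14589 : act 2 n8785 = n6752 := d9_1 D8785 (iv D6752) (iv D5128) (iv D3837) (iv F6240) D5109 D6728 D8780 F14575 F11179 F8412 F6264 (iv F6244) (iv F8384) (iv F11139)
theorem F14590 : act 5 n8785 = n6732 := d13_2 F11140 D8785 (iv D6732)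
def n8786 : Q := act 4 n6731
theorem D8786 : act 4 n6731 = n8786 := rfl
theorem F14591 : act 1 n8786 = n6733 := d7_1 D8786 (iv D6733) D6731
theorem F14592 : act 2 n8786 = n6735 := d10_1 D8786 (iv D6735) (iv F11139)
def n8787 : Q := act 2 n6732
theorem D8787 : act 2 n6732 = n8787 := rfl
theorem F14593 : act 0 n8787 = n6759 := d1_1 D8787 (iv F14575) F14574
theorem F14594 : act 3 n8787 = n6753 := d9_2 D6732 D8787 F11171 F8408 (iv F8380) (iv F11138) (iv F14580) F14581 (iv D6757) (iv D5131) (iv D3839) (iv D2840) (iv F4574) D3824 D5111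
theorem F14595 : act 5 n8787 = n6752 := d11_2 F14590 D8787 (iv F14589)
def n8788 : Q := act 4 n6732
theorem D8788 : act 4 n6732 = n8788 := rfl
def n8789 : Q := act 3 n6733
theorem D8789 : act 3 n6733 = n8789 := rfl
def n8790 : Q := act 5 n6733
theorem D8790 : act 5 n6733 = n8790 := rfl
theorem F14596 : act 2 n8790 = n6734 := d11_1 D8790 (iv D6734) (iv F11141)
def n8791 : Q := act 4 n6734
theorem D8791 : act 4 n6734 = n8791 := rfl
theorem F14597 : act 1 n8791 = n6737 := d7_1 D8791 F11149 (iv F11142)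
theorem F14598 : act 5 n8791 = n6735 := d14_2 D6734 D8791 (iv D6735) (iv D5113) D5112
def n8792 : Q := act 5 n6736
theorem D8792 : act 5 n6736 = n8792 := rfl
theorem F14599 : act 0 n8792 = n8350 := d4_1 D8792 (iv D8350) (iv F11145)
theorem F14600 : act 3 n8792 = n6737 := d13_1 D8792 (iv D6737) D6736
theorem F14601 : act 4 n8792 = n6748 := d14_1 D8792 F11166 F8404 (iv F8390) (iv F11146)
def n8793 : Q := act 4 n6739
theorem D8793 : act 4 n6739 = n8793 := rfl
theorem F14602 : act 0 n8793 = n6740 := d3_1 D8793 (iv D6740) D6739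
theorem F14603 : act 1 n8793 = n7242 := d7_1 D8793 (iv D7242) (iv F11151)
theorem F14604 : act 2 n8793 = n6743 := d10_1 D8793 (iv D6743) (iv F11152)
def n8794 : Q := act 3 n6740
theorem D8794 : act 3 n6740 = n8794 := rfl
theorem F14605 : act 1 n8794 = n6741 := d6_1 D8794 (iv D6741) (iv F11155)
def n8795 : Q := act 5 n6740
theorem D8795 : act 5 n6740 = n8795 := rfl
theorem F14606 : act 1 n8795 = n6742 := d8_1 D8795 (iv D6742) (iv F11155)
theorem F14607 : act 2 n8795 = n6745 := d11_1 D8795 (iv D6745) (iv F11156)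
theorem F14608 : act 4 n8795 = n6963 := d14_1 D8795 (iv D6963) (iv D5286) (iv F8393) D6740
def n8796 : Q := act 2 n6741
theorem D8796 : act 2 n6741 = n8796 := rfl
def n8797 : Q := act 5 n6741
theorem D8797 : act 5 n6741 = n8797 := rfl
theorem F14609 : act 3 n8797 = n6742 := d13_1 D8797 (iv D6742) D6741
def n8798 : Q := act 3 n6743
theorem D8798 : act 3 n6743 = n8798 := rfl
theorem F14610 : act 0 n8798 = n6744 := d2_1 D8798 (iv D6744) (iv F11158)
theorem F14611 : act 4 n8798 = n6956 := d12_2 D6743 D8798 (iv D6956) F8680 (iv F8396)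
def n8799 : Q := act 5 n6743
theorem D8799 : act 5 n6743 = n8799 := rfl
theorem F14612 : act 0 n8799 = n6745 := d4_1 D8799 (iv D6745) (iv F11158)
theorem F14613 : act 4 n8799 = n6960 := d14_1 D8799 (iv D6960) (iv D5284) (iv F8397) D6743
def n8800 : Q := act 2 n6744
theorem D8800 : act 2 n6744 = n8800 := rfl
theorem F14614 : act 4 n8800 = n6957 := d10_2 (iv F11160) D8800 (iv D6957)
def n8801 : Q := act 5 n6744
theorem D8801 : act 5 n6744 = n8801 := rfl
theorem F14615 : act 1 n8801 = n6747 := d8_1 D8801 (iv D6747) (iv F11159)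
theorem F14616 : act 3 n8801 = n6745 := d13_1 D8801 (iv D6745) D6744
theorem F14617 : act 4 n8801 = n7785 := d14_1 D8801 F12836 F9716 (iv F8683) (iv F11160)
def n8802 : Q := act 1 n6746
theorem D8802 : act 1 n6746 = n8802 := rfl
theorem F14618 : act 4 n8802 = n6958 := d7_2 (iv F11163) D8802 (iv D6958)
def n8803 : Q := act 3 n6746
theorem D8803 : act 3 n6746 = n8803 := rfl
theorem F14619 : act 4 n8803 = n7792 := d12_2 (iv F11163) D8803 (iv D7792) (iv F11450) F11449
theorem F14620 : act 2 n8803 = n8350 := d15_2 D6746 D8803 F13879 F10572 F7910 (iv F10290) D8134 F13490 F10292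
theorem F14621 : act 5 n8803 = n8349 := d15_8 F13705 (iv D6736) F8386 F6249 (iv F6257) D5123 D6746 D8803 F13877
def n8804 : Q := act 5 n6746
theorem D8804 : act 5 n6746 = n8804 := rfl
theorem F14622 : act 2 n8804 = n6747 := d11_1 D8804 (iv D6747) D6746
theorem F14623 : act 3 n8804 = n8349 := d13_1 D8804 (iv F14621) (iv D8803)
theorem F14624 : act 4 n8804 = n6948 := d14_1 D8804 F11519 F9722 (iv F8684) (iv F11163)
def n8805 : Q := act 2 n6748
theorem D8805 : act 2 n6748 = n8805 := rfl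
theorem F14625 : act 0 n8805 = n7792 := d1_1 D8805 (iv F13486) F13485
theorem F14626 : act 3 n8805 = n6939 := d9_2 D6748 D8805 (iv D6939) (iv D5266) F6455 (iv F5655) (iv F7655) D6231 D8132 F13483 F12842 F9720 F7251 (iv F6482) (iv F8402)
theorem F14627 : act 5 n8805 = n6749 := d11_2 (iv F11166) D8805 (iv D6749)
def n8806 : Q := act 1 n6749
theorem D8806 : act 1 n6749 = n8806 := rfl
theorem F14628 : act 4 n8806 = n6750 := d7_2 (iv F11167) D8806 (iv D6750)
def n8807 : Q := act 3 n6749
theorem D8807 : act 3 n6749 = n8807 := rfl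
theorem F14629 : act 0 n8807 = n7793 := d2_1 D8807 (iv F13483) F13481
theorem F14630 : act 2 n8807 = n6938 := d9_1 D8807 (iv D6938) F8654 (iv F7657) (iv F10287) (iv F13487) F13486 (iv D7792) (iv D5939) (iv D4464) F5364 (iv F4743) (iv F6258) D5126 D6749
theorem F14631 : act 4 n8807 = n6951 := d12_2 (iv F11167) D8807 (iv F13670) F13669 F10415
theorem F14632 : act 5 n8807 = n6939 := d13_2 F14627 D8807 (iv F14626)
def n8808 : Q := act 0 n6750
theorem D8808 : act 0 n6750 = n8808 := rfl
def n8809 : Q := act 0 n6751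
theorem D8809 : act 0 n6751 = n8809 := rfl
theorem F14633 : act 1 n8809 = n6755 := d0_2 D6751 D8809 (iv D6755) (iv D5130) (iv F8405)
theorem F14634 : act 2 n8809 = n6797 := d1_2 (iv F11168) D8809 (iv D6797)
theorem F14635 : act 5 n6787 = n8809 := d11_0 F14634 (iv F11238) (iv F11224)
def n8810 : Q := act 3 n6751
theorem D8810 : act 3 n6751 = n8810 := rfl
theorem F14636 : act 1 n8810 = n6752 := d6_1 D8810 (iv D6752) D6751
def n8811 : Q := act 5 n6751
theorem D8811 : act 5 n6751 = n8811 := rfl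
theorem F14637 : act 0 n8811 = n6787 := d4_1 D8811 F14635 (iv D8809)
theorem F14638 : act 1 n8811 = n6753 := d8_1 D8811 (iv D6753) D6751
theorem F14639 : act 2 n8811 = n6800 := d11_1 D8811 (iv D6800) (iv F11168)
def n8812 : Q := act 4 n6752
theorem D8812 : act 4 n6752 = n8812 := rfl
theorem F14640 : act 0 n8812 = n6758 := d3_1 D8812 (iv D6758) (iv F11169)
def n8813 : Q := act 4 n6753
theorem D8813 : act 4 n6753 = n8813 := rfl
theorem F14641 : act 0 n8813 = n6760 := d3_1 D8813 (iv D6760) (iv F11170)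
theorem F14642 : act 2 n8813 = n6754 := d10_1 D8813 (iv D6754) (iv F11171)
def n8814 : Q := act 3 n6755
theorem D8814 : act 3 n6755 = n8814 := rfl
theorem F14643 : act 0 n8814 = n6756 := d2_1 D8814 (iv D6756) D6755
theorem F14644 : act 5 n8814 = n6788 := d13_2 (iv F11175) D8814 (iv D6788)
theorem F14645 : act 2 n8814 = n6779 := d15_2 (iv F11174) D8814 (iv D6779) (iv D5146) (iv D3852) F4606 D2854 (iv F6266) D5134
def n8815 : Q := act 2 n6756
theorem D8815 : act 2 n6756 = n8815 := rfl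
theorem F14646 : act 0 n8815 = n6779 := d1_1 D8815 (iv F14645) F14643
theorem F14647 : act 5 n8815 = n6792 := d11_2 (iv F11177) D8815 (iv D6792)
theorem F14648 : act 3 n8815 = n6775 := d15_1 D8815 (iv D6775) (iv D5144) F6281 D3857 D5153 D6788 (iv F14644) F14643
def n8816 : Q := act 4 n6756
theorem D8816 : act 4 n6756 = n8816 := rfl
theorem F14649 : act 1 n8816 = n6758 := d7_1 D8816 (iv D6758) (iv F11176)
def n8817 : Q := act 1 n6757
theorem D8817 : act 1 n6757 = n8817 := rfl
def n8818 : Q := act 4 n6757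
theorem D8818 : act 4 n6757 = n8818 := rfl
theorem F14650 : act 2 n8818 = n6758 := d10_1 D8818 (iv D6758) D6757
def n8819 : Q := act 5 n6758
theorem D8819 : act 5 n6758 = n8819 := rfl
def n8820 : Q := act 4 n6759
theorem D8820 : act 4 n6759 = n8820 := rfl
theorem F14651 : act 1 n8820 = n6793 := d7_1 D8820 (iv D6793) (iv F11178)
def n8821 : Q := act 3 n6760
theorem D8821 : act 3 n6760 = n8821 := rfl
theorem F14652 : act 1 n8821 = n6794 := d6_1 D8821 (iv D6794) (iv F11180)
def n8822 : Q := act 2 n6761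
theorem D8822 : act 2 n6761 = n8822 := rfl
theorem F14653 : act 0 n8822 = n8766 := d1_1 D8822 (iv D8766) (iv F11182)
def n8823 : Q := act 5 n6761
theorem D8823 : act 5 n6761 = n8823 := rfl
theorem F14654 : act 0 n8823 = n8767 := d4_1 D8823 (iv D8767) (iv F11182)
theorem F14655 : act 1 n8823 = n6766 := d8_1 D8823 (iv D6766) (iv F11183)
theorem F14656 : act 3 n8823 = n6762 := d13_1 D8823 (iv D6762) D6761
def n8824 : Q := act 2 n6763
theorem D8824 : act 2 n6763 = n8824 := rfl
theorem F14657 : act 0 n8824 = n6769 := d1_1 D8824 (iv D6769) (iv F11187)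
theorem F14658 : act 4 n8824 = n6765 := d10_2 (iv F11188) D8824 (iv D6765)
def n8825 : Q := act 5 n6763
theorem D8825 : act 5 n6763 = n8825 := rfl
theorem F14659 : act 0 n8825 = n6770 := d4_1 D8825 (iv D6770) (iv F11187)
theorem F14660 : act 3 n8825 = n6764 := d13_1 D8825 (iv D6764) D6763
def n8826 : Q := act 1 n6765
theorem D8826 : act 1 n6765 = n8826 := rfl
def n8827 : Q := act 4 n6766
theorem D8827 : act 4 n6766 = n8827 := rfl
theorem F14661 : act 0 n8827 = n6774 := d3_1 D8827 (iv D6774) (iv F11191)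
def n8828 : Q := act 2 n6767
theorem D8828 : act 2 n6767 = n8828 := rfl
def n8829 : Q := act 5 n6767
theorem D8829 : act 5 n6767 = n8829 := rfl
theorem F14662 : act 3 n8829 = n6768 := d13_1 D8829 (iv D6768) D6767
def n8830 : Q := act 1 n6769
theorem D8830 : act 1 n6769 = n8830 := rfl
theorem F14663 : act 2 n8830 = n8770 := d5_2 D6769 D8830 (iv D8770) (iv D6722) (iv F8425)
theorem F14664 : act 4 n8830 = n6771 := d7_2 (iv F11194) D8830 (iv D6771)
def n8831 : Q := act 3 n6769
theorem D8831 : act 3 n6769 = n8831 := rfl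
def n8832 : Q := act 5 n6769
theorem D8832 : act 5 n6769 = n8832 := rfl
theorem F14665 : act 2 n8832 = n6770 := d11_1 D8832 (iv D6770) D6769
def n8833 : Q := act 4 n6770
theorem D8833 : act 4 n6770 = n8833 := rfl
theorem F14666 : act 1 n8833 = n8773 := d7_1 D8833 (iv D8773) (iv F11195)
theorem F14667 : act 5 n8833 = n6774 := d14_2 D6770 D8833 (iv D6774) (iv D5143) (iv F8426)
def n8834 : Q := act 0 n6771
theorem D8834 : act 0 n6771 = n8834 := rfl
theorem F14668 : act 2 n8834 = n8774 := d1_2 (iv F11197) D8834 (iv D8774)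
def n8835 : Q := act 3 n6771
theorem D8835 : act 3 n6771 = n8835 := rfl
theorem F14669 : act 1 n8835 = n6772 := d6_1 D8835 (iv D6772) D6771
def n8836 : Q := act 5 n6771
theorem D8836 : act 5 n6771 = n8836 := rfl
theorem F14670 : act 1 n8836 = n6773 := d8_1 D8836 (iv D6773) D6771
theorem F14671 : act 2 n8836 = n8776 := d11_1 D8836 (iv D8776) (iv F11197)
def n8837 : Q := act 4 n6772
theorem D8837 : act 4 n6772 = n8837 := rfl
def n8838 : Q := act 4 n6773
theorem D8838 : act 4 n6773 = n8838 := rfl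
theorem F14672 : act 2 n8838 = n6774 := d10_1 D8838 (iv D6774) (iv F11198)
def n8839 : Q := act 1 n6775
theorem D8839 : act 1 n6775 = n8839 := rfl
theorem F14673 : act 2 n8839 = n8233 := d5_2 D6775 D8839 (iv D8233) (iv D6310) (iv F8431)
def n8840 : Q := act 4 n6775
theorem D8840 : act 4 n6775 = n8840 := rfl
theorem F14674 : act 0 n8840 = n6780 := d3_1 D8840 (iv D6780) (iv F11200)
theorem F14675 : act 2 n8840 = n6776 := d10_1 D8840 (iv D6776) D6775
def n8841 : Q := act 5 n6775
theorem D8841 : act 5 n6775 = n8841 := rfl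
theorem F14676 : act 0 n8841 = n6778 := d4_1 D8841 (iv F11208) (iv F11200)
theorem F14677 : act 2 n8841 = n6777 := d11_1 D8841 (iv D6777) D6775
theorem F14678 : act 3 n8841 = n6792 := d13_1 D8841 (iv F14647) F14648
def n8842 : Q := act 5 n6776
theorem D8842 : act 5 n6776 = n8842 := rfl
theorem F14679 : act 0 n8842 = n6781 := d4_1 D8842 (iv D6781) (iv F11201)
theorem F14680 : act 1 n8842 = n7468 := d8_1 D8842 (iv D7468) (iv F11202)
theorem F14681 : act 3 n8842 = n7466 := d13_1 D8842 (iv D7466) (iv F11203)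
def n8843 : Q := act 4 n6777
theorem D8843 : act 4 n6777 = n8843 := rfl
theorem F14682 : act 0 n8843 = n6782 := d3_1 D8843 (iv D6782) (iv F11204)
theorem F14683 : act 1 n8843 = n8236 := d7_1 D8843 (iv D8236) (iv F11205)
theorem F14684 : act 3 n8843 = n8539 := d12_1 D8843 (iv D8539) F10840 (iv F8435) (iv F11206)
def n8844 : Q := act 3 n6778
theorem D8844 : act 3 n6778 = n8844 := rfl
theorem F14685 : act 0 n8844 = n6792 := d2_1 D8844 (iv F14678) F14676
theorem F14686 : act 1 n8844 = n6779 := d6_1 D8844 (iv D6779) D6778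
theorem F14687 : act 2 n8844 = n6788 := d9_1 D8844 (iv D6788) (iv D5153) (iv D3857) (iv F6281) D5144 D6775 (iv F14648) (iv D8815) (iv D6756) F8409 F6265 (iv F6285) (iv F8439) (iv F11207)
theorem F14688 : act 5 n8844 = n6779 := d13_2 F11208 D8844 (iv D6779)
def n8845 : Q := act 4 n6778
theorem D8845 : act 4 n6778 = n8845 := rfl
theorem F14689 : act 1 n8845 = n6780 := d7_1 D8845 (iv D6780) D6778
theorem F14690 : act 2 n8845 = n6782 := d10_1 D8845 (iv D6782) (iv F11207)
def n8846 : Q := act 4 n6779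
theorem D8846 : act 4 n6779 = n8846 := rfl
def n8847 : Q := act 3 n6780
theorem D8847 : act 3 n6780 = n8847 := rfl
def n8848 : Q := act 5 n6780
theorem D8848 : act 5 n6780 = n8848 := rfl
theorem F14691 : act 2 n8848 = n6781 := d11_1 D8848 (iv D6781) (iv F11209)
def n8849 : Q := act 4 n6781
theorem D8849 : act 4 n6781 = n8849 := rfl
theorem F14692 : act 1 n8849 = n6785 := d7_1 D8849 F11220 (iv F11210)
theorem F14693 : act 5 n8849 = n6782 := d14_2 D6781 D8849 (iv D6782) (iv D5148) D5147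
def n8850 : Q := act 3 n6782
theorem D8850 : act 3 n6782 = n8850 := rfl
theorem F14694 : act 0 n8850 = n8539 := d2_1 D8850 (iv F14684) F14682
theorem F14695 : act 1 n8850 = n6784 := d6_1 D8850 (iv D6784) (iv F11212)
theorem F14696 : act 4 n8850 = n6783 := d12_2 D6782 D8850 (iv D6783) (iv D5149) (iv F8439)
def n8851 : Q := act 2 n6783
theorem D8851 : act 2 n6783 = n8851 := rfl
theorem F14697 : act 0 n8851 = n8538 := d1_1 D8851 F14183 (iv F11213)
theorem F14698 : act 5 n8851 = n8231 := d11_2 (iv F11215) D8851 (iv D8231)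
def n8852 : Q := act 2 n6784
theorem D8852 : act 2 n6784 = n8852 := rfl
theorem F14699 : act 0 n8852 = n8244 := d1_1 D8852 (iv D8244) (iv F11216)
theorem F14700 : act 3 n8852 = n8251 := d9_2 D6784 D8852 F13691 F10425 F7770 (iv F7760) (iv F10412) (iv F13675) F13674 (iv D6953) (iv D5277) (iv D3956) (iv F5727) (iv F6290) (iv F8445)
theorem F14701 : act 4 n8852 = n6786 := d10_2 (iv F11217) D8852 (iv D6786)
theorem F14702 : act 5 n8852 = n8250 := d11_2 F11523 D8852 F13688
def n8853 : Q := act 1 n6786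
theorem D8853 : act 1 n6786 = n8853 := rfl
theorem F14703 : act 3 n8853 = n8260 := d6_2 (iv F11222) D8853 (iv D8260)
theorem F14704 : act 5 n8853 = n8232 := d8_2 (iv F11223) D8853 (iv D8232)
def n8854 : Q := act 3 n6787
theorem D8854 : act 3 n6787 = n8854 := rfl
theorem F14705 : act 1 n8854 = n6788 := d6_1 D8854 (iv D6788) D6787
def n8855 : Q := act 4 n6787
theorem D8855 : act 4 n6787 = n8855 := rfl
theorem F14706 : act 1 n8855 = n6789 := d7_1 D8855 (iv D6789) D6787
theorem F14707 : act 2 n8855 = n8288 := d10_1 D8855 (iv D8288) (iv F11224)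
def n8856 : Q := act 4 n6788
theorem D8856 : act 4 n6788 = n8856 := rfl
theorem F14708 : act 0 n8856 = n6793 := d3_1 D8856 (iv D6793) (iv F11225)
def n8857 : Q := act 3 n6789
theorem D8857 : act 3 n6789 = n8857 := rfl
theorem F14709 : act 0 n8857 = n6794 := d2_1 D8857 (iv D6794) (iv F11226)
def n8858 : Q := act 5 n6789
theorem D8858 : act 5 n6789 = n8858 := rfl
theorem F14710 : act 0 n8858 = n6795 := d4_1 D8858 (iv D6795) (iv F11226)
theorem F14711 : act 2 n8858 = n6790 := d11_1 D8858 (iv D6790) (iv F11227)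
def n8859 : Q := act 2 n6791
theorem D8859 : act 2 n6791 = n8859 := rfl
theorem F14712 : act 0 n8859 = n6796 := d1_1 D8859 (iv D6796) (iv F11231)
theorem F14713 : act 5 n8859 = n8283 := d11_2 (iv F11233) D8859 (iv D8283)
def n8860 : Q := act 1 n6792
theorem D8860 : act 1 n6792 = n8860 := rfl
def n8861 : Q := act 4 n6792
theorem D8861 : act 4 n6792 = n8861 := rfl
theorem F14714 : act 2 n8861 = n6793 := d10_1 D8861 (iv D6793) D6792
def n8862 : Q := act 3 n6793
theorem D8862 : act 3 n6793 = n8862 := rfl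
theorem F14715 : act 4 n8862 = n6794 := d12_2 D6793 D8862 (iv D6794) (iv D5157) D5156
def n8863 : Q := act 5 n6793
theorem D8863 : act 5 n6793 = n8863 := rfl
def n8864 : Q := act 2 n6794
theorem D8864 : act 2 n6794 = n8864 := rfl
def n8865 : Q := act 5 n6794
theorem D8865 : act 5 n6794 = n8865 := rfl
theorem F14716 : act 3 n8865 = n6795 := d13_1 D8865 (iv D6795) D6794
def n8866 : Q := act 3 n6796
theorem D8866 : act 3 n6796 = n8866 := rfl
theorem F14717 : act 5 n8866 = n8285 := d13_2 (iv F11235) D8866 (iv D8285)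
theorem F14718 : act 2 n8866 = n8537 := d15_2 D6796 D8866 (iv D8537) (iv D6547) (iv D4961) (iv F7825) D6351 (iv F11233) F11231
def n8867 : Q := act 4 n6797
theorem D8867 : act 4 n6797 = n8867 := rfl
theorem F14719 : act 0 n8867 = n6799 := d3_1 D8867 (iv D6799) D6797
theorem F14720 : act 1 n8867 = n6808 := d7_1 D8867 (iv D6808) (iv F11236)
def n8868 : Q := act 4 n6798
theorem D8868 : act 4 n6798 = n8868 := rfl
theorem F14721 : act 0 n8868 = n8379 := d3_1 D8868 (iv D8379) (iv F11239)
theorem F14722 : act 1 n8868 = n6801 := d7_1 D8868 (iv D6801) (iv F11240)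
theorem F14723 : act 2 n8868 = n8379 := d10_1 D8868 (iv D8379) F11241
def n8869 : Q := act 3 n6799
theorem D8869 : act 3 n6799 = n8869 := rfl
theorem F14724 : act 1 n8869 = n6802 := d6_1 D8869 (iv D6802) (iv F11242)
def n8870 : Q := act 5 n6799
theorem D8870 : act 5 n6799 = n8870 := rfl
theorem F14725 : act 1 n8870 = n6803 := d8_1 D8870 (iv D6803) (iv F11242)
def n8871 : Q := act 4 n6800
theorem D8871 : act 4 n6800 = n8871 := rfl
theorem F14726 : act 0 n8871 = n8288 := d3_1 D8871 (iv D8288) (iv F11243)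
theorem F14727 : act 1 n8871 = n6804 := d7_1 D8871 (iv D6804) (iv F11244)
def n8872 : Q := act 3 n6801
theorem D8872 : act 3 n6801 = n8872 := rfl
theorem F14728 : act 0 n8872 = n6814 := d2_1 D8872 (iv D6814) (iv F11245)
theorem F14729 : act 4 n8872 = n6802 := d12_2 D6801 D8872 (iv D6802) (iv D5162) D5161
def n8873 : Q := act 5 n6801
theorem D8873 : act 5 n6801 = n8873 := rfl
theorem F14730 : act 0 n8873 = n6815 := d4_1 D8873 (iv D6815) (iv F11245)
theorem F14731 : act 2 n8873 = n8377 := d11_1 D8873 (iv D8377) (iv F11246)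
def n8874 : Q := act 2 n6802
theorem D8874 : act 2 n6802 = n8874 := rfl
theorem F14732 : act 0 n8874 = n6817 := d1_1 D8874 (iv D6817) (iv F11247)
theorem F14733 : act 3 n8874 = n6844 := d15_1 D8874 F11308 F8510 F6338 (iv F6319) (iv F8487) (iv F11274) (iv D6818) (iv F11247)
theorem F14734 : act 5 n6843 = n8874 := d13_0 F14733 (iv D6844) D6843
def n8875 : Q := act 5 n6802
theorem D8875 : act 5 n6802 = n8875 := rfl
theorem F14735 : act 0 n8875 = n6818 := d4_1 D8875 (iv D6818) (iv F11247)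
theorem F14736 : act 2 n8875 = n6843 := d11_1 D8875 F14734 (iv D8874)
theorem F14737 : act 3 n8875 = n6803 := d13_1 D8875 (iv D6803) D6802
def n8876 : Q := act 4 n6803
theorem D8876 : act 4 n6803 = n8876 := rfl
theorem F14738 : act 0 n8876 = n6819 := d3_1 D8876 (iv D6819) (iv F11248)
theorem F14739 : act 2 n8876 = n6805 := d10_1 D8876 (iv D6805) (iv F11249)
theorem F14740 : act 5 n8876 = n6804 := d14_2 D6803 D8876 (iv D6804) (iv D5163) D5162
def n8877 : Q := act 3 n6804
theorem D8877 : act 3 n6804 = n8877 := rfl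
theorem F14741 : act 0 n8877 = n6820 := d2_1 D8877 (iv D6820) (iv F11250)
def n8878 : Q := act 2 n6806
theorem D8878 : act 2 n6806 = n8878 := rfl
theorem F14742 : act 0 n8878 = n6821 := d1_1 D8878 (iv D6821) (iv F11254)
theorem F14743 : act 4 n8878 = n6807 := d10_2 (iv F11255) D8878 (iv D6807)
def n8879 : Q := act 1 n6807
theorem D8879 : act 1 n6807 = n8879 := rfl
theorem F14744 : act 5 n8879 = n6835 := d8_2 (iv F11257) D8879 (iv D6835)
def n8880 : Q := act 3 n6808
theorem D8880 : act 3 n6808 = n8880 := rfl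
theorem F14745 : act 0 n8880 = n6810 := d2_1 D8880 (iv D6810) (iv F11258)
theorem F14746 : act 4 n8880 = n8380 := d12_2 D6808 D8880 (iv D8380) (iv D6427) F8476
def n8881 : Q := act 5 n6808
theorem D8881 : act 5 n6808 = n8881 := rfl
theorem F14747 : act 0 n8881 = n6811 := d4_1 D8881 (iv D6811) (iv F11258)
theorem F14748 : act 2 n8881 = n6825 := d11_1 D8881 (iv D6825) (iv F11259)
theorem F14749 : act 4 n8881 = n8291 := d14_1 D8881 (iv D8291) (iv D6356) (iv F8475) D6808
def n8882 : Q := act 3 n6809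
theorem D8882 : act 3 n6809 = n8882 := rfl
theorem F14750 : act 0 n8882 = n8380 := d2_1 D8882 (iv D8380) (iv F11260)
theorem F14751 : act 1 n8882 = n6814 := d6_1 D8882 (iv D6814) (iv F11261)
theorem F14752 : act 4 n8882 = n6810 := d12_2 D6809 D8882 (iv D6810) (iv D5169) D5168
def n8883 : Q := act 5 n6809
theorem D8883 : act 5 n6809 = n8883 := rfl
theorem F14753 : act 0 n8883 = n8381 := d4_1 D8883 (iv D8381) (iv F11260)
theorem F14754 : act 1 n8883 = n6815 := d8_1 D8883 (iv D6815) (iv F11261)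
theorem F14755 : act 2 n8883 = n8371 := d11_1 D8883 (iv D8371) (iv F11262)
theorem F14756 : act 4 n8883 = n8296 := d14_1 D8883 (iv D8296) (iv D6360) (iv F8479) D6809
def n8884 : Q := act 2 n6810
theorem D8884 : act 2 n6810 = n8884 := rfl
def n8885 : Q := act 5 n6810
theorem D8885 : act 5 n6810 = n8885 := rfl
theorem F14757 : act 1 n8885 = n6818 := d8_1 D8885 (iv D6818) (iv F11263)
theorem F14758 : act 3 n8885 = n6811 := d13_1 D8885 (iv D6811) D6810
def n8886 : Q := act 4 n6812
theorem D8886 : act 4 n6812 = n8886 := rfl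
theorem F14759 : act 0 n8886 = n8366 := d3_1 D8886 (iv D8366) (iv F11267)
theorem F14760 : act 1 n8886 = n6813 := d7_1 D8886 (iv D6813) D6812
theorem F14761 : act 2 n8886 = n8366 := d10_1 D8886 (iv D8366) (iv F11268)
def n8887 : Q := act 3 n6813
theorem D8887 : act 3 n6813 = n8887 := rfl
theorem F14762 : act 0 n8887 = n8376 := d2_1 D8887 (iv D8376) (iv F11270)
theorem F14763 : act 4 n8887 = n8375 := d12_2 D6813 D8887 (iv D8375) (iv D6423) (iv F8484)
def n8888 : Q := act 5 n6813
theorem D8888 : act 5 n6813 = n8888 := rfl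
theorem F14764 : act 0 n8888 = n8377 := d4_1 D8888 (iv D8377) (iv F11270)
theorem F14765 : act 2 n8888 = n6815 := d11_1 D8888 (iv D6815) (iv F11271)
def n8889 : Q := act 2 n6814
theorem D8889 : act 2 n6814 = n8889 := rfl
theorem F14766 : act 4 n8889 = n6817 := d10_2 (iv F11272) D8889 (iv D6817)
def n8890 : Q := act 5 n6814
theorem D8890 : act 5 n6814 = n8890 := rfl
theorem F14767 : act 3 n8890 = n6815 := d13_1 D8890 (iv D6815) D6814
def n8891 : Q := act 4 n6815
theorem D8891 : act 4 n6815 = n8891 := rfl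
theorem F14768 : act 1 n8891 = n8296 := d7_1 D8891 (iv F14756) F14754
theorem F14769 : act 5 n8891 = n6816 := d14_2 D6815 D8891 (iv D6816) (iv D5172) D5171
def n8892 : Q := act 3 n6816
theorem D8892 : act 3 n6816 = n8892 := rfl
theorem F14770 : act 1 n8892 = n8295 := d6_1 D8892 (iv D8295) (iv F11273)
theorem F14771 : act 4 n8892 = n6820 := d12_2 D6816 D8892 (iv D6820) (iv D5175) (iv F8486)
def n8893 : Q := act 1 n6817
theorem D8893 : act 1 n6817 = n8893 := rfl
def n8894 : Q := act 3 n6817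
theorem D8894 : act 3 n6817 = n8894 := rfl
theorem F14772 : act 0 n8894 = n6844 := d2_1 D8894 (iv F14733) F14732
theorem F14773 : act 2 n8894 = n6834 := d9_1 D8894 F11300 F8506 (iv F8470) (iv F11249) (iv F14737) F14736 (iv D6843) (iv D5193) (iv D3889) F4641 (iv F4627) (iv F6315) D5173 D6817
theorem F14774 : act 5 n8894 = n6833 := d15_8 (iv D5193) (iv D3889) F4641 (iv F4627) (iv F6315) D5173 D6817 D8894 F11298
def n8895 : Q := act 5 n6817
theorem D8895 : act 5 n6817 = n8895 := rfl
theorem F14775 : act 0 n8895 = n6843 := d4_1 D8895 F14734 F14732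
theorem F14776 : act 2 n8895 = n6818 := d11_1 D8895 (iv D6818) D6817
theorem F14777 : act 3 n8895 = n6833 := d13_1 D8895 (iv F14774) (iv D8894)
def n8896 : Q := act 4 n6818
theorem D8896 : act 4 n6818 = n8896 := rfl
def n8897 : Q := act 3 n6819
theorem D8897 : act 3 n6819 = n8897 := rfl
theorem F14778 : act 1 n8897 = n8298 := d6_1 D8897 F13777 (iv F11275)
theorem F14779 : act 5 n8897 = n6820 := d13_2 (iv F11277) D8897 (iv D6820)
def n8898 : Q := act 2 n6820
theorem D8898 : act 2 n6820 = n8898 := rfl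
def n8899 : Q := act 3 n6821
theorem D8899 : act 3 n6821 = n8899 := rfl
def n8900 : Q := act 0 n6822
theorem D8900 : act 0 n6822 = n8900 := rfl
theorem F14780 : act 2 n8900 = n6827 := d1_2 (iv F11280) D8900 (iv D6827)
theorem F14781 : act 5 n8900 = n6846 := d4_2 (iv F11281) D8900 (iv D6846)
def n8901 : Q := act 3 n6822
theorem D8901 : act 3 n6822 = n8901 := rfl
theorem F14782 : act 1 n8901 = n6823 := d6_1 D8901 (iv D6823) D6822
theorem F14783 : act 5 n8901 = n6847 := d13_2 (iv F11281) D8901 (iv D6847)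
def n8902 : Q := act 4 n6823
theorem D8902 : act 4 n6823 = n8902 := rfl
def n8903 : Q := act 2 n6824
theorem D8903 : act 2 n6824 = n8903 := rfl
theorem F14784 : act 0 n8903 = n6826 := d1_1 D8903 (iv D6826) (iv F11283)
theorem F14785 : act 4 n8903 = n8292 := d10_2 (iv F11284) D8903 (iv D8292)
def n8904 : Q := act 3 n6826
theorem D8904 : act 3 n6826 = n8904 := rfl
theorem F14786 : act 4 n8904 = n8320 := d12_2 (iv F11287) D8904 (iv D8320) F13783 (iv D8300)
def n8905 : Q := act 3 n6828
theorem D8905 : act 3 n6828 = n8905 := rfl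
theorem F14787 : act 1 n8905 = n6831 := d6_1 D8905 (iv D6831) (iv F11289)
theorem F14788 : act 4 n8905 = n6829 := d12_2 D6828 D8905 (iv D6829) (iv D5184) D5183
def n8906 : Q := act 5 n6828
theorem D8906 : act 5 n6828 = n8906 := rfl
theorem F14789 : act 1 n8906 = n6832 := d8_1 D8906 (iv D6832) (iv F11289)
def n8907 : Q := act 2 n6829
theorem D8907 : act 2 n6829 = n8907 := rfl
def n8908 : Q := act 5 n6829
theorem D8908 : act 5 n6829 = n8908 := rfl
theorem F14790 : act 0 n8908 = n8695 := d4_1 D8908 F14403 F14293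
theorem F14791 : act 1 n8908 = n6834 := d8_1 D8908 (iv D6834) (iv F11290)
theorem F14792 : act 3 n8908 = n6830 := d13_1 D8908 (iv D6830) D6829
def n8909 : Q := act 2 n6831
theorem D8909 : act 2 n6831 = n8909 := rfl
theorem F14793 : act 0 n8909 = n6840 := d1_1 D8909 (iv D6840) (iv F11295)
theorem F14794 : act 4 n8909 = n6833 := d10_2 (iv F11296) D8909 (iv D6833)
def n8910 : Q := act 5 n6831
theorem D8910 : act 5 n6831 = n8910 := rfl
theorem F14795 : act 0 n8910 = n6841 := d4_1 D8910 (iv D6841) (iv F11295)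
theorem F14796 : act 3 n8910 = n6832 := d13_1 D8910 (iv D6832) D6831
def n8911 : Q := act 1 n6833
theorem D8911 : act 1 n6833 = n8911 := rfl
def n8912 : Q := act 4 n6834
theorem D8912 : act 4 n6834 = n8912 := rfl
theorem F14797 : act 0 n8912 = n6845 := d3_1 D8912 (iv D6845) (iv F11299)
def n8913 : Q := act 0 n6835
theorem D8913 : act 0 n6835 = n8913 := rfl
theorem F14798 : act 1 n8913 = n6846 := d0_2 D6835 D8913 (iv D6846) (iv D5195) (iv F8507)
def n8914 : Q := act 3 n6835
theorem D8914 : act 3 n6835 = n8914 := rfl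
theorem F14799 : act 1 n8914 = n6836 := d6_1 D8914 (iv D6836) D6835
def n8915 : Q := act 4 n6836
theorem D8915 : act 4 n6836 = n8915 := rfl
theorem F14800 : act 0 n8915 = n6849 := d3_1 D8915 (iv D6849) (iv F11301)
def n8916 : Q := act 3 n6837
theorem D8916 : act 3 n6837 = n8916 := rfl
theorem F14801 : act 0 n8916 = n8608 := d2_1 D8916 F14260 F12686
theorem F14802 : act 1 n8916 = n6838 := d6_1 D8916 (iv D6838) (iv F11302)
theorem F14803 : act 4 n8916 = n8605 := d12_2 D6837 D8916 (iv D8605) F10894 (iv F9609)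
def n8917 : Q := act 5 n6837
theorem D8917 : act 5 n6837 = n8917 := rfl
theorem F14804 : act 1 n8917 = n6839 := d8_1 D8917 (iv D6839) (iv F11302)
def n8918 : Q := act 2 n6838
theorem D8918 : act 2 n6838 = n8918 := rfl
theorem F14805 : act 0 n8918 = n8616 := d1_1 D8918 F14274 (iv F11303)
theorem F14806 : act 4 n8918 = n8612 := d10_2 (iv F11304) D8918 (iv D8612)
def n8919 : Q := act 5 n6838
theorem D8919 : act 5 n6838 = n8919 := rfl
theorem F14807 : act 0 n8919 = n8618 := d4_1 D8919 (iv D8618) (iv F11303)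
theorem F14808 : act 3 n8919 = n6839 := d13_1 D8919 (iv D6839) D6838
def n8920 : Q := act 1 n6840
theorem D8920 : act 1 n6840 = n8920 := rfl
theorem F14809 : act 4 n8920 = n6842 := d7_2 (iv F11306) D8920 (iv D6842)
def n8921 : Q := act 3 n6840
theorem D8921 : act 3 n6840 = n8921 := rfl
def n8922 : Q := act 5 n6840
theorem D8922 : act 5 n6840 = n8922 := rfl
theorem F14810 : act 2 n8922 = n6841 := d11_1 D8922 (iv D6841) D6840
def n8923 : Q := act 4 n6841
theorem D8923 : act 4 n6841 = n8923 := rfl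
theorem F14811 : act 5 n8923 = n6845 := d14_2 D6841 D8923 (iv D6845) (iv D5194) (iv F8509)
def n8924 : Q := act 0 n6842
theorem D8924 : act 0 n6842 = n8924 := rfl
def n8925 : Q := act 3 n6842
theorem D8925 : act 3 n6842 = n8925 := rfl
theorem F14812 : act 1 n8925 = n6843 := d6_1 D8925 (iv D6843) D6842
def n8926 : Q := act 5 n6842
theorem D8926 : act 5 n6842 = n8926 := rfl
theorem F14813 : act 1 n8926 = n6844 := d8_1 D8926 (iv D6844) D6842
def n8927 : Q := act 4 n6843
theorem D8927 : act 4 n6843 = n8927 := rfl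
def n8928 : Q := act 4 n6844
theorem D8928 : act 4 n6844 = n8928 := rfl
theorem F14814 : act 2 n8928 = n6845 := d10_1 D8928 (iv D6845) (iv F11308)
def n8929 : Q := act 3 n6846
theorem D8929 : act 3 n6846 = n8929 := rfl
theorem F14815 : act 0 n8929 = n6847 := d2_1 D8929 (iv D6847) D6846
def n8930 : Q := act 2 n6847
theorem D8930 : act 2 n6847 = n8930 := rfl
def n8931 : Q := act 4 n6847
theorem D8931 : act 4 n6847 = n8931 := rfl
theorem F14816 : act 1 n8931 = n6849 := d7_1 D8931 (iv D6849) (iv F11310)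
def n8932 : Q := act 1 n6848
theorem D8932 : act 1 n6848 = n8932 := rfl
def n8933 : Q := act 4 n6848
theorem D8933 : act 4 n6848 = n8933 := rfl
theorem F14817 : act 2 n8933 = n6849 := d10_1 D8933 (iv D6849) D6848
def n8934 : Q := act 5 n6849
theorem D8934 : act 5 n6849 = n8934 := rfl
def n8935 : Q := act 2 n6850
theorem D8935 : act 2 n6850 = n8935 := rfl
theorem F14818 : act 0 n8935 = n6851 := d1_1 D8935 (iv D6851) (iv F11311)
def n8936 : Q := act 3 n6851
theorem D8936 : act 3 n6851 = n8936 := rfl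
theorem F14819 : act 1 n8936 = n8866 := d6_1 D8936 (iv D8866) (iv F11312)
def n8937 : Q := act 2 n6852
theorem D8937 : act 2 n6852 = n8937 := rfl
theorem F14820 : act 0 n8937 = n6854 := d1_1 D8937 (iv D6854) (iv F11313)
theorem F14821 : act 4 n8937 = n8210 := d10_2 (iv F11315) D8937 (iv D8210)
def n8938 : Q := act 5 n6852
theorem D8938 : act 5 n6852 = n8938 := rfl
theorem F14822 : act 0 n8938 = n6855 := d4_1 D8938 (iv D6855) (iv F11313)
theorem F14823 : act 1 n8938 = n6861 := d8_1 D8938 (iv D6861) (iv F11314)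
theorem F14824 : act 3 n8938 = n6853 := d13_1 D8938 (iv D6853) D6852
def n8939 : Q := act 1 n6854
theorem D8939 : act 1 n6854 = n8939 := rfl
theorem F14825 : act 2 n8939 = n6856 := d5_2 D6854 D8939 (iv D6856) (iv D5202) (iv F8516)
theorem F14826 : act 4 n8939 = n8212 := d7_2 (iv F11320) D8939 (iv D8212)
def n8940 : Q := act 3 n6854
theorem D8940 : act 3 n6854 = n8940 := rfl
def n8941 : Q := act 5 n6854
theorem D8941 : act 5 n6854 = n8941 := rfl
theorem F14827 : act 2 n8941 = n6855 := d11_1 D8941 (iv D6855) D6854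
def n8942 : Q := act 4 n6855
theorem D8942 : act 4 n6855 = n8942 := rfl
theorem F14828 : act 1 n8942 = n6857 := d7_1 D8942 (iv D6857) (iv F11321)
theorem F14829 : act 5 n8942 = n8215 := d14_2 D6855 D8942 (iv D8215) (iv D6295) (iv F8517)
def n8943 : Q := act 0 n6856
theorem D8943 : act 0 n6856 = n8943 := rfl
theorem F14830 : act 1 n8943 = n6872 := d0_2 D6856 D8943 (iv D6872) (iv D5214) (iv F8519)
theorem F14831 : act 4 n8943 = n8216 := d3_2 (iv F11323) D8943 (iv D8216)
def n8944 : Q := act 2 n6858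
theorem D8944 : act 2 n6858 = n8944 := rfl
theorem F14832 : act 0 n8944 = n6864 := d1_1 D8944 (iv D6864) (iv F11327)
theorem F14833 : act 4 n8944 = n6860 := d10_2 (iv F11329) D8944 (iv D6860)
def n8945 : Q := act 5 n6858
theorem D8945 : act 5 n6858 = n8945 := rfl
theorem F14834 : act 0 n8945 = n6865 := d4_1 D8945 (iv D6865) (iv F11327)
theorem F14835 : act 1 n8945 = n8211 := d8_1 D8945 (iv D8211) (iv F11328)
theorem F14836 : act 3 n8945 = n6859 := d13_1 D8945 (iv D6859) D6858
def n8946 : Q := act 1 n6860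
theorem D8946 : act 1 n6860 = n8946 := rfl
def n8947 : Q := act 3 n6860
theorem D8947 : act 3 n6860 = n8947 := rfl
theorem F14837 : act 0 n8947 = n6867 := d2_1 D8947 (iv D6867) (iv F11334)
theorem F14838 : act 2 n8947 = n6884 := d15_2 D6860 D8947 F11377 F8554 F6377 (iv F6362) (iv F8538) (iv D5211) (iv F8526)
theorem F14839 : act 5 n6882 = n8947 := d11_0 F14838 (iv D6884) D6882
def n8948 : Q := act 5 n6860
theorem D8948 : act 5 n6860 = n8948 := rfl
theorem F14840 : act 0 n8948 = n6868 := d4_1 D8948 (iv D6868) (iv F11334)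
theorem F14841 : act 2 n8948 = n6861 := d11_1 D8948 (iv D6861) D6860
theorem F14842 : act 3 n8948 = n6882 := d13_1 D8948 F14839 (iv D8947)
def n8949 : Q := act 4 n6861
theorem D8949 : act 4 n6861 = n8949 := rfl
theorem F14843 : act 0 n8949 = n6869 := d3_1 D8949 (iv D6869) (iv F11335)
theorem F14844 : act 3 n8949 = n8827 := d12_1 D8949 (iv D8827) F11192 (iv F8529) (iv F11336)
def n8950 : Q := act 2 n6862
theorem D8950 : act 2 n6862 = n8950 := rfl
theorem F14845 : act 0 n8950 = n8149 := d1_1 D8950 (iv D8149) (iv F11337)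
theorem F14846 : act 4 n8950 = n8147 := d10_2 (iv F11339) D8950 (iv D8147)
def n8951 : Q := act 5 n6862
theorem D8951 : act 5 n6862 = n8951 := rfl
theorem F14847 : act 0 n8951 = n8150 := d4_1 D8951 (iv D8150) (iv F11337)
theorem F14848 : act 1 n8951 = n8148 := d8_1 D8951 (iv D8148) (iv F11338)
theorem F14849 : act 3 n8951 = n6863 := d13_1 D8951 (iv D6863) D6862
def n8952 : Q := act 1 n6864
theorem D8952 : act 1 n6864 = n8952 := rfl
theorem F14850 : act 2 n8952 = n6870 := d5_2 D6864 D8952 (iv D6870) (iv D5212) (iv F8533)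
theorem F14851 : act 4 n8952 = n6866 := d7_2 (iv F11344) D8952 (iv D6866)
def n8953 : Q := act 3 n6864
theorem D8953 : act 3 n6864 = n8953 := rfl
def n8954 : Q := act 5 n6864
theorem D8954 : act 5 n6864 = n8954 := rfl
theorem F14852 : act 2 n8954 = n6865 := d11_1 D8954 (iv D6865) D6864
def n8955 : Q := act 4 n6865
theorem D8955 : act 4 n6865 = n8955 := rfl
theorem F14853 : act 1 n8955 = n6871 := d7_1 D8955 (iv D6871) (iv F11345)
theorem F14854 : act 3 n8955 = n8833 := d12_1 D8955 (iv D8833) F11196 (iv F8536) (iv F11346)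
theorem F14855 : act 5 n8955 = n6869 := d14_2 D6865 D8955 (iv D6869) (iv D5211) (iv F8534)
def n8956 : Q := act 0 n6866
theorem D8956 : act 0 n6866 = n8956 := rfl
theorem F14856 : act 2 n8956 = n6872 := d1_2 (iv F11347) D8956 (iv D6872)
def n8957 : Q := act 3 n6866
theorem D8957 : act 3 n6866 = n8957 := rfl
theorem F14857 : act 1 n8957 = n6867 := d6_1 D8957 (iv D6867) D6866
def n8958 : Q := act 5 n6866
theorem D8958 : act 5 n6866 = n8958 := rfl
theorem F14858 : act 1 n8958 = n6868 := d8_1 D8958 (iv D6868) D6866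
theorem F14859 : act 2 n8958 = n6874 := d11_1 D8958 (iv D6874) (iv F11347)
def n8959 : Q := act 2 n6867
theorem D8959 : act 2 n6867 = n8959 := rfl
theorem F14860 : act 0 n8959 = n6884 := d1_1 D8959 (iv F14838) F14837
theorem F14861 : act 3 n8959 = n6878 := d9_2 D6867 D8959 F11369 F8551 (iv F8528) (iv F11336) (iv F14841) F14842 (iv D6882) (iv D5221) (iv D3910) (iv D2887) (iv F4653) D3902 D5210
theorem F14862 : act 5 n6877 = n8959 := d13_0 F14861 (iv D6878) D6877
def n8960 : Q := act 4 n6867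
theorem D8960 : act 4 n6867 = n8960 := rfl
def n8961 : Q := act 5 n6867
theorem D8961 : act 5 n6867 = n8961 := rfl
theorem F14863 : act 0 n8961 = n6882 := d4_1 D8961 F14839 F14837
theorem F14864 : act 2 n8961 = n6877 := d11_1 D8961 F14862 (iv D8959)
theorem F14865 : act 3 n8961 = n6868 := d13_1 D8961 (iv D6868) D6867
def n8962 : Q := act 4 n6868
theorem D8962 : act 4 n6868 = n8962 := rfl
theorem F14866 : act 2 n8962 = n6869 := d10_1 D8962 (iv D6869) (iv F11348)
def n8963 : Q := act 0 n6870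
theorem D8963 : act 0 n6870 = n8963 := rfl
theorem F14867 : act 1 n8963 = n8216 := d0_2 D6870 D8963 (iv D8216) (iv D6296) (iv F8539)
theorem F14868 : act 4 n8963 = n6872 := d3_2 (iv F11351) D8963 (iv D6872)
def n8964 : Q := act 3 n6872
theorem D8964 : act 3 n6872 = n8964 := rfl
theorem F14869 : act 0 n8964 = n6873 := d2_1 D8964 (iv D6873) D6872
theorem F14870 : act 5 n7605 = n8964 := d4_0 F14869 (iv F11356) D7605
def n8965 : Q := act 5 n6872
theorem D8965 : act 5 n6872 = n8965 := rfl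
theorem F14871 : act 0 n8965 = n6874 := d4_1 D8965 (iv D6874) D6872
theorem F14872 : act 3 n8965 = n7605 := d13_1 D8965 F14870 (iv D8964)
def n8966 : Q := act 2 n6873
theorem D8966 : act 2 n6873 = n8966 := rfl
theorem F14873 : act 1 n8966 = n7597 := d5_1 D8966 F12587 F9530 (iv F8543) (iv F11355)
theorem F14874 : act 5 n8966 = n7595 := d11_2 F11356 D8966 F12585
def n8967 : Q := act 4 n6873
theorem D8967 : act 4 n6873 = n8967 := rfl
theorem F14875 : act 1 n8967 = n6875 := d7_1 D8967 (iv D6875) (iv F11355)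
theorem F14876 : act 3 n8967 = n7549 := d12_1 D8967 F12499 F11983 F11351 D6873
theorem F14877 : act 5 n8967 = n7543 := d14_2 F11356 D8967 (iv D7543) (iv F9444) (iv F9535)
def n8968 : Q := act 4 n6874
theorem D8968 : act 4 n6874 = n8968 := rfl
theorem F14878 : act 1 n8968 = n6876 := d7_1 D8968 (iv D6876) (iv F11357)
theorem F14879 : act 3 n8968 = n7544 := d12_1 D8968 (iv D7544) F9446 (iv F9535) (iv F11358)
theorem F14880 : act 5 n8968 = n7550 := d14_2 D6874 D8968 F12501 (iv F11981) F11351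
def n8969 : Q := act 4 n6877
theorem D8969 : act 4 n6877 = n8969 := rfl
theorem F14881 : act 0 n8969 = n6883 := d3_1 D8969 (iv D6883) (iv F11367)
theorem F14882 : act 3 n8969 = n8663 := d12_1 D8969 (iv D8663) (iv D6640) (iv F8548) D6877
def n8970 : Q := act 3 n6879
theorem D8970 : act 3 n6879 = n8970 := rfl
theorem F14883 : act 0 n8970 = n6880 := d2_1 D8970 (iv D6880) D6879
theorem F14884 : act 4 n8970 = n8742 := d12_2 (iv F11371) D8970 (iv D8742) (iv D6701) F10972
def n8971 : Q := act 5 n6879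
theorem D8971 : act 5 n6879 = n8971 := rfl
theorem F14885 : act 0 n8971 = n6881 := d4_1 D8971 (iv D6881) D6879
theorem F14886 : act 2 n8971 = n6887 := d11_1 D8971 (iv D6887) (iv F11370)
theorem F14887 : act 4 n8971 = n8678 := d14_1 D8971 (iv D8678) (iv D6652) (iv F10971) (iv F11371)
def n8972 : Q := act 2 n6880
theorem D8972 : act 2 n6880 = n8972 := rfl
def n8973 : Q := act 4 n6880
theorem D8973 : act 4 n6880 = n8973 := rfl
theorem F14888 : act 0 n8973 = n8742 := d3_1 D8973 (iv F14884) F14883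
theorem F14889 : act 1 n8973 = n6883 := d7_1 D8973 (iv D6883) (iv F11372)
theorem F14890 : act 3 n8973 = n8664 := d12_1 D8973 (iv D8664) (iv D6642) (iv F8553) D6880
def n8974 : Q := act 5 n6880
theorem D8974 : act 5 n6880 = n8974 := rfl
theorem F14891 : act 1 n8974 = n6884 := d8_1 D8974 (iv D6884) (iv F11372)
theorem F14892 : act 3 n8974 = n6881 := d13_1 D8974 (iv D6881) D6880
def n8975 : Q := act 1 n6882
theorem D8975 : act 1 n6882 = n8975 := rfl
def n8976 : Q := act 4 n6882
theorem D8976 : act 4 n6882 = n8976 := rfl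
theorem F14893 : act 2 n8976 = n6883 := d10_1 D8976 (iv D6883) D6882
def n8977 : Q := act 5 n6883
theorem D8977 : act 5 n6883 = n8977 := rfl
theorem F14894 : act 3 n8977 = n8665 := d13_1 D8977 (iv D8665) (iv F11376)
def n8978 : Q := act 4 n6884
theorem D8978 : act 4 n6884 = n8978 := rfl
def n8979 : Q := act 3 n6885
theorem D8979 : act 3 n6885 = n8979 := rfl
theorem F14895 : act 1 n8979 = n8683 := d6_1 D8979 F14381 (iv F11378)
theorem F14896 : act 5 n8979 = n8331 := d13_2 (iv F11380) D8979 (iv D8331)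
def n8980 : Q := act 2 n6886
theorem D8980 : act 2 n6886 = n8980 := rfl
theorem F14897 : act 0 n8980 = n6888 := d1_1 D8980 (iv D6888) (iv F11381)
theorem F14898 : act 4 n8980 = n8679 := d10_2 (iv F11383) D8980 (iv D8679)
def n8981 : Q := act 3 n6888
theorem D8981 : act 3 n6888 = n8981 := rfl
def n8982 : Q := act 2 n6889
theorem D8982 : act 2 n6889 = n8982 := rfl
theorem F14899 : act 0 n8982 = n8010 := d1_1 D8982 (iv D8010) (iv F11388)
theorem F14900 : act 4 n8982 = n8828 := d10_2 (iv F11390) D8982 (iv D8828)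
def n8983 : Q := act 5 n6889
theorem D8983 : act 5 n6889 = n8983 := rfl
theorem F14901 : act 0 n8983 = n8011 := d4_1 D8983 (iv D8011) (iv F11388)
theorem F14902 : act 1 n8983 = n8829 := d8_1 D8983 (iv D8829) (iv F11389)
theorem F14903 : act 3 n8983 = n6890 := d13_1 D8983 (iv D6890) D6889
def n8984 : Q := act 3 n6891
theorem D8984 : act 3 n6891 = n8984 := rfl
theorem F14904 : act 0 n8984 = n8017 := d2_1 D8984 (iv D8017) (iv F11395)
theorem F14905 : act 1 n8984 = n7708 := d6_1 D8984 (iv D7708) (iv F11396)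
def n8985 : Q := act 5 n6891
theorem D8985 : act 5 n6891 = n8985 := rfl
theorem F14906 : act 0 n8985 = n8018 := d4_1 D8985 (iv D8018) (iv F11395)
theorem F14907 : act 1 n8985 = n7709 := d8_1 D8985 (iv D7709) (iv F11396)
theorem F14908 : act 2 n8985 = n6892 := d11_1 D8985 (iv D6892) D6891
theorem F14909 : act 4 n8985 = n7658 := d14_1 D8985 (iv D7658) F9586 (iv F8575) (iv F11397)
def n8986 : Q := act 4 n6893
theorem D8986 : act 4 n6893 = n8986 := rfl
theorem F14910 : act 0 n8986 = n8058 := d3_1 D8986 (iv D8058) (iv F11402)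
theorem F14911 : act 1 n8986 = n7707 := d7_1 D8986 (iv D7707) (iv F11403)
theorem F14912 : act 2 n8986 = n8447 := d10_1 D8986 (iv D8447) (iv F11404)
def n8987 : Q := act 2 n6894
theorem D8987 : act 2 n6894 = n8987 := rfl
theorem F14913 : act 0 n8987 = n6896 := d1_1 D8987 (iv D6896) (iv F11406)
theorem F14914 : act 4 n8987 = n8822 := d10_2 (iv F11408) D8987 (iv D8822)
def n8988 : Q := act 5 n6894
theorem D8988 : act 5 n6894 = n8988 := rfl
theorem F14915 : act 0 n8988 = n6897 := d4_1 D8988 (iv D6897) (iv F11406)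
theorem F14916 : act 1 n8988 = n8825 := d8_1 D8988 (iv D8825) (iv F11407)
theorem F14917 : act 3 n8988 = n6895 := d13_1 D8988 (iv D6895) D6894
def n8989 : Q := act 1 n6896
theorem D8989 : act 1 n6896 = n8989 := rfl
theorem F14918 : act 2 n8989 = n6898 := d5_2 D6896 D8989 (iv D6898) (iv D5235) (iv F8583)
def n8990 : Q := act 3 n6896
theorem D8990 : act 3 n6896 = n8990 := rfl
def n8991 : Q := act 5 n6896
theorem D8991 : act 5 n6896 = n8991 := rfl
theorem F14919 : act 2 n8991 = n6897 := d11_1 D8991 (iv D6897) D6896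
def n8992 : Q := act 4 n6897
theorem D8992 : act 4 n6897 = n8992 := rfl
theorem F14920 : act 1 n8992 = n6901 := d7_1 D8992 (iv D6901) (iv F11413)
theorem F14921 : act 3 n8992 = n8215 := d12_1 D8992 (iv D8215) F10381 (iv F8586) (iv F11414)
def n8993 : Q := act 0 n6898
theorem D8993 : act 0 n6898 = n8993 := rfl
def n8994 : Q := act 3 n6898
theorem D8994 : act 3 n6898 = n8994 := rfl
theorem F14922 : act 1 n8994 = n6899 := d6_1 D8994 (iv D6899) D6898
theorem F14923 : act 5 n7702 = n8994 := d8_0 F14922 (iv F11416) (iv F12720)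
def n8995 : Q := act 5 n6898
theorem D8995 : act 5 n6898 = n8995 := rfl
theorem F14924 : act 1 n8995 = n6900 := d8_1 D8995 (iv D6900) D6898
theorem F14925 : act 3 n8995 = n7702 := d13_1 D8995 F14923 (iv D8994)
def n8996 : Q := act 4 n6899
theorem D8996 : act 4 n6899 = n8996 := rfl
theorem F14926 : act 0 n8996 = n7690 := d3_1 D8996 F14552 F14549
theorem F14927 : act 2 n8996 = n7703 := d10_1 D8996 (iv D7703) (iv F11415)
theorem F14928 : act 3 n8996 = n7201 := d12_1 D8996 (iv F14531) F14530 F11120 D6899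
theorem F14929 : act 5 n8996 = n7198 := d14_2 F11416 D8996 (iv D7198) (iv F9049) D5871
def n8997 : Q := act 4 n6900
theorem D8997 : act 4 n6900 = n8997 := rfl
theorem F14930 : act 0 n8997 = n7691 := d3_1 D8997 F14556 F14553
theorem F14931 : act 2 n8997 = n6901 := d10_1 D8997 (iv D6901) (iv F11417)
theorem F14932 : act 3 n8997 = n7199 := d12_1 D8997 (iv D7199) F9052 D5871 (iv F11418)
theorem F14933 : act 5 n8997 = n7202 := d14_2 D6900 D8997 (iv F14526) F14527 F11120
def n8998 : Q := act 3 n6902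
theorem D8998 : act 3 n6902 = n8998 := rfl
theorem F14934 : act 0 n8998 = n6903 := d2_1 D8998 (iv D6903) D6902
theorem F14935 : act 1 n8998 = n7693 := d6_1 D8998 F12709 (iv F11420)
theorem F14936 : act 4 n8998 = n7679 := d12_2 (iv F11422) D8998 (iv D7679) F9617 (iv F8597)
def n8999 : Q := act 5 n6902
theorem D8999 : act 5 n6902 = n8999 := rfl
theorem F14937 : act 0 n8999 = n6904 := d4_1 D8999 (iv D6904) D6902
theorem F14938 : act 1 n8999 = n7706 := d8_1 D8999 (iv D7706) (iv F11420)
theorem F14939 : act 2 n8999 = n8123 := d11_1 D8999 (iv D8123) (iv F11421)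
theorem F14940 : act 4 n8999 = n7672 := d14_1 D8999 (iv D7672) F9601 (iv F8598) (iv F11422)
def n9000 : Q := act 2 n6903
theorem D9000 : act 2 n6903 = n9000 := rfl
theorem F14941 : act 4 n9000 = n7681 := d10_2 (iv F11424) D9000 (iv D7681)
def n9001 : Q := act 5 n6903
theorem D9001 : act 5 n6903 = n9001 := rfl
theorem F14942 : act 1 n9001 = n6906 := d8_1 D9001 (iv D6906) (iv F11423)
theorem F14943 : act 3 n9001 = n6904 := d13_1 D9001 (iv D6904) D6903
def n9002 : Q := act 1 n6905
theorem D9002 : act 1 n6905 = n9002 := rfl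
theorem F14944 : act 4 n9002 = n7683 := d7_2 (iv F11429) D9002 (iv D7683)
def n9003 : Q := act 4 n6906
theorem D9003 : act 4 n6906 = n9003 := rfl
theorem F14945 : act 0 n9003 = n7703 := d3_1 D9003 (iv D7703) (iv F11430)
theorem F14946 : act 2 n9003 = n7690 := d10_1 D9003 F14552 F14550
theorem F14947 : act 3 n9003 = n7676 := d12_1 D9003 (iv D7676) F9605 (iv F8594) (iv F11431)
theorem F14948 : act 5 n9003 = n7684 := d14_2 D6906 D9003 (iv D7684) (iv D5859) (iv F8591)
def n9004 : Q := act 1 n6907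
theorem D9004 : act 1 n6907 = n9004 := rfl
theorem F14949 : act 0 n9004 = n7767 := d0_1 D9004 F12810 F9698 (iv F8607) (iv F11432)
theorem F14950 : act 2 n9004 = n6917 := d5_2 D6907 D9004 (iv D6917) (iv D5252) (iv F8600)
theorem F14951 : act 5 n9004 = n7765 := d8_2 (iv F11433) D9004 F12808
theorem F14952 : act 3 n7802 = n9004 := d2_0 F14949 F12811 D7802
def n9005 : Q := act 3 n6907
theorem D9005 : act 3 n6907 = n9005 := rfl
theorem F14953 : act 0 n9005 = n6909 := d2_1 D9005 (iv D6909) (iv F11432)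
theorem F14954 : act 1 n9005 = n7802 := d6_1 D9005 F14952 (iv D9004)
theorem F14955 : act 2 n9005 = n7004 := d9_1 D9005 F11620 F8758 F6541 (iv F6424) F6425 (iv F7244) D5926 (iv F11598) (iv D6993) (iv D5313) (iv D3986) (iv F6419) D5241 D6907
theorem F14956 : act 5 n9005 = n7002 := d13_2 (iv F11433) D9005 F11618
def n9006 : Q := act 4 n6907
theorem D9006 : act 4 n6907 = n9006 := rfl
theorem F14957 : act 0 n9006 = n6910 := d3_1 D9006 (iv D6910) (iv F11432)
theorem F14958 : act 2 n9006 = n6908 := d10_1 D9006 (iv D6908) D6907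
def n9007 : Q := act 5 n6908
theorem D9007 : act 5 n6908 = n9007 := rfl
theorem F14959 : act 0 n9007 = n6911 := d4_1 D9007 (iv D6911) (iv F11434)
theorem F14960 : act 1 n9007 = n6921 := d8_1 D9007 (iv D6921) (iv F11435)
theorem F14961 : act 3 n9007 = n6914 := d13_1 D9007 (iv D6914) (iv F11436)
theorem F14962 : act 4 n9007 = n7788 := d14_1 D9007 (iv D7788) (iv D5936) F8601 D6908
def n9008 : Q := act 2 n6909
theorem D9008 : act 2 n6909 = n9008 := rfl
theorem F14963 : act 0 n9008 = n7004 := d1_1 D9008 (iv F14955) F14953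
theorem F14964 : act 1 n9008 = n7796 := d5_1 D9008 (iv D7796) F9723 (iv F9709) (iv F11437)
theorem F14965 : act 3 n9008 = n6995 := d9_2 D6909 D9008 F11602 F8749 (iv F8604) F8605 (iv F9704) (iv F11618) (iv D7002) (iv D5318) (iv D3988) (iv D2947) (iv F4688) D3929 D5243
theorem F14966 : act 5 n9008 = n6993 := d11_2 (iv F11438) D9008 F11598
def n9009 : Q := act 4 n6909
theorem D9009 : act 4 n6909 = n9009 := rfl
theorem F14967 : act 1 n9009 = n7780 := d7_1 D9009 (iv D7780) (iv F11437)
def n9010 : Q := act 3 n6910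
theorem D9010 : act 3 n6910 = n9010 := rfl
theorem F14968 : act 1 n9010 = n7784 := d6_1 D9010 (iv D7784) (iv F11439)
def n9011 : Q := act 5 n6910
theorem D9011 : act 5 n6910 = n9011 := rfl
theorem F14969 : act 1 n9011 = n7783 := d8_1 D9011 F12834 (iv F11439)
theorem F14970 : act 2 n9011 = n6911 := d11_1 D9011 (iv D6911) (iv F11440)
theorem F14971 : act 4 n9011 = n7777 := d14_1 D9011 (iv D7777) (iv D5927) (iv F8608) D6910
def n9012 : Q := act 2 n6912
theorem D9012 : act 2 n6912 = n9012 := rfl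
theorem F14972 : act 0 n9012 = n7406 := d1_1 D9012 F12288 (iv F11444)
theorem F14973 : act 4 n9012 = n7789 := d10_2 (iv F11446) D9012 (iv D7789)
theorem F14974 : act 5 n9012 = n6915 := d11_2 (iv F11447) D9012 (iv D6915)
def n9013 : Q := act 1 n6913
theorem D9013 : act 1 n6913 = n9013 := rfl
theorem F14975 : act 3 n9013 = n6958 := d6_2 (iv F11449) D9013 (iv D6958)
theorem F14976 : act 4 n9013 = n7791 := d7_2 (iv F11450) D9013 (iv D7791)
theorem F14977 : act 5 n9013 = n6916 := d8_2 (iv F11451) D9013 (iv D6916)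
def n9014 : Q := act 1 n6915
theorem D9014 : act 1 n6915 = n9014 := rfl
theorem F14978 : act 2 n9014 = n6916 := d5_2 D6915 D9014 (iv D6916) (iv D5251) (iv F8626)
def n9015 : Q := act 3 n6915
theorem D9015 : act 3 n6915 = n9015 := rfl
theorem F14979 : act 0 n9015 = n7405 := d2_1 D9015 (iv D7405) (iv F11455)
def n9016 : Q := act 0 n6916
theorem D9016 : act 0 n6916 = n9016 := rfl
theorem F14980 : act 1 n9016 = n6954 := d0_2 D6916 D9016 (iv D6954) (iv D5278) (iv F8627)
theorem F14981 : act 3 n9016 = n7795 := d2_2 (iv F11456) D9016 (iv D7795)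
def n9017 : Q := act 0 n6917
theorem D9017 : act 0 n6917 = n9017 := rfl
theorem F14982 : act 1 n9017 = n6923 := d0_2 D6917 D9017 (iv D6923) (iv D5255) (iv F8629)
theorem F14983 : act 2 n9017 = n7767 := d1_2 F14950 D9017 (iv F14949)

end Cfsg.Agent.Helper17.ONS1TC
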