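import Cfsg.Agent.Helper17.ONS1TC.Facts2

set_option autoImplicit false
set_option linter.all false

noncomputable section

namespace Cfsg.Agent.Helper17.ONS1TC

theorem F14984 : act 5 n7755 = n9017 := d11_0 F14983 (iv D7767) (iv F12799)
def n9018 : Q := act 3 n6917
theorem D9018 : act 3 n6917 = n9018 := rfl
theorem F14985 : act 1 n9018 = n6918 := d6_1 D9018 (iv D6918) D6917
theorem F14986 : act 2 n9018 = n7118 := d15_2 F14950 D9018 (iv F14083) F14082 (iv D7190) (iv F11932) F11933 D7767 (iv F14949)
theorem F14987 : act 5 n6970 = n9018 := d11_0 F14986 F14079 (iv F14078)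
def n9019 : Q := act 4 n6917
theorem D9019 : act 4 n6917 = n9019 := rfl
theorem F14988 : act 1 n9019 = n6919 := d7_1 D9019 (iv D6919) D6917
def n9020 : Q := act 5 n6917
theorem D9020 : act 5 n6917 = n9020 := rfl
theorem F14989 : act 0 n9020 = n7755 := d4_1 D9020 F14984 (iv D9017)
theorem F14990 : act 1 n9020 = n6920 := d8_1 D9020 (iv D6920) D6917
theorem F14991 : act 2 n9020 = n7765 := d11_1 D9020 (iv F14951) F14950
theorem F14992 : act 3 n9020 = n6970 := d13_1 D9020 F14987 (iv D9018)
def n9021 : Q := act 4 n6918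
theorem D9021 : act 4 n6918 = n9021 := rfl
theorem F14993 : act 0 n9021 = n6927 := d3_1 D9021 (iv D6927) (iv F11457)
theorem F14994 : act 2 n9021 = n6973 := d10_1 D9021 (iv D6973) (iv F11458)
def n9022 : Q := act 3 n6919
theorem D9022 : act 3 n6919 = n9022 := rfl
theorem F14995 : act 0 n9022 = n6929 := d2_1 D9022 (iv D6929) (iv F11460)
def n9023 : Q := act 5 n6919
theorem D9023 : act 5 n6919 = n9023 := rfl
theorem F14996 : act 0 n9023 = n6930 := d4_1 D9023 (iv D6930) (iv F11460)
theorem F14997 : act 2 n9023 = n6921 := d11_1 D9023 (iv D6921) (iv F11461)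
def n9024 : Q := act 4 n6920
theorem D9024 : act 4 n6920 = n9024 := rfl
theorem F14998 : act 0 n9024 = n6931 := d3_1 D9024 (iv D6931) (iv F11462)
theorem F14999 : act 2 n9024 = n6922 := d10_1 D9024 (iv D6922) (iv F11463)
def n9025 : Q := act 4 n6921
theorem D9025 : act 4 n6921 = n9025 := rfl
theorem F15000 : act 0 n9025 = n6932 := d3_1 D9025 (iv D6932) (iv F11465)
theorem F15001 : act 1 n9025 = n7788 := d7_1 D9025 (iv F14962) F14960
theorem F15002 : act 3 n9025 = n7411 := d12_1 D9025 (iv D7411) F9303 (iv F8662) (iv F11466)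
theorem F15003 : act 5 n9025 = n6922 := d14_2 D6921 D9025 (iv D6922) (iv D5254) D5253
def n9026 : Q := act 4 n6923
theorem D9026 : act 4 n6923 = n9026 := rfl
theorem F15004 : act 0 n9026 = n6925 := d3_1 D9026 (iv D6925) D6923
theorem F15005 : act 2 n9026 = n6933 := d10_1 D9026 (iv D6933) (iv F11470)
def n9027 : Q := act 4 n6924
theorem D9027 : act 4 n6924 = n9027 := rfl
theorem F15006 : act 1 n9027 = n6927 := d7_1 D9027 (iv D6927) (iv F11472)
def n9028 : Q := act 3 n6925
theorem D9028 : act 3 n6925 = n9028 := rfl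
theorem F15007 : act 1 n9028 = n6929 := d6_1 D9028 (iv D6929) (iv F11474)
def n9029 : Q := act 5 n6925
theorem D9029 : act 5 n6925 = n9029 := rfl
theorem F15008 : act 1 n9029 = n6930 := d8_1 D9029 (iv D6930) (iv F11474)
theorem F15009 : act 2 n9029 = n6935 := d11_1 D9029 (iv D6935) (iv F11475)
theorem F15010 : act 4 n9029 = n7763 := d14_1 D9029 (iv D7763) (iv D5916) F8636 D6925
def n9030 : Q := act 1 n6926
theorem D9030 : act 1 n6926 = n9030 := rfl
theorem F15011 : act 0 n9030 = n7115 := d0_1 D9030 F11795 F8922 (iv F8706) (iv F11476)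
theorem F15012 : act 3 n9030 = n6966 := d6_2 (iv F11477) D9030 F11547
theorem F15013 : act 5 n9030 = n6965 := d8_2 F11478 D9030 F11545
def n9031 : Q := act 4 n6926
theorem D9031 : act 4 n6926 = n9031 := rfl
theorem F15014 : act 0 n9031 = n6973 := d3_1 D9031 (iv D6973) (iv F11476)
theorem F15015 : act 2 n9031 = n6927 := d10_1 D9031 (iv D6927) D6926
theorem F15016 : act 3 n9031 = n7054 := d12_1 D9031 (iv D7054) F8830 (iv F8699) (iv F11477)
def n9032 : Q := act 3 n6927
theorem D9032 : act 3 n6927 = n9032 := rfl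
theorem F15017 : act 4 n9032 = n6929 := d12_2 D6927 D9032 (iv D6929) (iv D5257) D5256
def n9033 : Q := act 5 n6927
theorem D9033 : act 5 n6927 = n9033 := rfl
def n9034 : Q := act 4 n6928
theorem D9034 : act 4 n6928 = n9034 := rfl
theorem F15018 : act 0 n9034 = n6971 := d3_1 D9034 (iv D6971) (iv F11479)
theorem F15019 : act 1 n9034 = n7761 := d7_1 D9034 (iv D7761) (iv F11480)
theorem F15020 : act 2 n9034 = n6967 := d10_1 D9034 (iv D6967) (iv F11481)
def n9035 : Q := act 2 n6929
theorem D9035 : act 2 n6929 = n9035 := rfl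
theorem F15021 : act 3 n9035 = n7372 := d15_3 (iv F8637) D6929 D9035 F12243 F9263 (iv F8661) (iv F11466) (iv D6921) F8630
theorem F15022 : act 5 n7371 = n9035 := d13_0 F15021 (iv D7372) D7371
def n9036 : Q := act 5 n6929
theorem D9036 : act 5 n6929 = n9036 := rfl
theorem F15023 : act 2 n9036 = n7371 := d11_1 D9036 F15022 (iv D9035)
theorem F15024 : act 3 n9036 = n6930 := d13_1 D9036 (iv D6930) D6929
def n9037 : Q := act 4 n6930
theorem D9037 : act 4 n6930 = n9037 := rfl
theorem F15025 : act 1 n9037 = n7763 := d7_1 D9037 (iv F15010) F15008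
theorem F15026 : act 2 n9037 = n6932 := d10_1 D9037 (iv D6932) (iv F11483)
theorem F15027 : act 5 n9037 = n6931 := d14_2 D6930 D9037 (iv D6931) (iv D5258) D5257
def n9038 : Q := act 3 n6931
theorem D9038 : act 3 n6931 = n9038 := rfl
theorem F15028 : act 1 n9038 = n7762 := d6_1 D9038 (iv D7762) (iv F11484)
def n9039 : Q := act 3 n6933
theorem D9039 : act 3 n6933 = n9039 := rfl
theorem F15029 : act 0 n9039 = n6934 := d2_1 D9039 (iv D6934) (iv F11489)
theorem F15030 : act 1 n9039 = n7772 := d6_1 D9039 (iv D7772) (iv F11490)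
theorem F15031 : act 4 n9039 = n7759 := d12_2 D6933 D9039 (iv D7759) (iv D5914) (iv F8645)
def n9040 : Q := act 5 n6933
theorem D9040 : act 5 n6933 = n9040 := rfl
theorem F15032 : act 0 n9040 = n6935 := d4_1 D9040 (iv D6935) (iv F11489)
theorem F15033 : act 1 n9040 = n7771 := d8_1 D9040 F12818 (iv F11490)
theorem F15034 : act 4 n9040 = n7758 := d14_1 D9040 (iv D7758) (iv D5913) (iv F8646) D6933
def n9041 : Q := act 2 n6934
theorem D9041 : act 2 n6934 = n9041 := rfl
theorem F15035 : act 4 n9041 = n7764 := d10_2 (iv F11492) D9041 (iv D7764)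
def n9042 : Q := act 5 n6934
theorem D9042 : act 5 n6934 = n9042 := rfl
theorem F15036 : act 1 n9042 = n6937 := d8_1 D9042 (iv D6937) (iv F11491)
theorem F15037 : act 3 n9042 = n6935 := d13_1 D9042 (iv D6935) D6934
def n9043 : Q := act 1 n6936
theorem D9043 : act 1 n6936 = n9043 := rfl
theorem F15038 : act 4 n9043 = n6955 := d7_2 (iv F11496) D9043 F11528
def n9044 : Q := act 1 n6939
theorem D9044 : act 1 n6939 = n9044 := rfl
theorem F15039 : act 2 n9044 = n7436 := d5_2 D6939 D9044 F12322 F9318 (iv F8657)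
theorem F15040 : act 4 n9044 = n6940 := d7_2 (iv F11504) D9044 (iv D6940)
def n9045 : Q := act 0 n6940
theorem D9045 : act 0 n6940 = n9045 := rfl
theorem F15041 : act 2 n9045 = n7433 := d1_2 (iv F11505) D9045 F12320
theorem F15042 : act 5 n9045 = n6954 := d4_2 (iv F11506) D9045 (iv D6954)
def n9046 : Q := act 2 n6941
theorem D9046 : act 2 n6941 = n9046 := rfl
theorem F15043 : act 4 n9046 = n7350 := d10_2 (iv F11508) D9046 (iv D7350)
def n9047 : Q := act 5 n6941
theorem D9047 : act 5 n6941 = n9047 := rfl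
theorem F15044 : act 1 n9047 = n6944 := d8_1 D9047 (iv D6944) (iv F11507)
theorem F15045 : act 3 n9047 = n6942 := d13_1 D9047 (iv D6942) D6941
def n9048 : Q := act 1 n6943
theorem D9048 : act 1 n6943 = n9048 := rfl
theorem F15046 : act 4 n9048 = n7354 := d7_2 (iv F11513) D9048 (iv D7354)
def n9049 : Q := act 3 n6943
theorem D9049 : act 3 n6943 = n9049 := rfl
theorem F15047 : act 0 n9049 = n7371 := d2_1 D9049 (iv D7371) (iv F11512)
def n9050 : Q := act 5 n6943
theorem D9050 : act 5 n6943 = n9050 := rfl
theorem F15048 : act 0 n9050 = n7372 := d4_1 D9050 (iv D7372) (iv F11512)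
theorem F15049 : act 2 n9050 = n6944 := d11_1 D9050 (iv D6944) D6943
def n9051 : Q := act 4 n6944
theorem D9051 : act 4 n6944 = n9051 := rfl
theorem F15050 : act 0 n9051 = n7373 := d3_1 D9051 (iv D7373) (iv F11514)
theorem F15051 : act 3 n9051 = n7424 := d12_1 D9051 (iv D7424) F9312 (iv F8669) (iv F11515)
theorem F15052 : act 5 n9051 = n7355 := d14_2 D6944 D9051 (iv D7355) (iv D5598) (iv F8666)
def n9052 : Q := act 1 n6945
theorem D9052 : act 1 n6945 = n9052 := rfl
theorem F15053 : act 2 n9052 = n6947 := d5_2 D6945 D9052 (iv D6947) (iv D5274) (iv F8670)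
def n9053 : Q := act 3 n6945
theorem D9053 : act 3 n6945 = n9053 := rfl
def n9054 : Q := act 5 n6945
theorem D9054 : act 5 n6945 = n9054 := rfl
theorem F15054 : act 2 n9054 = n6946 := d11_1 D9054 (iv D6946) D6945
def n9055 : Q := act 4 n6946
theorem D9055 : act 4 n6946 = n9055 := rfl
theorem F15055 : act 1 n9055 = n6950 := d7_1 D9055 (iv D6950) (iv F11516)
theorem F15056 : act 3 n9055 = n8849 := d12_1 D9055 (iv D8849) F11211 F10394 (iv F11517)
theorem F15057 : act 5 n9055 = n8850 := d14_2 D6946 D9055 F14696 F11215 F10397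
def n9056 : Q := act 0 n6947
theorem D9056 : act 0 n6947 = n9056 := rfl
def n9057 : Q := act 3 n6947
theorem D9057 : act 3 n6947 = n9057 := rfl
theorem F15058 : act 1 n9057 = n6948 := d6_1 D9057 (iv D6948) D6947
theorem F15059 : act 5 n7794 = n9057 := d8_0 F15058 F11519 D7794
def n9058 : Q := act 5 n6947
theorem D9058 : act 5 n6947 = n9058 := rfl
theorem F15060 : act 1 n9058 = n6949 := d8_1 D9058 (iv D6949) D6947
theorem F15061 : act 3 n9058 = n7794 := d13_1 D9058 F15059 (iv D9057)
def n9059 : Q := act 1 n6951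
theorem D9059 : act 1 n6951 = n9059 := rfl
theorem F15062 : act 2 n9059 = n7427 := d5_2 D6951 D9059 F12314 F9314 (iv F8673)
theorem F15063 : act 5 n9059 = n6952 := d8_2 (iv F11524) D9059 (iv D6952)
def n9060 : Q := act 0 n6952
theorem D9060 : act 0 n6952 = n9060 := rfl
theorem F15064 : act 2 n9060 = n7425 := d1_2 (iv F11525) D9060 (iv D7425)
theorem F15065 : act 4 n9060 = n6954 := d3_2 (iv F11526) D9060 (iv D6954)
def n9061 : Q := act 3 n6952
theorem D9061 : act 3 n6952 = n9061 := rfl
theorem F15066 : act 1 n9061 = n6953 := d6_1 D9061 (iv D6953) D6952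
def n9062 : Q := act 3 n6954
theorem D9062 : act 3 n6954 = n9062 := rfl
theorem F15067 : act 0 n9062 = n6955 := d2_1 D9062 (iv D6955) D6954
theorem F15068 : act 1 n9062 = n7795 := d6_1 D9062 (iv F14981) F14980
def n9063 : Q := act 2 n6955
theorem D9063 : act 2 n6955 = n9063 := rfl
theorem F15069 : act 1 n9063 = n7764 := d5_1 D9063 (iv D7764) F9695 (iv F8678) (iv F11528)
def n9064 : Q := act 2 n6956
theorem D9064 : act 2 n6956 = n9064 := rfl
theorem F15070 : act 0 n9064 = n6957 := d1_1 D9064 (iv D6957) (iv F11529)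
theorem F15071 : act 3 n9064 = n6957 := d9_2 D6956 D9064 (iv D6957) (iv D5281) F6473 F4757 (iv F5363) D4461 D5935 (iv F12822) (iv D7773) (iv D5924) F7243 (iv F6500) (iv F8679)
theorem F15072 : act 5 n9064 = n7773 := d11_2 (iv F11530) D9064 (iv D7773)
def n9065 : Q := act 1 n6957
theorem D9065 : act 1 n6957 = n9065 := rfl
theorem F15073 : act 2 n9065 = n6958 := d5_2 D6957 D9065 (iv D6958) (iv D5282) (iv F8682)
theorem F15074 : act 5 n9065 = n7787 := d8_2 (iv F11531) D9065 (iv D7787)
def n9066 : Q := act 0 n6958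
theorem D9066 : act 0 n6958 = n9066 := rfl
theorem F15075 : act 5 n9066 = n7795 := d4_2 (iv F11532) D9066 (iv D7795)
def n9067 : Q := act 3 n6959
theorem D9067 : act 3 n6959 = n9067 := rfl
theorem F15076 : act 0 n9067 = n6962 := d2_1 D9067 (iv D6962) (iv F11533)
theorem F15077 : act 1 n9067 = n8969 := d6_1 D9067 F14882 F14345
theorem F15078 : act 4 n9067 = n7182 := d12_2 D6959 D9067 (iv D7182) (iv D5467) (iv F8686)
def n9068 : Q := act 5 n6959
theorem D9068 : act 5 n6959 = n9068 := rfl
theorem F15079 : act 0 n9068 = n6963 := d4_1 D9068 (iv D6963) (iv F11533)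
theorem F15080 : act 2 n9068 = n6960 := d11_1 D9068 (iv D6960) (iv F11534)
def n9069 : Q := act 3 n6961
theorem D9069 : act 3 n6961 = n9069 := rfl
theorem F15081 : act 0 n9069 = n7182 := d2_1 D9069 (iv D7182) (iv F11537)
theorem F15082 : act 1 n9069 = n8970 := d6_1 D9069 (iv D8970) (iv F11538)
theorem F15083 : act 4 n9069 = n6962 := d12_2 D6961 D9069 (iv D6962) (iv D5286) D5285
def n9070 : Q := act 5 n6961
theorem D9070 : act 5 n6961 = n9070 := rfl
theorem F15084 : act 0 n9070 = n7183 := d4_1 D9070 (iv D7183) (iv F11537)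
theorem F15085 : act 1 n9070 = n8971 := d8_1 D9070 (iv D8971) (iv F11538)
theorem F15086 : act 2 n9070 = n7181 := d11_1 D9070 (iv D7181) (iv F11539)
def n9071 : Q := act 2 n6962
theorem D9071 : act 2 n6962 = n9071 := rfl
def n9072 : Q := act 5 n6962
theorem D9072 : act 5 n6962 = n9072 := rfl
theorem F15087 : act 3 n9072 = n6963 := d13_1 D9072 (iv D6963) D6962
def n9073 : Q := act 3 n6964
theorem D9073 : act 3 n6964 = n9073 := rfl
theorem F15088 : act 0 n9073 = n6965 := d2_1 D9073 (iv D6965) D6964
theorem F15089 : act 1 n9073 = n6968 := d6_1 D9073 (iv D6968) (iv F11541)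
theorem F15090 : act 5 n9073 = n7115 := d13_2 F11544 D9073 (iv D7115)
def n9074 : Q := act 2 n6965
theorem D9074 : act 2 n6965 = n9074 := rfl
theorem F15091 : act 1 n9074 = n7760 := d5_1 D9074 (iv D7760) (iv F11480) F11481 (iv F11545)
def n9075 : Q := act 4 n6965
theorem D9075 : act 4 n6965 = n9075 := rfl
theorem F15092 : act 1 n9075 = n6967 := d7_1 D9075 (iv D6967) (iv F11545)
theorem F15093 : act 3 n9075 = n7415 := d12_1 D9075 (iv D7415) (iv D5641) (iv F8695) D6965
def n9076 : Q := act 5 n6967
theorem D9076 : act 5 n6967 = n9076 := rfl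
theorem F15094 : act 0 n9076 = n6972 := d4_1 D9076 (iv D6972) (iv F11550)
theorem F15095 : act 3 n9076 = n7416 := d13_1 D9076 (iv D7416) (iv F11551)
def n9077 : Q := act 4 n6968
theorem D9077 : act 4 n6968 = n9077 := rfl
theorem F15096 : act 0 n9077 = n6969 := d3_1 D9077 (iv D6969) (iv F11552)
theorem F15097 : act 2 n9077 = n7103 := d10_1 D9077 (iv D7103) (iv F11553)
theorem F15098 : act 3 n9077 = n7440 := d12_1 D9077 (iv D7440) (iv D5657) (iv F8701) D6968
def n9078 : Q := act 5 n6969
theorem D9078 : act 5 n6969 = n9078 := rfl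
theorem F15099 : act 1 n9078 = n6972 := d8_1 D9078 (iv D6972) (iv F11555)
theorem F15100 : act 3 n9078 = n7444 := d13_1 D9078 (iv D7444) (iv F11556)
theorem F15101 : act 4 n9078 = n7120 := d14_1 D9078 (iv D7120) (iv D5416) (iv F8704) D6969
def n9079 : Q := act 0 n6970
theorem D9079 : act 0 n6970 = n9079 := rfl
theorem F15102 : act 1 n9079 = n7756 := d0_2 D6970 D9079 F12800 (iv F11480) F11479
theorem F15103 : act 3 n9079 = n7755 := d2_2 F14992 D9079 (iv F14989)
def n9080 : Q := act 4 n6970
theorem D9080 : act 4 n6970 = n9080 := rfl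
theorem F15104 : act 1 n9080 = n6971 := d7_1 D9080 (iv D6971) D6970
def n9081 : Q := act 3 n6971
theorem D9081 : act 3 n6971 = n9081 := rfl
def n9082 : Q := act 5 n6971
theorem D9082 : act 5 n6971 = n9082 := rfl
theorem F15105 : act 2 n9082 = n6972 := d11_1 D9082 (iv D6972) (iv F11557)
def n9083 : Q := act 4 n6972
theorem D9083 : act 4 n6972 = n9083 := rfl
theorem F15106 : act 1 n9083 = n7120 := d7_1 D9083 (iv F15101) F15099
theorem F15107 : act 3 n9083 = n7138 := d12_1 D9083 (iv D7138) (iv F11836) F11837 (iv F11558)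
theorem F15108 : act 5 n9083 = n6973 := d14_2 D6972 D9083 (iv D6973) (iv D5295) D5294
def n9084 : Q := act 3 n6974
theorem D9084 : act 3 n6974 = n9084 := rfl
theorem F15109 : act 0 n9084 = n7166 := d2_1 D9084 (iv D7166) (iv F11561)
theorem F15110 : act 1 n9084 = n6976 := d6_1 D9084 (iv D6976) (iv F11562)
theorem F15111 : act 4 n9084 = n7245 := d12_2 D6974 D9084 (iv D7245) (iv D5520) F8711
theorem F15112 : act 5 n9084 = n7798 := d13_2 (iv F11564) D9084 (iv D7798)
def n9085 : Q := act 3 n6975
theorem D9085 : act 3 n6975 = n9085 := rfl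
theorem F15113 : act 0 n9085 = n6978 := d2_1 D9085 (iv D6978) (iv F11565)
theorem F15114 : act 1 n9085 = n7245 := d6_1 D9085 (iv D7245) (iv F11566)
theorem F15115 : act 4 n9085 = n6976 := d12_2 D6975 D9085 (iv D6976) (iv D5298) D5297
def n9086 : Q := act 5 n6975
theorem D9086 : act 5 n6975 = n9086 := rfl
theorem F15116 : act 0 n9086 = n6979 := d4_1 D9086 (iv D6979) (iv F11565)
theorem F15117 : act 1 n9086 = n7246 := d8_1 D9086 (iv D7246) (iv F11566)
theorem F15118 : act 4 n9086 = n7181 := d14_1 D9086 (iv D7181) (iv D5465) (iv F8714) D6975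
def n9087 : Q := act 2 n6976
theorem D9087 : act 2 n6976 = n9087 := rfl
theorem F15119 : act 0 n9087 = n6980 := d1_1 D9087 (iv D6980) (iv F11567)
theorem F15120 : act 3 n9087 = n6980 := d9_2 D6976 D9087 (iv D6980) (iv D5301) F6512 F4769 (iv F5368) D4474 D5952 (iv F12850) (iv D7801) (iv D5947) F7256 (iv F6507) (iv F8716)
theorem F15121 : act 5 n9087 = n7801 := d11_2 (iv F11568) D9087 (iv D7801)
def n9088 : Q := act 3 n6977
theorem D9088 : act 3 n6977 = n9088 := rfl
theorem F15122 : act 1 n9088 = n7243 := d6_1 D9088 (iv D7243) (iv F11569)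
def n9089 : Q := act 5 n6977
theorem D9089 : act 5 n6977 = n9089 := rfl
theorem F15123 : act 1 n9089 = n7244 := d8_1 D9089 (iv D7244) (iv F11569)
theorem F15124 : act 2 n9089 = n6979 := d11_1 D9089 (iv D6979) (iv F11570)
theorem F15125 : act 4 n9089 = n7183 := d14_1 D9089 (iv D7183) (iv D5467) (iv F8719) D6977
def n9090 : Q := act 2 n6978
theorem D9090 : act 2 n6978 = n9090 := rfl
theorem F15126 : act 4 n9090 = n6980 := d10_2 (iv F11572) D9090 (iv D6980)
def n9091 : Q := act 5 n6978
theorem D9091 : act 5 n6978 = n9091 := rfl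
theorem F15127 : act 1 n9091 = n7171 := d8_1 D9091 (iv D7171) (iv F11571)
theorem F15128 : act 3 n9091 = n6979 := d13_1 D9091 (iv D6979) D6978
theorem F15129 : act 4 n9091 = n7807 := d14_1 D9091 (iv D7807) F9728 (iv F8722) (iv F11572)
def n9092 : Q := act 1 n6980
theorem D9092 : act 1 n6980 = n9092 := rfl
theorem F15130 : act 2 n9092 = n7172 := d5_2 D6980 D9092 (iv D7172) (iv D5458) (iv F8721)
theorem F15131 : act 5 n9092 = n7808 := d8_2 (iv F11575) D9092 (iv D7808)
def n9093 : Q := act 3 n6981
theorem D9093 : act 3 n6981 = n9093 := rfl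
theorem F15132 : act 0 n9093 = n7156 := d2_1 D9093 (iv D7156) (iv F11576)
theorem F15133 : act 1 n9093 = n6982 := d6_1 D9093 (iv D6982) (iv F11577)
theorem F15134 : act 5 n9093 = n7811 := d13_2 (iv F11579) D9093 (iv D7811)
def n9094 : Q := act 2 n6982
theorem D9094 : act 2 n6982 = n9094 := rfl
theorem F15135 : act 0 n9094 = n6985 := d1_1 D9094 (iv D6985) (iv F11580)
theorem F15136 : act 3 n9094 = n7281 := d9_2 D6982 D9094 F12081 F9138 F6814 F5046 (iv F5376) D4487 D5967 (iv F12072) (iv D7275) (iv D5540) F6806 (iv F6518) (iv F8727)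
theorem F15137 : act 5 n9094 = n7280 := d11_2 (iv F11581) D9094 F12080
def n9095 : Q := act 2 n6983
theorem D9095 : act 2 n6983 = n9095 := rfl
theorem F15138 : act 4 n9095 = n6985 := d10_2 (iv F11583) D9095 (iv D6985)
def n9096 : Q := act 5 n6983
theorem D9096 : act 5 n6983 = n9096 := rfl
theorem F15139 : act 1 n9096 = n7164 := d8_1 D9096 (iv D7164) (iv F11582)
theorem F15140 : act 3 n9096 = n6984 := d13_1 D9096 (iv D6984) D6983
theorem F15141 : act 4 n9096 = n7820 := d14_1 D9096 F12866 F9742 (iv F8731) (iv F11583)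
def n9097 : Q := act 1 n6985
theorem D9097 : act 1 n6985 = n9097 := rfl
theorem F15142 : act 2 n9097 = n7165 := d5_2 D6985 D9097 (iv D7165) (iv D5452) (iv F8730)
theorem F15143 : act 5 n9097 = n7822 := d8_2 (iv F11586) D9097 (iv D7822)
def n9098 : Q := act 3 n6985
theorem D9098 : act 3 n6985 = n9098 := rfl
theorem F15144 : act 0 n9098 = n7281 := d2_1 D9098 (iv F15136) F15135
theorem F15145 : act 2 n9098 = n7276 := d9_1 D9098 F12074 F9131 F6809 (iv F7262) D5957 (iv F12080) (iv D7280) (iv D5544) (iv D4166) F5044 (iv F4777) (iv F6523) D5305 D6985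
theorem F15146 : act 5 n9098 = n7275 := d13_2 (iv F11586) D9098 F12072
def n9099 : Q := act 5 n6986
theorem D9099 : act 5 n6986 = n9099 := rfl
theorem F15147 : act 1 n9099 = n6987 := d8_1 D9099 (iv D6987) (iv F11587)
theorem F15148 : act 3 n9099 = n7810 := d13_1 D9099 (iv D7810) (iv F11588)
def n9100 : Q := act 3 n6989
theorem D9100 : act 3 n6989 = n9100 := rfl
theorem F15149 : act 1 n9100 = n6990 := d6_1 D9100 (iv D6990) (iv F11594)
def n9101 : Q := act 5 n6989
theorem D9101 : act 5 n6989 = n9101 := rfl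
theorem F15150 : act 1 n9101 = n6991 := d8_1 D9101 (iv D6991) (iv F11594)
def n9102 : Q := act 2 n6990
theorem D9102 : act 2 n6990 = n9102 := rfl
def n9103 : Q := act 5 n6990
theorem D9103 : act 5 n6990 = n9103 := rfl
theorem F15151 : act 3 n9103 = n6991 := d13_1 D9103 (iv D6991) D6990
def n9104 : Q := act 0 n6992
theorem D9104 : act 0 n6992 = n9104 := rfl
theorem F15152 : act 1 n9104 = n6999 := d0_2 D6992 D9104 (iv D6999) (iv D5317) (iv F8743)
theorem F15153 : act 2 n9104 = n7037 := d1_2 (iv F11596) D9104 (iv D7037)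
theorem F15154 : act 5 n7026 = n9104 := d11_0 F15153 (iv F13171) F13170
theorem F15155 : act 3 n9104 = n7177 := d15_1 (iv F15153) (iv D7177) (iv D5461) F6716 D4476 (iv F8953) (iv F11675) (iv D7040) D7037
def n9105 : Q := act 3 n6992
theorem D9105 : act 3 n6992 = n9105 := rfl
theorem F15156 : act 0 n9105 = n7177 := d2_1 D9105 (iv F15155) (iv D9104)
theorem F15157 : act 1 n9105 = n6993 := d6_1 D9105 (iv D6993) D6992
theorem F15158 : act 2 n9105 = n7176 := d15_2 (iv F11596) D9105 (iv D7176) F9008 D5953 (iv F11830) F13172 F13171 (iv D7037)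
theorem F15159 : act 5 n7796 = n9105 := d11_0 F15158 F11914 D7796
def n9106 : Q := act 4 n6992
theorem D9106 : act 4 n6992 = n9106 := rfl
theorem F15160 : act 1 n9106 = n6994 := d7_1 D9106 (iv D6994) D6992
theorem F15161 : act 2 n9106 = n7039 := d10_1 D9106 (iv D7039) (iv F11596)
def n9107 : Q := act 5 n6992
theorem D9107 : act 5 n6992 = n9107 := rfl
theorem F15162 : act 0 n9107 = n7026 := d4_1 D9107 F15154 (iv D9104)
theorem F15163 : act 1 n9107 = n6995 := d8_1 D9107 (iv D6995) D6992
theorem F15164 : act 2 n9107 = n7040 := d11_1 D9107 (iv D7040) (iv F11596)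
theorem F15165 : act 3 n9107 = n7796 := d13_1 D9107 F15159 (iv D9105)
def n9108 : Q := act 4 n6993
theorem D9108 : act 4 n6993 = n9108 := rfl
theorem F15166 : act 0 n9108 = n7003 := d3_1 D9108 (iv D7003) (iv F11597)
theorem F15167 : act 2 n9108 = n7775 := d10_1 D9108 (iv D7775) (iv F11598)
def n9109 : Q := act 3 n6994
theorem D9109 : act 3 n6994 = n9109 := rfl
theorem F15168 : act 0 n9109 = n7005 := d2_1 D9109 (iv D7005) (iv F11599)
def n9110 : Q := act 5 n6994
theorem D9110 : act 5 n6994 = n9110 := rfl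
theorem F15169 : act 0 n9110 = n7006 := d4_1 D9110 (iv D7006) (iv F11599)
theorem F15170 : act 2 n9110 = n6996 := d11_1 D9110 (iv D6996) (iv F11600)
def n9111 : Q := act 4 n6995
theorem D9111 : act 4 n6995 = n9111 := rfl
theorem F15171 : act 0 n9111 = n7007 := d3_1 D9111 (iv D7007) (iv F11601)
theorem F15172 : act 2 n9111 = n6997 := d10_1 D9111 (iv D6997) (iv F11602)
def n9112 : Q := act 4 n6996
theorem D9112 : act 4 n6996 = n9112 := rfl
theorem F15173 : act 0 n9112 = n7008 := d3_1 D9112 (iv D7008) (iv F11603)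
theorem F15174 : act 1 n9112 = n7045 := d7_1 D9112 (iv D7045) (iv F11604)
theorem F15175 : act 3 n9112 = n7226 := d12_1 D9112 (iv D7226) F9077 (iv F8782) (iv F11605)
theorem F15176 : act 5 n9112 = n6997 := d14_2 D6996 D9112 (iv D6997) (iv D5315) D5314
def n9113 : Q := act 3 n6997
theorem D9113 : act 3 n6997 = n9113 := rfl
theorem F15177 : act 0 n9113 = n7009 := d2_1 D9113 (iv D7009) (iv F11606)
theorem F15178 : act 1 n9113 = n7046 := d6_1 D9113 (iv D7046) (iv F11607)
theorem F15179 : act 4 n9113 = n6998 := d12_2 D6997 D9113 (iv D6998) (iv D5316) (iv F8749)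
theorem F15180 : act 5 n9113 = n7226 := d13_2 F15176 D9113 (iv F15175)
def n9114 : Q := act 2 n6998
theorem D9114 : act 2 n6998 = n9114 := rfl
theorem F15181 : act 0 n9114 = n7010 := d1_1 D9114 (iv D7010) (iv F11608)
theorem F15182 : act 1 n9114 = n7434 := d5_1 D9114 (iv D7434) F9316 (iv F8824) (iv F11609)
theorem F15183 : act 5 n9114 = n7014 := d11_2 (iv F11610) D9114 (iv D7014)
def n9115 : Q := act 3 n6999
theorem D9115 : act 3 n6999 = n9115 := rfl
theorem F15184 : act 0 n9115 = n7000 := d2_1 D9115 (iv D7000) D6999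
theorem F15185 : act 1 n9115 = n7177 := d6_1 D9115 (iv F15155) F15152
theorem F15186 : act 2 n9115 = n7021 := d9_1 D9115 (iv D7021) (iv D5336) (iv D4003) F4817 D2964 D4009 D5344 D7031 F11667 F9057 (iv F8794) F8793 (iv F8765) (iv F11611)
theorem F15187 : act 5 n9115 = n7027 := d13_2 (iv F11612) D9115 (iv D7027)
def n9116 : Q := act 4 n6999
theorem D9116 : act 4 n6999 = n9116 := rfl
theorem F15188 : act 0 n9116 = n7001 := d3_1 D9116 (iv D7001) D6999
theorem F15189 : act 2 n9116 = n7011 := d10_1 D9116 (iv D7011) (iv F11611)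
def n9117 : Q := act 2 n7000
theorem D9117 : act 2 n7000 = n9117 := rfl
theorem F15190 : act 0 n9117 = n7021 := d1_1 D9117 (iv F15186) F15184
theorem F15191 : act 3 n9117 = n7018 := d9_2 D7000 D9117 (iv D7018) (iv D5334) F6566 D4007 D5341 D7027 F11661 (iv D5484) F6739 (iv F6571) F6570 (iv F6544) (iv F8754)
theorem F15192 : act 5 n9117 = n7031 := d11_2 (iv F11614) D9117 (iv D7031)
theorem F15193 : act 1 n7189 = n9117 := d0_0 F15190 F11650 F9014 D5473 D7189
def n9118 : Q := act 4 n7000
theorem D9118 : act 4 n7000 = n9118 := rfl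
theorem F15194 : act 1 n9118 = n7003 := d7_1 D9118 (iv D7003) (iv F11613)
def n9119 : Q := act 3 n7001
theorem D9119 : act 3 n7001 = n9119 := rfl
theorem F15195 : act 1 n9119 = n7005 := d6_1 D9119 (iv D7005) (iv F11615)
def n9120 : Q := act 5 n7001
theorem D9120 : act 5 n7001 = n9120 := rfl
theorem F15196 : act 1 n9120 = n7006 := d8_1 D9120 (iv D7006) (iv F11615)
theorem F15197 : act 2 n9120 = n7013 := d11_1 D9120 (iv D7013) (iv F11616)
theorem F15198 : act 4 n9120 = n7034 := d14_1 D9120 (iv D7034) (iv D5345) F8755 D7001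
def n9121 : Q := act 1 n7002
theorem D9121 : act 1 n7002 = n9121 := rfl
theorem F15199 : act 0 n9121 = n7186 := d0_1 D9121 (iv D7186) F9029 (iv F9705) (iv F11617)
theorem F15200 : act 2 n9121 = n7189 := d5_2 D7002 D9121 F15193 (iv D9117) F11613
theorem F15201 : act 3 n9121 = n7765 := d6_2 (iv F11618) D9121 F12808
theorem F15202 : act 5 n9121 = n7802 := d8_2 F14956 D9121 (iv F14954)
def n9122 : Q := act 4 n7002
theorem D9122 : act 4 n7002 = n9122 := rfl
theorem F15203 : act 0 n9122 = n7775 := d3_1 D9122 (iv D7775) (iv F11617)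
theorem F15204 : act 2 n9122 = n7003 := d10_1 D9122 (iv D7003) D7002
def n9123 : Q := act 3 n7003
theorem D9123 : act 3 n7003 = n9123 := rfl
theorem F15205 : act 4 n9123 = n7005 := d12_2 D7003 D9123 (iv D7005) (iv D5319) D5318
def n9124 : Q := act 5 n7003
theorem D9124 : act 5 n7003 = n9124 := rfl
def n9125 : Q := act 4 n7004
theorem D9125 : act 4 n7004 = n9125 := rfl
theorem F15206 : act 1 n9125 = n7032 := d7_1 D9125 (iv D7032) (iv F11619)
def n9126 : Q := act 2 n7005
theorem D9126 : act 2 n7005 = n9126 := rfl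
def n9127 : Q := act 5 n7005
theorem D9127 : act 5 n7005 = n9127 := rfl
theorem F15207 : act 3 n9127 = n7006 := d13_1 D9127 (iv D7006) D7005
def n9128 : Q := act 4 n7006
theorem D9128 : act 4 n7006 = n9128 := rfl
theorem F15208 : act 1 n9128 = n7034 := d7_1 D9128 (iv F15198) F15196
theorem F15209 : act 2 n9128 = n7008 := d10_1 D9128 (iv D7008) (iv F11621)
theorem F15210 : act 5 n9128 = n7007 := d14_2 D7006 D9128 (iv D7007) (iv D5320) D5319
def n9129 : Q := act 3 n7007
theorem D9129 : act 3 n7007 = n9129 := rfl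
theorem F15211 : act 1 n9129 = n7033 := d6_1 D9129 (iv D7033) (iv F11622)
def n9130 : Q := act 2 n7009
theorem D9130 : act 2 n7009 = n9130 := rfl
theorem F15212 : act 4 n9130 = n7010 := d10_2 (iv F11628) D9130 (iv D7010)
theorem F15213 : act 5 n9130 = n7233 := d11_2 (iv F11629) D9130 F11993
def n9131 : Q := act 3 n7010
theorem D9131 : act 3 n7010 = n9131 := rfl
theorem F15214 : act 5 n9131 = n7016 := d13_2 (iv F11630) D9131 (iv D7016)
theorem F15215 : act 2 n9131 = n7405 := d15_2 D7010 D9131 (iv D7405) (iv D5634) (iv D4239) (iv F6558) D5331 (iv F11610) F11608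
def n9132 : Q := act 3 n7011
theorem D9132 : act 3 n7011 = n9132 := rfl
theorem F15216 : act 0 n9132 = n7012 := d2_1 D9132 (iv D7012) (iv F11631)
theorem F15217 : act 1 n9132 = n7065 := d6_1 D9132 (iv D7065) (iv F11632)
theorem F15218 : act 4 n9132 = n7030 := d12_2 D7011 D9132 (iv D7030) (iv D5343) (iv F8765)
def n9133 : Q := act 5 n7011
theorem D9133 : act 5 n7011 = n9133 := rfl
theorem F15219 : act 0 n9133 = n7013 := d4_1 D9133 (iv D7013) (iv F11631)
theorem F15220 : act 1 n9133 = n7066 := d8_1 D9133 (iv D7066) (iv F11632)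
theorem F15221 : act 4 n9133 = n7029 := d14_1 D9133 (iv D7029) (iv D5342) (iv F8766) D7011
def n9134 : Q := act 2 n7012
theorem D9134 : act 2 n7012 = n9134 := rfl
theorem F15222 : act 4 n9134 = n7035 := d10_2 (iv F11634) D9134 (iv D7035)
def n9135 : Q := act 1 n7014
theorem D9135 : act 1 n7014 = n9135 := rfl
theorem F15223 : act 2 n9135 = n7076 := d5_2 D7014 D9135 (iv D7076) (iv D5380) (iv F8784)
theorem F15224 : act 4 n9135 = n7223 := d7_2 (iv F11638) D9135 (iv D7223)
theorem F15225 : act 5 n9135 = n7434 := d8_2 F15183 D9135 (iv F15182)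
def n9136 : Q := act 3 n7014
theorem D9136 : act 3 n7014 = n9136 := rfl
theorem F15226 : act 0 n9136 = n7016 := d2_1 D9136 (iv D7016) (iv F11637)
def n9137 : Q := act 0 n7015
theorem D9137 : act 0 n7015 = n9137 := rfl
theorem F15227 : act 2 n9137 = n7017 := d1_2 (iv F11639) D9137 (iv D7017)
theorem F15228 : act 4 n9137 = n7227 := d3_2 (iv F11640) D9137 (iv D7227)
def n9138 : Q := act 3 n7015
theorem D9138 : act 3 n7015 = n9138 := rfl
theorem F15229 : act 1 n9138 = n7016 := d6_1 D9138 (iv D7016) D7015
def n9139 : Q := act 2 n7016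
theorem D9139 : act 2 n7016 = n9139 := rfl
theorem F15230 : act 5 n9139 = n7405 := d11_2 F15214 D9139 (iv F15215)
theorem F15231 : act 3 n9139 = n7406 := d15_3 D5332 D7016 D9139 F12288 F9299 (iv F8752) D6998 F11610 F8783
def n9140 : Q := act 4 n7016
theorem D9140 : act 4 n7016 = n9140 := rfl
theorem F15232 : act 3 n9140 = n7231 := d12_1 D9140 (iv D7231) (iv D5506) (iv F8786) D7016
def n9141 : Q := act 1 n7018
theorem D9141 : act 1 n7018 = n9141 := rfl
theorem F15233 : act 0 n9141 = n7190 := d0_1 D9141 F11938 F9034 (iv F8795) (iv F11643)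
theorem F15234 : act 2 n9141 = n7728 := d5_2 D7018 D9141 (iv D7728) (iv D5890) (iv F8789)
theorem F15235 : act 3 n9141 = n7189 := d6_2 F15191 D9141 F15193
theorem F15236 : act 5 n9141 = n7194 := d8_2 (iv F11644) D9141 F11949
def n9142 : Q := act 4 n7018
theorem D9142 : act 4 n7018 = n9142 := rfl
theorem F15237 : act 0 n9142 = n7022 := d3_1 D9142 (iv D7022) (iv F11643)
theorem F15238 : act 2 n9142 = n7019 := d10_1 D9142 (iv D7019) D7018
def n9143 : Q := act 5 n7019
theorem D9143 : act 5 n7019 = n9143 := rfl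
theorem F15239 : act 0 n9143 = n7023 := d4_1 D9143 (iv D7023) (iv F11645)
theorem F15240 : act 1 n9143 = n7731 := d8_1 D9143 (iv D7731) (iv F11646)
theorem F15241 : act 4 n9143 = n7740 := d14_1 D9143 (iv D7740) (iv D5898) F8790 D7019
def n9144 : Q := act 3 n7020
theorem D9144 : act 3 n7020 = n9144 := rfl
theorem F15242 : act 0 n9144 = n7024 := d2_1 D9144 (iv D7024) (iv F11647)
theorem F15243 : act 1 n9144 = n7732 := d6_1 D9144 (iv D7732) (iv F11648)
theorem F15244 : act 4 n9144 = n7739 := d12_2 D7020 D9144 (iv D7739) (iv D5898) (iv F8794)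
def n9145 : Q := act 3 n7022
theorem D9145 : act 3 n7022 = n9145 := rfl
theorem F15245 : act 1 n9145 = n7202 := d6_1 D9145 (iv D7202) (iv F11652)
def n9146 : Q := act 5 n7022
theorem D9146 : act 5 n7022 = n9146 := rfl
theorem F15246 : act 1 n9146 = n7199 := d8_1 D9146 F11964 (iv F11652)
theorem F15247 : act 2 n9146 = n7023 := d11_1 D9146 (iv D7023) (iv F11653)
theorem F15248 : act 4 n9146 = n7197 := d14_1 D9146 (iv D7197) F9046 (iv F8796) D7022
def n9147 : Q := act 2 n7024
theorem D9147 : act 2 n7024 = n9147 := rfl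
theorem F15249 : act 4 n9147 = n7741 := d10_2 (iv F11657) D9147 (iv D7741)
def n9148 : Q := act 1 n7025
theorem D9148 : act 1 n7025 = n9148 := rfl
theorem F15250 : act 4 n9148 = n7743 := d7_2 (iv F11659) D9148 (iv D7743)
def n9149 : Q := act 3 n7026
theorem D9149 : act 3 n7026 = n9149 := rfl
theorem F15251 : act 0 n9149 = n7796 := d2_1 D9149 (iv F15165) F15162
theorem F15252 : act 1 n9149 = n7027 := d6_1 D9149 (iv D7027) D7026
theorem F15253 : act 2 n9149 = n7178 := d9_1 D9149 F11917 F9013 (iv F9684) F11671 (iv D7038) (iv F11596) D9105 F15158 (iv D7176) F9008 D5953 (iv F11830) F13172 F13170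
theorem F15254 : act 5 n9149 = n7177 := d13_2 (iv F15154) D9149 (iv F15155)
def n9150 : Q := act 4 n7026
theorem D9150 : act 4 n7026 = n9150 := rfl
theorem F15255 : act 1 n9150 = n7028 := d7_1 D9150 (iv D7028) D7026
def n9151 : Q := act 4 n7027
theorem D9151 : act 4 n7027 = n9151 := rfl
theorem F15256 : act 0 n9151 = n7032 := d3_1 D9151 (iv D7032) (iv F11660)
theorem F15257 : act 2 n9151 = n7200 := d10_1 D9151 (iv D7200) (iv F11661)
def n9152 : Q := act 3 n7028
theorem D9152 : act 3 n7028 = n9152 := rfl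
theorem F15258 : act 0 n9152 = n7033 := d2_1 D9152 (iv D7033) (iv F11662)
def n9153 : Q := act 5 n7028
theorem D9153 : act 5 n7028 = n9153 := rfl
theorem F15259 : act 0 n9153 = n7034 := d4_1 D9153 (iv D7034) (iv F11662)
theorem F15260 : act 2 n9153 = n7029 := d11_1 D9153 (iv D7029) (iv F11663)
def n9154 : Q := act 2 n7030
theorem D9154 : act 2 n7030 = n9154 := rfl
theorem F15261 : act 0 n9154 = n7035 := d1_1 D9154 (iv D7035) (iv F11665)
def n9155 : Q := act 1 n7031
theorem D9155 : act 1 n7031 = n9155 := rfl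
theorem F15262 : act 0 n9155 = n7191 := d0_1 D9155 F11940 F9037 (iv F9058) (iv F11666)
theorem F15263 : act 2 n9155 = n7802 := d5_2 D7031 D9155 (iv F14954) F14955 F11619
theorem F15264 : act 3 n9155 = n7194 := d6_2 (iv F11667) D9155 F11949
theorem F15265 : act 5 n9155 = n7189 := d8_2 F15192 D9155 F15193
def n9156 : Q := act 4 n7031
theorem D9156 : act 4 n7031 = n9156 := rfl
theorem F15266 : act 0 n9156 = n7200 := d3_1 D9156 (iv D7200) (iv F11666)
theorem F15267 : act 2 n9156 = n7032 := d10_1 D9156 (iv D7032) D7031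
def n9157 : Q := act 3 n7032
theorem D9157 : act 3 n7032 = n9157 := rfl
theorem F15268 : act 4 n9157 = n7033 := d12_2 D7032 D9157 (iv D7033) (iv D5345) D5344
def n9158 : Q := act 5 n7032
theorem D9158 : act 5 n7032 = n9158 := rfl
def n9159 : Q := act 2 n7033
theorem D9159 : act 2 n7033 = n9159 := rfl
def n9160 : Q := act 5 n7033
theorem D9160 : act 5 n7033 = n9160 := rfl
theorem F15269 : act 3 n9160 = n7034 := d13_1 D9160 (iv D7034) D7033
def n9161 : Q := act 1 n7035
theorem D9161 : act 1 n7035 = n9161 := rfl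
theorem F15270 : act 2 n9161 = n7036 := d5_2 D7035 D9161 (iv D7036) (iv D5348) (iv F8810)
def n9162 : Q := act 3 n7035
theorem D9162 : act 3 n7035 = n9162 := rfl
def n9163 : Q := act 0 n7036
theorem D9163 : act 0 n7036 = n9163 := rfl
def n9164 : Q := act 3 n7037
theorem D9164 : act 3 n7037 = n9164 := rfl
theorem F15271 : act 0 n9164 = n7038 := d2_1 D9164 (iv D7038) D7037
theorem F15272 : act 1 n9164 = n7047 := d6_1 D9164 (iv D7047) (iv F11669)
theorem F15273 : act 2 n9164 = n7142 := d9_1 D9164 (iv D7142) F8968 D5944 D7796 (iv F15165) F15164 F11675 F8953 (iv D4476) (iv F6716) D5461 D7177 (iv F15155) F15153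
theorem F15274 : act 5 n9164 = n7132 := d13_2 F13171 D9164 F13172
def n9165 : Q := act 4 n7037
theorem D9165 : act 4 n7037 = n9165 := rfl
theorem F15275 : act 0 n9165 = n7039 := d3_1 D9165 (iv D7039) D7037
theorem F15276 : act 1 n9165 = n7048 := d7_1 D9165 (iv D7048) (iv F11669)
def n9166 : Q := act 4 n7038
theorem D9166 : act 4 n7038 = n9166 := rfl
theorem F15277 : act 1 n9166 = n7041 := d7_1 D9166 (iv D7041) (iv F11670)
theorem F15278 : act 2 n9166 = n7752 := d10_1 D9166 (iv D7752) F11671
def n9167 : Q := act 3 n7039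
theorem D9167 : act 3 n7039 = n9167 := rfl
theorem F15279 : act 1 n9167 = n7042 := d6_1 D9167 (iv D7042) (iv F11673)
def n9168 : Q := act 5 n7039
theorem D9168 : act 5 n7039 = n9168 := rfl
theorem F15280 : act 1 n9168 = n7043 := d8_1 D9168 (iv D7043) (iv F11673)
def n9169 : Q := act 4 n7040
theorem D9169 : act 4 n7040 = n9169 := rfl
theorem F15281 : act 1 n9169 = n7044 := d7_1 D9169 (iv D7044) (iv F11674)
def n9170 : Q := act 3 n7041
theorem D9170 : act 3 n7041 = n9170 := rfl
theorem F15282 : act 0 n9170 = n7055 := d2_1 D9170 (iv D7055) (iv F11676)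
theorem F15283 : act 4 n9170 = n7042 := d12_2 D7041 D9170 (iv D7042) (iv D5351) D5350
def n9171 : Q := act 5 n7041
theorem D9171 : act 5 n7041 = n9171 := rfl
theorem F15284 : act 0 n9171 = n7056 := d4_1 D9171 (iv D7056) (iv F11676)
theorem F15285 : act 2 n9171 = n7138 := d11_1 D9171 F11839 (iv F11677)
theorem F15286 : act 4 n9171 = n7135 := d14_1 D9171 (iv D7135) (iv D5428) F8813 D7041
def n9172 : Q := act 2 n7042
theorem D9172 : act 2 n7042 = n9172 := rfl
theorem F15287 : act 0 n9172 = n7058 := d1_1 D9172 (iv D7058) (iv F11678)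
theorem F15288 : act 3 n9172 = n7085 := d15_1 D9172 F11746 F8878 F6613 (iv F6592) (iv F8835) (iv F11703) (iv D7059) (iv F11678)
theorem F15289 : act 5 n7084 = n9172 := d13_0 F15288 (iv D7085) D7084
def n9173 : Q := act 5 n7042
theorem D9173 : act 5 n7042 = n9173 := rfl
theorem F15290 : act 0 n9173 = n7059 := d4_1 D9173 (iv D7059) (iv F11678)
theorem F15291 : act 2 n9173 = n7084 := d11_1 D9173 F15289 (iv D9172)
theorem F15292 : act 3 n9173 = n7043 := d13_1 D9173 (iv D7043) D7042
def n9174 : Q := act 4 n7043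
theorem D9174 : act 4 n7043 = n9174 := rfl
theorem F15293 : act 0 n9174 = n7060 := d3_1 D9174 (iv D7060) (iv F11679)
theorem F15294 : act 2 n9174 = n7045 := d10_1 D9174 (iv D7045) (iv F11680)
theorem F15295 : act 5 n9174 = n7044 := d14_2 D7043 D9174 (iv D7044) (iv D5352) D5351
def n9175 : Q := act 3 n7044
theorem D9175 : act 3 n7044 = n9175 := rfl
theorem F15296 : act 0 n9175 = n7061 := d2_1 D9175 (iv D7061) (iv F11681)
theorem F15297 : act 4 n9175 = n7134 := d12_2 D7044 D9175 (iv D7134) (iv D5428) (iv F8818)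
def n9176 : Q := act 3 n7045
theorem D9176 : act 3 n7045 = n9176 := rfl
theorem F15298 : act 0 n9176 = n7062 := d2_1 D9176 (iv D7062) (iv F11683)
theorem F15299 : act 1 n9176 = n7226 := d6_1 D9176 (iv F15175) F15174
theorem F15300 : act 4 n9176 = n7074 := d12_2 D7045 D9176 (iv D7074) (iv D5378) (iv F8820)
theorem F15301 : act 5 n9176 = n7046 := d13_2 (iv F11684) D9176 (iv D7046)
theorem F15302 : act 2 n7437 = n9176 := d11_3 F15301 (iv F11687) D7437
def n9177 : Q := act 4 n7047
theorem D9177 : act 4 n7047 = n9177 := rfl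
theorem F15303 : act 0 n9177 = n7050 := d3_1 D9177 (iv D7050) (iv F11688)
def n9178 : Q := act 3 n7048
theorem D9178 : act 3 n7048 = n9178 := rfl
theorem F15304 : act 0 n9178 = n7051 := d2_1 D9178 (iv D7051) (iv F11689)
def n9179 : Q := act 5 n7048
theorem D9179 : act 5 n7048 = n9179 := rfl
theorem F15305 : act 0 n9179 = n7052 := d4_1 D9179 (iv D7052) (iv F11689)
theorem F15306 : act 2 n9179 = n7066 := d11_1 D9179 (iv D7066) (iv F11690)
def n9180 : Q := act 1 n7049
theorem D9180 : act 1 n7049 = n9180 := rfl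
theorem F15307 : act 0 n9180 = n7146 := d0_1 D9180 (iv D7146) (iv F10338) (iv F13152) F13151
theorem F15308 : act 2 n9180 = n7053 := d5_2 D7049 D9180 (iv D7053) (iv D5359) (iv F8826)
theorem F15309 : act 5 n9180 = n7123 := d8_2 F13190 D9180 (iv F13188)
def n9181 : Q := act 4 n7049
theorem D9181 : act 4 n7049 = n9181 := rfl
theorem F15310 : act 2 n9181 = n7050 := d10_1 D9181 (iv D7050) D7049
def n9182 : Q := act 3 n7050
theorem D9182 : act 3 n7050 = n9182 := rfl
theorem F15311 : act 1 n9182 = n7055 := d6_1 D9182 (iv D7055) (iv F11691)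
theorem F15312 : act 4 n9182 = n7051 := d12_2 D7050 D9182 (iv D7051) (iv D5358) D5357
def n9183 : Q := act 5 n7050
theorem D9183 : act 5 n7050 = n9183 := rfl
theorem F15313 : act 1 n9183 = n7056 := d8_1 D9183 (iv D7056) (iv F11691)
def n9184 : Q := act 2 n7051
theorem D9184 : act 2 n7051 = n9184 := rfl
def n9185 : Q := act 5 n7051
theorem D9185 : act 5 n7051 = n9185 := rfl
theorem F15314 : act 1 n9185 = n7059 := d8_1 D9185 (iv D7059) (iv F11692)
theorem F15315 : act 3 n9185 = n7052 := d13_1 D9185 (iv D7052) D7051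
def n9186 : Q := act 4 n7053
theorem D9186 : act 4 n7053 = n9186 := rfl
theorem F15316 : act 0 n9186 = n7750 := d3_1 D9186 (iv D7750) (iv F11695)
theorem F15317 : act 1 n9186 = n7054 := d7_1 D9186 (iv D7054) D7053
def n9187 : Q := act 5 n7054
theorem D9187 : act 5 n7054 = n9187 := rfl
theorem F15318 : act 0 n9187 = n7138 := d4_1 D9187 F11839 (iv F11698)
theorem F15319 : act 2 n9187 = n7056 := d11_1 D9187 (iv D7056) (iv F11699)
theorem F15320 : act 4 n9187 = n7127 := d14_1 D9187 (iv D7127) (iv D5422) F8831 D7054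
def n9188 : Q := act 2 n7055
theorem D9188 : act 2 n7055 = n9188 := rfl
theorem F15321 : act 4 n9188 = n7058 := d10_2 (iv F11700) D9188 (iv D7058)
def n9189 : Q := act 5 n7055
theorem D9189 : act 5 n7055 = n9189 := rfl
theorem F15322 : act 3 n9189 = n7056 := d13_1 D9189 (iv D7056) D7055
def n9190 : Q := act 4 n7056
theorem D9190 : act 4 n7056 = n9190 := rfl
theorem F15323 : act 0 n9190 = n7135 := d3_1 D9190 (iv F15286) F15284
theorem F15324 : act 2 n9190 = n7127 := d10_1 D9190 (iv F15320) F15319
theorem F15325 : act 5 n9190 = n7057 := d14_2 D7056 D9190 (iv D7057) (iv D5361) D5360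
def n9191 : Q := act 3 n7057
theorem D9191 : act 3 n7057 = n9191 := rfl
theorem F15326 : act 0 n9191 = n7134 := d2_1 D9191 (iv D7134) (iv F11701)
theorem F15327 : act 4 n9191 = n7061 := d12_2 D7057 D9191 (iv D7061) (iv D5364) (iv F8834)
def n9192 : Q := act 1 n7058
theorem D9192 : act 1 n7058 = n9192 := rfl
def n9193 : Q := act 3 n7058
theorem D9193 : act 3 n7058 = n9193 := rfl
theorem F15328 : act 0 n9193 = n7085 := d2_1 D9193 (iv F15288) F15287
theorem F15329 : act 2 n9193 = n7073 := d9_1 D9193 F11725 F8859 (iv F8820) (iv F11680) (iv F15292) F15291 (iv D7084) (iv D5386) (iv D4039) F4855 (iv F4834) (iv F6589) D5362 D7058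
theorem F15330 : act 5 n9193 = n7072 := d15_8 (iv D5386) (iv D4039) F4855 (iv F4834) (iv F6589) D5362 D7058 D9193 F11722
def n9194 : Q := act 5 n7058
theorem D9194 : act 5 n7058 = n9194 := rfl
theorem F15331 : act 0 n9194 = n7084 := d4_1 D9194 F15289 F15287
theorem F15332 : act 2 n9194 = n7059 := d11_1 D9194 (iv D7059) D7058
theorem F15333 : act 3 n9194 = n7072 := d13_1 D9194 (iv F15330) (iv D9193)
def n9195 : Q := act 4 n7059
theorem D9195 : act 4 n7059 = n9195 := rfl
def n9196 : Q := act 3 n7060
theorem D9196 : act 3 n7060 = n9196 := rfl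
theorem F15334 : act 5 n9196 = n7061 := d13_2 (iv F11705) D9196 (iv D7061)
def n9197 : Q := act 2 n7061
theorem D9197 : act 2 n7061 = n9197 := rfl
def n9198 : Q := act 2 n7062
theorem D9198 : act 2 n7062 = n9198 := rfl
theorem F15335 : act 0 n9198 = n7437 := d1_1 D9198 F15302 F15298
theorem F15336 : act 4 n9198 = n7089 := d10_2 (iv F11707) D9198 (iv D7089)
theorem F15337 : act 5 n9198 = n7063 := d11_2 (iv F11708) D9198 (iv D7063)
def n9199 : Q := act 1 n7063
theorem D9199 : act 1 n7063 = n9199 := rfl
theorem F15338 : act 2 n9199 = n7070 := d5_2 D7063 D9199 (iv D7070) (iv D5374) (iv F8839)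
theorem F15339 : act 4 n9199 = n7064 := d7_2 (iv F11710) D9199 (iv D7064)
def n9200 : Q := act 3 n7063
theorem D9200 : act 3 n7063 = n9200 := rfl
theorem F15340 : act 0 n9200 = n7429 := d2_1 D9200 F12315 (iv F11709)
theorem F15341 : act 4 n9200 = n7409 := d12_2 (iv F11710) D9200 (iv D7409) F9301 (iv F8843)
def n9201 : Q := act 0 n7064
theorem D9201 : act 0 n7064 = n9201 := rfl
theorem F15342 : act 1 n9201 = n7432 := d0_2 D7064 D9201 F12319 F9316 (iv F8841)
theorem F15343 : act 2 n9201 = n7071 := d1_2 (iv F11711) D9201 (iv D7071)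
theorem F15344 : act 3 n9201 = n7412 := d2_2 (iv F11712) D9201 (iv D7412)
theorem F15345 : act 5 n9201 = n7092 := d4_2 (iv F11713) D9201 (iv D7092)
def n9202 : Q := act 2 n7065
theorem D9202 : act 2 n7065 = n9202 := rfl
theorem F15346 : act 0 n9202 = n7067 := d1_1 D9202 (iv D7067) (iv F11714)
def n9203 : Q := act 5 n7065
theorem D9203 : act 5 n7065 = n9203 := rfl
theorem F15347 : act 0 n9203 = n7068 := d4_1 D9203 (iv D7068) (iv F11714)
theorem F15348 : act 3 n9203 = n7066 := d13_1 D9203 (iv D7066) D7065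
def n9204 : Q := act 1 n7067
theorem D9204 : act 1 n7067 = n9204 := rfl
theorem F15349 : act 2 n9204 = n7069 := d5_2 D7067 D9204 (iv D7069) (iv D5371) (iv F8845)
theorem F15350 : act 5 n7241 = n9204 := d11_0 F15349 F11719 D7241
def n9205 : Q := act 3 n7067
theorem D9205 : act 3 n7067 = n9205 := rfl
def n9206 : Q := act 5 n7067
theorem D9206 : act 5 n7067 = n9206 := rfl
theorem F15351 : act 1 n9206 = n7241 := d8_1 D9206 F15350 (iv D9204)
theorem F15352 : act 2 n9206 = n7068 := d11_1 D9206 (iv D7068) D7067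
def n9207 : Q := act 0 n7069
theorem D9207 : act 0 n7069 = n9207 := rfl
theorem F15353 : act 3 n9207 = n7239 := d2_2 (iv F11718) D9207 (iv D7239)
theorem F15354 : act 5 n9207 = n7240 := d4_2 (iv F11719) D9207 F11999
def n9208 : Q := act 0 n7070
theorem D9208 : act 0 n7070 = n9208 := rfl
theorem F15355 : act 4 n9208 = n7071 := d3_2 (iv F11720) D9208 (iv D7071)
def n9209 : Q := act 1 n7072
theorem D9209 : act 1 n7072 = n9209 := rfl
theorem F15356 : act 4 n9209 = n7253 := d7_2 (iv F11723) D9209 (iv D7253)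
def n9210 : Q := act 4 n7073
theorem D9210 : act 4 n7073 = n9210 := rfl
theorem F15357 : act 0 n9210 = n7086 := d3_1 D9210 (iv D7086) (iv F11724)
theorem F15358 : act 5 n9210 = n7256 := d14_2 D7073 D9210 (iv D7256) (iv D5526) (iv F8857)
def n9211 : Q := act 2 n7074
theorem D9211 : act 2 n7074 = n9211 := rfl
theorem F15359 : act 0 n9211 = n7089 := d1_1 D9211 (iv D7089) (iv F11726)
theorem F15360 : act 4 n9211 = n7437 := d10_2 F15300 D9211 F15302
theorem F15361 : act 5 n9211 = n7075 := d11_2 (iv F11728) D9211 (iv D7075)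
def n9212 : Q := act 1 n7075
theorem D9212 : act 1 n7075 = n9212 := rfl
theorem F15362 : act 2 n9212 = n7223 := d5_2 D7075 D9212 (iv D7223) (iv D5503) (iv F8864)
theorem F15363 : act 4 n9212 = n7076 := d7_2 (iv F11730) D9212 (iv D7076)
def n9213 : Q := act 3 n7075
theorem D9213 : act 3 n7075 = n9213 := rfl
theorem F15364 : act 0 n9213 = n7091 := d2_1 D9213 (iv D7091) (iv F11729)
theorem F15365 : act 4 n9213 = n7438 := d12_2 (iv F11730) D9213 (iv D7438) (iv D5656) (iv F8867)
def n9214 : Q := act 0 n7076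
theorem D9214 : act 0 n7076 = n9214 := rfl
theorem F15366 : act 1 n9214 = n7092 := d0_2 D7076 D9214 (iv D7092) (iv D5392) (iv F8866)
theorem F15367 : act 3 n9214 = n7433 := d2_2 (iv F11731) D9214 F12320
theorem F15368 : act 5 n9214 = n7432 := d4_2 (iv F11732) D9214 F12319
def n9215 : Q := act 2 n7077
theorem D9215 : act 2 n7077 = n9215 := rfl
theorem F15369 : act 4 n9215 = n7079 := d10_2 (iv F11734) D9215 (iv D7079)
def n9216 : Q := act 5 n7077
theorem D9216 : act 5 n7077 = n9216 := rfl
theorem F15370 : act 1 n9216 = n7082 := d8_1 D9216 (iv D7082) (iv F11733)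
theorem F15371 : act 3 n9216 = n7078 := d13_1 D9216 (iv D7078) D7077
def n9217 : Q := act 1 n7079
theorem D9217 : act 1 n7079 = n9217 := rfl
theorem F15372 : act 2 n9217 = n7083 := d5_2 D7079 D9217 (iv D7083) (iv D5386) (iv F8870)
def n9218 : Q := act 3 n7079
theorem D9218 : act 3 n7079 = n9218 := rfl
def n9219 : Q := act 5 n7079
theorem D9219 : act 5 n7079 = n9219 := rfl
theorem F15373 : act 2 n9219 = n7080 := d11_1 D9219 (iv D7080) D7079
def n9220 : Q := act 4 n7080
theorem D9220 : act 4 n7080 = n9220 := rfl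
theorem F15374 : act 1 n9220 = n7086 := d7_1 D9220 (iv D7086) (iv F11737)
theorem F15375 : act 3 n9220 = n7212 := d12_1 D9220 (iv D7212) F9065 (iv F8873) (iv F11738)
def n9221 : Q := act 1 n7081
theorem D9221 : act 1 n7081 = n9221 := rfl
theorem F15376 : act 3 n9221 = n7378 := d6_2 (iv F11741) D9221 F12251
theorem F15377 : act 4 n9221 = n7083 := d7_2 (iv F11740) D9221 (iv D7083)
theorem F15378 : act 5 n9221 = n7377 := d8_2 F11742 D9221 F12250
def n9222 : Q := act 4 n7082
theorem D9222 : act 4 n7082 = n9222 := rfl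
theorem F15379 : act 0 n9222 = n7256 := d3_1 D9222 (iv D7256) (iv F11743)
theorem F15380 : act 2 n9222 = n7379 := d10_1 D9222 (iv D7379) (iv F11744)
theorem F15381 : act 5 n9222 = n7086 := d14_2 D7082 D9222 (iv D7086) (iv D5387) (iv F8875)
def n9223 : Q := act 0 n7083
theorem D9223 : act 0 n7083 = n9223 := rfl
def n9224 : Q := act 3 n7083
theorem D9224 : act 3 n7083 = n9224 := rfl
theorem F15382 : act 1 n9224 = n7084 := d6_1 D9224 (iv D7084) D7083
def n9225 : Q := act 5 n7083
theorem D9225 : act 5 n7083 = n9225 := rfl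
theorem F15383 : act 1 n9225 = n7085 := d8_1 D9225 (iv D7085) D7083
def n9226 : Q := act 4 n7084
theorem D9226 : act 4 n7084 = n9226 := rfl
theorem F15384 : act 3 n9226 = n7380 := d12_1 D9226 (iv D7380) (iv F11741) F11740 D7084
def n9227 : Q := act 4 n7085
theorem D9227 : act 4 n7085 = n9227 := rfl
theorem F15385 : act 2 n9227 = n7086 := d10_1 D9227 (iv D7086) (iv F11746)
theorem F15386 : act 5 n9227 = n7379 := d14_2 D7085 D9227 (iv D7379) F11742 F11740
def n9228 : Q := act 3 n7086
theorem D9228 : act 3 n7086 = n9228 := rfl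
theorem F15387 : act 1 n9228 = n7212 := d6_1 D9228 (iv F15375) F15374
theorem F15388 : act 4 n9228 = n7087 := d12_2 D7086 D9228 (iv D7087) (iv D5388) (iv F8878)
def n9229 : Q := act 2 n7087
theorem D9229 : act 2 n7087 = n9229 := rfl
theorem F15389 : act 5 n9229 = n7088 := d11_2 (iv F11748) D9229 (iv D7088)
def n9230 : Q := act 1 n7088
theorem D9230 : act 1 n7088 = n9230 := rfl
theorem F15390 : act 2 n9230 = n7209 := d5_2 D7088 D9230 (iv D7209) (iv D5492) (iv F8882)
def n9231 : Q := act 3 n7088
theorem D9231 : act 3 n7088 = n9231 := rfl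
def n9232 : Q := act 3 n7089
theorem D9232 : act 3 n7089 = n9232 := rfl
theorem F15391 : act 5 n9232 = n7091 := d13_2 (iv F11749) D9232 (iv D7091)
def n9233 : Q := act 0 n7090
theorem D9233 : act 0 n7090 = n9233 := rfl
theorem F15392 : act 2 n9233 = n7097 := d1_2 (iv F11750) D9233 (iv D7097)
theorem F15393 : act 4 n9233 = n7092 := d3_2 (iv F11751) D9233 (iv D7092)
def n9234 : Q := act 3 n7090
theorem D9234 : act 3 n7090 = n9234 := rfl
theorem F15394 : act 1 n9234 = n7091 := d6_1 D9234 (iv D7091) D7090
def n9235 : Q := act 2 n7091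
theorem D9235 : act 2 n7091 = n9235 := rfl
def n9236 : Q := act 4 n7091
theorem D9236 : act 4 n7091 = n9236 := rfl
theorem F15395 : act 0 n9236 = n7438 := d3_1 D9236 (iv F15365) F15364
theorem F15396 : act 3 n9236 = n7094 := d12_1 D9236 (iv D7094) (iv D5393) (iv F8885) D7091
def n9237 : Q := act 3 n7092
theorem D9237 : act 3 n7092 = n9237 := rfl
theorem F15397 : act 0 n9237 = n7093 := d2_1 D9237 (iv D7093) D7092
theorem F15398 : act 1 n9237 = n7433 := d6_1 D9237 (iv F15367) F15366
theorem F15399 : act 5 n9237 = n7412 := d13_2 F15345 D9237 (iv F15344)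
def n9238 : Q := act 2 n7093
theorem D9238 : act 2 n7093 = n9238 := rfl
theorem F15400 : act 1 n9238 = n7406 := d5_1 D9238 F12288 F9298 (iv F8888) (iv F11753)
theorem F15401 : act 5 n9238 = n7404 := d11_2 (iv F11754) D9238 F12287
def n9239 : Q := act 4 n7093
theorem D9239 : act 4 n7093 = n9239 := rfl
theorem F15402 : act 1 n9239 = n7094 := d7_1 D9239 (iv D7094) (iv F11753)
def n9240 : Q := act 5 n7094
theorem D9240 : act 5 n7094 = n9240 := rfl
theorem F15403 : act 0 n9240 = n7431 := d4_1 D9240 F12318 (iv F11755)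
theorem F15404 : act 2 n9240 = n7411 := d11_1 D9240 F12297 (iv F11756)
theorem F15405 : act 4 n9240 = n7410 := d14_1 D9240 (iv D7410) F9301 (iv F8889) D7094
def n9241 : Q := act 2 n7095
theorem D9241 : act 2 n7095 = n9241 := rfl
def n9242 : Q := act 4 n7095
theorem D9242 : act 4 n7095 = n9242 := rfl
theorem F15406 : act 3 n9242 = n7213 := d12_1 D9242 (iv D7213) (iv D5494) (iv F8890) D7095
def n9243 : Q := act 5 n7095
theorem D9243 : act 5 n7095 = n9243 := rfl
theorem F15407 : act 3 n9243 = n7096 := d13_1 D9243 (iv D7096) D7095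
def n9244 : Q := act 2 n7098
theorem D9244 : act 2 n7098 = n9244 := rfl
theorem F15408 : act 0 n9244 = n7099 := d1_1 D9244 (iv D7099) (iv F11760)
def n9245 : Q := act 4 n7098
theorem D9245 : act 4 n7098 = n9245 := rfl
theorem F15409 : act 0 n9245 = n7100 := d3_1 D9245 (iv D7100) (iv F11760)
def n9246 : Q := act 3 n7099
theorem D9246 : act 3 n7099 = n9246 := rfl
def n9247 : Q := act 4 n7099
theorem D9247 : act 4 n7099 = n9247 := rfl
theorem F15410 : act 2 n9247 = n7100 := d10_1 D9247 (iv D7100) D7099
def n9248 : Q := act 4 n7102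
theorem D9248 : act 4 n7102 = n9248 := rfl
theorem F15411 : act 1 n9248 = n7103 := d7_1 D9248 (iv D7103) (iv F11764)
def n9249 : Q := act 5 n7103
theorem D9249 : act 5 n7103 = n9249 := rfl
def n9250 : Q := act 4 n7104
theorem D9250 : act 4 n7104 = n9250 := rfl
theorem F15412 : act 0 n9250 = n7119 := d3_1 D9250 (iv D7119) (iv F11766)
theorem F15413 : act 1 n9250 = n7734 := d7_1 D9250 (iv D7734) (iv F11767)
theorem F15414 : act 2 n9250 = n7116 := d10_1 D9250 (iv D7116) (iv F11768)
def n9251 : Q := act 3 n7105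
theorem D9251 : act 3 n7105 = n9251 := rfl
theorem F15415 : act 1 n9251 = n7735 := d6_1 D9251 (iv D7735) (iv F11770)
def n9252 : Q := act 2 n7106
theorem D9252 : act 2 n7106 = n9252 := rfl
theorem F15416 : act 0 n9252 = n7531 := d1_1 D9252 F12465 (iv F11772)
theorem F15417 : act 4 n9252 = n7107 := d10_2 (iv F11774) D9252 (iv D7107)
theorem F15418 : act 5 n9252 = n8586 := d11_2 (iv F11775) D9252 F14230
def n9253 : Q := act 1 n7107
theorem D9253 : act 1 n7107 = n9253 := rfl
theorem F15419 : act 2 n9253 = n7114 := d5_2 D7107 D9253 (iv D7114) (iv D5411) (iv F8901)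
theorem F15420 : act 5 n9253 = n7321 := d8_2 (iv F11777) D9253 (iv D7321)
def n9254 : Q := act 3 n7107
theorem D9254 : act 3 n7107 = n9254 := rfl
theorem F15421 : act 0 n9254 = n7323 := d2_1 D9254 F12156 (iv F11776)
theorem F15422 : act 2 n9254 = n7319 := d9_1 D9254 (iv D7319) (iv D5573) (iv D4188) F5077 D3195 D4305 D5727 (iv F11805) (iv D7121) (iv D5417) (iv D4063) (iv F6634) D5404 D7107
theorem F15423 : act 5 n9254 = n7322 := d13_2 (iv F11777) D9254 (iv D7322)
def n9255 : Q := act 3 n7108
theorem D9255 : act 3 n7108 = n9255 := rfl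
theorem F15424 : act 0 n9255 = n7109 := d2_1 D9255 (iv D7109) (iv F11778)
theorem F15425 : act 1 n9255 = n7739 := d6_1 D9255 (iv D7739) (iv F11779)
theorem F15426 : act 4 n9255 = n7732 := d12_2 D7108 D9255 (iv D7732) (iv D5892) (iv F8904)
def n9256 : Q := act 5 n7108
theorem D9256 : act 5 n7108 = n9256 := rfl
theorem F15427 : act 0 n9256 = n7110 := d4_1 D9256 (iv D7110) (iv F11778)
theorem F15428 : act 1 n9256 = n7740 := d8_1 D9256 (iv D7740) (iv F11779)
theorem F15429 : act 4 n9256 = n7731 := d14_1 D9256 (iv D7731) (iv D5891) (iv F8905) D7108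
def n9257 : Q := act 2 n7109
theorem D9257 : act 2 n7109 = n9257 := rfl
theorem F15430 : act 4 n9257 = n7737 := d10_2 (iv F11781) D9257 (iv D7737)
def n9258 : Q := act 5 n7109
theorem D9258 : act 5 n7109 = n9258 := rfl
theorem F15431 : act 1 n9258 = n7112 := d8_1 D9258 (iv D7112) (iv F11780)
theorem F15432 : act 3 n9258 = n7110 := d13_1 D9258 (iv D7110) D7109
def n9259 : Q := act 1 n7111
theorem D9259 : act 1 n7111 = n9259 := rfl
theorem F15433 : act 3 n9259 = n7747 := d6_2 (iv F11785) D9259 F12783
theorem F15434 : act 4 n9259 = n7738 := d7_2 (iv F11786) D9259 (iv D7738)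
theorem F15435 : act 5 n9259 = n7746 := d8_2 F11787 D9259 F12782
def n9260 : Q := act 4 n7112
theorem D9260 : act 4 n7112 = n9260 := rfl
theorem F15436 : act 0 n9260 = n7744 := d3_1 D9260 (iv D7744) (iv F11788)
theorem F15437 : act 2 n9260 = n7748 := d10_1 D9260 (iv D7748) (iv F11789)
theorem F15438 : act 3 n9260 = n7725 := d12_1 D9260 (iv D7725) F9656 (iv F8911) (iv F11790)
theorem F15439 : act 5 n9260 = n7726 := d14_2 D7112 D9260 F12760 F9659 (iv F8908)
def n9261 : Q := act 1 n7113
theorem D9261 : act 1 n7113 = n9261 := rfl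
theorem F15440 : act 4 n9261 = n7114 := d7_2 (iv F11792) D9261 (iv D7114)
def n9262 : Q := act 0 n7114
theorem D9262 : act 0 n7114 = n9262 := rfl
theorem F15441 : act 1 n9262 = n7538 := d0_2 D7114 D9262 F12476 F9437 (iv F8917)
theorem F15442 : act 3 n9262 = n7532 := d2_2 (iv F11793) D9262 (iv D7532)
theorem F15443 : act 5 n9262 = n7532 := d4_2 (iv F11794) D9262 (iv D7532)
def n9263 : Q := act 2 n7115
theorem D9263 : act 2 n7115 = n9263 := rfl
theorem F15444 : act 1 n9263 = n7733 := d5_1 D9263 (iv D7733) (iv F11767) F11768 (iv F11795)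
def n9264 : Q := act 4 n7115
theorem D9264 : act 4 n7115 = n9264 := rfl
theorem F15445 : act 1 n9264 = n7116 := d7_1 D9264 (iv D7116) (iv F11795)
theorem F15446 : act 3 n9264 = n7750 := d12_1 D9264 (iv D7750) (iv D5907) (iv F8921) D7115
def n9265 : Q := act 5 n7116
theorem D9265 : act 5 n7116 = n9265 := rfl
theorem F15447 : act 0 n9265 = n7120 := d4_1 D9265 (iv D7120) (iv F11796)
theorem F15448 : act 3 n9265 = n7751 := d13_1 D9265 (iv D7751) (iv F11797)
def n9266 : Q := act 1 n7117
theorem D9266 : act 1 n7117 = n9266 := rfl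
theorem F15449 : act 0 n9266 = n7312 := d0_1 D9266 (iv D7312) F9184 (iv F8928) (iv F11798)
theorem F15450 : act 2 n9266 = n7309 := d5_2 D7117 D9266 F12132 F9179 (iv F8924)
theorem F15451 : act 4 n9266 = n7449 := d7_2 (iv F11799) D9266 (iv D7449)
theorem F15452 : act 5 n9266 = n7318 := d8_2 (iv F11800) D9266 (iv D7318)
def n9267 : Q := act 3 n7117
theorem D9267 : act 3 n7117 = n9267 := rfl
theorem F15453 : act 0 n9267 = n7121 := d2_1 D9267 (iv D7121) (iv F11798)
theorem F15454 : act 2 n9267 = n7322 := d9_1 D9267 (iv D7322) (iv D5575) (iv D4191) F5084 D3110 D4192 D5576 D7323 F12156 F9425 F7046 (iv F6650) D5414 D7117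
theorem F15455 : act 5 n9267 = n7319 := d13_2 (iv F11800) D9267 (iv D7319)
def n9268 : Q := act 0 n7118
theorem D9268 : act 0 n7118 = n9268 := rfl
theorem F15456 : act 1 n9268 = n7729 := d0_2 D7118 D9268 F12763 (iv F11767) F11766
theorem F15457 : act 3 n9268 = n7728 := d2_2 F14083 D9268 (iv F14080)
def n9269 : Q := act 4 n7118
theorem D9269 : act 4 n7118 = n9269 := rfl
theorem F15458 : act 1 n9269 = n7119 := d7_1 D9269 (iv D7119) D7118
def n9270 : Q := act 3 n7119
theorem D9270 : act 3 n7119 = n9270 := rfl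
def n9271 : Q := act 5 n7119
theorem D9271 : act 5 n7119 = n9271 := rfl
theorem F15459 : act 2 n9271 = n7120 := d11_1 D9271 (iv D7120) (iv F11801)
def n9272 : Q := act 4 n7121
theorem D9272 : act 4 n7121 = n9272 := rfl
theorem F15460 : act 1 n9272 = n7316 := d7_1 D9272 (iv D7316) (iv F11803)
theorem F15461 : act 2 n9272 = n7530 := d10_1 D9272 (iv D7530) (iv F11805)
theorem F15462 : act 3 n9272 = n7452 := d12_1 D9272 (iv D7452) (iv D5664) (iv F8929) D7121
def n9273 : Q := act 3 n7122
theorem D9273 : act 3 n7122 = n9273 := rfl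
theorem F15463 : act 0 n9273 = n7125 := d2_1 D9273 (iv D7125) (iv F11806)
theorem F15464 : act 1 n9273 = n7128 := d6_1 D9273 (iv D7128) (iv F11807)
theorem F15465 : act 4 n9273 = n7816 := d12_2 D7122 D9273 (iv D7816) (iv D5962) F8932
theorem F15466 : act 5 n9273 = n7413 := d13_2 (iv F11809) D9273 (iv D7413)
def n9274 : Q := act 4 n7123
theorem D9274 : act 4 n7123 = n9274 := rfl
theorem F15467 : act 0 n9274 = n7813 := d3_1 D9274 (iv D7813) (iv F11810)
theorem F15468 : act 2 n9274 = n7124 := d10_1 D9274 (iv D7124) D7123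
def n9275 : Q := act 3 n7124
theorem D9275 : act 3 n7124 = n9275 := rfl
theorem F15469 : act 0 n9275 = n7816 := d2_1 D9275 (iv D7816) (iv F11811)
theorem F15470 : act 1 n9275 = n7126 := d6_1 D9275 (iv D7126) (iv F11812)
theorem F15471 : act 4 n9275 = n7125 := d12_2 D7124 D9275 (iv D7125) (iv D5420) D5419
def n9276 : Q := act 5 n7124
theorem D9276 : act 5 n7124 = n9276 := rfl
theorem F15472 : act 0 n9276 = n7817 := d4_1 D9276 (iv D7817) (iv F11811)
theorem F15473 : act 1 n9276 = n7127 := d8_1 D9276 (iv D7127) (iv F11812)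
def n9277 : Q := act 2 n7125
theorem D9277 : act 2 n7125 = n9277 := rfl
theorem F15474 : act 1 n9277 = n7391 := d5_1 D9277 (iv D7391) F9280 (iv F8944) (iv F11813)
theorem F15475 : act 5 n9277 = n7414 := d11_2 (iv F11814) D9277 (iv D7414)
def n9278 : Q := act 5 n7126
theorem D9278 : act 5 n7126 = n9278 := rfl
theorem F15476 : act 0 n9278 = n7137 := d4_1 D9278 (iv D7137) (iv F11815)
theorem F15477 : act 2 n9278 = n7393 := d11_1 D9278 (iv D7393) F11817
theorem F15478 : act 3 n9278 = n7127 := d13_1 D9278 (iv D7127) D7126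
theorem F15479 : act 4 n9278 = n7416 := d14_1 D9278 (iv D7416) (iv D5642) (iv F8943) (iv F11816)
def n9279 : Q := act 2 n7128
theorem D9279 : act 2 n7128 = n9279 := rfl
theorem F15480 : act 0 n9279 = n7131 := d1_1 D9279 (iv D7131) (iv F11819)
theorem F15481 : act 4 n9279 = n7818 := d10_2 (iv F11820) D9279 (iv D7818)
theorem F15482 : act 5 n9279 = n7439 := d11_2 (iv F11821) D9279 (iv D7439)
theorem F15483 : act 3 n9279 = n7451 := d15_1 D9279 (iv D7451) (iv D5664) (iv D4262) (iv D3160) (iv F5162) D4258 (iv F8952) (iv F11819)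
def n9280 : Q := act 2 n7129
theorem D9280 : act 2 n7129 = n9280 := rfl
theorem F15484 : act 0 n9280 = n7818 := d1_1 D9280 (iv D7818) (iv F11822)
theorem F15485 : act 4 n9280 = n7131 := d10_2 (iv F11824) D9280 (iv D7131)
def n9281 : Q := act 5 n7129
theorem D9281 : act 5 n7129 = n9281 := rfl
theorem F15486 : act 0 n9281 = n7819 := d4_1 D9281 (iv D7819) (iv F11822)
theorem F15487 : act 1 n9281 = n7137 := d8_1 D9281 (iv D7137) (iv F11823)
theorem F15488 : act 3 n9281 = n7130 := d13_1 D9281 (iv D7130) D7129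
theorem F15489 : act 4 n9281 = n7444 := d14_1 D9281 (iv D7444) (iv D5659) (iv F8952) (iv F11824)
def n9282 : Q := act 1 n7131
theorem D9282 : act 1 n7131 = n9282 := rfl
theorem F15490 : act 2 n9282 = n7139 := d5_2 D7131 D9282 (iv D7139) (iv D5432) (iv F8951)
theorem F15491 : act 5 n9282 = n7441 := d8_2 (iv F11829) D9282 (iv D7441)
def n9283 : Q := act 3 n7131
theorem D9283 : act 3 n7131 = n9283 := rfl
theorem F15492 : act 0 n9283 = n7451 := d2_1 D9283 (iv F15483) F15480
theorem F15493 : act 5 n9283 = n7442 := d13_2 (iv F11829) D9283 (iv D7442)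
theorem F15494 : act 2 n9283 = n7450 := d15_2 D7131 D9283 (iv D7450) (iv D5663) (iv D4261) (iv F6970) D5657 (iv F11821) F11819
def n9284 : Q := act 4 n7132
theorem D9284 : act 4 n7132 = n9284 := rfl
theorem F15495 : act 0 n9284 = n7133 := d3_1 D9284 (iv D7133) D7132
theorem F15496 : act 2 n9284 = n7809 := d10_1 D9284 (iv D7809) (iv F11830)
def n9285 : Q := act 3 n7133
theorem D9285 : act 3 n7133 = n9285 := rfl
theorem F15497 : act 1 n9285 = n7134 := d6_1 D9285 (iv D7134) (iv F11831)
def n9286 : Q := act 5 n7133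
theorem D9286 : act 5 n7133 = n9286 := rfl
theorem F15498 : act 1 n9286 = n7135 := d8_1 D9286 (iv D7135) (iv F11831)
theorem F15499 : act 2 n9286 = n7810 := d11_1 D9286 (iv D7810) (iv F11832)
def n9287 : Q := act 2 n7134
theorem D9287 : act 2 n7134 = n9287 := rfl
def n9288 : Q := act 5 n7134
theorem D9288 : act 5 n7134 = n9288 := rfl
theorem F15500 : act 3 n9288 = n7135 := d13_1 D9288 (iv D7135) D7134
def n9289 : Q := act 1 n7136
theorem D9289 : act 1 n7136 = n9289 := rfl
theorem F15501 : act 4 n9289 = n7139 := d7_2 (iv F11835) D9289 (iv D7139)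
def n9290 : Q := act 3 n7136
theorem D9290 : act 3 n7136 = n9290 := rfl
theorem F15502 : act 0 n9290 = n7389 := d2_1 D9290 F12264 (iv F11834)
theorem F15503 : act 4 n9290 = n7360 := d12_2 (iv F11835) D9290 (iv D7360) F9247 (iv F8959)
def n9291 : Q := act 5 n7136
theorem D9291 : act 5 n7136 = n9291 := rfl
theorem F15504 : act 0 n9291 = n7393 := d4_1 D9291 (iv D7393) (iv F11834)
theorem F15505 : act 2 n9291 = n7137 := d11_1 D9291 (iv D7137) D7136
theorem F15506 : act 4 n9291 = n7448 := d14_1 D9291 (iv D7448) (iv D5661) (iv F8958) (iv F11835)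
def n9292 : Q := act 0 n7139
theorem D9292 : act 0 n7139 = n9292 := rfl
theorem F15507 : act 1 n9292 = n7390 := d0_2 D7139 D9292 F12265 F9280 (iv F8957)
theorem F15508 : act 3 n9292 = n7361 := d2_2 (iv F11840) D9292 (iv D7361)
theorem F15509 : act 5 n9292 = n7445 := d4_2 (iv F11841) D9292 (iv D7445)
def n9293 : Q := act 1 n7140
theorem D9293 : act 1 n7140 = n9293 := rfl
theorem F15510 : act 0 n9293 = n7257 := d0_1 D9293 (iv D7257) F9100 (iv F8964) (iv F11842)
theorem F15511 : act 2 n9293 = n7449 := d5_2 D7140 D9293 (iv D7449) (iv D5663) (iv F8961)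
theorem F15512 : act 4 n9293 = n7309 := d7_2 (iv F11843) D9293 F12132
theorem F15513 : act 5 n9293 = n7449 := d8_2 (iv F11844) D9293 (iv D7449)
theorem F15514 : act 3 n8575 = n9293 := d2_0 F15510 F12020 D8575
def n9294 : Q := act 3 n7140
theorem D9294 : act 3 n7140 = n9294 := rfl
theorem F15515 : act 0 n9294 = n7141 := d2_1 D9294 (iv D7141) (iv F11842)
theorem F15516 : act 1 n9294 = n8575 := d6_1 D9294 F15514 (iv D9293)
theorem F15517 : act 2 n9294 = n7442 := d9_1 D9294 (iv D7442) (iv D5658) (iv D4258) F5162 D3160 D4262 D5664 D7451 (iv F15483) (iv D9279) (iv D7128) F8946 D5433 D7140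
theorem F15518 : act 4 n9294 = n7305 := d12_2 (iv F11843) D9294 (iv D7305) F9176 D5566
theorem F15519 : act 5 n9294 = n7450 := d13_2 (iv F11844) D9294 (iv D7450)
def n9295 : Q := act 2 n7141
theorem D9295 : act 2 n7141 = n9295 := rfl
theorem F15520 : act 0 n9295 = n7442 := d1_1 D9295 (iv F15517) F15515
theorem F15521 : act 1 n9295 = n8546 := d5_1 D9295 (iv D8546) F10847 (iv F9106) (iv F11845)
theorem F15522 : act 3 n9295 = n7439 := d9_2 D7141 D9295 (iv D7439) (iv D5657) F6970 D4261 D5663 D7450 (iv F15494) (iv D9283) (iv D7131) (iv D5426) F6669 D4076 D5434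
theorem F15523 : act 5 n9295 = n7451 := d11_2 (iv F11846) D9295 (iv D7451)
def n9296 : Q := act 4 n7141
theorem D9296 : act 4 n7141 = n9296 := rfl
theorem F15524 : act 0 n9296 = n7305 := d3_1 D9296 (iv F15518) F15515
theorem F15525 : act 1 n9296 = n7258 := d7_1 D9296 (iv D7258) (iv F11845)
theorem F15526 : act 3 n9296 = n7289 := d12_1 D9296 F12101 F9152 (iv F8965) D7141
def n9297 : Q := act 4 n7142
theorem D9297 : act 4 n7142 = n9297 := rfl
theorem F15527 : act 0 n9297 = n7752 := d3_1 D9297 (iv D7752) (iv F11847)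
theorem F15528 : act 1 n9297 = n7144 := d7_1 D9297 (iv D7144) (iv F11848)
def n9298 : Q := act 3 n7143
theorem D9298 : act 3 n7143 = n9298 := rfl
theorem F15529 : act 0 n9298 = n7811 := d2_1 D9298 (iv D7811) (iv F11850)
theorem F15530 : act 1 n9298 = n7145 := d6_1 D9298 (iv D7145) (iv F11851)
theorem F15531 : act 5 n9298 = n7156 := d13_2 (iv F11853) D9298 (iv D7156)
def n9299 : Q := act 3 n7144
theorem D9299 : act 3 n7144 = n9299 := rfl
theorem F15532 : act 0 n9299 = n7148 := d2_1 D9299 (iv D7148) (iv F11854)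
theorem F15533 : act 4 n9299 = n7145 := d12_2 D7144 D9299 (iv D7145) (iv D5437) D5436
def n9300 : Q := act 5 n7144
theorem D9300 : act 5 n7144 = n9300 := rfl
theorem F15534 : act 0 n9300 = n7149 := d4_1 D9300 (iv D7149) (iv F11854)
theorem F15535 : act 4 n9300 = n7812 := d14_1 D9300 (iv D7812) (iv D5958) (iv F8971) D7144
def n9301 : Q := act 2 n7145
theorem D9301 : act 2 n7145 = n9301 := rfl
theorem F15536 : act 0 n9301 = n7150 := d1_1 D9301 (iv D7150) (iv F11855)
theorem F15537 : act 3 n9301 = n7150 := d9_2 D7145 D9301 (iv D7150) (iv D5440) F6693 F4935 (iv F4945) D4089 D5452 (iv F11879) (iv D7159) (iv D5447) F6700 (iv F6688) (iv F8973)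
theorem F15538 : act 5 n9301 = n7159 := d11_2 (iv F11856) D9301 (iv D7159)
def n9302 : Q := act 4 n7146
theorem D9302 : act 4 n7146 = n9302 := rfl
theorem F15539 : act 1 n9302 = n7147 := d7_1 D9302 (iv D7147) D7146
theorem F15540 : act 2 n9302 = n7750 := d10_1 D9302 (iv D7750) (iv F11857)
def n9303 : Q := act 3 n7147
theorem D9303 : act 3 n7147 = n9303 := rfl
def n9304 : Q := act 5 n7147
theorem D9304 : act 5 n7147 = n9304 := rfl
theorem F15541 : act 2 n9304 = n7149 := d11_1 D9304 (iv D7149) (iv F11859)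
theorem F15542 : act 4 n9304 = n7815 := d14_1 D9304 (iv D7815) (iv D5960) (iv F8975) D7147
def n9305 : Q := act 2 n7148
theorem D9305 : act 2 n7148 = n9305 := rfl
theorem F15543 : act 4 n9305 = n7150 := d10_2 (iv F11861) D9305 (iv D7150)
def n9306 : Q := act 5 n7148
theorem D9306 : act 5 n7148 = n9306 := rfl
theorem F15544 : act 1 n9306 = n7820 := d8_1 D9306 F12866 (iv F11860)
theorem F15545 : act 3 n9306 = n7149 := d13_1 D9306 (iv D7149) D7148
theorem F15546 : act 4 n9306 = n7164 := d14_1 D9306 (iv D7164) F8992 (iv F8978) (iv F11861)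
def n9307 : Q := act 1 n7150
theorem D9307 : act 1 n7150 = n9307 := rfl
theorem F15547 : act 2 n9307 = n7822 := d5_2 D7150 D9307 (iv D7822) (iv D5967) (iv F8977)
theorem F15548 : act 5 n9307 = n7165 := d8_2 (iv F11864) D9307 (iv D7165)
def n9308 : Q := act 0 n7151
theorem D9308 : act 0 n7151 = n9308 := rfl
theorem F15549 : act 1 n9308 = n7152 := d0_2 D7151 D9308 (iv D7152) (iv D5442) (iv F8979)
theorem F15550 : act 2 n9308 = n8578 := d1_2 F14103 D9308 F14217
theorem F15551 : act 3 n9308 = n7445 := d2_2 (iv F11865) D9308 (iv D7445)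
theorem F15552 : act 5 n9308 = n7361 := d4_2 (iv F11866) D9308 (iv D7361)
def n9309 : Q := act 3 n7152
theorem D9309 : act 3 n7152 = n9309 := rfl
theorem F15553 : act 0 n9309 = n7153 := d2_1 D9309 (iv D7153) D7152
theorem F15554 : act 1 n9309 = n7445 := d6_1 D9309 (iv F15551) F15549
theorem F15555 : act 5 n9309 = n7390 := d13_2 (iv F11868) D9309 (iv D7390)
def n9310 : Q := act 2 n7153
theorem D9310 : act 2 n7153 = n9310 := rfl
theorem F15556 : act 1 n9310 = n7414 := d5_1 D9310 (iv D7414) F9306 (iv F8985) (iv F11869)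
theorem F15557 : act 5 n9310 = n7391 := d11_2 (iv F11870) D9310 (iv D7391)
def n9311 : Q := act 4 n7153
theorem D9311 : act 4 n7153 = n9311 := rfl
theorem F15558 : act 1 n9311 = n7154 := d7_1 D9311 (iv D7154) (iv F11869)
def n9312 : Q := act 5 n7154
theorem D9312 : act 5 n7154 = n9312 := rfl
theorem F15559 : act 0 n9312 = n7448 := d4_1 D9312 (iv D7448) (iv F11871)
theorem F15560 : act 2 n9312 = n7416 := d11_1 D9312 (iv D7416) (iv F11872)
theorem F15561 : act 4 n9312 = n7393 := d14_1 D9312 (iv D7393) (iv D5625) (iv F8986) D7154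
def n9313 : Q := act 3 n7155
theorem D9313 : act 3 n7155 = n9313 := rfl
theorem F15562 : act 1 n9313 = n7157 := d6_1 D9313 (iv D7157) (iv F11873)
theorem F15563 : act 4 n9313 = n7156 := d12_2 D7155 D9313 (iv D7156) (iv D5445) D5444
def n9314 : Q := act 5 n7155
theorem D9314 : act 5 n7155 = n9314 := rfl
theorem F15564 : act 1 n9314 = n7158 := d8_1 D9314 (iv D7158) (iv F11873)
def n9315 : Q := act 2 n7156
theorem D9315 : act 2 n7156 = n9315 := rfl
def n9316 : Q := act 2 n7157
theorem D9316 : act 2 n7157 = n9316 := rfl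
theorem F15565 : act 0 n9316 = n7163 := d1_1 D9316 (iv D7163) (iv F11875)
theorem F15566 : act 4 n9316 = n7159 := d10_2 (iv F11876) D9316 (iv D7159)
def n9317 : Q := act 5 n7157
theorem D9317 : act 5 n7157 = n9317 := rfl
theorem F15567 : act 0 n9317 = n7164 := d4_1 D9317 (iv D7164) (iv F11875)
theorem F15568 : act 3 n9317 = n7158 := d13_1 D9317 (iv D7158) D7157
def n9318 : Q := act 1 n7159
theorem D9318 : act 1 n7159 = n9318 := rfl
theorem F15569 : act 3 n9318 = n7165 := d6_2 (iv F11879) D9318 (iv D7165)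
def n9319 : Q := act 3 n7160
theorem D9319 : act 3 n7160 = n9319 := rfl
theorem F15570 : act 1 n9319 = n7161 := d6_1 D9319 (iv D7161) (iv F11880)
def n9320 : Q := act 5 n7160
theorem D9320 : act 5 n7160 = n9320 := rfl
theorem F15571 : act 1 n9320 = n7162 := d8_1 D9320 (iv D7162) (iv F11880)
def n9321 : Q := act 2 n7161
theorem D9321 : act 2 n7161 = n9321 := rfl
def n9322 : Q := act 5 n7161
theorem D9322 : act 5 n7161 = n9322 := rfl
theorem F15572 : act 3 n9322 = n7162 := d13_1 D9322 (iv D7162) D7161
def n9323 : Q := act 1 n7163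
theorem D9323 : act 1 n7163 = n9323 := rfl
theorem F15573 : act 4 n9323 = n7165 := d7_2 (iv F11882) D9323 (iv D7165)
def n9324 : Q := act 3 n7163
theorem D9324 : act 3 n7163 = n9324 := rfl
def n9325 : Q := act 5 n7163
theorem D9325 : act 5 n7163 = n9325 := rfl
theorem F15574 : act 2 n9325 = n7164 := d11_1 D9325 (iv D7164) D7163
def n9326 : Q := act 0 n7165
theorem D9326 : act 0 n7165 = n9326 := rfl
def n9327 : Q := act 2 n7166
theorem D9327 : act 2 n7166 = n9327 := rfl
theorem F15575 : act 4 n9327 = n7247 := d10_2 (iv F11885) D9327 (iv D7247)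
def n9328 : Q := act 5 n7166
theorem D9328 : act 5 n7166 = n9328 := rfl
theorem F15576 : act 0 n9328 = n7798 := d4_1 D9328 (iv F15112) F15109
theorem F15577 : act 1 n9328 = n7169 := d8_1 D9328 (iv D7169) (iv F11884)
theorem F15578 : act 3 n9328 = n7167 := d13_1 D9328 (iv D7167) D7166
def n9329 : Q := act 1 n7168
theorem D9329 : act 1 n7168 = n9329 := rfl
theorem F15579 : act 3 n9329 = n7488 := d6_2 (iv F11892) D9329 F12387
theorem F15580 : act 4 n9329 = n7249 := d7_2 (iv F11891) D9329 (iv D7249)
theorem F15581 : act 5 n9329 = n7487 := d8_2 F11893 D9329 F12386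
def n9330 : Q := act 4 n7169
theorem D9330 : act 4 n7169 = n9330 := rfl
theorem F15582 : act 0 n9330 = n7175 := d3_1 D9330 (iv D7175) (iv F11894)
theorem F15583 : act 2 n9330 = n7489 := d10_1 D9330 (iv D7489) (iv F11895)
theorem F15584 : act 3 n9330 = n7179 := d12_1 D9330 (iv D7179) F9019 (iv F8998) (iv F11896)
theorem F15585 : act 5 n9330 = n7252 := d14_2 D7169 D9330 (iv D7252) (iv D5524) (iv F8995)
def n9331 : Q := act 1 n7170
theorem D9331 : act 1 n7170 = n9331 := rfl
theorem F15586 : act 3 n9331 = n7650 := d6_2 (iv F11899) D9331 F12654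
theorem F15587 : act 4 n9331 = n7172 := d7_2 (iv F11898) D9331 (iv D7172)
theorem F15588 : act 5 n9331 = n7649 := d8_2 F11900 D9331 F12653
def n9332 : Q := act 4 n7171
theorem D9332 : act 4 n7171 = n9332 := rfl
theorem F15589 : act 0 n9332 = n7252 := d3_1 D9332 (iv D7252) (iv F11901)
theorem F15590 : act 1 n9332 = n7807 := d7_1 D9332 (iv F15129) F15127
theorem F15591 : act 2 n9332 = n7651 := d10_1 D9332 (iv D7651) (iv F11902)
theorem F15592 : act 3 n9332 = n7188 := d12_1 D9332 (iv D7188) F9033 (iv F9003) (iv F11903)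
theorem F15593 : act 5 n9332 = n7175 := d14_2 D7171 D9332 (iv D7175) (iv D5459) (iv F9000)
def n9333 : Q := act 0 n7172
theorem D9333 : act 0 n7172 = n9333 := rfl
def n9334 : Q := act 3 n7172
theorem D9334 : act 3 n7172 = n9334 := rfl
theorem F15594 : act 1 n9334 = n7173 := d6_1 D9334 (iv D7173) D7172
theorem F15595 : act 5 n7480 = n9334 := d8_0 F15594 F11906 D7480
def n9335 : Q := act 5 n7172
theorem D9335 : act 5 n7172 = n9335 := rfl
theorem F15596 : act 1 n9335 = n7174 := d8_1 D9335 (iv D7174) D7172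
theorem F15597 : act 2 n9335 = n7808 := d11_1 D9335 (iv F15131) F15130
theorem F15598 : act 3 n9335 = n7480 := d13_1 D9335 F15595 (iv D9334)
def n9336 : Q := act 4 n7173
theorem D9336 : act 4 n7173 = n9336 := rfl
theorem F15599 : act 0 n9336 = n7490 := d3_1 D9336 (iv D7490) (iv F11904)
theorem F15600 : act 2 n9336 = n7481 := d10_1 D9336 (iv D7481) (iv F11905)
theorem F15601 : act 3 n9336 = n7652 := d12_1 D9336 (iv D7652) (iv F11899) F11898 D7173
theorem F15602 : act 5 n9336 = n7670 := d14_2 (iv F11906) D9336 (iv D7670) (iv D5845) (iv F9359)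
def n9337 : Q := act 4 n7174
theorem D9337 : act 4 n7174 = n9337 := rfl
theorem F15603 : act 0 n9337 = n7489 := d3_1 D9337 (iv D7489) (iv F11907)
theorem F15604 : act 2 n9337 = n7175 := d10_1 D9337 (iv D7175) (iv F11908)
theorem F15605 : act 3 n9337 = n7669 := d12_1 D9337 (iv D7669) (iv D5844) (iv F9359) (iv F11909)
theorem F15606 : act 5 n9337 = n7651 := d14_2 D7174 D9337 (iv D7651) F11900 F11898
def n9338 : Q := act 4 n7178
theorem D9338 : act 4 n7178 = n9338 := rfl
theorem F15607 : act 0 n9338 = n7797 := d3_1 D9338 (iv D7797) (iv F11915)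
theorem F15608 : act 1 n9338 = n7179 := d7_1 D9338 (iv D7179) (iv F11916)
def n9339 : Q := act 5 n7180
theorem D9339 : act 5 n7180 = n9339 := rfl
theorem F15609 : act 0 n9339 = n7185 := d4_1 D9339 (iv D7185) (iv F11920)
theorem F15610 : act 2 n9339 = n7779 := d11_1 D9339 (iv D7779) F11922
theorem F15611 : act 3 n9339 = n7181 := d13_1 D9339 (iv D7181) D7180
theorem F15612 : act 4 n9339 = n7800 := d14_1 D9339 (iv D7800) (iv D5946) (iv F9022) (iv F11921)
def n9340 : Q := act 2 n7182
theorem D9340 : act 2 n7182 = n9340 := rfl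
def n9341 : Q := act 5 n7182
theorem D9341 : act 5 n7182 = n9341 := rfl
theorem F15613 : act 1 n9341 = n8959 := d8_1 D9341 (iv F14862) (iv F11924)
theorem F15614 : act 3 n9341 = n7183 := d13_1 D9341 (iv D7183) D7182
def n9342 : Q := act 1 n7184
theorem D9342 : act 1 n7184 = n9342 := rfl
theorem F15615 : act 2 n9342 = n7187 := d5_2 D7184 D9342 (iv D7187) (iv D5471) (iv F9026)
theorem F15616 : act 4 n9342 = n7186 := d7_2 (iv F11928) D9342 (iv D7186)
def n9343 : Q := act 3 n7184
theorem D9343 : act 3 n7184 = n9343 := rfl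
theorem F15617 : act 0 n9343 = n7778 := d2_1 D9343 (iv D7778) (iv F11927)
theorem F15618 : act 4 n9343 = n7768 := d12_2 (iv F11928) D9343 (iv D7768) (iv D5920) (iv F9031)
def n9344 : Q := act 5 n7184
theorem D9344 : act 5 n7184 = n9344 := rfl
theorem F15619 : act 0 n9344 = n7779 := d4_1 D9344 (iv D7779) (iv F11927)
theorem F15620 : act 2 n9344 = n7185 := d11_1 D9344 (iv D7185) D7184
theorem F15621 : act 4 n9344 = n7805 := d14_1 D9344 (iv D7805) (iv D5949) (iv F9030) (iv F11928)
def n9345 : Q := act 0 n7187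
theorem D9345 : act 0 n7187 = n9345 := rfl
theorem F15622 : act 4 n9345 = n7189 := d3_2 (iv F11935) D9345 (iv D7189)
def n9346 : Q := act 4 n7190
theorem D9346 : act 4 n7190 = n9346 := rfl
theorem F15623 : act 1 n9346 = n7192 := d7_1 D9346 (iv D7192) (iv F11938)
theorem F15624 : act 5 n9346 = n7689 := d14_2 F11939 D9346 (iv D7689) (iv D5862) (iv F9041)
def n9347 : Q := act 4 n7191
theorem D9347 : act 4 n7191 = n9347 := rfl
theorem F15625 : act 1 n9347 = n7193 := d7_1 D9347 (iv D7193) (iv F11940)
theorem F15626 : act 2 n9347 = n7803 := d10_1 D9347 (iv D7803) (iv F11941)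
theorem F15627 : act 3 n9347 = n7688 := d12_1 D9347 (iv D7688) (iv D5861) (iv F9041) (iv F11942)
def n9348 : Q := act 3 n7195
theorem D9348 : act 3 n7195 = n9348 := rfl
theorem F15628 : act 0 n9348 = n7196 := d2_1 D9348 (iv D7196) D7195
theorem F15629 : act 1 n9348 = n7685 := d6_1 D9348 (iv D7685) (iv F11951)
theorem F15630 : act 5 n7701 = n9348 := d4_0 F15628 (iv F11955) D7701
def n9349 : Q := act 5 n7195
theorem D9349 : act 5 n7195 = n9349 := rfl
theorem F15631 : act 0 n9349 = n7197 := d4_1 D9349 (iv D7197) D7195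
theorem F15632 : act 1 n9349 = n7686 := d8_1 D9349 (iv D7686) (iv F11951)
theorem F15633 : act 2 n9349 = n7740 := d11_1 D9349 (iv D7740) (iv F11952)
theorem F15634 : act 3 n9349 = n7701 := d13_1 D9349 F15630 (iv D9348)
def n9350 : Q := act 2 n7196
theorem D9350 : act 2 n7196 = n9350 := rfl
theorem F15635 : act 1 n9350 = n7698 := d5_1 D9350 F12716 F9634 (iv F9048) (iv F11954)
theorem F15636 : act 5 n9350 = n7695 := d11_2 F11955 D9350 F12712
def n9351 : Q := act 4 n7196
theorem D9351 : act 4 n7196 = n9351 := rfl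
theorem F15637 : act 1 n9351 = n7198 := d7_1 D9351 (iv D7198) (iv F11954)
theorem F15638 : act 3 n9351 = n7200 := d12_1 D9351 (iv D7200) (iv D5484) (iv F9046) D7196
def n9352 : Q := act 5 n7200
theorem D9352 : act 5 n7200 = n9352 := rfl
theorem F15639 : act 1 n9352 = n7201 := d8_1 D9352 (iv D7201) (iv F11965)
def n9353 : Q := act 1 n7203
theorem D9353 : act 1 n7203 = n9353 := rfl
def n9354 : Q := act 4 n7204
theorem D9354 : act 4 n7204 = n9354 := rfl
theorem F15640 : act 0 n9354 = n7212 := d3_1 D9354 (iv D7212) (iv F11967)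
def n9355 : Q := act 2 n7205
theorem D9355 : act 2 n7205 = n9355 := rfl
theorem F15641 : act 4 n9355 = n7640 := d10_2 (iv F11969) D9355 (iv D7640)
def n9356 : Q := act 5 n7205
theorem D9356 : act 5 n7205 = n9356 := rfl
theorem F15642 : act 3 n9356 = n7206 := d13_1 D9356 (iv D7206) D7205
def n9357 : Q := act 1 n7207
theorem D9357 : act 1 n7207 = n9357 := rfl
theorem F15643 : act 4 n9357 = n7209 := d7_2 (iv F11971) D9357 (iv D7209)
def n9358 : Q := act 3 n7207
theorem D9358 : act 3 n7207 = n9358 := rfl
def n9359 : Q := act 5 n7207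
theorem D9359 : act 5 n7207 = n9359 := rfl
theorem F15644 : act 2 n9359 = n7208 := d11_1 D9359 (iv D7208) D7207
def n9360 : Q := act 4 n7208
theorem D9360 : act 4 n7208 = n9360 := rfl
theorem F15645 : act 5 n9360 = n7212 := d14_2 D7208 D9360 (iv D7212) (iv D5493) (iv F9064)
def n9361 : Q := act 0 n7209
theorem D9361 : act 0 n7209 = n9361 := rfl
def n9362 : Q := act 3 n7209
theorem D9362 : act 3 n7209 = n9362 := rfl
theorem F15646 : act 1 n9362 = n7210 := d6_1 D9362 (iv D7210) D7209
def n9363 : Q := act 5 n7209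
theorem D9363 : act 5 n7209 = n9363 := rfl
theorem F15647 : act 1 n9363 = n7211 := d8_1 D9363 (iv D7211) D7209
def n9364 : Q := act 4 n7210
theorem D9364 : act 4 n7210 = n9364 := rfl
def n9365 : Q := act 4 n7211
theorem D9365 : act 4 n7211 = n9365 := rfl
theorem F15648 : act 2 n9365 = n7212 := d10_1 D9365 (iv D7212) (iv F11973)
def n9366 : Q := act 5 n7213
theorem D9366 : act 5 n7213 = n9366 := rfl
def n9367 : Q := act 1 n7214
theorem D9367 : act 1 n7214 = n9367 := rfl
def n9368 : Q := act 3 n7214
theorem D9368 : act 3 n7214 = n9368 := rfl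
theorem F15649 : act 0 n9368 = n7217 := d2_1 D9368 (iv D7217) (iv F11974)
theorem F15650 : act 2 n9368 = n7232 := d15_2 D7214 D9368 F11992 F9079 F6758 (iv F6753) (iv F9070) (iv D5498) (iv F9066)
theorem F15651 : act 5 n7230 = n9368 := d11_0 F15650 (iv D7232) D7230
def n9369 : Q := act 5 n7214
theorem D9369 : act 5 n7214 = n9369 := rfl
theorem F15652 : act 0 n9369 = n7218 := d4_1 D9369 (iv D7218) (iv F11974)
theorem F15653 : act 2 n9369 = n7215 := d11_1 D9369 (iv D7215) D7214
theorem F15654 : act 3 n9369 = n7230 := d13_1 D9369 F15651 (iv D9368)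
def n9370 : Q := act 4 n7215
theorem D9370 : act 4 n7215 = n9370 := rfl
theorem F15655 : act 0 n9370 = n7219 := d3_1 D9370 (iv D7219) (iv F11975)
def n9371 : Q := act 0 n7216
theorem D9371 : act 0 n7216 = n9371 := rfl
theorem F15656 : act 2 n9371 = n7220 := d1_2 (iv F11977) D9371 (iv D7220)
def n9372 : Q := act 3 n7216
theorem D9372 : act 3 n7216 = n9372 := rfl
theorem F15657 : act 1 n9372 = n7217 := d6_1 D9372 (iv D7217) D7216
def n9373 : Q := act 5 n7216
theorem D9373 : act 5 n7216 = n9373 := rfl
theorem F15658 : act 1 n9373 = n7218 := d8_1 D9373 (iv D7218) D7216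
theorem F15659 : act 2 n9373 = n7222 := d11_1 D9373 (iv D7222) (iv F11977)
def n9374 : Q := act 2 n7217
theorem D9374 : act 2 n7217 = n9374 := rfl
theorem F15660 : act 0 n9374 = n7232 := d1_1 D9374 (iv F15650) F15649
theorem F15661 : act 3 n9374 = n7225 := d9_2 D7217 D9374 F11986 F9077 (iv F9068) (iv F11976) (iv F15653) F15654 (iv D7230) (iv D5506) (iv D4131) (iv D3063) (iv F4997) D4125 D5497
theorem F15662 : act 5 n7224 = n9374 := d13_0 F15661 (iv D7225) D7224
def n9375 : Q := act 4 n7217
theorem D9375 : act 4 n7217 = n9375 := rfl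
def n9376 : Q := act 5 n7217
theorem D9376 : act 5 n7217 = n9376 := rfl
theorem F15663 : act 0 n9376 = n7230 := d4_1 D9376 F15651 F15649
theorem F15664 : act 2 n9376 = n7224 := d11_1 D9376 F15662 (iv D9374)
theorem F15665 : act 3 n9376 = n7218 := d13_1 D9376 (iv D7218) D7217
def n9377 : Q := act 4 n7218
theorem D9377 : act 4 n7218 = n9377 := rfl
theorem F15666 : act 2 n9377 = n7219 := d10_1 D9377 (iv D7219) (iv F11978)
def n9378 : Q := act 3 n7220
theorem D9378 : act 3 n7220 = n9378 := rfl
theorem F15667 : act 0 n9378 = n7221 := d2_1 D9378 (iv D7221) D7220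
theorem F15668 : act 5 n8963 = n9378 := d4_0 F15667 (iv F11981) D8963
def n9379 : Q := act 5 n7220
theorem D9379 : act 5 n7220 = n9379 := rfl
theorem F15669 : act 0 n9379 = n7222 := d4_1 D9379 (iv D7222) D7220
theorem F15670 : act 3 n9379 = n8963 := d13_1 D9379 F15668 (iv D9378)
def n9380 : Q := act 2 n7221
theorem D9380 : act 2 n7221 = n9380 := rfl
theorem F15671 : act 1 n9380 = n8954 := d5_1 D9380 F14852 F11345 (iv F9071) (iv F11980)
theorem F15672 : act 5 n9380 = n8952 := d11_2 F11981 D9380 F14850
def n9381 : Q := act 0 n7223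
theorem D9381 : act 0 n7223 = n9381 := rfl
theorem F15673 : act 1 n9381 = n7227 := d0_2 D7223 D9381 (iv D7227) (iv D5505) (iv F9075)
def n9382 : Q := act 3 n7223
theorem D9382 : act 3 n7223 = n9382 := rfl
theorem F15674 : act 1 n9382 = n7224 := d6_1 D9382 (iv D7224) D7223
def n9383 : Q := act 5 n7223
theorem D9383 : act 5 n7223 = n9383 := rfl
theorem F15675 : act 1 n9383 = n7225 := d8_1 D9383 (iv D7225) D7223
def n9384 : Q := act 4 n7224
theorem D9384 : act 4 n7224 = n9384 := rfl
theorem F15676 : act 0 n9384 = n7231 := d3_1 D9384 (iv D7231) (iv F11984)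
def n9385 : Q := act 4 n7225
theorem D9385 : act 4 n7225 = n9385 := rfl
theorem F15677 : act 0 n9385 = n7233 := d3_1 D9385 (iv D7233) (iv F11985)
theorem F15678 : act 2 n9385 = n7226 := d10_1 D9385 (iv D7226) (iv F11986)
def n9386 : Q := act 3 n7227
theorem D9386 : act 3 n7227 = n9386 := rfl
theorem F15679 : act 0 n9386 = n7228 := d2_1 D9386 (iv D7228) D7227
def n9387 : Q := act 5 n7227
theorem D9387 : act 5 n7227 = n9387 := rfl
theorem F15680 : act 0 n9387 = n7229 := d4_1 D9387 (iv D7229) D7227
theorem F15681 : act 2 n9387 = n7235 := d11_1 D9387 (iv D7235) (iv F11988)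
def n9388 : Q := act 2 n7228
theorem D9388 : act 2 n7228 = n9388 := rfl
def n9389 : Q := act 4 n7228
theorem D9389 : act 4 n7228 = n9389 := rfl
theorem F15682 : act 1 n9389 = n7231 := d7_1 D9389 (iv D7231) (iv F11989)
def n9390 : Q := act 5 n7228
theorem D9390 : act 5 n7228 = n9390 := rfl
theorem F15683 : act 1 n9390 = n7232 := d8_1 D9390 (iv D7232) (iv F11989)
theorem F15684 : act 3 n9390 = n7229 := d13_1 D9390 (iv D7229) D7228
def n9391 : Q := act 4 n7229
theorem D9391 : act 4 n7229 = n9391 := rfl
theorem F15685 : act 1 n9391 = n7233 := d7_1 D9391 (iv D7233) (iv F11990)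
theorem F15686 : act 2 n9391 = n7238 := d10_1 D9391 (iv D7238) (iv F11991)
def n9392 : Q := act 1 n7230
theorem D9392 : act 1 n7230 = n9392 := rfl
def n9393 : Q := act 4 n7230
theorem D9393 : act 4 n7230 = n9393 := rfl
theorem F15687 : act 2 n9393 = n7231 := d10_1 D9393 (iv D7231) D7230
def n9394 : Q := act 5 n7231
theorem D9394 : act 5 n7231 = n9394 := rfl
def n9395 : Q := act 4 n7232
theorem D9395 : act 4 n7232 = n9395 := rfl
def n9396 : Q := act 3 n7233
theorem D9396 : act 3 n7233 = n9396 := rfl
def n9397 : Q := act 2 n7234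
theorem D9397 : act 2 n7234 = n9397 := rfl
theorem F15688 : act 0 n9397 = n7236 := d1_1 D9397 (iv D7236) (iv F11994)
def n9398 : Q := act 4 n7234
theorem D9398 : act 4 n7234 = n9398 := rfl
theorem F15689 : act 0 n9398 = n7237 := d3_1 D9398 (iv D7237) (iv F11994)
def n9399 : Q := act 4 n7235
theorem D9399 : act 4 n7235 = n9399 := rfl
theorem F15690 : act 0 n9399 = n7238 := d3_1 D9399 (iv D7238) (iv F11995)
def n9400 : Q := act 3 n7236
theorem D9400 : act 3 n7236 = n9400 := rfl
def n9401 : Q := act 4 n7236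
theorem D9401 : act 4 n7236 = n9401 := rfl
theorem F15691 : act 1 n9401 = n8028 := d7_1 D9401 F13295 F13048
theorem F15692 : act 2 n9401 = n7237 := d10_1 D9401 (iv D7237) D7236
theorem F15693 : act 5 n9401 = n8026 := d14_2 (iv F13047) D9401 (iv D8026) F10090 D7896
def n9402 : Q := act 2 n7240
theorem D9402 : act 2 n7240 = n9402 := rfl
theorem F15694 : act 0 n9402 = n7241 := d1_1 D9402 (iv D7241) (iv F11999)
def n9403 : Q := act 3 n7241
theorem D9403 : act 3 n7241 = n9403 := rfl
def n9404 : Q := act 3 n7242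
theorem D9404 : act 3 n7242 = n9404 := rfl
theorem F15695 : act 4 n9404 = n7243 := d12_2 D7242 D9404 (iv D7243) (iv D5518) D5517
def n9405 : Q := act 5 n7242
theorem D9405 : act 5 n7242 = n9405 := rfl
def n9406 : Q := act 2 n7243
theorem D9406 : act 2 n7243 = n9406 := rfl
def n9407 : Q := act 5 n7243
theorem D9407 : act 5 n7243 = n9407 := rfl
theorem F15696 : act 0 n9407 = n8979 := d4_1 D9407 F14896 F13844
theorem F15697 : act 3 n9407 = n7244 := d13_1 D9407 (iv D7244) D7243
def n9408 : Q := act 2 n7245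
theorem D9408 : act 2 n7245 = n9408 := rfl
theorem F15698 : act 0 n9408 = n7247 := d1_1 D9408 (iv D7247) (iv F12003)
def n9409 : Q := act 5 n7245
theorem D9409 : act 5 n7245 = n9409 := rfl
theorem F15699 : act 0 n9409 = n7248 := d4_1 D9409 (iv D7248) (iv F12003)
theorem F15700 : act 3 n9409 = n7246 := d13_1 D9409 (iv D7246) D7245
def n9410 : Q := act 1 n7247
theorem D9410 : act 1 n7247 = n9410 := rfl
theorem F15701 : act 2 n9410 = n7249 := d5_2 D7247 D9410 (iv D7249) (iv D5523) (iv F9093)
def n9411 : Q := act 3 n7247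
theorem D9411 : act 3 n7247 = n9411 := rfl
def n9412 : Q := act 5 n7247
theorem D9412 : act 5 n7247 = n9412 := rfl
theorem F15702 : act 2 n9412 = n7248 := d11_1 D9412 (iv D7248) D7247
def n9413 : Q := act 4 n7248
theorem D9413 : act 4 n7248 = n9413 := rfl
theorem F15703 : act 1 n9413 = n7252 := d7_1 D9413 (iv D7252) (iv F12005)
def n9414 : Q := act 0 n7249
theorem D9414 : act 0 n7249 = n9414 := rfl
def n9415 : Q := act 3 n7249
theorem D9415 : act 3 n7249 = n9415 := rfl
theorem F15704 : act 1 n9415 = n7250 := d6_1 D9415 (iv D7250) D7249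
theorem F15705 : act 5 n7607 = n9415 := d8_0 F15704 F12009 D7607
def n9416 : Q := act 5 n7249
theorem D9416 : act 5 n7249 = n9416 := rfl
theorem F15706 : act 1 n9416 = n7251 := d8_1 D9416 (iv D7251) D7249
theorem F15707 : act 3 n9416 = n7607 := d13_1 D9416 F15705 (iv D9415)
def n9417 : Q := act 4 n7250
theorem D9417 : act 4 n7250 = n9417 := rfl
theorem F15708 : act 0 n9417 = n7652 := d3_1 D9417 (iv D7652) (iv F12007)
theorem F15709 : act 2 n9417 = n7606 := d10_1 D9417 F12601 (iv F12008)
theorem F15710 : act 3 n9417 = n7490 := d12_1 D9417 (iv D7490) (iv F11892) F11891 D7250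
theorem F15711 : act 5 n9417 = n7608 := d14_2 (iv F12009) D9417 F12604 F9542 (iv F9540)
def n9418 : Q := act 4 n7251
theorem D9418 : act 4 n7251 = n9418 := rfl
theorem F15712 : act 0 n9418 = n7651 := d3_1 D9418 (iv D7651) (iv F12010)
theorem F15713 : act 2 n9418 = n7252 := d10_1 D9418 (iv D7252) (iv F12011)
theorem F15714 : act 3 n9418 = n7612 := d12_1 D9418 (iv D7612) (iv D5801) (iv F9540) (iv F12012)
theorem F15715 : act 5 n9418 = n7489 := d14_2 D7251 D9418 (iv D7489) F11893 F11891
def n9419 : Q := act 0 n7253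
theorem D9419 : act 0 n7253 = n9419 := rfl
def n9420 : Q := act 3 n7253
theorem D9420 : act 3 n7253 = n9420 := rfl
theorem F15716 : act 1 n9420 = n7254 := d6_1 D9420 (iv D7254) D7253
theorem F15717 : act 5 n7354 = n9420 := d8_0 F15716 F12015 D7354
def n9421 : Q := act 5 n7253
theorem D9421 : act 5 n7253 = n9421 := rfl
theorem F15718 : act 1 n9421 = n7255 := d8_1 D9421 (iv D7255) D7253
theorem F15719 : act 3 n9421 = n7354 := d13_1 D9421 F15717 (iv D9420)
def n9422 : Q := act 4 n7254
theorem D9422 : act 4 n7254 = n9422 := rfl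
theorem F15720 : act 0 n9422 = n7380 := d3_1 D9422 (iv D7380) (iv F12013)
theorem F15721 : act 2 n9422 = n7355 := d10_1 D9422 (iv D7355) (iv F12014)
def n9423 : Q := act 4 n7255
theorem D9423 : act 4 n7255 = n9423 := rfl
theorem F15722 : act 0 n9423 = n7379 := d3_1 D9423 (iv D7379) (iv F12016)
theorem F15723 : act 2 n9423 = n7256 := d10_1 D9423 (iv D7256) (iv F12017)
def n9424 : Q := act 5 n7258
theorem D9424 : act 5 n7258 = n9424 := rfl
theorem F15724 : act 0 n9424 = n8577 := d4_1 D9424 (iv D8577) (iv F12023)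
theorem F15725 : act 2 n9424 = n8548 := d11_1 D9424 (iv D8548) (iv F12024)
theorem F15726 : act 3 n9424 = n7527 := d13_1 D9424 (iv D7527) (iv F12025)
theorem F15727 : act 4 n9424 = n7457 := d14_1 D9424 (iv D7457) (iv D5668) (iv F9105) D7258
def n9425 : Q := act 2 n7259
theorem D9425 : act 2 n7259 = n9425 := rfl
theorem F15728 : act 0 n9425 = n7478 := d1_1 D9425 (iv D7478) (iv F12026)
theorem F15729 : act 4 n9425 = n7660 := d10_2 (iv F12028) D9425 (iv D7660)
def n9426 : Q := act 5 n7259
theorem D9426 : act 5 n7259 = n9426 := rfl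
theorem F15730 : act 0 n9426 = n7479 := d4_1 D9426 (iv D7479) (iv F12026)
theorem F15731 : act 1 n9426 = n7264 := d8_1 D9426 (iv D7264) (iv F12027)
theorem F15732 : act 3 n9426 = n7260 := d13_1 D9426 (iv D7260) D7259
def n9427 : Q := act 2 n7261
theorem D9427 : act 2 n7261 = n9427 := rfl
theorem F15733 : act 0 n9427 = n7267 := d1_1 D9427 (iv D7267) (iv F12033)
theorem F15734 : act 4 n9427 = n7263 := d10_2 (iv F12035) D9427 (iv D7263)
def n9428 : Q := act 5 n7261
theorem D9428 : act 5 n7261 = n9428 := rfl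
theorem F15735 : act 0 n9428 = n7268 := d4_1 D9428 (iv D7268) (iv F12033)
theorem F15736 : act 1 n9428 = n7661 := d8_1 D9428 (iv D7661) (iv F12034)
theorem F15737 : act 3 n9428 = n7262 := d13_1 D9428 (iv D7262) D7261
def n9429 : Q := act 1 n7263
theorem D9429 : act 1 n7263 = n9429 := rfl
theorem F15738 : act 3 n9429 = n7475 := d6_2 (iv F12041) D9429 F12367
theorem F15739 : act 5 n9429 = n7474 := d8_2 F12042 D9429 F12366
def n9430 : Q := act 4 n7264
theorem D9430 : act 4 n7264 = n9430 := rfl
theorem F15740 : act 0 n9430 = n7272 := d3_1 D9430 (iv D7272) (iv F12043)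
theorem F15741 : act 2 n9430 = n7476 := d10_1 D9430 (iv D7476) (iv F12044)
theorem F15742 : act 3 n9430 = n7502 := d12_1 D9430 (iv D7502) F9390 (iv F9116) (iv F12045)
def n9431 : Q := act 2 n7265
theorem D9431 : act 2 n7265 = n9431 := rfl
theorem F15743 : act 0 n9431 = n8514 := d1_1 D9431 (iv D8514) (iv F12046)
theorem F15744 : act 4 n9431 = n8497 := d10_2 (iv F12048) D9431 (iv D8497)
def n9432 : Q := act 5 n7265
theorem D9432 : act 5 n7265 = n9432 := rfl
theorem F15745 : act 0 n9432 = n8513 := d4_1 D9432 F14152 (iv F12046)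
theorem F15746 : act 1 n9432 = n7656 := d8_1 D9432 (iv D7656) (iv F12047)
theorem F15747 : act 3 n9432 = n7266 := d13_1 D9432 (iv D7266) D7265
def n9433 : Q := act 1 n7267
theorem D9433 : act 1 n7267 = n9433 := rfl
theorem F15748 : act 2 n9433 = n7482 := d5_2 D7267 D9433 (iv D7482) (iv D5689) (iv F9120)
theorem F15749 : act 4 n9433 = n7269 := d7_2 (iv F12053) D9433 (iv D7269)
def n9434 : Q := act 3 n7267
theorem D9434 : act 3 n7267 = n9434 := rfl
def n9435 : Q := act 5 n7267
theorem D9435 : act 5 n7267 = n9435 := rfl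
theorem F15750 : act 2 n9435 = n7268 := d11_1 D9435 (iv D7268) D7267
def n9436 : Q := act 4 n7268
theorem D9436 : act 4 n7268 = n9436 := rfl
theorem F15751 : act 1 n9436 = n7485 := d7_1 D9436 (iv D7485) (iv F12054)
theorem F15752 : act 3 n9436 = n7508 := d12_1 D9436 (iv D7508) F9399 (iv F9123) (iv F12055)
theorem F15753 : act 5 n9436 = n7272 := d14_2 D7268 D9436 (iv D7272) (iv D5538) (iv F9121)
def n9437 : Q := act 0 n7269
theorem D9437 : act 0 n7269 = n9437 := rfl
theorem F15754 : act 2 n9437 = n7486 := d1_2 (iv F12056) D9437 (iv D7486)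
def n9438 : Q := act 3 n7269
theorem D9438 : act 3 n7269 = n9438 := rfl
theorem F15755 : act 1 n9438 = n7270 := d6_1 D9438 (iv D7270) D7269
theorem F15756 : act 5 n7464 = n9438 := d8_0 F15755 F12059 D7464
def n9439 : Q := act 5 n7269
theorem D9439 : act 5 n7269 = n9439 := rfl
theorem F15757 : act 1 n9439 = n7271 := d8_1 D9439 (iv D7271) D7269
theorem F15758 : act 2 n9439 = n7488 := d11_1 D9439 (iv D7488) (iv F12056)
theorem F15759 : act 3 n9439 = n7464 := d13_1 D9439 F15756 (iv D9438)
def n9440 : Q := act 4 n7270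
theorem D9440 : act 4 n7270 = n9440 := rfl
theorem F15760 : act 0 n9440 = n7477 := d3_1 D9440 (iv D7477) (iv F12057)
theorem F15761 : act 2 n9440 = n7465 := d10_1 D9440 (iv D7465) (iv F12058)
def n9441 : Q := act 4 n7271
theorem D9441 : act 4 n7271 = n9441 := rfl
theorem F15762 : act 0 n9441 = n7476 := d3_1 D9441 (iv D7476) (iv F12060)
theorem F15763 : act 2 n9441 = n7272 := d10_1 D9441 (iv D7272) (iv F12061)
def n9442 : Q := act 2 n7273
theorem D9442 : act 2 n7273 = n9442 := rfl
theorem F15764 : act 0 n9442 = n7460 := d1_1 D9442 (iv D7460) (iv F12065)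
def n9443 : Q := act 5 n7273
theorem D9443 : act 5 n7273 = n9443 := rfl
theorem F15765 : act 0 n9443 = n7461 := d4_1 D9443 (iv D7461) (iv F12065)
theorem F15766 : act 1 n9443 = n7276 := d8_1 D9443 (iv D7276) (iv F12066)
theorem F15767 : act 3 n9443 = n7274 := d13_1 D9443 (iv D7274) D7273
def n9444 : Q := act 1 n7275
theorem D9444 : act 1 n7275 = n9444 := rfl
theorem F15768 : act 3 n9444 = n7822 := d6_2 (iv F12072) D9444 (iv D7822)
def n9445 : Q := act 4 n7276
theorem D9445 : act 4 n7276 = n9445 := rfl
theorem F15769 : act 0 n9445 = n7282 := d3_1 D9445 (iv D7282) (iv F12073)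
theorem F15770 : act 3 n9445 = n7291 := d12_1 D9445 (iv D7291) F9157 (iv F9132) (iv F12074)
def n9446 : Q := act 1 n7277
theorem D9446 : act 1 n7277 = n9446 := rfl
theorem F15771 : act 2 n9446 = n7469 := d5_2 D7277 D9446 (iv D7469) (iv D5679) (iv F9133)
theorem F15772 : act 4 n9446 = n7279 := d7_2 (iv F12075) D9446 (iv D7279)
def n9447 : Q := act 3 n7277
theorem D9447 : act 3 n7277 = n9447 := rfl
def n9448 : Q := act 5 n7277
theorem D9448 : act 5 n7277 = n9448 := rfl
theorem F15773 : act 2 n9448 = n7278 := d11_1 D9448 (iv D7278) D7277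
def n9449 : Q := act 4 n7278
theorem D9449 : act 4 n7278 = n9449 := rfl
theorem F15774 : act 1 n9449 = n7472 := d7_1 D9449 (iv D7472) (iv F12076)
theorem F15775 : act 3 n9449 = n7307 := d12_1 D9449 (iv D7307) F9177 (iv F9136) (iv F12077)
theorem F15776 : act 5 n9449 = n7282 := d14_2 D7278 D9449 (iv D7282) (iv D5545) (iv F9134)
def n9450 : Q := act 0 n7279
theorem D9450 : act 0 n7279 = n9450 := rfl
theorem F15777 : act 2 n9450 = n7473 := d1_2 (iv F12078) D9450 (iv D7473)
def n9451 : Q := act 3 n7279
theorem D9451 : act 3 n7279 = n9451 := rfl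
theorem F15778 : act 1 n9451 = n7280 := d6_1 D9451 (iv D7280) D7279
def n9452 : Q := act 5 n7279
theorem D9452 : act 5 n7279 = n9452 := rfl
theorem F15779 : act 1 n9452 = n7281 := d8_1 D9452 (iv D7281) D7279
theorem F15780 : act 2 n9452 = n7475 := d11_1 D9452 (iv D7475) (iv F12078)
def n9453 : Q := act 4 n7280
theorem D9453 : act 4 n7280 = n9453 := rfl
theorem F15781 : act 0 n9453 = n7821 := d3_1 D9453 F12867 (iv F12079)
theorem F15782 : act 2 n9453 = n7753 := d10_1 D9453 F12795 (iv F12080)
def n9454 : Q := act 4 n7281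
theorem D9454 : act 4 n7281 = n9454 := rfl
theorem F15783 : act 2 n9454 = n7282 := d10_1 D9454 (iv D7282) (iv F12081)
def n9455 : Q := act 2 n7283
theorem D9455 : act 2 n7283 = n9455 := rfl
theorem F15784 : act 0 n9455 = n7287 := d1_1 D9455 (iv D7287) (iv F12084)
theorem F15785 : act 4 n9455 = n8549 := d10_2 (iv F12086) D9455 (iv D8549)
def n9456 : Q := act 5 n7283
theorem D9456 : act 5 n7283 = n9456 := rfl
theorem F15786 : act 0 n9456 = n7288 := d4_1 D9456 (iv D7288) (iv F12084)
theorem F15787 : act 1 n9456 = n7293 := d8_1 D9456 (iv D7293) (iv F12085)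
theorem F15788 : act 3 n9456 = n7284 := d13_1 D9456 (iv D7284) D7283
def n9457 : Q := act 2 n7285
theorem D9457 : act 2 n7285 = n9457 := rfl
theorem F15789 : act 0 n9457 = n8549 := d1_1 D9457 (iv D8549) (iv F12091)
theorem F15790 : act 1 n9457 = n7526 := d5_1 D9457 F12460 F12102 (iv D7289) (iv F12092)
theorem F15791 : act 4 n9457 = n7287 := d10_2 (iv F12093) D9457 (iv D7287)
def n9458 : Q := act 5 n7285
theorem D9458 : act 5 n7285 = n9458 := rfl
theorem F15792 : act 0 n9458 = n8550 := d4_1 D9458 (iv D8550) (iv F12091)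
theorem F15793 : act 1 n9458 = n7290 := d8_1 D9458 (iv D7290) (iv F12092)
theorem F15794 : act 3 n9458 = n7286 := d13_1 D9458 (iv D7286) D7285
def n9459 : Q := act 3 n7287
theorem D9459 : act 3 n7287 = n9459 := rfl
theorem F15795 : act 1 n9459 = n7501 := d6_1 D9459 F12412 (iv F12097)
theorem F15796 : act 5 n7500 = n9459 := d8_0 F15795 (iv D7501) D7500
def n9460 : Q := act 5 n7287
theorem D9460 : act 5 n7287 = n9460 := rfl
theorem F15797 : act 1 n9460 = n7326 := d8_1 D9460 F12162 (iv F12097)
theorem F15798 : act 2 n9460 = n7288 := d11_1 D9460 (iv D7288) D7287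
theorem F15799 : act 3 n9460 = n7500 := d13_1 D9460 F15796 (iv D9459)
def n9461 : Q := act 4 n7288
theorem D9461 : act 4 n7288 = n9461 := rfl
theorem F15800 : act 1 n9461 = n7291 := d7_1 D9461 (iv D7291) (iv F12098)
def n9462 : Q := act 5 n7289
theorem D9462 : act 5 n7289 = n9462 := rfl
theorem F15801 : act 0 n9462 = n7306 := d4_1 D9462 (iv D7306) (iv F12100)
theorem F15802 : act 1 n9462 = n7527 := d8_1 D9462 (iv D7527) F12102
theorem F15803 : act 2 n9462 = n7290 := d11_1 D9462 (iv D7290) D7289
theorem F15804 : act 4 n9462 = n7328 := d14_1 D9462 (iv D7328) (iv D5579) F9154 (iv F12101)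
def n9463 : Q := act 4 n7290
theorem D9463 : act 4 n7290 = n9463 := rfl
theorem F15805 : act 0 n9463 = n7307 := d3_1 D9463 (iv D7307) (iv F12103)
theorem F15806 : act 2 n9463 = n7328 := d10_1 D9463 (iv F15804) F15803
theorem F15807 : act 5 n9463 = n7291 := d14_2 D7290 D9463 (iv D7291) (iv D5553) (iv F9149)
def n9464 : Q := act 1 n7292
theorem D9464 : act 1 n7292 = n9464 := rfl
theorem F15808 : act 4 n9464 = n8551 := d7_2 (iv F12108) D9464 (iv D8551)
def n9465 : Q := act 3 n7292
theorem D9465 : act 3 n7292 = n9465 := rfl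
theorem F15809 : act 0 n9465 = n7297 := d2_1 D9465 (iv D7297) (iv F12107)
theorem F15810 : act 2 n9465 = n7317 := d15_2 D7292 D9465 F12146 F9191 F6851 (iv F6836) (iv F9171) (iv D5559) (iv F9158)
theorem F15811 : act 5 n7315 = n9465 := d11_0 F15810 (iv D7317) D7315
def n9466 : Q := act 5 n7292
theorem D9466 : act 5 n7292 = n9466 := rfl
theorem F15812 : act 0 n9466 = n7298 := d4_1 D9466 (iv D7298) (iv F12107)
theorem F15813 : act 2 n9466 = n7293 := d11_1 D9466 (iv D7293) D7292
theorem F15814 : act 3 n9466 = n7315 := d13_1 D9466 F15811 (iv D9465)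
def n9467 : Q := act 4 n7293
theorem D9467 : act 4 n7293 = n9467 := rfl
theorem F15815 : act 0 n9467 = n7299 := d3_1 D9467 (iv D7299) (iv F12109)
theorem F15816 : act 3 n9467 = n7465 := d12_1 D9467 (iv D7465) F9342 (iv F9162) (iv F12110)
theorem F15817 : act 5 n9467 = n8554 := d14_2 D7293 D9467 (iv D8554) (iv D6559) (iv F9159)
def n9468 : Q := act 1 n7294
theorem D9468 : act 1 n7294 = n9468 := rfl
theorem F15818 : act 2 n9468 = n7304 := d5_2 D7294 D9468 (iv D7304) (iv D5563) (iv F9164)
theorem F15819 : act 4 n9468 = n7296 := d7_2 (iv F12112) D9468 (iv D7296)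
def n9469 : Q := act 3 n7294
theorem D9469 : act 3 n7294 = n9469 := rfl
theorem F15820 : act 0 n9469 = n8552 := d2_1 D9469 (iv D8552) (iv F12111)
theorem F15821 : act 2 n9469 = n8560 := d15_2 D7294 D9469 F14203 F10854 F8129 (iv F8127) (iv F10852) (iv D6559) (iv F9163)
theorem F15822 : act 5 n8558 = n9469 := d11_0 F15821 (iv D8560) D8558
def n9470 : Q := act 5 n7294
theorem D9470 : act 5 n7294 = n9470 := rfl
theorem F15823 : act 0 n9470 = n8553 := d4_1 D9470 (iv D8553) (iv F12111)
theorem F15824 : act 2 n9470 = n7295 := d11_1 D9470 (iv D7295) D7294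
theorem F15825 : act 3 n9470 = n8558 := d13_1 D9470 F15822 (iv D9469)
def n9471 : Q := act 4 n7295
theorem D9471 : act 4 n7295 = n9471 := rfl
theorem F15826 : act 0 n9471 = n8554 := d3_1 D9471 (iv D8554) (iv F12113)
theorem F15827 : act 1 n9471 = n7307 := d7_1 D9471 (iv D7307) (iv F12114)
theorem F15828 : act 3 n9471 = n7472 := d12_1 D9471 (iv D7472) F9352 (iv F9169) (iv F12115)
theorem F15829 : act 5 n9471 = n7299 := d14_2 D7295 D9471 (iv D7299) (iv D5559) (iv F9165)
def n9472 : Q := act 0 n7296
theorem D9472 : act 0 n7296 = n9472 := rfl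
theorem F15830 : act 2 n9472 = n7308 := d1_2 (iv F12116) D9472 (iv D7308)
def n9473 : Q := act 3 n7296
theorem D9473 : act 3 n7296 = n9473 := rfl
theorem F15831 : act 1 n9473 = n7297 := d6_1 D9473 (iv D7297) D7296
def n9474 : Q := act 5 n7296
theorem D9474 : act 5 n7296 = n9474 := rfl
theorem F15832 : act 1 n9474 = n7298 := d8_1 D9474 (iv D7298) D7296
theorem F15833 : act 2 n9474 = n7310 := d11_1 D9474 (iv D7310) (iv F12116)
def n9475 : Q := act 2 n7297
theorem D9475 : act 2 n7297 = n9475 := rfl
theorem F15834 : act 0 n9475 = n7317 := d1_1 D9475 (iv F15810) F15809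
theorem F15835 : act 3 n9475 = n7314 := d9_2 D7297 D9475 F12142 F9188 (iv F9161) (iv F12110) (iv F15813) F15814 (iv D7315) (iv D5571) (iv D4186) (iv D3103) (iv F5063) D4176 D5558
theorem F15836 : act 5 n7313 = n9475 := d13_0 F15835 (iv D7314) D7313
def n9476 : Q := act 4 n7297
theorem D9476 : act 4 n7297 = n9476 := rfl
def n9477 : Q := act 5 n7297
theorem D9477 : act 5 n7297 = n9477 := rfl
theorem F15837 : act 0 n9477 = n7315 := d4_1 D9477 F15811 F15809
theorem F15838 : act 2 n9477 = n7313 := d11_1 D9477 F15836 (iv D9475)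
theorem F15839 : act 3 n9477 = n7298 := d13_1 D9477 (iv D7298) D7297
def n9478 : Q := act 4 n7298
theorem D9478 : act 4 n7298 = n9478 := rfl
theorem F15840 : act 2 n9478 = n7299 := d10_1 D9478 (iv D7299) (iv F12117)
def n9479 : Q := act 2 n7300
theorem D9479 : act 2 n7300 = n9479 := rfl
theorem F15841 : act 0 n9479 = n9046 := d1_1 D9479 (iv D9046) (iv F12120)
def n9480 : Q := act 5 n7300
theorem D9480 : act 5 n7300 = n9480 := rfl
theorem F15842 : act 0 n9480 = n9047 := d4_1 D9480 (iv D9047) (iv F12120)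
theorem F15843 : act 1 n9480 = n7303 := d8_1 D9480 (iv D7303) (iv F12121)
theorem F15844 : act 3 n9480 = n7301 := d13_1 D9480 (iv D7301) D7300
def n9481 : Q := act 1 n7302
theorem D9481 : act 1 n7302 = n9481 := rfl
def n9482 : Q := act 3 n7302
theorem D9482 : act 3 n7302 = n9482 := rfl
def n9483 : Q := act 5 n7302
theorem D9483 : act 5 n7302 = n9483 := rfl
theorem F15845 : act 2 n9483 = n7303 := d11_1 D9483 (iv D7303) D7302
def n9484 : Q := act 4 n7303
theorem D9484 : act 4 n7303 = n9484 := rfl
def n9485 : Q := act 0 n7304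
theorem D9485 : act 0 n7304 = n9485 := rfl
theorem F15846 : act 1 n9485 = n7525 := d0_2 D7304 D9485 F12458 F12102 F12100
theorem F15847 : act 4 n9485 = n7308 := d3_2 (iv F12126) D9485 (iv D7308)
theorem F15848 : act 3 n8576 = n9485 := d12_5 F15847 (iv F12130) (iv F12021) F12020 D8576
def n9486 : Q := act 3 n7304
theorem D9486 : act 3 n7304 = n9486 := rfl
theorem F15849 : act 0 n9486 = n8576 := d2_1 D9486 F15848 (iv D9485)
theorem F15850 : act 1 n9486 = n7305 := d6_1 D9486 (iv D7305) D7304
theorem F15851 : act 4 n9486 = n8575 := d12_2 (iv F12126) D9486 F15514 F15512 (iv D7309)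
def n9487 : Q := act 5 n7304
theorem D9487 : act 5 n7304 = n9487 := rfl
theorem F15852 : act 1 n9487 = n7306 := d8_1 D9487 (iv D7306) D7304
def n9488 : Q := act 2 n7305
theorem D9488 : act 2 n7305 = n9488 := rfl
theorem F15853 : act 4 n9488 = n7442 := d10_2 F15518 D9488 (iv F15517)
def n9489 : Q := act 5 n7305
theorem D9489 : act 5 n7305 = n9489 := rfl
theorem F15854 : act 3 n9489 = n7306 := d13_1 D9489 (iv D7306) D7305
def n9490 : Q := act 4 n7306
theorem D9490 : act 4 n7306 = n9490 := rfl
theorem F15855 : act 0 n9490 = n7328 := d3_1 D9490 (iv F15804) F15801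
theorem F15856 : act 2 n9490 = n7307 := d10_1 D9490 (iv D7307) (iv F12127)
theorem F15857 : act 5 n9490 = n7311 := d14_2 D7306 D9490 (iv D7311) (iv D5567) (iv F9176)
def n9491 : Q := act 5 n7308
theorem D9491 : act 5 n7308 = n9491 := rfl
theorem F15858 : act 0 n9491 = n7310 := d4_1 D9491 (iv D7310) D7308
theorem F15859 : act 1 n9491 = n7325 := d8_1 D9491 F12159 (iv F12129)
theorem F15860 : act 3 n9491 = n7320 := d13_1 D9491 F12151 F12130
def n9492 : Q := act 4 n7310
theorem D9492 : act 4 n7310 = n9492 := rfl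
theorem F15861 : act 1 n9492 = n7311 := d7_1 D9492 (iv D7311) (iv F12134)
def n9493 : Q := act 3 n7311
theorem D9493 : act 3 n7311 = n9493 := rfl
theorem F15862 : act 0 n9493 = n7324 := d2_1 D9493 F12157 (iv F12136)
theorem F15863 : act 4 n9493 = n7319 := d12_2 D7311 D9493 (iv D7319) F9194 (iv F9183)
def n9494 : Q := act 3 n7312
theorem D9494 : act 3 n7312 = n9494 := rfl
theorem F15864 : act 1 n9494 = n7313 := d6_1 D9494 (iv D7313) D7312
def n9495 : Q := act 5 n7312
theorem D9495 : act 5 n7312 = n9495 := rfl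
theorem F15865 : act 0 n9495 = n7318 := d4_1 D9495 (iv F15452) F15449
theorem F15866 : act 1 n9495 = n7314 := d8_1 D9495 (iv D7314) D7312
theorem F15867 : act 2 n9495 = n7320 := d11_1 D9495 F12151 (iv F12138)
theorem F15868 : act 4 n9495 = n7320 := d14_1 D9495 F12151 (iv F12021) F12022 (iv F12139)
def n9496 : Q := act 4 n7313
theorem D9496 : act 4 n7313 = n9496 := rfl
theorem F15869 : act 0 n9496 = n7316 := d3_1 D9496 (iv D7316) (iv F12140)
theorem F15870 : act 3 n9496 = n7454 := d12_1 D9496 (iv D7454) (iv D5666) (iv F9185) D7313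
def n9497 : Q := act 1 n7315
theorem D9497 : act 1 n7315 = n9497 := rfl
theorem F15871 : act 2 n9497 = n7529 := d5_2 D7315 D9497 F12463 (iv F11805) F11803
def n9498 : Q := act 4 n7315
theorem D9498 : act 4 n7315 = n9498 := rfl
theorem F15872 : act 2 n9498 = n7316 := d10_1 D9498 (iv D7316) D7315
def n9499 : Q := act 5 n7316
theorem D9499 : act 5 n7316 = n9499 := rfl
theorem F15873 : act 3 n9499 = n7457 := d13_1 D9499 (iv D7457) (iv F12144)
def n9500 : Q := act 4 n7317
theorem D9500 : act 4 n7317 = n9500 := rfl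
theorem F15874 : act 1 n9500 = n7324 := d7_1 D9500 (iv D7324) (iv F12145)
theorem F15875 : act 3 n9500 = n7327 := d12_1 D9500 (iv D7327) (iv D5578) (iv F9192) (iv F12146)
def n9501 : Q := act 3 n7318
theorem D9501 : act 3 n7318 = n9501 := rfl
theorem F15876 : act 1 n9501 = n7319 := d6_1 D9501 (iv D7319) D7318
def n9502 : Q := act 0 n7321
theorem D9502 : act 0 n7321 = n9502 := rfl
theorem F15877 : act 1 n9502 = n7528 := d0_2 D7321 D9502 (iv D7528) (iv D5726) (iv F9195)
theorem F15878 : act 2 n9502 = n7532 := d1_2 (iv F12152) D9502 (iv D7532)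
theorem F15879 : act 4 n9502 = n8582 := d3_2 (iv F12153) D9502 (iv D8582)
def n9503 : Q := act 3 n7321
theorem D9503 : act 3 n7321 = n9503 := rfl
theorem F15880 : act 1 n9503 = n7322 := d6_1 D9503 (iv D7322) D7321
def n9504 : Q := act 4 n7322
theorem D9504 : act 4 n7322 = n9504 := rfl
theorem F15881 : act 0 n9504 = n7530 := d3_1 D9504 (iv D7530) (iv F12154)
theorem F15882 : act 3 n9504 = n8585 := d12_1 D9504 (iv D8585) (iv D6578) (iv F9196) D7322
def n9505 : Q := act 1 n7323
theorem D9505 : act 1 n7323 = n9505 := rfl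
theorem F15883 : act 3 n9505 = n7522 := d6_2 (iv F12156) D9505 F12452
theorem F15884 : act 5 n9505 = n7529 := d8_2 (iv F12155) D9505 F12463
def n9506 : Q := act 4 n7323
theorem D9506 : act 4 n7323 = n9506 := rfl
theorem F15885 : act 2 n9506 = n7324 := d10_1 D9506 (iv D7324) D7323
def n9507 : Q := act 5 n7324
theorem D9507 : act 5 n7324 = n9507 := rfl
theorem F15886 : act 3 n9507 = n7328 := d13_1 D9507 (iv D7328) (iv F12157)
def n9508 : Q := act 4 n7325
theorem D9508 : act 4 n7325 = n9508 := rfl
theorem F15887 : act 0 n9508 = n7327 := d3_1 D9508 (iv D7327) (iv F12158)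
theorem F15888 : act 2 n9508 = n7512 := d10_1 D9508 (iv D7512) (iv F12160)
def n9509 : Q := act 4 n7326
theorem D9509 : act 4 n7326 = n9509 := rfl
theorem F15889 : act 0 n9509 = n7512 := d3_1 D9509 (iv D7512) (iv F12161)
theorem F15890 : act 2 n9509 = n7327 := d10_1 D9509 (iv D7327) D7326
def n9510 : Q := act 5 n7327
theorem D9510 : act 5 n7327 = n9510 := rfl
theorem F15891 : act 1 n9510 = n7328 := d8_1 D9510 (iv D7328) (iv F12164)
theorem F15892 : act 4 n9510 = n7527 := d14_1 D9510 (iv D7527) (iv D5725) (iv F9200) D7327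
def n9511 : Q := act 2 n7329
theorem D9511 : act 2 n7329 = n9511 := rfl
theorem F15893 : act 0 n9511 = n7576 := d1_1 D9511 (iv D7576) (iv F12165)
theorem F15894 : act 4 n9511 = n7642 := d10_2 (iv F12167) D9511 (iv D7642)
def n9512 : Q := act 5 n7329
theorem D9512 : act 5 n7329 = n9512 := rfl
theorem F15895 : act 0 n9512 = n7575 := d4_1 D9512 F12544 (iv F12165)
theorem F15896 : act 1 n9512 = n7334 := d8_1 D9512 (iv D7334) (iv F12166)
theorem F15897 : act 3 n9512 = n7330 := d13_1 D9512 (iv D7330) D7329
def n9513 : Q := act 2 n7331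
theorem D9513 : act 2 n7331 = n9513 := rfl
theorem F15898 : act 0 n9513 = n7339 := d1_1 D9513 (iv D7339) (iv F12172)
theorem F15899 : act 4 n9513 = n7333 := d10_2 (iv F12174) D9513 (iv D7333)
def n9514 : Q := act 5 n7331
theorem D9514 : act 5 n7331 = n9514 := rfl
theorem F15900 : act 0 n9514 = n7340 := d4_1 D9514 (iv D7340) (iv F12172)
theorem F15901 : act 1 n9514 = n7643 := d8_1 D9514 (iv D7643) (iv F12173)
theorem F15902 : act 3 n9514 = n7332 := d13_1 D9514 (iv D7332) D7331
def n9515 : Q := act 1 n7333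
theorem D9515 : act 1 n7333 = n9515 := rfl
def n9516 : Q := act 4 n7334
theorem D9516 : act 4 n7334 = n9516 := rfl
theorem F15903 : act 0 n9516 = n7344 := d3_1 D9516 (iv D7344) (iv F12179)
theorem F15904 : act 3 n9516 = n7592 := d12_1 D9516 (iv D7592) F9527 (iv F9209) (iv F12180)
def n9517 : Q := act 0 n7335
theorem D9517 : act 0 n7335 = n9517 := rfl
theorem F15905 : act 1 n9517 = n7345 := d0_2 D7335 D9517 (iv D7345) (iv D5590) (iv F9210)
theorem F15906 : act 2 n9517 = n7361 := d1_2 (iv F12181) D9517 (iv D7361)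
theorem F15907 : act 4 n9517 = n7627 := d3_2 (iv F12182) D9517 (iv D7627)
theorem F15908 : act 5 n9517 = n8578 := d4_2 F14104 D9517 F14217
def n9518 : Q := act 3 n7335
theorem D9518 : act 3 n7335 = n9518 := rfl
theorem F15909 : act 1 n9518 = n7336 := d6_1 D9518 (iv D7336) D7335
def n9519 : Q := act 4 n7336
theorem D9519 : act 4 n7336 = n9519 := rfl
theorem F15910 : act 0 n9519 = n7347 := d3_1 D9519 (iv D7347) (iv F12183)
theorem F15911 : act 2 n9519 = n7347 := d10_1 D9519 (iv D7347) (iv F12184)
theorem F15912 : act 3 n9519 = n7630 := d12_1 D9519 (iv D7630) (iv D5813) (iv F9211) D7336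
def n9520 : Q := act 2 n7337
theorem D9520 : act 2 n7337 = n9520 := rfl
def n9521 : Q := act 5 n7337
theorem D9521 : act 5 n7337 = n9521 := rfl
theorem F15913 : act 1 n9521 = n7641 := d8_1 D9521 (iv D7641) (iv F12185)
theorem F15914 : act 3 n9521 = n7338 := d13_1 D9521 (iv D7338) D7337
def n9522 : Q := act 1 n7339
theorem D9522 : act 1 n7339 = n9522 := rfl
theorem F15915 : act 2 n9522 = n7607 := d5_2 D7339 D9522 (iv D7607) (iv D5796) (iv F9214)
theorem F15916 : act 4 n9522 = n7341 := d7_2 (iv F12189) D9522 (iv D7341)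
def n9523 : Q := act 3 n7339
theorem D9523 : act 3 n7339 = n9523 := rfl
def n9524 : Q := act 5 n7339
theorem D9524 : act 5 n7339 = n9524 := rfl
theorem F15917 : act 2 n9524 = n7340 := d11_1 D9524 (iv D7340) D7339
def n9525 : Q := act 4 n7340
theorem D9525 : act 4 n7340 = n9525 := rfl
theorem F15918 : act 1 n9525 = n7606 := d7_1 D9525 F12601 (iv F12190)
theorem F15919 : act 3 n9525 = n7598 := d12_1 D9525 (iv D7598) F9531 (iv F9217) (iv F12191)
theorem F15920 : act 5 n9525 = n7344 := d14_2 D7340 D9525 (iv D7344) (iv D5589) (iv F9215)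
def n9526 : Q := act 0 n7341
theorem D9526 : act 0 n7341 = n9526 := rfl
theorem F15921 : act 2 n9526 = n7610 := d1_2 (iv F12192) D9526 (iv D7610)
def n9527 : Q := act 3 n7341
theorem D9527 : act 3 n7341 = n9527 := rfl
theorem F15922 : act 1 n9527 = n7342 := d6_1 D9527 (iv D7342) D7341
def n9528 : Q := act 5 n7341
theorem D9528 : act 5 n7341 = n9528 := rfl
theorem F15923 : act 1 n9528 = n7343 := d8_1 D9528 (iv D7343) D7341
theorem F15924 : act 2 n9528 = n7609 := d11_1 D9528 F12605 (iv F12192)
def n9529 : Q := act 4 n7342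
theorem D9529 : act 4 n7342 = n9529 := rfl
def n9530 : Q := act 4 n7343
theorem D9530 : act 4 n7343 = n9530 := rfl
theorem F15925 : act 2 n9530 = n7344 := d10_1 D9530 (iv D7344) (iv F12193)
def n9531 : Q := act 3 n7345
theorem D9531 : act 3 n7345 = n9531 := rfl
theorem F15926 : act 0 n9531 = n7346 := d2_1 D9531 (iv D7346) D7345
theorem F15927 : act 5 n9531 = n8579 := d13_2 (iv F12198) D9531 (iv D8579)
theorem F15928 : act 2 n9531 = n8572 := d15_2 (iv F12196) D9531 (iv D8572) (iv D6570) (iv D4979) F6077 D3726 (iv F6892) D5592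
def n9532 : Q := act 2 n7346
theorem D9532 : act 2 n7346 = n9532 := rfl
theorem F15929 : act 0 n9532 = n8572 := d1_1 D9532 (iv F15928) F15926
theorem F15930 : act 5 n9532 = n8580 := d11_2 (iv F12200) D9532 (iv D8580)
theorem F15931 : act 3 n9532 = n8569 := d15_1 D9532 (iv D8569) (iv D6569) F8131 D4982 D6575 D8579 (iv F15927) F15926
def n9533 : Q := act 4 n7346
theorem D9533 : act 4 n7346 = n9533 := rfl
theorem F15932 : act 1 n9533 = n7347 := d7_1 D9533 (iv D7347) (iv F12199)
theorem F15933 : act 3 n9533 = n7634 := d12_1 D9533 (iv D7634) (iv D5817) (iv F9221) D7346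
def n9534 : Q := act 5 n7347
theorem D9534 : act 5 n7347 = n9534 := rfl
theorem F15934 : act 3 n9534 = n7637 := d13_1 D9534 (iv D7637) (iv F12201)
def n9535 : Q := act 2 n7348
theorem D9535 : act 2 n7348 = n9535 := rfl
theorem F15935 : act 0 n9535 = n7350 := d1_1 D9535 (iv D7350) (iv F12202)
theorem F15936 : act 4 n9535 = n9479 := d10_2 (iv F12204) D9535 (iv D9479)
def n9536 : Q := act 5 n7348
theorem D9536 : act 5 n7348 = n9536 := rfl
theorem F15937 : act 0 n9536 = n7351 := d4_1 D9536 (iv D7351) (iv F12202)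
theorem F15938 : act 1 n9536 = n7363 := d8_1 D9536 (iv D7363) (iv F12203)
theorem F15939 : act 3 n9536 = n7349 := d13_1 D9536 (iv D7349) D7348
def n9537 : Q := act 1 n7350
theorem D9537 : act 1 n7350 = n9537 := rfl
theorem F15940 : act 2 n9537 = n7354 := d5_2 D7350 D9537 (iv D7354) (iv D5597) (iv F9230)
def n9538 : Q := act 3 n7350
theorem D9538 : act 3 n7350 = n9538 := rfl
def n9539 : Q := act 5 n7350
theorem D9539 : act 5 n7350 = n9539 := rfl
theorem F15941 : act 2 n9539 = n7351 := d11_1 D9539 (iv D7351) D7350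
def n9540 : Q := act 4 n7351
theorem D9540 : act 4 n7351 = n9540 := rfl
theorem F15942 : act 1 n9540 = n7355 := d7_1 D9540 (iv D7355) (iv F12209)
def n9541 : Q := act 3 n7352
theorem D9541 : act 3 n7352 = n9541 := rfl
theorem F15943 : act 0 n9541 = n7552 := d2_1 D9541 F12503 (iv F12211)
theorem F15944 : act 1 n9541 = n7356 := d6_1 D9541 (iv D7356) (iv F12212)
theorem F15945 : act 5 n9541 = n7353 := d13_2 (iv F12214) D9541 (iv D7353)
def n9542 : Q := act 2 n7353
theorem D9542 : act 2 n7353 = n9542 := rfl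
theorem F15946 : act 0 n9542 = n7551 := d1_1 D9542 (iv D7551) (iv F12215)
theorem F15947 : act 4 n9542 = n7419 := d10_2 (iv F12217) D9542 (iv D7419)
def n9543 : Q := act 0 n7354
theorem D9543 : act 0 n7354 = n9543 := rfl
theorem F15948 : act 1 n9543 = n7376 := d0_2 D7354 D9543 (iv D7376) (iv D5614) (iv F9235)
def n9544 : Q := act 3 n7355
theorem D9544 : act 3 n7355 = n9544 := rfl
theorem F15949 : act 0 n9544 = n7381 := d2_1 D9544 (iv D7381) (iv F12218)
theorem F15950 : act 4 n9544 = n7356 := d12_2 D7355 D9544 (iv D7356) (iv D5599) (iv F9237)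
theorem F15951 : act 5 n9544 = n7424 := d13_2 F15052 D9544 (iv F15051)
def n9545 : Q := act 2 n7356
theorem D9545 : act 2 n7356 = n9545 := rfl
theorem F15952 : act 0 n9545 = n7382 := d1_1 D9545 (iv D7382) (iv F12219)
theorem F15953 : act 5 n9545 = n7357 := d11_2 (iv F12220) D9545 (iv D7357)
theorem F15954 : act 3 n9545 = n7388 := d15_1 D9545 (iv D7388) (iv D5622) (iv D4228) (iv D3136) (iv F5131) D4226 (iv F9273) (iv F12219)
def n9546 : Q := act 1 n7357
theorem D9546 : act 1 n7357 = n9546 := rfl
theorem F15955 : act 4 n9546 = n7421 := d7_2 (iv F12222) D9546 (iv D7421)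
def n9547 : Q := act 3 n7357
theorem D9547 : act 3 n7357 = n9547 := rfl
theorem F15956 : act 0 n9547 = n7384 := d2_1 D9547 (iv D7384) (iv F12221)
theorem F15957 : act 5 n9547 = n7388 := d13_2 F15953 D9547 (iv F15954)
theorem F15958 : act 2 n9547 = n7385 := d15_2 D7357 D9547 (iv D7385) (iv D5620) (iv D4227) (iv F6929) D5618 F9273 (iv F9241)
def n9548 : Q := act 1 n7358
theorem D9548 : act 1 n7358 = n9548 := rfl
theorem F15959 : act 0 n9548 = n8627 := d0_1 D9548 (iv D8627) F10915 (iv F9274) (iv F12223)
theorem F15960 : act 2 n9548 = n7629 := d5_2 D7358 D9548 F12639 F9563 (iv F9244)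
theorem F15961 : act 5 n9548 = n7359 := d8_2 (iv F12224) D9548 (iv D7359)
def n9549 : Q := act 3 n7358
theorem D9549 : act 3 n7358 = n9549 := rfl
theorem F15962 : act 0 n9549 = n7385 := d2_1 D9549 (iv D7385) (iv F12223)
theorem F15963 : act 2 n9549 = n7384 := d9_1 D9549 (iv D7384) (iv D5619) (iv D4226) F5131 D3136 D4228 D5622 D7388 (iv F15954) (iv D9545) (iv D7356) F9239 D5601 D7358
theorem F15964 : act 5 n9549 = n7360 := d13_2 (iv F12224) D9549 (iv D7360)
def n9550 : Q := act 0 n7359
theorem D9550 : act 0 n7359 = n9550 := rfl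
theorem F15965 : act 1 n9550 = n7386 := d0_2 D7359 D9550 (iv D7386) (iv D5621) (iv F9246)
theorem F15966 : act 2 n9550 = n7627 := d1_2 (iv F12225) D9550 (iv D7627)
theorem F15967 : act 4 n9550 = n7361 := d3_2 (iv F12226) D9550 (iv D7361)
theorem F15968 : act 5 n9550 = n8627 := d4_2 F15961 D9550 (iv F15959)
def n9551 : Q := act 3 n7359
theorem D9551 : act 3 n7359 = n9551 := rfl
theorem F15969 : act 1 n9551 = n7360 := d6_1 D9551 (iv D7360) D7359
def n9552 : Q := act 2 n7360
theorem D9552 : act 2 n7360 = n9552 := rfl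
theorem F15970 : act 0 n9552 = n7388 := d1_1 D9552 (iv D7388) (iv F12227)
theorem F15971 : act 3 n9552 = n7382 := d9_2 D7360 D9552 (iv D7382) (iv D5618) F6929 D4227 D5620 D7385 (iv F15958) (iv D9547) (iv D7357) (iv D5600) F6906 D4214 D5602
theorem F15972 : act 5 n9552 = n7384 := d11_2 F15964 D9552 (iv F15963)
def n9553 : Q := act 1 n7362
theorem D9553 : act 1 n7362 = n9553 := rfl
theorem F15973 : act 4 n9553 = n9481 := d7_2 (iv F12230) D9553 (iv D9481)
def n9554 : Q := act 5 n7362
theorem D9554 : act 5 n7362 = n9554 := rfl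
theorem F15974 : act 0 n9554 = n7368 := d4_1 D9554 (iv D7368) (iv F12229)
theorem F15975 : act 2 n9554 = n7363 := d11_1 D9554 (iv D7363) D7362
theorem F15976 : act 3 n9554 = n7396 := d13_1 D9554 (iv F14286) F14287
def n9555 : Q := act 4 n7363
theorem D9555 : act 4 n7363 = n9555 := rfl
theorem F15977 : act 0 n9555 = n7369 := d3_1 D9555 (iv D7369) (iv F12231)
theorem F15978 : act 3 n9555 = n7556 := d12_1 D9555 (iv D7556) F9473 (iv F9252) (iv F12232)
theorem F15979 : act 5 n9555 = n9484 := d14_2 D7363 D9555 (iv D9484) (iv D7303) (iv F9249)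
def n9556 : Q := act 1 n7364
theorem D9556 : act 1 n7364 = n9556 := rfl
theorem F15980 : act 2 n9556 = n7370 := d5_2 D7364 D9556 (iv D7370) (iv D5610) (iv F9254)
theorem F15981 : act 4 n9556 = n7366 := d7_2 (iv F12234) D9556 (iv D7366)
def n9557 : Q := act 3 n7364
theorem D9557 : act 3 n7364 = n9557 := rfl
theorem F15982 : act 0 n9557 = n9482 := d2_1 D9557 (iv D9482) (iv F12233)
theorem F15983 : act 2 n9557 = n9489 := d15_2 D7364 D9557 F15854 F12127 F9177 (iv F9175) (iv F12125) (iv D7303) (iv F9253)
theorem F15984 : act 5 n9488 = n9557 := d11_0 F15983 (iv D9489) D9488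
def n9558 : Q := act 5 n7364
theorem D9558 : act 5 n7364 = n9558 := rfl
theorem F15985 : act 0 n9558 = n9483 := d4_1 D9558 (iv D9483) (iv F12233)
theorem F15986 : act 2 n9558 = n7365 := d11_1 D9558 (iv D7365) D7364
theorem F15987 : act 3 n9558 = n9488 := d13_1 D9558 F15984 (iv D9557)
def n9559 : Q := act 4 n7365
theorem D9559 : act 4 n7365 = n9559 := rfl
theorem F15988 : act 0 n9559 = n9484 := d3_1 D9559 (iv D9484) (iv F12235)
theorem F15989 : act 1 n9559 = n7373 := d7_1 D9559 (iv D7373) (iv F12236)
theorem F15990 : act 3 n9559 = n7562 := d12_1 D9559 (iv D7562) F9484 (iv F9259) (iv F12237)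
theorem F15991 : act 5 n9559 = n7369 := d14_2 D7365 D9559 (iv D7369) (iv D5609) (iv F9255)
def n9560 : Q := act 0 n7366
theorem D9560 : act 0 n7366 = n9560 := rfl
theorem F15992 : act 2 n9560 = n7376 := d1_2 (iv F12238) D9560 (iv D7376)
def n9561 : Q := act 3 n7366
theorem D9561 : act 3 n7366 = n9561 := rfl
theorem F15993 : act 1 n9561 = n7367 := d6_1 D9561 (iv D7367) D7366
def n9562 : Q := act 5 n7366
theorem D9562 : act 5 n7366 = n9562 := rfl
theorem F15994 : act 1 n9562 = n7368 := d8_1 D9562 (iv D7368) D7366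
theorem F15995 : act 2 n9562 = n7378 := d11_1 D9562 (iv D7378) (iv F12238)
def n9563 : Q := act 4 n7367
theorem D9563 : act 4 n7367 = n9563 := rfl
def n9564 : Q := act 5 n7367
theorem D9564 : act 5 n7367 = n9564 := rfl
theorem F15996 : act 0 n9564 = n7396 := d4_1 D9564 (iv F14286) F14285
theorem F15997 : act 2 n9564 = n7395 := d11_1 D9564 (iv F14268) F14269
theorem F15998 : act 3 n9564 = n7368 := d13_1 D9564 (iv D7368) D7367
theorem F15999 : act 4 n9102 = n9564 := d10_0 F15997 F12271 D9102
def n9565 : Q := act 4 n7368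
theorem D9565 : act 4 n7368 = n9565 := rfl
theorem F16000 : act 2 n9565 = n7369 := d10_1 D9565 (iv D7369) (iv F12239)
def n9566 : Q := act 0 n7370
theorem D9566 : act 0 n7370 = n9566 := rfl
theorem F16001 : act 4 n9566 = n7376 := d3_2 (iv F12242) D9566 (iv D7376)
def n9567 : Q := act 3 n7370
theorem D9567 : act 3 n7370 = n9567 := rfl
theorem F16002 : act 1 n9567 = n7371 := d6_1 D9567 (iv D7371) D7370
def n9568 : Q := act 5 n7370
theorem D9568 : act 5 n7370 = n9568 := rfl
theorem F16003 : act 1 n9568 = n7372 := d8_1 D9568 (iv D7372) D7370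
def n9569 : Q := act 4 n7371
theorem D9569 : act 4 n7371 = n9569 := rfl
theorem F16004 : act 3 n9569 = n7379 := d12_1 D9569 (iv D7379) (iv D5615) (iv F9262) D7371
def n9570 : Q := act 4 n7372
theorem D9570 : act 4 n7372 = n9570 := rfl
theorem F16005 : act 2 n9570 = n7373 := d10_1 D9570 (iv D7373) (iv F12243)
theorem F16006 : act 5 n9570 = n7380 := d14_2 D7372 D9570 (iv D7380) (iv D5616) (iv F9262)
def n9571 : Q := act 3 n7373
theorem D9571 : act 3 n7373 = n9571 := rfl
theorem F16007 : act 0 n9571 = n7424 := d2_1 D9571 (iv F15051) F15050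
theorem F16008 : act 1 n9571 = n7562 := d6_1 D9571 (iv F15990) F15989
theorem F16009 : act 4 n9571 = n7374 := d12_2 D7373 D9571 (iv D7374) (iv D5612) (iv F9263)
theorem F16010 : act 5 n9571 = n7381 := d13_2 (iv F12244) D9571 (iv D7381)
def n9572 : Q := act 2 n7374
theorem D9572 : act 2 n7374 = n9572 := rfl
theorem F16011 : act 0 n9572 = n7423 := d1_1 D9572 F12311 (iv F12245)
theorem F16012 : act 5 n9572 = n7375 := d11_2 (iv F12247) D9572 (iv D7375)
theorem F16013 : act 3 n9572 = n7428 := d15_1 D9572 (iv D7428) (iv D5649) (iv D4251) (iv D3153) (iv F5159) D4249 D5647 (iv F12245)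
def n9573 : Q := act 1 n7375
theorem D9573 : act 1 n7375 = n9573 := rfl
theorem F16014 : act 2 n9573 = n7559 := d5_2 D7375 D9573 (iv D7559) (iv D5760) (iv F9269)
theorem F16015 : act 4 n9573 = n7383 := d7_2 (iv F12249) D9573 (iv D7383)
def n9574 : Q := act 3 n7375
theorem D9574 : act 3 n7375 = n9574 := rfl
theorem F16016 : act 0 n9574 = n7422 := d2_1 D9574 (iv D7422) (iv F12248)
theorem F16017 : act 5 n9574 = n7428 := d13_2 F16012 D9574 (iv F16013)
theorem F16018 : act 2 n9574 = n7430 := d15_2 D7375 D9574 F12316 F9314 F6968 (iv F6966) (iv F9312) (iv D5647) (iv F9268)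
def n9575 : Q := act 3 n7376
theorem D9575 : act 3 n7376 = n9575 := rfl
theorem F16019 : act 0 n9575 = n7377 := d2_1 D9575 (iv D7377) D7376
def n9576 : Q := act 5 n7376
theorem D9576 : act 5 n7376 = n9576 := rfl
theorem F16020 : act 0 n9576 = n7378 := d4_1 D9576 (iv D7378) D7376
def n9577 : Q := act 2 n7377
theorem D9577 : act 2 n7377 = n9577 := rfl
def n9578 : Q := act 4 n7377
theorem D9578 : act 4 n7377 = n9578 := rfl
theorem F16021 : act 1 n9578 = n7379 := d7_1 D9578 (iv D7379) (iv F12250)
def n9579 : Q := act 4 n7378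
theorem D9579 : act 4 n7378 = n9579 := rfl
theorem F16022 : act 1 n9579 = n7380 := d7_1 D9579 (iv D7380) (iv F12251)
def n9580 : Q := act 2 n7381
theorem D9580 : act 2 n7381 = n9580 := rfl
theorem F16023 : act 4 n9580 = n7382 := d10_2 (iv F12254) D9580 (iv D7382)
def n9581 : Q := act 1 n7382
theorem D9581 : act 1 n7382 = n9581 := rfl
theorem F16024 : act 2 n9581 = n7565 := d5_2 D7382 D9581 F12522 F9489 (iv F9272)
theorem F16025 : act 5 n9581 = n7383 := d8_2 (iv F12255) D9581 (iv D7383)
def n9582 : Q := act 0 n7383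
theorem D9582 : act 0 n7383 = n9582 := rfl
theorem F16026 : act 2 n9582 = n7563 := d1_2 (iv F12256) D9582 (iv D7563)
def n9583 : Q := act 3 n7383
theorem D9583 : act 3 n7383 = n9583 := rfl
theorem F16027 : act 1 n9583 = n7384 := d6_1 D9583 (iv D7384) D7383
def n9584 : Q := act 4 n7384
theorem D9584 : act 4 n7384 = n9584 := rfl
def n9585 : Q := act 4 n7385
theorem D9585 : act 4 n7385 = n9585 := rfl
theorem F16028 : act 1 n9585 = n8630 := d7_1 D9585 (iv D8630) (iv F12257)
def n9586 : Q := act 3 n7386
theorem D9586 : act 3 n7386 = n9586 := rfl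
theorem F16029 : act 0 n9586 = n7387 := d2_1 D9586 (iv D7387) D7386
theorem F16030 : act 5 n9586 = n8628 := d13_2 (iv F12261) D9586 (iv D8628)
theorem F16031 : act 2 n9586 = n8615 := d15_2 (iv F12259) D9586 (iv D8615) (iv D6602) (iv D5000) F6093 D3742 (iv F6946) D5628
def n9587 : Q := act 2 n7387
theorem D9587 : act 2 n7387 = n9587 := rfl
theorem F16032 : act 0 n9587 = n8615 := d1_1 D9587 (iv F16031) F16029
theorem F16033 : act 5 n9587 = n8629 := d11_2 (iv F12263) D9587 (iv D8629)
theorem F16034 : act 3 n9587 = n8612 := d15_1 D9587 (iv D8612) (iv D6600) F8155 D5006 D6610 D8628 (iv F16030) F16029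
def n9588 : Q := act 4 n7387
theorem D9588 : act 4 n7387 = n9588 := rfl
theorem F16035 : act 1 n9588 = n7389 := d7_1 D9588 (iv D7389) (iv F12262)
theorem F16036 : act 3 n9588 = n7392 := d12_1 D9588 (iv D7392) (iv D5624) (iv F9277) D7387
def n9589 : Q := act 1 n7388
theorem D9589 : act 1 n7388 = n9589 := rfl
def n9590 : Q := act 4 n7388
theorem D9590 : act 4 n7388 = n9590 := rfl
theorem F16037 : act 2 n9590 = n7389 := d10_1 D9590 (iv D7389) D7388
def n9591 : Q := act 5 n7389
theorem D9591 : act 5 n7389 = n9591 := rfl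
theorem F16038 : act 3 n9591 = n7393 := d13_1 D9591 (iv D7393) (iv F12264)
def n9592 : Q := act 2 n7390
theorem D9592 : act 2 n7390 = n9592 := rfl
theorem F16039 : act 0 n9592 = n7391 := d1_1 D9592 (iv D7391) (iv F12265)
theorem F16040 : act 3 n9592 = n8378 := d15_1 D9592 (iv D8378) (iv D6425) F7939 (iv F6771) (iv F8982) D7153 F11870 (iv F12265)
def n9593 : Q := act 4 n7390
theorem D9593 : act 4 n7390 = n9593 := rfl
theorem F16041 : act 0 n9593 = n7392 := d3_1 D9593 (iv D7392) (iv F12265)
def n9594 : Q := act 3 n7391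
theorem D9594 : act 3 n7391 = n9594 := rfl
theorem F16042 : act 0 n9594 = n8378 := d2_1 D9594 (iv F16040) F16039
theorem F16043 : act 2 n9594 = n8375 := d15_2 D7391 D9594 (iv D8375) F10612 (iv F9098) (iv F11867) D9309 F15555 F12265
def n9595 : Q := act 4 n7391
theorem D9595 : act 4 n7391 = n9595 := rfl
theorem F16044 : act 2 n9595 = n7392 := d10_1 D9595 (iv D7392) D7391
def n9596 : Q := act 5 n7392
theorem D9596 : act 5 n7392 = n9596 := rfl
theorem F16045 : act 1 n9596 = n7393 := d8_1 D9596 (iv D7393) (iv F12266)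
def n9597 : Q := act 3 n7394
theorem D9597 : act 3 n7394 = n9597 := rfl
theorem F16046 : act 0 n9597 = n8418 := d2_1 D9597 (iv D8418) (iv F12267)
theorem F16047 : act 1 n9597 = n7395 := d6_1 D9597 (iv D7395) D7394
theorem F16048 : act 4 n9597 = n9100 := d12_2 (iv F12269) D9597 (iv D9100) (iv D6989) (iv F9476)
def n9598 : Q := act 1 n7396
theorem D9598 : act 1 n7396 = n9598 := rfl
theorem F16049 : act 2 n9598 = n8429 := d5_2 D7396 D9598 (iv D8429) (iv D6467) (iv F9283)
def n9599 : Q := act 4 n7396
theorem D9599 : act 4 n7396 = n9599 := rfl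
theorem F16050 : act 0 n9599 = n9102 := d3_1 D9599 F15999 F15996
theorem F16051 : act 2 n9599 = n7397 := d10_1 D9599 (iv D7397) D7396
def n9600 : Q := act 5 n7397
theorem D9600 : act 5 n7397 = n9600 := rfl
theorem F16052 : act 0 n9600 = n9103 := d4_1 D9600 (iv D9103) (iv F12272)
theorem F16053 : act 1 n9600 = n8428 := d8_1 D9600 (iv D8428) (iv F12273)
theorem F16054 : act 3 n9600 = n7568 := d13_1 D9600 (iv D7568) (iv F12274)
def n9601 : Q := act 1 n7398
theorem D9601 : act 1 n7398 = n9601 := rfl
theorem F16055 : act 0 n9601 = n8368 := d0_1 D9601 F13903 F10599 (iv F9291) (iv F12275)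
theorem F16056 : act 2 n9601 = n8500 := d5_2 D7398 D9601 F14132 F10828 (iv F9289)
theorem F16057 : act 5 n9601 = n8365 := d8_2 (iv F12276) D9601 F13899
def n9602 : Q := act 3 n7398
theorem D9602 : act 3 n7398 = n9602 := rfl
theorem F16058 : act 0 n9602 = n7399 := d2_1 D9602 (iv D7399) (iv F12275)
theorem F16059 : act 5 n9602 = n8375 := d13_2 (iv F12276) D9602 (iv D8375)
def n9603 : Q := act 2 n7399
theorem D9603 : act 2 n7399 = n9603 := rfl
theorem F16060 : act 5 n9603 = n8378 := d11_2 (iv F12278) D9603 (iv D8378)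
def n9604 : Q := act 4 n7399
theorem D9604 : act 4 n7399 = n9604 := rfl
theorem F16061 : act 1 n9604 = n8385 := d7_1 D9604 (iv D8385) (iv F12277)
def n9605 : Q := act 2 n7400
theorem D9605 : act 2 n7400 = n9605 := rfl
theorem F16062 : act 4 n9605 = n9442 := d10_2 (iv F12280) D9605 (iv D9442)
def n9606 : Q := act 5 n7400
theorem D9606 : act 5 n7400 = n9606 := rfl
theorem F16063 : act 1 n9606 = n7558 := d8_1 D9606 (iv D7558) (iv F12279)
theorem F16064 : act 3 n9606 = n7401 := d13_1 D9606 (iv D7401) D7400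
def n9607 : Q := act 1 n7402
theorem D9607 : act 1 n7402 = n9607 := rfl
theorem F16065 : act 2 n9607 = n7408 := d5_2 D7402 D9607 (iv D7408) (iv D5636) (iv F9295)
theorem F16066 : act 4 n9607 = n7404 := d7_2 (iv F12284) D9607 (iv D7404)
def n9608 : Q := act 3 n7402
theorem D9608 : act 3 n7402 = n9608 := rfl
def n9609 : Q := act 5 n7402
theorem D9609 : act 5 n7402 = n9609 := rfl
theorem F16067 : act 2 n9609 = n7403 := d11_1 D9609 (iv D7403) D7402
def n9610 : Q := act 4 n7403
theorem D9610 : act 4 n7403 = n9610 := rfl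
theorem F16068 : act 0 n9610 = n7790 := d3_1 D9610 (iv F13685) F13682
theorem F16069 : act 1 n9610 = n7411 := d7_1 D9610 (iv D7411) (iv F12285)
theorem F16070 : act 3 n9610 = n7788 := d12_1 D9610 (iv F14962) F14961 F11454 (iv F12286)
theorem F16071 : act 5 n9610 = n7407 := d14_2 D7403 D9610 (iv D7407) (iv D5635) (iv F9296)
def n9611 : Q := act 0 n7404
theorem D9611 : act 0 n7404 = n9611 := rfl
theorem F16072 : act 2 n9611 = n7412 := d1_2 (iv F12287) D9611 (iv D7412)
def n9612 : Q := act 3 n7404
theorem D9612 : act 3 n7404 = n9612 := rfl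
theorem F16073 : act 1 n9612 = n7405 := d6_1 D9612 (iv D7405) D7404
def n9613 : Q := act 4 n7405
theorem D9613 : act 4 n7405 = n9613 := rfl
def n9614 : Q := act 4 n7406
theorem D9614 : act 4 n7406 = n9614 := rfl
theorem F16074 : act 0 n9614 = n7789 := d3_1 D9614 (iv F14973) F14972
theorem F16075 : act 2 n9614 = n7407 := d10_1 D9614 (iv D7407) (iv F12288)
def n9615 : Q := act 0 n7408
theorem D9615 : act 0 n7408 = n9615 := rfl
theorem F16076 : act 1 n9615 = n7425 := d0_2 D7408 D9615 (iv D7425) (iv D5648) (iv F9300)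
theorem F16077 : act 4 n9615 = n7412 := d3_2 (iv F12292) D9615 (iv D7412)
def n9616 : Q := act 3 n7408
theorem D9616 : act 3 n7408 = n9616 := rfl
theorem F16078 : act 1 n9616 = n7409 := d6_1 D9616 (iv D7409) D7408
def n9617 : Q := act 5 n7408
theorem D9617 : act 5 n7408 = n9617 := rfl
theorem F16079 : act 1 n9617 = n7410 := d8_1 D9617 (iv D7410) D7408
def n9618 : Q := act 2 n7409
theorem D9618 : act 2 n7409 = n9618 := rfl
theorem F16080 : act 0 n9618 = n7428 := d1_1 D9618 (iv D7428) (iv F12293)
theorem F16081 : act 3 n9618 = n7423 := d9_2 D7409 D9618 F12311 F9312 F6966 (iv F6968) (iv F9314) (iv F12316) (iv F16018) (iv D9574) (iv D7375) (iv D5613) F6926 D4241 D5636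
theorem F16082 : act 5 n7422 = n9618 := d13_0 F16081 (iv D7423) D7422
def n9619 : Q := act 5 n7409
theorem D9619 : act 5 n7409 = n9619 := rfl
theorem F16083 : act 0 n9619 = n7430 := d4_1 D9619 (iv D7430) (iv F12293)
theorem F16084 : act 2 n9619 = n7422 := d11_1 D9619 F16082 (iv D9618)
theorem F16085 : act 3 n9619 = n7410 := d13_1 D9619 (iv D7410) D7409
def n9620 : Q := act 2 n7413
theorem D9620 : act 2 n7413 = n9620 := rfl
theorem F16086 : act 0 n9620 = n7414 := d1_1 D9620 (iv D7414) (iv F12299)
def n9621 : Q := act 4 n7413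
theorem D9621 : act 4 n7413 = n9621 := rfl
theorem F16087 : act 0 n9621 = n7415 := d3_1 D9621 (iv D7415) (iv F12299)
theorem F16088 : act 1 n9621 = n7440 := d7_1 D9621 (iv D7440) (iv F12300)
def n9622 : Q := act 3 n7414
theorem D9622 : act 3 n7414 = n9622 := rfl
def n9623 : Q := act 4 n7414
theorem D9623 : act 4 n7414 = n9623 := rfl
theorem F16089 : act 2 n9623 = n7415 := d10_1 D9623 (iv D7415) D7414
def n9624 : Q := act 5 n7415
theorem D9624 : act 5 n7415 = n9624 := rfl
theorem F16090 : act 1 n9624 = n7416 := d8_1 D9624 (iv D7416) (iv F12301)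
def n9625 : Q := act 2 n7417
theorem D9625 : act 2 n7417 = n9625 := rfl
theorem F16091 : act 0 n9625 = n7419 := d1_1 D9625 (iv D7419) (iv F12303)
theorem F16092 : act 4 n9625 = n7551 := d10_2 (iv F12305) D9625 (iv D7551)
def n9626 : Q := act 5 n7417
theorem D9626 : act 5 n7417 = n9626 := rfl
theorem F16093 : act 0 n9626 = n7420 := d4_1 D9626 (iv D7420) (iv F12303)
theorem F16094 : act 1 n9626 = n7554 := d8_1 D9626 (iv D7554) (iv F12304)
theorem F16095 : act 3 n9626 = n7418 := d13_1 D9626 (iv D7418) D7417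
def n9627 : Q := act 1 n7419
theorem D9627 : act 1 n7419 = n9627 := rfl
theorem F16096 : act 2 n9627 = n7421 := d5_2 D7419 D9627 (iv D7421) (iv D5646) (iv F9310)
def n9628 : Q := act 3 n7419
theorem D9628 : act 3 n7419 = n9628 := rfl
def n9629 : Q := act 5 n7419
theorem D9629 : act 5 n7419 = n9629 := rfl
theorem F16097 : act 2 n9629 = n7420 := d11_1 D9629 (iv D7420) D7419
def n9630 : Q := act 4 n7420
theorem D9630 : act 4 n7420 = n9630 := rfl
theorem F16098 : act 1 n9630 = n7424 := d7_1 D9630 (iv D7424) (iv F12309)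
def n9631 : Q := act 0 n7421
theorem D9631 : act 0 n7421 = n9631 := rfl
def n9632 : Q := act 3 n7421
theorem D9632 : act 3 n7421 = n9632 := rfl
theorem F16099 : act 1 n9632 = n7422 := d6_1 D9632 (iv D7422) D7421
def n9633 : Q := act 5 n7421
theorem D9633 : act 5 n7421 = n9633 := rfl
theorem F16100 : act 1 n9633 = n7423 := d8_1 D9633 (iv D7423) D7421
def n9634 : Q := act 4 n7422
theorem D9634 : act 4 n7422 = n9634 := rfl
def n9635 : Q := act 4 n7423
theorem D9635 : act 4 n7423 = n9635 := rfl
theorem F16101 : act 2 n9635 = n7424 := d10_1 D9635 (iv D7424) (iv F12311)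
def n9636 : Q := act 3 n7425
theorem D9636 : act 3 n7425 = n9636 := rfl
theorem F16102 : act 0 n9636 = n7426 := d2_1 D9636 (iv D7426) D7425
def n9637 : Q := act 5 n7425
theorem D9637 : act 5 n7425 = n9637 := rfl
theorem F16103 : act 0 n9637 = n7427 := d4_1 D9637 (iv D7427) D7425
def n9638 : Q := act 2 n7426
theorem D9638 : act 2 n7426 = n9638 := rfl
def n9639 : Q := act 4 n7426
theorem D9639 : act 4 n7426 = n9639 := rfl
theorem F16104 : act 1 n9639 = n7429 := d7_1 D9639 (iv D7429) (iv F12313)
theorem F16105 : act 3 n9639 = n7435 := d12_1 D9639 (iv D7435) (iv D5653) (iv F9313) D7426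
def n9640 : Q := act 5 n7426
theorem D9640 : act 5 n7426 = n9640 := rfl
theorem F16106 : act 1 n9640 = n7430 := d8_1 D9640 (iv D7430) (iv F12313)
theorem F16107 : act 3 n9640 = n7427 := d13_1 D9640 (iv D7427) D7426
def n9641 : Q := act 4 n7427
theorem D9641 : act 4 n7427 = n9641 := rfl
theorem F16108 : act 1 n9641 = n7431 := d7_1 D9641 (iv D7431) (iv F12314)
theorem F16109 : act 5 n9641 = n7436 := d14_2 D7427 D9641 (iv D7436) (iv D5654) (iv F9313)
def n9642 : Q := act 1 n7428
theorem D9642 : act 1 n7428 = n9642 := rfl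
def n9643 : Q := act 4 n7428
theorem D9643 : act 4 n7428 = n9643 := rfl
theorem F16110 : act 2 n9643 = n7429 := d10_1 D9643 (iv D7429) D7428
def n9644 : Q := act 5 n7429
theorem D9644 : act 5 n7429 = n9644 := rfl
theorem F16111 : act 3 n9644 = n7437 := d13_1 D9644 (iv D7437) (iv F12315)
def n9645 : Q := act 4 n7430
theorem D9645 : act 4 n7430 = n9645 := rfl
def n9646 : Q := act 3 n7431
theorem D9646 : act 3 n7431 = n9646 := rfl
theorem F16112 : act 5 n9646 = n7438 := d13_2 (iv F12318) D9646 (iv D7438)
def n9647 : Q := act 2 n7432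
theorem D9647 : act 2 n7432 = n9647 := rfl
theorem F16113 : act 0 n9647 = n7434 := d1_1 D9647 (iv D7434) (iv F12319)
def n9648 : Q := act 4 n7432
theorem D9648 : act 4 n7432 = n9648 := rfl
theorem F16114 : act 0 n9648 = n7435 := d3_1 D9648 (iv D7435) (iv F12319)
def n9649 : Q := act 4 n7433
theorem D9649 : act 4 n7433 = n9649 := rfl
theorem F16115 : act 0 n9649 = n7436 := d3_1 D9649 (iv D7436) (iv F12320)
def n9650 : Q := act 3 n7434
theorem D9650 : act 3 n7434 = n9650 := rfl
def n9651 : Q := act 4 n7434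
theorem D9651 : act 4 n7434 = n9651 := rfl
theorem F16116 : act 2 n9651 = n7435 := d10_1 D9651 (iv D7435) D7434
def n9652 : Q := act 5 n7435
theorem D9652 : act 5 n7435 = n9652 := rfl
theorem F16117 : act 1 n9652 = n7437 := d8_1 D9652 (iv D7437) (iv F12321)
def n9653 : Q := act 3 n7436
theorem D9653 : act 3 n7436 = n9653 := rfl
theorem F16118 : act 1 n9653 = n7438 := d6_1 D9653 (iv D7438) (iv F12322)
def n9654 : Q := act 2 n7438
theorem D9654 : act 2 n7438 = n9654 := rfl
def n9655 : Q := act 1 n7439
theorem D9655 : act 1 n7439 = n9655 := rfl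
theorem F16119 : act 3 n9655 = n8546 := d6_2 F15522 D9655 (iv F15521)
def n9656 : Q := act 4 n7439
theorem D9656 : act 4 n7439 = n9656 := rfl
theorem F16120 : act 0 n9656 = n7443 := d3_1 D9656 (iv D7443) (iv F12323)
theorem F16121 : act 2 n9656 = n7440 := d10_1 D9656 (iv D7440) D7439
def n9657 : Q := act 5 n7440
theorem D9657 : act 5 n7440 = n9657 := rfl
theorem F16122 : act 0 n9657 = n7444 := d4_1 D9657 (iv D7444) (iv F12324)
theorem F16123 : act 4 n9657 = n7819 := d14_1 D9657 (iv D7819) (iv F11820) F11821 D7440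
def n9658 : Q := act 0 n7441
theorem D9658 : act 0 n7441 = n9658 := rfl
theorem F16124 : act 2 n9658 = n7445 := d1_2 (iv F12325) D9658 (iv D7445)
def n9659 : Q := act 3 n7441
theorem D9659 : act 3 n7441 = n9659 := rfl
theorem F16125 : act 1 n9659 = n7442 := d6_1 D9659 (iv D7442) D7441
def n9660 : Q := act 4 n7441
theorem D9660 : act 4 n7441 = n9660 := rfl
theorem F16126 : act 1 n9660 = n7443 := d7_1 D9660 (iv D7443) D7441
theorem F16127 : act 2 n9660 = n7446 := d10_1 D9660 (iv D7446) (iv F12325)
def n9661 : Q := act 3 n7443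
theorem D9661 : act 3 n7443 = n9661 := rfl
theorem F16128 : act 4 n9661 = n9558 := d12_2 D7443 D9661 F15987 F15853 (iv D7442)
theorem F16129 : act 2 n9661 = n9559 := d15_6 F12511 (iv F14086) F14085 F11556 (iv F12326) D9661 F15990 F12518 (iv F12510)
theorem F16130 : act 5 n9565 = n9661 := d11_0 F16129 F15991 (iv F16000)
def n9662 : Q := act 5 n7443
theorem D9662 : act 5 n7443 = n9662 := rfl
theorem F16131 : act 2 n9662 = n7444 := d11_1 D9662 (iv D7444) (iv F12326)
theorem F16132 : act 3 n9662 = n9565 := d13_1 D9662 F16130 (iv D9661)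
def n9663 : Q := act 4 n7445
theorem D9663 : act 4 n7445 = n9663 := rfl
theorem F16133 : act 0 n9663 = n7446 := d3_1 D9663 (iv D7446) D7445
def n9664 : Q := act 3 n7446
theorem D9664 : act 3 n7446 = n9664 := rfl
theorem F16134 : act 1 n9664 = n7447 := d6_1 D9664 (iv D7447) (iv F12328)
def n9665 : Q := act 5 n7446
theorem D9665 : act 5 n7446 = n9665 := rfl
theorem F16135 : act 1 n9665 = n7448 := d8_1 D9665 (iv D7448) (iv F12328)
def n9666 : Q := act 2 n7447
theorem D9666 : act 2 n7447 = n9666 := rfl
def n9667 : Q := act 5 n7447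
theorem D9667 : act 5 n7447 = n9667 := rfl
theorem F16136 : act 3 n9667 = n7448 := d13_1 D9667 (iv D7448) D7447
def n9668 : Q := act 3 n7449
theorem D9668 : act 3 n7449 = n9668 := rfl
theorem F16137 : act 0 n9668 = n7453 := d2_1 D9668 (iv D7453) (iv F12330)
theorem F16138 : act 1 n9668 = n7450 := d6_1 D9668 (iv D7450) D7449
theorem F16139 : act 5 n9668 = n8575 := d13_2 F15513 D9668 F15514
def n9669 : Q := act 4 n7450
theorem D9669 : act 4 n7450 = n9669 := rfl
theorem F16140 : act 0 n9669 = n7452 := d3_1 D9669 (iv D7452) (iv F12331)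
def n9670 : Q := act 1 n7451
theorem D9670 : act 1 n7451 = n9670 := rfl
theorem F16141 : act 2 n9670 = n7455 := d5_2 D7451 D9670 (iv D7455) (iv D5667) (iv F9323)
theorem F16142 : act 5 n9670 = n8546 := d8_2 F15523 D9670 (iv F15521)
def n9671 : Q := act 4 n7451
theorem D9671 : act 4 n7451 = n9671 := rfl
theorem F16143 : act 2 n9671 = n7452 := d10_1 D9671 (iv D7452) D7451
def n9672 : Q := act 5 n7452
theorem D9672 : act 5 n7452 = n9672 := rfl
theorem F16144 : act 1 n9672 = n7457 := d8_1 D9672 (iv D7457) (iv F12332)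
def n9673 : Q := act 2 n7453
theorem D9673 : act 2 n7453 = n9673 := rfl
theorem F16145 : act 1 n9673 = n8527 := d5_1 D9673 (iv D8527) F10830 (iv F9325) (iv F12333)
theorem F16146 : act 5 n9673 = n8571 := d11_2 (iv F12334) D9673 F14212
def n9674 : Q := act 4 n7453
theorem D9674 : act 4 n7453 = n9674 := rfl
theorem F16147 : act 1 n9674 = n7454 := d7_1 D9674 (iv D7454) (iv F12333)
def n9675 : Q := act 5 n7454
theorem D9675 : act 5 n7454 = n9675 := rfl
theorem F16148 : act 0 n9675 = n7457 := d4_1 D9675 (iv D7457) (iv F12335)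
theorem F16149 : act 2 n9675 = n8529 := d11_1 D9675 (iv D8529) (iv F12336)
theorem F16150 : act 4 n9675 = n8577 := d14_1 D9675 (iv D8577) (iv D6573) (iv F9326) D7454
def n9676 : Q := act 0 n7455
theorem D9676 : act 0 n7455 = n9676 := rfl
theorem F16151 : act 1 n9676 = n8526 := d0_2 D7455 D9676 F14167 F10830 (iv F9327)
theorem F16152 : act 3 n9676 = n8500 := d2_2 (iv F12337) D9676 (iv D8500)
theorem F16153 : act 5 n9676 = n8545 := d4_2 (iv F12338) D9676 F14192
def n9677 : Q := act 4 n7455
theorem D9677 : act 4 n7455 = n9677 := rfl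
theorem F16154 : act 1 n9677 = n7456 := d7_1 D9677 (iv D7456) D7455
def n9678 : Q := act 3 n7456
theorem D9678 : act 3 n7456 = n9678 := rfl
theorem F16155 : act 0 n9678 = n8525 := d2_1 D9678 F14166 (iv F12339)
theorem F16156 : act 4 n9678 = n8499 := d12_2 D7456 D9678 (iv D8499) F10796 (iv F9328)
def n9679 : Q := act 5 n7456
theorem D9679 : act 5 n7456 = n9679 := rfl
theorem F16157 : act 0 n9679 = n8529 := d4_1 D9679 (iv D8529) (iv F12339)
theorem F16158 : act 2 n9679 = n7457 := d11_1 D9679 (iv D7457) (iv F12340)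
theorem F16159 : act 4 n9679 = n8548 := d14_1 D9679 (iv D8548) (iv D6555) (iv F9329) D7456
def n9680 : Q := act 2 n7458
theorem D9680 : act 2 n7458 = n9680 := rfl
theorem F16160 : act 0 n9680 = n9605 := d1_1 D9680 (iv D9605) (iv F12341)
theorem F16161 : act 4 n9680 = n7460 := d10_2 (iv F12343) D9680 (iv D7460)
def n9681 : Q := act 5 n7458
theorem D9681 : act 5 n7458 = n9681 := rfl
theorem F16162 : act 0 n9681 = n9606 := d4_1 D9681 (iv D9606) (iv F12341)
theorem F16163 : act 1 n9681 = n7463 := d8_1 D9681 (iv D7463) (iv F12342)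
theorem F16164 : act 3 n9681 = n7459 := d13_1 D9681 (iv D7459) D7458
def n9682 : Q := act 1 n7460
theorem D9682 : act 1 n7460 = n9682 := rfl
theorem F16165 : act 2 n9682 = n7464 := d5_2 D7460 D9682 (iv D7464) (iv D5674) (iv F9333)
def n9683 : Q := act 3 n7460
theorem D9683 : act 3 n7460 = n9683 := rfl
def n9684 : Q := act 5 n7460
theorem D9684 : act 5 n7460 = n9684 := rfl
theorem F16166 : act 2 n9684 = n7461 := d11_1 D9684 (iv D7461) D7460
def n9685 : Q := act 4 n7461
theorem D9685 : act 4 n7461 = n9685 := rfl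
theorem F16167 : act 1 n9685 = n7465 := d7_1 D9685 (iv D7465) (iv F12348)
def n9686 : Q := act 1 n7462
theorem D9686 : act 1 n7462 = n9686 := rfl
theorem F16168 : act 4 n9686 = n7464 := d7_2 (iv F12351) D9686 (iv D7464)
def n9687 : Q := act 3 n7462
theorem D9687 : act 3 n7462 = n9687 := rfl
theorem F16169 : act 0 n9687 = n7470 := d2_1 D9687 (iv D7470) (iv F12350)
def n9688 : Q := act 5 n7462
theorem D9688 : act 5 n7462 = n9688 := rfl
theorem F16170 : act 0 n9688 = n7471 := d4_1 D9688 (iv D7471) (iv F12350)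
theorem F16171 : act 2 n9688 = n7463 := d11_1 D9688 (iv D7463) D7462
def n9689 : Q := act 4 n7463
theorem D9689 : act 4 n7463 = n9689 := rfl
theorem F16172 : act 0 n9689 = n7472 := d3_1 D9689 (iv D7472) (iv F12352)
theorem F16173 : act 3 n9689 = n8554 := d12_1 D9689 (iv D8554) F10852 (iv F9339) (iv F12353)
theorem F16174 : act 5 n9689 = n7465 := d14_2 D7463 D9689 (iv D7465) (iv D5675) (iv F9336)
def n9690 : Q := act 0 n7464
theorem D9690 : act 0 n7464 = n9690 := rfl
theorem F16175 : act 1 n9690 = n7473 := d0_2 D7464 D9690 (iv D7473) (iv D5681) (iv F9340)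
def n9691 : Q := act 1 n7467
theorem D9691 : act 1 n7467 = n9691 := rfl
theorem F16176 : act 4 n9691 = n8233 := d7_2 (iv F12360) D9691 (iv D8233)
def n9692 : Q := act 3 n7467
theorem D9692 : act 3 n7467 = n9692 := rfl
theorem F16177 : act 0 n9692 = n8241 := d2_1 D9692 (iv D8241) (iv F12359)
def n9693 : Q := act 5 n7467
theorem D9693 : act 5 n7467 = n9693 := rfl
theorem F16178 : act 0 n9693 = n8242 := d4_1 D9693 (iv D8242) (iv F12359)
theorem F16179 : act 2 n9693 = n7468 := d11_1 D9693 (iv D7468) D7467
def n9694 : Q := act 4 n7468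
theorem D9694 : act 4 n7468 = n9694 := rfl
theorem F16180 : act 0 n9694 = n8243 := d3_1 D9694 (iv D8243) (iv F12361)
theorem F16181 : act 3 n9694 = n8543 := d12_1 D9694 (iv D8543) F10844 (iv F9350) (iv F12362)
theorem F16182 : act 5 n9694 = n8236 := d14_2 D7468 D9694 (iv D8236) (iv D6311) (iv F9347)
def n9695 : Q := act 0 n7469
theorem D9695 : act 0 n7469 = n9695 := rfl
theorem F16183 : act 4 n9695 = n7473 := d3_2 (iv F12363) D9695 (iv D7473)
def n9696 : Q := act 3 n7469
theorem D9696 : act 3 n7469 = n9696 := rfl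
theorem F16184 : act 1 n9696 = n7470 := d6_1 D9696 (iv D7470) D7469
def n9697 : Q := act 5 n7469
theorem D9697 : act 5 n7469 = n9697 := rfl
theorem F16185 : act 1 n9697 = n7471 := d8_1 D9697 (iv D7471) D7469
def n9698 : Q := act 2 n7470
theorem D9698 : act 2 n7470 = n9698 := rfl
theorem F16186 : act 3 n9698 = n8242 := d15_3 D5679 D7470 D9698 F13665 F10407 (iv F9338) (iv F12353) (iv D7463) F9335
theorem F16187 : act 5 n8241 = n9698 := d13_0 F16186 (iv D8242) D8241
def n9699 : Q := act 4 n7470
theorem D9699 : act 4 n7470 = n9699 := rfl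
theorem F16188 : act 3 n9699 = n7476 := d12_1 D9699 (iv D7476) (iv D5682) (iv F9351) D7470
def n9700 : Q := act 5 n7470
theorem D9700 : act 5 n7470 = n9700 := rfl
theorem F16189 : act 2 n9700 = n8241 := d11_1 D9700 F16187 (iv D9698)
theorem F16190 : act 3 n9700 = n7471 := d13_1 D9700 (iv D7471) D7470
def n9701 : Q := act 4 n7471
theorem D9701 : act 4 n7471 = n9701 := rfl
theorem F16191 : act 2 n9701 = n7472 := d10_1 D9701 (iv D7472) (iv F12364)
theorem F16192 : act 5 n9701 = n7477 := d14_2 D7471 D9701 (iv D7477) (iv D5683) (iv F9351)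
def n9702 : Q := act 3 n7473
theorem D9702 : act 3 n7473 = n9702 := rfl
theorem F16193 : act 0 n9702 = n7474 := d2_1 D9702 (iv D7474) D7473
def n9703 : Q := act 5 n7473
theorem D9703 : act 5 n7473 = n9703 := rfl
theorem F16194 : act 0 n9703 = n7475 := d4_1 D9703 (iv D7475) D7473
def n9704 : Q := act 2 n7474
theorem D9704 : act 2 n7474 = n9704 := rfl
def n9705 : Q := act 4 n7474
theorem D9705 : act 4 n7474 = n9705 := rfl
theorem F16195 : act 1 n9705 = n7476 := d7_1 D9705 (iv D7476) (iv F12366)
def n9706 : Q := act 4 n7475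
theorem D9706 : act 4 n7475 = n9706 := rfl
theorem F16196 : act 1 n9706 = n7477 := d7_1 D9706 (iv D7477) (iv F12367)
def n9707 : Q := act 5 n7476
theorem D9707 : act 5 n7476 = n9707 := rfl
def n9708 : Q := act 3 n7477
theorem D9708 : act 3 n7477 = n9708 := rfl
def n9709 : Q := act 1 n7478
theorem D9709 : act 1 n7478 = n9709 := rfl
theorem F16197 : act 2 n9709 = n7480 := d5_2 D7478 D9709 (iv D7480) (iv D5687) (iv F9354)
theorem F16198 : act 4 n9709 = n7662 := d7_2 (iv F12369) D9709 (iv D7662)
def n9710 : Q := act 3 n7478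
theorem D9710 : act 3 n7478 = n9710 := rfl
def n9711 : Q := act 5 n7478
theorem D9711 : act 5 n7478 = n9711 := rfl
theorem F16199 : act 2 n9711 = n7479 := d11_1 D9711 (iv D7479) D7478
def n9712 : Q := act 4 n7479
theorem D9712 : act 4 n7479 = n9712 := rfl
theorem F16200 : act 1 n9712 = n7481 := d7_1 D9712 (iv D7481) (iv F12370)
theorem F16201 : act 3 n9712 = n7496 := d12_1 D9712 (iv D7496) F9375 (iv F9357) (iv F12371)
theorem F16202 : act 5 n9712 = n7665 := d14_2 D7479 D9712 (iv D7665) (iv D5842) (iv F9355)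
def n9713 : Q := act 0 n7480
theorem D9713 : act 0 n7480 = n9713 := rfl
theorem F16203 : act 1 n9713 = n7486 := d0_2 D7480 D9713 (iv D7486) (iv D5691) (iv F9358)
theorem F16204 : act 4 n9713 = n7666 := d3_2 (iv F12372) D9713 (iv D7666)
def n9714 : Q := act 0 n7482
theorem D9714 : act 0 n7482 = n9714 := rfl
theorem F16205 : act 1 n9714 = n7666 := d0_2 D7482 D9714 (iv D7666) (iv D5843) (iv F9362)
theorem F16206 : act 4 n9714 = n7486 := d3_2 (iv F12376) D9714 (iv D7486)
def n9715 : Q := act 3 n7482
theorem D9715 : act 3 n7482 = n9715 := rfl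
theorem F16207 : act 1 n9715 = n7483 := d6_1 D9715 (iv D7483) D7482
theorem F16208 : act 5 n7675 = n9715 := d8_0 F16207 (iv F12379) D7675
def n9716 : Q := act 5 n7482
theorem D9716 : act 5 n7482 = n9716 := rfl
theorem F16209 : act 1 n9716 = n7484 := d8_1 D9716 (iv D7484) D7482
theorem F16210 : act 3 n9716 = n7675 := d13_1 D9716 F16208 (iv D9715)
def n9717 : Q := act 4 n7483
theorem D9717 : act 4 n7483 = n9717 := rfl
theorem F16211 : act 0 n9717 = n7669 := d3_1 D9717 (iv D7669) (iv F12377)
theorem F16212 : act 2 n9717 = n7676 := d10_1 D9717 (iv D7676) (iv F12378)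
theorem F16213 : act 3 n9717 = n7489 := d12_1 D9717 (iv D7489) (iv D5692) (iv F9363) D7483
theorem F16214 : act 5 n9717 = n7612 := d14_2 F12379 D9717 (iv D7612) (iv F12572) F12571
def n9718 : Q := act 4 n7484
theorem D9718 : act 4 n7484 = n9718 := rfl
theorem F16215 : act 0 n9718 = n7670 := d3_1 D9718 (iv D7670) (iv F12380)
theorem F16216 : act 2 n9718 = n7485 := d10_1 D9718 (iv D7485) (iv F12381)
theorem F16217 : act 3 n9718 = n7608 := d12_1 D9718 F12604 (iv F12570) F12571 (iv F12382)
theorem F16218 : act 5 n9718 = n7490 := d14_2 D7484 D9718 (iv D7490) (iv D5693) (iv F9363)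
def n9719 : Q := act 3 n7486
theorem D9719 : act 3 n7486 = n9719 := rfl
theorem F16219 : act 0 n9719 = n7487 := d2_1 D9719 (iv D7487) D7486
def n9720 : Q := act 5 n7486
theorem D9720 : act 5 n7486 = n9720 := rfl
theorem F16220 : act 0 n9720 = n7488 := d4_1 D9720 (iv D7488) D7486
def n9721 : Q := act 2 n7487
theorem D9721 : act 2 n7487 = n9721 := rfl
def n9722 : Q := act 4 n7487
theorem D9722 : act 4 n7487 = n9722 := rfl
theorem F16221 : act 1 n9722 = n7489 := d7_1 D9722 (iv D7489) (iv F12386)
def n9723 : Q := act 4 n7488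
theorem D9723 : act 4 n7488 = n9723 := rfl
theorem F16222 : act 1 n9723 = n7490 := d7_1 D9723 (iv D7490) (iv F12387)
def n9724 : Q := act 1 n7491
theorem D9724 : act 1 n7491 = n9724 := rfl
theorem F16223 : act 2 n9724 = n7500 := d5_2 D7491 D9724 (iv D7500) (iv D5703) (iv F9369)
theorem F16224 : act 4 n9724 = n9367 := d7_2 (iv F12390) D9724 (iv D9367)
theorem F16225 : act 3 n7491 = n9724 := d15_1 D7491 F16223 (iv F15799) F15798 F12099 F9147 (iv F9375) (iv D5698) (iv F9368)
theorem F16226 : act 0 n9724 = n7494 := d2_1 F16225 (iv D7494) (iv F12389)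
def n9725 : Q := act 5 n7491
theorem D9725 : act 5 n7491 = n9725 := rfl
theorem F16227 : act 0 n9725 = n7495 := d4_1 D9725 (iv D7495) (iv F12389)
theorem F16228 : act 2 n9725 = n7492 := d11_1 D9725 (iv D7492) D7491
def n9726 : Q := act 4 n7492
theorem D9726 : act 4 n7492 = n9726 := rfl
theorem F16229 : act 0 n9726 = n7496 := d3_1 D9726 (iv D7496) (iv F12391)
theorem F16230 : act 1 n9726 = n7502 := d7_1 D9726 (iv D7502) (iv F12392)
theorem F16231 : act 5 n9726 = n9370 := d14_2 D7492 D9726 (iv D9370) (iv D7215) (iv F9370)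
def n9727 : Q := act 0 n7493
theorem D9727 : act 0 n7493 = n9727 := rfl
theorem F16232 : act 1 n9727 = n7494 := d0_2 D7493 D9727 (iv F16226) (iv D9724) F12389
theorem F16233 : act 2 n9727 = n7497 := d1_2 (iv F12394) D9727 (iv D7497)
theorem F16234 : act 4 n9727 = n9371 := d3_2 (iv F12395) D9727 (iv D9371)
theorem F16235 : act 5 n9727 = n7545 := d4_2 F12396 D9727 F12493
theorem F16236 : act 3 n7493 = n9727 := d13_3 F16235 F12494 F12396
def n9728 : Q := act 2 n7494
theorem D9728 : act 2 n7494 = n9728 := rfl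
theorem F16237 : act 0 n9728 = n7500 := d1_1 D9728 (iv F16223) F16226
theorem F16238 : act 1 n9728 = n7509 := d5_1 D9728 F12424 (iv F12401) (iv F16233) F16232
def n9729 : Q := act 4 n7494
theorem D9729 : act 4 n7494 = n9729 := rfl
theorem F16239 : act 0 n9729 = n9367 := d3_1 D9729 (iv F16224) F16226
theorem F16240 : act 1 n9729 = n9371 := d7_1 D9729 (iv F16234) F16232
theorem F16241 : act 3 n9729 = n9375 := d12_1 D9729 (iv D9375) (iv D7217) (iv F9373) D7494
def n9730 : Q := act 5 n7494
theorem D9730 : act 5 n7494 = n9730 := rfl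
theorem F16242 : act 1 n9730 = n7545 := d8_1 D9730 (iv F16235) F16232
theorem F16243 : act 3 n9730 = n7495 := d13_1 D9730 (iv D7495) D7494
def n9731 : Q := act 4 n7495
theorem D9731 : act 4 n7495 = n9731 := rfl
theorem F16244 : act 1 n9731 = n7548 := d7_1 D9731 (iv D7548) (iv F12397)
theorem F16245 : act 2 n9731 = n7496 := d10_1 D9731 (iv D7496) (iv F12398)
theorem F16246 : act 5 n9731 = n9377 := d14_2 D7495 D9731 (iv D9377) (iv D7218) (iv F9373)
def n9732 : Q := act 1 n7498
theorem D9732 : act 1 n7498 = n9732 := rfl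
theorem F16247 : act 2 n9732 = n9367 := d5_2 D7498 D9732 (iv D9367) (iv D7214) (iv F9383)
theorem F16248 : act 4 n9732 = n7500 := d7_2 (iv F12406) D9732 (iv D7500)
def n9733 : Q := act 3 n7498
theorem D9733 : act 3 n7498 = n9733 := rfl
theorem F16249 : act 0 n9733 = n7506 := d2_1 D9733 (iv D7506) (iv F12405)
def n9734 : Q := act 5 n7498
theorem D9734 : act 5 n7498 = n9734 := rfl
theorem F16250 : act 0 n9734 = n7507 := d4_1 D9734 (iv D7507) (iv F12405)
theorem F16251 : act 2 n9734 = n7499 := d11_1 D9734 (iv D7499) D7498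
def n9735 : Q := act 4 n7499
theorem D9735 : act 4 n7499 = n9735 := rfl
theorem F16252 : act 0 n9735 = n7508 := d3_1 D9735 (iv D7508) (iv F12407)
theorem F16253 : act 1 n9735 = n9370 := d7_1 D9735 (iv D9370) (iv F12408)
theorem F16254 : act 5 n9735 = n7502 := d14_2 D7499 D9735 (iv D7502) (iv D5704) (iv F9384)
def n9736 : Q := act 4 n7501
theorem D9736 : act 4 n7501 = n9736 := rfl
theorem F16255 : act 0 n9736 = n7514 := d3_1 D9736 (iv D7514) (iv F12410)
theorem F16256 : act 2 n9736 = n7502 := d10_1 D9736 (iv D7502) (iv F12411)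
def n9737 : Q := act 1 n7503
theorem D9737 : act 1 n7503 = n9737 := rfl
theorem F16257 : act 2 n9737 = n9353 := d5_2 D7503 D9737 (iv D9353) (iv D7203) (iv F9392)
theorem F16258 : act 4 n9737 = n8494 := d7_2 (iv F12415) D9737 (iv D8494)
def n9738 : Q := act 3 n7503
theorem D9738 : act 3 n7503 = n9738 := rfl
theorem F16259 : act 0 n9738 = n8510 := d2_1 D9738 (iv D8510) (iv F12414)
theorem F16260 : act 4 n9738 = n8568 := d12_2 (iv F12415) D9738 (iv D8568) (iv D6568) (iv F10786)
def n9739 : Q := act 5 n7503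
theorem D9739 : act 5 n7503 = n9739 := rfl
theorem F16261 : act 0 n9739 = n8511 := d4_1 D9739 (iv D8511) (iv F12414)
theorem F16262 : act 2 n9739 = n7504 := d11_1 D9739 (iv D7504) D7503
theorem F16263 : act 4 n9739 = n8567 := d14_1 D9739 (iv D8567) (iv D6567) F10787 (iv F12415)
def n9740 : Q := act 4 n7504
theorem D9740 : act 4 n7504 = n9740 := rfl
theorem F16264 : act 0 n9740 = n8512 := d3_1 D9740 (iv D8512) (iv F12416)
theorem F16265 : act 1 n9740 = n9354 := d7_1 D9740 (iv D9354) (iv F12417)
theorem F16266 : act 2 n9740 = n8567 := d10_1 D9740 (iv F16263) F16262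
theorem F16267 : act 5 n9740 = n8495 := d14_2 D7504 D9740 (iv D8495) (iv D6518) (iv F9393)
def n9741 : Q := act 0 n7505
theorem D9741 : act 0 n7505 = n9741 := rfl
theorem F16268 : act 2 n9741 = n7515 := d1_2 (iv F12419) D9741 (iv D7515)
theorem F16269 : act 4 n9741 = n7509 := d3_2 (iv F12420) D9741 (iv D7509)
def n9742 : Q := act 3 n7505
theorem D9742 : act 3 n7505 = n9742 := rfl
theorem F16270 : act 1 n9742 = n7506 := d6_1 D9742 (iv D7506) D7505
def n9743 : Q := act 5 n7505
theorem D9743 : act 5 n7505 = n9743 := rfl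
theorem F16271 : act 1 n9743 = n7507 := d8_1 D9743 (iv D7507) D7505
theorem F16272 : act 2 n9743 = n7517 := d11_1 D9743 (iv D7517) (iv F12419)
def n9744 : Q := act 2 n7506
theorem D9744 : act 2 n7506 = n9744 := rfl
theorem F16273 : act 3 n9744 = n8511 := d15_3 D5707 D7506 D9744 F14149 F10815 (iv F9387) (iv F12409) (iv D7499) F9382
theorem F16274 : act 5 n8510 = n9744 := d13_0 F16273 (iv D8511) D8510
def n9745 : Q := act 4 n7506
theorem D9745 : act 4 n7506 = n9745 := rfl
theorem F16275 : act 3 n9745 = n7512 := d12_1 D9745 (iv D7512) (iv D5710) (iv F9397) D7506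
def n9746 : Q := act 5 n7506
theorem D9746 : act 5 n7506 = n9746 := rfl
theorem F16276 : act 2 n9746 = n8510 := d11_1 D9746 F16274 (iv D9744)
theorem F16277 : act 3 n9746 = n7507 := d13_1 D9746 (iv D7507) D7506
def n9747 : Q := act 4 n7507
theorem D9747 : act 4 n7507 = n9747 := rfl
theorem F16278 : act 2 n9747 = n7508 := d10_1 D9747 (iv D7508) (iv F12421)
theorem F16279 : act 5 n9747 = n7514 := d14_2 D7507 D9747 (iv D7514) (iv D5711) (iv F9397)
def n9748 : Q := act 3 n7509
theorem D9748 : act 3 n7509 = n9748 := rfl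
theorem F16280 : act 0 n9748 = n7510 := d2_1 D9748 (iv D7510) D7509
def n9749 : Q := act 5 n7509
theorem D9749 : act 5 n7509 = n9749 := rfl
theorem F16281 : act 0 n9749 = n7511 := d4_1 D9749 (iv D7511) D7509
theorem F16282 : act 2 n9749 = n7521 := d11_1 D9749 (iv D7521) (iv F12424)
def n9750 : Q := act 2 n7510
theorem D9750 : act 2 n7510 = n9750 := rfl
def n9751 : Q := act 4 n7510
theorem D9751 : act 4 n7510 = n9751 := rfl
theorem F16283 : act 1 n9751 = n7512 := d7_1 D9751 (iv D7512) (iv F12425)
def n9752 : Q := act 5 n7510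
theorem D9752 : act 5 n7510 = n9752 := rfl
theorem F16284 : act 1 n9752 = n7513 := d8_1 D9752 (iv D7513) (iv F12425)
theorem F16285 : act 3 n9752 = n7511 := d13_1 D9752 (iv D7511) D7510
def n9753 : Q := act 4 n7511
theorem D9753 : act 4 n7511 = n9753 := rfl
theorem F16286 : act 1 n9753 = n7514 := d7_1 D9753 (iv D7514) (iv F12426)
theorem F16287 : act 2 n9753 = n7524 := d10_1 D9753 (iv D7524) (iv F12427)
def n9754 : Q := act 5 n7512
theorem D9754 : act 5 n7512 = n9754 := rfl
def n9755 : Q := act 4 n7513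
theorem D9755 : act 4 n7513 = n9755 := rfl
theorem F16288 : act 0 n9755 = n7526 := d3_1 D9755 (iv D7526) (iv F12428)
theorem F16289 : act 2 n9755 = n7525 := d10_1 D9755 (iv D7525) (iv F12429)
def n9756 : Q := act 3 n7514
theorem D9756 : act 3 n7514 = n9756 := rfl
def n9757 : Q := act 3 n7515
theorem D9757 : act 3 n7515 = n9757 := rfl
theorem F16290 : act 0 n9757 = n7516 := d2_1 D9757 (iv D7516) D7515
theorem F16291 : act 1 n9757 = n9378 := d6_1 D9757 (iv D9378) (iv F12432)
theorem F16292 : act 5 n8216 = n9757 := d8_0 F16291 (iv F15668) F14867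
def n9758 : Q := act 5 n7515
theorem D9758 : act 5 n7515 = n9758 := rfl
theorem F16293 : act 0 n9758 = n7517 := d4_1 D9758 (iv D7517) D7515
theorem F16294 : act 1 n9758 = n9379 := d8_1 D9758 (iv D9379) (iv F12432)
theorem F16295 : act 3 n9758 = n8216 := d13_1 D9758 F16292 (iv D9757)
def n9759 : Q := act 2 n7516
theorem D9759 : act 2 n7516 = n9759 := rfl
theorem F16296 : act 1 n9759 = n8214 := d5_1 D9759 F13621 F10380 (iv F9405) (iv F12434)
theorem F16297 : act 5 n9759 = n8212 := d11_2 F12435 D9759 F13620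
def n9760 : Q := act 4 n7516
theorem D9760 : act 4 n7516 = n9760 := rfl
theorem F16298 : act 1 n9760 = n7518 := d7_1 D9760 (iv D7518) (iv F12434)
theorem F16299 : act 3 n9760 = n7523 := d12_1 D9760 (iv D7523) (iv D5718) (iv F9403) D7516
theorem F16300 : act 5 n9760 = n8604 := d14_2 F12435 D9760 F14252 (iv F14055) F11323
def n9761 : Q := act 4 n7517
theorem D9761 : act 4 n7517 = n9761 := rfl
theorem F16301 : act 1 n9761 = n7519 := d7_1 D9761 (iv D7519) (iv F12436)
theorem F16302 : act 3 n9761 = n8603 := d12_1 D9761 F14250 F14057 F11323 (iv F12437)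
theorem F16303 : act 5 n9761 = n7524 := d14_2 D7517 D9761 (iv D7524) (iv D5719) (iv F9403)
def n9762 : Q := act 2 n7520
theorem D9762 : act 2 n7520 = n9762 := rfl
theorem F16304 : act 0 n9762 = n7522 := d1_1 D9762 (iv D7522) (iv F12446)
theorem F16305 : act 5 n9762 = n7528 := d11_2 F12448 D9762 F12461
def n9763 : Q := act 4 n7520
theorem D9763 : act 4 n7520 = n9763 := rfl
theorem F16306 : act 0 n9763 = n7523 := d3_1 D9763 (iv D7523) (iv F12446)
theorem F16307 : act 1 n9763 = n7547 := d7_1 D9763 (iv D7547) (iv F12447)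
theorem F16308 : act 5 n9763 = n8600 := d14_2 F12448 D9763 (iv D8600) (iv D6589) (iv F9429)
def n9764 : Q := act 4 n7521
theorem D9764 : act 4 n7521 = n9764 := rfl
theorem F16309 : act 0 n9764 = n7524 := d3_1 D9764 (iv D7524) (iv F12449)
theorem F16310 : act 1 n9764 = n7546 := d7_1 D9764 (iv D7546) (iv F12450)
theorem F16311 : act 3 n9764 = n8599 := d12_1 D9764 (iv D8599) (iv D6588) (iv F9429) (iv F12451)
def n9765 : Q := act 4 n7522
theorem D9765 : act 4 n7522 = n9765 := rfl
theorem F16312 : act 1 n9765 = n7531 := d7_1 D9765 (iv D7531) (iv F12452)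
theorem F16313 : act 2 n9765 = n7523 := d10_1 D9765 (iv D7523) D7522
theorem F16314 : act 5 n9765 = n8592 := d14_2 (iv F12453) D9765 (iv D8592) (iv D6583) (iv F9424)
def n9766 : Q := act 5 n7525
theorem D9766 : act 5 n7525 = n9766 := rfl
theorem F16315 : act 0 n9766 = n7527 := d4_1 D9766 (iv D7527) (iv F12458)
theorem F16316 : act 3 n9766 = n8577 := d13_1 D9766 (iv D8577) (iv F12459)
def n9767 : Q := act 3 n7526
theorem D9767 : act 3 n7526 = n9767 := rfl
def n9768 : Q := act 5 n7526
theorem D9768 : act 5 n7526 = n9768 := rfl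
theorem F16317 : act 2 n9768 = n7527 := d11_1 D9768 (iv D7527) (iv F12460)
def n9769 : Q := act 3 n7528
theorem D9769 : act 3 n7528 = n9769 := rfl
theorem F16318 : act 0 n9769 = n7529 := d2_1 D9769 (iv D7529) D7528
def n9770 : Q := act 4 n7529
theorem D9770 : act 4 n7529 = n9770 := rfl
theorem F16319 : act 1 n9770 = n7530 := d7_1 D9770 (iv D7530) (iv F12463)
theorem F16320 : act 3 n9770 = n8590 := d12_1 D9770 (iv D8590) (iv D6582) (iv F9424) D7529
def n9771 : Q := act 5 n7530
theorem D9771 : act 5 n7530 = n9771 := rfl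
theorem F16321 : act 3 n9771 = n8595 := d13_1 D9771 (iv D8595) (iv F12464)
def n9772 : Q := act 3 n7531
theorem D9772 : act 3 n7531 = n9772 := rfl
theorem F16322 : act 5 n9772 = n8597 := d13_2 (iv F12466) D9772 (iv D8597)
def n9773 : Q := act 3 n7533
theorem D9773 : act 3 n7533 = n9773 := rfl
theorem F16323 : act 0 n9773 = n7534 := d2_1 D9773 (iv D7534) D7533
def n9774 : Q := act 5 n7533
theorem D9774 : act 5 n7533 = n9774 := rfl
theorem F16324 : act 0 n9774 = n7535 := d4_1 D9774 (iv D7535) D7533
theorem F16325 : act 2 n9774 = n7541 := d11_1 D9774 (iv D7541) (iv F12468)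
def n9775 : Q := act 2 n7534
theorem D9775 : act 2 n7534 = n9775 := rfl
def n9776 : Q := act 4 n7534
theorem D9776 : act 4 n7534 = n9776 := rfl
theorem F16326 : act 1 n9776 = n7536 := d7_1 D9776 (iv D7536) (iv F12470)
theorem F16327 : act 3 n9776 = n7539 := d12_1 D9776 (iv D7539) (iv D5737) (iv F9431) D7534
def n9777 : Q := act 4 n7535
theorem D9777 : act 4 n7535 = n9777 := rfl
theorem F16328 : act 1 n9777 = n7537 := d7_1 D9777 (iv D7537) (iv F12471)
theorem F16329 : act 2 n9777 = n7544 := d10_1 D9777 (iv D7544) (iv F12472)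
theorem F16330 : act 5 n9777 = n7539 := d14_2 D7535 D9777 (iv D7539) (iv F9439) (iv F9431)
def n9778 : Q := act 5 n7536
theorem D9778 : act 5 n7536 = n9778 := rfl
theorem F16331 : act 2 n9778 = n7723 := d11_1 D9778 (iv F12779) F12777
theorem F16332 : act 3 n9778 = n7537 := d13_1 D9778 F12475 (iv F12473)
theorem F16333 : act 4 n9778 = n7907 := d14_1 D9778 F13071 F11659 (iv F9670) D7536
def n9779 : Q := act 4 n7538
theorem D9779 : act 4 n7538 = n9779 := rfl
theorem F16334 : act 0 n9779 = n7539 := d3_1 D9779 (iv D7539) (iv F12476)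
theorem F16335 : act 2 n9779 = n7547 := d10_1 D9779 (iv D7547) F12477
def n9780 : Q := act 2 n7540
theorem D9780 : act 2 n7540 = n9780 := rfl
theorem F16336 : act 0 n9780 = n7542 := d1_1 D9780 (iv D7542) (iv F12481)
theorem F16337 : act 5 n9780 = n7599 := d11_2 F12483 D9780 F12590
def n9781 : Q := act 4 n7540
theorem D9781 : act 4 n7540 = n9781 := rfl
theorem F16338 : act 0 n9781 = n7543 := d3_1 D9781 (iv D7543) (iv F12481)
theorem F16339 : act 1 n9781 = n8599 := d7_1 D9781 (iv D8599) (iv F12482)
theorem F16340 : act 3 n9781 = n7546 := d12_1 D9781 (iv D7546) (iv D5744) (iv F9442) D7540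
def n9782 : Q := act 4 n7541
theorem D9782 : act 4 n7541 = n9782 := rfl
theorem F16341 : act 0 n9782 = n7544 := d3_1 D9782 (iv D7544) (iv F12484)
theorem F16342 : act 1 n9782 = n8600 := d7_1 D9782 (iv D8600) (iv F12485)
theorem F16343 : act 5 n9782 = n7547 := d14_2 D7541 D9782 (iv D7547) (iv D5745) (iv F9442)
def n9783 : Q := act 3 n7542
theorem D9783 : act 3 n7542 = n9783 := rfl
theorem F16344 : act 1 n9783 = n7603 := d6_1 D9783 F12597 (iv F12487)
theorem F16345 : act 5 n9783 = n7600 := d13_2 (iv F12488) D9783 (iv D7600)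
def n9784 : Q := act 4 n7542
theorem D9784 : act 4 n7542 = n9784 := rfl
theorem F16346 : act 1 n9784 = n7604 := d7_1 D9784 (iv D7604) (iv F12487)
theorem F16347 : act 2 n9784 = n7543 := d10_1 D9784 (iv D7543) D7542
def n9785 : Q := act 4 n7545
theorem D9785 : act 4 n7545 = n9785 := rfl
theorem F16348 : act 0 n9785 = n7548 := d3_1 D9785 (iv D7548) (iv F12493)
theorem F16349 : act 2 n9785 = n7546 := d10_1 D9785 (iv D7546) D7545
def n9786 : Q := act 5 n7546
theorem D9786 : act 5 n7546 = n9786 := rfl
theorem F16350 : act 0 n9786 = n7549 := d4_1 D9786 (iv D7549) (iv F12495)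
theorem F16351 : act 4 n9786 = n9379 := d14_1 D9786 (iv D9379) (iv F12403) F12404 D7546
def n9787 : Q := act 3 n7547
theorem D9787 : act 3 n7547 = n9787 := rfl
theorem F16352 : act 0 n9787 = n7550 := d2_1 D9787 (iv D7550) (iv F12496)
theorem F16353 : act 4 n9787 = n9378 := d12_2 D7547 D9787 (iv D9378) (iv F12403) F12402
def n9788 : Q := act 3 n7548
theorem D9788 : act 3 n7548 = n9788 := rfl
def n9789 : Q := act 5 n7548
theorem D9789 : act 5 n7548 = n9789 := rfl
theorem F16354 : act 1 n9789 = n9377 := d8_1 D9789 (iv F16246) F16244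
theorem F16355 : act 2 n9789 = n7549 := d11_1 D9789 (iv D7549) (iv F12497)
theorem F16356 : act 4 n9789 = n9373 := d14_1 D9789 (iv D9373) (iv F12395) (iv F12396) D7548
def n9790 : Q := act 2 n7550
theorem D9790 : act 2 n7550 = n9790 := rfl
theorem F16357 : act 4 n9790 = n9380 := d10_2 (iv F12501) D9790 (iv D9380)
def n9791 : Q := act 1 n7551
theorem D9791 : act 1 n7551 = n9791 := rfl
theorem F16358 : act 2 n9791 = n7555 := d5_2 D7551 D9791 (iv D7555) (iv D5755) (iv F9460)
theorem F16359 : act 5 n8476 = n9791 := d11_0 F16358 F12509 D8476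
def n9792 : Q := act 3 n7551
theorem D9792 : act 3 n7551 = n9792 := rfl
def n9793 : Q := act 5 n7551
theorem D9793 : act 5 n7551 = n9793 := rfl
theorem F16360 : act 1 n9793 = n8476 := d8_1 D9793 F16359 (iv D9791)
theorem F16361 : act 2 n9793 = n7552 := d11_1 D9793 (iv D7552) D7551
def n9794 : Q := act 4 n7552
theorem D9794 : act 4 n7552 = n9794 := rfl
theorem F16362 : act 1 n9794 = n7556 := d7_1 D9794 (iv D7556) (iv F12502)
def n9795 : Q := act 1 n7553
theorem D9795 : act 1 n7553 = n9795 := rfl
theorem F16363 : act 4 n9795 = n7555 := d7_2 (iv F12505) D9795 (iv D7555)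
def n9796 : Q := act 3 n7553
theorem D9796 : act 3 n7553 = n9796 := rfl
theorem F16364 : act 0 n9796 = n7560 := d2_1 D9796 (iv D7560) (iv F12504)
theorem F16365 : act 4 n9796 = n8480 := d12_2 (iv F12505) D9796 (iv D8480) (iv D6506) (iv F9469)
def n9797 : Q := act 5 n7553
theorem D9797 : act 5 n7553 = n9797 := rfl
theorem F16366 : act 0 n9797 = n7561 := d4_1 D9797 (iv D7561) (iv F12504)
theorem F16367 : act 2 n9797 = n7554 := d11_1 D9797 (iv D7554) D7553
theorem F16368 : act 4 n9797 = n8479 := d14_1 D9797 (iv D8479) (iv D6505) F9470 (iv F12505)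
def n9798 : Q := act 4 n7554
theorem D9798 : act 4 n7554 = n9798 := rfl
theorem F16369 : act 0 n9798 = n7562 := d3_1 D9798 (iv D7562) (iv F12506)
theorem F16370 : act 2 n9798 = n8479 := d10_1 D9798 (iv F16368) F16367
theorem F16371 : act 3 n9798 = n9484 := d12_1 D9798 (iv D9484) F12125 (iv F9467) (iv F12507)
theorem F16372 : act 5 n9798 = n7556 := d14_2 D7554 D9798 (iv D7556) (iv D5756) (iv F9464)
def n9799 : Q := act 0 n7555
theorem D9799 : act 0 n7555 = n9799 := rfl
theorem F16373 : act 1 n9799 = n7563 := d0_2 D7555 D9799 (iv D7563) (iv D5762) (iv F9468)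
theorem F16374 : act 3 n9799 = n8475 := d2_2 (iv F12508) D9799 F14091
theorem F16375 : act 5 n9799 = n8474 := d4_2 (iv F12509) D9799 F14090
def n9800 : Q := act 1 n7557
theorem D9800 : act 1 n7557 = n9800 := rfl
theorem F16376 : act 4 n9800 = n9444 := d7_2 (iv F12513) D9800 (iv D9444)
def n9801 : Q := act 3 n7557
theorem D9801 : act 3 n7557 = n9801 := rfl
theorem F16377 : act 0 n9801 = n9447 := d2_1 D9801 (iv D9447) (iv F12512)
def n9802 : Q := act 5 n7557
theorem D9802 : act 5 n7557 = n9802 := rfl
theorem F16378 : act 0 n9802 = n9448 := d4_1 D9802 (iv D9448) (iv F12512)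
theorem F16379 : act 2 n9802 = n7558 := d11_1 D9802 (iv D7558) D7557
def n9803 : Q := act 4 n7558
theorem D9803 : act 4 n7558 = n9803 := rfl
theorem F16380 : act 0 n9803 = n9449 := d3_1 D9803 (iv D9449) (iv F12514)
theorem F16381 : act 3 n9803 = n9463 := d12_1 D9803 (iv D9463) F12104 (iv F9482) (iv F12515)
theorem F16382 : act 5 n9803 = n9445 := d14_2 D7558 D9803 (iv D9445) (iv D7276) (iv F9479)
def n9804 : Q := act 0 n7559
theorem D9804 : act 0 n7559 = n9804 := rfl
theorem F16383 : act 4 n9804 = n7563 := d3_2 (iv F12516) D9804 (iv D7563)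
def n9805 : Q := act 3 n7559
theorem D9805 : act 3 n7559 = n9805 := rfl
theorem F16384 : act 1 n9805 = n7560 := d6_1 D9805 (iv D7560) D7559
def n9806 : Q := act 5 n7559
theorem D9806 : act 5 n7559 = n9806 := rfl
theorem F16385 : act 1 n9806 = n7561 := d8_1 D9806 (iv D7561) D7559
def n9807 : Q := act 2 n7560
theorem D9807 : act 2 n7560 = n9807 := rfl
theorem F16386 : act 3 n9807 = n9448 := d15_3 D5760 D7560 D9807 F15773 F12077 (iv F9466) (iv F12507) (iv D7554) F9463
theorem F16387 : act 5 n9447 = n9807 := d13_0 F16386 (iv D9448) D9447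
def n9808 : Q := act 4 n7560
theorem D9808 : act 4 n7560 = n9808 := rfl
theorem F16388 : act 0 n9808 = n8480 := d3_1 D9808 (iv F16365) F16364
theorem F16389 : act 3 n9808 = n7566 := d12_1 D9808 (iv D7566) (iv D5763) (iv F9483) D7560
theorem F16390 : act 5 n9251 = n9808 := d13_0 F16389 F12526 D9251
def n9809 : Q := act 5 n7560
theorem D9809 : act 5 n7560 = n9809 := rfl
theorem F16391 : act 2 n9809 = n9447 := d11_1 D9809 F16387 (iv D9807)
theorem F16392 : act 3 n9809 = n7561 := d13_1 D9809 (iv D7561) D7560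
def n9810 : Q := act 4 n7561
theorem D9810 : act 4 n7561 = n9810 := rfl
theorem F16393 : act 0 n9810 = n8479 := d3_1 D9810 (iv F16368) F16366
theorem F16394 : act 2 n9810 = n7562 := d10_1 D9810 (iv D7562) (iv F12517)
theorem F16395 : act 5 n9810 = n7567 := d14_2 D7561 D9810 (iv D7567) (iv D5764) (iv F9483)
theorem F16396 : act 3 n9249 = n9810 := d13_3 F16395 F12529 D9249
def n9811 : Q := act 3 n7563
theorem D9811 : act 3 n7563 = n9811 := rfl
theorem F16397 : act 0 n9811 = n7564 := d2_1 D9811 (iv D7564) D7563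
theorem F16398 : act 1 n9811 = n8475 := d6_1 D9811 (iv F16374) F16373
theorem F16399 : act 2 n9256 = n9811 := d5_0 F16398 F14092 (iv F15632) F15633 (iv F15428)
theorem F16400 : act 5 n8468 = n9811 := d8_0 F16398 (iv D8475) (iv F14070)
def n9812 : Q := act 5 n7563
theorem D9812 : act 5 n7563 = n9812 := rfl
theorem F16401 : act 0 n9812 = n7565 := d4_1 D9812 (iv D7565) D7563
theorem F16402 : act 1 n9812 = n8474 := d8_1 D9812 (iv F16375) F16373
theorem F16403 : act 3 n9812 = n8468 := d13_1 D9812 F16400 (iv D9811)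
def n9813 : Q := act 4 n7565
theorem D9813 : act 4 n7565 = n9813 := rfl
theorem F16404 : act 1 n9813 = n7567 := d7_1 D9813 (iv D7567) (iv F12522)
theorem F16405 : act 3 n9813 = n9248 := d12_1 D9813 (iv D9248) (iv D7102) (iv F10747) (iv F12523)
def n9814 : Q := act 1 n7569
theorem D9814 : act 1 n7569 = n9814 := rfl
theorem F16406 : act 2 n9814 = n7589 := d5_2 D7569 D9814 (iv D7589) (iv D5783) (iv F9495)
def n9815 : Q := act 3 n7569
theorem D9815 : act 3 n7569 = n9815 := rfl
theorem F16407 : act 0 n9815 = n7572 := d2_1 D9815 (iv D7572) (iv F12534)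
def n9816 : Q := act 5 n7569
theorem D9816 : act 5 n7569 = n9816 := rfl
theorem F16408 : act 0 n9816 = n7573 := d4_1 D9816 (iv D7573) (iv F12534)
theorem F16409 : act 2 n9816 = n7570 := d11_1 D9816 (iv D7570) D7569
def n9817 : Q := act 4 n7570
theorem D9817 : act 4 n7570 = n9817 := rfl
theorem F16410 : act 0 n9817 = n7574 := d3_1 D9817 (iv D7574) (iv F12535)
theorem F16411 : act 1 n9817 = n7592 := d7_1 D9817 (iv D7592) (iv F12536)
def n9818 : Q := act 0 n7571
theorem D9818 : act 0 n7571 = n9818 := rfl
theorem F16412 : act 2 n9818 = n7577 := d1_2 (iv F12538) D9818 (iv D7577)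
theorem F16413 : act 5 n9818 = n8598 := d4_2 F12539 D9818 F14245
def n9819 : Q := act 3 n7571
theorem D9819 : act 3 n7571 = n9819 := rfl
theorem F16414 : act 1 n9819 = n7572 := d6_1 D9819 (iv D7572) D7571
theorem F16415 : act 5 n9819 = n8601 := d13_2 F12539 D9819 (iv D8601)
def n9820 : Q := act 2 n7572
theorem D9820 : act 2 n7572 = n9820 := rfl
def n9821 : Q := act 4 n7572
theorem D9821 : act 4 n7572 = n9821 := rfl
def n9822 : Q := act 5 n7572
theorem D9822 : act 5 n7572 = n9822 := rfl
theorem F16416 : act 1 n9822 = n8601 := d8_1 D9822 (iv F16415) F16414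
theorem F16417 : act 3 n9822 = n7573 := d13_1 D9822 (iv D7573) D7572
def n9823 : Q := act 4 n7573
theorem D9823 : act 4 n7573 = n9823 := rfl
theorem F16418 : act 1 n9823 = n8602 := d7_1 D9823 (iv D8602) (iv F12540)
theorem F16419 : act 2 n9823 = n7574 := d10_1 D9823 (iv D7574) (iv F12541)
def n9824 : Q := act 3 n7574
theorem D9824 : act 3 n7574 = n9824 := rfl
theorem F16420 : act 1 n9824 = n7578 := d6_1 D9824 (iv D7578) (iv F12542)
theorem F16421 : act 4 n9824 = n7575 := d12_2 D7574 D9824 (iv D7575) (iv D5771) (iv F9499)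
theorem F16422 : act 5 n9824 = n7647 := d13_2 F14051 D9824 (iv F14050)
def n9825 : Q := act 2 n7575
theorem D9825 : act 2 n7575 = n9825 := rfl
theorem F16423 : act 5 n9825 = n7576 := d11_2 (iv F12544) D9825 (iv D7576)
def n9826 : Q := act 1 n7576
theorem D9826 : act 1 n7576 = n9826 := rfl
theorem F16424 : act 2 n9826 = n7580 := d5_2 D7576 D9826 (iv D7580) (iv D5776) (iv F9502)
theorem F16425 : act 4 n9826 = n7644 := d7_2 (iv F12545) D9826 (iv D7644)
def n9827 : Q := act 3 n7576
theorem D9827 : act 3 n7576 = n9827 := rfl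
def n9828 : Q := act 2 n7578
theorem D9828 : act 2 n7578 = n9828 := rfl
theorem F16426 : act 0 n9828 = n7608 := d1_1 D9828 (iv D7608) (iv F12549)
theorem F16427 : act 3 n9828 = n7670 := d9_2 D7578 D9828 F12680 F9599 (iv F9457) (iv F11361) F11360 D7606 (iv F15709) F15710 F12388 F9367 (iv F9420) F9421 (iv F9507)
theorem F16428 : act 4 n9828 = n7579 := d10_2 (iv F12550) D9828 (iv D7579)
theorem F16429 : act 5 n9828 = n7652 := d11_2 (iv F12551) D9828 F12655
def n9829 : Q := act 1 n7579
theorem D9829 : act 1 n7579 = n9829 := rfl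
theorem F16430 : act 3 n9829 = n7619 := d6_2 (iv F12554) D9829 (iv D7619)
theorem F16431 : act 5 n9829 = n7580 := d8_2 (iv F12553) D9829 (iv D7580)
def n9830 : Q := act 0 n7580
theorem D9830 : act 0 n7580 = n9830 := rfl
theorem F16432 : act 1 n9830 = n7610 := d0_2 D7580 D9830 (iv D7610) (iv D5800) (iv F9510)
theorem F16433 : act 4 n9830 = n7648 := d3_2 (iv F12555) D9830 (iv D7648)
def n9831 : Q := act 3 n7580
theorem D9831 : act 3 n7580 = n9831 := rfl
theorem F16434 : act 1 n9831 = n7581 := d6_1 D9831 (iv D7581) D7580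
theorem F16435 : act 5 n9831 = n7619 := d13_2 F16431 D9831 (iv F16430)
def n9832 : Q := act 4 n7581
theorem D9832 : act 4 n7581 = n9832 := rfl
theorem F16436 : act 0 n9832 = n7612 := d3_1 D9832 (iv D7612) (iv F12556)
theorem F16437 : act 2 n9832 = n7615 := d10_1 D9832 (iv D7615) (iv F12558)
theorem F16438 : act 3 n9832 = n7651 := d12_1 D9832 (iv D7651) (iv D5830) (iv F9511) D7581
theorem F16439 : act 5 n9832 = n7669 := d14_2 (iv F12557) D9832 (iv D7669) (iv F12619) (iv D7620)
def n9833 : Q := act 0 n7582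
theorem D9833 : act 0 n7582 = n9833 := rfl
theorem F16440 : act 1 n9833 = n7613 := d0_2 D7582 D9833 (iv D7613) (iv D5802) (iv F9512)
theorem F16441 : act 2 n9833 = n8419 := d1_2 F14263 D9833 (iv F14261)
theorem F16442 : act 4 n9833 = n7680 := d3_2 (iv F12559) D9833 F12694
theorem F16443 : act 5 n9833 = n7584 := d4_2 (iv F12560) D9833 (iv D7584)
def n9834 : Q := act 3 n7582
theorem D9834 : act 3 n7582 = n9834 := rfl
theorem F16444 : act 1 n9834 = n7583 := d6_1 D9834 (iv D7583) D7582
theorem F16445 : act 5 n9834 = n7585 := d13_2 (iv F12560) D9834 (iv D7585)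
def n9835 : Q := act 4 n7583
theorem D9835 : act 4 n7583 = n9835 := rfl
theorem F16446 : act 0 n9835 = n7615 := d3_1 D9835 (iv D7615) (iv F12561)
theorem F16447 : act 2 n9835 = n7612 := d10_1 D9835 (iv D7612) (iv F12562)
theorem F16448 : act 3 n9835 = n7684 := d12_1 D9835 (iv D7684) F9625 (iv F9513) D7583
theorem F16449 : act 5 n9835 = n7676 := d14_2 (iv F12563) D9835 (iv D7676) (iv D5851) (iv F9517)
def n9836 : Q := act 3 n7584
theorem D9836 : act 3 n7584 = n9836 := rfl
theorem F16450 : act 0 n9836 = n7585 := d2_1 D9836 (iv D7585) D7584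
theorem F16451 : act 1 n9836 = n7616 := d6_1 D9836 (iv D7616) (iv F12564)
theorem F16452 : act 4 n9836 = n7671 := d12_2 (iv F12566) D9836 (iv D7671) F9601 (iv F9520)
def n9837 : Q := act 2 n7585
theorem D9837 : act 2 n7585 = n9837 := rfl
theorem F16453 : act 4 n9837 = n7673 := d10_2 (iv F12568) D9837 (iv D7673)
def n9838 : Q := act 1 n7586
theorem D9838 : act 1 n7586 = n9838 := rfl
theorem F16454 : act 3 n9838 = n7609 := d6_2 (iv F12570) D9838 (iv D7609)
theorem F16455 : act 4 n9838 = n7675 := d7_2 (iv F12571) D9838 (iv D7675)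
theorem F16456 : act 5 n9838 = n7611 := d8_2 (iv F12572) D9838 F12606
def n9839 : Q := act 1 n7587
theorem D9839 : act 1 n7587 = n9839 := rfl
theorem F16457 : act 4 n9839 = n7589 := d7_2 (iv F12574) D9839 (iv D7589)
def n9840 : Q := act 3 n7587
theorem D9840 : act 3 n7587 = n9840 := rfl
theorem F16458 : act 0 n9840 = n7596 := d2_1 D9840 (iv D7596) (iv F12573)
def n9841 : Q := act 5 n7587
theorem D9841 : act 5 n7587 = n9841 := rfl
theorem F16459 : act 0 n9841 = n7597 := d4_1 D9841 (iv D7597) (iv F12573)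
theorem F16460 : act 2 n9841 = n7588 := d11_1 D9841 (iv D7588) D7587
def n9842 : Q := act 4 n7588
theorem D9842 : act 4 n7588 = n9842 := rfl
theorem F16461 : act 0 n9842 = n7598 := d3_1 D9842 (iv D7598) (iv F12575)
theorem F16462 : act 5 n9842 = n7592 := d14_2 D7588 D9842 (iv D7592) (iv D5784) (iv F9523)
def n9843 : Q := act 0 n7589
theorem D9843 : act 0 n7589 = n9843 := rfl
theorem F16463 : act 1 n9843 = n7599 := d0_2 D7589 D9843 (iv D7599) (iv D5789) (iv F9525)
def n9844 : Q := act 3 n7589
theorem D9844 : act 3 n7589 = n9844 := rfl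
theorem F16464 : act 1 n9844 = n7590 := d6_1 D9844 (iv D7590) D7589
theorem F16465 : act 5 n7635 = n9844 := d8_0 F16464 (iv F12579) D7635
def n9845 : Q := act 5 n7589
theorem D9845 : act 5 n7589 = n9845 := rfl
theorem F16466 : act 1 n9845 = n7591 := d8_1 D9845 (iv D7591) D7589
theorem F16467 : act 3 n9845 = n7635 := d13_1 D9845 F16465 (iv D9844)
def n9846 : Q := act 4 n7590
theorem D9846 : act 4 n7590 = n9846 := rfl
theorem F16468 : act 0 n9846 = n7602 := d3_1 D9846 (iv D7602) (iv F12577)
theorem F16469 : act 2 n9846 = n7638 := d10_1 D9846 (iv D7638) (iv F12578)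
def n9847 : Q := act 4 n7591
theorem D9847 : act 4 n7591 = n9847 := rfl
theorem F16470 : act 0 n9847 = n7604 := d3_1 D9847 (iv D7604) (iv F12580)
theorem F16471 : act 2 n9847 = n7592 := d10_1 D9847 (iv D7592) (iv F12581)
def n9848 : Q := act 1 n7593
theorem D9848 : act 1 n7593 = n9848 := rfl
def n9849 : Q := act 3 n7593
theorem D9849 : act 3 n7593 = n9849 := rfl
def n9850 : Q := act 5 n7593
theorem D9850 : act 5 n7593 = n9850 := rfl
theorem F16472 : act 2 n9850 = n7594 := d11_1 D9850 (iv D7594) D7593
def n9851 : Q := act 4 n7594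
theorem D9851 : act 4 n7594 = n9851 := rfl
def n9852 : Q := act 0 n7595
theorem D9852 : act 0 n7595 = n9852 := rfl
theorem F16473 : act 2 n9852 = n7605 := d1_2 (iv F12585) D9852 (iv D7605)
theorem F16474 : act 4 n9852 = n7599 := d3_2 (iv F12586) D9852 (iv D7599)
def n9853 : Q := act 3 n7595
theorem D9853 : act 3 n7595 = n9853 := rfl
theorem F16475 : act 1 n9853 = n7596 := d6_1 D9853 (iv D7596) D7595
def n9854 : Q := act 2 n7596
theorem D9854 : act 2 n7596 = n9854 := rfl
def n9855 : Q := act 4 n7596
theorem D9855 : act 4 n7596 = n9855 := rfl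
theorem F16476 : act 3 n9855 = n7602 := d12_1 D9855 (iv D7602) (iv D5790) (iv F9529) D7596
def n9856 : Q := act 5 n7596
theorem D9856 : act 5 n7596 = n9856 := rfl
theorem F16477 : act 3 n9856 = n7597 := d13_1 D9856 (iv D7597) D7596
def n9857 : Q := act 4 n7597
theorem D9857 : act 4 n7597 = n9857 := rfl
theorem F16478 : act 2 n9857 = n7598 := d10_1 D9857 (iv D7598) (iv F12587)
theorem F16479 : act 5 n9857 = n7604 := d14_2 D7597 D9857 (iv D7604) (iv D5791) (iv F9529)
def n9858 : Q := act 3 n7599
theorem D9858 : act 3 n7599 = n9858 := rfl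
theorem F16480 : act 0 n9858 = n7600 := d2_1 D9858 (iv D7600) D7599
def n9859 : Q := act 2 n7600
theorem D9859 : act 2 n7600 = n9859 := rfl
def n9860 : Q := act 4 n7600
theorem D9860 : act 4 n7600 = n9860 := rfl
theorem F16481 : act 1 n9860 = n7602 := d7_1 D9860 (iv D7602) (iv F12591)
def n9861 : Q := act 1 n7601
theorem D9861 : act 1 n7601 = n9861 := rfl
theorem F16482 : act 3 n9861 = n7629 := d6_2 (iv F12593) D9861 F12639
theorem F16483 : act 5 n9861 = n7628 := d8_2 F12594 D9861 F12638
def n9862 : Q := act 4 n7601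
theorem D9862 : act 4 n7601 = n9862 := rfl
theorem F16484 : act 0 n9862 = n7638 := d3_1 D9862 (iv D7638) (iv F12592)
theorem F16485 : act 2 n9862 = n7602 := d10_1 D9862 (iv D7602) D7601
def n9863 : Q := act 5 n7602
theorem D9863 : act 5 n7602 = n9863 := rfl
def n9864 : Q := act 4 n7603
theorem D9864 : act 4 n7603 = n9864 := rfl
theorem F16486 : act 0 n9864 = n7636 := d3_1 D9864 (iv D7636) (iv F12595)
theorem F16487 : act 2 n9864 = n7630 := d10_1 D9864 (iv D7630) (iv F12596)
def n9865 : Q := act 3 n7604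
theorem D9865 : act 3 n7604 = n9865 := rfl
def n9866 : Q := act 0 n7607
theorem D9866 : act 0 n7607 = n9866 := rfl
theorem F16488 : act 1 n9866 = n7648 := d0_2 D7607 D9866 (iv D7648) (iv D5829) (iv F9539)
theorem F16489 : act 4 n9866 = n7610 := d3_2 (iv F12603) D9866 (iv D7610)
def n9867 : Q := act 1 n7608
theorem D9867 : act 1 n7608 = n9867 := rfl
theorem F16490 : act 4 n9867 = n7609 := d7_2 (iv F12604) D9867 (iv D7609)
def n9868 : Q := act 0 n7609
theorem D9868 : act 0 n7609 = n9868 := rfl
theorem F16491 : act 5 n9868 = n7610 := d4_2 (iv F12605) D9868 (iv D7610)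
def n9869 : Q := act 3 n7610
theorem D9869 : act 3 n7610 = n9869 := rfl
theorem F16492 : act 0 n9869 = n7611 := d2_1 D9869 (iv D7611) D7610
def n9870 : Q := act 2 n7611
theorem D9870 : act 2 n7611 = n9870 := rfl
def n9871 : Q := act 4 n7611
theorem D9871 : act 4 n7611 = n9871 := rfl
theorem F16493 : act 1 n9871 = n7612 := d7_1 D9871 (iv D7612) (iv F12606)
def n9872 : Q := act 3 n7613
theorem D9872 : act 3 n7613 = n9872 := rfl
theorem F16494 : act 0 n9872 = n7614 := d2_1 D9872 (iv D7614) D7613
theorem F16495 : act 5 n9872 = n7616 := d13_2 (iv F12609) D9872 (iv D7616)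
def n9873 : Q := act 2 n7614
theorem D9873 : act 2 n7614 = n9873 := rfl
theorem F16496 : act 5 n9873 = n7617 := d11_2 (iv F12611) D9873 (iv D7617)
def n9874 : Q := act 4 n7614
theorem D9874 : act 4 n7614 = n9874 := rfl
theorem F16497 : act 1 n9874 = n7615 := d7_1 D9874 (iv D7615) (iv F12610)
theorem F16498 : act 3 n9874 = n7700 := d12_1 D9874 (iv D7700) F9635 (iv F9544) D7614
def n9875 : Q := act 5 n7615
theorem D9875 : act 5 n7615 = n9875 := rfl
theorem F16499 : act 0 n9875 = n7676 := d4_1 D9875 (iv F16449) F16446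
theorem F16500 : act 2 n9875 = n7669 := d11_1 D9875 (iv F16439) F16437
theorem F16501 : act 3 n9875 = n7703 := d13_1 D9875 F12721 (iv F12612)
theorem F16502 : act 4 n9875 = n7621 := d14_1 D9875 (iv D7621) (iv D5807) (iv F9546) D7615
def n9876 : Q := act 2 n7616
theorem D9876 : act 2 n7616 = n9876 := rfl
theorem F16503 : act 0 n9876 = n7617 := d1_1 D9876 (iv D7617) (iv F12613)
def n9877 : Q := act 4 n7616
theorem D9877 : act 4 n7616 = n9877 := rfl
theorem F16504 : act 0 n9877 = n7618 := d3_1 D9877 (iv D7618) (iv F12613)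
theorem F16505 : act 1 n9877 = n7671 := d7_1 D9877 (iv F16452) F16451
theorem F16506 : act 3 n9877 = n7623 := d12_1 D9877 (iv D7623) (iv D5808) (iv F9548) D7616
def n9878 : Q := act 1 n7617
theorem D9878 : act 1 n7617 = n9878 := rfl
theorem F16507 : act 2 n9878 = n7619 := d5_2 D7617 D9878 (iv D7619) (iv D5806) (iv F9549)
def n9879 : Q := act 3 n7617
theorem D9879 : act 3 n7617 = n9879 := rfl
def n9880 : Q := act 4 n7617
theorem D9880 : act 4 n7617 = n9880 := rfl
theorem F16508 : act 2 n9880 = n7618 := d10_1 D9880 (iv D7618) D7617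
def n9881 : Q := act 5 n7618
theorem D9881 : act 5 n7618 = n9881 := rfl
theorem F16509 : act 1 n9881 = n7621 := d8_1 D9881 (iv D7621) (iv F12614)
theorem F16510 : act 3 n9881 = n7626 := d13_1 D9881 (iv D7626) (iv F12615)
def n9882 : Q := act 0 n7619
theorem D9882 : act 0 n7619 = n9882 := rfl
def n9883 : Q := act 4 n7619
theorem D9883 : act 4 n7619 = n9883 := rfl
theorem F16511 : act 1 n9883 = n7620 := d7_1 D9883 (iv D7620) D7619
theorem F16512 : act 3 n7668 = n9883 := d6_0 F16511 (iv F12618) (iv F12679)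
theorem F16513 : act 5 n7667 = n9883 := d8_0 F16511 F12619 (iv F12678)
def n9884 : Q := act 4 n7622
theorem D9884 : act 4 n7622 = n9884 := rfl
theorem F16514 : act 0 n9884 = n7625 := d3_1 D9884 (iv D7625) (iv F12623)
theorem F16515 : act 1 n9884 = n8066 := d7_1 D9884 (iv D8066) (iv F12624)
theorem F16516 : act 2 n9884 = n7623 := d10_1 D9884 (iv D7623) D7622
def n9885 : Q := act 5 n7623
theorem D9885 : act 5 n7623 = n9885 := rfl
theorem F16517 : act 0 n9885 = n7626 := d4_1 D9885 (iv D7626) (iv F12627)
theorem F16518 : act 1 n9885 = n7672 := d8_1 D9885 (iv D7672) (iv F12628)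
theorem F16519 : act 4 n9885 = n7706 := d14_1 D9885 (iv D7706) (iv D5875) (iv F9554) D7623
def n9886 : Q := act 4 n7624
theorem D9886 : act 4 n7624 = n9886 := rfl
theorem F16520 : act 0 n9886 = n8126 := d3_1 D9886 (iv D8126) (iv F12629)
theorem F16521 : act 1 n9886 = n7659 := d7_1 D9886 (iv D7659) (iv F12630)
theorem F16522 : act 2 n9886 = n8129 := d10_1 D9886 (iv D8129) (iv F12631)
def n9887 : Q := act 3 n7625
theorem D9887 : act 3 n7625 = n9887 := rfl
theorem F16523 : act 1 n9887 = n7657 := d6_1 D9887 (iv D7657) (iv F12633)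
def n9888 : Q := act 5 n7625
theorem D9888 : act 5 n7625 = n9888 := rfl
theorem F16524 : act 1 n9888 = n7658 := d8_1 D9888 (iv D7658) (iv F12633)
theorem F16525 : act 2 n9888 = n7626 := d11_1 D9888 (iv D7626) (iv F12634)
theorem F16526 : act 4 n9888 = n7709 := d14_1 D9888 (iv D7709) (iv D5877) (iv F9556) D7625
def n9889 : Q := act 3 n7627
theorem D9889 : act 3 n7627 = n9889 := rfl
theorem F16527 : act 0 n9889 = n7628 := d2_1 D9889 (iv D7628) D7627
theorem F16528 : act 1 n9889 = n7632 := d6_1 D9889 (iv D7632) (iv F12637)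
def n9890 : Q := act 2 n7628
theorem D9890 : act 2 n7628 = n9890 := rfl
def n9891 : Q := act 4 n7628
theorem D9891 : act 4 n7628 = n9891 := rfl
theorem F16529 : act 1 n9891 = n7630 := d7_1 D9891 (iv D7630) (iv F12638)
def n9892 : Q := act 4 n7629
theorem D9892 : act 4 n7629 = n9892 := rfl
theorem F16530 : act 1 n9892 = n7631 := d7_1 D9892 (iv D7631) (iv F12639)
def n9893 : Q := act 5 n7630
theorem D9893 : act 5 n7630 = n9893 := rfl
theorem F16531 : act 0 n9893 = n7637 := d4_1 D9893 (iv D7637) (iv F12640)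
def n9894 : Q := act 3 n7631
theorem D9894 : act 3 n7631 = n9894 := rfl
theorem F16532 : act 0 n9894 = n7639 := d2_1 D9894 (iv D7639) (iv F12641)
def n9895 : Q := act 4 n7632
theorem D9895 : act 4 n7632 = n9895 := rfl
theorem F16533 : act 0 n9895 = n7634 := d3_1 D9895 (iv D7634) (iv F12643)
def n9896 : Q := act 1 n7633
theorem D9896 : act 1 n7633 = n9896 := rfl
theorem F16534 : act 2 n9896 = n7635 := d5_2 D7633 D9896 (iv D7635) (iv D5818) (iv F9566)
def n9897 : Q := act 4 n7633
theorem D9897 : act 4 n7633 = n9897 := rfl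
theorem F16535 : act 2 n9897 = n7634 := d10_1 D9897 (iv D7634) D7633
def n9898 : Q := act 5 n7634
theorem D9898 : act 5 n7634 = n9898 := rfl
theorem F16536 : act 1 n9898 = n7637 := d8_1 D9898 (iv D7637) (iv F12644)
def n9899 : Q := act 0 n7635
theorem D9899 : act 0 n7635 = n9899 := rfl
def n9900 : Q := act 4 n7635
theorem D9900 : act 4 n7635 = n9900 := rfl
theorem F16537 : act 1 n9900 = n7636 := d7_1 D9900 (iv D7636) D7635
def n9901 : Q := act 3 n7636
theorem D9901 : act 3 n7636 = n9901 := rfl
def n9902 : Q := act 5 n7636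
theorem D9902 : act 5 n7636 = n9902 := rfl
theorem F16538 : act 2 n9902 = n7637 := d11_1 D9902 (iv D7637) (iv F12645)
def n9903 : Q := act 4 n7637
theorem D9903 : act 4 n7637 = n9903 := rfl
theorem F16539 : act 5 n9903 = n7638 := d14_2 D7637 D9903 (iv D7638) (iv D5820) D5819
def n9904 : Q := act 3 n7638
theorem D9904 : act 3 n7638 = n9904 := rfl
theorem F16540 : act 4 n9904 = n7639 := d12_2 D7638 D9904 (iv D7639) (iv D5821) (iv F9567)
def n9905 : Q := act 2 n7639
theorem D9905 : act 2 n7639 = n9905 := rfl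
def n9906 : Q := act 1 n7640
theorem D9906 : act 1 n7640 = n9906 := rfl
def n9907 : Q := act 3 n7640
theorem D9907 : act 3 n7640 = n9907 := rfl
theorem F16541 : act 2 n9907 = n8979 := d15_2 D7640 D9907 (iv D8979) F11379 F8556 (iv F10529) (iv F13823) (iv D8315) F10525
def n9908 : Q := act 5 n7640
theorem D9908 : act 5 n7640 = n9908 := rfl
theorem F16542 : act 2 n9908 = n7641 := d11_1 D9908 (iv D7641) D7640
def n9909 : Q := act 4 n7641
theorem D9909 : act 4 n7641 = n9909 := rfl
def n9910 : Q := act 1 n7642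
theorem D9910 : act 1 n7642 = n9910 := rfl
def n9911 : Q := act 3 n7642
theorem D9911 : act 3 n7642 = n9911 := rfl
theorem F16543 : act 0 n9911 = n7645 := d2_1 D9911 (iv D7645) (iv F12647)
theorem F16544 : act 2 n9911 = n8865 := d15_2 D7642 D9911 F14716 F11234 F8460 F7827 (iv F9576) (iv D5828) (iv F9573)
theorem F16545 : act 5 n8864 = n9911 := d11_0 F16544 (iv D8865) D8864
def n9912 : Q := act 5 n7642
theorem D9912 : act 5 n7642 = n9912 := rfl
theorem F16546 : act 0 n9912 = n7646 := d4_1 D9912 (iv D7646) (iv F12647)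
theorem F16547 : act 2 n9912 = n7643 := d11_1 D9912 (iv D7643) D7642
theorem F16548 : act 3 n9912 = n8864 := d13_1 D9912 F16545 (iv D9911)
def n9913 : Q := act 4 n7643
theorem D9913 : act 4 n7643 = n9913 := rfl
theorem F16549 : act 0 n9913 = n7647 := d3_1 D9913 (iv D7647) (iv F12648)
def n9914 : Q := act 0 n7644
theorem D9914 : act 0 n7644 = n9914 := rfl
theorem F16550 : act 2 n9914 = n7648 := d1_2 (iv F12650) D9914 (iv D7648)
def n9915 : Q := act 3 n7644
theorem D9915 : act 3 n7644 = n9915 := rfl
theorem F16551 : act 1 n9915 = n7645 := d6_1 D9915 (iv D7645) D7644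
def n9916 : Q := act 5 n7644
theorem D9916 : act 5 n7644 = n9916 := rfl
theorem F16552 : act 1 n9916 = n7646 := d8_1 D9916 (iv D7646) D7644
theorem F16553 : act 2 n9916 = n7650 := d11_1 D9916 (iv D7650) (iv F12650)
def n9917 : Q := act 2 n7645
theorem D9917 : act 2 n7645 = n9917 := rfl
theorem F16554 : act 0 n9917 = n8865 := d1_1 D9917 (iv F16544) F16543
theorem F16555 : act 3 n9917 = n8858 := d9_2 D7645 D9917 F14711 F11230 F10480 (iv F12649) (iv F16547) F16548 (iv D8864) (iv D6794) F8458 F6299 F5797 D4380 D5827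
theorem F16556 : act 5 n8857 = n9917 := d13_0 F16555 (iv D8858) D8857
def n9918 : Q := act 4 n7645
theorem D9918 : act 4 n7645 = n9918 := rfl
def n9919 : Q := act 5 n7645
theorem D9919 : act 5 n7645 = n9919 := rfl
theorem F16557 : act 0 n9919 = n8864 := d4_1 D9919 F16545 F16543
theorem F16558 : act 2 n9919 = n8857 := d11_1 D9919 F16556 (iv D9917)
theorem F16559 : act 3 n9919 = n7646 := d13_1 D9919 (iv D7646) D7645
def n9920 : Q := act 4 n7646
theorem D9920 : act 4 n7646 = n9920 := rfl
theorem F16560 : act 2 n9920 = n7647 := d10_1 D9920 (iv D7647) (iv F12651)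
def n9921 : Q := act 3 n7648
theorem D9921 : act 3 n7648 = n9921 := rfl
theorem F16561 : act 0 n9921 = n7649 := d2_1 D9921 (iv D7649) D7648
def n9922 : Q := act 5 n7648
theorem D9922 : act 5 n7648 = n9922 := rfl
theorem F16562 : act 0 n9922 = n7650 := d4_1 D9922 (iv D7650) D7648
def n9923 : Q := act 2 n7649
theorem D9923 : act 2 n7649 = n9923 := rfl
def n9924 : Q := act 4 n7649
theorem D9924 : act 4 n7649 = n9924 := rfl
theorem F16563 : act 1 n9924 = n7651 := d7_1 D9924 (iv D7651) (iv F12653)
def n9925 : Q := act 4 n7650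
theorem D9925 : act 4 n7650 = n9925 := rfl
theorem F16564 : act 1 n9925 = n7652 := d7_1 D9925 (iv D7652) (iv F12654)
def n9926 : Q := act 2 n7653
theorem D9926 : act 2 n7653 = n9926 := rfl
theorem F16565 : act 0 n9926 = n9215 := d1_1 D9926 (iv D9215) (iv F12656)
theorem F16566 : act 4 n9926 = n7655 := d10_2 (iv F12658) D9926 (iv D7655)
def n9927 : Q := act 5 n7653
theorem D9927 : act 5 n7653 = n9927 := rfl
theorem F16567 : act 0 n9927 = n9216 := d4_1 D9927 (iv D9216) (iv F12656)
theorem F16568 : act 1 n9927 = n8496 := d8_1 D9927 F14128 (iv F12657)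
theorem F16569 : act 3 n9927 = n7654 := d13_1 D9927 (iv D7654) D7653
def n9928 : Q := act 1 n7655
theorem D9928 : act 1 n7655 = n9928 := rfl
def n9929 : Q := act 3 n7655
theorem D9929 : act 3 n7655 = n9929 := rfl
theorem F16570 : act 0 n9929 = n9218 := d2_1 D9929 (iv D9218) (iv F12663)
theorem F16571 : act 2 n9929 = n9243 := d15_2 D7655 D9929 F15407 F11757 F8892 (iv F8872) (iv F11738) (iv D7080) (iv F9581)
theorem F16572 : act 5 n9241 = n9929 := d11_0 F16571 (iv D9243) D9241
def n9930 : Q := act 5 n7655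
theorem D9930 : act 5 n7655 = n9930 := rfl
theorem F16573 : act 0 n9930 = n9219 := d4_1 D9930 (iv D9219) (iv F12663)
theorem F16574 : act 2 n9930 = n7656 := d11_1 D9930 (iv D7656) D7655
theorem F16575 : act 3 n9930 = n9241 := d13_1 D9930 F16572 (iv D9929)
def n9931 : Q := act 4 n7656
theorem D9931 : act 4 n7656 = n9931 := rfl
theorem F16576 : act 0 n9931 = n9220 := d3_1 D9931 (iv D9220) (iv F12664)
theorem F16577 : act 3 n9931 = n9354 := d12_1 D9931 (iv D9354) F11968 (iv F9584) (iv F12665)
def n9932 : Q := act 2 n7657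
theorem D9932 : act 2 n7657 = n9932 := rfl
theorem F16578 : act 0 n9932 = n9241 := d1_1 D9932 (iv D9241) (iv F12666)
theorem F16579 : act 3 n9932 = n9219 := d9_2 D7657 D9932 F15373 F11738 F8872 (iv F8892) (iv F11757) (iv F15407) (iv F16571) (iv D9929) (iv D7655) (iv D5834) F7161 D4386 D5836
theorem F16580 : act 5 n9218 = n9932 := d13_0 F16579 (iv D9219) D9218
def n9933 : Q := act 4 n7657
theorem D9933 : act 4 n7657 = n9933 := rfl
theorem F16581 : act 0 n9933 = n9242 := d3_1 D9933 (iv D9242) (iv F12666)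
theorem F16582 : act 3 n9933 = n7659 := d12_1 D9933 (iv D7659) (iv D5838) (iv F9586) D7657
def n9934 : Q := act 5 n7657
theorem D9934 : act 5 n7657 = n9934 := rfl
theorem F16583 : act 0 n9934 = n9243 := d4_1 D9934 (iv D9243) (iv F12666)
theorem F16584 : act 2 n9934 = n9218 := d11_1 D9934 F16580 (iv D9932)
theorem F16585 : act 3 n9934 = n7658 := d13_1 D9934 (iv D7658) D7657
def n9935 : Q := act 5 n7659
theorem D9935 : act 5 n7659 = n9935 := rfl
theorem F16586 : act 0 n9935 = n9366 := d4_1 D9935 (iv D9366) (iv F12669)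
theorem F16587 : act 2 n9935 = n8665 := d11_1 D9935 (iv D8665) (iv F12670)
def n9936 : Q := act 1 n7660
theorem D9936 : act 1 n7660 = n9936 := rfl
def n9937 : Q := act 3 n7660
theorem D9937 : act 3 n7660 = n9937 := rfl
theorem F16588 : act 0 n9937 = n7663 := d2_1 D9937 (iv D7663) (iv F12671)
theorem F16589 : act 2 n9937 = n9127 := d15_2 D7660 D9937 F15207 F11621 F8760 (iv F7175) (iv F9597) (iv D5842) (iv F9592)
theorem F16590 : act 5 n9126 = n9937 := d11_0 F16589 (iv D9127) D9126
def n9938 : Q := act 5 n7660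
theorem D9938 : act 5 n7660 = n9938 := rfl
theorem F16591 : act 0 n9938 = n7664 := d4_1 D9938 (iv D7664) (iv F12671)
theorem F16592 : act 2 n9938 = n7661 := d11_1 D9938 (iv D7661) D7660
theorem F16593 : act 3 n9938 = n9126 := d13_1 D9938 F16590 (iv D9937)
def n9939 : Q := act 4 n7661
theorem D9939 : act 4 n7661 = n9939 := rfl
theorem F16594 : act 0 n9939 = n7665 := d3_1 D9939 (iv D7665) (iv F12672)
theorem F16595 : act 3 n9939 = n9370 := d12_1 D9939 (iv D9370) F11976 (iv F9595) (iv F12673)
def n9940 : Q := act 0 n7662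
theorem D9940 : act 0 n7662 = n9940 := rfl
theorem F16596 : act 2 n9940 = n7666 := d1_2 (iv F12674) D9940 (iv D7666)
def n9941 : Q := act 3 n7662
theorem D9941 : act 3 n7662 = n9941 := rfl
theorem F16597 : act 1 n9941 = n7663 := d6_1 D9941 (iv D7663) D7662
def n9942 : Q := act 5 n7662
theorem D9942 : act 5 n7662 = n9942 := rfl
theorem F16598 : act 1 n9942 = n7664 := d8_1 D9942 (iv D7664) D7662
theorem F16599 : act 2 n9942 = n7668 := d11_1 D9942 (iv D7668) (iv F12674)
def n9943 : Q := act 2 n7663
theorem D9943 : act 2 n7663 = n9943 := rfl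
theorem F16600 : act 0 n9943 = n9127 := d1_1 D9943 (iv F16589) F16588
theorem F16601 : act 3 n9943 = n9110 := d9_2 D7663 D9943 F15170 F11605 (iv F9594) (iv F12673) (iv F16592) F16593 (iv D9126) (iv D7005) F8756 F6539 (iv F5316) D4391 D5841
theorem F16602 : act 5 n9109 = n9943 := d13_0 F16601 (iv D9110) D9109
def n9944 : Q := act 4 n7663
theorem D9944 : act 4 n7663 = n9944 := rfl
def n9945 : Q := act 5 n7663
theorem D9945 : act 5 n7663 = n9945 := rfl
theorem F16603 : act 0 n9945 = n9126 := d4_1 D9945 F16590 F16588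
theorem F16604 : act 2 n9945 = n9109 := d11_1 D9945 F16602 (iv D9943)
theorem F16605 : act 3 n9945 = n7664 := d13_1 D9945 (iv D7664) D7663
def n9946 : Q := act 4 n7664
theorem D9946 : act 4 n7664 = n9946 := rfl
theorem F16606 : act 2 n9946 = n7665 := d10_1 D9946 (iv D7665) (iv F12675)
def n9947 : Q := act 3 n7666
theorem D9947 : act 3 n7666 = n9947 := rfl
theorem F16607 : act 0 n9947 = n7667 := d2_1 D9947 (iv D7667) D7666
def n9948 : Q := act 5 n7666
theorem D9948 : act 5 n7666 = n9948 := rfl
theorem F16608 : act 0 n9948 = n7668 := d4_1 D9948 (iv D7668) D7666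
def n9949 : Q := act 2 n7667
theorem D9949 : act 2 n7667 = n9949 := rfl
def n9950 : Q := act 4 n7667
theorem D9950 : act 4 n7667 = n9950 := rfl
theorem F16609 : act 1 n9950 = n7669 := d7_1 D9950 (iv D7669) (iv F12678)
def n9951 : Q := act 4 n7668
theorem D9951 : act 4 n7668 = n9951 := rfl
theorem F16610 : act 1 n9951 = n7670 := d7_1 D9951 (iv D7670) (iv F12679)
def n9952 : Q := act 2 n7671
theorem D9952 : act 2 n7671 = n9952 := rfl
theorem F16611 : act 0 n9952 = n7673 := d1_1 D9952 (iv D7673) (iv F12681)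
def n9953 : Q := act 5 n7671
theorem D9953 : act 5 n7671 = n9953 := rfl
theorem F16612 : act 0 n9953 = n7674 := d4_1 D9953 (iv D7674) (iv F12681)
theorem F16613 : act 3 n9953 = n7672 := d13_1 D9953 (iv D7672) D7671
def n9954 : Q := act 1 n7673
theorem D9954 : act 1 n7673 = n9954 := rfl
theorem F16614 : act 2 n9954 = n7675 := d5_2 D7673 D9954 (iv D7675) (iv D5850) (iv F9602)
def n9955 : Q := act 3 n7673
theorem D9955 : act 3 n7673 = n9955 := rfl
def n9956 : Q := act 5 n7673
theorem D9956 : act 5 n7673 = n9956 := rfl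
theorem F16615 : act 2 n9956 = n7674 := d11_1 D9956 (iv D7674) D7673
def n9957 : Q := act 4 n7674
theorem D9957 : act 4 n7674 = n9957 := rfl
theorem F16616 : act 1 n9957 = n7676 := d7_1 D9957 (iv D7676) (iv F12684)
def n9958 : Q := act 0 n7675
theorem D9958 : act 0 n7675 = n9958 := rfl
def n9959 : Q := act 5 n7677
theorem D9959 : act 5 n7677 = n9959 := rfl
theorem F16617 : act 0 n9959 = n8917 := d4_1 D9959 (iv D8917) (iv F12686)
theorem F16618 : act 1 n9959 = n7678 := d8_1 D9959 (iv D7678) (iv F12687)
theorem F16619 : act 2 n9959 = n9320 := d11_1 D9959 (iv D9320) (iv F12688)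
theorem F16620 : act 4 n9959 = n9101 := d14_1 D9959 (iv D9101) (iv D6989) (iv F9612) D7677
def n9960 : Q := act 2 n7679
theorem D9960 : act 2 n7679 = n9960 := rfl
theorem F16621 : act 0 n9960 = n7681 := d1_1 D9960 (iv D7681) (iv F12692)
def n9961 : Q := act 5 n7679
theorem D9961 : act 5 n7679 = n9961 := rfl
theorem F16622 : act 0 n9961 = n7682 := d4_1 D9961 (iv D7682) (iv F12692)
theorem F16623 : act 1 n9961 = n7694 := d8_1 D9961 (iv D7694) (iv F12693)
theorem F16624 : act 3 n9961 = n7680 := d13_1 D9961 (iv D7680) D7679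
def n9962 : Q := act 1 n7681
theorem D9962 : act 1 n7681 = n9962 := rfl
theorem F16625 : act 2 n9962 = n7683 := d5_2 D7681 D9962 (iv D7683) (iv D5858) (iv F9618)
theorem F16626 : act 5 n7687 = n9962 := d11_0 F16625 F12699 D7687
def n9963 : Q := act 3 n7681
theorem D9963 : act 3 n7681 = n9963 := rfl
def n9964 : Q := act 5 n7681
theorem D9964 : act 5 n7681 = n9964 := rfl
theorem F16627 : act 1 n9964 = n7687 := d8_1 D9964 F16626 (iv D9962)
theorem F16628 : act 2 n9964 = n7682 := d11_1 D9964 (iv D7682) D7681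
def n9965 : Q := act 4 n7682
theorem D9965 : act 4 n7682 = n9965 := rfl
theorem F16629 : act 1 n9965 = n7684 := d7_1 D9965 (iv D7684) (iv F12696)
def n9966 : Q := act 0 n7683
theorem D9966 : act 0 n7683 = n9966 := rfl
theorem F16630 : act 1 n9966 = n7701 := d0_2 D7683 D9966 (iv D7701) (iv D5870) (iv F9620)
theorem F16631 : act 3 n9966 = n7686 := d2_2 (iv F12698) D9966 F12703
theorem F16632 : act 5 n9966 = n7685 := d4_2 (iv F12699) D9966 F12702
def n9967 : Q := act 2 n7685
theorem D9967 : act 2 n7685 = n9967 := rfl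
theorem F16633 : act 0 n9967 = n7687 := d1_1 D9967 (iv D7687) (iv F12702)
def n9968 : Q := act 4 n7685
theorem D9968 : act 4 n7685 = n9968 := rfl
theorem F16634 : act 0 n9968 = n7688 := d3_1 D9968 (iv D7688) (iv F12702)
def n9969 : Q := act 4 n7686
theorem D9969 : act 4 n7686 = n9969 := rfl
theorem F16635 : act 0 n9969 = n7689 := d3_1 D9969 (iv D7689) (iv F12703)
def n9970 : Q := act 3 n7687
theorem D9970 : act 3 n7687 = n9970 := rfl
def n9971 : Q := act 4 n7687
theorem D9971 : act 4 n7687 = n9971 := rfl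
theorem F16636 : act 2 n9971 = n7688 := d10_1 D9971 (iv D7688) D7687
def n9972 : Q := act 5 n7688
theorem D9972 : act 5 n7688 = n9972 := rfl
theorem F16637 : act 1 n9972 = n7690 := d8_1 D9972 (iv D7690) (iv F12704)
def n9973 : Q := act 3 n7689
theorem D9973 : act 3 n7689 = n9973 := rfl
theorem F16638 : act 1 n9973 = n7691 := d6_1 D9973 (iv D7691) (iv F12705)
def n9974 : Q := act 1 n7692
theorem D9974 : act 1 n7692 = n9974 := rfl
theorem F16639 : act 3 n9974 = n9896 := d6_2 (iv F12707) D9974 (iv D9896)
def n9975 : Q := act 4 n7692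
theorem D9975 : act 4 n7692 = n9975 := rfl
theorem F16640 : act 0 n9975 = n7697 := d3_1 D9975 (iv D7697) (iv F12706)
theorem F16641 : act 2 n9975 = n7693 := d10_1 D9975 (iv D7693) D7692
def n9976 : Q := act 5 n7692
theorem D9976 : act 5 n7692 = n9976 := rfl
theorem F16642 : act 0 n9976 = n7698 := d4_1 D9976 (iv D7698) (iv F12706)
theorem F16643 : act 2 n9976 = n7694 := d11_1 D9976 (iv D7694) D7692
theorem F16644 : act 3 n9976 = n8435 := d13_1 D9976 F14015 (iv F12707)
def n9977 : Q := act 5 n7693
theorem D9977 : act 5 n7693 = n9977 := rfl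
theorem F16645 : act 0 n9977 = n7699 := d4_1 D9977 (iv D7699) (iv F12708)
theorem F16646 : act 3 n9977 = n7706 := d13_1 D9977 (iv D7706) (iv F12709)
def n9978 : Q := act 4 n7694
theorem D9978 : act 4 n7694 = n9978 := rfl
theorem F16647 : act 0 n9978 = n7700 := d3_1 D9978 (iv D7700) (iv F12710)
def n9979 : Q := act 0 n7695
theorem D9979 : act 0 n7695 = n9979 := rfl
theorem F16648 : act 2 n9979 = n7701 := d1_2 (iv F12712) D9979 (iv D7701)
def n9980 : Q := act 3 n7695
theorem D9980 : act 3 n7695 = n9980 := rfl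
theorem F16649 : act 1 n9980 = n7696 := d6_1 D9980 (iv D7696) D7695
def n9981 : Q := act 4 n7695
theorem D9981 : act 4 n7695 = n9981 := rfl
theorem F16650 : act 1 n9981 = n7697 := d7_1 D9981 (iv D7697) D7695
theorem F16651 : act 2 n9981 = n7702 := d10_1 D9981 (iv D7702) (iv F12712)
def n9982 : Q := act 4 n7696
theorem D9982 : act 4 n7696 = n9982 := rfl
theorem F16652 : act 0 n9982 = n9897 := d3_1 D9982 (iv D9897) (iv F12713)
theorem F16653 : act 2 n9982 = n9895 := d10_1 D9982 (iv D9895) (iv F12714)
def n9983 : Q := act 5 n7696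
theorem D9983 : act 5 n7696 = n9983 := rfl
theorem F16654 : act 0 n9983 = n8435 := d4_1 D9983 F14015 (iv F12713)
theorem F16655 : act 2 n9983 = n8434 := d11_1 D9983 F14014 (iv F12714)
theorem F16656 : act 3 n9983 = n7698 := d13_1 D9983 (iv D7698) D7696
def n9984 : Q := act 3 n7697
theorem D9984 : act 3 n7697 = n9984 := rfl
def n9985 : Q := act 5 n7697
theorem D9985 : act 5 n7697 = n9985 := rfl
theorem F16657 : act 2 n9985 = n7699 := d11_1 D9985 (iv D7699) (iv F12715)
def n9986 : Q := act 4 n7698
theorem D9986 : act 4 n7698 = n9986 := rfl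
theorem F16658 : act 2 n9986 = n7700 := d10_1 D9986 (iv D7700) (iv F12716)
def n9987 : Q := act 4 n7699
theorem D9987 : act 4 n7699 = n9987 := rfl
theorem F16659 : act 1 n9987 = n7703 := d7_1 D9987 (iv D7703) (iv F12717)
theorem F16660 : act 5 n9987 = n7700 := d14_2 D7699 D9987 (iv D7700) (iv D5869) D5868
def n9988 : Q := act 4 n7701
theorem D9988 : act 4 n7701 = n9988 := rfl
theorem F16661 : act 0 n9988 = n7702 := d3_1 D9988 (iv D7702) D7701
def n9989 : Q := act 4 n7704
theorem D9989 : act 4 n7704 = n9989 := rfl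
theorem F16662 : act 0 n9989 = n8016 := d3_1 D9989 F13273 (iv F12722)
theorem F16663 : act 1 n9989 = n7705 := d7_1 D9989 (iv D7705) D7704
theorem F16664 : act 2 n9989 = n8019 := d10_1 D9989 F13277 (iv F12723)
def n9990 : Q := act 3 n7705
theorem D9990 : act 3 n7705 = n9990 := rfl
theorem F16665 : act 0 n9990 = n7708 := d2_1 D9990 (iv D7708) (iv F12726)
theorem F16666 : act 4 n9990 = n8262 := d12_2 D7705 D9990 (iv D8262) (iv D6332) (iv F9639)
def n9991 : Q := act 5 n7705
theorem D9991 : act 5 n7705 = n9991 := rfl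
theorem F16667 : act 0 n9991 = n7709 := d4_1 D9991 (iv D7709) (iv F12726)
theorem F16668 : act 2 n9991 = n7706 := d11_1 D9991 (iv D7706) (iv F12727)
def n9992 : Q := act 3 n7707
theorem D9992 : act 3 n7707 = n9992 := rfl
theorem F16669 : act 0 n9992 = n8262 := d2_1 D9992 (iv D8262) (iv F12729)
theorem F16670 : act 4 n9992 = n7708 := d12_2 D7707 D9992 (iv D7708) (iv D5877) D5876
def n9993 : Q := act 5 n7707
theorem D9993 : act 5 n7707 = n9993 := rfl
theorem F16671 : act 0 n9993 = n8263 := d4_1 D9993 (iv D8263) (iv F12729)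
theorem F16672 : act 2 n9993 = n8261 := d11_1 D9993 (iv D8261) (iv F12730)
def n9994 : Q := act 2 n7708
theorem D9994 : act 2 n7708 = n9994 := rfl
def n9995 : Q := act 5 n7708
theorem D9995 : act 5 n7708 = n9995 := rfl
theorem F16673 : act 3 n9995 = n7709 := d13_1 D9995 (iv D7709) D7708
def n9996 : Q := act 1 n7710
theorem D9996 : act 1 n7710 = n9996 := rfl
theorem F16674 : act 3 n9996 = n7853 := d6_2 F13238 D9996 (iv F13237)
theorem F16675 : act 0 n7855 = n9996 := d2_3 F16674 F12942 D7855
def n9997 : Q := act 4 n7710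
theorem D9997 : act 4 n7710 = n9997 := rfl
theorem F16676 : act 0 n9997 = n7716 := d3_1 D9997 (iv D7716) (iv F12732)
theorem F16677 : act 2 n9997 = n7711 := d10_1 D9997 (iv D7711) D7710
def n9998 : Q := act 5 n7710
theorem D9998 : act 5 n7710 = n9998 := rfl
theorem F16678 : act 0 n9998 = n7717 := d4_1 D9998 (iv D7717) (iv F12732)
theorem F16679 : act 2 n9998 = n7712 := d11_1 D9998 (iv D7712) D7710
def n9999 : Q := act 5 n7711
theorem D9999 : act 5 n7711 = n9999 := rfl
theorem F16680 : act 0 n9999 = n7718 := d4_1 D9999 (iv D7718) (iv F12733)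
theorem F16681 : act 3 n9999 = n7731 := d13_1 D9999 (iv D7731) (iv F12734)
def n10000 : Q := act 4 n7712
theorem D10000 : act 4 n7712 = n10000 := rfl
theorem F16682 : act 0 n10000 = n7719 := d3_1 D10000 (iv D7719) (iv F12735)
def n10001 : Q := act 3 n7713
theorem D10001 : act 3 n7713 = n10001 := rfl
theorem F16683 : act 0 n10001 = n7720 := d2_1 D10001 (iv D7720) (iv F12737)
theorem F16684 : act 5 n10001 = n7732 := d13_2 (iv F12738) D10001 (iv D7732)
def n10002 : Q := act 0 n7714
theorem D10002 : act 0 n7714 = n10002 := rfl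
theorem F16685 : act 1 n10002 = n7855 := d0_2 D7714 D10002 F16675 (iv D9996) F12732
theorem F16686 : act 2 n10002 = n7721 := d1_2 (iv F12739) D10002 (iv D7721)
theorem F16687 : act 5 n10002 = n7865 := d4_2 F12740 D10002 F12972
theorem F16688 : act 3 n7854 = n10002 := d13_3 F16687 (iv D7865) (iv F12946)
def n10003 : Q := act 3 n7714
theorem D10003 : act 3 n7714 = n10003 := rfl
theorem F16689 : act 0 n10003 = n7854 := d2_1 D10003 F16688 (iv D10002)
theorem F16690 : act 1 n10003 = n7715 := d6_1 D10003 (iv D7715) D7714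
theorem F16691 : act 2 n10003 = n7856 := d9_1 D10003 F12948 F9832 F7368 (iv F7397) D6041 (iv F12973) (iv D7865) (iv D6004) (iv D4515) F5421 D3366 D4534 (iv F9653) (iv F12739)
theorem F16692 : act 5 n10003 = n7862 := d13_2 F12740 D10003 F12968
theorem F16693 : act 4 n8221 = n10003 := d10_0 F16691 F12949 (iv F13631)
def n10004 : Q := act 4 n7714
theorem D10004 : act 4 n7714 = n10004 := rfl
theorem F16694 : act 1 n10004 = n7716 := d7_1 D10004 (iv D7716) D7714
theorem F16695 : act 2 n10004 = n7722 := d10_1 D10004 (iv D7722) (iv F12739)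
def n10005 : Q := act 4 n7715
theorem D10005 : act 4 n7715 = n10005 := rfl
theorem F16696 : act 0 n10005 = n8217 := d3_1 D10005 F13624 F13236
theorem F16697 : act 1 n10005 = n8221 := d7_1 D10005 F16693 F16690
def n10006 : Q := act 5 n7715
theorem D10006 : act 5 n7715 = n10006 := rfl
theorem F16698 : act 1 n10006 = n7862 := d8_1 D10006 (iv F16692) F16690
theorem F16699 : act 3 n10006 = n7717 := d13_1 D10006 (iv D7717) D7715
def n10007 : Q := act 3 n7716
theorem D10007 : act 3 n7716 = n10007 := rfl
def n10008 : Q := act 5 n7716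
theorem D10008 : act 5 n7716 = n10008 := rfl
theorem F16700 : act 2 n10008 = n7718 := d11_1 D10008 (iv D7718) (iv F12741)
def n10009 : Q := act 4 n7717
theorem D10009 : act 4 n7717 = n10009 := rfl
theorem F16701 : act 1 n10009 = n7905 := d7_1 D10009 (iv D7905) (iv F12742)
theorem F16702 : act 2 n10009 = n7719 := d10_1 D10009 (iv D7719) (iv F12743)
def n10010 : Q := act 4 n7718
theorem D10010 : act 4 n7718 = n10010 := rfl
theorem F16703 : act 1 n10010 = n7725 := d7_1 D10010 (iv D7725) (iv F12744)
theorem F16704 : act 5 n10010 = n7719 := d14_2 D7718 D10010 (iv D7719) (iv D5883) D5882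
def n10011 : Q := act 3 n7719
theorem D10011 : act 3 n7719 = n10011 := rfl
theorem F16705 : act 1 n10011 = n7726 := d6_1 D10011 (iv D7726) (iv F12746)
theorem F16706 : act 4 n10011 = n7720 := d12_2 D7719 D10011 (iv D7720) (iv D5884) (iv F9650)
def n10012 : Q := act 2 n7720
theorem D10012 : act 2 n7720 = n10012 := rfl
theorem F16707 : act 5 n10012 = n7737 := d11_2 (iv F12748) D10012 (iv D7737)
def n10013 : Q := act 4 n7721
theorem D10013 : act 4 n7721 = n10013 := rfl
theorem F16708 : act 0 n10013 = n7722 := d3_1 D10013 (iv D7722) D7721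
theorem F16709 : act 1 n10013 = n10000 := d7_1 D10013 (iv D10000) (iv F12749)
def n10014 : Q := act 3 n7722
theorem D10014 : act 3 n7722 = n10014 := rfl
theorem F16710 : act 1 n10014 = n7723 := d6_1 D10014 (iv D7723) (iv F12752)
theorem F16711 : act 4 n10014 = n7893 := d12_2 D7722 D10014 (iv D7893) (iv D6029) (iv F9653)
def n10015 : Q := act 5 n7722
theorem D10015 : act 5 n7722 = n10015 := rfl
theorem F16712 : act 1 n10015 = n7724 := d8_1 D10015 (iv D7724) (iv F12752)
theorem F16713 : act 4 n10015 = n7906 := d14_1 D10015 (iv D7906) (iv D6043) (iv F9654) D7722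
def n10016 : Q := act 2 n7726
theorem D10016 : act 2 n7726 = n10016 := rfl
theorem F16714 : act 0 n10016 = n9778 := d1_1 D10016 F16331 (iv F12759)
theorem F16715 : act 3 n10016 = n7749 := d9_2 D7726 D10016 F12787 F9678 F8913 (iv F9656) (iv F12754) (iv F12778) F12777 F12473 F9440 F7058 (iv F6573) (iv F7401) (iv F9658)
theorem F16716 : act 4 n10016 = n7727 := d10_2 (iv F12760) D10016 (iv D7727)
theorem F16717 : act 5 n10016 = n7748 := d11_2 F15439 D10016 (iv F15437)
def n10017 : Q := act 1 n7727
theorem D10017 : act 1 n7727 = n10017 := rfl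
theorem F16718 : act 3 n10017 = n7738 := d6_2 (iv F12762) D10017 (iv D7738)
theorem F16719 : act 5 n10017 = n7738 := d8_2 (iv F12761) D10017 (iv D7738)
def n10018 : Q := act 4 n7728
theorem D10018 : act 4 n7728 = n10018 := rfl
theorem F16720 : act 1 n10018 = n7730 := d7_1 D10018 (iv D7730) D7728
def n10019 : Q := act 4 n7729
theorem D10019 : act 4 n7729 = n10019 := rfl
theorem F16721 : act 0 n10019 = n7734 := d3_1 D10019 (iv D7734) (iv F12763)
def n10020 : Q := act 3 n7730
theorem D10020 : act 3 n7730 = n10020 := rfl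
theorem F16722 : act 0 n10020 = n7735 := d2_1 D10020 (iv D7735) (iv F12764)
def n10021 : Q := act 5 n7730
theorem D10021 : act 5 n7730 = n10021 := rfl
theorem F16723 : act 0 n10021 = n7736 := d4_1 D10021 (iv D7736) (iv F12764)
theorem F16724 : act 2 n10021 = n7731 := d11_1 D10021 (iv D7731) (iv F12765)
theorem F16725 : act 4 n10021 = n9811 := d14_1 D10021 (iv F16400) F14072 F11763 D7730
def n10022 : Q := act 2 n7732
theorem D10022 : act 2 n7732 = n10022 := rfl
theorem F16726 : act 0 n10022 = n7737 := d1_1 D10022 (iv D7737) (iv F12767)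
def n10023 : Q := act 4 n7733
theorem D10023 : act 4 n7733 = n10023 := rfl
theorem F16727 : act 2 n10023 = n7734 := d10_1 D10023 (iv D7734) D7733
def n10024 : Q := act 3 n7734
theorem D10024 : act 3 n7734 = n10024 := rfl
theorem F16728 : act 4 n10024 = n7735 := d12_2 D7734 D10024 (iv D7735) (iv D5894) D5893
def n10025 : Q := act 5 n7734
theorem D10025 : act 5 n7734 = n10025 := rfl
def n10026 : Q := act 2 n7735
theorem D10026 : act 2 n7735 = n10026 := rfl
def n10027 : Q := act 5 n7735
theorem D10027 : act 5 n7735 = n10027 := rfl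
theorem F16729 : act 1 n10027 = n9808 := d8_1 D10027 (iv F16390) F15415
theorem F16730 : act 3 n10027 = n7736 := d13_1 D10027 (iv D7736) D7735
theorem F16731 : act 4 n9805 = n10027 := d12_0 F16730 F12770 (iv D7564) (iv F12516) D9805
def n10028 : Q := act 1 n7737
theorem D10028 : act 1 n7737 = n10028 := rfl
theorem F16732 : act 2 n10028 = n7738 := d5_2 D7737 D10028 (iv D7738) (iv D5897) (iv F9665)
def n10029 : Q := act 3 n7737
theorem D10029 : act 3 n7737 = n10029 := rfl
def n10030 : Q := act 0 n7738
theorem D10030 : act 0 n7738 = n10030 := rfl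
def n10031 : Q := act 2 n7739
theorem D10031 : act 2 n7739 = n10031 := rfl
theorem F16733 : act 0 n10031 = n7741 := d1_1 D10031 (iv D7741) (iv F12771)
def n10032 : Q := act 5 n7739
theorem D10032 : act 5 n7739 = n10032 := rfl
theorem F16734 : act 0 n10032 = n7742 := d4_1 D10032 (iv D7742) (iv F12771)
theorem F16735 : act 3 n10032 = n7740 := d13_1 D10032 (iv D7740) D7739
def n10033 : Q := act 1 n7741
theorem D10033 : act 1 n7741 = n10033 := rfl
theorem F16736 : act 2 n10033 = n7743 := d5_2 D7741 D10033 (iv D7743) (iv D5901) (iv F9667)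
theorem F16737 : act 5 n9775 = n10033 := d11_0 F16736 F12776 D9775
def n10034 : Q := act 3 n7741
theorem D10034 : act 3 n7741 = n10034 := rfl
def n10035 : Q := act 5 n7741
theorem D10035 : act 5 n7741 = n10035 := rfl
theorem F16738 : act 1 n10035 = n9775 := d8_1 D10035 F16737 (iv D10033)
theorem F16739 : act 2 n10035 = n7742 := d11_1 D10035 (iv D7742) D7741
def n10036 : Q := act 4 n7742
theorem D10036 : act 4 n7742 = n10036 := rfl
theorem F16740 : act 1 n10036 = n7744 := d7_1 D10036 (iv D7744) (iv F12773)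
theorem F16741 : act 3 n10036 = n10015 := d12_1 D10036 F16713 F13068 F11655 (iv F12774)
theorem F16742 : act 5 n10036 = n10014 := d14_2 D7742 D10036 F16711 F13040 F11657
def n10037 : Q := act 0 n7743
theorem D10037 : act 0 n7743 = n10037 := rfl
theorem F16743 : act 3 n10037 = n9774 := d2_2 (iv F12775) D10037 F16324
theorem F16744 : act 5 n10037 = n9773 := d4_2 (iv F12776) D10037 F16323
def n10038 : Q := act 3 n7745
theorem D10038 : act 3 n7745 = n10038 := rfl
theorem F16745 : act 0 n10038 = n7746 := d2_1 D10038 (iv D7746) D7745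
theorem F16746 : act 1 n10038 = n9773 := d6_1 D10038 (iv D9773) (iv F12780)
def n10039 : Q := act 5 n7745
theorem D10039 : act 5 n7745 = n10039 := rfl
theorem F16747 : act 0 n10039 = n7747 := d4_1 D10039 (iv D7747) D7745
theorem F16748 : act 1 n10039 = n9774 := d8_1 D10039 (iv D9774) (iv F12780)
def n10040 : Q := act 2 n7746
theorem D10040 : act 2 n7746 = n10040 := rfl
def n10041 : Q := act 4 n7746
theorem D10041 : act 4 n7746 = n10041 := rfl
theorem F16749 : act 1 n10041 = n7748 := d7_1 D10041 (iv D7748) (iv F12782)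
theorem F16750 : act 3 n10041 = n9261 := d12_1 D10041 F15440 F11793 (iv F9673) D7746
def n10042 : Q := act 4 n7747
theorem D10042 : act 4 n7747 = n10042 := rfl
theorem F16751 : act 1 n10042 = n7749 := d7_1 D10042 (iv D7749) (iv F12783)
theorem F16752 : act 5 n10042 = n9261 := d14_2 D7747 D10042 F15440 F11794 (iv F9673)
def n10043 : Q := act 5 n7750
theorem D10043 : act 5 n7750 = n10043 := rfl
theorem F16753 : act 1 n10043 = n7751 := d8_1 D10043 (iv D7751) (iv F12789)
theorem F16754 : act 4 n10043 = n7817 := d14_1 D10043 (iv D7817) (iv D5962) (iv F9681) D7750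
def n10044 : Q := act 3 n7752
theorem D10044 : act 3 n7752 = n10044 := rfl
theorem F16755 : act 1 n10044 = n7753 := d6_1 D10044 (iv D7753) (iv F12793)
theorem F16756 : act 4 n10044 = n7811 := d12_2 D7752 D10044 (iv D7811) (iv D5955) (iv F9684)
def n10045 : Q := act 5 n7752
theorem D10045 : act 5 n7752 = n10045 := rfl
theorem F16757 : act 1 n10045 = n7754 := d8_1 D10045 (iv D7754) (iv F12793)
theorem F16758 : act 4 n10045 = n7810 := d14_1 D10045 (iv D7810) (iv D5954) (iv F9685) D7752
def n10046 : Q := act 5 n7753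
theorem D10046 : act 5 n7753 = n10046 := rfl
theorem F16759 : act 0 n10046 = n7820 := d4_1 D10046 F12866 (iv F12794)
theorem F16760 : act 3 n10046 = n7754 := d13_1 D10046 (iv D7754) D7753
def n10047 : Q := act 4 n7755
theorem D10047 : act 4 n7755 = n10047 := rfl
theorem F16761 : act 1 n10047 = n7757 := d7_1 D10047 (iv D7757) D7755
theorem F16762 : act 2 n10047 = n7766 := d10_1 D10047 (iv D7766) (iv F12799)
def n10048 : Q := act 4 n7756
theorem D10048 : act 4 n7756 = n10048 := rfl
theorem F16763 : act 0 n10048 = n7761 := d3_1 D10048 (iv D7761) (iv F12800)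
def n10049 : Q := act 3 n7757
theorem D10049 : act 3 n7757 = n10049 := rfl
theorem F16764 : act 0 n10049 = n7762 := d2_1 D10049 (iv D7762) (iv F12801)
def n10050 : Q := act 5 n7757
theorem D10050 : act 5 n7757 = n10050 := rfl
theorem F16765 : act 0 n10050 = n7763 := d4_1 D10050 (iv D7763) (iv F12801)
theorem F16766 : act 2 n10050 = n7758 := d11_1 D10050 (iv D7758) (iv F12802)
def n10051 : Q := act 2 n7759
theorem D10051 : act 2 n7759 = n10051 := rfl
theorem F16767 : act 0 n10051 = n7764 := d1_1 D10051 (iv D7764) (iv F12805)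
def n10052 : Q := act 4 n7760
theorem D10052 : act 4 n7760 = n10052 := rfl
theorem F16768 : act 2 n10052 = n7761 := d10_1 D10052 (iv D7761) D7760
def n10053 : Q := act 3 n7761
theorem D10053 : act 3 n7761 = n10053 := rfl
theorem F16769 : act 4 n10053 = n7762 := d12_2 D7761 D10053 (iv D7762) (iv D5916) D5915
def n10054 : Q := act 5 n7761
theorem D10054 : act 5 n7761 = n10054 := rfl
def n10055 : Q := act 2 n7762
theorem D10055 : act 2 n7762 = n10055 := rfl
def n10056 : Q := act 5 n7762
theorem D10056 : act 5 n7762 = n10056 := rfl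
theorem F16770 : act 3 n10056 = n7763 := d13_1 D10056 (iv D7763) D7762
def n10057 : Q := act 3 n7764
theorem D10057 : act 3 n7764 = n10057 := rfl
def n10058 : Q := act 4 n7765
theorem D10058 : act 4 n7765 = n10058 := rfl
theorem F16771 : act 0 n10058 = n7766 := d3_1 D10058 (iv D7766) D7765
theorem F16772 : act 1 n10058 = n7774 := d7_1 D10058 (iv D7774) (iv F12808)
def n10059 : Q := act 3 n7766
theorem D10059 : act 3 n7766 = n10059 := rfl
theorem F16773 : act 1 n10059 = n7768 := d6_1 D10059 (iv D7768) (iv F12809)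
def n10060 : Q := act 5 n7766
theorem D10060 : act 5 n7766 = n10060 := rfl
theorem F16774 : act 1 n10060 = n7769 := d8_1 D10060 (iv D7769) (iv F12809)
def n10061 : Q := act 4 n7767
theorem D10061 : act 4 n7767 = n10061 := rfl
theorem F16775 : act 1 n10061 = n7770 := d7_1 D10061 (iv D7770) (iv F12810)
def n10062 : Q := act 2 n7768
theorem D10062 : act 2 n7768 = n10062 := rfl
theorem F16776 : act 0 n10062 = n7781 := d1_1 D10062 (iv D7781) (iv F12812)
def n10063 : Q := act 5 n7768
theorem D10063 : act 5 n7768 = n10063 := rfl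
theorem F16777 : act 0 n10063 = n7782 := d4_1 D10063 (iv D7782) (iv F12812)
theorem F16778 : act 3 n10063 = n7769 := d13_1 D10063 (iv D7769) D7768
def n10064 : Q := act 4 n7769
theorem D10064 : act 4 n7769 = n10064 := rfl
theorem F16779 : act 0 n10064 = n7783 := d3_1 D10064 (iv D7783) (iv F12813)
theorem F16780 : act 2 n10064 = n7771 := d10_1 D10064 (iv D7771) (iv F12814)
theorem F16781 : act 5 n10064 = n7770 := d14_2 D7769 D10064 (iv D7770) (iv D5921) D5920
def n10065 : Q := act 3 n7770
theorem D10065 : act 3 n7770 = n10065 := rfl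
theorem F16782 : act 0 n10065 = n7784 := d2_1 D10065 (iv D7784) (iv F12815)
theorem F16783 : act 4 n10065 = n7804 := d12_2 D7770 D10065 (iv D7804) (iv D5949) (iv F9700)
def n10066 : Q := act 3 n7771
theorem D10066 : act 3 n7771 = n10066 := rfl
theorem F16784 : act 0 n10066 = n7785 := d2_1 D10066 (iv D7785) (iv F12817)
theorem F16785 : act 5 n10066 = n7772 := d13_2 (iv F12818) D10066 (iv D7772)
def n10067 : Q := act 2 n7772
theorem D10067 : act 2 n7772 = n10067 := rfl
theorem F16786 : act 0 n10067 = n7786 := d1_1 D10067 (iv D7786) (iv F12819)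
theorem F16787 : act 4 n10067 = n7773 := d10_2 (iv F12820) D10067 (iv D7773)
def n10068 : Q := act 1 n7773
theorem D10068 : act 1 n7773 = n10068 := rfl
theorem F16788 : act 3 n10068 = n7787 := d6_2 (iv F12822) D10068 (iv D7787)
def n10069 : Q := act 3 n7774
theorem D10069 : act 3 n7774 = n10069 := rfl
theorem F16789 : act 0 n10069 = n7776 := d2_1 D10069 (iv D7776) (iv F12823)
def n10070 : Q := act 5 n7774
theorem D10070 : act 5 n7774 = n10070 := rfl
theorem F16790 : act 0 n10070 = n7777 := d4_1 D10070 (iv D7777) (iv F12823)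
theorem F16791 : act 2 n10070 = n7788 := d11_1 D10070 (iv D7788) (iv F12824)
def n10071 : Q := act 3 n7775
theorem D10071 : act 3 n7775 = n10071 := rfl
theorem F16792 : act 1 n10071 = n7778 := d6_1 D10071 (iv D7778) (iv F12825)
theorem F16793 : act 4 n10071 = n7776 := d12_2 D7775 D10071 (iv D7776) (iv D5927) D5926
def n10072 : Q := act 5 n7775
theorem D10072 : act 5 n7775 = n10072 := rfl
theorem F16794 : act 1 n10072 = n7779 := d8_1 D10072 (iv D7779) (iv F12825)
def n10073 : Q := act 2 n7776
theorem D10073 : act 2 n7776 = n10073 := rfl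
def n10074 : Q := act 5 n7776
theorem D10074 : act 5 n7776 = n10074 := rfl
theorem F16795 : act 1 n10074 = n7782 := d8_1 D10074 (iv D7782) (iv F12826)
theorem F16796 : act 3 n10074 = n7777 := d13_1 D10074 (iv D7777) D7776
def n10075 : Q := act 2 n7778
theorem D10075 : act 2 n7778 = n10075 := rfl
theorem F16797 : act 4 n10075 = n7781 := d10_2 (iv F12829) D10075 (iv D7781)
def n10076 : Q := act 5 n7778
theorem D10076 : act 5 n7778 = n10076 := rfl
theorem F16798 : act 3 n10076 = n7779 := d13_1 D10076 (iv D7779) D7778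
def n10077 : Q := act 4 n7779
theorem D10077 : act 4 n7779 = n10077 := rfl
theorem F16799 : act 0 n10077 = n7805 := d3_1 D10077 (iv F15621) F15619
theorem F16800 : act 2 n10077 = n7800 := d10_1 D10077 (iv F15612) F15610
theorem F16801 : act 5 n10077 = n7780 := d14_2 D7779 D10077 (iv D7780) (iv D5929) D5928
def n10078 : Q := act 3 n7780
theorem D10078 : act 3 n7780 = n10078 := rfl
theorem F16802 : act 0 n10078 = n7804 := d2_1 D10078 (iv D7804) (iv F12830)
theorem F16803 : act 4 n10078 = n7784 := d12_2 D7780 D10078 (iv D7784) (iv D5932) (iv F9710)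
def n10079 : Q := act 1 n7781
theorem D10079 : act 1 n7781 = n10079 := rfl
def n10080 : Q := act 3 n7781
theorem D10080 : act 3 n7781 = n10080 := rfl
def n10081 : Q := act 5 n7781
theorem D10081 : act 5 n7781 = n10081 := rfl
theorem F16804 : act 2 n10081 = n7782 := d11_1 D10081 (iv D7782) D7781
def n10082 : Q := act 4 n7782
theorem D10082 : act 4 n7782 = n10082 := rfl
def n10083 : Q := act 3 n7783
theorem D10083 : act 3 n7783 = n10083 := rfl
theorem F16805 : act 5 n10083 = n7784 := d13_2 (iv F12834) D10083 (iv D7784)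
def n10084 : Q := act 2 n7784
theorem D10084 : act 2 n7784 = n10084 := rfl
def n10085 : Q := act 2 n7785
theorem D10085 : act 2 n7785 = n10085 := rfl
theorem F16806 : act 5 n10085 = n7786 := d11_2 (iv F12836) D10085 (iv D7786)
def n10086 : Q := act 1 n7786
theorem D10086 : act 1 n7786 = n10086 := rfl
theorem F16807 : act 2 n10086 = n7794 := d5_2 D7786 D10086 (iv D7794) (iv D5942) (iv F9715)
theorem F16808 : act 4 n10086 = n7787 := d7_2 (iv F12837) D10086 (iv D7787)
def n10087 : Q := act 3 n7786
theorem D10087 : act 3 n7786 = n10087 := rfl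
def n10088 : Q := act 0 n7787
theorem D10088 : act 0 n7787 = n10088 := rfl
theorem F16809 : act 2 n10088 = n7795 := d1_2 (iv F12838) D10088 (iv D7795)
def n10089 : Q := act 1 n7789
theorem D10089 : act 1 n7789 = n10089 := rfl
theorem F16810 : act 2 n10089 = n7791 := d5_2 D7789 D10089 (iv D7791) (iv D5939) (iv F9718)
def n10090 : Q := act 3 n7789
theorem D10090 : act 3 n7789 = n10090 := rfl
def n10091 : Q := act 5 n7789
theorem D10091 : act 5 n7789 = n10091 := rfl
theorem F16811 : act 2 n10091 = n7790 := d11_1 D10091 (iv D7790) D7789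
def n10092 : Q := act 0 n7791
theorem D10092 : act 0 n7791 = n10092 := rfl
def n10093 : Q := act 3 n7791
theorem D10093 : act 3 n7791 = n10093 := rfl
theorem F16812 : act 1 n10093 = n7792 := d6_1 D10093 (iv D7792) D7791
def n10094 : Q := act 5 n7791
theorem D10094 : act 5 n7791 = n10094 := rfl
theorem F16813 : act 1 n10094 = n7793 := d8_1 D10094 (iv D7793) D7791
def n10095 : Q := act 0 n7794
theorem D10095 : act 0 n7794 = n10095 := rfl
theorem F16814 : act 4 n10095 = n7795 := d3_2 (iv F12843) D10095 (iv D7795)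
def n10096 : Q := act 4 n7796
theorem D10096 : act 4 n7796 = n10096 := rfl
theorem F16815 : act 2 n10096 = n7797 := d10_1 D10096 (iv D7797) D7796
def n10097 : Q := act 3 n7797
theorem D10097 : act 3 n7797 = n10097 := rfl
theorem F16816 : act 1 n10097 = n7799 := d6_1 D10097 (iv D7799) (iv F12844)
theorem F16817 : act 4 n10097 = n7798 := d12_2 D7797 D10097 (iv D7798) (iv D5945) D5944
def n10098 : Q := act 5 n7797
theorem D10098 : act 5 n7797 = n10098 := rfl
theorem F16818 : act 1 n10098 = n7800 := d8_1 D10098 (iv D7800) (iv F12844)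
def n10099 : Q := act 2 n7798
theorem D10099 : act 2 n7798 = n10099 := rfl
def n10100 : Q := act 2 n7799
theorem D10100 : act 2 n7799 = n10100 := rfl
theorem F16819 : act 0 n10100 = n7806 := d1_1 D10100 (iv D7806) (iv F12846)
theorem F16820 : act 4 n10100 = n7801 := d10_2 (iv F12847) D10100 (iv D7801)
def n10101 : Q := act 5 n7799
theorem D10101 : act 5 n7799 = n10101 := rfl
theorem F16821 : act 0 n10101 = n7807 := d4_1 D10101 (iv D7807) (iv F12846)
theorem F16822 : act 3 n10101 = n7800 := d13_1 D10101 (iv D7800) D7799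
def n10102 : Q := act 1 n7801
theorem D10102 : act 1 n7801 = n10102 := rfl
theorem F16823 : act 3 n10102 = n7808 := d6_2 (iv F12850) D10102 (iv D7808)
def n10103 : Q := act 4 n7802
theorem D10103 : act 4 n7802 = n10103 := rfl
theorem F16824 : act 0 n10103 = n7803 := d3_1 D10103 (iv D7803) D7802
def n10104 : Q := act 3 n7803
theorem D10104 : act 3 n7803 = n10104 := rfl
theorem F16825 : act 1 n10104 = n7804 := d6_1 D10104 (iv D7804) (iv F12851)
def n10105 : Q := act 5 n7803
theorem D10105 : act 5 n7803 = n10105 := rfl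
theorem F16826 : act 1 n10105 = n7805 := d8_1 D10105 (iv D7805) (iv F12851)
def n10106 : Q := act 2 n7804
theorem D10106 : act 2 n7804 = n10106 := rfl
def n10107 : Q := act 5 n7804
theorem D10107 : act 5 n7804 = n10107 := rfl
theorem F16827 : act 3 n10107 = n7805 := d13_1 D10107 (iv D7805) D7804
def n10108 : Q := act 1 n7806
theorem D10108 : act 1 n7806 = n10108 := rfl
theorem F16828 : act 4 n10108 = n7808 := d7_2 (iv F12853) D10108 (iv D7808)
def n10109 : Q := act 3 n7806
theorem D10109 : act 3 n7806 = n10109 := rfl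
def n10110 : Q := act 5 n7806
theorem D10110 : act 5 n7806 = n10110 := rfl
theorem F16829 : act 2 n10110 = n7807 := d11_1 D10110 (iv D7807) D7806
def n10111 : Q := act 0 n7808
theorem D10111 : act 0 n7808 = n10111 := rfl
def n10112 : Q := act 5 n7809
theorem D10112 : act 5 n7809 = n10112 := rfl
theorem F16830 : act 0 n10112 = n7810 := d4_1 D10112 (iv D7810) (iv F12855)
theorem F16831 : act 1 n10112 = n7812 := d8_1 D10112 (iv D7812) (iv F12856)
def n10113 : Q := act 2 n7811
theorem D10113 : act 2 n7811 = n10113 := rfl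
def n10114 : Q := act 3 n7813
theorem D10114 : act 3 n7813 = n10114 := rfl
theorem F16832 : act 1 n10114 = n7814 := d6_1 D10114 (iv D7814) (iv F12860)
def n10115 : Q := act 5 n7813
theorem D10115 : act 5 n7813 = n10115 := rfl
theorem F16833 : act 1 n10115 = n7815 := d8_1 D10115 (iv D7815) (iv F12860)
theorem F16834 : act 2 n10115 = n7817 := d11_1 D10115 (iv D7817) (iv F12861)
def n10116 : Q := act 2 n7814
theorem D10116 : act 2 n7814 = n10116 := rfl
def n10117 : Q := act 5 n7814
theorem D10117 : act 5 n7814 = n10117 := rfl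
theorem F16835 : act 3 n10117 = n7815 := d13_1 D10117 (iv D7815) D7814
def n10118 : Q := act 2 n7816
theorem D10118 : act 2 n7816 = n10118 := rfl
def n10119 : Q := act 5 n7816
theorem D10119 : act 5 n7816 = n10119 := rfl
theorem F16836 : act 1 n10119 = n7819 := d8_1 D10119 (iv D7819) (iv F12863)
theorem F16837 : act 3 n10119 = n7817 := d13_1 D10119 (iv D7817) D7816
def n10120 : Q := act 1 n7818
theorem D10120 : act 1 n7818 = n10120 := rfl
def n10121 : Q := act 3 n7818
theorem D10121 : act 3 n7818 = n10121 := rfl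
theorem F16838 : act 2 n10121 = n9600 := d15_2 D7818 D10121 F16054 F12532 F11590 (iv F11827) (iv F15488) (iv D9281) F11822
theorem F16839 : act 5 n10121 = n9599 := d15_8 (iv D9102) (iv D6990) F8741 F6533 (iv F7265) D5963 D7818 D10121 F16050
def n10122 : Q := act 5 n7818
theorem D10122 : act 5 n7818 = n10122 := rfl
theorem F16840 : act 2 n10122 = n7819 := d11_1 D10122 (iv D7819) D7818
theorem F16841 : act 3 n10122 = n9599 := d13_1 D10122 (iv F16839) (iv D10121)
def n10123 : Q := act 2 n7820
theorem D10123 : act 2 n7820 = n10123 := rfl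
theorem F16842 : act 5 n10123 = n7821 := d11_2 (iv F12866) D10123 (iv D7821)
def n10124 : Q := act 1 n7821
theorem D10124 : act 1 n7821 = n10124 := rfl
theorem F16843 : act 4 n10124 = n7822 := d7_2 (iv F12867) D10124 (iv D7822)
def n10125 : Q := act 3 n7821
theorem D10125 : act 3 n7821 = n10125 := rfl
theorem F16844 : act 4 n10125 = n9801 := d12_2 (iv F12867) D10125 (iv D9801) F12513 F12072
def n10126 : Q := act 0 n7822
theorem D10126 : act 0 n7822 = n10126 := rfl
def n10127 : Q := act 3 n7823
theorem D10127 : act 3 n7823 = n10127 := rfl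
theorem F16845 : act 0 n10127 = n7824 := d2_1 D10127 (iv D7824) D7823
theorem F16846 : act 1 n10127 = n7834 := d6_1 D10127 (iv D7834) (iv F12868)
theorem F16847 : act 5 n10127 = n7964 := d13_2 F12871 D10127 (iv D7964)
def n10128 : Q := act 4 n7824
theorem D10128 : act 4 n7824 = n10128 := rfl
theorem F16848 : act 1 n10128 = n7826 := d7_1 D10128 (iv D7826) (iv F12872)
theorem F16849 : act 3 n10128 = n8077 := d12_1 D10128 (iv D8077) (iv D6184) (iv F9744) D7824
def n10129 : Q := act 4 n7825
theorem D10129 : act 4 n7825 = n10129 := rfl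
theorem F16850 : act 0 n10129 = n7965 := d3_1 D10129 (iv D7965) (iv F12873)
theorem F16851 : act 1 n10129 = n7827 := d7_1 D10129 (iv D7827) (iv F12874)
theorem F16852 : act 2 n10129 = n7847 := d10_1 D10129 F12925 (iv F12875)
theorem F16853 : act 5 n10129 = n8079 := d14_2 D7825 D10129 (iv D8079) (iv D6185) (iv F9744)
def n10130 : Q := act 5 n7826
theorem D10130 : act 5 n7826 = n10130 := rfl
theorem F16854 : act 0 n10130 = n7839 := d4_1 D10130 (iv D7839) (iv F12876)
theorem F16855 : act 3 n10130 = n8081 := d13_1 D10130 (iv D8081) (iv F12877)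
def n10131 : Q := act 3 n7827
theorem D10131 : act 3 n7827 = n10131 := rfl
theorem F16856 : act 0 n10131 = n7841 := d2_1 D10131 (iv D7841) (iv F12878)
theorem F16857 : act 5 n10131 = n8082 := d13_2 (iv F12880) D10131 (iv D8082)
def n10132 : Q := act 3 n7828
theorem D10132 : act 3 n7828 = n10132 := rfl
theorem F16858 : act 0 n10132 = n7829 := d2_1 D10132 (iv D7829) D7828
theorem F16859 : act 1 n10132 = n8074 := d6_1 D10132 (iv D8074) (iv F12881)
def n10133 : Q := act 5 n7828
theorem D10133 : act 5 n7828 = n10133 := rfl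
theorem F16860 : act 0 n10133 = n7830 := d4_1 D10133 (iv D7830) D7828
theorem F16861 : act 1 n10133 = n8075 := d8_1 D10133 (iv D8075) (iv F12881)
theorem F16862 : act 2 n10133 = n7843 := d11_1 D10133 (iv D7843) (iv F12882)
theorem F16863 : act 4 n10133 = n7968 := d14_1 D10133 (iv D7968) (iv D6093) (iv F9762) (iv F12883)
def n10134 : Q := act 2 n7829
theorem D10134 : act 2 n7829 = n10134 := rfl
def n10135 : Q := act 4 n7829
theorem D10135 : act 4 n7829 = n10135 := rfl
theorem F16864 : act 1 n10135 = n7832 := d7_1 D10135 (iv D7832) (iv F12884)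
theorem F16865 : act 3 n10135 = n7836 := d12_1 D10135 (iv D7836) (iv D5977) (iv F9753) D7829
def n10136 : Q := act 5 n7829
theorem D10136 : act 5 n7829 = n10136 := rfl
theorem F16866 : act 1 n10136 = n7831 := d8_1 D10136 (iv F12890) (iv F12884)
theorem F16867 : act 3 n10136 = n7830 := d13_1 D10136 (iv D7830) D7829
def n10137 : Q := act 4 n7831
theorem D10137 : act 4 n7831 = n10137 := rfl
theorem F16868 : act 0 n10137 = n8080 := d3_1 D10137 (iv D8080) (iv F12888)
theorem F16869 : act 2 n10137 = n7832 := d10_1 D10137 (iv D7832) D7831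
def n10138 : Q := act 5 n7832
theorem D10138 : act 5 n7832 = n10138 := rfl
theorem F16870 : act 0 n10138 = n8081 := d4_1 D10138 (iv D8081) (iv F12891)
theorem F16871 : act 3 n10138 = n7839 := d13_1 D10138 (iv D7839) (iv F12892)
def n10139 : Q := act 3 n7833
theorem D10139 : act 3 n7833 = n10139 := rfl
theorem F16872 : act 0 n10139 = n8082 := d2_1 D10139 (iv D8082) (iv F12893)
theorem F16873 : act 1 n10139 = n7975 := d6_1 D10139 F13211 (iv F12894)
theorem F16874 : act 5 n10139 = n7841 := d13_2 (iv F12896) D10139 (iv D7841)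
def n10140 : Q := act 4 n7834
theorem D10140 : act 4 n7834 = n10140 := rfl
theorem F16875 : act 0 n10140 = n7836 := d3_1 D10140 (iv D7836) (iv F12897)
theorem F16876 : act 2 n10140 = n7948 := d10_1 D10140 (iv D7948) (iv F12899)
def n10141 : Q := act 1 n7835
theorem D10141 : act 1 n7835 = n10141 := rfl
theorem F16877 : act 2 n10141 = n7837 := d5_2 D7835 D10141 (iv D7837) (iv D5978) (iv F9763)
theorem F16878 : act 3 n10141 = n7944 := d6_2 (iv F12902) D10141 (iv D7944)
theorem F16879 : act 5 n10141 = n7970 := d8_2 (iv F12901) D10141 (iv D7970)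
def n10142 : Q := act 4 n7835
theorem D10142 : act 4 n7835 = n10142 := rfl
theorem F16880 : act 0 n10142 = n7948 := d3_1 D10142 (iv D7948) (iv F12900)
theorem F16881 : act 2 n10142 = n7836 := d10_1 D10142 (iv D7836) D7835
def n10143 : Q := act 5 n7836
theorem D10143 : act 5 n7836 = n10143 := rfl
theorem F16882 : act 1 n10143 = n7839 := d8_1 D10143 (iv D7839) (iv F12903)
theorem F16883 : act 4 n10143 = n7973 := d14_1 D10143 (iv D7973) (iv D6097) (iv F9764) D7836
def n10144 : Q := act 4 n7837
theorem D10144 : act 4 n7837 = n10144 := rfl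
theorem F16884 : act 1 n10144 = n7838 := d7_1 D10144 (iv D7838) D7837
def n10145 : Q := act 3 n7838
theorem D10145 : act 3 n7838 = n10145 := rfl
theorem F16885 : act 4 n10145 = n10131 := d12_2 D7838 D10145 (iv D10131) (iv D7827) (iv F9765)
def n10146 : Q := act 5 n7838
theorem D10146 : act 5 n7838 = n10146 := rfl
theorem F16886 : act 2 n10146 = n7839 := d11_1 D10146 (iv D7839) (iv F12906)
theorem F16887 : act 4 n10146 = n10130 := d14_1 D10146 (iv D10130) (iv D7826) F9766 D7838
def n10147 : Q := act 4 n7839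
theorem D10147 : act 4 n7839 = n10147 := rfl
theorem F16888 : act 0 n10147 = n10146 := d3_1 D10147 F16887 F16854
theorem F16889 : act 1 n10147 = n7973 := d7_1 D10147 (iv F16883) F16882
theorem F16890 : act 2 n10147 = n10130 := d10_1 D10147 (iv F16887) F16886
theorem F16891 : act 5 n10147 = n7840 := d14_2 D7839 D10147 (iv D7840) (iv D5980) D5979
def n10148 : Q := act 3 n7840
theorem D10148 : act 3 n7840 = n10148 := rfl
theorem F16892 : act 0 n10148 = n10145 := d2_1 D10148 (iv D10145) (iv F12907)
theorem F16893 : act 1 n10148 = n7972 := d6_1 D10148 (iv D7972) (iv F12908)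
theorem F16894 : act 4 n10148 = n7841 := d12_2 D7840 D10148 (iv D7841) (iv D5981) (iv F9770)
def n10149 : Q := act 2 n7841
theorem D10149 : act 2 n7841 = n10149 := rfl
def n10150 : Q := act 2 n7842
theorem D10150 : act 2 n7842 = n10150 := rfl
theorem F16895 : act 0 n10150 = n7844 := d1_1 D10150 (iv D7844) (iv F12911)
theorem F16896 : act 4 n10150 = n7969 := d10_2 (iv F12913) D10150 (iv D7969)
def n10151 : Q := act 5 n7842
theorem D10151 : act 5 n7842 = n10151 := rfl
theorem F16897 : act 0 n10151 = n7845 := d4_1 D10151 (iv D7845) (iv F12911)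
theorem F16898 : act 1 n10151 = n7882 := d8_1 D10151 (iv D7882) (iv F12912)
theorem F16899 : act 3 n10151 = n7843 := d13_1 D10151 (iv D7843) D7842
theorem F16900 : act 4 n10151 = n9203 := d14_1 D10151 (iv D9203) (iv F13185) F13186 (iv F12913)
def n10152 : Q := act 1 n7844
theorem D10152 : act 1 n7844 = n10152 := rfl
theorem F16901 : act 2 n10152 = n7846 := d5_2 D7844 D10152 (iv D7846) (iv D5985) (iv F9775)
theorem F16902 : act 4 n10152 = n7976 := d7_2 (iv F12917) D10152 (iv D7976)
theorem F16903 : act 5 n7877 = n10152 := d11_0 F16901 F12923 D7877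
def n10153 : Q := act 3 n7844
theorem D10153 : act 3 n7844 = n10153 := rfl
def n10154 : Q := act 5 n7844
theorem D10154 : act 5 n7844 = n10154 := rfl
theorem F16904 : act 1 n10154 = n7877 := d8_1 D10154 F16903 (iv D10152)
theorem F16905 : act 2 n10154 = n7845 := d11_1 D10154 (iv D7845) D7844
theorem F16906 : act 4 n10154 = n9206 := d14_1 D10154 (iv D9206) (iv F13196) F13197 (iv F12917)
def n10155 : Q := act 0 n7846
theorem D10155 : act 0 n7846 = n10155 := rfl
theorem F16907 : act 1 n10155 = n7889 := d0_2 D7846 D10155 (iv D7889) (iv D6023) (iv F9779)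
theorem F16908 : act 3 n10155 = n7876 := d2_2 (iv F12921) D10155 F12998
theorem F16909 : act 4 n10155 = n7978 := d3_2 (iv F12922) D10155 (iv D7978)
theorem F16910 : act 5 n10155 = n7875 := d4_2 (iv F12923) D10155 F12995
def n10156 : Q := act 0 n7847
theorem D10156 : act 0 n7847 = n10156 := rfl
theorem F16911 : act 1 n10156 = n7864 := d0_2 D7847 D10156 F12970 F9834 (iv F9787)
theorem F16912 : act 2 n10156 = n7965 := d1_2 F16852 D10156 (iv F16850)
theorem F16913 : act 3 n10156 = n9399 := d2_2 (iv F12924) D10156 F15690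
theorem F16914 : act 4 n10156 = n7848 := d3_2 (iv F12925) D10156 (iv D7848)
theorem F16915 : act 5 n10156 = n8085 := d4_2 (iv F12926) D10156 F13404
def n10157 : Q := act 4 n7849
theorem D10157 : act 4 n7849 = n10157 := rfl
theorem F16916 : act 0 n10157 = n7850 := d3_1 D10157 (iv D7850) (iv F12931)
theorem F16917 : act 1 n10157 = n7863 := d7_1 D10157 (iv D7863) (iv F12932)
theorem F16918 : act 3 n10157 = n8084 := d12_1 D10157 (iv D8084) (iv D6189) (iv F9794) D7849
theorem F16919 : act 5 n10157 = n9398 := d14_2 (iv F12933) D10157 (iv D9398) F13053 (iv D7899)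
def n10158 : Q := act 3 n7851
theorem D10158 : act 3 n7851 = n10158 := rfl
theorem F16920 : act 1 n10158 = n7865 := d6_1 D10158 (iv D7865) (iv F12937)
theorem F16921 : act 5 n10158 = n7855 := d13_2 (iv F12938) D10158 (iv D7855)
theorem F16922 : act 2 n10158 = n9996 := d15_2 D7851 D10158 F16674 (iv D7853) (iv D5994) F7311 D5994 (iv F10086) F10084
def n10159 : Q := act 4 n7851
theorem D10159 : act 4 n7851 = n10159 := rfl
theorem F16923 : act 1 n10159 = n7866 := d7_1 D10159 (iv D7866) (iv F12937)
theorem F16924 : act 2 n10159 = n7852 := d10_1 D10159 (iv D7852) D7851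
theorem F16925 : act 5 n10159 = n8227 := d14_2 (iv F12938) D10159 (iv D8227) (iv D6302) (iv F9810)
def n10160 : Q := act 2 n7855
theorem D10160 : act 2 n7855 = n10160 := rfl
theorem F16926 : act 0 n10160 = n10158 := d1_1 D10160 F16922 (iv F16675)
theorem F16927 : act 1 n10160 = n9998 := d5_1 D10160 F16679 (iv F12749) (iv F16686) F16685
theorem F16928 : act 5 n10160 = n9996 := d11_2 F16921 D10160 (iv F16922)
theorem F16929 : act 3 n10160 = n8022 := d15_3 D5995 D7855 D10160 (iv D8022) (iv D6134) F7522 D6134 F10086 F9807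
def n10161 : Q := act 4 n7855
theorem D10161 : act 4 n7855 = n10161 := rfl
theorem F16930 : act 3 n10161 = n8225 := d12_1 D10161 (iv D8225) (iv D6301) (iv F9810) D7855
def n10162 : Q := act 2 n7857
theorem D10162 : act 2 n7857 = n10162 := rfl
theorem F16931 : act 0 n10162 = n7859 := d1_1 D10162 (iv D7859) (iv F12951)
theorem F16932 : act 5 n10162 = n8097 := d11_2 F12953 D10162 F13424
def n10163 : Q := act 4 n7857
theorem D10163 : act 4 n7857 = n10163 := rfl
theorem F16933 : act 0 n10163 = n7860 := d3_1 D10163 (iv D7860) (iv F12951)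
theorem F16934 : act 1 n10163 = n8084 := d7_1 D10163 (iv D8084) (iv F12952)
theorem F16935 : act 3 n10163 = n7863 := d12_1 D10163 (iv D7863) (iv D6002) (iv F9816) D7857
theorem F16936 : act 5 n10163 = n9245 := d14_2 F12953 D10163 (iv D9245) F13443 (iv D8109)
def n10164 : Q := act 4 n7858
theorem D10164 : act 4 n7858 = n10164 := rfl
theorem F16937 : act 0 n10164 = n7861 := d3_1 D10164 (iv D7861) (iv F12954)
theorem F16938 : act 1 n10164 = n8085 := d7_1 D10164 (iv D8085) (iv F12955)
theorem F16939 : act 2 n10164 = n7883 := d10_1 D10164 (iv D7883) (iv F12956)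
theorem F16940 : act 3 n10164 = n9208 := d12_1 D10164 F15355 F13442 (iv D8109) (iv F12957)
theorem F16941 : act 5 n10164 = n7864 := d14_2 D7858 D10164 (iv D7864) (iv D6003) (iv F9816)
def n10165 : Q := act 3 n7859
theorem D10165 : act 3 n7859 = n10165 := rfl
theorem F16942 : act 1 n10165 = n8102 := d6_1 D10165 F13429 (iv F12958)
theorem F16943 : act 5 n10165 = n8098 := d13_2 (iv F12959) D10165 (iv D8098)
def n10166 : Q := act 4 n7859
theorem D10166 : act 4 n7859 = n10166 := rfl
theorem F16944 : act 1 n10166 = n8105 := d7_1 D10166 (iv D8105) (iv F12958)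
theorem F16945 : act 2 n10166 = n7860 := d10_1 D10166 (iv D7860) D7859
theorem F16946 : act 5 n10166 = n9247 := d14_2 (iv F12959) D10166 (iv D9247) F13428 (iv D8099)
def n10167 : Q := act 4 n7862
theorem D10167 : act 4 n7862 = n10167 := rfl
theorem F16947 : act 0 n10167 = n7866 := d3_1 D10167 (iv D7866) (iv F12967)
theorem F16948 : act 2 n10167 = n7863 := d10_1 D10167 (iv D7863) D7862
def n10168 : Q := act 5 n7863
theorem D10168 : act 5 n7863 = n10168 := rfl
theorem F16949 : act 0 n10168 = n7867 := d4_1 D10168 (iv D7867) (iv F12969)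
theorem F16950 : act 1 n10168 = n9398 := d8_1 D10168 (iv F16919) F16917
theorem F16951 : act 3 n10168 = n9245 := d13_1 D10168 (iv F16936) F16935
theorem F16952 : act 4 n10168 = n8229 := d14_1 D10168 (iv D8229) (iv F12949) F12950 D7863
def n10169 : Q := act 3 n7864
theorem D10169 : act 3 n7864 = n10169 := rfl
theorem F16953 : act 0 n10169 = n7868 := d2_1 D10169 (iv D7868) (iv F12970)
theorem F16954 : act 1 n10169 = n9399 := d6_1 D10169 (iv F16913) F16911
theorem F16955 : act 4 n10169 = n8228 := d12_2 D7864 D10169 (iv D8228) (iv F12949) F12948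
theorem F16956 : act 5 n10169 = n9208 := d13_2 F16941 D10169 (iv F16940)
def n10170 : Q := act 4 n7865
theorem D10170 : act 4 n7865 = n10170 := rfl
theorem F16957 : act 0 n10170 = n7905 := d3_1 D10170 (iv D7905) (iv F12972)
theorem F16958 : act 2 n10170 = n7904 := d10_1 D10170 (iv D7904) (iv F12973)
def n10171 : Q := act 3 n7866
theorem D10171 : act 3 n7866 = n10171 := rfl
def n10172 : Q := act 5 n7866
theorem D10172 : act 5 n7866 = n10172 := rfl
theorem F16959 : act 1 n10172 = n8227 := d8_1 D10172 (iv F16925) F16923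
theorem F16960 : act 2 n10172 = n7867 := d11_1 D10172 (iv D7867) (iv F12974)
theorem F16961 : act 4 n10172 = n8223 := d14_1 D10172 (iv D8223) (iv F12945) F12946 D7866
def n10173 : Q := act 2 n7868
theorem D10173 : act 2 n7868 = n10173 := rfl
theorem F16962 : act 1 n10173 = n9198 := d5_1 D10173 (iv D9198) F11706 (iv F9843) (iv F12978)
theorem F16963 : act 4 n10173 = n8230 := d10_2 (iv F12979) D10173 (iv D8230)
theorem F16964 : act 5 n10173 = n9199 := d11_2 (iv F12980) D10173 F15338
def n10174 : Q := act 3 n7869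
theorem D10174 : act 3 n7869 = n10174 := rfl
theorem F16965 : act 0 n10174 = n7870 := d2_1 D10174 (iv D7870) D7869
theorem F16966 : act 1 n10174 = n8033 := d6_1 D10174 (iv D8033) (iv F12981)
theorem F16967 : act 4 n10174 = n9319 := d12_2 (iv F12983) D10174 (iv D9319) (iv D7160) F10097
def n10175 : Q := act 5 n7869
theorem D10175 : act 5 n7869 = n10175 := rfl
theorem F16968 : act 0 n10175 = n7871 := d4_1 D10175 (iv D7871) D7869
theorem F16969 : act 1 n10175 = n8034 := d8_1 D10175 (iv D8034) (iv F12981)
theorem F16970 : act 2 n10175 = n7876 := d11_1 D10175 (iv D7876) (iv F12982)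
theorem F16971 : act 4 n10175 = n8193 := d14_1 D10175 (iv D8193) (iv D6278) F10098 (iv F12983)
def n10176 : Q := act 2 n7870
theorem D10176 : act 2 n7870 = n10176 := rfl
def n10177 : Q := act 4 n7870
theorem D10177 : act 4 n7870 = n10177 := rfl
theorem F16972 : act 0 n10177 = n9319 := d3_1 D10177 (iv F16967) F16965
theorem F16973 : act 1 n10177 = n7873 := d7_1 D10177 (iv D7873) (iv F12984)
theorem F16974 : act 3 n10177 = n8029 := d12_1 D10177 (iv D8029) (iv D6140) (iv F9845) D7870
def n10178 : Q := act 5 n7870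
theorem D10178 : act 5 n7870 = n10178 := rfl
theorem F16975 : act 1 n10178 = n7872 := d8_1 D10178 (iv F12989) (iv F12984)
theorem F16976 : act 3 n10178 = n7871 := d13_1 D10178 (iv D7871) D7870
def n10179 : Q := act 4 n7871
theorem D10179 : act 4 n7871 = n10179 := rfl
theorem F16977 : act 0 n10179 = n8193 := d3_1 D10179 (iv F16971) F16968
theorem F16978 : act 1 n10179 = n7874 := d7_1 D10179 (iv D7874) (iv F12985)
theorem F16979 : act 2 n10179 = n7878 := d10_1 D10179 (iv D7878) (iv F12986)
theorem F16980 : act 5 n10179 = n8030 := d14_2 D7871 D10179 (iv D8030) (iv D6141) (iv F9845)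
def n10180 : Q := act 4 n7872
theorem D10180 : act 4 n7872 = n10180 := rfl
theorem F16981 : act 0 n10180 = n8038 := d3_1 D10180 (iv D8038) (iv F12987)
theorem F16982 : act 2 n10180 = n7873 := d10_1 D10180 (iv D7873) D7872
def n10181 : Q := act 5 n7873
theorem D10181 : act 5 n7873 = n10181 := rfl
theorem F16983 : act 0 n10181 = n8039 := d4_1 D10181 (iv D8039) (iv F12990)
theorem F16984 : act 3 n10181 = n8031 := d13_1 D10181 (iv D8031) (iv F12991)
def n10182 : Q := act 3 n7874
theorem D10182 : act 3 n7874 = n10182 := rfl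
theorem F16985 : act 0 n10182 = n8040 := d2_1 D10182 (iv D8040) (iv F12992)
theorem F16986 : act 5 n10182 = n8032 := d13_2 (iv F12994) D10182 (iv D8032)
def n10183 : Q := act 2 n7875
theorem D10183 : act 2 n7875 = n10183 := rfl
theorem F16987 : act 0 n10183 = n7877 := d1_1 D10183 (iv D7877) (iv F12995)
theorem F16988 : act 4 n10183 = n9402 := d10_2 (iv F12997) D10183 (iv D9402)
def n10184 : Q := act 4 n7876
theorem D10184 : act 4 n7876 = n10184 := rfl
theorem F16989 : act 0 n10184 = n7878 := d3_1 D10184 (iv D7878) (iv F12998)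
theorem F16990 : act 1 n10184 = n8061 := d7_1 D10184 (iv D8061) (iv F12999)
theorem F16991 : act 2 n10184 = n8193 := d10_1 D10184 (iv F16971) F16970
theorem F16992 : act 5 n10184 = n8055 := d14_2 D7876 D10184 F13359 F10158 (iv F9854)
def n10185 : Q := act 3 n7877
theorem D10185 : act 3 n7877 = n10185 := rfl
def n10186 : Q := act 3 n7878
theorem D10186 : act 3 n7878 = n10186 := rfl
theorem F16993 : act 1 n10186 = n7879 := d6_1 D10186 (iv D7879) (iv F13001)
theorem F16994 : act 4 n10186 = n7979 := d12_2 D7878 D10186 (iv D7979) (iv F12922) F12921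
theorem F16995 : act 5 n10186 = n8056 := d13_2 (iv F13002) D10186 (iv D8056)
def n10187 : Q := act 1 n7880
theorem D10187 : act 1 n7880 = n10187 := rfl
def n10188 : Q := act 3 n7880
theorem D10188 : act 3 n7880 = n10188 := rfl
theorem F16996 : act 0 n10188 = n7885 := d2_1 D10188 (iv D7885) (iv F13007)
theorem F16997 : act 2 n10188 = n8098 := d15_2 D7880 D10188 (iv D8098) F10223 (iv F9821) F9820 (iv F9867) (iv D6021) (iv F9861)
def n10189 : Q := act 4 n7880
theorem D10189 : act 4 n7880 = n10189 := rfl
theorem F16998 : act 0 n10189 = n7886 := d3_1 D10189 (iv D7886) (iv F13007)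
theorem F16999 : act 2 n10189 = n7881 := d10_1 D10189 (iv D7881) D7880
theorem F17000 : act 5 n9154 = n10189 := d11_0 F16999 (iv F13011) D9154
def n10190 : Q := act 5 n7880
theorem D10190 : act 5 n7880 = n10190 := rfl
theorem F17001 : act 0 n10190 = n7887 := d4_1 D10190 (iv D7887) (iv F13007)
theorem F17002 : act 2 n10190 = n7882 := d11_1 D10190 (iv D7882) D7880
def n10191 : Q := act 4 n7882
theorem D10191 : act 4 n7882 = n10191 := rfl
theorem F17003 : act 0 n10191 = n7888 := d3_1 D10191 (iv D7888) (iv F13012)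
theorem F17004 : act 1 n10191 = n9203 := d7_1 D10191 (iv F16900) F16898
theorem F17005 : act 3 n10191 = n9133 := d12_1 D10191 F15221 F13017 (iv D7883) (iv F13013)
theorem F17006 : act 5 n10191 = n9132 := d14_2 D7882 D10191 F15218 F13011 (iv D7881)
def n10192 : Q := act 0 n7884
theorem D10192 : act 0 n7884 = n10192 := rfl
theorem F17007 : act 2 n10192 = n7889 := d1_2 (iv F13018) D10192 (iv D7889)
theorem F17008 : act 5 n10192 = n8059 := d4_2 F13019 D10192 F13367
theorem F17009 : act 3 n8100 = n10192 := d15_7 (iv D6170) (iv D4648) F5603 D3471 D4670 D6201 D8100 F17008 F13367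
def n10193 : Q := act 3 n7884
theorem D10193 : act 3 n7884 = n10193 := rfl
theorem F17010 : act 0 n10193 = n8100 := d2_1 D10193 F17009 (iv D10192)
theorem F17011 : act 1 n10193 = n7885 := d6_1 D10193 (iv D7885) D7884
theorem F17012 : act 5 n10193 = n8062 := d13_2 F13019 D10193 (iv D8062)
theorem F17013 : act 2 n10193 = n8091 := d15_2 (iv F13018) D10193 (iv D8091) (iv D6196) (iv D4668) (iv F7583) D6168 (iv F13028) (iv D7889)
def n10194 : Q := act 4 n7884
theorem D10194 : act 4 n7884 = n10194 := rfl
theorem F17014 : act 1 n10194 = n7886 := d7_1 D10194 (iv D7886) D7884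
theorem F17015 : act 2 n10194 = n7890 := d10_1 D10194 (iv D7890) (iv F13018)
theorem F17016 : act 5 n9161 = n10194 := d11_0 F17015 (iv F13030) (iv F15270)
def n10195 : Q := act 2 n7885
theorem D10195 : act 2 n7885 = n10195 := rfl
theorem F17017 : act 0 n10195 = n8098 := d1_1 D10195 (iv F16997) F16996
theorem F17018 : act 3 n10195 = n8097 := d15_3 D6019 D7885 D10195 F13424 (iv F12957) F12956 (iv F13013) (iv D7882) F9861
def n10196 : Q := act 4 n7885
theorem D10196 : act 4 n7885 = n10196 := rfl
def n10197 : Q := act 5 n7885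
theorem D10197 : act 5 n7885 = n10197 := rfl
theorem F17019 : act 1 n10197 = n8062 := d8_1 D10197 (iv F17012) F17011
theorem F17020 : act 3 n10197 = n7887 := d13_1 D10197 (iv D7887) D7885
def n10198 : Q := act 3 n7886
theorem D10198 : act 3 n7886 = n10198 := rfl
theorem F17021 : act 5 n10198 = n9162 := d13_2 F13021 D10198 (iv D9162)
def n10199 : Q := act 4 n7887
theorem D10199 : act 4 n7887 = n10199 := rfl
theorem F17022 : act 1 n10199 = n8063 := d7_1 D10199 (iv D8063) (iv F13022)
theorem F17023 : act 2 n10199 = n7888 := d10_1 D10199 (iv D7888) (iv F13023)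
theorem F17024 : act 5 n10199 = n9134 := d14_2 D7887 D10199 F15222 F13021 (iv D7886)
def n10200 : Q := act 4 n7889
theorem D10200 : act 4 n7889 = n10200 := rfl
theorem F17025 : act 0 n10200 = n7890 := d3_1 D10200 (iv D7890) D7889
theorem F17026 : act 1 n10200 = n7978 := d7_1 D10200 (iv F16909) F16907
theorem F17027 : act 5 n9163 = n10200 := d4_0 F17025 (iv F13030) D9163
def n10201 : Q := act 3 n7890
theorem D10201 : act 3 n7890 = n10201 := rfl
theorem F17028 : act 1 n10201 = n7891 := d6_1 D10201 (iv D7891) (iv F13029)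
theorem F17029 : act 4 n10201 = n8065 := d12_2 D7890 D10201 (iv D8065) (iv D6172) (iv F9871)
theorem F17030 : act 5 n10201 = n7952 := d13_2 F13030 D10201 F13168
def n10202 : Q := act 3 n7892
theorem D10202 : act 3 n7892 = n10202 := rfl
theorem F17031 : act 0 n10202 = n7893 := d2_1 D10202 (iv D7893) (iv F13035)
theorem F17032 : act 1 n10202 = n10001 := d6_1 D10202 (iv D10001) (iv F13036)
theorem F17033 : act 5 n10202 = n9144 := d13_2 (iv F13038) D10202 (iv D9144)
def n10203 : Q := act 2 n7893
theorem D10203 : act 2 n7893 = n10203 := rfl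
theorem F17034 : act 5 n10203 = n9147 := d11_2 (iv F13040) D10203 (iv D9147)
def n10204 : Q := act 4 n7895
theorem D10204 : act 4 n7895 = n10204 := rfl
theorem F17035 : act 0 n10204 = n7896 := d3_1 D10204 (iv D7896) D7895
theorem F17036 : act 2 n10204 = n7899 := d10_1 D10204 (iv D7899) (iv F13044)
theorem F17037 : act 5 n9397 = n10204 := d11_0 F17036 (iv F13053) D9397
def n10205 : Q := act 3 n7896
theorem D10205 : act 3 n7896 = n10205 := rfl
theorem F17038 : act 1 n10205 = n7897 := d6_1 D10205 (iv D7897) (iv F13045)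
theorem F17039 : act 5 n10205 = n9400 := d13_2 F13047 D10205 (iv D9400)
def n10206 : Q := act 2 n7897
theorem D10206 : act 2 n7897 = n10206 := rfl
def n10207 : Q := act 5 n7897
theorem D10207 : act 5 n7897 = n10207 := rfl
theorem F17040 : act 1 n10207 = n9400 := d8_1 D10207 (iv F17039) F17038
theorem F17041 : act 3 n10207 = n7898 := d13_1 D10207 (iv D7898) D7897
def n10208 : Q := act 2 n7900
theorem D10208 : act 2 n7900 = n10208 := rfl
theorem F17042 : act 0 n10208 = n7902 := d1_1 D10208 (iv D7902) (iv F13054)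
theorem F17043 : act 4 n10208 = n7902 := d10_2 (iv F13056) D10208 (iv D7902)
def n10209 : Q := act 5 n7900
theorem D10209 : act 5 n7900 = n10209 := rfl
theorem F17044 : act 0 n10209 = n7903 := d4_1 D10209 (iv D7903) (iv F13054)
theorem F17045 : act 1 n10209 = n8150 := d8_1 D10209 (iv D8150) (iv F13055)
theorem F17046 : act 3 n10209 = n7901 := d13_1 D10209 (iv D7901) D7900
def n10210 : Q := act 1 n7902
theorem D10210 : act 1 n7902 = n10210 := rfl
theorem F17047 : act 2 n10210 = n8151 := d5_2 D7902 D10210 (iv D8151) (iv D6247) (iv F9912)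
def n10211 : Q := act 3 n7902
theorem D10211 : act 3 n7902 = n10211 := rfl
def n10212 : Q := act 5 n7902
theorem D10212 : act 5 n7902 = n10212 := rfl
theorem F17048 : act 2 n10212 = n7903 := d11_1 D10212 (iv D7903) D7902
def n10213 : Q := act 4 n7903
theorem D10213 : act 4 n7903 = n10213 := rfl
theorem F17049 : act 1 n10213 = n8154 := d7_1 D10213 (iv D8154) (iv F13061)
theorem F17050 : act 3 n10213 = n8015 := d12_1 D10213 (iv D8015) F10073 (iv F9915) (iv F13062)
def n10214 : Q := act 5 n7904
theorem D10214 : act 5 n7904 = n10214 := rfl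
theorem F17051 : act 0 n10214 = n7906 := d4_1 D10214 (iv D7906) (iv F13063)
theorem F17052 : act 1 n10214 = n9999 := d8_1 D10214 (iv D9999) (iv F13064)
theorem F17053 : act 3 n10214 = n9143 := d13_1 D10214 (iv D9143) (iv F13065)
def n10215 : Q := act 3 n7905
theorem D10215 : act 3 n7905 = n10215 := rfl
def n10216 : Q := act 5 n7905
theorem D10216 : act 5 n7905 = n10216 := rfl
theorem F17054 : act 2 n10216 = n7906 := d11_1 D10216 (iv D7906) (iv F13066)
def n10217 : Q := act 1 n7907
theorem D10217 : act 1 n7907 = n10217 := rfl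
theorem F17055 : act 3 n10217 = n9148 := d6_2 (iv F13070) D10217 (iv D9148)
theorem F17056 : act 5 n10217 = n9148 := d8_2 (iv F13071) D10217 (iv D9148)
def n10218 : Q := act 3 n7908
theorem D10218 : act 3 n7908 = n10218 := rfl
theorem F17057 : act 0 n10218 = n7909 := d2_1 D10218 (iv D7909) D7908
theorem F17058 : act 1 n10218 = n7947 := d6_1 D10218 (iv D7947) (iv F13072)
theorem F17059 : act 4 n10218 = n8000 := d12_2 (iv F13074) D10218 (iv D8000) (iv D6117) (iv F9932)
theorem F17060 : act 5 n10218 = n8159 := d13_2 (iv F13075) D10218 (iv D8159)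
def n10219 : Q := act 2 n7909
theorem D10219 : act 2 n7909 = n10219 := rfl
theorem F17061 : act 4 n10219 = n8002 := d10_2 (iv F13077) D10219 (iv D8002)
theorem F17062 : act 5 n10219 = n8164 := d11_2 (iv F13078) D10219 (iv D8164)
def n10220 : Q := act 1 n7910
theorem D10220 : act 1 n7910 = n10220 := rfl
theorem F17063 : act 3 n10220 = n7963 := d6_2 (iv F13080) D10220 (iv D7963)
theorem F17064 : act 4 n10220 = n8004 := d7_2 (iv F13081) D10220 (iv D8004)
theorem F17065 : act 5 n10220 = n7979 := d8_2 (iv F13082) D10220 F13213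
def n10221 : Q := act 1 n7911
theorem D10221 : act 1 n7911 = n10221 := rfl
theorem F17066 : act 0 n10221 = n7980 := d0_1 D10221 (iv D7980) F10033 (iv F9937) (iv F13083)
theorem F17067 : act 2 n10221 = n7944 := d5_2 D7911 D10221 (iv D7944) (iv D6075) (iv F9935)
theorem F17068 : act 5 n10221 = n7986 := d8_2 (iv F13084) D10221 F13224
theorem F17069 : act 3 n8025 = n10221 := d13_3 F17068 F13225 (iv F13291)
def n10222 : Q := act 3 n7911
theorem D10222 : act 3 n7911 = n10222 := rfl
theorem F17070 : act 0 n10222 = n7913 := d2_1 D10222 (iv D7913) (iv F13083)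
theorem F17071 : act 1 n10222 = n8025 := d6_1 D10222 F17069 (iv D10221)
theorem F17072 : act 2 n10222 = n10006 := d9_1 D10222 F16699 F12743 F9650 (iv F7408) F7409 (iv F7494) D6112 D7992 F13238 (iv D7710) (iv D5879) (iv F7412) D6049 D7911
theorem F17073 : act 5 n10222 = n7990 := d13_2 (iv F13084) D10222 (iv D7990)
def n10223 : Q := act 4 n7911
theorem D10223 : act 4 n7911 = n10223 := rfl
theorem F17074 : act 0 n10223 = n7914 := d3_1 D10223 (iv D7914) (iv F13083)
theorem F17075 : act 2 n10223 = n7912 := d10_1 D10223 (iv D7912) D7911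
def n10224 : Q := act 5 n7912
theorem D10224 : act 5 n7912 = n10224 := rfl
theorem F17076 : act 0 n10224 = n7915 := d4_1 D10224 (iv D7915) (iv F13085)
theorem F17077 : act 1 n10224 = n7946 := d8_1 D10224 (iv D7946) (iv F13086)
theorem F17078 : act 3 n10224 = n8158 := d13_1 D10224 (iv D8158) (iv F13087)
theorem F17079 : act 4 n10224 = n8001 := d14_1 D10224 (iv D8001) (iv D6117) (iv F9936) D7912
def n10225 : Q := act 2 n7913
theorem D10225 : act 2 n7913 = n10225 := rfl
theorem F17080 : act 0 n10225 = n10006 := d1_1 D10225 (iv F17072) F17070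
theorem F17081 : act 1 n10225 = n8022 := d5_1 D10225 (iv D8022) F10085 (iv F10038) (iv F13088)
theorem F17082 : act 3 n10225 = n9998 := d9_2 D7913 D10225 F16679 F12736 (iv F9931) F9932 (iv F10048) D7990 F13233 (iv D7715) (iv D5881) (iv D4420) (iv F5482) D4555 D6050
theorem F17083 : act 5 n10225 = n7992 := d11_2 (iv F13089) D10225 (iv D7992)
def n10226 : Q := act 4 n7913
theorem D10226 : act 4 n7913 = n10226 := rfl
theorem F17084 : act 1 n10226 = n7983 := d7_1 D10226 (iv D7983) (iv F13088)
def n10227 : Q := act 3 n7914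
theorem D10227 : act 3 n7914 = n10227 := rfl
theorem F17085 : act 1 n10227 = n7984 := d6_1 D10227 (iv D7984) (iv F13090)
def n10228 : Q := act 5 n7914
theorem D10228 : act 5 n7914 = n10228 := rfl
theorem F17086 : act 1 n10228 = n7985 := d8_1 D10228 (iv D7985) (iv F13090)
theorem F17087 : act 2 n10228 = n7915 := d11_1 D10228 (iv D7915) (iv F13091)
theorem F17088 : act 4 n10228 = n7995 := d14_1 D10228 (iv D7995) (iv D6113) (iv F9938) D7914
def n10229 : Q := act 1 n7916
theorem D10229 : act 1 n7916 = n10229 := rfl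
theorem F17089 : act 0 n10229 = n7944 := d0_1 D10229 (iv D7944) F9997 (iv F9948) (iv F13095)
theorem F17090 : act 2 n10229 = n7980 := d5_2 D7916 D10229 (iv D7980) (iv D6103) (iv F9946)
theorem F17091 : act 5 n10229 = n7921 := d8_2 (iv F13096) D10229 (iv D7921)
def n10230 : Q := act 4 n7916
theorem D10230 : act 4 n7916 = n10230 := rfl
theorem F17092 : act 0 n10230 = n7919 := d3_1 D10230 (iv D7919) (iv F13095)
theorem F17093 : act 2 n10230 = n7917 := d10_1 D10230 (iv D7917) D7916
def n10231 : Q := act 5 n7917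
theorem D10231 : act 5 n7917 = n10231 := rfl
theorem F17094 : act 0 n10231 = n7920 := d4_1 D10231 (iv D7920) (iv F13097)
theorem F17095 : act 1 n10231 = n7982 := d8_1 D10231 (iv D7982) (iv F13098)
theorem F17096 : act 3 n10231 = n8220 := d13_1 D10231 F13630 F13286
theorem F17097 : act 4 n10231 = n7924 := d14_1 D10231 (iv D7924) (iv D6058) (iv F9947) D7917
def n10232 : Q := act 4 n7918
theorem D10232 : act 4 n7918 = n10232 := rfl
theorem F17098 : act 1 n10232 = n7948 := d7_1 D10232 (iv D7948) (iv F13099)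
def n10233 : Q := act 3 n7919
theorem D10233 : act 3 n7919 = n10233 := rfl
theorem F17099 : act 1 n10233 = n7949 := d6_1 D10233 (iv D7949) (iv F13101)
def n10234 : Q := act 5 n7919
theorem D10234 : act 5 n7919 = n10234 := rfl
theorem F17100 : act 1 n10234 = n7950 := d8_1 D10234 (iv D7950) (iv F13101)
theorem F17101 : act 2 n10234 = n7920 := d11_1 D10234 (iv D7920) (iv F13102)
theorem F17102 : act 4 n10234 = n7931 := d14_1 D10234 (iv D7931) (iv D6061) (iv F9949) D7919
def n10235 : Q := act 0 n7921
theorem D10235 : act 0 n7921 = n10235 := rfl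
theorem F17103 : act 1 n10235 = n7925 := d0_2 D7921 D10235 (iv D7925) (iv D6059) (iv F9955)
theorem F17104 : act 2 n10235 = n7986 := d1_2 (iv F13106) D10235 (iv D7986)
theorem F17105 : act 5 n10235 = n7944 := d4_2 F17091 D10235 (iv F17089)
theorem F17106 : act 3 n7970 = n10235 := d13_3 F17105 (iv F16878) F16879
def n10236 : Q := act 3 n7921
theorem D10236 : act 3 n7921 = n10236 := rfl
theorem F17107 : act 0 n10236 = n7970 := d2_1 D10236 F17106 (iv D10235)
theorem F17108 : act 1 n10236 = n7922 := d6_1 D10236 (iv D7922) D7921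
theorem F17109 : act 2 n10236 = n10127 := d9_1 D10236 (iv D10127) F12869 D7849 (iv F13290) F17069 F17067 (iv F16878) F16877 F12904 F12875 F9791 (iv F9899) (iv F10043) (iv F13106)
def n10237 : Q := act 4 n7921
theorem D10237 : act 4 n7921 = n10237 := rfl
theorem F17110 : act 1 n10237 = n7923 := d7_1 D10237 (iv D7923) D7921
theorem F17111 : act 2 n10237 = n7987 := d10_1 D10237 (iv D7987) (iv F13106)
def n10238 : Q := act 4 n7922
theorem D10238 : act 4 n7922 = n10238 := rfl
theorem F17112 : act 0 n10238 = n7929 := d3_1 D10238 (iv D7929) (iv F13107)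
theorem F17113 : act 2 n10238 = n10232 := d10_1 D10238 (iv D10232) (iv F13108)
def n10239 : Q := act 3 n7923
theorem D10239 : act 3 n7923 = n10239 := rfl
theorem F17114 : act 0 n10239 = n7930 := d2_1 D10239 (iv D7930) (iv F13109)
def n10240 : Q := act 5 n7923
theorem D10240 : act 5 n7923 = n10240 := rfl
theorem F17115 : act 0 n10240 = n7931 := d4_1 D10240 (iv D7931) (iv F13109)
theorem F17116 : act 2 n10240 = n7924 := d11_1 D10240 (iv D7924) (iv F13110)
def n10241 : Q := act 4 n7925
theorem D10241 : act 4 n7925 = n10241 := rfl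
theorem F17117 : act 0 n10241 = n7927 := d3_1 D10241 (iv D7927) D7925
theorem F17118 : act 2 n10241 = n7932 := d10_1 D10241 (iv D7932) (iv F13114)
def n10242 : Q := act 4 n7926
theorem D10242 : act 4 n7926 = n10242 := rfl
theorem F17119 : act 0 n10242 = n7971 := d3_1 D10242 (iv D7971) (iv F13117)
theorem F17120 : act 1 n10242 = n7929 := d7_1 D10242 (iv D7929) (iv F13118)
theorem F17121 : act 2 n10242 = n7966 := d10_1 D10242 (iv D7966) (iv F13119)
def n10243 : Q := act 3 n7927
theorem D10243 : act 3 n7927 = n10243 := rfl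
theorem F17122 : act 1 n10243 = n7930 := d6_1 D10243 (iv D7930) (iv F13121)
def n10244 : Q := act 5 n7927
theorem D10244 : act 5 n7927 = n10244 := rfl
theorem F17123 : act 1 n10244 = n7931 := d8_1 D10244 (iv D7931) (iv F13121)
theorem F17124 : act 2 n10244 = n7934 := d11_1 D10244 (iv D7934) (iv F13122)
theorem F17125 : act 4 n10244 = n7950 := d14_1 D10244 (iv D7950) (iv D6079) (iv F9960) D7927
def n10245 : Q := act 1 n7928
theorem D10245 : act 1 n7928 = n10245 := rfl
theorem F17126 : act 0 n10245 = n10141 := d0_1 D10245 (iv D10141) F12900 (iv F13099) (iv F13123)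
theorem F17127 : act 2 n10245 = n7964 := d5_2 D7928 D10245 F13201 (iv F13119) F13118
theorem F17128 : act 3 n10245 = n10229 := d6_2 (iv F13125) D10245 (iv D10229)
theorem F17129 : act 5 n10245 = n10236 := d8_2 (iv F13124) D10245 F17108
def n10246 : Q := act 4 n7928
theorem D10246 : act 4 n7928 = n10246 := rfl
theorem F17130 : act 0 n10246 = n10232 := d3_1 D10246 (iv D10232) (iv F13123)
theorem F17131 : act 2 n10246 = n7929 := d10_1 D10246 (iv D7929) D7928
def n10247 : Q := act 3 n7929
theorem D10247 : act 3 n7929 = n10247 := rfl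
theorem F17132 : act 4 n10247 = n7930 := d12_2 D7929 D10247 (iv D7930) (iv D6061) D6060
def n10248 : Q := act 5 n7929
theorem D10248 : act 5 n7929 = n10248 := rfl
def n10249 : Q := act 2 n7930
theorem D10249 : act 2 n7930 = n10249 := rfl
def n10250 : Q := act 5 n7930
theorem D10250 : act 5 n7930 = n10250 := rfl
theorem F17133 : act 3 n10250 = n7931 := d13_1 D10250 (iv D7931) D7930
def n10251 : Q := act 3 n7932
theorem D10251 : act 3 n7932 = n10251 := rfl
theorem F17134 : act 0 n10251 = n7933 := d2_1 D10251 (iv D7933) (iv F13127)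
theorem F17135 : act 1 n10251 = n8000 := d6_1 D10251 (iv D8000) (iv F13128)
theorem F17136 : act 4 n10251 = n7947 := d12_2 D7932 D10251 (iv D7947) (iv D6077) (iv F9965)
def n10252 : Q := act 5 n7932
theorem D10252 : act 5 n7932 = n10252 := rfl
theorem F17137 : act 0 n10252 = n7934 := d4_1 D10252 (iv D7934) (iv F13127)
theorem F17138 : act 1 n10252 = n8001 := d8_1 D10252 (iv D8001) (iv F13128)
theorem F17139 : act 4 n10252 = n7946 := d14_1 D10252 (iv D7946) (iv D6076) (iv F9966) D7932
def n10253 : Q := act 2 n7933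
theorem D10253 : act 2 n7933 = n10253 := rfl
theorem F17140 : act 4 n10253 = n7951 := d10_2 (iv F13130) D10253 (iv D7951)
def n10254 : Q := act 5 n7933
theorem D10254 : act 5 n7933 = n10254 := rfl
theorem F17141 : act 1 n10254 = n7936 := d8_1 D10254 (iv D7936) (iv F13129)
theorem F17142 : act 3 n10254 = n7934 := d13_1 D10254 (iv D7934) D7933
theorem F17143 : act 4 n10254 = n8073 := d14_1 D10254 F13392 (iv F13161) F13162 (iv F13130)
def n10255 : Q := act 1 n7935
theorem D10255 : act 1 n7935 = n10255 := rfl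
theorem F17144 : act 3 n10255 = n8021 := d6_2 (iv F13134) D10255 F13280
theorem F17145 : act 4 n10255 = n7952 := d7_2 (iv F13135) D10255 (iv D7952)
theorem F17146 : act 5 n10255 = n8020 := d8_2 F13136 D10255 F13278
def n10256 : Q := act 1 n7937
theorem D10256 : act 1 n7937 = n10256 := rfl
theorem F17147 : act 0 n10256 = n8167 := d0_1 D10256 F13548 F10324 (iv F9983) (iv F13141)
theorem F17148 : act 2 n10256 = n8155 := d5_2 D7937 D10256 (iv D8155) (iv D6249) (iv F9977)
theorem F17149 : act 3 n10256 = n9180 := d6_2 (iv F13143) D10256 (iv D9180)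
theorem F17150 : act 5 n10256 = n8165 := d8_2 (iv F13142) D10256 F13545
def n10257 : Q := act 4 n7937
theorem D10257 : act 4 n7937 = n10257 := rfl
theorem F17151 : act 0 n10257 = n7941 := d3_1 D10257 (iv D7941) (iv F13141)
theorem F17152 : act 2 n10257 = n7938 := d10_1 D10257 (iv D7938) D7937
def n10258 : Q := act 5 n7938
theorem D10258 : act 5 n7938 = n10258 := rfl
theorem F17153 : act 0 n10258 = n7942 := d4_1 D10258 (iv D7942) (iv F13144)
theorem F17154 : act 1 n10258 = n8158 := d8_1 D10258 (iv D8158) (iv F13145)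
theorem F17155 : act 3 n10258 = n7946 := d13_1 D10258 (iv D7946) (iv F13146)
theorem F17156 : act 4 n10258 = n8188 := d14_1 D10258 (iv D8188) (iv D6273) F9978 D7938
def n10259 : Q := act 3 n7939
theorem D10259 : act 3 n7939 = n10259 := rfl
theorem F17157 : act 0 n10259 = n7943 := d2_1 D10259 (iv D7943) (iv F13147)
theorem F17158 : act 1 n10259 = n8159 := d6_1 D10259 (iv D8159) (iv F13148)
theorem F17159 : act 4 n10259 = n8187 := d12_2 D7939 D10259 (iv D8187) (iv D6273) (iv F9982)
theorem F17160 : act 5 n10259 = n7947 := d13_2 (iv F13150) D10259 (iv D7947)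
def n10260 : Q := act 4 n7940
theorem D10260 : act 4 n7940 = n10260 := rfl
theorem F17161 : act 0 n10260 = n9181 := d3_1 D10260 (iv D9181) (iv F13151)
theorem F17162 : act 1 n10260 = n8180 := d7_1 D10260 (iv D8180) (iv F13152)
theorem F17163 : act 2 n10260 = n9177 := d10_1 D10260 (iv D9177) (iv F13154)
def n10261 : Q := act 3 n7941
theorem D10261 : act 3 n7941 = n10261 := rfl
theorem F17164 : act 1 n10261 = n8184 := d6_1 D10261 (iv D8184) (iv F13155)
def n10262 : Q := act 5 n7941
theorem D10262 : act 5 n7941 = n10262 := rfl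
theorem F17165 : act 1 n10262 = n8183 := d8_1 D10262 F13577 (iv F13155)
theorem F17166 : act 2 n10262 = n7942 := d11_1 D10262 (iv D7942) (iv F13156)
theorem F17167 : act 4 n10262 = n8177 := d14_1 D10262 (iv D8177) (iv D6264) (iv F9984) D7941
def n10263 : Q := act 2 n7943
theorem D10263 : act 2 n7943 = n10263 := rfl
theorem F17168 : act 4 n10263 = n8189 := d10_2 (iv F13161) D10263 (iv D8189)
theorem F17169 : act 5 n10263 = n7951 := d11_2 (iv F13162) D10263 (iv D7951)
def n10264 : Q := act 4 n7944
theorem D10264 : act 4 n7944 = n10264 := rfl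
theorem F17170 : act 1 n10264 = n7945 := d7_1 D10264 (iv D7945) D7944
def n10265 : Q := act 3 n7945
theorem D10265 : act 3 n7945 = n10265 := rfl
theorem F17171 : act 0 n10265 = n7949 := d2_1 D10265 (iv D7949) (iv F13163)
def n10266 : Q := act 5 n7945
theorem D10266 : act 5 n7945 = n10266 := rfl
theorem F17172 : act 0 n10266 = n7950 := d4_1 D10266 (iv D7950) (iv F13163)
theorem F17173 : act 2 n10266 = n7946 := d11_1 D10266 (iv D7946) (iv F13164)
def n10267 : Q := act 2 n7947
theorem D10267 : act 2 n7947 = n10267 := rfl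
theorem F17174 : act 0 n10267 = n7951 := d1_1 D10267 (iv D7951) (iv F13166)
def n10268 : Q := act 3 n7948
theorem D10268 : act 3 n7948 = n10268 := rfl
theorem F17175 : act 4 n10268 = n7949 := d12_2 D7948 D10268 (iv D7949) (iv D6079) D6078
def n10269 : Q := act 5 n7948
theorem D10269 : act 5 n7948 = n10269 := rfl
def n10270 : Q := act 2 n7949
theorem D10270 : act 2 n7949 = n10270 := rfl
def n10271 : Q := act 5 n7949
theorem D10271 : act 5 n7949 = n10271 := rfl
theorem F17176 : act 3 n10271 = n7950 := d13_1 D10271 (iv D7950) D7949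
def n10272 : Q := act 1 n7951
theorem D10272 : act 1 n7951 = n10272 := rfl
theorem F17177 : act 2 n10272 = n7952 := d5_2 D7951 D10272 (iv D7952) (iv D6082) (iv F10003)
def n10273 : Q := act 3 n7951
theorem D10273 : act 3 n7951 = n10273 := rfl
def n10274 : Q := act 0 n7952
theorem D10274 : act 0 n7952 = n10274 := rfl
theorem F17178 : act 3 n10274 = n9163 := d2_2 (iv F13168) D10274 (iv D9163)
def n10275 : Q := act 4 n7953
theorem D10275 : act 4 n7953 = n10275 := rfl
theorem F17179 : act 0 n10275 = n9169 := d3_1 D10275 (iv D9169) (iv F13169)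
theorem F17180 : act 1 n10275 = n7955 := d7_1 D10275 (iv D7955) D7953
theorem F17181 : act 2 n10275 = n9150 := d10_1 D10275 (iv D9150) (iv F13170)
def n10276 : Q := act 4 n7954
theorem D10276 : act 4 n7954 = n10276 := rfl
theorem F17182 : act 0 n10276 = n7959 := d3_1 D10276 (iv D7959) (iv F13173)
theorem F17183 : act 1 n10276 = n9284 := d7_1 D10276 (iv D9284) (iv F13174)
theorem F17184 : act 2 n10276 = n8175 := d10_1 D10276 (iv D8175) (iv F13175)
def n10277 : Q := act 3 n7955
theorem D10277 : act 3 n7955 = n10277 := rfl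
theorem F17185 : act 0 n10277 = n7960 := d2_1 D10277 (iv D7960) (iv F13177)
def n10278 : Q := act 5 n7955
theorem D10278 : act 5 n7955 = n10278 := rfl
theorem F17186 : act 0 n10278 = n7961 := d4_1 D10278 (iv D7961) (iv F13177)
theorem F17187 : act 2 n10278 = n7956 := d11_1 D10278 (iv D7956) (iv F13178)
theorem F17188 : act 4 n10278 = n9179 := d14_1 D10278 (iv D9179) (iv D7048) (iv F10006) D7955
def n10279 : Q := act 2 n7957
theorem D10279 : act 2 n7957 = n10279 := rfl
theorem F17189 : act 0 n10279 = n7962 := d1_1 D10279 (iv D7962) (iv F13183)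
theorem F17190 : act 4 n10279 = n9202 := d10_2 (iv F13185) D10279 (iv D9202)
theorem F17191 : act 5 n10279 = n7969 := d11_2 (iv F13186) D10279 (iv D7969)
def n10280 : Q := act 4 n7958
theorem D10280 : act 4 n7958 = n10280 := rfl
theorem F17192 : act 0 n10280 = n8175 := d3_1 D10280 (iv D8175) (iv F13187)
theorem F17193 : act 1 n10280 = n9274 := d7_1 D10280 (iv D9274) (iv F13188)
theorem F17194 : act 2 n10280 = n7959 := d10_1 D10280 (iv D7959) D7958
def n10281 : Q := act 3 n7959
theorem D10281 : act 3 n7959 = n10281 := rfl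
theorem F17195 : act 1 n10281 = n9191 := d6_1 D10281 (iv D9191) (iv F13191)
theorem F17196 : act 4 n10281 = n7960 := d12_2 D7959 D10281 (iv D7960) (iv D6087) D6086
def n10282 : Q := act 5 n7959
theorem D10282 : act 5 n7959 = n10282 := rfl
theorem F17197 : act 1 n10282 = n9190 := d8_1 D10282 F15325 (iv F13191)
theorem F17198 : act 4 n10282 = n9183 := d14_1 D10282 (iv D9183) (iv D7050) (iv F10014) D7959
def n10283 : Q := act 2 n7960
theorem D10283 : act 2 n7960 = n10283 := rfl
def n10284 : Q := act 5 n7960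
theorem D10284 : act 5 n7960 = n10284 := rfl
theorem F17199 : act 1 n10284 = n9196 := d8_1 D10284 F15334 (iv F13192)
theorem F17200 : act 3 n10284 = n7961 := d13_1 D10284 (iv D7961) D7960
def n10285 : Q := act 1 n7962
theorem D10285 : act 1 n7962 = n10285 := rfl
theorem F17201 : act 2 n10285 = n7963 := d5_2 D7962 D10285 (iv D7963) (iv D6090) (iv F10020)
theorem F17202 : act 4 n10285 = n9204 := d7_2 (iv F13196) D10285 (iv D9204)
theorem F17203 : act 5 n10285 = n7976 := d8_2 (iv F13197) D10285 (iv D7976)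
def n10286 : Q := act 3 n7962
theorem D10286 : act 3 n7962 = n10286 := rfl
theorem F17204 : act 5 n10286 = n7977 := d13_2 (iv F13197) D10286 (iv D7977)
def n10287 : Q := act 0 n7963
theorem D10287 : act 0 n7963 = n10287 := rfl
theorem F17205 : act 1 n10287 = n9163 := d0_2 D7963 D10287 (iv D9163) (iv D7036) (iv F10023)
theorem F17206 : act 4 n10287 = n9207 := d3_2 (iv F13198) D10287 (iv D9207)
theorem F17207 : act 5 n10287 = n7978 := d4_2 (iv F13199) D10287 (iv D7978)
def n10288 : Q := act 4 n7964
theorem D10288 : act 4 n7964 = n10288 := rfl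
theorem F17208 : act 0 n10288 = n10144 := d3_1 D10288 (iv D10144) (iv F13200)
theorem F17209 : act 1 n10288 = n7966 := d7_1 D10288 (iv D7966) (iv F13201)
def n10289 : Q := act 3 n7965
theorem D10289 : act 3 n7965 = n10289 := rfl
theorem F17210 : act 1 n10289 = n7967 := d6_1 D10289 (iv D7967) (iv F13202)
def n10290 : Q := act 5 n7965
theorem D10290 : act 5 n7965 = n10290 := rfl
theorem F17211 : act 0 n10290 = n8079 := d4_1 D10290 (iv F16853) F16850
theorem F17212 : act 1 n10290 = n7968 := d8_1 D10290 (iv D7968) (iv F13202)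
theorem F17213 : act 2 n10290 = n8085 := d11_1 D10290 (iv F16915) F16912
theorem F17214 : act 4 n10290 = n8075 := d14_1 D10290 (iv D8075) (iv F12870) (iv F12871) D7965
def n10291 : Q := act 3 n7966
theorem D10291 : act 3 n7966 = n10291 := rfl
theorem F17215 : act 0 n10291 = n7972 := d2_1 D10291 (iv D7972) (iv F13203)
theorem F17216 : act 4 n10291 = n7967 := d12_2 D7966 D10291 (iv D7967) (iv D6093) D6092
def n10292 : Q := act 5 n7966
theorem D10292 : act 5 n7966 = n10292 := rfl
theorem F17217 : act 0 n10292 = n7973 := d4_1 D10292 (iv D7973) (iv F13203)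
def n10293 : Q := act 2 n7967
theorem D10293 : act 2 n7967 = n10293 := rfl
theorem F17218 : act 0 n10293 = n7974 := d1_1 D10293 (iv D7974) (iv F13204)
def n10294 : Q := act 5 n7967
theorem D10294 : act 5 n7967 = n10294 := rfl
theorem F17219 : act 0 n10294 = n7975 := d4_1 D10294 (iv D7975) (iv F13204)
theorem F17220 : act 3 n10294 = n7968 := d13_1 D10294 (iv D7968) D7967
def n10295 : Q := act 1 n7969
theorem D10295 : act 1 n7969 = n10295 := rfl
def n10296 : Q := act 3 n7969
theorem D10296 : act 3 n7969 = n10296 := rfl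
theorem F17221 : act 0 n10296 = n7977 := d2_1 D10296 (iv D7977) (iv F13207)
def n10297 : Q := act 4 n7970
theorem D10297 : act 4 n7970 = n10297 := rfl
theorem F17222 : act 1 n10297 = n7971 := d7_1 D10297 (iv D7971) D7970
theorem F17223 : act 2 n10297 = n10128 := d10_1 D10297 (iv D10128) (iv F13208)
def n10298 : Q := act 3 n7971
theorem D10298 : act 3 n7971 = n10298 := rfl
def n10299 : Q := act 5 n7971
theorem D10299 : act 5 n7971 = n10299 := rfl
theorem F17224 : act 2 n10299 = n7973 := d11_1 D10299 (iv D7973) (iv F13209)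
def n10300 : Q := act 2 n7972
theorem D10300 : act 2 n7972 = n10300 := rfl
theorem F17225 : act 4 n10300 = n7974 := d10_2 (iv F13210) D10300 (iv D7974)
def n10301 : Q := act 5 n7972
theorem D10301 : act 5 n7972 = n10301 := rfl
theorem F17226 : act 3 n10301 = n7973 := d13_1 D10301 (iv D7973) D7972
def n10302 : Q := act 1 n7974
theorem D10302 : act 1 n7974 = n10302 := rfl
def n10303 : Q := act 3 n7974
theorem D10303 : act 3 n7974 = n10303 := rfl
def n10304 : Q := act 5 n7974
theorem D10304 : act 5 n7974 = n10304 := rfl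
theorem F17227 : act 2 n10304 = n7975 := d11_1 D10304 (iv D7975) D7974
def n10305 : Q := act 4 n7975
theorem D10305 : act 4 n7975 = n10305 := rfl
def n10306 : Q := act 0 n7976
theorem D10306 : act 0 n7976 = n10306 := rfl
theorem F17228 : act 2 n10306 = n7978 := d1_2 (iv F13212) D10306 (iv D7978)
def n10307 : Q := act 3 n7976
theorem D10307 : act 3 n7976 = n10307 := rfl
theorem F17229 : act 1 n10307 = n7977 := d6_1 D10307 (iv D7977) D7976
def n10308 : Q := act 2 n7977
theorem D10308 : act 2 n7977 = n10308 := rfl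
def n10309 : Q := act 4 n7977
theorem D10309 : act 4 n7977 = n10309 := rfl
def n10310 : Q := act 3 n7978
theorem D10310 : act 3 n7978 = n10310 := rfl
theorem F17230 : act 0 n10310 = n7979 := d2_1 D10310 (iv D7979) D7978
def n10311 : Q := act 2 n7979
theorem D10311 : act 2 n7979 = n10311 := rfl
theorem F17231 : act 1 n10311 = n8164 := d5_1 D10311 (iv D8164) F10320 (iv F10032) (iv F13213)
def n10312 : Q := act 4 n7980
theorem D10312 : act 4 n7980 = n10312 := rfl
theorem F17232 : act 1 n10312 = n7981 := d7_1 D10312 (iv D7981) D7980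
def n10313 : Q := act 3 n7981
theorem D10313 : act 3 n7981 = n10313 := rfl
theorem F17233 : act 0 n10313 = n7984 := d2_1 D10313 (iv D7984) (iv F13216)
theorem F17234 : act 4 n10313 = n8027 := d12_2 D7981 D10313 (iv D8027) (iv D6137) (iv F10034)
def n10314 : Q := act 5 n7981
theorem D10314 : act 5 n7981 = n10314 := rfl
theorem F17235 : act 0 n10314 = n7985 := d4_1 D10314 (iv D7985) (iv F13216)
theorem F17236 : act 2 n10314 = n7982 := d11_1 D10314 (iv D7982) (iv F13217)
theorem F17237 : act 4 n10314 = n7989 := d14_1 D10314 (iv D7989) (iv D6109) (iv F10035) D7981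
def n10315 : Q := act 3 n7983
theorem D10315 : act 3 n7983 = n10315 := rfl
theorem F17238 : act 0 n10315 = n8027 := d2_1 D10315 (iv D8027) (iv F13220)
theorem F17239 : act 4 n10315 = n7984 := d12_2 D7983 D10315 (iv D7984) (iv D6106) D6105
def n10316 : Q := act 5 n7983
theorem D10316 : act 5 n7983 = n10316 := rfl
theorem F17240 : act 0 n10316 = n8028 := d4_1 D10316 (iv D8028) (iv F13220)
theorem F17241 : act 2 n10316 = n8024 := d11_1 D10316 (iv D8024) (iv F13221)
theorem F17242 : act 4 n10316 = n7997 := d14_1 D10316 (iv D7997) (iv D6114) (iv F10039) D7983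
def n10317 : Q := act 2 n7984
theorem D10317 : act 2 n7984 = n10317 := rfl
def n10318 : Q := act 5 n7984
theorem D10318 : act 5 n7984 = n10318 := rfl
theorem F17243 : act 3 n10318 = n7985 := d13_1 D10318 (iv D7985) D7984
def n10319 : Q := act 4 n7986
theorem D10319 : act 4 n7986 = n10319 := rfl
theorem F17244 : act 0 n10319 = n7987 := d3_1 D10319 (iv D7987) D7986
theorem F17245 : act 1 n10319 = n7991 := d7_1 D10319 (iv D7991) (iv F13224)
def n10320 : Q := act 3 n7987
theorem D10320 : act 3 n7987 = n10320 := rfl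
theorem F17246 : act 1 n10320 = n7988 := d6_1 D10320 (iv D7988) (iv F13226)
theorem F17247 : act 4 n10320 = n10205 := d12_2 D7987 D10320 (iv D10205) (iv D7896) (iv F10043)
def n10321 : Q := act 5 n7987
theorem D10321 : act 5 n7987 = n10321 := rfl
theorem F17248 : act 1 n10321 = n7989 := d8_1 D10321 (iv D7989) (iv F13226)
def n10322 : Q := act 2 n7988
theorem D10322 : act 2 n7988 = n10322 := rfl
theorem F17249 : act 0 n10322 = n7998 := d1_1 D10322 (iv D7998) (iv F13227)
theorem F17250 : act 4 n10322 = n10206 := d10_2 (iv F13228) D10322 (iv D10206)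
theorem F17251 : act 3 n10322 = n8014 := d15_1 D10322 F13271 F10073 F7511 (iv F7499) (iv F10054) (iv F13247) (iv D7999) (iv F13227)
theorem F17252 : act 5 n8013 = n10322 := d13_0 F17251 (iv D8014) D8013
def n10323 : Q := act 5 n7988
theorem D10323 : act 5 n7988 = n10323 := rfl
theorem F17253 : act 0 n10323 = n7999 := d4_1 D10323 (iv D7999) (iv F13227)
theorem F17254 : act 2 n10323 = n8013 := d11_1 D10323 F17252 (iv D10322)
theorem F17255 : act 3 n10323 = n7989 := d13_1 D10323 (iv D7989) D7988
def n10324 : Q := act 4 n7990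
theorem D10324 : act 4 n7990 = n10324 := rfl
theorem F17256 : act 0 n10324 = n7993 := d3_1 D10324 (iv D7993) (iv F13231)
theorem F17257 : act 1 n10324 = n10204 := d7_1 D10324 (iv D10204) (iv F13232)
theorem F17258 : act 2 n10324 = n10005 := d10_1 D10324 (iv D10005) (iv F13233)
def n10325 : Q := act 3 n7991
theorem D10325 : act 3 n7991 = n10325 := rfl
theorem F17259 : act 0 n10325 = n7994 := d2_1 D10325 (iv D7994) (iv F13234)
def n10326 : Q := act 5 n7991
theorem D10326 : act 5 n7991 = n10326 := rfl
theorem F17260 : act 0 n10326 = n7995 := d4_1 D10326 (iv D7995) (iv F13234)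
theorem F17261 : act 2 n10326 = n8001 := d11_1 D10326 (iv D8001) (iv F13235)
def n10327 : Q := act 3 n7993
theorem D10327 : act 3 n7993 = n10327 := rfl
theorem F17262 : act 1 n10327 = n7996 := d6_1 D10327 (iv D7996) (iv F13239)
theorem F17263 : act 4 n10327 = n7994 := d12_2 D7993 D10327 (iv D7994) (iv D6113) D6112
def n10328 : Q := act 5 n7993
theorem D10328 : act 5 n7993 = n10328 := rfl
theorem F17264 : act 1 n10328 = n7997 := d8_1 D10328 (iv D7997) (iv F13239)
def n10329 : Q := act 2 n7994
theorem D10329 : act 2 n7994 = n10329 := rfl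
def n10330 : Q := act 5 n7994
theorem D10330 : act 5 n7994 = n10330 := rfl
theorem F17265 : act 1 n10330 = n7999 := d8_1 D10330 (iv D7999) (iv F13240)
theorem F17266 : act 3 n10330 = n7995 := d13_1 D10330 (iv D7995) D7994
def n10331 : Q := act 2 n7996
theorem D10331 : act 2 n7996 = n10331 := rfl
theorem F17267 : act 0 n10331 = n10206 := d1_1 D10331 (iv D10206) (iv F13243)
theorem F17268 : act 4 n10331 = n7998 := d10_2 (iv F13244) D10331 (iv D7998)
theorem F17269 : act 3 n10331 = n10212 := d15_1 D10331 F17048 F13062 F9914 (iv F9902) (iv F13049) (iv F17041) (iv D10207) (iv F13243)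
theorem F17270 : act 5 n10211 = n10331 := d13_0 F17269 (iv D10212) D10211
def n10332 : Q := act 5 n7996
theorem D10332 : act 5 n7996 = n10332 := rfl
theorem F17271 : act 0 n10332 = n10207 := d4_1 D10332 (iv D10207) (iv F13243)
theorem F17272 : act 2 n10332 = n10211 := d11_1 D10332 F17270 (iv D10331)
theorem F17273 : act 3 n10332 = n7997 := d13_1 D10332 (iv D7997) D7996
def n10333 : Q := act 1 n7998
theorem D10333 : act 1 n7998 = n10333 := rfl
def n10334 : Q := act 3 n7998
theorem D10334 : act 3 n7998 = n10334 := rfl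
theorem F17274 : act 0 n10334 = n8014 := d2_1 D10334 (iv F17251) F17249
theorem F17275 : act 2 n10334 = n8009 := d9_1 D10334 F13268 F10068 (iv F10047) (iv F13230) (iv F17255) F17254 (iv D8013) (iv D6127) (iv D4613) F5555 (iv F5547) (iv F7497) D6115 D7998
theorem F17276 : act 5 n10334 = n8008 := d15_8 (iv D6127) (iv D4613) F5555 (iv F5547) (iv F7497) D6115 D7998 D10334 F13265
def n10335 : Q := act 5 n7998
theorem D10335 : act 5 n7998 = n10335 := rfl
theorem F17277 : act 0 n10335 = n8013 := d4_1 D10335 F17252 F17249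
theorem F17278 : act 2 n10335 = n7999 := d11_1 D10335 (iv D7999) D7998
theorem F17279 : act 3 n10335 = n8008 := d13_1 D10335 (iv F17276) (iv D10334)
def n10336 : Q := act 4 n7999
theorem D10336 : act 4 n7999 = n10336 := rfl
def n10337 : Q := act 2 n8000
theorem D10337 : act 2 n8000 = n10337 := rfl
theorem F17280 : act 0 n10337 = n8002 := d1_1 D10337 (iv D8002) (iv F13248)
def n10338 : Q := act 5 n8000
theorem D10338 : act 5 n8000 = n10338 := rfl
theorem F17281 : act 0 n10338 = n8003 := d4_1 D10338 (iv D8003) (iv F13248)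
theorem F17282 : act 3 n10338 = n8001 := d13_1 D10338 (iv D8001) D8000
def n10339 : Q := act 1 n8002
theorem D10339 : act 1 n8002 = n10339 := rfl
theorem F17283 : act 2 n10339 = n8004 := d5_2 D8002 D10339 (iv D8004) (iv D6120) (iv F10056)
theorem F17284 : act 5 n8124 = n10339 := d11_0 F17283 F13253 D8124
def n10340 : Q := act 3 n8002
theorem D10340 : act 3 n8002 = n10340 := rfl
def n10341 : Q := act 5 n8002
theorem D10341 : act 5 n8002 = n10341 := rfl
theorem F17285 : act 1 n10341 = n8124 := d8_1 D10341 F17284 (iv D10339)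
theorem F17286 : act 2 n10341 = n8003 := d11_1 D10341 (iv D8003) D8002
def n10342 : Q := act 4 n8003
theorem D10342 : act 4 n8003 = n10342 := rfl
theorem F17287 : act 1 n10342 = n8005 := d7_1 D10342 (iv D8005) (iv F13250)
theorem F17288 : act 3 n10342 = n8110 := d12_1 D10342 F13444 (iv F13093) F13094 (iv F13251)
theorem F17289 : act 5 n10342 = n8121 := d14_2 D8003 D10342 F13465 (iv F13078) F13077
def n10343 : Q := act 0 n8004
theorem D10343 : act 0 n8004 = n10343 := rfl
theorem F17290 : act 3 n10343 = n8123 := d2_2 (iv F13252) D10343 F13467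
theorem F17291 : act 5 n10343 = n8122 := d4_2 (iv F13253) D10343 F13466
def n10344 : Q := act 2 n8006
theorem D10344 : act 2 n8006 = n10344 := rfl
theorem F17292 : act 0 n10344 = n8828 := d1_1 D10344 (iv D8828) (iv F13258)
theorem F17293 : act 4 n10344 = n8010 := d10_2 (iv F13260) D10344 (iv D8010)
def n10345 : Q := act 5 n8006
theorem D10345 : act 5 n8006 = n10345 := rfl
theorem F17294 : act 0 n10345 = n8829 := d4_1 D10345 (iv D8829) (iv F13258)
theorem F17295 : act 1 n10345 = n8009 := d8_1 D10345 (iv D8009) (iv F13259)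
theorem F17296 : act 3 n10345 = n8007 := d13_1 D10345 (iv D8007) D8006
def n10346 : Q := act 1 n8008
theorem D10346 : act 1 n8008 = n10346 := rfl
theorem F17297 : act 4 n10346 = n8012 := d7_2 (iv F13266) D10346 (iv D8012)
def n10347 : Q := act 4 n8009
theorem D10347 : act 4 n8009 = n10347 := rfl
theorem F17298 : act 0 n10347 = n8015 := d3_1 D10347 (iv D8015) (iv F13267)
theorem F17299 : act 5 n10347 = n8015 := d14_2 D8009 D10347 (iv D8015) (iv D6128) (iv F10066)
def n10348 : Q := act 1 n8010
theorem D10348 : act 1 n8010 = n10348 := rfl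
theorem F17300 : act 2 n10348 = n8012 := d5_2 D8010 D10348 (iv D8012) (iv D6127) (iv F10069)
def n10349 : Q := act 3 n8010
theorem D10349 : act 3 n8010 = n10349 := rfl
def n10350 : Q := act 5 n8010
theorem D10350 : act 5 n8010 = n10350 := rfl
theorem F17301 : act 2 n10350 = n8011 := d11_1 D10350 (iv D8011) D8010
def n10351 : Q := act 4 n8011
theorem D10351 : act 4 n8011 = n10351 := rfl
theorem F17302 : act 1 n10351 = n8015 := d7_1 D10351 (iv D8015) (iv F13269)
theorem F17303 : act 3 n10351 = n8154 := d12_1 D10351 (iv D8154) F10313 (iv F10072) (iv F13270)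
def n10352 : Q := act 0 n8012
theorem D10352 : act 0 n8012 = n10352 := rfl
def n10353 : Q := act 3 n8012
theorem D10353 : act 3 n8012 = n10353 := rfl
theorem F17304 : act 1 n10353 = n8013 := d6_1 D10353 (iv D8013) D8012
def n10354 : Q := act 5 n8012
theorem D10354 : act 5 n8012 = n10354 := rfl
theorem F17305 : act 1 n10354 = n8014 := d8_1 D10354 (iv D8014) D8012
def n10355 : Q := act 4 n8013
theorem D10355 : act 4 n8013 = n10355 := rfl
def n10356 : Q := act 4 n8014
theorem D10356 : act 4 n8014 = n10356 := rfl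
theorem F17306 : act 2 n10356 = n8015 := d10_1 D10356 (iv D8015) (iv F13271)
def n10357 : Q := act 3 n8016
theorem D10357 : act 3 n8016 = n10357 := rfl
theorem F17307 : act 1 n10357 = n8017 := d6_1 D10357 (iv D8017) D8016
def n10358 : Q := act 5 n8016
theorem D10358 : act 5 n8016 = n10358 := rfl
theorem F17308 : act 1 n10358 = n8018 := d8_1 D10358 (iv D8018) D8016
theorem F17309 : act 2 n10358 = n8021 := d11_1 D10358 (iv D8021) (iv F13272)
theorem F17310 : act 4 n10358 = n8071 := d14_1 D10358 (iv D8071) (iv D6179) (iv F10160) (iv F13273)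
def n10359 : Q := act 2 n8017
theorem D10359 : act 2 n8017 = n10359 := rfl
def n10360 : Q := act 4 n8017
theorem D10360 : act 4 n8017 = n10360 := rfl
theorem F17311 : act 3 n10360 = n8058 := d12_1 D10360 (iv D8058) (iv D6166) (iv F10074) D8017
def n10361 : Q := act 5 n8017
theorem D10361 : act 5 n8017 = n10361 := rfl
theorem F17312 : act 3 n10361 = n8018 := d13_1 D10361 (iv D8018) D8017
def n10362 : Q := act 3 n8019
theorem D10362 : act 3 n8019 = n10362 := rfl
theorem F17313 : act 0 n10362 = n8020 := d2_1 D10362 (iv D8020) D8019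
theorem F17314 : act 1 n10362 = n8122 := d6_1 D10362 (iv D8122) (iv F13276)
theorem F17315 : act 4 n10362 = n8068 := d12_2 (iv F13277) D10362 (iv D8068) (iv D6177) (iv F10164)
def n10363 : Q := act 5 n8019
theorem D10363 : act 5 n8019 = n10363 := rfl
theorem F17316 : act 0 n10363 = n8021 := d4_1 D10363 (iv D8021) D8019
theorem F17317 : act 1 n10363 = n8123 := d8_1 D10363 (iv D8123) (iv F13276)
theorem F17318 : act 4 n10363 = n8067 := d14_1 D10363 (iv D8067) (iv D6176) (iv F10165) (iv F13277)
def n10364 : Q := act 2 n8020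
theorem D10364 : act 2 n8020 = n10364 := rfl
theorem F17319 : act 4 n10364 = n8072 := d10_2 (iv F13279) D10364 (iv D8072)
def n10365 : Q := act 4 n8022
theorem D10365 : act 4 n8022 = n10365 := rfl
theorem F17320 : act 0 n10365 = n10159 := d3_1 D10365 (iv D10159) (iv F13282)
theorem F17321 : act 2 n10365 = n8023 := d10_1 D10365 (iv D8023) D8022
def n10366 : Q := act 4 n8025
theorem D10366 : act 4 n8025 = n10366 := rfl
theorem F17322 : act 0 n10366 = n8026 := d3_1 D10366 (iv D8026) D8025
theorem F17323 : act 2 n10366 = n10157 := d10_1 D10366 (iv D10157) (iv F13290)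
def n10367 : Q := act 3 n8026
theorem D10367 : act 3 n8026 = n10367 := rfl
theorem F17324 : act 1 n10367 = n8027 := d6_1 D10367 (iv D8027) (iv F13292)
def n10368 : Q := act 2 n8027
theorem D10368 : act 2 n8027 = n10368 := rfl
def n10369 : Q := act 5 n8027
theorem D10369 : act 5 n8027 = n10369 := rfl
theorem F17325 : act 3 n10369 = n8028 := d13_1 D10369 (iv D8028) D8027
def n10370 : Q := act 5 n8029
theorem D10370 : act 5 n8029 = n10370 := rfl
theorem F17326 : act 0 n10370 = n9320 := d4_1 D10370 (iv D9320) (iv F13296)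
theorem F17327 : act 1 n10370 = n8031 := d8_1 D10370 (iv D8031) (iv F13297)
theorem F17328 : act 2 n10370 = n8917 := d11_1 D10370 (iv D8917) (iv F13298)
theorem F17329 : act 4 n10370 = n8645 := d14_1 D10370 (iv D8645) (iv D6625) F10102 D8029
def n10371 : Q := act 3 n8030
theorem D10371 : act 3 n8030 = n10371 := rfl
theorem F17330 : act 0 n10371 = n8192 := d2_1 D10371 (iv D8192) (iv F13299)
theorem F17331 : act 1 n10371 = n8032 := d6_1 D10371 (iv D8032) (iv F13300)
theorem F17332 : act 4 n10371 = n8644 := d12_2 D8030 D10371 (iv D8644) (iv D6625) (iv F10106)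
def n10372 : Q := act 2 n8032
theorem D10372 : act 2 n8032 = n10372 := rfl
theorem F17333 : act 0 n10372 = n8047 := d1_1 D10372 (iv D8047) (iv F13305)
theorem F17334 : act 4 n10372 = n8646 := d10_2 (iv F13306) D10372 (iv D8646)
def n10373 : Q := act 2 n8033
theorem D10373 : act 2 n8033 = n10373 := rfl
theorem F17335 : act 0 n10373 = n8035 := d1_1 D10373 (iv D8035) (iv F13307)
theorem F17336 : act 4 n10373 = n9321 := d10_2 (iv F13308) D10373 (iv D9321)
def n10374 : Q := act 5 n8033
theorem D10374 : act 5 n8033 = n10374 := rfl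
theorem F17337 : act 0 n10374 = n8037 := d4_1 D10374 (iv D8037) (iv F13307)
theorem F17338 : act 3 n10374 = n8034 := d13_1 D10374 (iv D8034) D8033
def n10375 : Q := act 1 n8035
theorem D10375 : act 1 n8035 = n10375 := rfl
theorem F17339 : act 2 n10375 = n8037 := d5_2 D8035 D10375 F13315 (iv D6147) (iv F10113)
theorem F17340 : act 5 n8035 = n10375 := d11_0 F17339 (iv D8037) D8035
def n10376 : Q := act 3 n8035
theorem D10376 : act 3 n8035 = n10376 := rfl
def n10377 : Q := act 4 n8035
theorem D10377 : act 4 n8035 = n10377 := rfl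
theorem F17341 : act 0 n10377 = n9321 := d3_1 D10377 (iv F17336) F17335
theorem F17342 : act 2 n10377 = n8036 := d10_1 D10377 (iv D8036) D8035
def n10378 : Q := act 5 n8036
theorem D10378 : act 5 n8036 = n10378 := rfl
theorem F17343 : act 0 n10378 = n9322 := d4_1 D10378 (iv D9322) (iv F13312)
theorem F17344 : act 1 n10378 = n8039 := d8_1 D10378 (iv D8039) (iv F13313)
theorem F17345 : act 3 n10378 = n8041 := d13_1 D10378 (iv D8041) (iv F13314)
def n10379 : Q := act 4 n8037
theorem D10379 : act 4 n8037 = n10379 := rfl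
theorem F17346 : act 1 n10379 = n8038 := d7_1 D10379 (iv D8038) (iv F13315)
theorem F17347 : act 3 n10379 = n8206 := d12_1 D10379 (iv D8206) F10373 (iv F10116) (iv F13316)
def n10380 : Q := act 3 n8038
theorem D10380 : act 3 n8038 = n10380 := rfl
theorem F17348 : act 1 n10380 = n8206 := d6_1 D10380 (iv F17347) F17346
theorem F17349 : act 4 n10380 = n8040 := d12_2 D8038 D10380 (iv D8040) (iv D6149) (iv F10117)
def n10381 : Q := act 5 n8038
theorem D10381 : act 5 n8038 = n10381 := rfl
theorem F17350 : act 2 n10381 = n8039 := d11_1 D10381 (iv D8039) (iv F13317)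
theorem F17351 : act 4 n10381 = n8039 := d14_1 D10381 (iv D8039) (iv D6148) F10118 D8038
def n10382 : Q := act 2 n8040
theorem D10382 : act 2 n8040 = n10382 := rfl
theorem F17352 : act 5 n10382 = n8047 := d11_2 (iv F13320) D10382 (iv D8047)
theorem F17353 : act 3 n10382 = n8047 := d15_1 D10382 (iv D8047) (iv D6155) F7560 (iv F7539) (iv F10110) D8032 (iv F16986) F16985
def n10383 : Q := act 3 n8042
theorem D10383 : act 3 n8042 = n10383 := rfl
theorem F17354 : act 0 n10383 = n8905 := d2_1 D10383 (iv D8905) (iv F13325)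
theorem F17355 : act 1 n10383 = n8043 := d6_1 D10383 (iv D8043) (iv F13326)
theorem F17356 : act 4 n10383 = n8632 := d12_2 D8042 D10383 (iv D8632) (iv D6613) (iv F10128)
def n10384 : Q := act 5 n8042
theorem D10384 : act 5 n8042 = n10384 := rfl
theorem F17357 : act 0 n10384 = n8906 := d4_1 D10384 (iv D8906) (iv F13325)
theorem F17358 : act 1 n10384 = n8044 := d8_1 D10384 (iv D8044) (iv F13326)
theorem F17359 : act 2 n10384 = n9314 := d11_1 D10384 (iv D9314) (iv F13327)
theorem F17360 : act 4 n10384 = n8631 := d14_1 D10384 (iv D8631) (iv D6612) (iv F10129) D8042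
def n10385 : Q := act 2 n8043
theorem D10385 : act 2 n8043 = n10385 := rfl
theorem F17361 : act 0 n10385 = n8649 := d1_1 D10385 (iv D8649) (iv F13328)
theorem F17362 : act 4 n10385 = n8633 := d10_2 (iv F13329) D10385 (iv D8633)
def n10386 : Q := act 5 n8043
theorem D10386 : act 5 n8043 = n10386 := rfl
theorem F17363 : act 0 n10386 = n8648 := d4_1 D10386 F14316 (iv F13328)
theorem F17364 : act 3 n10386 = n8044 := d13_1 D10386 (iv D8044) D8043
def n10387 : Q := act 3 n8045
theorem D10387 : act 3 n8045 = n10387 := rfl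
theorem F17365 : act 0 n10387 = n8647 := d2_1 D10387 F14314 (iv F13333)
theorem F17366 : act 1 n10387 = n8202 := d6_1 D10387 F13609 (iv F13334)
theorem F17367 : act 5 n10387 = n8046 := d13_2 (iv F13336) D10387 (iv D8046)
def n10388 : Q := act 2 n8046
theorem D10388 : act 2 n8046 = n10388 := rfl
theorem F17368 : act 0 n10388 = n8646 := d1_1 D10388 (iv D8646) (iv F13337)
theorem F17369 : act 4 n10388 = n8047 := d10_2 (iv F13339) D10388 (iv D8047)
def n10389 : Q := act 1 n8047
theorem D10389 : act 1 n8047 = n10389 := rfl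
theorem F17370 : act 2 n10389 = n8203 := d5_2 D8047 D10389 (iv D8203) (iv D6287) (iv F10135)
def n10390 : Q := act 1 n8048
theorem D10390 : act 1 n8048 = n10390 := rfl
theorem F17371 : act 2 n10390 = n8090 := d5_2 D8048 D10390 (iv D8090) (iv D6196) (iv F10137)
theorem F17372 : act 4 n10390 = n8198 := d7_2 (iv F13341) D10390 (iv D8198)
def n10391 : Q := act 3 n8048
theorem D10391 : act 3 n8048 = n10391 := rfl
theorem F17373 : act 0 n10391 = n8051 := d2_1 D10391 (iv D8051) (iv F13340)
theorem F17374 : act 4 n10391 = n8051 := d12_2 (iv F13341) D10391 (iv D8051) F10142 (iv F10364)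
def n10392 : Q := act 5 n8048
theorem D10392 : act 5 n8048 = n10392 := rfl
theorem F17375 : act 0 n10392 = n8052 := d4_1 D10392 (iv D8052) (iv F13340)
theorem F17376 : act 2 n10392 = n8049 := d11_1 D10392 (iv D8049) D8048
def n10393 : Q := act 4 n8049
theorem D10393 : act 4 n8049 = n10393 := rfl
theorem F17377 : act 0 n10393 = n8053 := d3_1 D10393 (iv D8053) (iv F13342)
theorem F17378 : act 1 n10393 = n8095 := d7_1 D10393 (iv D8095) (iv F13343)
theorem F17379 : act 3 n10393 = n8171 := d12_1 D10393 (iv D8171) F10328 (iv F10141) (iv F13344)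
theorem F17380 : act 5 n10393 = n8172 := d14_2 D8049 D10393 F13559 F10331 (iv F10138)
def n10394 : Q := act 0 n8050
theorem D10394 : act 0 n8050 = n10394 := rfl
theorem F17381 : act 2 n10394 = n8054 := d1_2 (iv F13345) D10394 (iv D8054)
theorem F17382 : act 4 n10394 = n8207 := d3_2 (iv F13346) D10394 (iv D8207)
theorem F17383 : act 5 n10394 = n8083 := d4_2 F13347 D10394 F13402
def n10395 : Q := act 3 n8050
theorem D10395 : act 3 n8050 = n10395 := rfl
theorem F17384 : act 1 n10395 = n8051 := d6_1 D10395 (iv D8051) D8050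
theorem F17385 : act 5 n10395 = n8086 := d13_2 F13347 D10395 (iv D8086)
def n10396 : Q := act 2 n8051
theorem D10396 : act 2 n8051 = n10396 := rfl
def n10397 : Q := act 5 n8051
theorem D10397 : act 5 n8051 = n10397 := rfl
theorem F17386 : act 1 n10397 = n8086 := d8_1 D10397 (iv F17385) F17384
theorem F17387 : act 3 n10397 = n8052 := d13_1 D10397 (iv D8052) D8051
def n10398 : Q := act 4 n8052
theorem D10398 : act 4 n8052 = n10398 := rfl
theorem F17388 : act 1 n10398 = n8087 := d7_1 D10398 (iv D8087) (iv F13348)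
theorem F17389 : act 2 n10398 = n8053 := d10_1 D10398 (iv D8053) (iv F13349)
theorem F17390 : act 5 n10398 = n8185 := d14_2 D8052 D10398 F13578 F10347 (iv F10142)
def n10399 : Q := act 3 n8055
theorem D10399 : act 3 n8055 = n10399 := rfl
theorem F17391 : act 0 n10399 = n8056 := d2_1 D10399 (iv D8056) D8055
theorem F17392 : act 1 n10399 = n8068 := d6_1 D10399 (iv D8068) (iv F13357)
theorem F17393 : act 4 n10399 = n8122 := d12_2 (iv F13359) D10399 (iv D8122) (iv D6222) (iv F10157)
def n10400 : Q := act 2 n8056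
theorem D10400 : act 2 n8056 = n10400 := rfl
theorem F17394 : act 4 n10400 = n8124 := d10_2 (iv F13361) D10400 (iv D8124)
def n10401 : Q := act 4 n8057
theorem D10401 : act 4 n8057 = n10401 := rfl
theorem F17395 : act 0 n10401 = n8114 := d3_1 D10401 (iv D8114) (iv F13362)
theorem F17396 : act 1 n10401 = n8058 := d7_1 D10401 (iv D8058) (iv F13363)
theorem F17397 : act 2 n10401 = n8111 := d10_1 D10401 (iv D8111) (iv F13364)
def n10402 : Q := act 5 n8058
theorem D10402 : act 5 n8058 = n10402 := rfl
theorem F17398 : act 2 n10402 = n9405 := d11_1 D10402 (iv D9405) (iv F13366)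
theorem F17399 : act 4 n10402 = n9366 := d14_1 D10402 (iv D9366) (iv D7213) (iv F10162) D8058
def n10403 : Q := act 1 n8059
theorem D10403 : act 1 n8059 = n10403 := rfl
def n10404 : Q := act 3 n8059
theorem D10404 : act 3 n8059 = n10404 := rfl
theorem F17400 : act 0 n10404 = n8062 := d2_1 D10404 (iv D8062) (iv F13367)
theorem F17401 : act 2 n10404 = n8102 := d9_1 D10404 F13429 F10225 F7613 (iv F7587) (iv F9871) (iv F13018) D10193 F17013 (iv D8091) (iv D6196) (iv D4668) (iv F7583) D6168 D8059
theorem F17402 : act 5 n10404 = n8100 := d13_2 F17008 D10404 F17009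
def n10405 : Q := act 4 n8059
theorem D10405 : act 4 n8059 = n10405 := rfl
theorem F17403 : act 0 n10405 = n8063 := d3_1 D10405 (iv D8063) (iv F13367)
theorem F17404 : act 2 n10405 = n8060 := d10_1 D10405 (iv D8060) D8059
def n10406 : Q := act 5 n8060
theorem D10406 : act 5 n8060 = n10406 := rfl
theorem F17405 : act 0 n10406 = n8064 := d4_1 D10406 (iv D8064) (iv F13368)
theorem F17406 : act 1 n10406 = n9207 := d8_1 D10406 F15354 (iv F13369)
theorem F17407 : act 3 n10406 = n8067 := d13_1 D10406 (iv D8067) (iv F13370)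
theorem F17408 : act 4 n10406 = n9163 := d14_1 D10406 F17027 (iv D10200) F13028 D8060
def n10407 : Q := act 3 n8061
theorem D10407 : act 3 n8061 = n10407 := rfl
theorem F17409 : act 0 n10407 = n8065 := d2_1 D10407 (iv D8065) (iv F13371)
theorem F17410 : act 5 n10407 = n8068 := d13_2 (iv F13373) D10407 (iv D8068)
def n10408 : Q := act 2 n8062
theorem D10408 : act 2 n8062 = n10408 := rfl
theorem F17411 : act 0 n10408 = n8102 := d1_1 D10408 (iv F17401) F17400
theorem F17412 : act 3 n10408 = n8093 := d9_2 D8062 D10408 F13416 F10219 (iv F10168) (iv F13027) (iv F17007) (iv F17009) (iv D8100) (iv D6201) (iv D4670) (iv D3471) (iv F5603) D4648 D6170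
theorem F17413 : act 5 n10408 = n8091 := d11_2 F17012 D10408 (iv F17013)
def n10409 : Q := act 4 n8062
theorem D10409 : act 4 n8062 = n10409 := rfl
def n10410 : Q := act 3 n8063
theorem D10410 : act 3 n8063 = n10410 := rfl
def n10411 : Q := act 5 n8063
theorem D10411 : act 5 n8063 = n10411 := rfl
theorem F17414 : act 1 n10411 = n9134 := d8_1 D10411 (iv F17024) F17022
theorem F17415 : act 2 n10411 = n8064 := d11_1 D10411 (iv D8064) (iv F13374)
theorem F17416 : act 4 n10411 = n9161 := d14_1 D10411 F17016 (iv D10194) (iv F13019) D8063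
def n10412 : Q := act 2 n8065
theorem D10412 : act 2 n8065 = n10412 := rfl
theorem F17417 : act 1 n10412 = n8189 := d5_1 D10412 (iv D8189) F10349 (iv F10179) (iv F13378)
theorem F17418 : act 5 n10412 = n8072 := d11_2 (iv F13379) D10412 (iv D8072)
def n10413 : Q := act 3 n8066
theorem D10413 : act 3 n8066 = n10413 := rfl
theorem F17419 : act 0 n10413 = n8070 := d2_1 D10413 (iv D8070) (iv F13380)
theorem F17420 : act 4 n10413 = n8127 := d12_2 D8066 D10413 (iv D8127) (iv D6227) (iv F10181)
def n10414 : Q := act 5 n8066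
theorem D10414 : act 5 n8066 = n10414 := rfl
theorem F17421 : act 0 n10414 = n8071 := d4_1 D10414 (iv D8071) (iv F13380)
theorem F17422 : act 2 n10414 = n8067 := d11_1 D10414 (iv D8067) (iv F13381)
def n10415 : Q := act 2 n8068
theorem D10415 : act 2 n8068 = n10415 := rfl
theorem F17423 : act 0 n10415 = n8072 := d1_1 D10415 (iv D8072) (iv F13384)
def n10416 : Q := act 3 n8069
theorem D10416 : act 3 n8069 = n10416 := rfl
theorem F17424 : act 0 n10416 = n8127 := d2_1 D10416 (iv D8127) (iv F13385)
theorem F17425 : act 1 n10416 = n9242 := d6_1 D10416 F15406 (iv F13386)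
theorem F17426 : act 4 n10416 = n8070 := d12_2 D8069 D10416 (iv D8070) (iv D6179) D6178
def n10417 : Q := act 5 n8069
theorem D10417 : act 5 n8069 = n10417 := rfl
theorem F17427 : act 0 n10417 = n8128 := d4_1 D10417 (iv D8128) (iv F13385)
theorem F17428 : act 1 n10417 = n9366 := d8_1 D10417 (iv D9366) (iv F13386)
theorem F17429 : act 2 n10417 = n8125 := d11_1 D10417 (iv D8125) (iv F13387)
def n10418 : Q := act 2 n8070
theorem D10418 : act 2 n8070 = n10418 := rfl
def n10419 : Q := act 5 n8070
theorem D10419 : act 5 n8070 = n10419 := rfl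
theorem F17430 : act 1 n10419 = n9243 := d8_1 D10419 (iv D9243) (iv F13388)
theorem F17431 : act 3 n10419 = n8071 := d13_1 D10419 (iv D8071) D8070
def n10420 : Q := act 1 n8072
theorem D10420 : act 1 n8072 = n10420 := rfl
theorem F17432 : act 2 n10420 = n8073 := d5_2 D8072 D10420 (iv D8073) (iv D6182) (iv F10192)
theorem F17433 : act 5 n10420 = n8189 := d8_2 F17418 D10420 (iv F17417)
def n10421 : Q := act 3 n8072
theorem D10421 : act 3 n8072 = n10421 := rfl
def n10422 : Q := act 0 n8073
theorem D10422 : act 0 n8073 = n10422 := rfl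
theorem F17434 : act 3 n10422 = n8188 := d2_2 (iv F13391) D10422 F13582
theorem F17435 : act 5 n10422 = n8187 := d4_2 (iv F13392) D10422 F13581
def n10423 : Q := act 2 n8074
theorem D10423 : act 2 n8074 = n10423 := rfl
theorem F17436 : act 0 n10423 = n8076 := d1_1 D10423 (iv D8076) (iv F13393)
def n10424 : Q := act 4 n8074
theorem D10424 : act 4 n8074 = n10424 := rfl
theorem F17437 : act 0 n10424 = n8077 := d3_1 D10424 (iv D8077) (iv F13393)
def n10425 : Q := act 5 n8074
theorem D10425 : act 5 n8074 = n10425 := rfl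
theorem F17438 : act 0 n10425 = n8078 := d4_1 D10425 (iv D8078) (iv F13393)
theorem F17439 : act 3 n10425 = n8075 := d13_1 D10425 (iv D8075) D8074
def n10426 : Q := act 1 n8076
theorem D10426 : act 1 n8076 = n10426 := rfl
theorem F17440 : act 2 n10426 = n8078 := d5_2 D8076 D10426 F13397 (iv D6186) (iv F10196)
theorem F17441 : act 5 n8076 = n10426 := d11_0 F17440 (iv D8078) D8076
def n10427 : Q := act 3 n8076
theorem D10427 : act 3 n8076 = n10427 := rfl
def n10428 : Q := act 4 n8076
theorem D10428 : act 4 n8076 = n10428 := rfl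
theorem F17442 : act 2 n10428 = n8077 := d10_1 D10428 (iv D8077) D8076
def n10429 : Q := act 5 n8077
theorem D10429 : act 5 n8077 = n10429 := rfl
theorem F17443 : act 1 n10429 = n8081 := d8_1 D10429 (iv D8081) (iv F13396)
def n10430 : Q := act 4 n8078
theorem D10430 : act 4 n8078 = n10430 := rfl
theorem F17444 : act 1 n10430 = n8080 := d7_1 D10430 (iv D8080) (iv F13397)
def n10431 : Q := act 3 n8079
theorem D10431 : act 3 n8079 = n10431 := rfl
theorem F17445 : act 1 n10431 = n8082 := d6_1 D10431 (iv D8082) (iv F13399)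
def n10432 : Q := act 3 n8080
theorem D10432 : act 3 n8080 = n10432 := rfl
theorem F17446 : act 4 n10432 = n8082 := d12_2 D8080 D10432 (iv D8082) (iv D6188) (iv F10199)
def n10433 : Q := act 5 n8080
theorem D10433 : act 5 n8080 = n10433 := rfl
theorem F17447 : act 2 n10433 = n8081 := d11_1 D10433 (iv D8081) (iv F13401)
theorem F17448 : act 4 n10433 = n8081 := d14_1 D10433 (iv D8081) (iv D6187) F10200 D8080
def n10434 : Q := act 2 n8082
theorem D10434 : act 2 n8082 = n10434 := rfl
def n10435 : Q := act 1 n8083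
theorem D10435 : act 1 n8083 = n10435 := rfl
def n10436 : Q := act 3 n8083
theorem D10436 : act 3 n8083 = n10436 := rfl
theorem F17449 : act 0 n10436 = n8086 := d2_1 D10436 (iv D8086) (iv F13402)
def n10437 : Q := act 4 n8083
theorem D10437 : act 4 n8083 = n10437 := rfl
theorem F17450 : act 0 n10437 = n8087 := d3_1 D10437 (iv D8087) (iv F13402)
theorem F17451 : act 2 n10437 = n8084 := d10_1 D10437 (iv D8084) D8083
def n10438 : Q := act 5 n8084
theorem D10438 : act 5 n8084 = n10438 := rfl
theorem F17452 : act 0 n10438 = n8088 := d4_1 D10438 (iv D8088) (iv F13403)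
theorem F17453 : act 1 n10438 = n9245 := d8_1 D10438 (iv F16936) F16934
theorem F17454 : act 3 n10438 = n9398 := d13_1 D10438 (iv F16919) F16918
theorem F17455 : act 4 n10438 = n8190 := d14_1 D10438 F13585 (iv F13355) F13356 D8084
def n10439 : Q := act 3 n8085
theorem D10439 : act 3 n8085 = n10439 := rfl
theorem F17456 : act 0 n10439 = n8089 := d2_1 D10439 (iv D8089) (iv F13404)
theorem F17457 : act 1 n10439 = n9208 := d6_1 D10439 (iv F16940) F16938
theorem F17458 : act 4 n10439 = n8208 := d12_2 D8085 D10439 (iv D8208) (iv F13355) F13354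
theorem F17459 : act 5 n10439 = n9399 := d13_2 F16915 D10439 (iv F16913)
def n10440 : Q := act 2 n8086
theorem D10440 : act 2 n8086 = n10440 := rfl
def n10441 : Q := act 4 n8086
theorem D10441 : act 4 n8086 = n10441 := rfl
def n10442 : Q := act 3 n8087
theorem D10442 : act 3 n8087 = n10442 := rfl
def n10443 : Q := act 5 n8087
theorem D10443 : act 5 n8087 = n10443 := rfl
theorem F17460 : act 1 n10443 = n8185 := d8_1 D10443 (iv F17390) F17388
theorem F17461 : act 2 n10443 = n8088 := d11_1 D10443 (iv D8088) (iv F13405)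
theorem F17462 : act 4 n10443 = n8186 := d14_1 D10443 F13580 (iv F13346) (iv F13347) D8087
def n10444 : Q := act 2 n8089
theorem D10444 : act 2 n8089 = n10444 := rfl
theorem F17463 : act 1 n10444 = n9130 := d5_1 D10444 (iv D9130) F11627 (iv F10211) (iv F13409)
theorem F17464 : act 4 n10444 = n8209 := d10_2 (iv F13410) D10444 (iv D8209)
theorem F17465 : act 5 n10444 = n9391 := d11_2 (iv F13411) D10444 F15686
def n10445 : Q := act 0 n8090
theorem D10445 : act 0 n8090 = n10445 := rfl
theorem F17466 : act 1 n10445 = n8097 := d0_2 D8090 D10445 (iv D8097) (iv D6200) (iv F10214)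
def n10446 : Q := act 3 n8090
theorem D10446 : act 3 n8090 = n10446 := rfl
theorem F17467 : act 1 n10446 = n8091 := d6_1 D10446 (iv D8091) D8090
def n10447 : Q := act 4 n8090
theorem D10447 : act 4 n8090 = n10447 := rfl
theorem F17468 : act 1 n10447 = n8092 := d7_1 D10447 (iv D8092) D8090
theorem F17469 : act 2 n10447 = n8198 := d10_1 D10447 (iv F17372) F17371
def n10448 : Q := act 5 n8090
theorem D10448 : act 5 n8090 = n10448 := rfl
theorem F17470 : act 1 n10448 = n8093 := d8_1 D10448 (iv D8093) D8090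
def n10449 : Q := act 4 n8091
theorem D10449 : act 4 n8091 = n10449 := rfl
theorem F17471 : act 0 n10449 = n8101 := d3_1 D10449 (iv D8101) (iv F13412)
def n10450 : Q := act 3 n8092
theorem D10450 : act 3 n8092 = n10450 := rfl
theorem F17472 : act 0 n10450 = n8103 := d2_1 D10450 (iv D8103) (iv F13413)
theorem F17473 : act 2 n10450 = n10057 := d15_2 (iv F13414) D10450 (iv D10057) (iv D7764) (iv D5918) (iv F7638) (iv F10227) (iv D6204) (iv F10215)
def n10451 : Q := act 5 n8092
theorem D10451 : act 5 n8092 = n10451 := rfl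
theorem F17474 : act 0 n10451 = n8104 := d4_1 D10451 (iv D8104) (iv F13413)
theorem F17475 : act 2 n10451 = n8094 := d11_1 D10451 (iv D8094) (iv F13414)
def n10452 : Q := act 4 n8093
theorem D10452 : act 4 n8093 = n10452 := rfl
theorem F17476 : act 0 n10452 = n8105 := d3_1 D10452 (iv D8105) (iv F13415)
theorem F17477 : act 2 n10452 = n8095 := d10_1 D10452 (iv D8095) (iv F13416)
def n10453 : Q := act 4 n8094
theorem D10453 : act 4 n8094 = n10453 := rfl
theorem F17478 : act 0 n10453 = n8106 := d3_1 D10453 (iv D8106) (iv F13417)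
theorem F17479 : act 1 n10453 = n8172 := d7_1 D10453 F13559 (iv F13418)
theorem F17480 : act 3 n10453 = n8140 := d12_1 D10453 (iv D8140) F10300 (iv F10255) (iv F13419)
theorem F17481 : act 5 n10453 = n8095 := d14_2 D8094 D10453 (iv D8095) (iv D6198) D6197
def n10454 : Q := act 3 n8095
theorem D10454 : act 3 n8095 = n10454 := rfl
theorem F17482 : act 0 n10454 = n8107 := d2_1 D10454 (iv D8107) (iv F13420)
theorem F17483 : act 1 n10454 = n8171 := d6_1 D10454 (iv F17379) F17378
theorem F17484 : act 4 n10454 = n8096 := d12_2 D8095 D10454 (iv D8096) (iv D6199) (iv F10219)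
theorem F17485 : act 5 n10454 = n8140 := d13_2 F17481 D10454 (iv F17480)
def n10455 : Q := act 2 n8096
theorem D10455 : act 2 n8096 = n10455 := rfl
theorem F17486 : act 0 n10455 = n8108 := d1_1 D10455 (iv D8108) (iv F13421)
theorem F17487 : act 5 n10455 = n8113 := d11_2 (iv F13423) D10455 (iv D8113)
def n10456 : Q := act 4 n8097
theorem D10456 : act 4 n8097 = n10456 := rfl
theorem F17488 : act 0 n10456 = n8099 := d3_1 D10456 (iv D8099) D8097
theorem F17489 : act 2 n10456 = n8109 := d10_1 D10456 (iv D8109) (iv F13424)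
theorem F17490 : act 5 n9244 = n10456 := d11_0 F17489 (iv F13443) D9244
def n10457 : Q := act 4 n8098
theorem D10457 : act 4 n8098 = n10457 := rfl
theorem F17491 : act 1 n10457 = n8101 := d7_1 D10457 (iv D8101) (iv F13425)
def n10458 : Q := act 3 n8099
theorem D10458 : act 3 n8099 = n10458 := rfl
theorem F17492 : act 1 n10458 = n8103 := d6_1 D10458 (iv D8103) (iv F13426)
theorem F17493 : act 5 n10458 = n9246 := d13_2 F13428 D10458 (iv D9246)
def n10459 : Q := act 1 n8100
theorem D10459 : act 1 n8100 = n10459 := rfl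
def n10460 : Q := act 4 n8100
theorem D10460 : act 4 n8100 = n10460 := rfl
theorem F17494 : act 2 n10460 = n8101 := d10_1 D10460 (iv D8101) D8100
def n10461 : Q := act 3 n8101
theorem D10461 : act 3 n8101 = n10461 := rfl
theorem F17495 : act 4 n10461 = n8103 := d12_2 D8101 D10461 (iv D8103) (iv D6202) D6201
def n10462 : Q := act 5 n8101
theorem D10462 : act 5 n8101 = n10462 := rfl
def n10463 : Q := act 4 n8102
theorem D10463 : act 4 n8102 = n10463 := rfl
def n10464 : Q := act 2 n8103
theorem D10464 : act 2 n8103 = n10464 := rfl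
theorem F17496 : act 0 n10464 = n10057 := d1_1 D10464 (iv F17473) F17472
theorem F17497 : act 3 n10464 = n10051 := d15_3 (iv F10224) D8103 D10464 (iv D10051) (iv D7759) (iv F10254) (iv F13419) (iv D8094) F10215
def n10465 : Q := act 5 n8103
theorem D10465 : act 5 n8103 = n10465 := rfl
theorem F17498 : act 1 n10465 = n9246 := d8_1 D10465 (iv F17493) F17492
theorem F17499 : act 3 n10465 = n8104 := d13_1 D10465 (iv D8104) D8103
def n10466 : Q := act 4 n8104
theorem D10466 : act 4 n8104 = n10466 := rfl
theorem F17500 : act 1 n10466 = n9247 := d7_1 D10466 (iv D9247) (iv F13430)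
theorem F17501 : act 2 n10466 = n8106 := d10_1 D10466 (iv D8106) (iv F13431)
theorem F17502 : act 5 n10466 = n8105 := d14_2 D8104 D10466 (iv D8105) (iv D6203) D6202
def n10467 : Q := act 3 n8105
theorem D10467 : act 3 n8105 = n10467 := rfl
def n10468 : Q := act 2 n8107
theorem D10468 : act 2 n8107 = n10468 := rfl
theorem F17503 : act 1 n10468 = n8163 := d5_1 D10468 F13544 F10319 (iv F10239) (iv F13436)
theorem F17504 : act 4 n10468 = n8108 := d10_2 (iv F13437) D10468 (iv D8108)
theorem F17505 : act 5 n10468 = n8146 := d11_2 (iv F13438) D10468 F13519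
def n10469 : Q := act 1 n8108
theorem D10469 : act 1 n8108 = n10469 := rfl
theorem F17506 : act 2 n10469 = n8110 := d5_2 D8108 D10469 (iv D8110) (iv D6211) (iv F10229)
theorem F17507 : act 4 n10469 = n8163 := d7_2 F17504 D10469 (iv F17503)
theorem F17508 : act 5 n10469 = n8118 := d8_2 (iv F13439) D10469 (iv D8118)
def n10470 : Q := act 3 n8108
theorem D10470 : act 3 n8108 = n10470 := rfl
theorem F17509 : act 5 n10470 = n8119 := d13_2 (iv F13439) D10470 (iv D8119)
def n10471 : Q := act 0 n8110
theorem D10471 : act 0 n8110 = n10471 := rfl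
theorem F17510 : act 1 n10471 = n8188 := d0_2 D8110 D10471 F13582 F10350 (iv F10242)
theorem F17511 : act 4 n10471 = n8158 := d3_2 (iv F13444) D10471 F13539
theorem F17512 : act 5 n10471 = n8120 := d4_2 (iv F13445) D10471 (iv D8120)
def n10472 : Q := act 3 n8111
theorem D10472 : act 3 n8111 = n10472 := rfl
theorem F17513 : act 0 n10472 = n8115 := d2_1 D10472 (iv D8115) (iv F13446)
theorem F17514 : act 1 n10472 = n8798 := d6_1 D10472 (iv D8798) (iv F13447)
theorem F17515 : act 4 n10472 = n8112 := d12_2 D8111 D10472 (iv D8112) (iv D6213) D6212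
def n10473 : Q := act 5 n8111
theorem D10473 : act 5 n8111 = n10473 := rfl
theorem F17516 : act 0 n10473 = n8116 := d4_1 D10473 (iv D8116) (iv F13446)
theorem F17517 : act 1 n10473 = n8799 := d8_1 D10473 (iv D8799) (iv F13447)
theorem F17518 : act 4 n10473 = n8125 := d14_1 D10473 (iv D8125) (iv D6225) (iv F10247) D8111
def n10474 : Q := act 2 n8112
theorem D10474 : act 2 n8112 = n10474 := rfl
theorem F17519 : act 0 n10474 = n8117 := d1_1 D10474 (iv D8117) (iv F13448)
theorem F17520 : act 5 n10474 = n10051 := d11_2 (iv F13450) D10474 (iv D10051)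
def n10475 : Q := act 1 n8113
theorem D10475 : act 1 n8113 = n10475 := rfl
theorem F17521 : act 2 n10475 = n8166 := d5_2 D8113 D10475 F13547 F10323 (iv F10257)
theorem F17522 : act 4 n10475 = n8137 := d7_2 (iv F13452) D10475 (iv D8137)
def n10476 : Q := act 3 n8113
theorem D10476 : act 3 n8113 = n10476 := rfl
theorem F17523 : act 0 n10476 = n8119 := d2_1 D10476 (iv D8119) (iv F13451)
def n10477 : Q := act 3 n8114
theorem D10477 : act 3 n8114 = n10477 := rfl
theorem F17524 : act 1 n10477 = n8262 := d6_1 D10477 (iv D8262) (iv F13453)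
def n10478 : Q := act 5 n8114
theorem D10478 : act 5 n8114 = n10478 := rfl
theorem F17525 : act 1 n10478 = n8263 := d8_1 D10478 (iv D8263) (iv F13453)
theorem F17526 : act 2 n10478 = n8116 := d11_1 D10478 (iv D8116) (iv F13454)
theorem F17527 : act 4 n10478 = n8128 := d14_1 D10478 (iv D8128) (iv D6227) (iv F10260) D8114
def n10479 : Q := act 2 n8115
theorem D10479 : act 2 n8115 = n10479 := rfl
theorem F17528 : act 4 n10479 = n8117 := d10_2 (iv F13456) D10479 (iv D8117)
def n10480 : Q := act 5 n8115
theorem D10480 : act 5 n8115 = n10480 := rfl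
theorem F17529 : act 1 n10480 = n8134 := d8_1 D10480 F13490 (iv F13455)
theorem F17530 : act 3 n10480 = n8116 := d13_1 D10480 (iv D8116) D8115
theorem F17531 : act 4 n10480 = n9042 := d14_1 D10480 (iv D9042) F11492 (iv F10263) (iv F13456)
def n10481 : Q := act 1 n8117
theorem D10481 : act 1 n8117 = n10481 := rfl
theorem F17532 : act 2 n10481 = n8136 := d5_2 D8117 D10481 (iv D8136) (iv D6235) (iv F10262)
theorem F17533 : act 5 n10481 = n9063 := d8_2 (iv F13459) D10481 F15069
def n10482 : Q := act 3 n8117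
theorem D10482 : act 3 n8117 = n10482 := rfl
theorem F17534 : act 5 n10482 = n10057 := d13_2 (iv F13459) D10482 (iv D10057)
def n10483 : Q := act 0 n8118
theorem D10483 : act 0 n8118 = n10483 := rfl
theorem F17535 : act 2 n10483 = n8120 := d1_2 (iv F13460) D10483 (iv D8120)
theorem F17536 : act 4 n10483 = n8141 := d3_2 (iv F13461) D10483 (iv D8141)
def n10484 : Q := act 3 n8118
theorem D10484 : act 3 n8118 = n10484 := rfl
theorem F17537 : act 1 n10484 = n8119 := d6_1 D10484 (iv D8119) D8118
def n10485 : Q := act 2 n8119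
theorem D10485 : act 2 n8119 = n10485 := rfl
def n10486 : Q := act 4 n8119
theorem D10486 : act 4 n8119 = n10486 := rfl
theorem F17538 : act 3 n10486 = n8144 := d12_1 D10486 (iv D8144) (iv D6239) (iv F10264) D8119
def n10487 : Q := act 3 n8120
theorem D10487 : act 3 n8120 = n10487 := rfl
theorem F17539 : act 0 n10487 = n8121 := d2_1 D10487 (iv D8121) D8120
theorem F17540 : act 1 n10487 = n8187 := d6_1 D10487 (iv D8187) (iv F13462)
theorem F17541 : act 4 n10487 = n8159 := d12_2 (iv F13463) D10487 (iv D8159) (iv D6251) (iv F10307)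
def n10488 : Q := act 2 n8121
theorem D10488 : act 2 n8121 = n10488 := rfl
theorem F17542 : act 4 n10488 = n8164 := d10_2 (iv F13465) D10488 (iv D8164)
def n10489 : Q := act 2 n8122
theorem D10489 : act 2 n8122 = n10489 := rfl
theorem F17543 : act 0 n10489 = n8124 := d1_1 D10489 (iv D8124) (iv F13466)
def n10490 : Q := act 3 n8124
theorem D10490 : act 3 n8124 = n10490 := rfl
def n10491 : Q := act 3 n8126
theorem D10491 : act 3 n8126 = n10491 := rfl
theorem F17544 : act 1 n10491 = n8127 := d6_1 D10491 (iv D8127) (iv F13472)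
def n10492 : Q := act 5 n8126
theorem D10492 : act 5 n8126 = n10492 := rfl
theorem F17545 : act 1 n10492 = n8128 := d8_1 D10492 (iv D8128) (iv F13472)
theorem F17546 : act 2 n10492 = n8131 := d11_1 D10492 (iv D8131) (iv F13473)
theorem F17547 : act 4 n10492 = n8263 := d14_1 D10492 (iv D8263) (iv D6332) (iv F10276) D8126
def n10493 : Q := act 2 n8127
theorem D10493 : act 2 n8127 = n10493 := rfl
def n10494 : Q := act 5 n8127
theorem D10494 : act 5 n8127 = n10494 := rfl
theorem F17548 : act 3 n10494 = n8128 := d13_1 D10494 (iv D8128) D8127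
def n10495 : Q := act 3 n8129
theorem D10495 : act 3 n8129 = n10495 := rfl
theorem F17549 : act 0 n10495 = n8130 := d2_1 D10495 (iv D8130) (iv F13475)
theorem F17550 : act 1 n10495 = n8736 := d6_1 D10495 (iv D8736) (iv F13476)
theorem F17551 : act 4 n10495 = n8258 := d12_2 D8129 D10495 (iv D8258) F10437 (iv F10281)
def n10496 : Q := act 5 n8129
theorem D10496 : act 5 n8129 = n10496 := rfl
theorem F17552 : act 0 n10496 = n8131 := d4_1 D10496 (iv D8131) (iv F13475)
theorem F17553 : act 1 n10496 = n8737 := d8_1 D10496 (iv D8737) (iv F13476)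
theorem F17554 : act 4 n10496 = n8261 := d14_1 D10496 (iv D8261) (iv D6331) (iv F10282) D8129
def n10497 : Q := act 2 n8130
theorem D10497 : act 2 n8130 = n10497 := rfl
theorem F17555 : act 4 n10497 = n8259 := d10_2 (iv F13478) D10497 (iv D8259)
def n10498 : Q := act 5 n8130
theorem D10498 : act 5 n8130 = n10498 := rfl
theorem F17556 : act 1 n10498 = n8133 := d8_1 D10498 (iv D8133) (iv F13477)
theorem F17557 : act 3 n10498 = n8131 := d13_1 D10498 (iv D8131) D8130
def n10499 : Q := act 1 n8132
theorem D10499 : act 1 n8132 = n10499 := rfl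
theorem F17558 : act 3 n10499 = n10094 := d6_2 (iv F13483) D10499 F16813
theorem F17559 : act 4 n10499 = n8260 := d7_2 (iv F13482) D10499 (iv D8260)
theorem F17560 : act 5 n10499 = n10093 := d8_2 F13484 D10499 F16812
def n10500 : Q := act 2 n8134
theorem D10500 : act 2 n8134 = n10500 := rfl
theorem F17561 : act 0 n10500 = n8804 := d1_1 D10500 F14622 (iv F13488)
theorem F17562 : act 3 n10500 = n8257 := d9_2 D8134 D10500 F13705 (iv D6736) F8386 F6249 (iv F6257) D5123 D6746 D8803 F14620 F13879 F10572 F7910 (iv F10290)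
theorem F17563 : act 4 n10500 = n8254 := d10_2 (iv F13489) D10500 F13700
theorem F17564 : act 5 n10500 = n8135 := d11_2 (iv F13490) D10500 (iv D8135)
def n10501 : Q := act 1 n8135
theorem D10501 : act 1 n8135 = n10501 := rfl
theorem F17565 : act 4 n10501 = n8136 := d7_2 (iv F13492) D10501 (iv D8136)
def n10502 : Q := act 3 n8135
theorem D10502 : act 3 n8135 = n10502 := rfl
theorem F17566 : act 0 n10502 = n8803 := d2_1 D10502 (iv D8803) (iv F13491)
theorem F17567 : act 2 n10502 = n8792 := d9_1 D10502 F14600 F11148 F8388 (iv F8400) (iv F11164) (iv F14622) F14623 (iv D8349) (iv D6400) F7909 F5853 (iv F7659) D6234 D8135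
theorem F17568 : act 4 n10502 = n8805 := d12_2 (iv F13492) D10502 F14626 F11504 (iv F10295)
theorem F17569 : act 5 n10502 = n8257 := d13_2 F17564 D10502 (iv F17562)
def n10503 : Q := act 0 n8136
theorem D10503 : act 0 n8136 = n10503 := rfl
theorem F17570 : act 1 n10503 = n9066 := d0_2 D8136 D10503 (iv D9066) (iv D6958) (iv F10294)
theorem F17571 : act 3 n10503 = n9045 := d2_2 (iv F13493) D10503 (iv D9045)
theorem F17572 : act 5 n10503 = n9062 := d4_2 (iv F13494) D10503 F15067
def n10504 : Q := act 0 n8137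
theorem D10504 : act 0 n8137 = n10504 := rfl
theorem F17573 : act 1 n10504 = n8141 := d0_2 D8137 D10504 (iv D8141) (iv D6238) (iv F10297)
theorem F17574 : act 2 n10504 = n8165 := d1_2 (iv F13495) D10504 (iv D8165)
theorem F17575 : act 5 n8155 = n10504 := d11_0 F17574 (iv F17150) F17148
theorem F17576 : act 3 n9263 = n10504 := d15_1 D9263 F17574 F13546 (iv D7123) (iv D5419) (iv F8694) D6965 (iv F15013) F15011
def n10505 : Q := act 3 n8137
theorem D10505 : act 3 n8137 = n10505 := rfl
theorem F17577 : act 0 n10505 = n9263 := d2_1 D10505 F17576 (iv D10504)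
theorem F17578 : act 1 n10505 = n8138 := d6_1 D10505 (iv D8138) D8137
theorem F17579 : act 2 n10505 = n9030 := d15_2 (iv F13495) D10505 F15012 F11548 (iv F11696) (iv F15308) (iv F17149) F17150 (iv D8165)
theorem F17580 : act 5 n9074 = n10505 := d11_0 F17579 F15013 D9074
def n10506 : Q := act 5 n8137
theorem D10506 : act 5 n8137 = n10506 := rfl
theorem F17581 : act 0 n10506 = n8155 := d4_1 D10506 F17575 (iv D10504)
theorem F17582 : act 1 n10506 = n8139 := d8_1 D10506 (iv D8139) D8137
theorem F17583 : act 2 n10506 = n8167 := d11_1 D10506 (iv D8167) (iv F13495)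
theorem F17584 : act 3 n10506 = n9074 := d13_1 D10506 F17580 (iv D10505)
def n10507 : Q := act 4 n8138
theorem D10507 : act 4 n8138 = n10507 := rfl
theorem F17585 : act 0 n10507 = n8144 := d3_1 D10507 (iv D8144) (iv F13496)
theorem F17586 : act 2 n10507 = n9027 := d10_1 D10507 (iv D9027) (iv F13497)
def n10508 : Q := act 4 n8139
theorem D10508 : act 4 n8139 = n10508 := rfl
theorem F17587 : act 0 n10508 = n8146 := d3_1 D10508 (iv D8146) (iv F13499)
theorem F17588 : act 2 n10508 = n8140 := d10_1 D10508 (iv D8140) (iv F13500)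
def n10509 : Q := act 4 n8142
theorem D10509 : act 4 n8142 = n10509 := rfl
theorem F17589 : act 0 n10509 = n10023 := d3_1 D10509 (iv D10023) (iv F13507)
theorem F17590 : act 1 n10509 = n8144 := d7_1 D10509 (iv D8144) (iv F13508)
theorem F17591 : act 2 n10509 = n10019 := d10_1 D10509 (iv D10019) (iv F13510)
def n10510 : Q := act 1 n8143
theorem D10510 : act 1 n8143 = n10510 := rfl
theorem F17592 : act 0 n10510 = n9018 := d0_1 D10510 F14985 F11457 (iv F11472) (iv F13511)
theorem F17593 : act 2 n10510 = n9268 := d5_2 D8143 D10510 F15456 (iv F13510) F13508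
theorem F17594 : act 3 n10510 = n9017 := d6_2 (iv F13512) D10510 F14982
theorem F17595 : act 5 n10510 = n9079 := d8_2 F13513 D10510 F15102
def n10511 : Q := act 4 n8143
theorem D10511 : act 4 n8143 = n10511 := rfl
theorem F17596 : act 0 n10511 = n9027 := d3_1 D10511 (iv D9027) (iv F13511)
theorem F17597 : act 2 n10511 = n8144 := d10_1 D10511 (iv D8144) D8143
def n10512 : Q := act 5 n8144
theorem D10512 : act 5 n8144 = n10512 := rfl
def n10513 : Q := act 4 n8145
theorem D10513 : act 4 n8145 = n10513 := rfl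
theorem F17598 : act 0 n10513 = n10052 := d3_1 D10513 (iv D10052) (iv F13514)
theorem F17599 : act 1 n10513 = n8161 := d7_1 D10513 (iv D8161) (iv F13515)
theorem F17600 : act 2 n10513 = n10048 := d10_1 D10513 (iv D10048) (iv F13516)
def n10514 : Q := act 3 n8146
theorem D10514 : act 3 n8146 = n10514 := rfl
theorem F17601 : act 1 n10514 = n8162 := d6_1 D10514 (iv D8162) (iv F13518)
def n10515 : Q := act 1 n8147
theorem D10515 : act 1 n8147 = n10515 := rfl
theorem F17602 : act 3 n10515 = n9363 := d6_2 (iv F13521) D10515 F15647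
theorem F17603 : act 5 n10515 = n9362 := d8_2 F13522 D10515 F15646
def n10516 : Q := act 4 n8148
theorem D10516 : act 4 n8148 = n10516 := rfl
theorem F17604 : act 0 n10516 = n8154 := d3_1 D10516 (iv D8154) (iv F13523)
theorem F17605 : act 2 n10516 = n9364 := d10_1 D10516 (iv D9364) (iv F13524)
def n10517 : Q := act 1 n8149
theorem D10517 : act 1 n8149 = n10517 := rfl
theorem F17606 : act 4 n10517 = n8151 := d7_2 (iv F13526) D10517 (iv D8151)
def n10518 : Q := act 3 n8149
theorem D10518 : act 3 n8149 = n10518 := rfl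
def n10519 : Q := act 5 n8149
theorem D10519 : act 5 n8149 = n10519 := rfl
theorem F17607 : act 2 n10519 = n8150 := d11_1 D10519 (iv D8150) D8149
def n10520 : Q := act 4 n8150
theorem D10520 : act 4 n8150 = n10520 := rfl
theorem F17608 : act 5 n10520 = n8154 := d14_2 D8150 D10520 (iv D8154) (iv D6248) (iv F10312)
def n10521 : Q := act 0 n8151
theorem D10521 : act 0 n8151 = n10521 := rfl
def n10522 : Q := act 3 n8151
theorem D10522 : act 3 n8151 = n10522 := rfl
theorem F17609 : act 1 n10522 = n8152 := d6_1 D10522 (iv D8152) D8151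
theorem F17610 : act 5 n9353 = n10522 := d8_0 F17609 F13530 D9353
def n10523 : Q := act 5 n8151
theorem D10523 : act 5 n8151 = n10523 := rfl
theorem F17611 : act 1 n10523 = n8153 := d8_1 D10523 (iv D8153) D8151
theorem F17612 : act 3 n10523 = n9353 := d13_1 D10523 F17610 (iv D10522)
def n10524 : Q := act 4 n8152
theorem D10524 : act 4 n8152 = n10524 := rfl
theorem F17613 : act 0 n10524 = n9365 := d3_1 D10524 (iv D9365) (iv F13528)
theorem F17614 : act 2 n10524 = n9354 := d10_1 D10524 (iv D9354) (iv F13529)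
def n10525 : Q := act 4 n8153
theorem D10525 : act 4 n8153 = n10525 := rfl
theorem F17615 : act 0 n10525 = n9364 := d3_1 D10525 (iv D9364) (iv F13531)
theorem F17616 : act 2 n10525 = n8154 := d10_1 D10525 (iv D8154) (iv F13532)
def n10526 : Q := act 3 n8155
theorem D10526 : act 3 n8155 = n10526 := rfl
theorem F17617 : act 0 n10526 = n9074 := d2_1 D10526 (iv F17584) F17581
theorem F17618 : act 1 n10526 = n8156 := d6_1 D10526 (iv D8156) D8155
theorem F17619 : act 2 n10526 = n9073 := d9_1 D10526 (iv D9073) F11542 (iv F8932) (iv F9736) (iv F10321) (iv F13495) D10505 F17579 F15012 F11548 (iv F11696) (iv F15308) (iv F17149) F17148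
theorem F17620 : act 5 n10526 = n9263 := d13_2 (iv F17575) D10526 F17576
def n10527 : Q := act 4 n8155
theorem D10527 : act 4 n8155 = n10527 := rfl
theorem F17621 : act 1 n10527 = n8157 := d7_1 D10527 (iv D8157) D8155
def n10528 : Q := act 4 n8156
theorem D10528 : act 4 n8156 = n10528 := rfl
theorem F17622 : act 0 n10528 = n8161 := d3_1 D10528 (iv D8161) (iv F13534)
theorem F17623 : act 2 n10528 = n9248 := d10_1 D10528 (iv D9248) (iv F13535)
def n10529 : Q := act 3 n8157
theorem D10529 : act 3 n8157 = n10529 := rfl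
theorem F17624 : act 0 n10529 = n8162 := d2_1 D10529 (iv D8162) (iv F13537)
def n10530 : Q := act 5 n8157
theorem D10530 : act 5 n8157 = n10530 := rfl
theorem F17625 : act 0 n10530 = n8163 := d4_1 D10530 (iv D8163) (iv F13537)
theorem F17626 : act 2 n10530 = n8158 := d11_1 D10530 (iv D8158) (iv F13538)
def n10531 : Q := act 2 n8159
theorem D10531 : act 2 n8159 = n10531 := rfl
theorem F17627 : act 0 n10531 = n8164 := d1_1 D10531 (iv D8164) (iv F13540)
def n10532 : Q := act 1 n8160
theorem D10532 : act 1 n8160 = n10532 := rfl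
theorem F17628 : act 0 n10532 = n8470 := d0_1 D10532 F14077 F10753 (iv F11764) (iv F13541)
theorem F17629 : act 2 n10532 = n9079 := d5_2 D8160 D10532 F15102 (iv F13516) F13515
theorem F17630 : act 3 n10532 = n8469 := d6_2 (iv F13542) D10532 F14073
theorem F17631 : act 5 n10532 = n9268 := d8_2 (iv F13543) D10532 F15456
def n10533 : Q := act 4 n8160
theorem D10533 : act 4 n8160 = n10533 := rfl
theorem F17632 : act 0 n10533 = n9248 := d3_1 D10533 (iv D9248) (iv F13541)
theorem F17633 : act 2 n10533 = n8161 := d10_1 D10533 (iv D8161) D8160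
def n10534 : Q := act 3 n8161
theorem D10534 : act 3 n8161 = n10534 := rfl
theorem F17634 : act 4 n10534 = n8162 := d12_2 D8161 D10534 (iv D8162) (iv D6253) D6252
def n10535 : Q := act 5 n8161
theorem D10535 : act 5 n8161 = n10535 := rfl
def n10536 : Q := act 2 n8162
theorem D10536 : act 2 n8162 = n10536 := rfl
def n10537 : Q := act 5 n8162
theorem D10537 : act 5 n8162 = n10537 := rfl
theorem F17635 : act 3 n10537 = n8163 := d13_1 D10537 (iv D8163) D8162
def n10538 : Q := act 3 n8164
theorem D10538 : act 3 n8164 = n10538 := rfl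
def n10539 : Q := act 4 n8165
theorem D10539 : act 4 n8165 = n10539 := rfl
theorem F17636 : act 0 n10539 = n8166 := d3_1 D10539 (iv D8166) D8165
theorem F17637 : act 1 n10539 = n8174 := d7_1 D10539 (iv D8174) (iv F13545)
def n10540 : Q := act 3 n8166
theorem D10540 : act 3 n8166 = n10540 := rfl
theorem F17638 : act 1 n10540 = n8168 := d6_1 D10540 (iv D8168) (iv F13547)
theorem F17639 : act 4 n10540 = n10114 := d12_2 D8166 D10540 (iv D10114) (iv D7813) (iv F10321)
def n10541 : Q := act 5 n8166
theorem D10541 : act 5 n8166 = n10541 := rfl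
theorem F17640 : act 1 n10541 = n8169 := d8_1 D10541 (iv D8169) (iv F13547)
def n10542 : Q := act 4 n8167
theorem D10542 : act 4 n8167 = n10542 := rfl
theorem F17641 : act 1 n10542 = n8170 := d7_1 D10542 (iv D8170) (iv F13548)
def n10543 : Q := act 2 n8168
theorem D10543 : act 2 n8168 = n10543 := rfl
theorem F17642 : act 0 n10543 = n8181 := d1_1 D10543 (iv D8181) (iv F13550)
theorem F17643 : act 4 n10543 = n10116 := d10_2 (iv F13551) D10543 (iv D10116)
theorem F17644 : act 3 n10543 = n8205 := d15_1 D10543 F13610 F10373 F7721 (iv F7700) (iv F10341) (iv F13575) (iv D8182) (iv F13550)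
theorem F17645 : act 5 n8204 = n10543 := d13_0 F17644 (iv D8205) D8204
def n10544 : Q := act 5 n8168
theorem D10544 : act 5 n8168 = n10544 := rfl
theorem F17646 : act 0 n10544 = n8182 := d4_1 D10544 (iv D8182) (iv F13550)
theorem F17647 : act 2 n10544 = n8204 := d11_1 D10544 F17645 (iv D10543)
theorem F17648 : act 3 n10544 = n8169 := d13_1 D10544 (iv D8169) D8168
def n10545 : Q := act 4 n8169
theorem D10545 : act 4 n8169 = n10545 := rfl
theorem F17649 : act 0 n10545 = n8183 := d3_1 D10545 (iv D8183) (iv F13552)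
theorem F17650 : act 2 n10545 = n8171 := d10_1 D10545 (iv D8171) (iv F13553)
theorem F17651 : act 5 n10545 = n8170 := d14_2 D8169 D10545 (iv D8170) (iv D6258) D6257
def n10546 : Q := act 3 n8170
theorem D10546 : act 3 n8170 = n10546 := rfl
theorem F17652 : act 0 n10546 = n8184 := d2_1 D10546 (iv D8184) (iv F13554)
theorem F17653 : act 4 n10546 = n9303 := d12_2 D8170 D10546 (iv D9303) (iv D7147) (iv F10326)
def n10547 : Q := act 2 n8172
theorem D10547 : act 2 n8172 = n10547 := rfl
theorem F17654 : act 0 n10547 = n8185 := d1_1 D10547 (iv D8185) (iv F13558)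
theorem F17655 : act 4 n10547 = n8173 := d10_2 (iv F13559) D10547 (iv D8173)
def n10548 : Q := act 1 n8173
theorem D10548 : act 1 n8173 = n10548 := rfl
theorem F17656 : act 3 n10548 = n8186 := d6_2 (iv F13561) D10548 (iv D8186)
theorem F17657 : act 5 n10548 = n8198 := d8_2 (iv F13562) D10548 (iv D8198)
def n10549 : Q := act 3 n8174
theorem D10549 : act 3 n8174 = n10549 := rfl
theorem F17658 : act 0 n10549 = n8176 := d2_1 D10549 (iv D8176) (iv F13563)
def n10550 : Q := act 5 n8174
theorem D10550 : act 5 n8174 = n10550 := rfl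
theorem F17659 : act 0 n10550 = n8177 := d4_1 D10550 (iv D8177) (iv F13563)
theorem F17660 : act 2 n10550 = n8188 := d11_1 D10550 (iv D8188) (iv F13564)
def n10551 : Q := act 3 n8175
theorem D10551 : act 3 n8175 = n10551 := rfl
theorem F17661 : act 1 n10551 = n8178 := d6_1 D10551 (iv D8178) (iv F13565)
theorem F17662 : act 4 n10551 = n8176 := d12_2 D8175 D10551 (iv D8176) (iv D6264) D6263
def n10552 : Q := act 5 n8175
theorem D10552 : act 5 n8175 = n10552 := rfl
theorem F17663 : act 1 n10552 = n8179 := d8_1 D10552 (iv D8179) (iv F13565)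
def n10553 : Q := act 2 n8176
theorem D10553 : act 2 n8176 = n10553 := rfl
def n10554 : Q := act 5 n8176
theorem D10554 : act 5 n8176 = n10554 := rfl
theorem F17664 : act 1 n10554 = n8182 := d8_1 D10554 (iv D8182) (iv F13566)
theorem F17665 : act 3 n10554 = n8177 := d13_1 D10554 (iv D8177) D8176
def n10555 : Q := act 2 n8178
theorem D10555 : act 2 n8178 = n10555 := rfl
theorem F17666 : act 0 n10555 = n10116 := d1_1 D10555 (iv D10116) (iv F13569)
theorem F17667 : act 4 n10555 = n8181 := d10_2 (iv F13570) D10555 (iv D8181)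
def n10556 : Q := act 5 n8178
theorem D10556 : act 5 n8178 = n10556 := rfl
theorem F17668 : act 0 n10556 = n10117 := d4_1 D10556 (iv D10117) (iv F13569)
theorem F17669 : act 3 n10556 = n8179 := d13_1 D10556 (iv D8179) D8178
def n10557 : Q := act 4 n8179
theorem D10557 : act 4 n8179 = n10557 := rfl
theorem F17670 : act 0 n10557 = n9304 := d3_1 D10557 F15542 (iv F13571)
theorem F17671 : act 2 n10557 = n9300 := d10_1 D10557 F15535 (iv F13572)
theorem F17672 : act 5 n10557 = n8180 := d14_2 D8179 D10557 (iv D8180) (iv D6266) D6265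
def n10558 : Q := act 3 n8180
theorem D10558 : act 3 n8180 = n10558 := rfl
theorem F17673 : act 0 n10558 = n9303 := d2_1 D10558 (iv D9303) (iv F13573)
theorem F17674 : act 4 n10558 = n8184 := d12_2 D8180 D10558 (iv D8184) (iv D6269) (iv F10340)
def n10559 : Q := act 1 n8181
theorem D10559 : act 1 n8181 = n10559 := rfl
def n10560 : Q := act 3 n8181
theorem D10560 : act 3 n8181 = n10560 := rfl
theorem F17675 : act 0 n10560 = n8205 := d2_1 D10560 (iv F17644) F17642
theorem F17676 : act 2 n10560 = n8197 := d9_1 D10560 F13598 F10362 (iv F10328) (iv F13553) (iv F17648) F17647 (iv D8204) (iv D6287) (iv D4742) F5703 (iv F5690) (iv F7697) D6267 D8181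
theorem F17677 : act 5 n10560 = n8196 := d15_8 (iv D6287) (iv D4742) F5703 (iv F5690) (iv F7697) D6267 D8181 D10560 F13596
def n10561 : Q := act 5 n8181
theorem D10561 : act 5 n8181 = n10561 := rfl
theorem F17678 : act 0 n10561 = n8204 := d4_1 D10561 F17645 F17642
theorem F17679 : act 2 n10561 = n8182 := d11_1 D10561 (iv D8182) D8181
theorem F17680 : act 3 n10561 = n8196 := d13_1 D10561 (iv F17677) (iv D10560)
def n10562 : Q := act 4 n8182
theorem D10562 : act 4 n8182 = n10562 := rfl
def n10563 : Q := act 3 n8183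
theorem D10563 : act 3 n8183 = n10563 := rfl
theorem F17681 : act 5 n10563 = n8184 := d13_2 (iv F13577) D10563 (iv D8184)
def n10564 : Q := act 2 n8184
theorem D10564 : act 2 n8184 = n10564 := rfl
def n10565 : Q := act 3 n8185
theorem D10565 : act 3 n8185 = n10565 := rfl
def n10566 : Q := act 0 n8186
theorem D10566 : act 0 n8186 = n10566 := rfl
theorem F17682 : act 2 n10566 = n8190 := d1_2 (iv F13579) D10566 (iv D8190)
theorem F17683 : act 5 n10566 = n8207 := d4_2 (iv F13580) D10566 (iv D8207)
def n10567 : Q := act 2 n8187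
theorem D10567 : act 2 n8187 = n10567 := rfl
theorem F17684 : act 0 n10567 = n8189 := d1_1 D10567 (iv D8189) (iv F13581)
def n10568 : Q := act 3 n8189
theorem D10568 : act 3 n8189 = n10568 := rfl
def n10569 : Q := act 3 n8191
theorem D10569 : act 3 n8191 = n10569 := rfl
theorem F17685 : act 0 n10569 = n8644 := d2_1 D10569 (iv D8644) (iv F13586)
theorem F17686 : act 1 n10569 = n8194 := d6_1 D10569 (iv D8194) (iv F13587)
theorem F17687 : act 4 n10569 = n8192 := d12_2 D8191 D10569 (iv D8192) (iv D6278) D6277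
def n10570 : Q := act 5 n8191
theorem D10570 : act 5 n8191 = n10570 := rfl
theorem F17688 : act 0 n10570 = n8645 := d4_1 D10570 (iv D8645) (iv F13586)
theorem F17689 : act 1 n10570 = n8195 := d8_1 D10570 (iv D8195) (iv F13587)
theorem F17690 : act 2 n10570 = n9101 := d11_1 D10570 (iv D9101) (iv F13588)
theorem F17691 : act 4 n10570 = n9320 := d14_1 D10570 (iv D9320) (iv D7160) (iv F10356) D8191
def n10571 : Q := act 2 n8192
theorem D10571 : act 2 n8192 = n10571 := rfl
def n10572 : Q := act 5 n8192
theorem D10572 : act 5 n8192 = n10572 := rfl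
theorem F17692 : act 1 n10572 = n8197 := d8_1 D10572 (iv D8197) (iv F13589)
theorem F17693 : act 3 n10572 = n8193 := d13_1 D10572 (iv D8193) D8192
def n10573 : Q := act 2 n8194
theorem D10573 : act 2 n8194 = n10573 := rfl
theorem F17694 : act 0 n10573 = n8201 := d1_1 D10573 (iv D8201) (iv F13591)
theorem F17695 : act 4 n10573 = n8196 := d10_2 (iv F13592) D10573 (iv D8196)
def n10574 : Q := act 5 n8194
theorem D10574 : act 5 n8194 = n10574 := rfl
theorem F17696 : act 0 n10574 = n8202 := d4_1 D10574 (iv D8202) (iv F13591)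
theorem F17697 : act 3 n10574 = n8195 := d13_1 D10574 (iv D8195) D8194
def n10575 : Q := act 1 n8196
theorem D10575 : act 1 n8196 = n10575 := rfl
def n10576 : Q := act 4 n8197
theorem D10576 : act 4 n8197 = n10576 := rfl
theorem F17698 : act 0 n10576 = n8206 := d3_1 D10576 (iv D8206) (iv F13597)
def n10577 : Q := act 0 n8198
theorem D10577 : act 0 n8198 = n10577 := rfl
theorem F17699 : act 1 n10577 = n8207 := d0_2 D8198 D10577 (iv D8207) (iv D6289) (iv F10363)
theorem F17700 : act 3 n10577 = n8207 := d2_2 (iv F13599) D10577 (iv D8207)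
def n10578 : Q := act 5 n8199
theorem D10578 : act 5 n8199 = n10578 := rfl
theorem F17701 : act 0 n10578 = n9099 := d4_1 D10578 (iv D9099) (iv F13600)
theorem F17702 : act 1 n10578 = n8200 := d8_1 D10578 (iv D8200) (iv F13601)
theorem F17703 : act 2 n10578 = n8631 := d11_1 D10578 (iv D8631) (iv F13602)
theorem F17704 : act 3 n10578 = n10112 := d13_1 D10578 (iv D10112) (iv F13603)
theorem F17705 : act 4 n10578 = n9314 := d14_1 D10578 (iv D9314) (iv D7155) (iv F10368) D8199
def n10579 : Q := act 1 n8201
theorem D10579 : act 1 n8201 = n10579 := rfl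
theorem F17706 : act 4 n10579 = n8203 := d7_2 (iv F13608) D10579 (iv D8203)
def n10580 : Q := act 3 n8201
theorem D10580 : act 3 n8201 = n10580 := rfl
theorem F17707 : act 2 n10580 = n10117 := d15_2 D8201 D10580 F16835 F12862 (iv F11592) (iv F13594) (iv F17697) (iv D10574) F13591
theorem F17708 : act 5 n10580 = n10116 := d15_8 (iv D10555) (iv D8178) F10337 (iv F10371) F10370 D6285 D8201 D10580 (iv F17666)
def n10581 : Q := act 5 n8201
theorem D10581 : act 5 n8201 = n10581 := rfl
theorem F17709 : act 2 n10581 = n8202 := d11_1 D10581 (iv D8202) D8201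
theorem F17710 : act 3 n10581 = n10116 := d13_1 D10581 (iv F17708) (iv D10580)
def n10582 : Q := act 4 n8202
theorem D10582 : act 4 n8202 = n10582 := rfl
theorem F17711 : act 5 n10582 = n8206 := d14_2 D8202 D10582 (iv D8206) (iv D6288) (iv F10372)
def n10583 : Q := act 0 n8203
theorem D10583 : act 0 n8203 = n10583 := rfl
def n10584 : Q := act 3 n8203
theorem D10584 : act 3 n8203 = n10584 := rfl
theorem F17712 : act 1 n10584 = n8204 := d6_1 D10584 (iv D8204) D8203
def n10585 : Q := act 5 n8203
theorem D10585 : act 5 n8203 = n10585 := rfl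
theorem F17713 : act 1 n10585 = n8205 := d8_1 D10585 (iv D8205) D8203
def n10586 : Q := act 4 n8204
theorem D10586 : act 4 n8204 = n10586 := rfl
def n10587 : Q := act 4 n8205
theorem D10587 : act 4 n8205 = n10587 := rfl
theorem F17714 : act 2 n10587 = n8206 := d10_1 D10587 (iv D8206) (iv F13610)
def n10588 : Q := act 2 n8208
theorem D10588 : act 2 n8208 = n10588 := rfl
theorem F17715 : act 0 n10588 = n8209 := d1_1 D10588 (iv D8209) (iv F13612)
theorem F17716 : act 1 n10588 = n9647 := d5_1 D10588 (iv D9647) (iv F15342) F15343 (iv F13613)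
theorem F17717 : act 5 n10588 = n9137 := d11_2 (iv F13614) D10588 F15227
def n10589 : Q := act 3 n8209
theorem D10589 : act 3 n8209 = n10589 := rfl
theorem F17718 : act 1 n10589 = n9131 := d6_1 D10589 (iv D9131) (iv F13615)
theorem F17719 : act 5 n10589 = n9138 := d13_2 (iv F13616) D10589 (iv D9138)
def n10590 : Q := act 1 n8210
theorem D10590 : act 1 n8210 = n10590 := rfl
def n10591 : Q := act 3 n8210
theorem D10591 : act 3 n8210 = n10591 := rfl
theorem F17720 : act 0 n10591 = n8213 := d2_1 D10591 (iv D8213) (iv F13617)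
theorem F17721 : act 2 n10591 = n8226 := d15_2 D8210 D10591 F13635 F10386 F7734 (iv F7729) (iv F10381) (iv D6295) (iv F10377)
theorem F17722 : act 5 n8224 = n10591 := d11_0 F17721 (iv D8226) D8224
def n10592 : Q := act 5 n8210
theorem D10592 : act 5 n8210 = n10592 := rfl
theorem F17723 : act 0 n10592 = n8214 := d4_1 D10592 (iv D8214) (iv F13617)
theorem F17724 : act 2 n10592 = n8211 := d11_1 D10592 (iv D8211) D8210
theorem F17725 : act 3 n10592 = n8224 := d13_1 D10592 F17722 (iv D10591)
def n10593 : Q := act 4 n8211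
theorem D10593 : act 4 n8211 = n10593 := rfl
theorem F17726 : act 0 n10593 = n8215 := d3_1 D10593 (iv D8215) (iv F13618)
def n10594 : Q := act 0 n8212
theorem D10594 : act 0 n8212 = n10594 := rfl
theorem F17727 : act 2 n10594 = n8216 := d1_2 (iv F13620) D10594 (iv D8216)
def n10595 : Q := act 3 n8212
theorem D10595 : act 3 n8212 = n10595 := rfl
theorem F17728 : act 1 n10595 = n8213 := d6_1 D10595 (iv D8213) D8212
def n10596 : Q := act 2 n8213
theorem D10596 : act 2 n8213 = n10596 := rfl
theorem F17729 : act 0 n10596 = n8226 := d1_1 D10596 (iv F17721) F17720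
theorem F17730 : act 3 n10596 = n8219 := d9_2 D8213 D10596 F13627 F10384 (iv F10379) (iv F13619) (iv F17724) F17725 (iv D8224) (iv D6301) (iv D4754) (iv D3533) (iv F5710) D4748 D6294
theorem F17731 : act 5 n8218 = n10596 := d13_0 F17730 (iv D8219) D8218
def n10597 : Q := act 4 n8213
theorem D10597 : act 4 n8213 = n10597 := rfl
def n10598 : Q := act 5 n8213
theorem D10598 : act 5 n8213 = n10598 := rfl
theorem F17732 : act 0 n10598 = n8224 := d4_1 D10598 F17722 F17720
theorem F17733 : act 2 n10598 = n8218 := d11_1 D10598 F17731 (iv D10596)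
theorem F17734 : act 3 n10598 = n8214 := d13_1 D10598 (iv D8214) D8213
def n10599 : Q := act 4 n8214
theorem D10599 : act 4 n8214 = n10599 := rfl
theorem F17735 : act 2 n10599 = n8215 := d10_1 D10599 (iv D8215) (iv F13621)
def n10600 : Q := act 3 n8217
theorem D10600 : act 3 n8217 = n10600 := rfl
theorem F17736 : act 1 n10600 = n8218 := d6_1 D10600 (iv D8218) D8217
def n10601 : Q := act 5 n8217
theorem D10601 : act 5 n8217 = n10601 := rfl
theorem F17737 : act 1 n10601 = n8219 := d8_1 D10601 (iv D8219) D8217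
theorem F17738 : act 2 n10601 = n10328 := d11_1 D10601 (iv D10328) (iv F13623)
def n10602 : Q := act 4 n8218
theorem D10602 : act 4 n8218 = n10602 := rfl
theorem F17739 : act 0 n10602 = n8225 := d3_1 D10602 (iv D8225) (iv F13625)
def n10603 : Q := act 4 n8219
theorem D10603 : act 4 n8219 = n10603 := rfl
theorem F17740 : act 0 n10603 = n8227 := d3_1 D10603 (iv D8227) (iv F13626)
theorem F17741 : act 2 n10603 = n8220 := d10_1 D10603 (iv D8220) (iv F13627)
theorem F17742 : act 5 n10603 = n10365 := d14_2 D8219 D10603 (iv D10365) F13283 F12943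
def n10604 : Q := act 3 n8221
theorem D10604 : act 3 n8221 = n10604 := rfl
theorem F17743 : act 0 n10604 = n8222 := d2_1 D10604 (iv D8222) D8221
def n10605 : Q := act 5 n8221
theorem D10605 : act 5 n8221 = n10605 := rfl
theorem F17744 : act 0 n10605 = n8223 := d4_1 D10605 (iv D8223) D8221
theorem F17745 : act 2 n10605 = n8229 := d11_1 D10605 (iv D8229) (iv F13631)
def n10606 : Q := act 2 n8222
theorem D10606 : act 2 n8222 = n10606 := rfl
def n10607 : Q := act 4 n8222
theorem D10607 : act 4 n8222 = n10607 := rfl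
theorem F17746 : act 1 n10607 = n8225 := d7_1 D10607 (iv D8225) (iv F13632)
def n10608 : Q := act 5 n8222
theorem D10608 : act 5 n8222 = n10608 := rfl
theorem F17747 : act 1 n10608 = n8226 := d8_1 D10608 (iv D8226) (iv F13632)
theorem F17748 : act 3 n10608 = n8223 := d13_1 D10608 (iv D8223) D8222
def n10609 : Q := act 1 n8224
theorem D10609 : act 1 n8224 = n10609 := rfl
def n10610 : Q := act 4 n8224
theorem D10610 : act 4 n8224 = n10610 := rfl
theorem F17749 : act 2 n10610 = n8225 := d10_1 D10610 (iv D8225) D8224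
def n10611 : Q := act 5 n8225
theorem D10611 : act 5 n8225 = n10611 := rfl
def n10612 : Q := act 4 n8226
theorem D10612 : act 4 n8226 = n10612 := rfl
def n10613 : Q := act 3 n8227
theorem D10613 : act 3 n8227 = n10613 := rfl
def n10614 : Q := act 2 n8228
theorem D10614 : act 2 n8228 = n10614 := rfl
theorem F17750 : act 0 n10614 = n8230 := d1_1 D10614 (iv D8230) (iv F13637)
theorem F17751 : act 5 n10614 = n9233 := d11_2 F13639 D10614 F15392
def n10615 : Q := act 3 n8230
theorem D10615 : act 3 n8230 = n10615 := rfl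
theorem F17752 : act 1 n10615 = n9232 := d6_1 D10615 (iv D9232) (iv F13643)
theorem F17753 : act 5 n10615 = n9234 := d13_2 (iv F13644) D10615 (iv D9234)
def n10616 : Q := act 1 n8231
theorem D10616 : act 1 n8231 = n10616 := rfl
theorem F17754 : act 2 n10616 = n8232 := d5_2 D8231 D10616 (iv D8232) (iv D6309) (iv F10396)
theorem F17755 : act 4 n10616 = n9052 := d7_2 (iv F13646) D10616 (iv D9052)
def n10617 : Q := act 3 n8231
theorem D10617 : act 3 n8231 = n10617 := rfl
theorem F17756 : act 0 n10617 = n8537 := d2_1 D10617 (iv D8537) (iv F13645)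
def n10618 : Q := act 0 n8232
theorem D10618 : act 0 n8232 = n10618 := rfl
theorem F17757 : act 1 n10618 = n8255 := d0_2 D8232 D10618 (iv D8255) (iv D6326) (iv F10398)
theorem F17758 : act 4 n10618 = n9056 := d3_2 (iv F13647) D10618 (iv D9056)
def n10619 : Q := act 0 n8233
theorem D10619 : act 0 n8233 = n10619 := rfl
theorem F17759 : act 1 n10619 = n8235 := d0_2 D8233 D10619 F13651 (iv D6312) (iv F10400)
theorem F17760 : act 3 n8272 = n10619 := d6_0 F17759 F13653 D8272
theorem F17761 : act 5 n8233 = n10619 := d8_0 F17759 (iv D8235) D8233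
def n10620 : Q := act 3 n8233
theorem D10620 : act 3 n8233 = n10620 := rfl
theorem F17762 : act 0 n10620 = n8272 := d2_1 D10620 F17760 (iv D10619)
theorem F17763 : act 1 n10620 = n8234 := d6_1 D10620 (iv D8234) D8233
theorem F17764 : act 5 n10620 = n8272 := d13_2 (iv F17761) D10620 F17760
theorem F17765 : act 2 n8358 = n10620 := d5_0 F17763 F13649 F10459 D6408 D8358
def n10621 : Q := act 4 n8234
theorem D10621 : act 4 n8234 = n10621 := rfl
theorem F17766 : act 0 n10621 = n8240 := d3_1 D10621 (iv D8240) (iv F13648)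
theorem F17767 : act 2 n10621 = n8275 := d10_1 D10621 (iv D8275) (iv F13649)
def n10622 : Q := act 4 n8235
theorem D10622 : act 4 n8235 = n10622 := rfl
theorem F17768 : act 0 n10622 = n8238 := d3_1 D10622 (iv D8238) (iv F13651)
theorem F17769 : act 2 n10622 = n8236 := d10_1 D10622 (iv D8236) (iv F13652)
def n10623 : Q := act 4 n8237
theorem D10623 : act 4 n8237 = n10623 := rfl
theorem F17770 : act 0 n10623 = n8273 := d3_1 D10623 (iv D8273) (iv F13656)
theorem F17771 : act 1 n10623 = n8240 := d7_1 D10623 (iv D8240) (iv F13657)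
theorem F17772 : act 2 n10623 = n8267 := d10_1 D10623 (iv D8267) (iv F13658)
def n10624 : Q := act 3 n8238
theorem D10624 : act 3 n8238 = n10624 := rfl
theorem F17773 : act 1 n10624 = n8241 := d6_1 D10624 (iv D8241) (iv F13660)
def n10625 : Q := act 5 n8238
theorem D10625 : act 5 n8238 = n10625 := rfl
theorem F17774 : act 1 n10625 = n8242 := d8_1 D10625 (iv D8242) (iv F13660)
theorem F17775 : act 2 n10625 = n8243 := d11_1 D10625 F13668 (iv F13661)
theorem F17776 : act 4 n10625 = n8242 := d14_1 D10625 (iv D8242) (iv D6314) F10404 D8238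
def n10626 : Q := act 1 n8239
theorem D10626 : act 1 n8239 = n10626 := rfl
theorem F17777 : act 0 n10626 = n8352 := d0_1 D10626 F13883 F10577 (iv F10459) (iv F13662)
theorem F17778 : act 2 n10626 = n8265 := d5_2 D8239 D10626 F13715 (iv F13658) F13657
theorem F17779 : act 3 n10626 = n8266 := d6_2 (iv F13663) D10626 F13717
theorem F17780 : act 5 n10626 = n8265 := d8_2 (iv F13664) D10626 F13715
def n10627 : Q := act 4 n8239
theorem D10627 : act 4 n8239 = n10627 := rfl
theorem F17781 : act 0 n10627 = n8275 := d3_1 D10627 (iv D8275) (iv F13662)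
theorem F17782 : act 2 n10627 = n8240 := d10_1 D10627 (iv D8240) D8239
def n10628 : Q := act 3 n8240
theorem D10628 : act 3 n8240 = n10628 := rfl
theorem F17783 : act 4 n10628 = n8241 := d12_2 D8240 D10628 (iv D8241) (iv D6314) D6313
def n10629 : Q := act 5 n8240
theorem D10629 : act 5 n8240 = n10629 := rfl
def n10630 : Q := act 1 n8244
theorem D10630 : act 1 n8244 = n10630 := rfl
theorem F17784 : act 2 n10630 = n8566 := d5_2 D8244 D10630 F14209 F10858 (iv F10410)
theorem F17785 : act 3 n10630 = n9059 := d6_2 (iv F13670) D10630 (iv D9059)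
theorem F17786 : act 4 n10630 = n8246 := d7_2 (iv F13669) D10630 (iv D8246)
theorem F17787 : act 5 n10630 = n9061 := d8_2 F13671 D10630 F15066
def n10631 : Q := act 0 n8246
theorem D10631 : act 0 n8246 = n10631 := rfl
theorem F17788 : act 2 n10631 = n8563 := d1_2 (iv F13677) D10631 F14207
theorem F17789 : act 3 n10631 = n8808 := d2_2 (iv F13678) D10631 (iv D8808)
theorem F17790 : act 5 n10631 = n8255 := d4_2 (iv F13679) D10631 (iv D8255)
def n10632 : Q := act 1 n8247
theorem D10632 : act 1 n8247 = n10632 := rfl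
theorem F17791 : act 2 n10632 = n8249 := d5_2 D8247 D10632 (iv D8249) (iv D6322) (iv F10417)
theorem F17792 : act 4 n10632 = n9014 := d7_2 (iv F13681) D10632 (iv D9014)
def n10633 : Q := act 3 n8247
theorem D10633 : act 3 n8247 = n10633 := rfl
theorem F17793 : act 0 n10633 = n9608 := d2_1 D10633 (iv D9608) (iv F13680)
def n10634 : Q := act 5 n8247
theorem D10634 : act 5 n8247 = n10634 := rfl
theorem F17794 : act 0 n10634 = n9609 := d4_1 D10634 (iv D9609) (iv F13680)
theorem F17795 : act 2 n10634 = n8248 := d11_1 D10634 (iv D8248) D8247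
theorem F17796 : act 4 n10634 = n10091 := d14_1 D10634 (iv D10091) (iv F14973) F14974 (iv F13681)
def n10635 : Q := act 0 n8249
theorem D10635 : act 0 n8249 = n10635 := rfl
theorem F17797 : act 1 n10635 = n9060 := d0_2 D8249 D10635 (iv D9060) (iv D6952) (iv F10422)
theorem F17798 : act 4 n10635 = n9016 := d3_2 (iv F13686) D10635 (iv D9016)
def n10636 : Q := act 3 n8249
theorem D10636 : act 3 n8249 = n10636 := rfl
theorem F17799 : act 1 n10636 = n8250 := d6_1 D10636 (iv D8250) D8249
theorem F17800 : act 4 n10636 = n9058 := d12_2 (iv F13686) D10636 F15061 F12843 (iv F11456)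
def n10637 : Q := act 5 n8249
theorem D10637 : act 5 n8249 = n10637 := rfl
theorem F17801 : act 1 n10637 = n8251 := d8_1 D10637 (iv D8251) D8249
theorem F17802 : act 4 n10637 = n10094 := d14_1 D10637 (iv D10094) (iv F14976) F14977 (iv F13686)
def n10638 : Q := act 1 n8252
theorem D10638 : act 1 n8252 = n10638 := rfl
theorem F17803 : act 2 n10638 = n8557 := d5_2 D8252 D10638 F14201 F10854 (iv F10428)
theorem F17804 : act 3 n10638 = n9043 := d6_2 (iv F13694) D10638 (iv D9043)
theorem F17805 : act 4 n10638 = n9061 := d7_2 (iv F13695) D10638 F15066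
theorem F17806 : act 5 n10638 = n8253 := d8_2 (iv F13696) D10638 (iv D8253)
def n10639 : Q := act 0 n8253
theorem D10639 : act 0 n8253 = n10639 := rfl
theorem F17807 : act 1 n10639 = n9056 := d0_2 D8253 D10639 (iv D9056) (iv D6947) (iv F10430)
theorem F17808 : act 2 n10639 = n8555 := d1_2 (iv F13697) D10639 (iv D8555)
theorem F17809 : act 4 n10639 = n8255 := d3_2 (iv F13698) D10639 (iv D8255)
def n10640 : Q := act 3 n8253
theorem D10640 : act 3 n8253 = n10640 := rfl
theorem F17810 : act 1 n10640 = n8254 := d6_1 D10640 (iv D8254) D8253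
theorem F17811 : act 5 n10640 = n9043 := d13_2 F17806 D10640 (iv F17804)
def n10641 : Q := act 3 n8255
theorem D10641 : act 3 n8255 = n10641 := rfl
theorem F17812 : act 0 n10641 = n8256 := d2_1 D10641 (iv D8256) D8255
theorem F17813 : act 5 n10641 = n8808 := d13_2 F17790 D10641 (iv F17789)
def n10642 : Q := act 2 n8256
theorem D10642 : act 2 n8256 = n10642 := rfl
theorem F17814 : act 1 n10642 = n8748 := d5_1 D10642 F14499 F11088 (iv F10434) (iv F13703)
theorem F17815 : act 5 n10642 = n8746 := d11_2 (iv F13704) D10642 F14498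
def n10643 : Q := act 4 n8256
theorem D10643 : act 4 n8256 = n10643 := rfl
theorem F17816 : act 1 n10643 = n8257 := d7_1 D10643 (iv D8257) (iv F13703)
def n10644 : Q := act 2 n8258
theorem D10644 : act 2 n8258 = n10644 := rfl
theorem F17817 : act 0 n10644 = n8259 := d1_1 D10644 (iv D8259) (iv F13706)
def n10645 : Q := act 1 n8259
theorem D10645 : act 1 n8259 = n10645 := rfl
theorem F17818 : act 2 n10645 = n8260 := d5_2 D8259 D10645 (iv D8260) (iv D6330) (iv F10438)
def n10646 : Q := act 3 n8259
theorem D10646 : act 3 n8259 = n10646 := rfl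
def n10647 : Q := act 0 n8260
theorem D10647 : act 0 n8260 = n10647 := rfl
theorem F17819 : act 1 n10647 = n8808 := d0_2 D8260 D10647 (iv D8808) (iv D6750) (iv F10439)
def n10648 : Q := act 2 n8262
theorem D10648 : act 2 n8262 = n10648 := rfl
def n10649 : Q := act 5 n8262
theorem D10649 : act 5 n8262 = n10649 := rfl
theorem F17820 : act 3 n10649 = n8263 := d13_1 D10649 (iv D8263) D8262
def n10650 : Q := act 3 n8264
theorem D10650 : act 3 n8264 = n10650 := rfl
theorem F17821 : act 0 n10650 = n8265 := d2_1 D10650 (iv D8265) D8264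
theorem F17822 : act 1 n10650 = n8269 := d6_1 D10650 (iv D8269) (iv F13711)
theorem F17823 : act 2 n10650 = n8352 := d9_1 D10650 (iv D8352) (iv F10639) D8394 (iv F13946) F13772 (iv F13718) (iv F17779) F17778 (iv D8265) F10444 D6414 (iv F11268) F11269 (iv F13712)
theorem F17824 : act 5 n10650 = n8352 := d13_2 F13714 D10650 (iv D8352)
def n10651 : Q := act 4 n8265
theorem D10651 : act 4 n8265 = n10651 := rfl
theorem F17825 : act 1 n10651 = n8267 := d7_1 D10651 (iv D8267) (iv F13715)
theorem F17826 : act 3 n10651 = n8547 := d12_1 D10651 (iv D8547) (iv D6554) (iv F10445) D8265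
def n10652 : Q := act 4 n8266
theorem D10652 : act 4 n8266 = n10652 := rfl
theorem F17827 : act 0 n10652 = n8353 := d3_1 D10652 (iv D8353) (iv F13716)
theorem F17828 : act 1 n10652 = n8268 := d7_1 D10652 (iv D8268) (iv F13717)
theorem F17829 : act 2 n10652 = n8369 := d10_1 D10652 (iv D8369) (iv F13718)
theorem F17830 : act 5 n10652 = n8498 := d14_2 D8266 D10652 F14130 F10797 (iv F10445)
def n10653 : Q := act 5 n8267
theorem D10653 : act 5 n8267 = n10653 := rfl
theorem F17831 : act 0 n10653 = n8274 := d4_1 D10653 (iv D8274) (iv F13719)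
theorem F17832 : act 3 n10653 = n8548 := d13_1 D10653 (iv D8548) (iv F13720)
def n10654 : Q := act 3 n8268
theorem D10654 : act 3 n8268 = n10654 := rfl
theorem F17833 : act 0 n10654 = n8276 := d2_1 D10654 (iv D8276) (iv F13721)
theorem F17834 : act 5 n10654 = n8499 := d13_2 (iv F13723) D10654 (iv D8499)
theorem F17835 : act 2 n10654 = n8523 := d15_2 (iv F13722) D10654 (iv D8523) (iv D6538) (iv D4952) F6053 D3705 (iv F7801) (iv F10449)
def n10655 : Q := act 4 n8269
theorem D10655 : act 4 n8269 = n10655 := rfl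
theorem F17836 : act 0 n10655 = n8271 := d3_1 D10655 (iv D8271) (iv F13724)
theorem F17837 : act 2 n10655 = n8343 := d10_1 D10655 (iv D8343) (iv F13726)
theorem F17838 : act 3 n10655 = n8570 := d12_1 D10655 (iv D8570) (iv D6569) (iv F10454) D8269
def n10656 : Q := act 1 n8270
theorem D10656 : act 1 n8270 = n10656 := rfl
theorem F17839 : act 0 n10656 = n8358 := d0_1 D10656 (iv D8358) (iv F13865) F13866 (iv F13727)
theorem F17840 : act 2 n10656 = n8272 := d5_2 D8270 D10656 (iv D8272) (iv D6340) (iv F10456)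
theorem F17841 : act 3 n10656 = n8335 := d6_2 (iv F13729) D10656 (iv D8335)
theorem F17842 : act 5 n10656 = n8358 := d8_2 (iv F13728) D10656 (iv D8358)
def n10657 : Q := act 4 n8270
theorem D10657 : act 4 n8270 = n10657 := rfl
theorem F17843 : act 0 n10657 = n8343 := d3_1 D10657 (iv D8343) (iv F13727)
theorem F17844 : act 2 n10657 = n8271 := d10_1 D10657 (iv D8271) D8270
def n10658 : Q := act 5 n8271
theorem D10658 : act 5 n8271 = n10658 := rfl
theorem F17845 : act 1 n10658 = n8274 := d8_1 D10658 (iv D8274) (iv F13730)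
theorem F17846 : act 3 n10658 = n8574 := d13_1 D10658 (iv D8574) (iv F13731)
theorem F17847 : act 4 n10658 = n8361 := d14_1 D10658 (iv D8361) (iv D6409) (iv F10457) D8271
def n10659 : Q := act 4 n8272
theorem D10659 : act 4 n8272 = n10659 := rfl
theorem F17848 : act 1 n10659 = n8273 := d7_1 D10659 (iv D8273) D8272
def n10660 : Q := act 3 n8273
theorem D10660 : act 3 n8273 = n10660 := rfl
def n10661 : Q := act 5 n8273
theorem D10661 : act 5 n8273 = n10661 := rfl
theorem F17849 : act 2 n10661 = n8274 := d11_1 D10661 (iv D8274) (iv F13732)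
def n10662 : Q := act 4 n8274
theorem D10662 : act 4 n8274 = n10662 := rfl
theorem F17850 : act 1 n10662 = n8361 := d7_1 D10662 (iv F17847) F17845
theorem F17851 : act 5 n10662 = n8275 := d14_2 D8274 D10662 (iv D8275) (iv D6342) D6341
def n10663 : Q := act 3 n8275
theorem D10663 : act 3 n8275 = n10663 := rfl
theorem F17852 : act 1 n10663 = n8360 := d6_1 D10663 (iv D8360) (iv F13734)
theorem F17853 : act 4 n10663 = n8276 := d12_2 D8275 D10663 (iv D8276) (iv D6343) (iv F10460)
def n10664 : Q := act 2 n8276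
theorem D10664 : act 2 n8276 = n10664 := rfl
theorem F17854 : act 0 n10664 = n8523 := d1_1 D10664 (iv F17835) F17833
theorem F17855 : act 5 n10664 = n8524 := d11_2 (iv F13736) D10664 (iv D8524)
theorem F17856 : act 3 n10664 = n8497 := d15_1 D10664 (iv D8497) (iv D6520) F8080 D4940 D6521 D8499 (iv F17834) F17833
def n10665 : Q := act 1 n8277
theorem D10665 : act 1 n8277 = n10665 := rfl
theorem F17857 : act 0 n10665 = n9892 := d0_1 D10665 F16530 F12641 (iv F10467) (iv F13737)
theorem F17858 : act 2 n10665 = n8411 := d5_2 D8277 D10665 (iv D8411) (iv D6454) (iv F10465)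
theorem F17859 : act 4 n10665 = n8433 := d7_2 (iv F13738) D10665 (iv D8433)
def n10666 : Q := act 3 n8277
theorem D10666 : act 3 n8277 = n10666 := rfl
theorem F17860 : act 0 n10666 = n8278 := d2_1 D10666 (iv D8278) (iv F13737)
def n10667 : Q := act 2 n8278
theorem D10667 : act 2 n8278 = n10667 := rfl
def n10668 : Q := act 4 n8278
theorem D10668 : act 4 n8278 = n10668 := rfl
theorem F17861 : act 1 n10668 = n9904 := d7_1 D10668 F16540 (iv F13739)
theorem F17862 : act 3 n10668 = n8436 := d12_1 D10668 (iv D8436) (iv D6470) (iv F10468) D8278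
def n10669 : Q := act 3 n8280
theorem D10669 : act 3 n8280 = n10669 := rfl
theorem F17863 : act 0 n10669 = n9313 := d2_1 D10669 (iv D9313) (iv F13744)
theorem F17864 : act 1 n10669 = n8281 := d6_1 D10669 (iv D8281) (iv F13745)
theorem F17865 : act 4 n10669 = n9093 := d12_2 D8280 D10669 (iv D9093) (iv D6981) (iv F10474)
def n10670 : Q := act 5 n8280
theorem D10670 : act 5 n8280 = n10670 := rfl
theorem F17866 : act 0 n10670 = n9314 := d4_1 D10670 (iv D9314) (iv F13744)
theorem F17867 : act 1 n10670 = n8282 := d8_1 D10670 (iv D8282) (iv F13745)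
theorem F17868 : act 2 n10670 = n8906 := d11_1 D10670 (iv D8906) (iv F13746)
theorem F17869 : act 4 n10670 = n9099 := d14_1 D10670 (iv D9099) (iv D6986) (iv F10475) D8280
def n10671 : Q := act 2 n8281
theorem D10671 : act 2 n8281 = n10671 := rfl
theorem F17870 : act 0 n10671 = n9095 := d1_1 D10671 (iv D9095) (iv F13747)
theorem F17871 : act 4 n10671 = n9094 := d10_2 (iv F13748) D10671 (iv D9094)
def n10672 : Q := act 5 n8281
theorem D10672 : act 5 n8281 = n10672 := rfl
theorem F17872 : act 0 n10672 = n9096 := d4_1 D10672 (iv D9096) (iv F13747)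
theorem F17873 : act 3 n10672 = n8282 := d13_1 D10672 (iv D8282) D8281
theorem F17874 : act 4 n10672 = n10046 := d14_1 D10672 (iv D10046) F12795 (iv F11581) (iv F13748)
def n10673 : Q := act 1 n8283
theorem D10673 : act 1 n8283 = n10673 := rfl
theorem F17875 : act 2 n10673 = n8310 := d5_2 D8283 D10673 (iv D8310) (iv D6371) (iv F10483)
theorem F17876 : act 4 n10673 = n8457 := d7_2 (iv F13753) D10673 (iv D8457)
def n10674 : Q := act 3 n8283
theorem D10674 : act 3 n8283 = n10674 := rfl
theorem F17877 : act 0 n10674 = n8285 := d2_1 D10674 (iv D8285) (iv F13752)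
def n10675 : Q := act 0 n8284
theorem D10675 : act 0 n8284 = n10675 := rfl
theorem F17878 : act 2 n10675 = n8286 := d1_2 (iv F13754) D10675 (iv D8286)
theorem F17879 : act 4 n10675 = n8461 := d3_2 (iv F13755) D10675 (iv D8461)
theorem F17880 : act 5 n10675 = n8935 := d4_2 (iv F13756) D10675 F14818
def n10676 : Q := act 3 n8284
theorem D10676 : act 3 n8284 = n10676 := rfl
theorem F17881 : act 1 n10676 = n8285 := d6_1 D10676 (iv D8285) D8284
theorem F17882 : act 5 n10676 = n8936 := d13_2 (iv F13756) D10676 (iv D8936)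
def n10677 : Q := act 2 n8285
theorem D10677 : act 2 n8285 = n10677 := rfl
theorem F17883 : act 5 n10677 = n8537 := d11_2 F14717 D10677 (iv F14718)
theorem F17884 : act 3 n10677 = n8538 := d15_3 D6352 D8285 D10677 F14183 F10840 (iv F8456) D6791 F11233 F10482
def n10678 : Q := act 4 n8285
theorem D10678 : act 4 n8285 = n10678 := rfl
theorem F17885 : act 3 n10678 = n8464 := d12_1 D10678 (iv D8464) (iv D6490) (iv F10485) D8285
def n10679 : Q := act 4 n8287
theorem D10679 : act 4 n8287 = n10679 := rfl
theorem F17886 : act 1 n10679 = n8289 := d7_1 D10679 (iv D8289) (iv F13761)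
def n10680 : Q := act 3 n8288
theorem D10680 : act 3 n8288 = n10680 := rfl
theorem F17887 : act 1 n10680 = n8290 := d6_1 D10680 (iv D8290) (iv F13763)
def n10681 : Q := act 5 n8288
theorem D10681 : act 5 n8288 = n10681 := rfl
theorem F17888 : act 1 n10681 = n8291 := d8_1 D10681 (iv D8291) (iv F13763)
def n10682 : Q := act 3 n8289
theorem D10682 : act 3 n8289 = n10682 := rfl
theorem F17889 : act 0 n10682 = n8295 := d2_1 D10682 (iv D8295) (iv F13764)
theorem F17890 : act 4 n10682 = n8290 := d12_2 D8289 D10682 (iv D8290) (iv D6356) D6355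
def n10683 : Q := act 5 n8289
theorem D10683 : act 5 n8289 = n10683 := rfl
theorem F17891 : act 0 n10683 = n8296 := d4_1 D10683 (iv D8296) (iv F13764)
theorem F17892 : act 2 n10683 = n8383 := d11_1 D10683 F13924 (iv F13765)
theorem F17893 : act 4 n10683 = n8381 := d14_1 D10683 (iv D8381) (iv D6427) (iv F10491) D8289
def n10684 : Q := act 2 n8290
theorem D10684 : act 2 n8290 = n10684 := rfl
theorem F17894 : act 0 n10684 = n8297 := d1_1 D10684 (iv D8297) (iv F13766)
theorem F17895 : act 3 n10684 = n8321 := d15_1 D10684 F13834 F10538 F7876 (iv F7843) (iv F10501) (iv F13777) (iv D8298) (iv F13766)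
theorem F17896 : act 5 n8320 = n10684 := d13_0 F17895 (iv D8321) D8320
def n10685 : Q := act 5 n8290
theorem D10685 : act 5 n8290 = n10685 := rfl
theorem F17897 : act 0 n10685 = n8298 := d4_1 D10685 (iv D8298) (iv F13766)
theorem F17898 : act 2 n10685 = n8320 := d11_1 D10685 F17896 (iv D10684)
theorem F17899 : act 3 n10685 = n8291 := d13_1 D10685 (iv D8291) D8290
def n10686 : Q := act 1 n8292
theorem D10686 : act 1 n8292 = n10686 := rfl
theorem F17900 : act 3 n10686 = n8408 := d6_2 (iv F13771) D10686 (iv D8408)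
theorem F17901 : act 5 n10686 = n8310 := d8_2 (iv F13770) D10686 (iv D8310)
def n10687 : Q := act 4 n8293
theorem D10687 : act 4 n8293 = n10687 := rfl
theorem F17902 : act 1 n10687 = n8294 := d7_1 D10687 (iv D8294) D8293
def n10688 : Q := act 3 n8294
theorem D10688 : act 3 n8294 = n10688 := rfl
theorem F17903 : act 0 n10688 = n8384 := d2_1 D10688 (iv D8384) (iv F13774)
theorem F17904 : act 4 n10688 = n8374 := d12_2 D8294 D10688 (iv D8374) (iv D6420) (iv F10499)
def n10689 : Q := act 5 n8294
theorem D10689 : act 5 n8294 = n10689 := rfl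
theorem F17905 : act 0 n10689 = n8383 := d4_1 D10689 F13924 (iv F13774)
theorem F17906 : act 2 n10689 = n8296 := d11_1 D10689 (iv D8296) (iv F13775)
theorem F17907 : act 4 n10689 = n8371 := d14_1 D10689 (iv D8371) (iv D6417) (iv F10500) D8294
def n10690 : Q := act 2 n8295
theorem D10690 : act 2 n8295 = n10690 := rfl
theorem F17908 : act 4 n10690 = n8297 := d10_2 (iv F13776) D10690 (iv D8297)
def n10691 : Q := act 5 n8295
theorem D10691 : act 5 n8295 = n10691 := rfl
theorem F17909 : act 3 n10691 = n8296 := d13_1 D10691 (iv D8296) D8295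
def n10692 : Q := act 1 n8297
theorem D10692 : act 1 n8297 = n10692 := rfl
def n10693 : Q := act 3 n8297
theorem D10693 : act 3 n8297 = n10693 := rfl
theorem F17910 : act 0 n10693 = n8321 := d2_1 D10693 (iv F17895) F17894
theorem F17911 : act 2 n10693 = n8305 := d9_1 D10693 F13797 F10511 (iv F10495) (iv F13768) (iv F17899) F17898 (iv D8320) (iv D6378) (iv D4822) F5827 (iv F5808) (iv F7841) D6361 D8297
theorem F17912 : act 5 n10693 = n8304 := d15_8 (iv D6378) (iv D4822) F5827 (iv F5808) (iv F7841) D6361 D8297 D10693 F13794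
def n10694 : Q := act 5 n8297
theorem D10694 : act 5 n8297 = n10694 := rfl
theorem F17913 : act 0 n10694 = n8320 := d4_1 D10694 F17896 F17894
theorem F17914 : act 2 n10694 = n8298 := d11_1 D10694 (iv D8298) D8297
theorem F17915 : act 3 n10694 = n8304 := d13_1 D10694 (iv F17912) (iv D10693)
def n10695 : Q := act 4 n8298
theorem D10695 : act 4 n8298 = n10695 := rfl
def n10696 : Q := act 0 n8299
theorem D10696 : act 0 n8299 = n10696 := rfl
theorem F17916 : act 2 n10696 = n8301 := d1_2 (iv F13778) D10696 (iv D8301)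
theorem F17917 : act 5 n10696 = n8328 := d4_2 (iv F13779) D10696 (iv D8328)
def n10697 : Q := act 3 n8299
theorem D10697 : act 3 n8299 = n10697 := rfl
theorem F17918 : act 1 n10697 = n8300 := d6_1 D10697 (iv D8300) D8299
theorem F17919 : act 5 n10697 = n8329 := d13_2 (iv F13779) D10697 (iv D8329)
theorem F17920 : act 4 n8319 = n10697 := d7_0 F17918 (iv F13783) D8319
def n10698 : Q := act 2 n8302
theorem D10698 : act 2 n8302 = n10698 := rfl
theorem F17921 : act 0 n10698 = n9520 := d1_1 D10698 (iv D9520) (iv F13787)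
theorem F17922 : act 4 n10698 = n8407 := d10_2 (iv F13789) D10698 (iv D8407)
def n10699 : Q := act 5 n8302
theorem D10699 : act 5 n8302 = n10699 := rfl
theorem F17923 : act 0 n10699 = n9521 := d4_1 D10699 (iv D9521) (iv F13787)
theorem F17924 : act 1 n10699 = n8305 := d8_1 D10699 (iv D8305) (iv F13788)
theorem F17925 : act 3 n10699 = n8303 := d13_1 D10699 (iv D8303) D8302
def n10700 : Q := act 1 n8304
theorem D10700 : act 1 n8304 = n10700 := rfl
theorem F17926 : act 4 n10700 = n8408 := d7_2 (iv F13795) D10700 (iv D8408)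
def n10701 : Q := act 4 n8305
theorem D10701 : act 4 n8305 = n10701 := rfl
theorem F17927 : act 0 n10701 = n8322 := d3_1 D10701 (iv D8322) (iv F13796)
theorem F17928 : act 5 n10701 = n8391 := d14_2 D8305 D10701 (iv D8391) F10626 (iv F10509)
def n10702 : Q := act 3 n8306
theorem D10702 : act 3 n8306 = n10702 := rfl
theorem F17929 : act 0 n10702 = n8323 := d2_1 D10702 (iv D8323) (iv F13798)
theorem F17930 : act 1 n10702 = n8486 := d6_1 D10702 F14111 (iv F13799)
theorem F17931 : act 5 n10702 = n8307 := d13_2 (iv F13801) D10702 (iv D8307)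
def n10703 : Q := act 2 n8307
theorem D10703 : act 2 n8307 = n10703 := rfl
theorem F17932 : act 0 n10703 = n8324 := d1_1 D10703 (iv D8324) (iv F13802)
theorem F17933 : act 4 n10703 = n8405 := d10_2 (iv F13804) D10703 (iv D8405)
def n10704 : Q := act 2 n8308
theorem D10704 : act 2 n8308 = n10704 := rfl
theorem F17934 : act 0 n10704 = n8325 := d1_1 D10704 (iv D8325) (iv F13805)
theorem F17935 : act 5 n10704 = n8309 := d11_2 (iv F13807) D10704 (iv D8309)
def n10705 : Q := act 1 n8309
theorem D10705 : act 1 n8309 = n10705 := rfl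
theorem F17936 : act 2 n10705 = n8457 := d5_2 D8309 D10705 (iv D8457) (iv D6487) (iv F10519)
theorem F17937 : act 4 n10705 = n8310 := d7_2 (iv F13809) D10705 (iv D8310)
def n10706 : Q := act 3 n8309
theorem D10706 : act 3 n8309 = n10706 := rfl
theorem F17938 : act 0 n10706 = n8327 := d2_1 D10706 (iv D8327) (iv F13808)
def n10707 : Q := act 0 n8310
theorem D10707 : act 0 n8310 = n10707 := rfl
theorem F17939 : act 1 n10707 = n8328 := d0_2 D8310 D10707 (iv D8328) (iv D6384) (iv F10521)
def n10708 : Q := act 3 n8310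
theorem D10708 : act 3 n8310 = n10708 := rfl
theorem F17940 : act 1 n10708 = n8311 := d6_1 D10708 (iv D8311) D8310
theorem F17941 : act 5 n10708 = n8408 := d13_2 F17901 D10708 (iv F17900)
def n10709 : Q := act 4 n8311
theorem D10709 : act 4 n8311 = n10709 := rfl
theorem F17942 : act 0 n10709 = n8330 := d3_1 D10709 (iv D8330) (iv F13810)
theorem F17943 : act 2 n10709 = n8391 := d10_1 D10709 (iv D8391) (iv F13811)
def n10710 : Q := act 2 n8312
theorem D10710 : act 2 n8312 = n10710 := rfl
theorem F17944 : act 0 n10710 = n9355 := d1_1 D10710 (iv D9355) (iv F13813)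
theorem F17945 : act 4 n10710 = n8314 := d10_2 (iv F13815) D10710 (iv D8314)
def n10711 : Q := act 5 n8312
theorem D10711 : act 5 n8312 = n10711 := rfl
theorem F17946 : act 0 n10711 = n9356 := d4_1 D10711 (iv D9356) (iv F13813)
theorem F17947 : act 1 n10711 = n8316 := d8_1 D10711 (iv D8316) (iv F13814)
theorem F17948 : act 3 n10711 = n8313 := d13_1 D10711 (iv D8313) D8312
def n10712 : Q := act 1 n8314
theorem D10712 : act 1 n8314 = n10712 := rfl
theorem F17949 : act 2 n10712 = n8319 := d5_2 D8314 D10712 (iv D8319) (iv D6378) (iv F10526)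
def n10713 : Q := act 3 n8314
theorem D10713 : act 3 n8314 = n10713 := rfl
theorem F17950 : act 0 n10713 = n9907 := d2_1 D10713 (iv D9907) (iv F13820)
theorem F17951 : act 2 n10713 = n9407 := d15_2 D8314 D10713 F15697 F12001 F9090 (iv F9572) (iv F12646) (iv D7641) (iv F10525)
theorem F17952 : act 5 n9406 = n10713 := d11_0 F17951 (iv D9407) D9406
def n10714 : Q := act 5 n8314
theorem D10714 : act 5 n8314 = n10714 := rfl
theorem F17953 : act 0 n10714 = n9908 := d4_1 D10714 (iv D9908) (iv F13820)
theorem F17954 : act 2 n10714 = n8315 := d11_1 D10714 (iv D8315) D8314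
theorem F17955 : act 3 n10714 = n9406 := d13_1 D10714 F17952 (iv D10713)
def n10715 : Q := act 4 n8315
theorem D10715 : act 4 n8315 = n10715 := rfl
theorem F17956 : act 0 n10715 = n9909 := d3_1 D10715 (iv D9909) (iv F13821)
theorem F17957 : act 1 n10715 = n8322 := d7_1 D10715 (iv D8322) (iv F13822)
theorem F17958 : act 3 n10715 = n8446 := d12_1 D10715 (iv D8446) F10710 (iv F10530) (iv F13823)
def n10716 : Q := act 4 n8316
theorem D10716 : act 4 n8316 = n10716 := rfl
theorem F17959 : act 0 n10716 = n8391 := d3_1 D10716 (iv D8391) (iv F13824)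
theorem F17960 : act 2 n10716 = n8330 := d10_1 D10716 (iv D8330) (iv F13825)
theorem F17961 : act 5 n10716 = n8322 := d14_2 D8316 D10716 (iv D8322) (iv D6379) (iv F10532)
def n10717 : Q := act 3 n8317
theorem D10717 : act 3 n8317 = n10717 := rfl
theorem F17962 : act 0 n10717 = n8388 := d2_1 D10717 (iv D8388) (iv F13827)
theorem F17963 : act 1 n10717 = n8442 := d6_1 D10717 F14032 (iv F13828)
theorem F17964 : act 5 n10717 = n8318 := d13_2 (iv F13830) D10717 (iv D8318)
def n10718 : Q := act 2 n8318
theorem D10718 : act 2 n8318 = n10718 := rfl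
theorem F17965 : act 0 n10718 = n8405 := d1_1 D10718 (iv D8405) (iv F13831)
theorem F17966 : act 4 n10718 = n8324 := d10_2 (iv F13833) D10718 (iv D8324)
theorem F17967 : act 3 n10718 = n8387 := d15_1 D10718 (iv D8387) (iv D6433) F7942 D4867 D6434 D8388 F13928 (iv F13831)
def n10719 : Q := act 0 n8319
theorem D10719 : act 0 n8319 = n10719 := rfl
def n10720 : Q := act 3 n8319
theorem D10720 : act 3 n8319 = n10720 := rfl
theorem F17968 : act 1 n10720 = n8320 := d6_1 D10720 (iv D8320) D8319
def n10721 : Q := act 5 n8319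
theorem D10721 : act 5 n8319 = n10721 := rfl
theorem F17969 : act 1 n10721 = n8321 := d8_1 D10721 (iv D8321) D8319
def n10722 : Q := act 4 n8321
theorem D10722 : act 4 n8321 = n10722 := rfl
theorem F17970 : act 2 n10722 = n8322 := d10_1 D10722 (iv D8322) (iv F13834)
theorem F17971 : act 5 n10722 = n8330 := d14_2 D8321 D10722 (iv D8330) (iv F13781) (iv F13783)
def n10723 : Q := act 3 n8322
theorem D10723 : act 3 n8322 = n10723 := rfl
theorem F17972 : act 1 n10723 = n8446 := d6_1 D10723 (iv F17958) F17957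
theorem F17973 : act 4 n10723 = n8323 := d12_2 D8322 D10723 (iv D8323) (iv D6380) (iv F10538)
def n10724 : Q := act 2 n8323
theorem D10724 : act 2 n8323 = n10724 := rfl
theorem F17974 : act 5 n10724 = n8324 := d11_2 (iv F13836) D10724 (iv D8324)
def n10725 : Q := act 1 n8324
theorem D10725 : act 1 n8324 = n10725 := rfl
theorem F17975 : act 2 n10725 = n8443 := d5_2 D8324 D10725 (iv D8443) (iv D6476) (iv F10542)
def n10726 : Q := act 3 n8324
theorem D10726 : act 3 n8324 = n10726 := rfl
def n10727 : Q := act 3 n8325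
theorem D10727 : act 3 n8325 = n10727 := rfl
theorem F17976 : act 1 n10727 = n8981 := d6_1 D10727 (iv D8981) (iv F13837)
theorem F17977 : act 5 n10727 = n8327 := d13_2 (iv F13838) D10727 (iv D8327)
def n10728 : Q := act 0 n8326
theorem D10728 : act 0 n8326 = n10728 := rfl
theorem F17978 : act 2 n10728 = n8332 := d1_2 (iv F13839) D10728 (iv D8332)
theorem F17979 : act 4 n10728 = n8328 := d3_2 (iv F13840) D10728 (iv D8328)
theorem F17980 : act 5 n10728 = n8980 := d4_2 (iv F13841) D10728 F14897
def n10729 : Q := act 3 n8326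
theorem D10729 : act 3 n8326 = n10729 := rfl
theorem F17981 : act 1 n10729 = n8327 := d6_1 D10729 (iv D8327) D8326
theorem F17982 : act 5 n10729 = n8981 := d13_2 (iv F13841) D10729 (iv D8981)
def n10730 : Q := act 2 n8327
theorem D10730 : act 2 n8327 = n10730 := rfl
def n10731 : Q := act 4 n8327
theorem D10731 : act 4 n8327 = n10731 := rfl
theorem F17983 : act 3 n10731 = n8330 := d12_1 D10731 (iv D8330) (iv D6385) (iv F10545) D8327
def n10732 : Q := act 3 n8328
theorem D10732 : act 3 n8328 = n10732 := rfl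
theorem F17984 : act 0 n10732 = n8329 := d2_1 D10732 (iv D8329) D8328
def n10733 : Q := act 2 n8329
theorem D10733 : act 2 n8329 = n10733 := rfl
def n10734 : Q := act 4 n8329
theorem D10734 : act 4 n8329 = n10734 := rfl
theorem F17985 : act 1 n10734 = n8330 := d7_1 D10734 (iv D8330) (iv F13843)
def n10735 : Q := act 2 n8331
theorem D10735 : act 2 n8331 = n10735 := rfl
theorem F17986 : act 0 n10735 = n9406 := d1_1 D10735 (iv D9406) (iv F13844)
theorem F17987 : act 3 n10735 = n9908 := d9_2 D8331 D10735 F16542 F12646 F9572 (iv F9090) (iv F12001) (iv F15697) (iv F17951) (iv D10713) (iv D8314) (iv D6373) F7869 D4828 D6386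
theorem F17988 : act 5 n10735 = n9907 := d11_2 F14896 D10735 F16541
def n10736 : Q := act 4 n8331
theorem D10736 : act 4 n8331 = n10736 := rfl
theorem F17989 : act 0 n10736 = n9404 := d3_1 D10736 F15695 (iv F13844)
theorem F17990 : act 1 n10736 = n8680 := d7_1 D10736 F14378 (iv F13845)
theorem F17991 : act 3 n10736 = n8447 := d12_1 D10736 (iv D8447) (iv D6478) (iv F10549) D8331
def n10737 : Q := act 2 n8333
theorem D10737 : act 2 n8333 = n10737 := rfl
theorem F17992 : act 0 n10737 = n8334 := d1_1 D10737 (iv D8334) (iv F13850)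
theorem F17993 : act 5 n10737 = n8720 := d11_2 (iv F13852) D10737 F14453
def n10738 : Q := act 3 n8334
theorem D10738 : act 3 n8334 = n10738 := rfl
theorem F17994 : act 1 n10738 = n8729 := d6_1 D10738 F14464 (iv F13853)
theorem F17995 : act 5 n10738 = n8722 := d13_2 (iv F13854) D10738 (iv D8722)
def n10739 : Q := act 0 n8335
theorem D10739 : act 0 n8335 = n10739 := rfl
theorem F17996 : act 1 n10739 = n8337 := d0_2 D8335 D10739 F13857 (iv D6394) (iv F10555)
theorem F17997 : act 3 n10739 = n8358 := d2_2 F17841 D10739 (iv F17839)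
theorem F17998 : act 5 n8335 = n10739 := d13_0 F17997 (iv F17842) F17841
def n10740 : Q := act 4 n8335
theorem D10740 : act 4 n8335 = n10740 := rfl
theorem F17999 : act 1 n10740 = n8336 := d7_1 D10740 (iv D8336) D8335
def n10741 : Q := act 3 n8336
theorem D10741 : act 3 n8336 = n10741 := rfl
theorem F18000 : act 0 n10741 = n8344 := d2_1 D10741 (iv D8344) (iv F13855)
def n10742 : Q := act 5 n8336
theorem D10742 : act 5 n8336 = n10742 := rfl
theorem F18001 : act 0 n10742 = n8345 := d4_1 D10742 (iv D8345) (iv F13855)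
theorem F18002 : act 2 n10742 = n8338 := d11_1 D10742 (iv D8338) (iv F13856)
def n10743 : Q := act 4 n8337
theorem D10743 : act 4 n8337 = n10743 := rfl
theorem F18003 : act 0 n10743 = n8342 := d3_1 D10743 (iv D8342) (iv F13857)
theorem F18004 : act 2 n10743 = n8339 := d10_1 D10743 (iv D8339) (iv F13858)
def n10744 : Q := act 4 n8338
theorem D10744 : act 4 n8338 = n10744 := rfl
theorem F18005 : act 0 n10744 = n8346 := d3_1 D10744 (iv D8346) (iv F13860)
theorem F18006 : act 5 n10744 = n8339 := d14_2 D8338 D10744 (iv D8339) (iv D6392) D6391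
def n10745 : Q := act 3 n8339
theorem D10745 : act 3 n8339 = n10745 := rfl
theorem F18007 : act 0 n10745 = n8347 := d2_1 D10745 (iv D8347) (iv F13862)
theorem F18008 : act 4 n10745 = n8340 := d12_2 D8339 D10745 (iv D8340) (iv D6393) (iv F10559)
def n10746 : Q := act 2 n8340
theorem D10746 : act 2 n8340 = n10746 := rfl
theorem F18009 : act 0 n10746 = n8348 := d1_1 D10746 (iv D8348) (iv F13863)
theorem F18010 : act 5 n10746 = n10644 := d11_2 (iv F13864) D10746 (iv D10644)
theorem F18011 : act 3 n10746 = n10667 := d15_1 D10746 (iv D10667) (iv D8278) (iv D6345) (iv D4794) (iv F7779) D6329 (iv F10570) (iv F13863)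
def n10747 : Q := act 4 n8341
theorem D10747 : act 4 n8341 = n10747 := rfl
theorem F18012 : act 0 n10747 = n8359 := d3_1 D10747 (iv D8359) (iv F13865)
theorem F18013 : act 1 n10747 = n8343 := d7_1 D10747 (iv D8343) (iv F13866)
theorem F18014 : act 2 n10747 = n8354 := d10_1 D10747 (iv D8354) (iv F13867)
def n10748 : Q := act 3 n8342
theorem D10748 : act 3 n8342 = n10748 := rfl
theorem F18015 : act 1 n10748 = n8344 := d6_1 D10748 (iv D8344) (iv F13869)
def n10749 : Q := act 5 n8342
theorem D10749 : act 5 n8342 = n10749 := rfl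
theorem F18016 : act 1 n10749 = n8345 := d8_1 D10749 (iv D8345) (iv F13869)
theorem F18017 : act 2 n10749 = n8346 := d11_1 D10749 F13873 (iv F13870)
theorem F18018 : act 4 n10749 = n8345 := d14_1 D10749 (iv D8345) (iv D6396) F10564 D8342
def n10750 : Q := act 3 n8343
theorem D10750 : act 3 n8343 = n10750 := rfl
theorem F18019 : act 4 n10750 = n8344 := d12_2 D8343 D10750 (iv D8344) (iv D6396) D6395
def n10751 : Q := act 5 n8343
theorem D10751 : act 5 n8343 = n10751 := rfl
def n10752 : Q := act 2 n8344
theorem D10752 : act 2 n8344 = n10752 := rfl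
def n10753 : Q := act 5 n8344
theorem D10753 : act 5 n8344 = n10753 := rfl
theorem F18020 : act 3 n10753 = n8345 := d13_1 D10753 (iv D8345) D8344
def n10754 : Q := act 3 n8346
theorem D10754 : act 3 n8346 = n10754 := rfl
theorem F18021 : act 1 n10754 = n8350 := d6_1 D10754 F13879 (iv F13872)
theorem F18022 : act 4 n10754 = n10498 := d12_2 D8346 D10754 F17557 F13480 (iv F10567)
theorem F18023 : act 5 n10754 = n8347 := d13_2 (iv F13873) D10754 (iv D8347)
def n10755 : Q := act 2 n8347
theorem D10755 : act 2 n8347 = n10755 := rfl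
theorem F18024 : act 4 n10755 = n8348 := d10_2 (iv F13875) D10755 (iv D8348)
def n10756 : Q := act 1 n8348
theorem D10756 : act 1 n8348 = n10756 := rfl
theorem F18025 : act 2 n10756 = n8351 := d5_2 D8348 D10756 (iv D8351) (iv D6402) (iv F10569)
theorem F18026 : act 5 n10756 = n10645 := d8_2 (iv F13876) D10756 (iv D10645)
def n10757 : Q := act 3 n8348
theorem D10757 : act 3 n8348 = n10757 := rfl
theorem F18027 : act 0 n10757 = n10667 := d2_1 D10757 (iv F18011) F18009
theorem F18028 : act 5 n10757 = n10646 := d13_2 (iv F13876) D10757 (iv D10646)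
theorem F18029 : act 2 n10757 = n10666 := d15_2 D8348 D10757 (iv D10666) (iv D8277) (iv D6344) (iv F10436) D8258 (iv F13864) F13863
def n10758 : Q := act 1 n8349
theorem D10758 : act 1 n8349 = n10758 := rfl
theorem F18030 : act 4 n10758 = n8351 := d7_2 (iv F13878) D10758 (iv D8351)
def n10759 : Q := act 0 n8351
theorem D10759 : act 0 n8351 = n10759 := rfl
theorem F18031 : act 1 n10759 = n10641 := d0_2 D8351 D10759 F17812 F13703 (iv F10574)
theorem F18032 : act 3 n10759 = n10618 := d2_2 (iv F13881) D10759 (iv D10618)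
theorem F18033 : act 5 n10759 = n10647 := d4_2 (iv F13882) D10759 (iv D10647)
def n10760 : Q := act 4 n8352
theorem D10760 : act 4 n8352 = n10760 := rfl
theorem F18034 : act 1 n10760 = n8354 := d7_1 D10760 (iv D8354) (iv F13883)
def n10761 : Q := act 3 n8353
theorem D10761 : act 3 n8353 = n10761 := rfl
theorem F18035 : act 1 n10761 = n8355 := d6_1 D10761 (iv D8355) (iv F13884)
def n10762 : Q := act 5 n8353
theorem D10762 : act 5 n8353 = n10762 := rfl
theorem F18036 : act 0 n10762 = n8498 := d4_1 D10762 (iv F17830) F17827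
theorem F18037 : act 1 n10762 = n8356 := d8_1 D10762 (iv D8356) (iv F13884)
theorem F18038 : act 4 n10762 = n8500 := d14_1 D10762 F14133 (iv F13713) (iv F13714) D8353
def n10763 : Q := act 3 n8354
theorem D10763 : act 3 n8354 = n10763 := rfl
theorem F18039 : act 0 n10763 = n8360 := d2_1 D10763 (iv D8360) (iv F13885)
theorem F18040 : act 4 n10763 = n8355 := d12_2 D8354 D10763 (iv D8355) (iv D6405) D6404
def n10764 : Q := act 5 n8354
theorem D10764 : act 5 n8354 = n10764 := rfl
theorem F18041 : act 0 n10764 = n8361 := d4_1 D10764 (iv D8361) (iv F13885)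
def n10765 : Q := act 2 n8355
theorem D10765 : act 2 n8355 = n10765 := rfl
theorem F18042 : act 0 n10765 = n8362 := d1_1 D10765 (iv D8362) (iv F13886)
theorem F18043 : act 3 n10765 = n9873 := d15_1 D10765 (iv D9873) (iv D7614) F9543 (iv F7919) (iv F10587) (iv F13896) (iv D8363) (iv F13886)
theorem F18044 : act 5 n9879 = n10765 := d13_0 F18043 F16496 D9879
def n10766 : Q := act 5 n8355
theorem D10766 : act 5 n8355 = n10766 := rfl
theorem F18045 : act 0 n10766 = n8363 := d4_1 D10766 (iv D8363) (iv F13886)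
theorem F18046 : act 2 n10766 = n9879 := d11_1 D10766 F18044 (iv D10765)
theorem F18047 : act 3 n10766 = n8356 := d13_1 D10766 (iv D8356) D8355
def n10767 : Q := act 1 n8357
theorem D10767 : act 1 n8357 = n10767 := rfl
theorem F18048 : act 4 n10767 = n8578 := d7_2 (iv F13891) D10767 (iv D8578)
theorem F18049 : act 5 n10767 = n10665 := d8_2 (iv F13892) D10767 (iv D10665)
def n10768 : Q := act 3 n8357
theorem D10768 : act 3 n8357 = n10768 := rfl
theorem F18050 : act 0 n10768 = n8364 := d2_1 D10768 (iv D8364) (iv F13890)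
theorem F18051 : act 2 n10768 = n10646 := d9_1 D10768 (iv D10646) (iv D8259) (iv D6329) F7779 D4794 D6345 D8278 D10667 (iv F18011) (iv D10746) (iv D8340) F10561 D6407 D8357
theorem F18052 : act 5 n10768 = n10666 := d13_2 (iv F13892) D10768 (iv D10666)
def n10769 : Q := act 4 n8358
theorem D10769 : act 4 n8358 = n10769 := rfl
theorem F18053 : act 1 n10769 = n8359 := d7_1 D10769 (iv D8359) D8358
def n10770 : Q := act 3 n8359
theorem D10770 : act 3 n8359 = n10770 := rfl
def n10771 : Q := act 5 n8359
theorem D10771 : act 5 n8359 = n10771 := rfl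
theorem F18054 : act 2 n10771 = n8361 := d11_1 D10771 (iv D8361) (iv F13893)
def n10772 : Q := act 2 n8360
theorem D10772 : act 2 n8360 = n10772 := rfl
theorem F18055 : act 4 n10772 = n8362 := d10_2 (iv F13894) D10772 (iv D8362)
def n10773 : Q := act 5 n8360
theorem D10773 : act 5 n8360 = n10773 := rfl
theorem F18056 : act 3 n10773 = n8361 := d13_1 D10773 (iv D8361) D8360
def n10774 : Q := act 1 n8362
theorem D10774 : act 1 n8362 = n10774 := rfl
def n10775 : Q := act 3 n8362
theorem D10775 : act 3 n8362 = n10775 := rfl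
theorem F18057 : act 0 n10775 = n9873 := d2_1 D10775 (iv F18043) F18042
theorem F18058 : act 2 n10775 = n9872 := d9_1 D10775 (iv D9872) F12607 (iv F10581) (iv F13888) (iv F18047) F18046 (iv D9879) (iv D7617) (iv D5805) F7132 (iv F5859) (iv F7917) D6410 D8362
theorem F18059 : act 5 n10775 = n9876 := d15_8 (iv D7617) (iv D5805) F7132 (iv F5859) (iv F7917) D6410 D8362 D10775 F16503
def n10776 : Q := act 5 n8362
theorem D10776 : act 5 n8362 = n10776 := rfl
theorem F18060 : act 0 n10776 = n9879 := d4_1 D10776 F18044 F18042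
theorem F18061 : act 2 n10776 = n8363 := d11_1 D10776 (iv D8363) D8362
theorem F18062 : act 3 n10776 = n9876 := d13_1 D10776 (iv F18059) (iv D10775)
def n10777 : Q := act 4 n8363
theorem D10777 : act 4 n8363 = n10777 := rfl
theorem F18063 : act 1 n10777 = n8525 := d7_1 D10777 (iv D8525) (iv F13895)
theorem F18064 : act 3 n10777 = n8528 := d12_1 D10777 (iv D8528) (iv D6541) (iv F10588) (iv F13896)
def n10778 : Q := act 2 n8364
theorem D10778 : act 2 n8364 = n10778 := rfl
theorem F18065 : act 0 n10778 = n10646 := d1_1 D10778 (iv F18051) F18050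
theorem F18066 : act 3 n10778 = n10644 := d9_2 D8364 D10778 (iv D10644) (iv D8258) F10436 D6344 D8277 D10666 (iv F18029) (iv D10757) (iv D8348) (iv D6399) F7907 D4849 D6412
theorem F18067 : act 5 n10778 = n10667 := d11_2 (iv F13897) D10778 (iv D10667)
def n10779 : Q := act 4 n8364
theorem D10779 : act 4 n8364 = n10779 := rfl
theorem F18068 : act 3 n10779 = n8581 := d12_1 D10779 (iv D8581) (iv D6576) (iv F10589) D8364
def n10780 : Q := act 3 n8365
theorem D10780 : act 3 n8365 = n10780 := rfl
theorem F18069 : act 0 n10780 = n8367 := d2_1 D10780 (iv D8367) (iv F13898)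
theorem F18070 : act 1 n10780 = n8375 := d6_1 D10780 (iv D8375) (iv F13899)
def n10781 : Q := act 3 n8366
theorem D10781 : act 3 n8366 = n10781 := rfl
theorem F18071 : act 1 n10781 = n8370 := d6_1 D10781 (iv D8370) (iv F13901)
theorem F18072 : act 4 n10781 = n8367 := d12_2 D8366 D10781 (iv D8367) (iv D6415) D6414
def n10782 : Q := act 5 n8366
theorem D10782 : act 5 n8366 = n10782 := rfl
theorem F18073 : act 1 n10782 = n8371 := d8_1 D10782 (iv D8371) (iv F13901)
def n10783 : Q := act 2 n8367
theorem D10783 : act 2 n8367 = n10783 := rfl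
theorem F18074 : act 1 n10783 = n8378 := d5_1 D10783 (iv D8378) F10614 (iv F10598) (iv F13902)
def n10784 : Q := act 5 n8367
theorem D10784 : act 5 n8367 = n10784 := rfl
theorem F18075 : act 1 n10784 = n8372 := d8_1 D10784 (iv D8372) (iv F13902)
theorem F18076 : act 3 n10784 = n8368 := d13_1 D10784 (iv D8368) D8367
def n10785 : Q := act 4 n8368
theorem D10785 : act 4 n8368 = n10785 := rfl
theorem F18077 : act 1 n10785 = n8373 := d7_1 D10785 (iv D8373) (iv F13903)
theorem F18078 : act 2 n10785 = n8498 := d10_1 D10785 F14130 (iv F13904)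
theorem F18079 : act 5 n10785 = n8369 := d14_2 D8368 D10785 (iv D8369) (iv D6416) D6415
def n10786 : Q := act 3 n8369
theorem D10786 : act 3 n8369 = n10786 := rfl
theorem F18080 : act 1 n10786 = n8374 := d6_1 D10786 (iv D8374) (iv F13905)
def n10787 : Q := act 5 n8370
theorem D10787 : act 5 n8370 = n10787 := rfl
theorem F18081 : act 0 n10787 = n8382 := d4_1 D10787 (iv D8382) (iv F13906)
theorem F18082 : act 2 n10787 = n8382 := d11_1 D10787 (iv D8382) F13908
theorem F18083 : act 3 n10787 = n8371 := d13_1 D10787 (iv D8371) D8370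
def n10788 : Q := act 4 n8372
theorem D10788 : act 4 n8372 = n10788 := rfl
theorem F18084 : act 0 n10788 = n8385 := d3_1 D10788 (iv D8385) (iv F13910)
theorem F18085 : act 2 n10788 = n8385 := d10_1 D10788 (iv D8385) (iv F13911)
def n10789 : Q := act 3 n8373
theorem D10789 : act 3 n8373 = n10789 := rfl
theorem F18086 : act 0 n10789 = n8386 := d2_1 D10789 (iv D8386) (iv F13913)
theorem F18087 : act 5 n10789 = n8374 := d13_2 (iv F13915) D10789 (iv D8374)
def n10790 : Q := act 2 n8374
theorem D10790 : act 2 n8374 = n10790 := rfl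
theorem F18088 : act 0 n10790 = n8387 := d1_1 D10790 (iv D8387) (iv F13916)
theorem F18089 : act 3 n10790 = n8405 := d15_1 D10790 (iv D8405) (iv D6448) F7977 (iv F7944) (iv F10618) D8386 F13926 (iv F13916)
def n10791 : Q := act 2 n8376
theorem D10791 : act 2 n8376 = n10791 := rfl
theorem F18090 : act 4 n10791 = n8378 := d10_2 (iv F13919) D10791 (iv D8378)
def n10792 : Q := act 5 n8376
theorem D10792 : act 5 n8376 = n10792 := rfl
theorem F18091 : act 1 n10792 = n8382 := d8_1 D10792 (iv D8382) (iv F13918)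
theorem F18092 : act 3 n10792 = n8377 := d13_1 D10792 (iv D8377) D8376
def n10793 : Q := act 3 n8379
theorem D10793 : act 3 n8379 = n10793 := rfl
theorem F18093 : act 1 n10793 = n8380 := d6_1 D10793 (iv D8380) (iv F13921)
def n10794 : Q := act 5 n8379
theorem D10794 : act 5 n8379 = n10794 := rfl
theorem F18094 : act 1 n10794 = n8381 := d8_1 D10794 (iv D8381) (iv F13921)
def n10795 : Q := act 2 n8380
theorem D10795 : act 2 n8380 = n10795 := rfl
theorem F18095 : act 3 n10795 = n8381 := d15_3 (iv F10615) D8380 D10795 F13922 (iv F13923) (iv F18082) F18083 (iv D8371) F10596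
theorem F18096 : act 5 n8380 = n10795 := d13_0 F18095 (iv D8381) D8380
def n10796 : Q := act 4 n8382
theorem D10796 : act 4 n8382 = n10796 := rfl
theorem F18097 : act 5 n10796 = n8385 := d14_2 D8382 D10796 (iv D8385) (iv D6431) (iv F10616)
def n10797 : Q := act 3 n8383
theorem D10797 : act 3 n8383 = n10797 := rfl
theorem F18098 : act 5 n10797 = n8384 := d13_2 (iv F13924) D10797 (iv D8384)
def n10798 : Q := act 2 n8384
theorem D10798 : act 2 n8384 = n10798 := rfl
theorem F18099 : act 4 n10798 = n8387 := d10_2 (iv F13925) D10798 (iv D8387)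
def n10799 : Q := act 3 n8385
theorem D10799 : act 3 n8385 = n10799 := rfl
theorem F18100 : act 4 n10799 = n8386 := d12_2 D8385 D10799 (iv D8386) (iv D6432) (iv F10617)
def n10800 : Q := act 2 n8386
theorem D10800 : act 2 n8386 = n10800 := rfl
theorem F18101 : act 5 n10800 = n8387 := d11_2 (iv F13926) D10800 (iv D8387)
def n10801 : Q := act 1 n8387
theorem D10801 : act 1 n8387 = n10801 := rfl
def n10802 : Q := act 2 n8388
theorem D10802 : act 2 n8388 = n10802 := rfl
theorem F18102 : act 5 n10802 = n8405 := d11_2 (iv F13928) D10802 (iv D8405)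
def n10803 : Q := act 4 n8388
theorem D10803 : act 4 n8388 = n10803 := rfl
theorem F18103 : act 1 n10803 = n8490 := d7_1 D10803 (iv D8490) (iv F13927)
theorem F18104 : act 3 n10803 = n8391 := d12_1 D10803 (iv D8391) (iv D6436) (iv F10621) D8388
def n10804 : Q := act 3 n8389
theorem D10804 : act 3 n8389 = n10804 := rfl
theorem F18105 : act 0 n10804 = n8390 := d2_1 D10804 (iv D8390) D8389
theorem F18106 : act 1 n10804 = n9356 := d6_1 D10804 F15642 (iv F13929)
theorem F18107 : act 5 n10804 = n8406 := d13_2 (iv F13932) D10804 (iv D8406)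
def n10805 : Q := act 2 n8390
theorem D10805 : act 2 n8390 = n10805 := rfl
theorem F18108 : act 5 n10805 = n8407 := d11_2 (iv F13934) D10805 (iv D8407)
def n10806 : Q := act 4 n8390
theorem D10806 : act 4 n8390 = n10806 := rfl
theorem F18109 : act 1 n10806 = n8391 := d7_1 D10806 (iv D8391) (iv F13933)
theorem F18110 : act 3 n10806 = n8490 := d12_1 D10806 (iv D8490) F10778 (iv F10624) D8390
def n10807 : Q := act 1 n8392
theorem D10807 : act 1 n8392 = n10807 := rfl
theorem F18111 : act 0 n10807 = n8530 := d0_1 D10807 (iv D8530) F10832 (iv F10635) (iv F13935)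
theorem F18112 : act 2 n10807 = n10767 := d5_2 D8392 D10807 (iv D10767) (iv D8357) (iv F10632)
theorem F18113 : act 3 n10807 = n8932 := d6_2 (iv F13938) D10807 (iv D8932)
theorem F18114 : act 4 n10807 = n9308 := d7_2 (iv F13936) D10807 F15549
theorem F18115 : act 5 n10807 = n8411 := d8_2 (iv F13937) D10807 (iv D8411)
def n10808 : Q := act 4 n8393
theorem D10808 : act 4 n8393 = n10808 := rfl
theorem F18116 : act 0 n10808 = n8933 := d3_1 D10808 (iv D8933) (iv F13939)
theorem F18117 : act 1 n10808 = n8533 := d7_1 D10808 (iv D8533) (iv F13940)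
theorem F18118 : act 2 n10808 = n8915 := d10_1 D10808 (iv D8915) (iv F13942)
theorem F18119 : act 3 n10808 = n9311 := d12_1 D10808 (iv D9311) (iv D7153) (iv F10636) D8393
def n10809 : Q := act 4 n8394
theorem D10809 : act 4 n8394 = n10809 := rfl
theorem F18120 : act 0 n10809 = n10687 := d3_1 D10809 (iv D10687) (iv F13943)
theorem F18121 : act 1 n10809 = n8396 := d7_1 D10809 (iv D8396) (iv F13944)
theorem F18122 : act 2 n10809 = n10687 := d10_1 D10809 (iv D10687) F13946
def n10810 : Q := act 3 n8395
theorem D10810 : act 3 n8395 = n10810 := rfl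
theorem F18123 : act 0 n10810 = n10786 := d2_1 D10810 (iv D10786) (iv F13947)
theorem F18124 : act 1 n10810 = n8397 := d6_1 D10810 (iv D8397) (iv F13948)
def n10811 : Q := act 5 n8395
theorem D10811 : act 5 n8395 = n10811 := rfl
theorem F18125 : act 0 n10811 = n10785 := d4_1 D10811 F18079 (iv F13947)
theorem F18126 : act 1 n10811 = n8398 := d8_1 D10811 (iv D8398) (iv F13948)
theorem F18127 : act 2 n10811 = n10762 := d11_1 D10811 (iv D10762) (iv F13949)
theorem F18128 : act 4 n10811 = n9601 := d14_1 D10811 F16057 (iv D8365) (iv F10640) D8395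
def n10812 : Q := act 3 n8396
theorem D10812 : act 3 n8396 = n10812 := rfl
theorem F18129 : act 0 n10812 = n8401 := d2_1 D10812 (iv D8401) (iv F13950)
theorem F18130 : act 4 n10812 = n8397 := d12_2 D8396 D10812 (iv D8397) (iv D6442) D6441
def n10813 : Q := act 5 n8396
theorem D10813 : act 5 n8396 = n10813 := rfl
theorem F18131 : act 0 n10813 = n8402 := d4_1 D10813 (iv D8402) (iv F13950)
theorem F18132 : act 2 n10813 = n8891 := d11_1 D10813 F14769 (iv F13951)
theorem F18133 : act 4 n10813 = n8888 := d14_1 D10813 (iv D8888) (iv D6813) (iv F10643) D8396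
def n10814 : Q := act 2 n8397
theorem D10814 : act 2 n8397 = n10814 := rfl
theorem F18134 : act 0 n10814 = n8403 := d1_1 D10814 (iv D8403) (iv F13952)
theorem F18135 : act 3 n10814 = n8431 := d15_1 D10814 F14010 F10695 F7998 (iv F7972) (iv F10656) (iv F13967) (iv D8404) (iv F13952)
theorem F18136 : act 5 n8430 = n10814 := d13_0 F18135 (iv D8431) D8430
def n10815 : Q := act 5 n8397
theorem D10815 : act 5 n8397 = n10815 := rfl
theorem F18137 : act 0 n10815 = n8404 := d4_1 D10815 (iv D8404) (iv F13952)
theorem F18138 : act 2 n10815 = n8430 := d11_1 D10815 F18136 (iv D10814)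
theorem F18139 : act 3 n10815 = n8398 := d13_1 D10815 (iv D8398) D8397
def n10816 : Q := act 4 n8399
theorem D10816 : act 4 n8399 = n10816 := rfl
theorem F18140 : act 0 n10816 = n10679 := d3_1 D10816 (iv D10679) (iv F13956)
theorem F18141 : act 1 n10816 = n8400 := d7_1 D10816 (iv D8400) D8399
theorem F18142 : act 2 n10816 = n10679 := d10_1 D10816 (iv D10679) (iv F13957)
def n10817 : Q := act 3 n8400
theorem D10817 : act 3 n8400 = n10817 := rfl
theorem F18143 : act 0 n10817 = n8892 := d2_1 D10817 (iv D8892) (iv F13960)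
theorem F18144 : act 4 n10817 = n8877 := d12_2 D8400 D10817 (iv D8877) (iv D6804) (iv F10651)
def n10818 : Q := act 5 n8400
theorem D10818 : act 5 n8400 = n10818 := rfl
theorem F18145 : act 0 n10818 = n8891 := d4_1 D10818 F14769 (iv F13960)
theorem F18146 : act 2 n10818 = n8402 := d11_1 D10818 (iv D8402) (iv F13961)
theorem F18147 : act 4 n10818 = n8873 := d14_1 D10818 (iv D8873) (iv D6801) (iv F10652) D8400
def n10819 : Q := act 2 n8401
theorem D10819 : act 2 n8401 = n10819 := rfl
theorem F18148 : act 4 n10819 = n8403 := d10_2 (iv F13963) D10819 (iv D8403)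
def n10820 : Q := act 5 n8401
theorem D10820 : act 5 n8401 = n10820 := rfl
theorem F18149 : act 1 n10820 = n10797 := d8_1 D10820 F18098 (iv F13962)
theorem F18150 : act 3 n10820 = n8402 := d13_1 D10820 (iv D8402) D8401
def n10821 : Q := act 1 n8403
theorem D10821 : act 1 n8403 = n10821 := rfl
theorem F18151 : act 2 n10821 = n10801 := d5_2 D8403 D10821 (iv D10801) (iv D8387) (iv F10654)
def n10822 : Q := act 3 n8403
theorem D10822 : act 3 n8403 = n10822 := rfl
theorem F18152 : act 0 n10822 = n8431 := d2_1 D10822 (iv F18135) F18134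
theorem F18153 : act 2 n10822 = n8423 := d9_1 D10822 F13999 F10687 (iv F10648) (iv F13954) (iv F18139) F18138 (iv D8430) (iv D6467) (iv D4893) F5946 (iv F5913) (iv F7970) D6446 D8403
theorem F18154 : act 5 n10822 = n8422 := d15_8 (iv D6467) (iv D4893) F5946 (iv F5913) (iv F7970) D6446 D8403 D10822 F13997
def n10823 : Q := act 5 n8403
theorem D10823 : act 5 n8403 = n10823 := rfl
theorem F18155 : act 0 n10823 = n8430 := d4_1 D10823 F18136 F18134
theorem F18156 : act 2 n10823 = n8404 := d11_1 D10823 (iv D8404) D8403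
theorem F18157 : act 3 n10823 = n8422 := d13_1 D10823 (iv F18154) (iv D10822)
def n10824 : Q := act 4 n8404
theorem D10824 : act 4 n8404 = n10824 := rfl
theorem F18158 : act 1 n10824 = n10799 := d7_1 D10824 F18100 (iv F13966)
theorem F18159 : act 3 n10824 = n9604 := d12_1 D10824 (iv D9604) (iv D7399) (iv F10657) (iv F13967)
def n10825 : Q := act 1 n8405
theorem D10825 : act 1 n8405 = n10825 := rfl
theorem F18160 : act 2 n10825 = n8487 := d5_2 D8405 D10825 (iv D8487) (iv D6512) (iv F10658)
def n10826 : Q := act 2 n8406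
theorem D10826 : act 2 n8406 = n10826 := rfl
theorem F18161 : act 0 n10826 = n8407 := d1_1 D10826 (iv D8407) (iv F13968)
theorem F18162 : act 4 n10826 = n9520 := d10_2 (iv F13970) D10826 (iv D9520)
theorem F18163 : act 3 n10826 = n9905 := d15_1 D10826 (iv D9905) (iv D7639) F9568 (iv F7952) (iv F10623) D8390 F13934 (iv F13968)
def n10827 : Q := act 1 n8407
theorem D10827 : act 1 n8407 = n10827 := rfl
theorem F18164 : act 2 n10827 = n8408 := d5_2 D8407 D10827 (iv D8408) (iv D6451) (iv F10662)
def n10828 : Q := act 3 n8407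
theorem D10828 : act 3 n8407 = n10828 := rfl
theorem F18165 : act 0 n10828 = n9905 := d2_1 D10828 (iv F18163) F18161
theorem F18166 : act 2 n10828 = n9894 := d15_2 D8407 D10828 (iv D9894) F12642 (iv F10628) (iv F13930) D10804 F18107 F13968
def n10829 : Q := act 0 n8408
theorem D10829 : act 0 n8408 = n10829 := rfl
def n10830 : Q := act 1 n8409
theorem D10830 : act 1 n8409 = n10830 := rfl
theorem F18167 : act 0 n10830 = n10767 := d0_1 D10830 (iv D10767) F13890 (iv F10667) (iv F13971)
theorem F18168 : act 2 n10830 = n8530 := d5_2 D8409 D10830 (iv D8530) (iv D6543) (iv F10664)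
theorem F18169 : act 4 n10830 = n8483 := d7_2 (iv F13972) D10830 (iv D8483)
theorem F18170 : act 5 n10830 = n9892 := d8_2 (iv F13973) D10830 F16530
def n10831 : Q := act 3 n8409
theorem D10831 : act 3 n8409 = n10831 := rfl
theorem F18171 : act 0 n10831 = n8410 := d2_1 D10831 (iv D8410) (iv F13971)
theorem F18172 : act 5 n10831 = n9894 := d13_2 (iv F13973) D10831 (iv D9894)
def n10832 : Q := act 2 n8410
theorem D10832 : act 2 n8410 = n10832 := rfl
theorem F18173 : act 5 n10832 = n9905 := d11_2 (iv F13975) D10832 (iv D9905)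
def n10833 : Q := act 4 n8410
theorem D10833 : act 4 n8410 = n10833 := rfl
theorem F18174 : act 1 n10833 = n10779 := d7_1 D10833 (iv D10779) (iv F13974)
theorem F18175 : act 3 n10833 = n8491 := d12_1 D10833 (iv D8491) (iv D6514) (iv F10668) D8410
def n10834 : Q := act 0 n8411
theorem D10834 : act 0 n8411 = n10834 := rfl
theorem F18176 : act 1 n10834 = n8413 := d0_2 D8411 D10834 (iv D8413) (iv D6455) (iv F10670)
theorem F18177 : act 2 n10834 = n9892 := d1_2 F17858 D10834 (iv F17857)
theorem F18178 : act 4 n10834 = n9548 := d3_2 F14289 D10834 F15959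
theorem F18179 : act 5 n10834 = n8530 := d4_2 F18115 D10834 (iv F18111)
def n10835 : Q := act 3 n8411
theorem D10835 : act 3 n8411 = n10835 := rfl
theorem F18180 : act 1 n10835 = n8412 := d6_1 D10835 (iv D8412) D8411
theorem F18181 : act 5 n10835 = n8932 := d13_2 F18115 D10835 (iv F18113)
def n10836 : Q := act 4 n8412
theorem D10836 : act 4 n8412 = n10836 := rfl
theorem F18182 : act 0 n10836 = n8416 := d3_1 D10836 (iv D8416) (iv F13976)
theorem F18183 : act 2 n10836 = n8902 := d10_1 D10836 (iv D8902) (iv F13977)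
def n10837 : Q := act 3 n8413
theorem D10837 : act 3 n8413 = n10837 := rfl
theorem F18184 : act 0 n10837 = n8414 := d2_1 D10837 (iv D8414) D8413
theorem F18185 : act 5 n10837 = n8531 := d13_2 (iv F13981) D10837 (iv D8531)
theorem F18186 : act 2 n10837 = n8506 := d15_2 (iv F13979) D10837 (iv D8506) (iv D6527) (iv D4944) F6048 D3708 (iv F7988) D6457
def n10838 : Q := act 2 n8414
theorem D10838 : act 2 n8414 = n10838 := rfl
theorem F18187 : act 0 n10838 = n8506 := d1_1 D10838 (iv F18186) F18184
theorem F18188 : act 5 n10838 = n8532 := d11_2 (iv F13983) D10838 (iv D8532)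
theorem F18189 : act 3 n10838 = n8501 := d15_1 D10838 (iv D8501) (iv D6523) F8089 D4956 D6543 D8531 (iv F18185) F18184
def n10839 : Q := act 4 n8414
theorem D10839 : act 4 n8414 = n10839 := rfl
theorem F18190 : act 1 n10839 = n8416 := d7_1 D10839 (iv D8416) (iv F13982)
theorem F18191 : act 3 n10839 = n9585 := d12_1 D10839 (iv D9585) (iv D7385) (iv F10672) D8414
def n10840 : Q := act 1 n8415
theorem D10840 : act 1 n8415 = n10840 := rfl
theorem F18192 : act 3 n10840 = n8879 := d6_2 (iv F13985) D10840 (iv D8879)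
theorem F18193 : act 5 n10840 = n8914 := d8_2 (iv F13986) D10840 F14799
def n10841 : Q := act 4 n8415
theorem D10841 : act 4 n8415 = n10841 := rfl
theorem F18194 : act 0 n10841 = n8902 := d3_1 D10841 (iv D8902) (iv F13984)
theorem F18195 : act 2 n10841 = n8416 := d10_1 D10841 (iv D8416) D8415
def n10842 : Q := act 5 n8416
theorem D10842 : act 5 n8416 = n10842 := rfl
def n10843 : Q := act 3 n8417
theorem D10843 : act 3 n8417 = n10843 := rfl
theorem F18196 : act 0 n10843 = n9100 := d2_1 D10843 (iv D9100) (iv F13987)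
theorem F18197 : act 1 n10843 = n8420 := d6_1 D10843 (iv D8420) (iv F13988)
theorem F18198 : act 4 n10843 = n8418 := d12_2 D8417 D10843 (iv D8418) (iv D6459) D6458
def n10844 : Q := act 5 n8417
theorem D10844 : act 5 n8417 = n10844 := rfl
theorem F18199 : act 0 n10844 = n9101 := d4_1 D10844 (iv D9101) (iv F13987)
theorem F18200 : act 1 n10844 = n8421 := d8_1 D10844 (iv D8421) (iv F13988)
theorem F18201 : act 2 n10844 = n8645 := d11_1 D10844 (iv D8645) (iv F13989)
theorem F18202 : act 4 n10844 = n8917 := d14_1 D10844 (iv D8917) (iv D6837) (iv F10681) D8417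
def n10845 : Q := act 2 n8418
theorem D10845 : act 2 n8418 = n10845 := rfl
def n10846 : Q := act 5 n8418
theorem D10846 : act 5 n8418 = n10846 := rfl
theorem F18203 : act 1 n10846 = n8423 := d8_1 D10846 (iv D8423) (iv F13990)
theorem F18204 : act 3 n10846 = n8419 := d13_1 D10846 (iv D8419) D8418
def n10847 : Q := act 2 n8420
theorem D10847 : act 2 n8420 = n10847 := rfl
theorem F18205 : act 0 n10847 = n8427 := d1_1 D10847 (iv D8427) (iv F13992)
theorem F18206 : act 4 n10847 = n8422 := d10_2 (iv F13993) D10847 (iv D8422)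
def n10848 : Q := act 5 n8420
theorem D10848 : act 5 n8420 = n10848 := rfl
theorem F18207 : act 0 n10848 = n8428 := d4_1 D10848 (iv D8428) (iv F13992)
theorem F18208 : act 3 n10848 = n8421 := d13_1 D10848 (iv D8421) D8420
def n10849 : Q := act 1 n8422
theorem D10849 : act 1 n8422 = n10849 := rfl
def n10850 : Q := act 4 n8423
theorem D10850 : act 4 n8423 = n10850 := rfl
theorem F18209 : act 0 n10850 = n8432 := d3_1 D10850 (iv D8432) (iv F13998)
def n10851 : Q := act 5 n8424
theorem D10851 : act 5 n8424 = n10851 := rfl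
theorem F18210 : act 0 n10851 = n8631 := d4_1 D10851 (iv D8631) (iv F14000)
theorem F18211 : act 1 n10851 = n8426 := d8_1 D10851 (iv D8426) (iv F14001)
theorem F18212 : act 2 n10851 = n9099 := d11_1 D10851 (iv D9099) (iv F14002)
theorem F18213 : act 4 n10851 = n8906 := d14_1 D10851 (iv D8906) (iv D6828) (iv F10691) D8424
def n10852 : Q := act 2 n8425
theorem D10852 : act 2 n8425 = n10852 := rfl
theorem F18214 : act 0 n10852 = n8638 := d1_1 D10852 F14301 (iv F14003)
theorem F18215 : act 4 n10852 = n8634 := d10_2 (iv F14004) D10852 (iv D8634)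
def n10853 : Q := act 5 n8425
theorem D10853 : act 5 n8425 = n10853 := rfl
theorem F18216 : act 0 n10853 = n8639 := d4_1 D10853 (iv D8639) (iv F14003)
theorem F18217 : act 3 n10853 = n8426 := d13_1 D10853 (iv D8426) D8425
def n10854 : Q := act 1 n8427
theorem D10854 : act 1 n8427 = n10854 := rfl
theorem F18218 : act 4 n10854 = n8429 := d7_2 (iv F14008) D10854 (iv D8429)
def n10855 : Q := act 3 n8427
theorem D10855 : act 3 n8427 = n10855 := rfl
def n10856 : Q := act 5 n8427
theorem D10856 : act 5 n8427 = n10856 := rfl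
theorem F18219 : act 2 n10856 = n8428 := d11_1 D10856 (iv D8428) D8427
def n10857 : Q := act 4 n8428
theorem D10857 : act 4 n8428 = n10857 := rfl
theorem F18220 : act 5 n10857 = n8432 := d14_2 D8428 D10857 (iv D8432) (iv D6468) (iv F10694)
def n10858 : Q := act 0 n8429
theorem D10858 : act 0 n8429 = n10858 := rfl
def n10859 : Q := act 3 n8429
theorem D10859 : act 3 n8429 = n10859 := rfl
theorem F18221 : act 1 n10859 = n8430 := d6_1 D10859 (iv D8430) D8429
def n10860 : Q := act 5 n8429
theorem D10860 : act 5 n8429 = n10860 := rfl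
theorem F18222 : act 1 n10860 = n8431 := d8_1 D10860 (iv D8431) D8429
def n10861 : Q := act 4 n8430
theorem D10861 : act 4 n8430 = n10861 := rfl
def n10862 : Q := act 4 n8431
theorem D10862 : act 4 n8431 = n10862 := rfl
theorem F18223 : act 2 n10862 = n8432 := d10_1 D10862 (iv D8432) (iv F14010)
def n10863 : Q := act 3 n8433
theorem D10863 : act 3 n8433 = n10863 := rfl
theorem F18224 : act 0 n10863 = n9861 := d2_1 D10863 F16482 (iv F14011)
theorem F18225 : act 1 n10863 = n8434 := d6_1 D10863 (iv D8434) D8433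
theorem F18226 : act 5 n10863 = n9889 := d13_2 (iv F14012) D10863 (iv D9889)
def n10864 : Q := act 4 n8434
theorem D10864 : act 4 n8434 = n10864 := rfl
theorem F18227 : act 0 n10864 = n8436 := d3_1 D10864 (iv D8436) (iv F14013)
def n10865 : Q := act 1 n8435
theorem D10865 : act 1 n8435 = n10865 := rfl
theorem F18228 : act 2 n10865 = n9844 := d5_2 D8435 D10865 F16464 F12578 (iv F10698)
theorem F18229 : act 5 n10865 = n9896 := d8_2 (iv F14015) D10865 (iv D9896)
def n10866 : Q := act 4 n8435
theorem D10866 : act 4 n8435 = n10866 := rfl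
theorem F18230 : act 2 n10866 = n8436 := d10_1 D10866 (iv D8436) D8435
def n10867 : Q := act 5 n8436
theorem D10867 : act 5 n8436 = n10867 := rfl
theorem F18231 : act 1 n10867 = n9903 := d8_1 D10867 F16539 (iv F14016)
theorem F18232 : act 4 n10867 = n9898 := d14_1 D10867 (iv D9898) (iv D7634) (iv F10699) D8436
def n10868 : Q := act 2 n8437
theorem D10868 : act 2 n8437 = n10868 := rfl
theorem F18233 : act 0 n10868 = n8441 := d1_1 D10868 (iv D8441) (iv F14017)
theorem F18234 : act 4 n10868 = n8439 := d10_2 (iv F14019) D10868 (iv D8439)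
def n10869 : Q := act 5 n8437
theorem D10869 : act 5 n8437 = n10869 := rfl
theorem F18235 : act 0 n10869 = n8442 := d4_1 D10869 (iv D8442) (iv F14017)
theorem F18236 : act 1 n10869 = n8482 := d8_1 D10869 (iv D8482) (iv F14018)
theorem F18237 : act 3 n10869 = n8438 := d13_1 D10869 (iv D8438) D8437
def n10870 : Q := act 1 n8439
theorem D10870 : act 1 n8439 = n10870 := rfl
theorem F18238 : act 2 n10870 = n9848 := d5_2 D8439 D10870 (iv D9848) (iv D7593) (iv F10704)
theorem F18239 : act 3 n10870 = n8836 := d6_2 (iv F14025) D10870 F14670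
theorem F18240 : act 5 n10870 = n8835 := d8_2 F14026 D10870 F14669
def n10871 : Q := act 4 n8440
theorem D10871 : act 4 n8440 = n10871 := rfl
theorem F18241 : act 0 n10871 = n8446 := d3_1 D10871 (iv D8446) (iv F14027)
theorem F18242 : act 1 n10871 = n9851 := d7_1 D10871 (iv D9851) (iv F14028)
theorem F18243 : act 2 n10871 = n8837 := d10_1 D10871 (iv D8837) (iv F14029)
theorem F18244 : act 3 n10871 = n9909 := d12_1 D10871 (iv D9909) F12646 (iv F10708) (iv F14030)
def n10872 : Q := act 1 n8441
theorem D10872 : act 1 n8441 = n10872 := rfl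
theorem F18245 : act 4 n10872 = n8443 := d7_2 (iv F14031) D10872 (iv D8443)
def n10873 : Q := act 3 n8441
theorem D10873 : act 3 n8441 = n10873 := rfl
def n10874 : Q := act 5 n8441
theorem D10874 : act 5 n8441 = n10874 := rfl
theorem F18246 : act 2 n10874 = n8442 := d11_1 D10874 (iv D8442) D8441
def n10875 : Q := act 4 n8442
theorem D10875 : act 4 n8442 = n10875 := rfl
theorem F18247 : act 5 n10875 = n8446 := d14_2 D8442 D10875 (iv D8446) (iv D6477) (iv F10709)
def n10876 : Q := act 0 n8443
theorem D10876 : act 0 n8443 = n10876 := rfl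
def n10877 : Q := act 3 n8443
theorem D10877 : act 3 n8443 = n10877 := rfl
theorem F18248 : act 1 n10877 = n8444 := d6_1 D10877 (iv D8444) D8443
theorem F18249 : act 5 n8826 = n10877 := d8_0 F18248 F14035 D8826
def n10878 : Q := act 5 n8443
theorem D10878 : act 5 n8443 = n10878 := rfl
theorem F18250 : act 1 n10878 = n8445 := d8_1 D10878 (iv D8445) D8443
theorem F18251 : act 3 n10878 = n8826 := d13_1 D10878 F18249 (iv D10877)
def n10879 : Q := act 4 n8444
theorem D10879 : act 4 n8444 = n10879 := rfl
theorem F18252 : act 0 n10879 = n8838 := d3_1 D10879 (iv D8838) (iv F14033)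
theorem F18253 : act 2 n10879 = n8827 := d10_1 D10879 (iv D8827) (iv F14034)
def n10880 : Q := act 4 n8445
theorem D10880 : act 4 n8445 = n10880 := rfl
theorem F18254 : act 0 n10880 = n8837 := d3_1 D10880 (iv D8837) (iv F14036)
theorem F18255 : act 2 n10880 = n8446 := d10_1 D10880 (iv D8446) (iv F14037)
def n10881 : Q := act 5 n8447
theorem D10881 : act 5 n8447 = n10881 := rfl
theorem F18256 : act 0 n10881 = n9405 := d4_1 D10881 (iv D9405) (iv F14039)
theorem F18257 : act 1 n10881 = n8681 := d8_1 D10881 (iv D8681) (iv F14040)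
theorem F18258 : act 4 n10881 = n8665 := d14_1 D10881 (iv D8665) (iv D6643) (iv F10713) D8447
def n10882 : Q := act 1 n8448
theorem D10882 : act 1 n8448 = n10882 := rfl
theorem F18259 : act 2 n10882 = n9839 := d5_2 D8448 D10882 (iv D9839) (iv D7587) (iv F10715)
theorem F18260 : act 4 n10882 = n9814 := d7_2 (iv F14042) D10882 (iv D9814)
def n10883 : Q := act 3 n8448
theorem D10883 : act 3 n8448 = n10883 := rfl
theorem F18261 : act 0 n10883 = n8451 := d2_1 D10883 (iv D8451) (iv F14041)
theorem F18262 : act 2 n10883 = n8465 := d15_2 D8448 D10883 F14064 F10738 F8035 (iv F8026) (iv F10723) (iv D6482) (iv F10714)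
theorem F18263 : act 5 n8463 = n10883 := d11_0 F18262 (iv D8465) D8463
def n10884 : Q := act 5 n8448
theorem D10884 : act 5 n8448 = n10884 := rfl
theorem F18264 : act 0 n10884 = n8452 := d4_1 D10884 (iv D8452) (iv F14041)
theorem F18265 : act 2 n10884 = n8449 := d11_1 D10884 (iv D8449) D8448
theorem F18266 : act 3 n10884 = n8463 := d13_1 D10884 F18263 (iv D10883)
def n10885 : Q := act 4 n8449
theorem D10885 : act 4 n8449 = n10885 := rfl
theorem F18267 : act 0 n10885 = n8453 := d3_1 D10885 (iv D8453) (iv F14043)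
theorem F18268 : act 1 n10885 = n9842 := d7_1 D10885 (iv D9842) (iv F14044)
theorem F18269 : act 3 n10885 = n9913 := d12_1 D10885 (iv D9913) F12649 (iv F10720) (iv F14045)
theorem F18270 : act 5 n10885 = n9817 := d14_2 D8449 D10885 (iv D9817) (iv D7570) (iv F10716)
def n10886 : Q := act 0 n8450
theorem D10886 : act 0 n8450 = n10886 := rfl
theorem F18271 : act 2 n10886 = n8454 := d1_2 (iv F14046) D10886 (iv D8454)
theorem F18272 : act 4 n10886 = n9818 := d3_2 (iv F14047) D10886 (iv D9818)
def n10887 : Q := act 3 n8450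
theorem D10887 : act 3 n8450 = n10887 := rfl
theorem F18273 : act 1 n10887 = n8451 := d6_1 D10887 (iv D8451) D8450
def n10888 : Q := act 5 n8450
theorem D10888 : act 5 n8450 = n10888 := rfl
theorem F18274 : act 1 n10888 = n8452 := d8_1 D10888 (iv D8452) D8450
theorem F18275 : act 2 n10888 = n8456 := d11_1 D10888 (iv D8456) (iv F14046)
def n10889 : Q := act 2 n8451
theorem D10889 : act 2 n8451 = n10889 := rfl
theorem F18276 : act 0 n10889 = n8465 := d1_1 D10889 (iv F18262) F18261
theorem F18277 : act 3 n10889 = n8459 := d9_2 D8451 D10889 F14060 F10736 (iv F10719) (iv F14045) (iv F18265) F18266 (iv D8463) (iv D6490) (iv D4912) (iv D3668) (iv F5974) D4906 D6481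
theorem F18278 : act 5 n8458 = n10889 := d13_0 F18277 (iv D8459) D8458
def n10890 : Q := act 4 n8451
theorem D10890 : act 4 n8451 = n10890 := rfl
theorem F18279 : act 3 n10890 = n9821 := d12_1 D10890 (iv D9821) (iv D7572) (iv F10721) D8451
def n10891 : Q := act 5 n8451
theorem D10891 : act 5 n8451 = n10891 := rfl
theorem F18280 : act 0 n10891 = n8463 := d4_1 D10891 F18263 F18261
theorem F18281 : act 2 n10891 = n8458 := d11_1 D10891 F18278 (iv D10889)
theorem F18282 : act 3 n10891 = n8452 := d13_1 D10891 (iv D8452) D8451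
def n10892 : Q := act 4 n8452
theorem D10892 : act 4 n8452 = n10892 := rfl
theorem F18283 : act 2 n10892 = n8453 := d10_1 D10892 (iv D8453) (iv F14048)
theorem F18284 : act 5 n10892 = n9823 := d14_2 D8452 D10892 (iv D9823) (iv D7573) (iv F10721)
def n10893 : Q := act 3 n8454
theorem D10893 : act 3 n8454 = n10893 := rfl
theorem F18285 : act 0 n10893 = n8455 := d2_1 D10893 (iv D8455) D8454
theorem F18286 : act 1 n10893 = n8965 := d6_1 D10893 F14872 (iv F14052)
theorem F18287 : act 5 n8943 = n10893 := d8_0 F18286 (iv D8965) (iv F14830)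
def n10894 : Q := act 5 n8454
theorem D10894 : act 5 n8454 = n10894 := rfl
theorem F18288 : act 0 n10894 = n8456 := d4_1 D10894 (iv D8456) D8454
theorem F18289 : act 1 n10894 = n8964 := d8_1 D10894 (iv F14870) (iv F14052)
theorem F18290 : act 3 n10894 = n8943 := d13_1 D10894 F18287 (iv D10893)
def n10895 : Q := act 2 n8455
theorem D10895 : act 2 n8455 = n10895 := rfl
theorem F18291 : act 1 n10895 = n8941 := d5_1 D10895 F14827 F11321 (iv F10726) (iv F14054)
theorem F18292 : act 5 n10895 = n8939 := d11_2 F14055 D10895 F14825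
def n10896 : Q := act 0 n8457
theorem D10896 : act 0 n8457 = n10896 := rfl
theorem F18293 : act 1 n10896 = n8461 := d0_2 D8457 D10896 (iv D8461) (iv D6489) (iv F10734)
def n10897 : Q := act 3 n8457
theorem D10897 : act 3 n8457 = n10897 := rfl
theorem F18294 : act 1 n10897 = n8458 := d6_1 D10897 (iv D8458) D8457
def n10898 : Q := act 5 n8457
theorem D10898 : act 5 n8457 = n10898 := rfl
theorem F18295 : act 1 n10898 = n8459 := d8_1 D10898 (iv D8459) D8457
def n10899 : Q := act 4 n8458
theorem D10899 : act 4 n8458 = n10899 := rfl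
theorem F18296 : act 0 n10899 = n8464 := d3_1 D10899 (iv D8464) (iv F14058)
def n10900 : Q := act 4 n8459
theorem D10900 : act 4 n8459 = n10900 := rfl
theorem F18297 : act 0 n10900 = n8466 := d3_1 D10900 (iv D8466) (iv F14059)
theorem F18298 : act 2 n10900 = n8460 := d10_1 D10900 (iv D8460) (iv F14060)
def n10901 : Q := act 3 n8461
theorem D10901 : act 3 n8461 = n10901 := rfl
theorem F18299 : act 0 n10901 = n8462 := d2_1 D10901 (iv D8462) D8461
def n10902 : Q := act 2 n8462
theorem D10902 : act 2 n8462 = n10902 := rfl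
def n10903 : Q := act 4 n8462
theorem D10903 : act 4 n8462 = n10903 := rfl
theorem F18300 : act 1 n10903 = n8464 := d7_1 D10903 (iv D8464) (iv F14063)
def n10904 : Q := act 1 n8463
theorem D10904 : act 1 n8463 = n10904 := rfl
def n10905 : Q := act 4 n8463
theorem D10905 : act 4 n8463 = n10905 := rfl
theorem F18301 : act 2 n10905 = n8464 := d10_1 D10905 (iv D8464) D8463
def n10906 : Q := act 5 n8464
theorem D10906 : act 5 n8464 = n10906 := rfl
def n10907 : Q := act 4 n8465
theorem D10907 : act 4 n8465 = n10907 := rfl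
def n10908 : Q := act 3 n8466
theorem D10908 : act 3 n8466 = n10908 := rfl
def n10909 : Q := act 4 n8470
theorem D10909 : act 4 n8470 = n10909 := rfl
theorem F18302 : act 1 n10909 = n8472 := d7_1 D10909 (iv D8472) (iv F14077)
theorem F18303 : act 2 n10909 = n9080 := d10_1 D10909 (iv D9080) F14078
theorem F18304 : act 3 n10909 = n8477 := d12_1 D10909 (iv D8477) (iv D6503) (iv F10752) D8470
def n10910 : Q := act 4 n8471
theorem D10910 : act 4 n8471 = n10910 := rfl
theorem F18305 : act 0 n10910 = n10018 := d3_1 D10910 (iv D10018) (iv F14080)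
theorem F18306 : act 1 n10910 = n8473 := d7_1 D10910 (iv D8473) (iv F14081)
theorem F18307 : act 2 n10910 = n9346 := d10_1 D10910 (iv D9346) (iv F14082)
theorem F18308 : act 5 n10910 = n8478 := d14_2 D8471 D10910 (iv D8478) (iv D6504) (iv F10752)
def n10911 : Q := act 5 n8472
theorem D10911 : act 5 n8472 = n10911 := rfl
theorem F18309 : act 0 n10911 = n9249 := d4_1 D10911 (iv D9249) (iv F14084)
theorem F18310 : act 2 n10911 = n9078 := d11_1 D10911 (iv D9078) (iv F14085)
theorem F18311 : act 3 n10911 = n8479 := d13_1 D10911 (iv D8479) (iv F14086)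
theorem F18312 : act 4 n10911 = n9271 := d14_1 D10911 (iv D9271) (iv D7119) F10755 D8472
def n10912 : Q := act 3 n8473
theorem D10912 : act 3 n8473 = n10912 := rfl
theorem F18313 : act 0 n10912 = n9251 := d2_1 D10912 (iv D9251) (iv F14087)
theorem F18314 : act 4 n10912 = n9270 := d12_2 D8473 D10912 (iv D9270) (iv D7119) (iv F10758)
theorem F18315 : act 5 n10912 = n8480 := d13_2 (iv F14089) D10912 (iv D8480)
def n10913 : Q := act 2 n8474
theorem D10913 : act 2 n8474 = n10913 := rfl
theorem F18316 : act 0 n10913 = n8476 := d1_1 D10913 (iv D8476) (iv F14090)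
def n10914 : Q := act 4 n8474
theorem D10914 : act 4 n8474 = n10914 := rfl
theorem F18317 : act 0 n10914 = n8477 := d3_1 D10914 (iv D8477) (iv F14090)
def n10915 : Q := act 4 n8475
theorem D10915 : act 4 n8475 = n10915 := rfl
theorem F18318 : act 0 n10915 = n8478 := d3_1 D10915 (iv D8478) (iv F14091)
theorem F18319 : act 1 n10915 = n10021 := d7_1 D10915 F16725 F16398
theorem F18320 : act 2 n10915 = n9969 := d10_1 D10915 (iv D9969) (iv F14092)
theorem F18321 : act 5 n10915 = n10018 := d14_2 D8475 D10915 (iv D10018) F14076 F14075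
def n10916 : Q := act 3 n8476
theorem D10916 : act 3 n8476 = n10916 := rfl
def n10917 : Q := act 4 n8476
theorem D10917 : act 4 n8476 = n10917 := rfl
theorem F18322 : act 2 n10917 = n8477 := d10_1 D10917 (iv D8477) D8476
def n10918 : Q := act 5 n8477
theorem D10918 : act 5 n8477 = n10918 := rfl
theorem F18323 : act 1 n10918 = n8479 := d8_1 D10918 (iv D8479) (iv F14093)
def n10919 : Q := act 3 n8478
theorem D10919 : act 3 n8478 = n10919 := rfl
theorem F18324 : act 1 n10919 = n8480 := d6_1 D10919 (iv D8480) (iv F14094)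
def n10920 : Q := act 2 n8480
theorem D10920 : act 2 n8480 = n10920 := rfl
def n10921 : Q := act 1 n8481
theorem D10921 : act 1 n8481 = n10921 := rfl
theorem F18325 : act 3 n10921 = n9528 := d6_2 (iv F14098) D10921 F15923
theorem F18326 : act 4 n10921 = n9848 := d7_2 (iv F14097) D10921 (iv D9848)
theorem F18327 : act 5 n10921 = n9527 := d8_2 F14099 D10921 F15922
def n10922 : Q := act 4 n8482
theorem D10922 : act 4 n8482 = n10922 := rfl
theorem F18328 : act 0 n10922 = n8490 := d3_1 D10922 (iv D8490) (iv F14100)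
theorem F18329 : act 2 n10922 = n9529 := d10_1 D10922 (iv D9529) (iv F14101)
theorem F18330 : act 5 n10922 = n9851 := d14_2 D8482 D10922 (iv D9851) (iv D7594) (iv F10769)
def n10923 : Q := act 3 n8483
theorem D10923 : act 3 n8483 = n10923 := rfl
theorem F18331 : act 1 n10923 = n8484 := d6_1 D10923 (iv D8484) D8483
theorem F18332 : act 5 n10923 = n9518 := d13_2 (iv F14104) D10923 (iv D9518)
def n10924 : Q := act 4 n8484
theorem D10924 : act 4 n8484 = n10924 := rfl
theorem F18333 : act 0 n10924 = n8491 := d3_1 D10924 (iv D8491) (iv F14105)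
theorem F18334 : act 2 n10924 = n8491 := d10_1 D10924 (iv D8491) (iv F14106)
def n10925 : Q := act 1 n8485
theorem D10925 : act 1 n8485 = n10925 := rfl
theorem F18335 : act 4 n10925 = n8487 := d7_2 (iv F14109) D10925 (iv D8487)
def n10926 : Q := act 3 n8485
theorem D10926 : act 3 n8485 = n10926 := rfl
theorem F18336 : act 0 n10926 = n9849 := d2_1 D10926 (iv D9849) (iv F14108)
theorem F18337 : act 2 n10926 = n9856 := d15_2 D8485 D10926 F16477 F12587 F9531 (iv F9528) (iv F12584) (iv D7594) (iv F10774)
theorem F18338 : act 5 n9854 = n10926 := d11_0 F18337 (iv D9856) D9854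
def n10927 : Q := act 5 n8485
theorem D10927 : act 5 n8485 = n10927 := rfl
theorem F18339 : act 0 n10927 = n9850 := d4_1 D10927 (iv D9850) (iv F14108)
theorem F18340 : act 2 n10927 = n8486 := d11_1 D10927 (iv D8486) D8485
theorem F18341 : act 3 n10927 = n9854 := d13_1 D10927 F18338 (iv D10926)
def n10928 : Q := act 4 n8486
theorem D10928 : act 4 n8486 = n10928 := rfl
theorem F18342 : act 0 n10928 = n9851 := d3_1 D10928 (iv D9851) (iv F14110)
theorem F18343 : act 5 n10928 = n8490 := d14_2 D8486 D10928 (iv D8490) (iv D6513) (iv F10775)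
def n10929 : Q := act 0 n8487
theorem D10929 : act 0 n8487 = n10929 := rfl
def n10930 : Q := act 3 n8487
theorem D10930 : act 3 n8487 = n10930 := rfl
theorem F18344 : act 1 n10930 = n8488 := d6_1 D10930 (iv D8488) D8487
theorem F18345 : act 5 n9515 = n10930 := d8_0 F18344 F14114 D9515
def n10931 : Q := act 5 n8487
theorem D10931 : act 5 n8487 = n10931 := rfl
theorem F18346 : act 1 n10931 = n8489 := d8_1 D10931 (iv D8489) D8487
theorem F18347 : act 3 n10931 = n9515 := d13_1 D10931 F18345 (iv D10930)
def n10932 : Q := act 4 n8488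
theorem D10932 : act 4 n8488 = n10932 := rfl
theorem F18348 : act 0 n10932 = n9530 := d3_1 D10932 (iv D9530) (iv F14112)
theorem F18349 : act 2 n10932 = n9516 := d10_1 D10932 (iv D9516) (iv F14113)
def n10933 : Q := act 4 n8489
theorem D10933 : act 4 n8489 = n10933 := rfl
theorem F18350 : act 0 n10933 = n9529 := d3_1 D10933 (iv D9529) (iv F14115)
theorem F18351 : act 2 n10933 = n8490 := d10_1 D10933 (iv D8490) (iv F14116)
def n10934 : Q := act 5 n8491
theorem D10934 : act 5 n8491 = n10934 := rfl
theorem F18352 : act 4 n10934 = n9534 := d14_1 D10934 (iv D9534) (iv D7347) (iv F10779) D8491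
def n10935 : Q := act 1 n8492
theorem D10935 : act 1 n8492 = n10935 := rfl
theorem F18353 : act 2 n10935 = n8494 := d5_2 D8492 D10935 (iv D8494) (iv D6517) (iv F10781)
theorem F18354 : act 4 n10935 = n9353 := d7_2 (iv F14119) D10935 (iv D9353)
theorem F18355 : act 5 n8564 = n10935 := d11_0 F18353 F14124 D8564
def n10936 : Q := act 3 n8492
theorem D10936 : act 3 n8492 = n10936 := rfl
theorem F18356 : act 0 n10936 = n9358 := d2_1 D10936 (iv D9358) (iv F14118)
def n10937 : Q := act 5 n8492
theorem D10937 : act 5 n8492 = n10937 := rfl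
theorem F18357 : act 0 n10937 = n9359 := d4_1 D10937 (iv D9359) (iv F14118)
theorem F18358 : act 1 n10937 = n8564 := d8_1 D10937 F18355 (iv D10935)
theorem F18359 : act 2 n10937 = n8493 := d11_1 D10937 (iv D8493) D8492
def n10938 : Q := act 4 n8493
theorem D10938 : act 4 n8493 = n10938 := rfl
theorem F18360 : act 0 n10938 = n9360 := d3_1 D10938 (iv D9360) (iv F14120)
theorem F18361 : act 1 n10938 = n8495 := d7_1 D10938 (iv D8495) (iv F14121)
theorem F18362 : act 5 n10938 = n9354 := d14_2 D8493 D10938 (iv D9354) (iv D7204) (iv F10782)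
def n10939 : Q := act 0 n8494
theorem D10939 : act 0 n8494 = n10939 := rfl
theorem F18363 : act 1 n10939 = n8515 := d0_2 D8494 D10939 (iv D8515) (iv D6533) (iv F10785)
theorem F18364 : act 3 n10939 = n8563 := d2_2 (iv F14123) D10939 F14207
theorem F18365 : act 5 n10939 = n8562 := d4_2 (iv F14124) D10939 F14206
def n10940 : Q := act 3 n8495
theorem D10940 : act 3 n8495 = n10940 := rfl
theorem F18366 : act 0 n10940 = n8520 := d2_1 D10940 (iv D8520) (iv F14125)
theorem F18367 : act 4 n10940 = n8496 := d12_2 D8495 D10940 (iv D8496) (iv D6519) (iv F10790)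
def n10941 : Q := act 2 n8496
theorem D10941 : act 2 n8496 = n10941 := rfl
theorem F18368 : act 0 n10941 = n8521 := d1_1 D10941 (iv D8521) (iv F14127)
theorem F18369 : act 3 n10941 = n8524 := d9_2 D8496 D10941 (iv D8524) (iv D6539) (iv D4953) (iv D3705) (iv F6053) D4952 D6538 D8523 (iv F17835) (iv D10654) F13722 F10451 (iv F10792)
theorem F18370 : act 5 n10941 = n8497 := d11_2 (iv F14128) D10941 (iv D8497)
def n10942 : Q := act 1 n8497
theorem D10942 : act 1 n8497 = n10942 := rfl
def n10943 : Q := act 3 n8498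
theorem D10943 : act 3 n8498 = n10943 := rfl
theorem F18371 : act 1 n10943 = n8499 := d6_1 D10943 (iv D8499) D8498
def n10944 : Q := act 2 n8499
theorem D10944 : act 2 n8499 = n10944 := rfl
theorem F18372 : act 0 n10944 = n8524 := d1_1 D10944 (iv D8524) (iv F14131)
theorem F18373 : act 3 n10944 = n8521 := d9_2 D8499 D10944 (iv D8521) (iv D6537) F8101 (iv F7800) (iv F10462) D8276 D10664 F17856 (iv D8497) (iv D6520) F8080 D4940 D6521
theorem F18374 : act 5 n10944 = n8523 := d11_2 F17834 D10944 (iv F17835)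
def n10945 : Q := act 1 n8501
theorem D10945 : act 1 n8501 = n10945 := rfl
theorem F18375 : act 2 n10945 = n9357 := d5_2 D8501 D10945 (iv D9357) (iv D7207) (iv F10799)
theorem F18376 : act 4 n10945 = n9230 := d7_2 (iv F14135) D10945 (iv D9230)
def n10946 : Q := act 5 n8501
theorem D10946 : act 5 n8501 = n10946 := rfl
theorem F18377 : act 0 n10946 = n8507 := d4_1 D10946 (iv D8507) (iv F14134)
theorem F18378 : act 2 n10946 = n8502 := d11_1 D10946 (iv D8502) D8501
theorem F18379 : act 3 n10946 = n8532 := d13_1 D10946 (iv F18188) F18189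
def n10947 : Q := act 4 n8502
theorem D10947 : act 4 n8502 = n10947 := rfl
theorem F18380 : act 0 n10947 = n8508 := d3_1 D10947 (iv D8508) (iv F14136)
theorem F18381 : act 1 n10947 = n9360 := d7_1 D10947 (iv D9360) (iv F14137)
theorem F18382 : act 3 n10947 = n9222 := d12_1 D10947 (iv D9222) F11745 (iv F10804) (iv F14138)
theorem F18383 : act 5 n10947 = n9228 := d14_2 D8502 D10947 F15388 F11748 (iv F10800)
def n10948 : Q := act 1 n8503
theorem D10948 : act 1 n8503 = n10948 := rfl
theorem F18384 : act 2 n10948 = n8509 := d5_2 D8503 D10948 (iv D8509) (iv D6529) (iv F10806)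
theorem F18385 : act 4 n10948 = n8505 := d7_2 (iv F14140) D10948 (iv D8505)
def n10949 : Q := act 3 n8503
theorem D10949 : act 3 n8503 = n10949 := rfl
theorem F18386 : act 0 n10949 = n9231 := d2_1 D10949 (iv D9231) (iv F14139)
theorem F18387 : act 2 n10949 = n9232 := d15_2 D8503 D10949 (iv D9232) (iv D7089) (iv D5390) (iv F8880) D7087 F11748 (iv F10805)
theorem F18388 : act 5 n9235 = n10949 := d11_0 F18387 F15391 D9235
def n10950 : Q := act 5 n8503
theorem D10950 : act 5 n8503 = n10950 := rfl
theorem F18389 : act 0 n10950 = n9229 := d4_1 D10950 F15389 (iv F14139)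
theorem F18390 : act 2 n10950 = n8504 := d11_1 D10950 (iv D8504) D8503
theorem F18391 : act 3 n10950 = n9235 := d13_1 D10950 F18388 (iv D10949)
def n10951 : Q := act 4 n8504
theorem D10951 : act 4 n8504 = n10951 := rfl
theorem F18392 : act 0 n10951 = n9228 := d3_1 D10951 F15388 (iv F14141)
theorem F18393 : act 1 n10951 = n8512 := d7_1 D10951 (iv D8512) (iv F14142)
theorem F18394 : act 3 n10951 = n9210 := d12_1 D10951 (iv D9210) F11725 (iv F10811) (iv F14143)
theorem F18395 : act 5 n10951 = n8508 := d14_2 D8504 D10951 (iv D8508) (iv D6528) (iv F10807)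
def n10952 : Q := act 0 n8505
theorem D10952 : act 0 n8505 = n10952 := rfl
theorem F18396 : act 2 n10952 = n8515 := d1_2 (iv F14144) D10952 (iv D8515)
def n10953 : Q := act 3 n8505
theorem D10953 : act 3 n8505 = n10953 := rfl
theorem F18397 : act 1 n10953 = n8506 := d6_1 D10953 (iv D8506) D8505
def n10954 : Q := act 5 n8505
theorem D10954 : act 5 n8505 = n10954 := rfl
theorem F18398 : act 1 n10954 = n8507 := d8_1 D10954 (iv D8507) D8505
theorem F18399 : act 2 n10954 = n8517 := d11_1 D10954 (iv D8517) (iv F14144)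
def n10955 : Q := act 4 n8506
theorem D10955 : act 4 n8506 = n10955 := rfl
def n10956 : Q := act 5 n8506
theorem D10956 : act 5 n8506 = n10956 := rfl
theorem F18400 : act 0 n10956 = n8532 := d4_1 D10956 (iv F18188) F18187
theorem F18401 : act 2 n10956 = n8531 := d11_1 D10956 (iv F18185) F18186
theorem F18402 : act 3 n10956 = n8507 := d13_1 D10956 (iv D8507) D8506
theorem F18403 : act 4 n9666 = n10956 := d10_0 F18401 F14174 D9666
def n10957 : Q := act 4 n8507
theorem D10957 : act 4 n8507 = n10957 := rfl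
theorem F18404 : act 2 n10957 = n8508 := d10_1 D10957 (iv D8508) (iv F14145)
def n10958 : Q := act 0 n8509
theorem D10958 : act 0 n8509 = n10958 := rfl
theorem F18405 : act 4 n10958 = n8515 := d3_2 (iv F14148) D10958 (iv D8515)
def n10959 : Q := act 3 n8509
theorem D10959 : act 3 n8509 = n10959 := rfl
theorem F18406 : act 1 n10959 = n8510 := d6_1 D10959 (iv D8510) D8509
def n10960 : Q := act 5 n8509
theorem D10960 : act 5 n8509 = n10960 := rfl
theorem F18407 : act 1 n10960 = n8511 := d8_1 D10960 (iv D8511) D8509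
def n10961 : Q := act 4 n8510
theorem D10961 : act 4 n8510 = n10961 := rfl
theorem F18408 : act 0 n10961 = n8568 := d3_1 D10961 (iv F16260) F16259
theorem F18409 : act 3 n10961 = n8518 := d12_1 D10961 (iv D8518) (iv D6534) (iv F10814) D8510
def n10962 : Q := act 4 n8511
theorem D10962 : act 4 n8511 = n10962 := rfl
theorem F18410 : act 0 n10962 = n8567 := d3_1 D10962 (iv F16263) F16261
theorem F18411 : act 2 n10962 = n8512 := d10_1 D10962 (iv D8512) (iv F14149)
theorem F18412 : act 5 n10962 = n8519 := d14_2 D8511 D10962 (iv D8519) (iv D6535) (iv F10814)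
def n10963 : Q := act 3 n8512
theorem D10963 : act 3 n8512 = n10963 := rfl
theorem F18413 : act 1 n10963 = n9210 := d6_1 D10963 (iv F18394) F18393
theorem F18414 : act 4 n10963 = n8513 := d12_2 D8512 D10963 (iv D8513) (iv D6531) (iv F10815)
theorem F18415 : act 5 n10963 = n8520 := d13_2 (iv F14150) D10963 (iv D8520)
def n10964 : Q := act 2 n8513
theorem D10964 : act 2 n8513 = n10964 := rfl
theorem F18416 : act 5 n10964 = n8514 := d11_2 (iv F14152) D10964 (iv D8514)
def n10965 : Q := act 1 n8514
theorem D10965 : act 1 n8514 = n10965 := rfl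
theorem F18417 : act 2 n10965 = n9209 := d5_2 D8514 D10965 (iv D9209) (iv D7072) (iv F10818)
theorem F18418 : act 4 n10965 = n8522 := d7_2 (iv F14153) D10965 (iv D8522)
def n10966 : Q := act 3 n8514
theorem D10966 : act 3 n8514 = n10966 := rfl
def n10967 : Q := act 3 n8515
theorem D10967 : act 3 n8515 = n10967 := rfl
theorem F18419 : act 0 n10967 = n8516 := d2_1 D10967 (iv D8516) D8515
theorem F18420 : act 1 n10967 = n8563 := d6_1 D10967 (iv F18364) F18363
theorem F18421 : act 5 n8544 = n10967 := d8_0 F18420 (iv D8563) (iv F14191)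
def n10968 : Q := act 5 n8515
theorem D10968 : act 5 n8515 = n10968 := rfl
theorem F18422 : act 0 n10968 = n8517 := d4_1 D10968 (iv D8517) D8515
theorem F18423 : act 1 n10968 = n8562 := d8_1 D10968 (iv F18365) F18363
theorem F18424 : act 3 n10968 = n8544 := d13_1 D10968 F18421 (iv D10967)
def n10969 : Q := act 2 n8516
theorem D10969 : act 2 n8516 = n10969 := rfl
theorem F18425 : act 1 n10969 = n8538 := d5_1 D10969 F14183 F10839 (iv F10821) (iv F14154)
theorem F18426 : act 5 n10969 = n8536 := d11_2 F14155 D10969 F14182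
def n10970 : Q := act 4 n8516
theorem D10970 : act 4 n8516 = n10970 := rfl
theorem F18427 : act 1 n10970 = n8518 := d7_1 D10970 (iv D8518) (iv F14154)
def n10971 : Q := act 4 n8517
theorem D10971 : act 4 n8517 = n10971 := rfl
theorem F18428 : act 1 n10971 = n8519 := d7_1 D10971 (iv D8519) (iv F14156)
def n10972 : Q := act 5 n8518
theorem D10972 : act 5 n8518 = n10972 := rfl
theorem F18429 : act 0 n10972 = n8561 := d4_1 D10972 F14205 (iv F14158)
theorem F18430 : act 2 n10972 = n8543 := d11_1 D10972 F14190 (iv F14159)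
theorem F18431 : act 4 n10972 = n8542 := d14_1 D10972 (iv D8542) F10842 (iv F10822) D8518
def n10973 : Q := act 3 n8519
theorem D10973 : act 3 n8519 = n10973 := rfl
theorem F18432 : act 0 n10973 = n8559 := d2_1 D10973 F14202 (iv F14160)
theorem F18433 : act 4 n10973 = n8541 := d12_2 D8519 D10973 (iv D8541) F10842 (iv F10825)
def n10974 : Q := act 2 n8520
theorem D10974 : act 2 n8520 = n10974 := rfl
theorem F18434 : act 4 n10974 = n8521 := d10_2 (iv F14163) D10974 (iv D8521)
def n10975 : Q := act 1 n8521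
theorem D10975 : act 1 n8521 = n10975 := rfl
theorem F18435 : act 2 n10975 = n9421 := d5_2 D8521 D10975 F15718 F12017 (iv F10826)
theorem F18436 : act 5 n10975 = n8522 := d8_2 (iv F14164) D10975 (iv D8522)
def n10976 : Q := act 0 n8522
theorem D10976 : act 0 n8522 = n10976 := rfl
theorem F18437 : act 2 n10976 = n9419 := d1_2 (iv F14165) D10976 (iv D9419)
def n10977 : Q := act 3 n8522
theorem D10977 : act 3 n8522 = n10977 := rfl
theorem F18438 : act 1 n10977 = n8523 := d6_1 D10977 (iv D8523) D8522
def n10978 : Q := act 4 n8523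
theorem D10978 : act 4 n8523 = n10978 := rfl
def n10979 : Q := act 1 n8524
theorem D10979 : act 1 n8524 = n10979 := rfl
def n10980 : Q := act 4 n8524
theorem D10980 : act 4 n8524 = n10980 := rfl
theorem F18439 : act 2 n10980 = n8525 := d10_1 D10980 (iv D8525) D8524
def n10981 : Q := act 5 n8525
theorem D10981 : act 5 n8525 = n10981 := rfl
theorem F18440 : act 3 n10981 = n8529 := d13_1 D10981 (iv D8529) (iv F14166)
def n10982 : Q := act 2 n8526
theorem D10982 : act 2 n8526 = n10982 := rfl
theorem F18441 : act 0 n10982 = n8527 := d1_1 D10982 (iv D8527) (iv F14167)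
theorem F18442 : act 3 n10982 = n8580 := d9_2 D8526 D10982 (iv D8580) (iv D6576) (iv D4983) (iv D3726) (iv F6077) D4979 D6570 D8572 (iv F15928) (iv D9531) F12196 F9224 (iv F10828)
theorem F18443 : act 5 n10982 = n8569 := d11_2 (iv F14168) D10982 (iv D8569)
def n10983 : Q := act 4 n8526
theorem D10983 : act 4 n8526 = n10983 := rfl
theorem F18444 : act 0 n10983 = n8528 := d3_1 D10983 (iv D8528) (iv F14167)
def n10984 : Q := act 3 n8527
theorem D10984 : act 3 n8527 = n10984 := rfl
theorem F18445 : act 0 n10984 = n8580 := d2_1 D10984 (iv F18442) F18441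
theorem F18446 : act 2 n10984 = n8579 := d9_1 D10984 (iv D8579) (iv D6575) (iv D4982) (iv F8131) D6569 D8569 (iv F15931) (iv D9532) (iv D7346) F9220 F6890 (iv F8105) D6541 D8527
theorem F18447 : act 5 n10984 = n8572 := d13_2 (iv F14169) D10984 (iv D8572)
def n10985 : Q := act 4 n8527
theorem D10985 : act 4 n8527 = n10985 := rfl
theorem F18448 : act 2 n10985 = n8528 := d10_1 D10985 (iv D8528) D8527
def n10986 : Q := act 5 n8528
theorem D10986 : act 5 n8528 = n10986 := rfl
theorem F18449 : act 1 n10986 = n8529 := d8_1 D10986 (iv D8529) (iv F14170)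
theorem F18450 : act 4 n10986 = n8574 := d14_1 D10986 (iv D8574) (iv D6571) (iv F10831) D8528
def n10987 : Q := act 3 n8530
theorem D10987 : act 3 n8530 = n10987 := rfl
theorem F18451 : act 0 n10987 = n8932 := d2_1 D10987 (iv F18113) F18111
theorem F18452 : act 1 n10987 = n8531 := d6_1 D10987 (iv D8531) D8530
theorem F18453 : act 4 n10987 = n9664 := d12_2 (iv F14172) D10987 (iv D9664) (iv D7446) (iv F11865)
def n10988 : Q := act 1 n8532
theorem D10988 : act 1 n8532 = n10988 := rfl
theorem F18454 : act 2 n10988 = n8914 := d5_2 D8532 D10988 F14799 (iv F13942) F13940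
def n10989 : Q := act 4 n8532
theorem D10989 : act 4 n8532 = n10989 := rfl
theorem F18455 : act 0 n10989 = n9666 := d3_1 D10989 F18403 F18400
theorem F18456 : act 2 n10989 = n8533 := d10_1 D10989 (iv D8533) D8532
def n10990 : Q := act 5 n8533
theorem D10990 : act 5 n8533 = n10990 := rfl
theorem F18457 : act 0 n10990 = n9667 := d4_1 D10990 (iv D9667) (iv F14175)
theorem F18458 : act 3 n10990 = n9312 := d13_1 D10990 (iv D9312) (iv F14176)
def n10991 : Q := act 1 n8534
theorem D10991 : act 1 n8534 = n10991 := rfl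
theorem F18459 : act 2 n10991 = n8540 := d5_2 D8534 D10991 (iv D8540) (iv D6549) (iv F10835)
theorem F18460 : act 4 n10991 = n8536 := d7_2 (iv F14178) D10991 (iv D8536)
def n10992 : Q := act 3 n8534
theorem D10992 : act 3 n8534 = n10992 := rfl
theorem F18461 : act 0 n10992 = n9053 := d2_1 D10992 (iv D9053) (iv F14177)
def n10993 : Q := act 5 n8534
theorem D10993 : act 5 n8534 = n10993 := rfl
theorem F18462 : act 0 n10993 = n9054 := d4_1 D10993 (iv D9054) (iv F14177)
theorem F18463 : act 2 n10993 = n8535 := d11_1 D10993 (iv D8535) D8534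
def n10994 : Q := act 4 n8535
theorem D10994 : act 4 n8535 = n10994 := rfl
theorem F18464 : act 0 n10994 = n9055 := d3_1 D10994 (iv D9055) (iv F14179)
theorem F18465 : act 1 n10994 = n8543 := d7_1 D10994 (iv D8543) (iv F14180)
theorem F18466 : act 5 n10994 = n8539 := d14_2 D8535 D10994 (iv D8539) (iv D6548) (iv F10836)
def n10995 : Q := act 0 n8536
theorem D10995 : act 0 n8536 = n10995 := rfl
theorem F18467 : act 2 n10995 = n8544 := d1_2 (iv F14182) D10995 (iv D8544)
def n10996 : Q := act 3 n8536
theorem D10996 : act 3 n8536 = n10996 := rfl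
theorem F18468 : act 1 n10996 = n8537 := d6_1 D10996 (iv D8537) D8536
def n10997 : Q := act 4 n8537
theorem D10997 : act 4 n8537 = n10997 := rfl
def n10998 : Q := act 4 n8538
theorem D10998 : act 4 n8538 = n10998 := rfl
theorem F18469 : act 2 n10998 = n8539 := d10_1 D10998 (iv D8539) (iv F14183)
def n10999 : Q := act 0 n8540
theorem D10999 : act 0 n8540 = n10999 := rfl
theorem F18470 : act 1 n10999 = n8555 := d0_2 D8540 D10999 (iv D8555) (iv D6560) (iv F10841)
theorem F18471 : act 4 n10999 = n8544 := d3_2 (iv F14185) D10999 (iv D8544)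
def n11000 : Q := act 3 n8540
theorem D11000 : act 3 n8540 = n11000 := rfl
theorem F18472 : act 1 n11000 = n8541 := d6_1 D11000 (iv D8541) D8540
def n11001 : Q := act 5 n8540
theorem D11001 : act 5 n8540 = n11001 := rfl
theorem F18473 : act 1 n11001 = n8542 := d8_1 D11001 (iv D8542) D8540
def n11002 : Q := act 2 n8541
theorem D11002 : act 2 n8541 = n11002 := rfl
theorem F18474 : act 0 n11002 = n8558 := d1_1 D11002 (iv D8558) (iv F14186)
theorem F18475 : act 3 n11002 = n8553 := d9_2 D8541 D11002 F14198 F10852 F8127 (iv F8129) (iv F10854) (iv F14203) (iv F15821) (iv D9469) (iv D7294) (iv D5556) F6833 D4963 D6549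
theorem F18476 : act 5 n8552 = n11002 := d13_0 F18475 (iv D8553) D8552
def n11003 : Q := act 5 n8541
theorem D11003 : act 5 n8541 = n11003 := rfl
theorem F18477 : act 0 n11003 = n8560 := d4_1 D11003 (iv D8560) (iv F14186)
theorem F18478 : act 2 n11003 = n8552 := d11_1 D11003 F18476 (iv D11002)
theorem F18479 : act 3 n11003 = n8542 := d13_1 D11003 (iv D8542) D8541
def n11004 : Q := act 2 n8545
theorem D11004 : act 2 n8545 = n11004 := rfl
theorem F18480 : act 0 n11004 = n8546 := d1_1 D11004 (iv D8546) (iv F14192)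
def n11005 : Q := act 4 n8545
theorem D11005 : act 4 n8545 = n11005 := rfl
theorem F18481 : act 0 n11005 = n8547 := d3_1 D11005 (iv D8547) (iv F14192)
theorem F18482 : act 1 n11005 = n8570 := d7_1 D11005 (iv D8570) (iv F14193)
def n11006 : Q := act 4 n8546
theorem D11006 : act 4 n8546 = n11006 := rfl
theorem F18483 : act 2 n11006 = n8547 := d10_1 D11006 (iv D8547) D8546
def n11007 : Q := act 5 n8547
theorem D11007 : act 5 n8547 = n11007 := rfl
theorem F18484 : act 1 n11007 = n8548 := d8_1 D11007 (iv D8548) (iv F14194)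
def n11008 : Q := act 1 n8549
theorem D11008 : act 1 n8549 = n11008 := rfl
theorem F18485 : act 2 n11008 = n8551 := d5_2 D8549 D11008 (iv D8551) (iv D6558) (iv F10849)
def n11009 : Q := act 3 n8549
theorem D11009 : act 3 n8549 = n11009 := rfl
def n11010 : Q := act 5 n8549
theorem D11010 : act 5 n8549 = n11010 := rfl
theorem F18486 : act 2 n11010 = n8550 := d11_1 D11010 (iv D8550) D8549
def n11011 : Q := act 4 n8550
theorem D11011 : act 4 n8550 = n11011 := rfl
theorem F18487 : act 1 n11011 = n8554 := d7_1 D11011 (iv D8554) (iv F14196)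
def n11012 : Q := act 0 n8551
theorem D11012 : act 0 n8551 = n11012 := rfl
def n11013 : Q := act 3 n8551
theorem D11013 : act 3 n8551 = n11013 := rfl
theorem F18488 : act 1 n11013 = n8552 := d6_1 D11013 (iv D8552) D8551
def n11014 : Q := act 5 n8551
theorem D11014 : act 5 n8551 = n11014 := rfl
theorem F18489 : act 1 n11014 = n8553 := d8_1 D11014 (iv D8553) D8551
def n11015 : Q := act 4 n8552
theorem D11015 : act 4 n8552 = n11015 := rfl
def n11016 : Q := act 4 n8553
theorem D11016 : act 4 n8553 = n11016 := rfl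
theorem F18490 : act 2 n11016 = n8554 := d10_1 D11016 (iv D8554) (iv F14198)
def n11017 : Q := act 3 n8555
theorem D11017 : act 3 n8555 = n11017 := rfl
theorem F18491 : act 0 n11017 = n8556 := d2_1 D11017 (iv D8556) D8555
def n11018 : Q := act 5 n8555
theorem D11018 : act 5 n8555 = n11018 := rfl
theorem F18492 : act 0 n11018 = n8557 := d4_1 D11018 (iv D8557) D8555
def n11019 : Q := act 2 n8556
theorem D11019 : act 2 n8556 = n11019 := rfl
def n11020 : Q := act 4 n8556
theorem D11020 : act 4 n8556 = n11020 := rfl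
theorem F18493 : act 1 n11020 = n8559 := d7_1 D11020 (iv D8559) (iv F14200)
theorem F18494 : act 3 n11020 = n8565 := d12_1 D11020 (iv D8565) (iv D6565) (iv F10853) D8556
def n11021 : Q := act 5 n8556
theorem D11021 : act 5 n8556 = n11021 := rfl
theorem F18495 : act 1 n11021 = n8560 := d8_1 D11021 (iv D8560) (iv F14200)
theorem F18496 : act 3 n11021 = n8557 := d13_1 D11021 (iv D8557) D8556
def n11022 : Q := act 4 n8557
theorem D11022 : act 4 n8557 = n11022 := rfl
theorem F18497 : act 1 n11022 = n8561 := d7_1 D11022 (iv D8561) (iv F14201)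
theorem F18498 : act 2 n11022 = n9061 := d10_1 D11022 (iv F17805) F17803
theorem F18499 : act 5 n11022 = n8566 := d14_2 D8557 D11022 (iv D8566) (iv D6566) (iv F10853)
def n11023 : Q := act 1 n8558
theorem D11023 : act 1 n8558 = n11023 := rfl
def n11024 : Q := act 4 n8558
theorem D11024 : act 4 n8558 = n11024 := rfl
theorem F18500 : act 2 n11024 = n8559 := d10_1 D11024 (iv D8559) D8558
def n11025 : Q := act 5 n8559
theorem D11025 : act 5 n8559 = n11025 := rfl
theorem F18501 : act 3 n11025 = n8567 := d13_1 D11025 (iv D8567) (iv F14202)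
def n11026 : Q := act 4 n8560
theorem D11026 : act 4 n8560 = n11026 := rfl
def n11027 : Q := act 3 n8561
theorem D11027 : act 3 n8561 = n11027 := rfl
theorem F18502 : act 5 n11027 = n8568 := d13_2 (iv F14205) D11027 (iv D8568)
def n11028 : Q := act 2 n8562
theorem D11028 : act 2 n8562 = n11028 := rfl
theorem F18503 : act 0 n11028 = n8564 := d1_1 D11028 (iv D8564) (iv F14206)
def n11029 : Q := act 4 n8562
theorem D11029 : act 4 n8562 = n11029 := rfl
theorem F18504 : act 0 n11029 = n8565 := d3_1 D11029 (iv D8565) (iv F14206)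
def n11030 : Q := act 4 n8563
theorem D11030 : act 4 n8563 = n11030 := rfl
theorem F18505 : act 0 n11030 = n8566 := d3_1 D11030 (iv D8566) (iv F14207)
def n11031 : Q := act 3 n8564
theorem D11031 : act 3 n8564 = n11031 := rfl
def n11032 : Q := act 4 n8564
theorem D11032 : act 4 n8564 = n11032 := rfl
theorem F18506 : act 2 n11032 = n8565 := d10_1 D11032 (iv D8565) D8564
def n11033 : Q := act 5 n8565
theorem D11033 : act 5 n8565 = n11033 := rfl
theorem F18507 : act 1 n11033 = n8567 := d8_1 D11033 (iv D8567) (iv F14208)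
def n11034 : Q := act 3 n8566
theorem D11034 : act 3 n8566 = n11034 := rfl
theorem F18508 : act 1 n11034 = n8568 := d6_1 D11034 (iv D8568) (iv F14209)
def n11035 : Q := act 2 n8568
theorem D11035 : act 2 n8568 = n11035 := rfl
def n11036 : Q := act 1 n8569
theorem D11036 : act 1 n8569 = n11036 := rfl
def n11037 : Q := act 4 n8569
theorem D11037 : act 4 n8569 = n11037 := rfl
theorem F18509 : act 0 n11037 = n8573 := d3_1 D11037 (iv D8573) (iv F14210)
theorem F18510 : act 2 n11037 = n8570 := d10_1 D11037 (iv D8570) D8569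
def n11038 : Q := act 5 n8570
theorem D11038 : act 5 n8570 = n11038 := rfl
theorem F18511 : act 0 n11038 = n8574 := d4_1 D11038 (iv D8574) (iv F14211)
def n11039 : Q := act 0 n8571
theorem D11039 : act 0 n8571 = n11039 := rfl
theorem F18512 : act 2 n11039 = n8575 := d1_2 (iv F14212) D11039 (iv D8575)
def n11040 : Q := act 3 n8571
theorem D11040 : act 3 n8571 = n11040 := rfl
theorem F18513 : act 1 n11040 = n8572 := d6_1 D11040 (iv D8572) D8571
def n11041 : Q := act 4 n8571
theorem D11041 : act 4 n8571 = n11041 := rfl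
theorem F18514 : act 1 n11041 = n8573 := d7_1 D11041 (iv D8573) D8571
theorem F18515 : act 2 n11041 = n8576 := d10_1 D11041 (iv D8576) (iv F14212)
def n11042 : Q := act 4 n8572
theorem D11042 : act 4 n8572 = n11042 := rfl
def n11043 : Q := act 3 n8573
theorem D11043 : act 3 n8573 = n11043 := rfl
def n11044 : Q := act 5 n8573
theorem D11044 : act 5 n8573 = n11044 := rfl
theorem F18516 : act 2 n11044 = n8574 := d11_1 D11044 (iv D8574) (iv F14213)
def n11045 : Q := act 5 n8576
theorem D11045 : act 5 n8576 = n11045 := rfl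
theorem F18517 : act 1 n11045 = n8577 := d8_1 D11045 (iv D8577) (iv F14215)
def n11046 : Q := act 3 n8578
theorem D11046 : act 3 n8578 = n11046 := rfl
theorem F18518 : act 0 n11046 = n10923 := d2_1 D11046 (iv D10923) (iv F14217)
theorem F18519 : act 1 n11046 = n8579 := d6_1 D11046 (iv D8579) D8578
def n11047 : Q := act 4 n8579
theorem D11047 : act 4 n8579 = n11047 := rfl
theorem F18520 : act 0 n11047 = n8581 := d3_1 D11047 (iv D8581) (iv F14218)
def n11048 : Q := act 1 n8580
theorem D11048 : act 1 n8580 = n11048 := rfl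
theorem F18521 : act 2 n11048 = n10923 := d5_2 D8580 D11048 F18331 F14106 (iv F10863)
def n11049 : Q := act 4 n8580
theorem D11049 : act 4 n8580 = n11049 := rfl
theorem F18522 : act 2 n11049 = n8581 := d10_1 D11049 (iv D8581) D8580
def n11050 : Q := act 5 n8581
theorem D11050 : act 5 n8581 = n11050 := rfl
theorem F18523 : act 1 n11050 = n10934 := d8_1 D11050 (iv D10934) (iv F14219)
def n11051 : Q := act 3 n8582
theorem D11051 : act 3 n8582 = n11051 := rfl
theorem F18524 : act 0 n11051 = n8583 := d2_1 D11051 (iv D8583) D8582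
theorem F18525 : act 1 n11051 = n8587 := d6_1 D11051 (iv D8587) (iv F14220)
theorem F18526 : act 5 n8620 = n11051 := d4_0 F18524 (iv F14223) D8620
def n11052 : Q := act 5 n8582
theorem D11052 : act 5 n8582 = n11052 := rfl
theorem F18527 : act 0 n11052 = n8584 := d4_1 D11052 (iv D8584) D8582
theorem F18528 : act 1 n11052 = n8588 := d8_1 D11052 (iv D8588) (iv F14220)
theorem F18529 : act 2 n11052 = n10039 := d11_1 D11052 (iv D10039) (iv F14221)
theorem F18530 : act 3 n11052 = n8620 := d13_1 D11052 F18526 (iv D11051)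
def n11053 : Q := act 2 n8583
theorem D11053 : act 2 n8583 = n11053 := rfl
theorem F18531 : act 1 n11053 = n8617 := d5_1 D11053 F14275 F10909 (iv F10866) (iv F14222)
theorem F18532 : act 5 n11053 = n8614 := d11_2 F14223 D11053 F14273
def n11054 : Q := act 4 n8583
theorem D11054 : act 4 n8583 = n11054 := rfl
theorem F18533 : act 1 n11054 = n8585 := d7_1 D11054 (iv D8585) (iv F14222)
def n11055 : Q := act 4 n8584
theorem D11055 : act 4 n8584 = n11055 := rfl
theorem F18534 : act 1 n11055 = n8586 := d7_1 D11055 (iv D8586) (iv F14224)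
theorem F18535 : act 2 n11055 = n10042 := d10_1 D11055 (iv D10042) (iv F14225)
def n11056 : Q := act 5 n8585
theorem D11056 : act 5 n8585 = n11056 := rfl
theorem F18536 : act 0 n11056 = n8595 := d4_1 D11056 (iv D8595) (iv F14227)
theorem F18537 : act 2 n11056 = n8624 := d11_1 D11056 F14282 (iv F14228)
theorem F18538 : act 4 n11056 = n8623 := d14_1 D11056 (iv D8623) (iv D6606) F10867 D8585
def n11057 : Q := act 3 n8586
theorem D11057 : act 3 n8586 = n11057 := rfl
theorem F18539 : act 0 n11057 = n8597 := d2_1 D11057 (iv D8597) (iv F14229)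
theorem F18540 : act 4 n11057 = n8622 := d12_2 D8586 D11057 (iv D8622) (iv D6606) (iv F10870)
def n11058 : Q := act 2 n8587
theorem D11058 : act 2 n8587 = n11058 := rfl
theorem F18541 : act 0 n11058 = n8589 := d1_1 D11058 (iv D8589) (iv F14231)
def n11059 : Q := act 4 n8587
theorem D11059 : act 4 n8587 = n11059 := rfl
theorem F18542 : act 0 n11059 = n8590 := d3_1 D11059 (iv D8590) (iv F14231)
def n11060 : Q := act 5 n8587
theorem D11060 : act 5 n8587 = n11060 := rfl
theorem F18543 : act 0 n11060 = n8591 := d4_1 D11060 (iv D8591) (iv F14231)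
theorem F18544 : act 1 n11060 = n8620 := d8_1 D11060 F18526 F18525
theorem F18545 : act 3 n11060 = n8588 := d13_1 D11060 (iv D8588) D8587
def n11061 : Q := act 4 n8588
theorem D11061 : act 4 n8588 = n11061 := rfl
theorem F18546 : act 0 n11061 = n8592 := d3_1 D11061 (iv D8592) (iv F14232)
theorem F18547 : act 2 n11061 = n8600 := d10_1 D11061 (iv D8600) (iv F14233)
def n11062 : Q := act 1 n8589
theorem D11062 : act 1 n8589 = n11062 := rfl
theorem F18548 : act 2 n11062 = n8593 := d5_2 D8589 D11062 (iv D8593) (iv D6584) (iv F10875)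
theorem F18549 : act 5 n8607 = n11062 := d11_0 F18548 F14240 D8607
def n11063 : Q := act 3 n8589
theorem D11063 : act 3 n8589 = n11063 := rfl
def n11064 : Q := act 4 n8589
theorem D11064 : act 4 n8589 = n11064 := rfl
theorem F18550 : act 2 n11064 = n8590 := d10_1 D11064 (iv D8590) D8589
def n11065 : Q := act 5 n8589
theorem D11065 : act 5 n8589 = n11065 := rfl
theorem F18551 : act 1 n11065 = n8607 := d8_1 D11065 F18549 (iv D11062)
theorem F18552 : act 2 n11065 = n8591 := d11_1 D11065 (iv D8591) D8589
def n11066 : Q := act 5 n8590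
theorem D11066 : act 5 n8590 = n11066 := rfl
theorem F18553 : act 1 n11066 = n8595 := d8_1 D11066 (iv D8595) (iv F14234)
def n11067 : Q := act 4 n8591
theorem D11067 : act 4 n8591 = n11067 := rfl
theorem F18554 : act 1 n11067 = n8596 := d7_1 D11067 (iv D8596) (iv F14235)
def n11068 : Q := act 3 n8592
theorem D11068 : act 3 n8592 = n11068 := rfl
theorem F18555 : act 1 n11068 = n8597 := d6_1 D11068 (iv D8597) (iv F14237)
def n11069 : Q := act 0 n8593
theorem D11069 : act 0 n8593 = n11069 := rfl
theorem F18556 : act 1 n11069 = n8613 := d0_2 D8593 D11069 F14271 F10909 (iv F10878)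
theorem F18557 : act 3 n11069 = n8606 := d2_2 (iv F14239) D11069 F14255
theorem F18558 : act 5 n11069 = n8605 := d4_2 (iv F14240) D11069 F14253
def n11070 : Q := act 4 n8593
theorem D11070 : act 4 n8593 = n11070 := rfl
theorem F18559 : act 1 n11070 = n8594 := d7_1 D11070 (iv D8594) D8593
def n11071 : Q := act 3 n8594
theorem D11071 : act 3 n8594 = n11071 := rfl
theorem F18560 : act 0 n11071 = n8625 := d2_1 D11071 (iv D8625) (iv F14241)
theorem F18561 : act 4 n11071 = n8611 := d12_2 D8594 D11071 (iv D8611) (iv D6599) (iv F10879)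
theorem F18562 : act 2 n9563 = n11071 := d10_3 F18561 F14269 D9563
def n11072 : Q := act 5 n8594
theorem D11072 : act 5 n8594 = n11072 := rfl
theorem F18563 : act 0 n11072 = n8624 := d4_1 D11072 F14282 (iv F14241)
theorem F18564 : act 2 n11072 = n8595 := d11_1 D11072 (iv D8595) (iv F14242)
theorem F18565 : act 4 n11072 = n8610 := d14_1 D11072 (iv D8610) (iv D6598) F10880 D8594
def n11073 : Q := act 4 n8595
theorem D11073 : act 4 n8595 = n11073 := rfl
theorem F18566 : act 0 n11073 = n8623 := d3_1 D11073 (iv F18538) F18536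
theorem F18567 : act 2 n11073 = n8610 := d10_1 D11073 (iv F18565) F18564
theorem F18568 : act 5 n11073 = n8596 := d14_2 D8595 D11073 (iv D8596) (iv D6586) D6585
def n11074 : Q := act 3 n8596
theorem D11074 : act 3 n8596 = n11074 := rfl
theorem F18569 : act 0 n11074 = n8622 := d2_1 D11074 (iv D8622) (iv F14243)
theorem F18570 : act 4 n11074 = n8597 := d12_2 D8596 D11074 (iv D8597) (iv D6587) (iv F10883)
def n11075 : Q := act 2 n8597
theorem D11075 : act 2 n8597 = n11075 := rfl
def n11076 : Q := act 1 n8598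
theorem D11076 : act 1 n8598 = n11076 := rfl
def n11077 : Q := act 3 n8598
theorem D11077 : act 3 n8598 = n11077 := rfl
theorem F18571 : act 0 n11077 = n8601 := d2_1 D11077 (iv D8601) (iv F14245)
def n11078 : Q := act 4 n8598
theorem D11078 : act 4 n8598 = n11078 := rfl
theorem F18572 : act 0 n11078 = n8602 := d3_1 D11078 (iv D8602) (iv F14245)
theorem F18573 : act 2 n11078 = n8599 := d10_1 D11078 (iv D8599) D8598
def n11079 : Q := act 5 n8599
theorem D11079 : act 5 n8599 = n11079 := rfl
theorem F18574 : act 0 n11079 = n8603 := d4_1 D11079 (iv D8603) (iv F14246)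
theorem F18575 : act 4 n11079 = n10894 := d14_1 D11079 (iv D10894) F14053 F12548 D8599
def n11080 : Q := act 3 n8600
theorem D11080 : act 3 n8600 = n11080 := rfl
theorem F18576 : act 0 n11080 = n8604 := d2_1 D11080 (iv D8604) (iv F14247)
theorem F18577 : act 4 n11080 = n10893 := d12_2 D8600 D11080 (iv D10893) F14053 F12547
def n11081 : Q := act 2 n8601
theorem D11081 : act 2 n8601 = n11081 := rfl
def n11082 : Q := act 4 n8601
theorem D11082 : act 4 n8601 = n11082 := rfl
def n11083 : Q := act 3 n8602
theorem D11083 : act 3 n8602 = n11083 := rfl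
def n11084 : Q := act 5 n8602
theorem D11084 : act 5 n8602 = n11084 := rfl
theorem F18578 : act 1 n11084 = n10892 := d8_1 D11084 F18284 F16418
theorem F18579 : act 2 n11084 = n8603 := d11_1 D11084 (iv D8603) (iv F14248)
theorem F18580 : act 4 n11084 = n10888 := d14_1 D11084 (iv D10888) F14047 (iv F12539) D8602
def n11085 : Q := act 2 n8604
theorem D11085 : act 2 n8604 = n11085 := rfl
theorem F18581 : act 4 n11085 = n10895 := d10_2 (iv F14252) D11085 (iv D10895)
def n11086 : Q := act 2 n8605
theorem D11086 : act 2 n8605 = n11086 := rfl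
theorem F18582 : act 0 n11086 = n8607 := d1_1 D11086 (iv D8607) (iv F14253)
def n11087 : Q := act 3 n8607
theorem D11087 : act 3 n8607 = n11087 := rfl
def n11088 : Q := act 4 n8607
theorem D11088 : act 4 n8607 = n11088 := rfl
theorem F18583 : act 2 n11088 = n8608 := d10_1 D11088 (iv D8608) D8607
def n11089 : Q := act 5 n8608
theorem D11089 : act 5 n8608 = n11089 := rfl
theorem F18584 : act 1 n11089 = n8610 := d8_1 D11089 (iv D8610) (iv F14259)
theorem F18585 : act 3 n11089 = n9959 := d13_1 D11089 (iv D9959) (iv F14260)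
def n11090 : Q := act 3 n8609
theorem D11090 : act 3 n8609 = n11090 := rfl
theorem F18586 : act 0 n11090 = n10846 := d2_1 D11090 F18204 (iv F14261)
theorem F18587 : act 1 n11090 = n8611 := d6_1 D11090 (iv D8611) (iv F14262)
theorem F18588 : act 5 n11090 = n9597 := d13_2 (iv F14264) D11090 (iv D9597)
def n11091 : Q := act 1 n8612
theorem D11091 : act 1 n8612 = n11091 := rfl
def n11092 : Q := act 5 n8612
theorem D11092 : act 5 n8612 = n11092 := rfl
theorem F18589 : act 0 n11092 = n8617 := d4_1 D11092 (iv D8617) (iv F14270)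
theorem F18590 : act 2 n11092 = n8613 := d11_1 D11092 (iv D8613) D8612
theorem F18591 : act 3 n11092 = n8629 := d13_1 D11092 (iv F16033) F16034
def n11093 : Q := act 4 n8613
theorem D11093 : act 4 n8613 = n11093 := rfl
theorem F18592 : act 0 n11093 = n8619 := d3_1 D11093 (iv D8619) (iv F14271)
theorem F18593 : act 3 n11093 = n10850 := d12_1 D11093 (iv D10850) F13999 (iv F10906) (iv F14272)
def n11094 : Q := act 0 n8614
theorem D11094 : act 0 n8614 = n11094 := rfl
theorem F18594 : act 2 n11094 = n8620 := d1_2 (iv F14273) D11094 (iv D8620)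
def n11095 : Q := act 3 n8614
theorem D11095 : act 3 n8614 = n11095 := rfl
theorem F18595 : act 1 n11095 = n8615 := d6_1 D11095 (iv D8615) D8614
def n11096 : Q := act 4 n8614
theorem D11096 : act 4 n8614 = n11096 := rfl
theorem F18596 : act 1 n11096 = n8616 := d7_1 D11096 (iv D8616) D8614
theorem F18597 : act 2 n11096 = n8621 := d10_1 D11096 (iv D8621) (iv F14273)
def n11097 : Q := act 4 n8615
theorem D11097 : act 4 n8615 = n11097 := rfl
def n11098 : Q := act 5 n8615
theorem D11098 : act 5 n8615 = n11098 := rfl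
theorem F18598 : act 0 n11098 = n8629 := d4_1 D11098 (iv F16033) F16032
theorem F18599 : act 2 n11098 = n8628 := d11_1 D11098 (iv F16030) F16031
theorem F18600 : act 3 n11098 = n8617 := d13_1 D11098 (iv D8617) D8615
def n11099 : Q := act 3 n8616
theorem D11099 : act 3 n8616 = n11099 := rfl
def n11100 : Q := act 5 n8616
theorem D11100 : act 5 n8616 = n11100 := rfl
theorem F18601 : act 2 n11100 = n8618 := d11_1 D11100 (iv D8618) (iv F14274)
def n11101 : Q := act 4 n8617
theorem D11101 : act 4 n8617 = n11101 := rfl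
theorem F18602 : act 2 n11101 = n8619 := d10_1 D11101 (iv D8619) (iv F14275)
def n11102 : Q := act 4 n8618
theorem D11102 : act 4 n8618 = n11102 := rfl
theorem F18603 : act 1 n11102 = n8624 := d7_1 D11102 (iv D8624) (iv F14276)
theorem F18604 : act 3 n11102 = n10857 := d12_1 D11102 (iv D10857) F14009 (iv F13743) (iv F14277)
theorem F18605 : act 5 n11102 = n8619 := d14_2 D8618 D11102 (iv D8619) (iv D6604) D6603
def n11103 : Q := act 4 n8620
theorem D11103 : act 4 n8620 = n11103 := rfl
theorem F18606 : act 0 n11103 = n8621 := d3_1 D11103 (iv D8621) D8620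
def n11104 : Q := act 3 n8621
theorem D11104 : act 3 n8621 = n11104 := rfl
theorem F18607 : act 1 n11104 = n8622 := d6_1 D11104 (iv D8622) (iv F14280)
def n11105 : Q := act 5 n8621
theorem D11105 : act 5 n8621 = n11105 := rfl
theorem F18608 : act 1 n11105 = n8623 := d8_1 D11105 (iv D8623) (iv F14280)
def n11106 : Q := act 2 n8622
theorem D11106 : act 2 n8622 = n11106 := rfl
def n11107 : Q := act 5 n8622
theorem D11107 : act 5 n8622 = n11107 := rfl
theorem F18609 : act 3 n11107 = n8623 := d13_1 D11107 (iv D8623) D8622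
def n11108 : Q := act 3 n8624
theorem D11108 : act 3 n8624 = n11108 := rfl
theorem F18610 : act 1 n11108 = n10857 := d6_1 D11108 (iv F18604) F18603
theorem F18611 : act 4 n11108 = n9600 := d12_2 D8624 D11108 F16054 F12533 (iv F10912)
theorem F18612 : act 5 n11108 = n8625 := d13_2 (iv F14282) D11108 (iv D8625)
def n11109 : Q := act 2 n8625
theorem D11109 : act 2 n8625 = n11109 := rfl
theorem F18613 : act 0 n11109 = n9563 := d1_1 D11109 F18562 F18560
theorem F18614 : act 4 n11109 = n8626 := d10_2 (iv F14284) D11109 (iv D8626)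
def n11110 : Q := act 1 n8626
theorem D11110 : act 1 n8626 = n11110 := rfl
theorem F18615 : act 2 n11110 = n10860 := d5_2 D8626 D11110 F18222 F14010 (iv F10913)
theorem F18616 : act 3 n11110 = n9553 := d6_2 (iv F14287) D11110 (iv D9553)
theorem F18617 : act 5 n11110 = n9598 := d8_2 (iv F14286) D11110 (iv D9598)
def n11111 : Q := act 3 n8627
theorem D11111 : act 3 n8627 = n11111 := rfl
theorem F18618 : act 1 n11111 = n8628 := d6_1 D11111 (iv D8628) D8627
def n11112 : Q := act 4 n8628
theorem D11112 : act 4 n8628 = n11112 := rfl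
theorem F18619 : act 0 n11112 = n8630 := d3_1 D11112 (iv D8630) (iv F14290)
theorem F18620 : act 3 n11112 = n10836 := d12_1 D11112 (iv D10836) (iv D8412) (iv F10916) D8628
def n11113 : Q := act 1 n8629
theorem D11113 : act 1 n8629 = n11113 := rfl
def n11114 : Q := act 4 n8629
theorem D11114 : act 4 n8629 = n11114 := rfl
theorem F18621 : act 2 n11114 = n8630 := d10_1 D11114 (iv D8630) D8629
def n11115 : Q := act 5 n8630
theorem D11115 : act 5 n8630 = n11115 := rfl
theorem F18622 : act 3 n11115 = n10842 := d13_1 D11115 (iv D10842) (iv F14291)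
def n11116 : Q := act 2 n8632
theorem D11116 : act 2 n8632 = n11116 := rfl
theorem F18623 : act 0 n11116 = n8907 := d1_1 D11116 (iv D8907) (iv F14293)
def n11117 : Q := act 1 n8633
theorem D11117 : act 1 n8633 = n11117 := rfl
def n11118 : Q := act 1 n8634
theorem D11118 : act 1 n8634 = n11118 := rfl
def n11119 : Q := act 3 n8634
theorem D11119 : act 3 n8634 = n11119 := rfl
theorem F18624 : act 0 n11119 = n8637 := d2_1 D11119 (iv D8637) (iv F14296)
theorem F18625 : act 2 n11119 = n8659 := d15_2 D8634 D11119 F14335 F10952 F8207 (iv F8187) (iv F10930) (iv D6620) (iv F10923)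
theorem F18626 : act 5 n8657 = n11119 := d11_0 F18625 (iv D8659) D8657
def n11120 : Q := act 5 n8634
theorem D11120 : act 5 n8634 = n11120 := rfl
theorem F18627 : act 0 n11120 = n8636 := d4_1 D11120 (iv F14300) (iv F14296)
theorem F18628 : act 2 n11120 = n8635 := d11_1 D11120 (iv D8635) D8634
theorem F18629 : act 3 n11120 = n8657 := d13_1 D11120 F18626 (iv D11119)
def n11121 : Q := act 4 n8635
theorem D11121 : act 4 n8635 = n11121 := rfl
theorem F18630 : act 0 n11121 = n8640 := d3_1 D11121 (iv D8640) (iv F14297)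
theorem F18631 : act 3 n11121 = n8912 := d12_1 D11121 (iv D8912) F11300 (iv F10926) (iv F14298)
def n11122 : Q := act 3 n8636
theorem D11122 : act 3 n8636 = n11122 := rfl
theorem F18632 : act 0 n11122 = n8657 := d2_1 D11122 (iv F18629) F18627
theorem F18633 : act 1 n11122 = n8637 := d6_1 D11122 (iv D8637) D8636
theorem F18634 : act 2 n11122 = n8652 := d9_1 D11122 (iv D8652) (iv D6631) (iv D5026) (iv F8183) D6616 D8634 D11119 F18625 F14335 F10952 F8207 (iv F8187) (iv F10930) (iv F14299)
theorem F18635 : act 5 n11122 = n8637 := d13_2 F14300 D11122 (iv D8637)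
def n11123 : Q := act 4 n8636
theorem D11123 : act 4 n8636 = n11123 := rfl
theorem F18636 : act 1 n11123 = n8638 := d7_1 D11123 (iv D8638) D8636
theorem F18637 : act 2 n11123 = n8640 := d10_1 D11123 (iv D8640) (iv F14299)
def n11124 : Q := act 2 n8637
theorem D11124 : act 2 n8637 = n11124 := rfl
theorem F18638 : act 0 n11124 = n8659 := d1_1 D11124 (iv F18625) F18624
theorem F18639 : act 3 n11124 = n8653 := d9_2 D8637 D11124 F14323 F10947 (iv F10925) (iv F14298) (iv F18628) F18629 (iv D8657) (iv D6634) (iv D5028) (iv D3759) (iv F6112) D5015 D6618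
theorem F18640 : act 5 n11124 = n8652 := d11_2 F18635 D11124 (iv F18634)
def n11125 : Q := act 4 n8637
theorem D11125 : act 4 n8637 = n11125 := rfl
def n11126 : Q := act 3 n8638
theorem D11126 : act 3 n8638 = n11126 := rfl
def n11127 : Q := act 5 n8638
theorem D11127 : act 5 n8638 = n11127 := rfl
theorem F18641 : act 2 n11127 = n8639 := d11_1 D11127 (iv D8639) (iv F14301)
def n11128 : Q := act 4 n8639
theorem D11128 : act 4 n8639 = n11128 := rfl
theorem F18642 : act 1 n11128 = n8642 := d7_1 D11128 F14309 (iv F14302)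
theorem F18643 : act 3 n11128 = n8923 := d12_1 D11128 (iv D8923) F11307 (iv F10936) (iv F14303)
theorem F18644 : act 5 n11128 = n8640 := d14_2 D8639 D11128 (iv D8640) (iv D6620) D6619
def n11129 : Q := act 2 n8641
theorem D11129 : act 2 n8641 = n11129 := rfl
theorem F18645 : act 4 n11129 = n8643 := d10_2 (iv F14307) D11129 (iv D8643)
def n11130 : Q := act 5 n8641
theorem D11130 : act 5 n8641 = n11130 := rfl
theorem F18646 : act 1 n11130 = n8923 := d8_1 D11130 F14811 (iv F14306)
theorem F18647 : act 3 n11130 = n8642 := d13_1 D11130 (iv D8642) D8641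
theorem F18648 : act 4 n11130 = n8648 := d14_1 D11130 F14316 F10942 (iv F10934) (iv F14307)
def n11131 : Q := act 1 n8643
theorem D11131 : act 1 n8643 = n11131 := rfl
theorem F18649 : act 2 n11131 = n8926 := d5_2 D8643 D11131 F14813 F11308 (iv F10933)
theorem F18650 : act 3 n11131 = n8650 := d6_2 (iv F14311) D11131 (iv D8650)
theorem F18651 : act 5 n11131 = n8650 := d8_2 (iv F14310) D11131 (iv D8650)
def n11132 : Q := act 2 n8644
theorem D11132 : act 2 n8644 = n11132 := rfl
def n11133 : Q := act 5 n8644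
theorem D11133 : act 5 n8644 = n11133 := rfl
theorem F18652 : act 1 n11133 = n8647 := d8_1 D11133 (iv D8647) (iv F14312)
theorem F18653 : act 3 n11133 = n8645 := d13_1 D11133 (iv D8645) D8644
def n11134 : Q := act 1 n8646
theorem D11134 : act 1 n8646 = n11134 := rfl
def n11135 : Q := act 3 n8646
theorem D11135 : act 3 n8646 = n11135 := rfl
def n11136 : Q := act 5 n8646
theorem D11136 : act 5 n8646 = n11136 := rfl
theorem F18654 : act 2 n11136 = n8647 := d11_1 D11136 (iv D8647) D8646
def n11137 : Q := act 4 n8647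
theorem D11137 : act 4 n8647 = n11137 := rfl
def n11138 : Q := act 2 n8648
theorem D11138 : act 2 n8648 = n11138 := rfl
theorem F18655 : act 5 n11138 = n8649 := d11_2 (iv F14316) D11138 (iv D8649)
def n11139 : Q := act 1 n8649
theorem D11139 : act 1 n8649 = n11139 := rfl
theorem F18656 : act 2 n11139 = n8920 := d5_2 D8649 D11139 (iv D8920) (iv D6840) (iv F10941)
theorem F18657 : act 4 n11139 = n8650 := d7_2 (iv F14317) D11139 (iv D8650)
def n11140 : Q := act 3 n8649
theorem D11140 : act 3 n8649 = n11140 := rfl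
def n11141 : Q := act 0 n8650
theorem D11141 : act 0 n8650 = n11141 := rfl
theorem F18658 : act 2 n11141 = n8924 := d1_2 (iv F14318) D11141 (iv D8924)
def n11142 : Q := act 0 n8651
theorem D11142 : act 0 n8651 = n11142 := rfl
theorem F18659 : act 1 n11142 = n8655 := d0_2 D8651 D11142 (iv D8655) (iv D6633) (iv F10943)
theorem F18660 : act 2 n11142 = n8709 := d1_2 (iv F14319) D11142 (iv D8709)
theorem F18661 : act 4 n11142 = n8913 := d3_2 (iv F14320) D11142 (iv D8913)
theorem F18662 : act 5 n8699 = n11142 := d11_0 F18660 (iv F14430) (iv F14412)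
def n11143 : Q := act 3 n8651
theorem D11143 : act 3 n8651 = n11143 := rfl
theorem F18663 : act 1 n11143 = n8652 := d6_1 D11143 (iv D8652) D8651
def n11144 : Q := act 5 n8651
theorem D11144 : act 5 n8651 = n11144 := rfl
theorem F18664 : act 0 n11144 = n8699 := d4_1 D11144 F18662 (iv D11142)
theorem F18665 : act 1 n11144 = n8653 := d8_1 D11144 (iv D8653) D8651
theorem F18666 : act 2 n11144 = n8712 := d11_1 D11144 (iv D8712) (iv F14319)
def n11145 : Q := act 4 n8652
theorem D11145 : act 4 n8652 = n11145 := rfl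
theorem F18667 : act 0 n11145 = n8658 := d3_1 D11145 (iv D8658) (iv F14321)
theorem F18668 : act 3 n11145 = n8915 := d12_1 D11145 (iv D8915) (iv D6836) (iv F10944) D8652
def n11146 : Q := act 4 n8653
theorem D11146 : act 4 n8653 = n11146 := rfl
theorem F18669 : act 0 n11146 = n8660 := d3_1 D11146 (iv D8660) (iv F14322)
theorem F18670 : act 2 n11146 = n8654 := d10_1 D11146 (iv D8654) (iv F14323)
theorem F18671 : act 5 n11146 = n8878 := d14_2 D8653 D11146 F14743 F11257 (iv F10944)
def n11147 : Q := act 3 n8655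
theorem D11147 : act 3 n8655 = n11147 := rfl
theorem F18672 : act 0 n11147 = n8656 := d2_1 D11147 (iv D8656) D8655
theorem F18673 : act 5 n11147 = n8700 := d13_2 (iv F14330) D11147 (iv D8700)
theorem F18674 : act 2 n11147 = n8691 := d15_2 (iv F14328) D11147 (iv D8691) (iv D6662) (iv D5055) F6162 D3786 (iv F8210) D6637
def n11148 : Q := act 2 n8656
theorem D11148 : act 2 n8656 = n11148 := rfl
theorem F18675 : act 0 n11148 = n8691 := d1_1 D11148 (iv F18674) F18672
theorem F18676 : act 5 n11148 = n8704 := d11_2 (iv F14332) D11148 (iv D8704)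
theorem F18677 : act 3 n11148 = n8687 := d15_1 D11148 (iv D8687) (iv D6660) F8259 D5060 D6669 D8700 (iv F18673) F18672
def n11149 : Q := act 4 n8656
theorem D11149 : act 4 n8656 = n11149 := rfl
theorem F18678 : act 1 n11149 = n8658 := d7_1 D11149 (iv D8658) (iv F14331)
theorem F18679 : act 3 n11149 = n8931 := d12_1 D11149 (iv D8931) (iv D6847) (iv F10949) D8656
def n11150 : Q := act 1 n8657
theorem D11150 : act 1 n8657 = n11150 := rfl
def n11151 : Q := act 4 n8657
theorem D11151 : act 4 n8657 = n11151 := rfl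
theorem F18680 : act 2 n11151 = n8658 := d10_1 D11151 (iv D8658) D8657
def n11152 : Q := act 5 n8658
theorem D11152 : act 5 n8658 = n11152 := rfl
theorem F18681 : act 3 n11152 = n8934 := d13_1 D11152 (iv D8934) (iv F14333)
def n11153 : Q := act 4 n8659
theorem D11153 : act 4 n8659 = n11153 := rfl
theorem F18682 : act 1 n11153 = n8705 := d7_1 D11153 (iv D8705) (iv F14334)
def n11154 : Q := act 3 n8660
theorem D11154 : act 3 n8660 = n11154 := rfl
theorem F18683 : act 1 n11154 = n8706 := d6_1 D11154 (iv D8706) (iv F14336)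
theorem F18684 : act 5 n11154 = n8899 := d13_2 (iv F14338) D11154 (iv D8899)
def n11155 : Q := act 2 n8661
theorem D11155 : act 2 n8661 = n11155 := rfl
theorem F18685 : act 0 n11155 = n8662 := d1_1 D11155 (iv D8662) (iv F14339)
theorem F18686 : act 4 n11155 = n8764 := d10_2 (iv F14341) D11155 (iv D8764)
def n11156 : Q := act 3 n8662
theorem D11156 : act 3 n8662 = n11156 := rfl
theorem F18687 : act 1 n11156 = n10908 := d6_1 D11156 (iv D10908) (iv F14342)
def n11157 : Q := act 5 n8663
theorem D11157 : act 5 n8663 = n11157 := rfl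
theorem F18688 : act 0 n11157 = n8665 := d4_1 D11157 (iv D8665) (iv F14344)
theorem F18689 : act 1 n11157 = n9068 := d8_1 D11157 (iv D9068) (iv F14345)
theorem F18690 : act 2 n11157 = n9366 := d11_1 D11157 (iv D9366) (iv F14346)
theorem F18691 : act 4 n11157 = n9405 := d14_1 D11157 (iv D9405) (iv D7242) (iv F10967) D8663
def n11158 : Q := act 5 n8664
theorem D11158 : act 5 n8664 = n11158 := rfl
theorem F18692 : act 0 n11158 = n8743 := d4_1 D11158 (iv D8743) (iv F14347)
theorem F18693 : act 1 n11158 = n8665 := d8_1 D11158 (iv D8665) (iv F14348)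
theorem F18694 : act 2 n11158 = n8737 := d11_1 D11158 (iv D8737) (iv F14349)
theorem F18695 : act 4 n11158 = n8681 := d14_1 D11158 (iv D8681) (iv D6655) (iv F10976) D8664
def n11159 : Q := act 3 n8666
theorem D11159 : act 3 n8666 = n11159 := rfl
theorem F18696 : act 1 n11159 = n8667 := d6_1 D11159 (iv D8667) D8666
theorem F18697 : act 5 n11159 = n8723 := d13_2 (iv F14430) D11159 F14459
def n11160 : Q := act 4 n8666
theorem D11160 : act 4 n8666 = n11160 := rfl
theorem F18698 : act 1 n11160 = n8668 := d7_1 D11160 (iv D8668) D8666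
def n11161 : Q := act 4 n8667
theorem D11161 : act 4 n8667 = n11161 := rfl
theorem F18699 : act 0 n11161 = n8672 := d3_1 D11161 (iv D8672) (iv F14350)
theorem F18700 : act 2 n11161 = n8727 := d10_1 D11161 (iv D8727) (iv F14351)
def n11162 : Q := act 3 n8668
theorem D11162 : act 3 n8668 = n11162 := rfl
theorem F18701 : act 0 n11162 = n8673 := d2_1 D11162 (iv D8673) (iv F14353)
def n11163 : Q := act 5 n8668
theorem D11163 : act 5 n8668 = n11163 := rfl
theorem F18702 : act 0 n11163 = n8674 := d4_1 D11163 (iv D8674) (iv F14353)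
theorem F18703 : act 2 n11163 = n8669 := d11_1 D11163 (iv D8669) (iv F14354)
theorem F18704 : act 4 n11163 = n10737 := d14_1 D11163 F17993 (iv D8720) F11049 D8668
def n11164 : Q := act 2 n8670
theorem D11164 : act 2 n8670 = n11164 := rfl
theorem F18705 : act 0 n11164 = n8675 := d1_1 D11164 (iv D8675) (iv F14358)
theorem F18706 : act 4 n11164 = n10696 := d10_2 (iv F14359) D11164 F17916
theorem F18707 : act 5 n11164 = n8679 := d11_2 (iv F14360) D11164 (iv D8679)
theorem F18708 : act 3 n11164 = n8752 := d15_1 D11164 (iv D8752) (iv D6707) (iv D5091) (iv D3807) (iv F6161) D5052 (iv F10989) (iv F14358)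
def n11165 : Q := act 1 n8671
theorem D11165 : act 1 n8671 = n11165 := rfl
theorem F18709 : act 0 n11165 = n11159 := d0_1 D11165 F18696 F14350 (iv F11057) (iv F14361)
theorem F18710 : act 2 n11165 = n11159 := d5_2 D8671 D11165 F18696 F14351 F11057
theorem F18711 : act 3 n11165 = n8712 := d6_2 (iv F14362) D11165 F14435
theorem F18712 : act 5 n11165 = n8710 := d8_2 (iv F14363) D11165 F14431
def n11166 : Q := act 4 n8671
theorem D11166 : act 4 n8671 = n11166 := rfl
theorem F18713 : act 0 n11166 = n8727 := d3_1 D11166 (iv D8727) (iv F14361)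
theorem F18714 : act 2 n11166 = n8672 := d10_1 D11166 (iv D8672) D8671
def n11167 : Q := act 3 n8672
theorem D11167 : act 3 n8672 = n11167 := rfl
theorem F18715 : act 4 n11167 = n8673 := d12_2 D8672 D11167 (iv D8673) (iv D6648) D6647
def n11168 : Q := act 5 n8672
theorem D11168 : act 5 n8672 = n11168 := rfl
def n11169 : Q := act 2 n8673
theorem D11169 : act 2 n8673 = n11169 := rfl
def n11170 : Q := act 5 n8673
theorem D11170 : act 5 n8673 = n11170 := rfl
theorem F18716 : act 3 n11170 = n8674 := d13_1 D11170 (iv D8674) D8673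
def n11171 : Q := act 3 n8675
theorem D11171 : act 3 n8675 = n11171 := rfl
theorem F18717 : act 0 n11171 = n8752 := d2_1 D11171 (iv F18708) F18705
theorem F18718 : act 1 n11171 = n8904 := d6_1 D11171 (iv D8904) (iv F14366)
theorem F18719 : act 4 n11171 = n10720 := d12_2 (iv F14367) D11171 (iv D10720) F17920 (iv D10697)
theorem F18720 : act 5 n11171 = n8685 := d13_2 (iv F14368) D11171 (iv D8685)
theorem F18721 : act 2 n11171 = n8741 := d15_2 D8675 D11171 (iv D8741) (iv D6700) (iv D5086) (iv F8248) D6654 (iv F14360) F14358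
def n11172 : Q := act 3 n8676
theorem D11172 : act 3 n8676 = n11172 := rfl
theorem F18722 : act 0 n11172 = n9088 := d2_1 D11172 (iv D9088) (iv F14369)
theorem F18723 : act 1 n11172 = n8677 := d6_1 D11172 (iv D8677) (iv F14370)
theorem F18724 : act 4 n11172 = n8794 := d12_2 D8676 D11172 (iv D8794) (iv D6740) (iv F10992)
def n11173 : Q := act 5 n8676
theorem D11173 : act 5 n8676 = n11173 := rfl
theorem F18725 : act 0 n11173 = n9089 := d4_1 D11173 (iv D9089) (iv F14369)
theorem F18726 : act 1 n11173 = n8678 := d8_1 D11173 (iv D8678) (iv F14370)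
theorem F18727 : act 2 n11173 = n9086 := d11_1 D11173 (iv D9086) (iv F14371)
theorem F18728 : act 4 n11173 = n9070 := d14_1 D11173 (iv D9070) (iv D6961) (iv F10993) D8676
def n11174 : Q := act 2 n8677
theorem D11174 : act 2 n8677 = n11174 := rfl
theorem F18729 : act 0 n11174 = n8682 := d1_1 D11174 (iv D8682) (iv F14372)
theorem F18730 : act 4 n11174 = n8796 := d10_2 (iv F14373) D11174 (iv D8796)
def n11175 : Q := act 5 n8677
theorem D11175 : act 5 n8677 = n11175 := rfl
theorem F18731 : act 0 n11175 = n8683 := d4_1 D11175 (iv D8683) (iv F14372)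
theorem F18732 : act 3 n11175 = n8678 := d13_1 D11175 (iv D8678) D8677
def n11176 : Q := act 1 n8679
theorem D11176 : act 1 n8679 = n11176 := rfl
def n11177 : Q := act 3 n8679
theorem D11177 : act 3 n8679 = n11177 := rfl
theorem F18733 : act 0 n11177 = n8685 := d2_1 D11177 (iv D8685) (iv F14376)
theorem F18734 : act 2 n11177 = n8734 := d9_1 D11177 (iv D8734) (iv D6694) (iv D5077) (iv F8237) D6650 D8675 D11171 F18721 (iv D8741) (iv D6700) (iv D5086) (iv F8248) D6654 D8679
theorem F18735 : act 5 n11177 = n8752 := d13_2 F18707 D11177 (iv F18708)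
def n11178 : Q := act 2 n8680
theorem D11178 : act 2 n8680 = n11178 := rfl
theorem F18736 : act 0 n11178 = n8796 := d1_1 D11178 (iv D8796) (iv F14377)
theorem F18737 : act 4 n11178 = n8682 := d10_2 (iv F14378) D11178 (iv D8682)
def n11179 : Q := act 5 n8680
theorem D11179 : act 5 n8680 = n11179 := rfl
theorem F18738 : act 0 n11179 = n8797 := d4_1 D11179 (iv D8797) (iv F14377)
theorem F18739 : act 3 n11179 = n8681 := d13_1 D11179 (iv D8681) D8680
def n11180 : Q := act 1 n8682
theorem D11180 : act 1 n8682 = n11180 := rfl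
def n11181 : Q := act 3 n8682
theorem D11181 : act 3 n8682 = n11181 := rfl
def n11182 : Q := act 5 n8682
theorem D11182 : act 5 n8682 = n11182 := rfl
theorem F18740 : act 2 n11182 = n8683 := d11_1 D11182 (iv D8683) D8682
def n11183 : Q := act 4 n8683
theorem D11183 : act 4 n8683 = n11183 := rfl
def n11184 : Q := act 0 n8684
theorem D11184 : act 0 n8684 = n11184 := rfl
theorem F18741 : act 2 n11184 = n8686 := d1_2 (iv F14382) D11184 (iv D8686)
theorem F18742 : act 4 n11184 = n10704 := d3_2 (iv F14383) D11184 F17934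
theorem F18743 : act 5 n11184 = n8903 := d4_2 (iv F14384) D11184 F14784
def n11185 : Q := act 3 n8684
theorem D11185 : act 3 n8684 = n11185 := rfl
theorem F18744 : act 1 n11185 = n8685 := d6_1 D11185 (iv D8685) D8684
theorem F18745 : act 5 n11185 = n8904 := d13_2 (iv F14384) D11185 (iv D8904)
def n11186 : Q := act 2 n8685
theorem D11186 : act 2 n8685 = n11186 := rfl
theorem F18746 : act 0 n11186 = n8734 := d1_1 D11186 (iv F18734) F18733
theorem F18747 : act 3 n11186 = n8719 := d9_2 D8685 D11186 (iv D8719) (iv D6682) (iv F10981) D8670 D11164 F18708 (iv D8752) (iv D6707) (iv D5091) (iv D3807) (iv F6161) D5052 D6658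
theorem F18748 : act 5 n11186 = n8741 := d11_2 F18720 D11186 (iv F18721)
def n11187 : Q := act 4 n8685
theorem D11187 : act 4 n8685 = n11187 := rfl
def n11188 : Q := act 1 n8687
theorem D11188 : act 1 n8687 = n11188 := rfl
theorem F18749 : act 2 n11188 = n11118 := d5_2 D8687 D11188 (iv D11118) (iv D8634) (iv F11005)
def n11189 : Q := act 4 n8687
theorem D11189 : act 4 n8687 = n11189 := rfl
theorem F18750 : act 0 n11189 = n8692 := d3_1 D11189 (iv D8692) (iv F14389)
theorem F18751 : act 2 n11189 = n8688 := d10_1 D11189 (iv D8688) D8687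
def n11190 : Q := act 5 n8687
theorem D11190 : act 5 n8687 = n11190 := rfl
theorem F18752 : act 0 n11190 = n8690 := d4_1 D11190 (iv F14397) (iv F14389)
theorem F18753 : act 2 n11190 = n8689 := d11_1 D11190 (iv D8689) D8687
theorem F18754 : act 3 n11190 = n8704 := d13_1 D11190 (iv F18676) F18677
def n11191 : Q := act 5 n8688
theorem D11191 : act 5 n8688 = n11191 := rfl
theorem F18755 : act 0 n11191 = n8693 := d4_1 D11191 (iv D8693) (iv F14390)
theorem F18756 : act 1 n11191 = n10853 := d8_1 D11191 (iv D10853) (iv F14391)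
theorem F18757 : act 3 n11191 = n10851 := d13_1 D11191 (iv D10851) (iv F14392)
def n11192 : Q := act 4 n8689
theorem D11192 : act 4 n8689 = n11192 := rfl
theorem F18758 : act 0 n11192 = n8694 := d3_1 D11192 (iv D8694) (iv F14393)
theorem F18759 : act 1 n11192 = n11121 := d7_1 D11192 (iv D11121) (iv F14394)
def n11193 : Q := act 3 n8690
theorem D11193 : act 3 n8690 = n11193 := rfl
theorem F18760 : act 0 n11193 = n8704 := d2_1 D11193 (iv F18754) F18752
theorem F18761 : act 1 n11193 = n8691 := d6_1 D11193 (iv D8691) D8690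
theorem F18762 : act 2 n11193 = n8700 := d9_1 D11193 (iv D8700) (iv D6669) (iv D5060) (iv F8259) D6660 D8687 (iv F18677) (iv D11148) (iv D8656) F10948 F8208 (iv F8263) (iv F11012) (iv F14396)
theorem F18763 : act 5 n11193 = n8691 := d13_2 F14397 D11193 (iv D8691)
def n11194 : Q := act 4 n8690
theorem D11194 : act 4 n8690 = n11194 := rfl
theorem F18764 : act 1 n11194 = n8692 := d7_1 D11194 (iv D8692) D8690
theorem F18765 : act 2 n11194 = n8694 := d10_1 D11194 (iv D8694) (iv F14396)
def n11195 : Q := act 4 n8691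
theorem D11195 : act 4 n8691 = n11195 := rfl
def n11196 : Q := act 3 n8692
theorem D11196 : act 3 n8692 = n11196 := rfl
def n11197 : Q := act 5 n8692
theorem D11197 : act 5 n8692 = n11197 := rfl
theorem F18766 : act 2 n11197 = n8693 := d11_1 D11197 (iv D8693) (iv F14398)
def n11198 : Q := act 4 n8693
theorem D11198 : act 4 n8693 = n11198 := rfl
theorem F18767 : act 1 n11198 = n8697 := d7_1 D11198 F14408 (iv F14399)
theorem F18768 : act 5 n11198 = n8694 := d14_2 D8693 D11198 (iv D8694) (iv D6664) D6663
def n11199 : Q := act 3 n8694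
theorem D11199 : act 3 n8694 = n11199 := rfl
theorem F18769 : act 1 n11199 = n8696 := d6_1 D11199 (iv D8696) (iv F14401)
theorem F18770 : act 4 n11199 = n8695 := d12_2 D8694 D11199 (iv D8695) (iv D6665) (iv F11012)
def n11200 : Q := act 2 n8695
theorem D11200 : act 2 n8695 = n11200 := rfl
theorem F18771 : act 5 n11200 = n11116 := d11_2 (iv F14403) D11200 (iv D11116)
def n11201 : Q := act 2 n8696
theorem D11201 : act 2 n8696 = n11201 := rfl
theorem F18772 : act 0 n11201 = n11129 := d1_1 D11201 (iv D11129) (iv F14404)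
theorem F18773 : act 4 n11201 = n8698 := d10_2 (iv F14405) D11201 (iv D8698)
theorem F18774 : act 3 n11201 = n11136 := d15_1 D11201 F18654 F14314 F10938 (iv F10932) (iv F14308) (iv F18647) (iv D11130) (iv F14404)
theorem F18775 : act 5 n11135 = n11201 := d13_0 F18774 (iv D11136) D11135
def n11202 : Q := act 5 n8696
theorem D11202 : act 5 n8696 = n11202 := rfl
theorem F18776 : act 0 n11202 = n11130 := d4_1 D11202 (iv D11130) (iv F14404)
theorem F18777 : act 2 n11202 = n11135 := d11_1 D11202 F18775 (iv D11201)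
theorem F18778 : act 3 n11202 = n8697 := d13_1 D11202 (iv D8697) D8696
theorem F18779 : act 4 n11202 = n10386 := d14_1 D11202 (iv D10386) F13329 (iv F11021) (iv F14405)
def n11203 : Q := act 1 n8698
theorem D11203 : act 1 n8698 = n11203 := rfl
theorem F18780 : act 3 n11203 = n11117 := d6_2 (iv F14410) D11203 (iv D11117)
theorem F18781 : act 5 n11203 = n11117 := d8_2 (iv F14411) D11203 (iv D11117)
def n11204 : Q := act 3 n8699
theorem D11204 : act 3 n8699 = n11204 := rfl
theorem F18782 : act 1 n11204 = n8700 := d6_1 D11204 (iv D8700) D8699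
def n11205 : Q := act 4 n8699
theorem D11205 : act 4 n8699 = n11205 := rfl
theorem F18783 : act 1 n11205 = n8701 := d7_1 D11205 (iv D8701) D8699
theorem F18784 : act 2 n11205 = n11160 := d10_1 D11205 (iv D11160) (iv F14412)
def n11206 : Q := act 4 n8700
theorem D11206 : act 4 n8700 = n11206 := rfl
theorem F18785 : act 0 n11206 = n8705 := d3_1 D11206 (iv D8705) (iv F14413)
def n11207 : Q := act 3 n8701
theorem D11207 : act 3 n8701 = n11207 := rfl
theorem F18786 : act 0 n11207 = n8706 := d2_1 D11207 (iv D8706) (iv F14414)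
def n11208 : Q := act 5 n8701
theorem D11208 : act 5 n8701 = n11208 := rfl
theorem F18787 : act 0 n11208 = n8707 := d4_1 D11208 (iv D8707) (iv F14414)
theorem F18788 : act 2 n11208 = n8702 := d11_1 D11208 (iv D8702) (iv F14415)
theorem F18789 : act 4 n11208 = n8900 := d14_1 D11208 F14781 (iv F14329) F14330 D8701
def n11209 : Q := act 2 n8703
theorem D11209 : act 2 n8703 = n11209 := rfl
theorem F18790 : act 0 n11209 = n8708 := d1_1 D11209 (iv D8708) (iv F14420)
theorem F18791 : act 4 n11209 = n8935 := d10_2 (iv F14422) D11209 (iv D8935)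
theorem F18792 : act 5 n11209 = n11155 := d11_2 (iv F14423) D11209 (iv D11155)
def n11210 : Q := act 1 n8704
theorem D11210 : act 1 n8704 = n11210 := rfl
def n11211 : Q := act 4 n8704
theorem D11211 : act 4 n8704 = n11211 := rfl
theorem F18793 : act 2 n11211 = n8705 := d10_1 D11211 (iv D8705) D8704
def n11212 : Q := act 3 n8705
theorem D11212 : act 3 n8705 = n11212 := rfl
theorem F18794 : act 4 n11212 = n8706 := d12_2 D8705 D11212 (iv D8706) (iv D6673) D6672
def n11213 : Q := act 5 n8705
theorem D11213 : act 5 n8705 = n11213 := rfl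
def n11214 : Q := act 2 n8706
theorem D11214 : act 2 n8706 = n11214 := rfl
def n11215 : Q := act 5 n8706
theorem D11215 : act 5 n8706 = n11215 := rfl
theorem F18795 : act 1 n11215 = n8899 := d8_1 D11215 (iv F18684) F18683
theorem F18796 : act 3 n11215 = n8707 := d13_1 D11215 (iv D8707) D8706
def n11216 : Q := act 3 n8708
theorem D11216 : act 3 n8708 = n11216 := rfl
theorem F18797 : act 5 n11216 = n11156 := d13_2 (iv F14428) D11216 (iv D11156)
def n11217 : Q := act 4 n8709
theorem D11217 : act 4 n8709 = n11217 := rfl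
theorem F18798 : act 0 n11217 = n8711 := d3_1 D11217 (iv D8711) D8709
theorem F18799 : act 1 n11217 = n8720 := d7_1 D11217 (iv D8720) (iv F14429)
theorem F18800 : act 2 n11217 = n8913 := d10_1 D11217 (iv F18661) F18660
def n11218 : Q := act 4 n8710
theorem D11218 : act 4 n8710 = n11218 := rfl
theorem F18801 : act 1 n11218 = n8713 := d7_1 D11218 (iv D8713) (iv F14431)
def n11219 : Q := act 3 n8711
theorem D11219 : act 3 n8711 = n11219 := rfl
theorem F18802 : act 1 n11219 = n8714 := d6_1 D11219 (iv D8714) (iv F14432)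
def n11220 : Q := act 5 n8711
theorem D11220 : act 5 n8711 = n11220 := rfl
theorem F18803 : act 1 n11220 = n8715 := d8_1 D11220 (iv D8715) (iv F14432)
theorem F18804 : act 2 n11220 = n8879 := d11_1 D11220 F14744 (iv F14433)
def n11221 : Q := act 4 n8712
theorem D11221 : act 4 n8712 = n11221 := rfl
theorem F18805 : act 0 n11221 = n11160 := d3_1 D11221 (iv D11160) (iv F14434)
theorem F18806 : act 1 n11221 = n8716 := d7_1 D11221 (iv D8716) (iv F14435)
def n11222 : Q := act 3 n8713
theorem D11222 : act 3 n8713 = n11222 := rfl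
theorem F18807 : act 0 n11222 = n8725 := d2_1 D11222 (iv D8725) (iv F14436)
theorem F18808 : act 4 n11222 = n8714 := d12_2 D8713 D11222 (iv D8714) (iv D6678) D6677
def n11223 : Q := act 5 n8713
theorem D11223 : act 5 n8713 = n11223 := rfl
theorem F18809 : act 0 n11223 = n8726 := d4_1 D11223 (iv D8726) (iv F14436)
def n11224 : Q := act 2 n8714
theorem D11224 : act 2 n8714 = n11224 := rfl
theorem F18810 : act 0 n11224 = n8728 := d1_1 D11224 (iv D8728) (iv F14437)
theorem F18811 : act 3 n11224 = n8748 := d15_1 D11224 F14499 F11089 F8336 (iv F8302) (iv F11059) (iv F14464) (iv D8729) (iv F14437)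
theorem F18812 : act 5 n8747 = n11224 := d13_0 F18811 (iv D8748) D8747
def n11225 : Q := act 5 n8714
theorem D11225 : act 5 n8714 = n11225 := rfl
theorem F18813 : act 0 n11225 = n8729 := d4_1 D11225 (iv D8729) (iv F14437)
theorem F18814 : act 2 n11225 = n8747 := d11_1 D11225 F18812 (iv D11224)
theorem F18815 : act 3 n11225 = n8715 := d13_1 D11225 (iv D8715) D8714
def n11226 : Q := act 4 n8715
theorem D11226 : act 4 n8715 = n11226 := rfl
theorem F18816 : act 0 n11226 = n8730 := d3_1 D11226 (iv D8730) (iv F14438)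
theorem F18817 : act 2 n11226 = n8717 := d10_1 D11226 (iv D8717) (iv F14439)
theorem F18818 : act 5 n11226 = n8716 := d14_2 D8715 D11226 (iv D8716) (iv D6679) D6678
def n11227 : Q := act 3 n8716
theorem D11227 : act 3 n8716 = n11227 := rfl
theorem F18819 : act 0 n11227 = n8731 := d2_1 D11227 (iv D8731) (iv F14440)
def n11228 : Q := act 2 n8718
theorem D11228 : act 2 n8718 = n11228 := rfl
theorem F18820 : act 0 n11228 = n8732 := d1_1 D11228 (iv D8732) (iv F14446)
theorem F18821 : act 4 n11228 = n8719 := d10_2 (iv F14448) D11228 (iv D8719)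
theorem F18822 : act 5 n11228 = n8813 := d11_2 (iv F14449) D11228 F14642
def n11229 : Q := act 1 n8719
theorem D11229 : act 1 n8719 = n11229 := rfl
theorem F18823 : act 2 n11229 = n8870 := d5_2 D8719 D11229 F14725 F11249 (iv F11046)
theorem F18824 : act 5 n11229 = n8740 := d8_2 (iv F14451) D11229 (iv D8740)
def n11230 : Q := act 3 n8720
theorem D11230 : act 3 n8720 = n11230 := rfl
theorem F18825 : act 0 n11230 = n8722 := d2_1 D11230 (iv D8722) (iv F14452)
def n11231 : Q := act 3 n8721
theorem D11231 : act 3 n8721 = n11231 := rfl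
theorem F18826 : act 1 n11231 = n8725 := d6_1 D11231 (iv D8725) (iv F14454)
theorem F18827 : act 4 n11231 = n8722 := d12_2 D8721 D11231 (iv D8722) (iv D6685) D6684
def n11232 : Q := act 5 n8721
theorem D11232 : act 5 n8721 = n11232 := rfl
theorem F18828 : act 1 n11232 = n8726 := d8_1 D11232 (iv D8726) (iv F14454)
theorem F18829 : act 2 n11232 = n11223 := d11_1 D11232 (iv D11223) (iv F14455)
theorem F18830 : act 4 n11232 = n11168 := d14_1 D11232 (iv D11168) (iv D8672) (iv F11051) D8721
def n11233 : Q := act 2 n8722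
theorem D11233 : act 2 n8722 = n11233 := rfl
def n11234 : Q := act 4 n8723
theorem D11234 : act 4 n8723 = n11234 := rfl
theorem F18831 : act 0 n11234 = n11218 := d3_1 D11234 (iv D11218) (iv F14457)
theorem F18832 : act 1 n11234 = n8724 := d7_1 D11234 (iv D8724) D8723
theorem F18833 : act 2 n11234 = n11218 := d10_1 D11234 (iv D11218) (iv F14458)
def n11235 : Q := act 3 n8724
theorem D11235 : act 3 n8724 = n11235 := rfl
theorem F18834 : act 0 n11235 = n11231 := d2_1 D11235 (iv D11231) (iv F14460)
theorem F18835 : act 4 n11235 = n11230 := d12_2 D8724 D11235 (iv D11230) (iv D8720) (iv F11056)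
def n11236 : Q := act 5 n8724
theorem D11236 : act 5 n8724 = n11236 := rfl
theorem F18836 : act 0 n11236 = n11232 := d4_1 D11236 (iv D11232) (iv F14460)
theorem F18837 : act 2 n11236 = n8726 := d11_1 D11236 (iv D8726) (iv F14461)
def n11237 : Q := act 2 n8725
theorem D11237 : act 2 n8725 = n11237 := rfl
theorem F18838 : act 4 n11237 = n8728 := d10_2 (iv F14462) D11237 (iv D8728)
def n11238 : Q := act 5 n8725
theorem D11238 : act 5 n8725 = n11238 := rfl
theorem F18839 : act 3 n11238 = n8726 := d13_1 D11238 (iv D8726) D8725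
def n11239 : Q := act 4 n8726
theorem D11239 : act 4 n8726 = n11239 := rfl
theorem F18840 : act 1 n11239 = n11168 := d7_1 D11239 (iv F18830) F18828
theorem F18841 : act 5 n11239 = n8727 := d14_2 D8726 D11239 (iv D8727) (iv D6688) D6687
def n11240 : Q := act 3 n8727
theorem D11240 : act 3 n8727 = n11240 := rfl
theorem F18842 : act 1 n11240 = n11167 := d6_1 D11240 (iv D11167) (iv F14463)
theorem F18843 : act 4 n11240 = n8731 := d12_2 D8727 D11240 (iv D8731) (iv D6691) (iv F11058)
def n11241 : Q := act 1 n8728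
theorem D11241 : act 1 n8728 = n11241 := rfl
def n11242 : Q := act 3 n8728
theorem D11242 : act 3 n8728 = n11242 := rfl
theorem F18844 : act 0 n11242 = n8748 := d2_1 D11242 (iv F18811) F18810
theorem F18845 : act 2 n11242 = n8739 := d9_1 D11242 F14487 F11078 (iv F11043) (iv F14439) (iv F18815) F18814 (iv D8747) (iv D6704) (iv D5089) F6206 (iv F6183) (iv F8298) D6689 D8728
theorem F18846 : act 5 n11242 = n8738 := d15_8 (iv D6704) (iv D5089) F6206 (iv F6183) (iv F8298) D6689 D8728 D11242 F14484
def n11243 : Q := act 5 n8728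
theorem D11243 : act 5 n8728 = n11243 := rfl
theorem F18847 : act 0 n11243 = n8747 := d4_1 D11243 F18812 F18810
theorem F18848 : act 2 n11243 = n8729 := d11_1 D11243 (iv D8729) D8728
theorem F18849 : act 3 n11243 = n8738 := d13_1 D11243 (iv F18846) (iv D11242)
def n11244 : Q := act 4 n8729
theorem D11244 : act 4 n8729 = n11244 := rfl
def n11245 : Q := act 3 n8730
theorem D11245 : act 3 n8730 = n11245 := rfl
theorem F18850 : act 1 n11245 = n11170 := d6_1 D11245 F18716 (iv F14465)
theorem F18851 : act 5 n11245 = n8731 := d13_2 (iv F14467) D11245 (iv D8731)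
def n11246 : Q := act 2 n8731
theorem D11246 : act 2 n8731 = n11246 := rfl
def n11247 : Q := act 3 n8732
theorem D11247 : act 3 n8732 = n11247 := rfl
theorem F18852 : act 1 n11247 = n8865 := d6_1 D11247 F14716 (iv F14469)
theorem F18853 : act 5 n11247 = n8821 := d13_2 (iv F14471) D11247 (iv D8821)
def n11248 : Q := act 0 n8733
theorem D11248 : act 0 n8733 = n11248 := rfl
theorem F18854 : act 2 n11248 = n8735 := d1_2 (iv F14472) D11248 (iv D8735)
theorem F18855 : act 4 n11248 = n8858 := d3_2 (iv F14473) D11248 F14710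
theorem F18856 : act 5 n11248 = n8750 := d4_2 (iv F14474) D11248 (iv D8750)
def n11249 : Q := act 3 n8733
theorem D11249 : act 3 n8733 = n11249 := rfl
theorem F18857 : act 1 n11249 = n8734 := d6_1 D11249 (iv D8734) D8733
theorem F18858 : act 5 n11249 = n8751 := d13_2 (iv F14474) D11249 (iv D8751)
def n11250 : Q := act 4 n8734
theorem D11250 : act 4 n8734 = n11250 := rfl
def n11251 : Q := act 2 n8736
theorem D11251 : act 2 n8736 = n11251 := rfl
theorem F18859 : act 0 n11251 = n8744 := d1_1 D11251 (iv D8744) (iv F14480)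
theorem F18860 : act 4 n11251 = n8738 := d10_2 (iv F14481) D11251 (iv D8738)
def n11252 : Q := act 5 n8736
theorem D11252 : act 5 n8736 = n11252 := rfl
theorem F18861 : act 0 n11252 = n8745 := d4_1 D11252 (iv D8745) (iv F14480)
theorem F18862 : act 3 n11252 = n8737 := d13_1 D11252 (iv D8737) D8736
def n11253 : Q := act 1 n8738
theorem D11253 : act 1 n8738 = n11253 := rfl
def n11254 : Q := act 4 n8739
theorem D11254 : act 4 n8739 = n11254 := rfl
theorem F18863 : act 0 n11254 = n8749 := d3_1 D11254 (iv D8749) (iv F14485)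
theorem F18864 : act 1 n11254 = n10745 := d7_1 D11254 F18008 (iv F14486)
theorem F18865 : act 3 n11254 = n8784 := d12_1 D11254 (iv D8784) F11138 (iv F11079) (iv F14487)
def n11255 : Q := act 0 n8740
theorem D11255 : act 0 n8740 = n11255 := rfl
theorem F18866 : act 1 n11255 = n8750 := d0_2 D8740 D11255 (iv D8750) (iv D6706) (iv F11080)
theorem F18867 : act 2 n11255 = n8867 := d1_2 (iv F14488) D11255 F14719
theorem F18868 : act 4 n11255 = n8809 := d3_2 (iv F14489) D11255 (iv D8809)
def n11256 : Q := act 3 n8740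
theorem D11256 : act 3 n8740 = n11256 := rfl
theorem F18869 : act 1 n11256 = n8741 := d6_1 D11256 (iv D8741) D8740
def n11257 : Q := act 4 n8741
theorem D11257 : act 4 n8741 = n11257 := rfl
theorem F18870 : act 0 n11257 = n8753 := d3_1 D11257 (iv D8753) (iv F14490)
theorem F18871 : act 2 n11257 = n10720 := d10_1 D11257 (iv F18719) F18721
theorem F18872 : act 3 n11257 = n8812 := d12_1 D11257 (iv D8812) (iv D6752) (iv F11081) D8741
def n11258 : Q := act 2 n8742
theorem D11258 : act 2 n8742 = n11258 := rfl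
def n11259 : Q := act 5 n8742
theorem D11259 : act 5 n8742 = n11259 := rfl
theorem F18873 : act 1 n11259 = n9072 := d8_1 D11259 (iv D9072) (iv F14491)
theorem F18874 : act 3 n11259 = n8743 := d13_1 D11259 (iv D8743) D8742
def n11260 : Q := act 1 n8744
theorem D11260 : act 1 n8744 = n11260 := rfl
theorem F18875 : act 2 n11260 = n8806 := d5_2 D8744 D11260 (iv D8806) (iv D6749) (iv F11084)
theorem F18876 : act 4 n11260 = n8746 := d7_2 (iv F14495) D11260 (iv D8746)
def n11261 : Q := act 3 n8744
theorem D11261 : act 3 n8744 = n11261 := rfl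
def n11262 : Q := act 5 n8744
theorem D11262 : act 5 n8744 = n11262 := rfl
theorem F18877 : act 2 n11262 = n8745 := d11_1 D11262 (iv D8745) D8744
def n11263 : Q := act 4 n8745
theorem D11263 : act 4 n8745 = n11263 := rfl
theorem F18878 : act 1 n11263 = n8792 := d7_1 D11263 F14601 (iv F14496)
theorem F18879 : act 3 n11263 = n8791 := d12_1 D11263 (iv D8791) F11143 (iv F11087) (iv F14497)
theorem F18880 : act 5 n11263 = n8749 := d14_2 D8745 D11263 (iv D8749) (iv D6705) (iv F11085)
def n11264 : Q := act 0 n8746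
theorem D11264 : act 0 n8746 = n11264 := rfl
theorem F18881 : act 2 n11264 = n8808 := d1_2 (iv F14498) D11264 (iv D8808)
def n11265 : Q := act 3 n8746
theorem D11265 : act 3 n8746 = n11265 := rfl
theorem F18882 : act 1 n11265 = n8747 := d6_1 D11265 (iv D8747) D8746
def n11266 : Q := act 4 n8747
theorem D11266 : act 4 n8747 = n11266 := rfl
def n11267 : Q := act 4 n8748
theorem D11267 : act 4 n8748 = n11267 := rfl
theorem F18883 : act 2 n11267 = n8749 := d10_1 D11267 (iv D8749) (iv F14499)
def n11268 : Q := act 3 n8750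
theorem D11268 : act 3 n8750 = n11268 := rfl
theorem F18884 : act 0 n11268 = n8751 := d2_1 D11268 (iv D8751) D8750
def n11269 : Q := act 2 n8751
theorem D11269 : act 2 n8751 = n11269 := rfl
def n11270 : Q := act 4 n8751
theorem D11270 : act 4 n8751 = n11270 := rfl
theorem F18885 : act 1 n11270 = n8753 := d7_1 D11270 (iv D8753) (iv F14504)
theorem F18886 : act 3 n11270 = n8816 := d12_1 D11270 (iv D8816) (iv D6756) (iv F11091) D8751
def n11271 : Q := act 1 n8752
theorem D11271 : act 1 n8752 = n11271 := rfl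
def n11272 : Q := act 4 n8752
theorem D11272 : act 4 n8752 = n11272 := rfl
theorem F18887 : act 0 n11272 = n10720 := d3_1 D11272 (iv F18719) F18717
theorem F18888 : act 2 n11272 = n8753 := d10_1 D11272 (iv D8753) D8752
theorem F18889 : act 3 n10719 = n11272 := d2_0 F18887 (iv D10720) D10719
def n11273 : Q := act 5 n8753
theorem D11273 : act 5 n8753 = n11273 := rfl
theorem F18890 : act 3 n11273 = n8819 := d13_1 D11273 (iv D8819) (iv F14505)
def n11274 : Q := act 2 n8754
theorem D11274 : act 2 n8754 = n11274 := rfl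
theorem F18891 : act 0 n11274 = n8755 := d1_1 D11274 (iv D8755) (iv F14506)
theorem F18892 : act 4 n11274 = n8859 := d10_2 (iv F14508) D11274 (iv D8859)
theorem F18893 : act 5 n11274 = n10900 := d11_2 (iv F14509) D11274 F18298
def n11275 : Q := act 3 n8755
theorem D11275 : act 3 n8755 = n11275 := rfl
theorem F18894 : act 1 n11275 = n11216 := d6_1 D11275 (iv D11216) (iv F14510)
theorem F18895 : act 5 n11275 = n10908 := d13_2 (iv F14512) D11275 (iv D10908)
def n11276 : Q := act 2 n8756
theorem D11276 : act 2 n8756 = n11276 := rfl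
theorem F18896 : act 0 n11276 = n8758 := d1_1 D11276 (iv D8758) (iv F14513)
theorem F18897 : act 1 n11276 = n9108 := d5_1 D11276 F15167 F12825 F11922 (iv F14514)
theorem F18898 : act 4 n11276 = n9105 := d10_2 (iv F14515) D11276 F15158
theorem F18899 : act 3 n11276 = n10902 := d15_1 D11276 (iv D10902) (iv D8462) F10737 (iv F8363) (iv F11103) (iv F14522) (iv D8759) (iv F14513)
def n11277 : Q := act 5 n8756
theorem D11277 : act 5 n8756 = n11277 := rfl
theorem F18900 : act 0 n11277 = n8759 := d4_1 D11277 (iv D8759) (iv F14513)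
theorem F18901 : act 1 n11277 = n9339 := d8_1 D11277 (iv D9339) (iv F14514)
theorem F18902 : act 3 n11277 = n8757 := d13_1 D11277 (iv D8757) D8756
theorem F18903 : act 4 n11277 = n10098 := d14_1 D11277 (iv D10098) (iv D7797) (iv F11914) (iv F14515)
def n11278 : Q := act 1 n8758
theorem D11278 : act 1 n8758 = n11278 := rfl
theorem F18904 : act 0 n11278 = n9118 := d0_1 D11278 F15194 (iv F15166) (iv F18897) F18896
theorem F18905 : act 2 n11278 = n8760 := d5_2 D8758 D11278 (iv D8760) (iv D6713) (iv F11100)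
theorem F18906 : act 4 n11278 = n9115 := d7_2 (iv F14520) D11278 F15185
def n11279 : Q := act 3 n8758
theorem D11279 : act 3 n8758 = n11279 := rfl
theorem F18907 : act 0 n11279 = n10902 := d2_1 D11279 (iv F18899) F18896
theorem F18908 : act 2 n11279 = n10901 := d15_2 D8758 D11279 (iv D10901) F14062 (iv F11112) (iv F14518) (iv F18902) (iv D11277) F14513
def n11280 : Q := act 5 n8758
theorem D11280 : act 5 n8758 = n11280 := rfl
theorem F18909 : act 2 n11280 = n8759 := d11_1 D11280 (iv D8759) D8758
def n11281 : Q := act 4 n8759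
theorem D11281 : act 4 n8759 = n11281 := rfl
theorem F18910 : act 0 n11281 = n10098 := d3_1 D11281 (iv F18903) F18900
theorem F18911 : act 1 n11281 = n8763 := d7_1 D11281 (iv D8763) (iv F14521)
theorem F18912 : act 3 n11281 = n9413 := d12_1 D11281 (iv D9413) F12006 (iv F11104) (iv F14522)
theorem F18913 : act 5 n11281 = n9338 := d14_2 D8759 D11281 (iv D9338) (iv D7178) (iv F11101)
def n11282 : Q := act 0 n8760
theorem D11282 : act 0 n8760 = n11282 := rfl
theorem F18914 : act 1 n11282 = n9345 := d0_2 D8760 D11282 (iv D9345) (iv D7187) (iv F11105)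
theorem F18915 : act 2 n11282 = n9118 := d1_2 F18905 D11282 (iv F18904)
theorem F18916 : act 4 n11282 = n9117 := d3_2 (iv F14523) D11282 F15190
def n11283 : Q := act 3 n8760
theorem D11283 : act 3 n8760 = n11283 := rfl
theorem F18917 : act 1 n11283 = n8761 := d6_1 D11283 (iv D8761) D8760
theorem F18918 : act 4 n11283 = n9145 := d12_2 (iv F14523) D11283 (iv D9145) (iv D7022) D7021
theorem F18919 : act 5 n8768 = n11283 := d8_0 F18917 F14527 D8768
def n11284 : Q := act 5 n8760
theorem D11284 : act 5 n8760 = n11284 := rfl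
theorem F18920 : act 1 n11284 = n8762 := d8_1 D11284 (iv D8762) D8760
theorem F18921 : act 3 n11284 = n8768 := d13_1 D11284 F18919 (iv D11283)
theorem F18922 : act 4 n11284 = n9352 := d14_1 D11284 (iv D9352) (iv D7200) (iv F11651) (iv F14523)
def n11285 : Q := act 1 n8764
theorem D11285 : act 1 n8764 = n11285 := rfl
theorem F18923 : act 0 n11285 = n10898 := d0_1 D11285 F18295 F14059 (iv F11113) (iv F14536)
theorem F18924 : act 5 n11285 = n10896 := d8_2 (iv F14537) D11285 F18293
def n11286 : Q := act 3 n8764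
theorem D11286 : act 3 n8764 = n11286 := rfl
theorem F18925 : act 0 n11286 = n8765 := d2_1 D11286 (iv D8765) (iv F14536)
theorem F18926 : act 5 n11286 = n10901 := d13_2 (iv F14537) D11286 (iv D10901)
def n11287 : Q := act 2 n8765
theorem D11287 : act 2 n8765 = n11287 := rfl
theorem F18927 : act 5 n11287 = n10902 := d11_2 (iv F14539) D11287 (iv D10902)
def n11288 : Q := act 4 n8765
theorem D11288 : act 4 n8765 = n11288 := rfl
theorem F18928 : act 1 n11288 = n10907 := d7_1 D11288 (iv D10907) (iv F14538)
def n11289 : Q := act 1 n8766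
theorem D11289 : act 1 n8766 = n11289 := rfl
theorem F18929 : act 2 n11289 = n8768 := d5_2 D8766 D11289 (iv D8768) (iv D6720) (iv F11115)
theorem F18930 : act 4 n11289 = n8989 := d7_2 (iv F14540) D11289 (iv D8989)
def n11290 : Q := act 3 n8766
theorem D11290 : act 3 n8766 = n11290 := rfl
def n11291 : Q := act 5 n8766
theorem D11291 : act 5 n8766 = n11291 := rfl
theorem F18931 : act 2 n11291 = n8767 := d11_1 D11291 (iv D8767) D8766
def n11292 : Q := act 4 n8767
theorem D11292 : act 4 n8767 = n11292 := rfl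
theorem F18932 : act 1 n11292 = n8769 := d7_1 D11292 (iv D8769) (iv F14541)
theorem F18933 : act 3 n11292 = n8942 := d12_1 D11292 (iv D8942) F11322 (iv F11118) (iv F14542)
theorem F18934 : act 5 n11292 = n8992 := d14_2 D8767 D11292 (iv D8992) (iv D6897) (iv F11116)
def n11293 : Q := act 0 n8768
theorem D11293 : act 0 n8768 = n11293 := rfl
theorem F18935 : act 1 n11293 = n8774 := d0_2 D8768 D11293 (iv D8774) (iv D6724) (iv F11119)
theorem F18936 : act 4 n11293 = n8993 := d3_2 (iv F14543) D11293 (iv D8993)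
def n11294 : Q := act 0 n8770
theorem D11294 : act 0 n8770 = n11294 := rfl
theorem F18937 : act 1 n11294 = n8993 := d0_2 D8770 D11294 (iv D8993) (iv D6898) (iv F11123)
theorem F18938 : act 4 n11294 = n8774 := d3_2 (iv F14548) D11294 (iv D8774)
def n11295 : Q := act 3 n8770
theorem D11295 : act 3 n8770 = n11295 := rfl
theorem F18939 : act 1 n11295 = n8771 := d6_1 D11295 (iv D8771) D8770
theorem F18940 : act 4 n9972 = n11295 := d7_0 F18939 (iv F14552) (iv F16637)
theorem F18941 : act 5 n9002 = n11295 := d8_0 F18939 F14551 D9002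
def n11296 : Q := act 5 n8770
theorem D11296 : act 5 n8770 = n11296 := rfl
theorem F18942 : act 1 n11296 = n8772 := d8_1 D11296 (iv D8772) D8770
theorem F18943 : act 3 n11296 = n9002 := d13_1 D11296 F18941 (iv D11295)
theorem F18944 : act 4 n9973 = n11296 := d12_0 F18943 F14944 F12698 D7689 D9973
def n11297 : Q := act 3 n8774
theorem D11297 : act 3 n8774 = n11297 := rfl
theorem F18945 : act 0 n11297 = n8775 := d2_1 D11297 (iv D8775) D8774
theorem F18946 : act 5 n9345 = n11297 := d4_0 F18945 (iv F14562) D9345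
def n11298 : Q := act 5 n8774
theorem D11298 : act 5 n8774 = n11298 := rfl
theorem F18947 : act 0 n11298 = n8776 := d4_1 D11298 (iv D8776) D8774
theorem F18948 : act 3 n11298 = n9345 := d13_1 D11298 F18946 (iv D11297)
def n11299 : Q := act 2 n8775
theorem D11299 : act 2 n8775 = n11299 := rfl
theorem F18949 : act 1 n11299 = n9344 := d5_1 D11299 F15620 F11929 (iv F11127) (iv F14561)
theorem F18950 : act 5 n11299 = n9342 := d11_2 F14562 D11299 F15615
theorem F18951 : act 4 n10105 = n11299 := d14_5 F18950 F15616 F11934 D7803 D10105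
def n11300 : Q := act 4 n8775
theorem D11300 : act 4 n8775 = n11300 := rfl
theorem F18952 : act 1 n11300 = n8777 := d7_1 D11300 (iv D8777) (iv F14561)
theorem F18953 : act 2 n11300 = n10105 := d10_1 D11300 F18951 (iv D11299)
theorem F18954 : act 3 n11300 = n9972 := d12_1 D11300 F18940 (iv D11295) F14548 D8775
theorem F18955 : act 5 n11300 = n9347 := d14_2 F14562 D11300 (iv D9347) (iv D7191) (iv F11935)
def n11301 : Q := act 4 n8776
theorem D11301 : act 4 n8776 = n11301 := rfl
theorem F18956 : act 1 n11301 = n8778 := d7_1 D11301 (iv D8778) (iv F14563)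
theorem F18957 : act 3 n11301 = n9346 := d12_1 D11301 (iv D9346) (iv D7190) (iv F11935) (iv F14564)
theorem F18958 : act 5 n11301 = n9973 := d14_2 D8776 D11301 F18944 (iv D11296) F14548
def n11302 : Q := act 0 n8779
theorem D11302 : act 0 n8779 = n11302 := rfl
theorem F18959 : act 1 n11302 = n8782 := d0_2 D8779 D11302 F14579 (iv D6731) (iv F11132)
theorem F18960 : act 2 n11302 = n10739 := d1_2 (iv F14573) D11302 (iv D10739)
theorem F18961 : act 5 n8779 = n11302 := d11_0 F18960 (iv F17998) (iv F14573)
theorem F18962 : act 3 n8817 = n11302 := d6_0 F18959 F14581 D8817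
def n11303 : Q := act 3 n8779
theorem D11303 : act 3 n8779 = n11303 := rfl
theorem F18963 : act 0 n11303 = n8817 := d2_1 D11303 F18962 (iv D11302)
theorem F18964 : act 1 n11303 = n8780 := d6_1 D11303 (iv D8780) D8779
theorem F18965 : act 5 n11303 = n8817 := d13_2 (iv F18961) D11303 F18962
theorem F18966 : act 2 n8860 = n11303 := d5_0 F18964 F14575 F11178 D6792 D8860
def n11304 : Q := act 4 n8779
theorem D11304 : act 4 n8779 = n11304 := rfl
theorem F18967 : act 1 n11304 = n8781 := d7_1 D11304 (iv D8781) D8779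
theorem F18968 : act 2 n11304 = n10740 := d10_1 D11304 (iv D10740) (iv F14573)
def n11305 : Q := act 4 n8780
theorem D11305 : act 4 n8780 = n11305 := rfl
theorem F18969 : act 0 n11305 = n8788 := d3_1 D11305 (iv D8788) (iv F14574)
theorem F18970 : act 2 n11305 = n8820 := d10_1 D11305 (iv D8820) (iv F14575)
def n11306 : Q := act 3 n8781
theorem D11306 : act 3 n8781 = n11306 := rfl
theorem F18971 : act 0 n11306 = n8789 := d2_1 D11306 (iv D8789) (iv F14577)
def n11307 : Q := act 5 n8781
theorem D11307 : act 5 n8781 = n11307 := rfl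
theorem F18972 : act 0 n11307 = n8790 := d4_1 D11307 (iv D8790) (iv F14577)
theorem F18973 : act 2 n11307 = n8783 := d11_1 D11307 (iv D8783) (iv F14578)
def n11308 : Q := act 4 n8782
theorem D11308 : act 4 n8782 = n11308 := rfl
theorem F18974 : act 0 n11308 = n8786 := d3_1 D11308 (iv D8786) (iv F14579)
theorem F18975 : act 2 n11308 = n8784 := d10_1 D11308 (iv D8784) (iv F14580)
def n11309 : Q := act 4 n8783
theorem D11309 : act 4 n8783 = n11309 := rfl
theorem F18976 : act 0 n11309 = n8791 := d3_1 D11309 (iv D8791) (iv F14582)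
theorem F18977 : act 1 n11309 = n10744 := d7_1 D11309 (iv D10744) (iv F14583)
theorem F18978 : act 5 n11309 = n8784 := d14_2 D8783 D11309 (iv D8784) (iv D6730) D6729
def n11310 : Q := act 4 n8785
theorem D11310 : act 4 n8785 = n11310 := rfl
theorem F18979 : act 0 n11310 = n8818 := d3_1 D11310 (iv D8818) (iv F14587)
theorem F18980 : act 1 n11310 = n8788 := d7_1 D11310 (iv D8788) (iv F14588)
theorem F18981 : act 2 n11310 = n8812 := d10_1 D11310 (iv D8812) (iv F14589)
def n11311 : Q := act 3 n8786
theorem D11311 : act 3 n8786 = n11311 := rfl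
theorem F18982 : act 1 n11311 = n8789 := d6_1 D11311 (iv D8789) (iv F14591)
def n11312 : Q := act 5 n8786
theorem D11312 : act 5 n8786 = n11312 := rfl
theorem F18983 : act 1 n11312 = n8790 := d8_1 D11312 (iv D8790) (iv F14591)
theorem F18984 : act 2 n11312 = n8791 := d11_1 D11312 F14598 (iv F14592)
theorem F18985 : act 4 n11312 = n8790 := d14_1 D11312 (iv D8790) (iv D6733) F11140 D8786
def n11313 : Q := act 1 n8787
theorem D11313 : act 1 n8787 = n11313 := rfl
theorem F18986 : act 0 n11313 = n8854 := d0_1 D11313 F14705 F11225 (iv F11178) (iv F14593)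
theorem F18987 : act 2 n11313 = n8810 := d5_2 D8787 D11313 F14636 (iv F14589) F14588
theorem F18988 : act 3 n11313 = n8811 := d6_2 (iv F14594) D11313 F14638
theorem F18989 : act 5 n11313 = n8810 := d8_2 (iv F14595) D11313 F14636
def n11314 : Q := act 4 n8787
theorem D11314 : act 4 n8787 = n11314 := rfl
theorem F18990 : act 0 n11314 = n8820 := d3_1 D11314 (iv D8820) (iv F14593)
theorem F18991 : act 2 n11314 = n8788 := d10_1 D11314 (iv D8788) D8787
def n11315 : Q := act 3 n8788
theorem D11315 : act 3 n8788 = n11315 := rfl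
theorem F18992 : act 4 n11315 = n8789 := d12_2 D8788 D11315 (iv D8789) (iv D6733) D6732
def n11316 : Q := act 5 n8788
theorem D11316 : act 5 n8788 = n11316 := rfl
def n11317 : Q := act 2 n8789
theorem D11317 : act 2 n8789 = n11317 := rfl
def n11318 : Q := act 5 n8789
theorem D11318 : act 5 n8789 = n11318 := rfl
theorem F18993 : act 3 n11318 = n8790 := d13_1 D11318 (iv D8790) D8789
def n11319 : Q := act 3 n8793
theorem D11319 : act 3 n8793 = n11319 := rfl
theorem F18994 : act 0 n11319 = n8794 := d2_1 D11319 (iv D8794) (iv F14602)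
theorem F18995 : act 1 n11319 = n9404 := d6_1 D11319 (iv D9404) (iv F14603)
theorem F18996 : act 4 n11319 = n9088 := d12_2 D8793 D11319 (iv D9088) (iv D6977) (iv F11153)
def n11320 : Q := act 5 n8793
theorem D11320 : act 5 n8793 = n11320 := rfl
theorem F18997 : act 0 n11320 = n8795 := d4_1 D11320 (iv D8795) (iv F14602)
theorem F18998 : act 1 n11320 = n9405 := d8_1 D11320 (iv D9405) (iv F14603)
theorem F18999 : act 2 n11320 = n8799 := d11_1 D11320 (iv D8799) (iv F14604)
theorem F19000 : act 4 n11320 = n9068 := d14_1 D11320 (iv D9068) (iv D6959) (iv F11154) D8793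
def n11321 : Q := act 2 n8794
theorem D11321 : act 2 n8794 = n11321 := rfl
def n11322 : Q := act 5 n8794
theorem D11322 : act 5 n8794 = n11322 := rfl
theorem F19001 : act 1 n11322 = n8797 := d8_1 D11322 (iv D8797) (iv F14605)
theorem F19002 : act 3 n11322 = n8795 := d13_1 D11322 (iv D8795) D8794
def n11323 : Q := act 1 n8796
theorem D11323 : act 1 n8796 = n11323 := rfl
def n11324 : Q := act 3 n8796
theorem D11324 : act 3 n8796 = n11324 := rfl
def n11325 : Q := act 5 n8796
theorem D11325 : act 5 n8796 = n11325 := rfl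
theorem F19003 : act 2 n11325 = n8797 := d11_1 D11325 (iv D8797) D8796
def n11326 : Q := act 4 n8797
theorem D11326 : act 4 n8797 = n11326 := rfl
def n11327 : Q := act 2 n8798
theorem D11327 : act 2 n8798 = n11327 := rfl
theorem F19004 : act 0 n11327 = n8800 := d1_1 D11327 (iv D8800) (iv F14610)
theorem F19005 : act 4 n11327 = n9064 := d10_2 (iv F14611) D11327 (iv D9064)
def n11328 : Q := act 5 n8798
theorem D11328 : act 5 n8798 = n11328 := rfl
theorem F19006 : act 0 n11328 = n8801 := d4_1 D11328 (iv D8801) (iv F14610)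
theorem F19007 : act 3 n11328 = n8799 := d13_1 D11328 (iv D8799) D8798
theorem F19008 : act 4 n11328 = n10066 := d14_1 D11328 F16785 F12820 (iv F11530) (iv F14611)
def n11329 : Q := act 1 n8800
theorem D11329 : act 1 n8800 = n11329 := rfl
theorem F19009 : act 2 n11329 = n8802 := d5_2 D8800 D11329 (iv D8802) (iv D6746) (iv F11159)
theorem F19010 : act 4 n11329 = n9065 := d7_2 (iv F14614) D11329 (iv D9065)
def n11330 : Q := act 3 n8800
theorem D11330 : act 3 n8800 = n11330 := rfl
def n11331 : Q := act 5 n8800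
theorem D11331 : act 5 n8800 = n11331 := rfl
theorem F19011 : act 2 n11331 = n8801 := d11_1 D11331 (iv D8801) D8800
theorem F19012 : act 4 n11331 = n10085 := d14_1 D11331 F16806 F12837 (iv F11531) (iv F14614)
def n11332 : Q := act 0 n8802
theorem D11332 : act 0 n8802 = n11332 := rfl
theorem F19013 : act 4 n11332 = n9066 := d3_2 (iv F14618) D11332 (iv D9066)
def n11333 : Q := act 3 n8802
theorem D11333 : act 3 n8802 = n11333 := rfl
theorem F19014 : act 1 n11333 = n8803 := d6_1 D11333 (iv D8803) D8802
theorem F19015 : act 4 n11333 = n10093 := d12_2 (iv F14618) D11333 (iv D10093) (iv F14976) F14975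
theorem F19016 : act 5 n10758 = n11333 := d14_0 F19015 (iv F17560) F17559 (iv F13882) (iv F18030)
def n11334 : Q := act 5 n8802
theorem D11334 : act 5 n8802 = n11334 := rfl
theorem F19017 : act 1 n11334 = n8804 := d8_1 D11334 (iv D8804) D8802
theorem F19018 : act 3 n11334 = n10758 := d13_1 D11334 F19016 (iv D11333)
theorem F19019 : act 4 n11334 = n9057 := d14_1 D11334 (iv F15059) F12843 (iv F11532) (iv F14618)
def n11335 : Q := act 1 n8805
theorem D11335 : act 1 n8805 = n11335 := rfl
theorem F19020 : act 3 n11335 = n9044 := d6_2 (iv F14626) D11335 (iv D9044)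
theorem F19021 : act 5 n11335 = n8806 := d8_2 (iv F14627) D11335 (iv D8806)
def n11336 : Q := act 0 n8806
theorem D11336 : act 0 n8806 = n11336 := rfl
theorem F19022 : act 4 n11336 = n8808 := d3_2 (iv F14628) D11336 (iv D8808)
def n11337 : Q := act 3 n8806
theorem D11337 : act 3 n8806 = n11337 := rfl
theorem F19023 : act 1 n11337 = n8807 := d6_1 D11337 (iv D8807) D8806
theorem F19024 : act 4 n11337 = n9059 := d12_2 (iv F14628) D11337 (iv F17785) F17786 F13678
theorem F19025 : act 5 n11337 = n9044 := d13_2 F19021 D11337 (iv F19020)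
theorem F19026 : act 2 n9641 = n11337 := d11_3 F19025 F15039 (iv F16109)
def n11338 : Q := act 3 n8809
theorem D11338 : act 3 n8809 = n11338 := rfl
theorem F19027 : act 0 n11338 = n8810 := d2_1 D11338 (iv D8810) D8809
theorem F19028 : act 1 n11338 = n8814 := d6_1 D11338 (iv D8814) (iv F14633)
theorem F19029 : act 2 n11338 = n8854 := d9_1 D11338 (iv D8854) F11224 D8287 (iv F13957) F13958 (iv F14639) (iv F18988) F18987 (iv D8810) F11168 D6798 (iv F11241) F11237 (iv F14634)
theorem F19030 : act 5 n11338 = n8854 := d13_2 F14635 D11338 (iv D8854)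
def n11339 : Q := act 4 n8810
theorem D11339 : act 4 n8810 = n11339 := rfl
theorem F19031 : act 1 n11339 = n8812 := d7_1 D11339 (iv D8812) (iv F14636)
def n11340 : Q := act 4 n8811
theorem D11340 : act 4 n8811 = n11340 := rfl
theorem F19032 : act 0 n11340 = n8855 := d3_1 D11340 (iv D8855) (iv F14637)
theorem F19033 : act 1 n11340 = n8813 := d7_1 D11340 (iv D8813) (iv F14638)
theorem F19034 : act 2 n11340 = n8871 := d10_1 D11340 (iv D8871) (iv F14639)
def n11341 : Q := act 5 n8812
theorem D11341 : act 5 n8812 = n11341 := rfl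
theorem F19035 : act 0 n11341 = n8819 := d4_1 D11341 (iv D8819) (iv F14640)
def n11342 : Q := act 3 n8813
theorem D11342 : act 3 n8813 = n11342 := rfl
theorem F19036 : act 0 n11342 = n8821 := d2_1 D11342 (iv D8821) (iv F14641)
def n11343 : Q := act 4 n8814
theorem D11343 : act 4 n8814 = n11343 := rfl
theorem F19037 : act 0 n11343 = n8816 := d3_1 D11343 (iv D8816) (iv F14643)
theorem F19038 : act 2 n11343 = n8846 := d10_1 D11343 (iv D8846) (iv F14645)
def n11344 : Q := act 1 n8815
theorem D11344 : act 1 n8815 = n11344 := rfl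
theorem F19039 : act 0 n11344 = n8860 := d0_1 D11344 (iv D8860) (iv F14685) F14686 (iv F14646)
theorem F19040 : act 2 n11344 = n8817 := d5_2 D8815 D11344 (iv D8817) (iv D6757) (iv F11176)
theorem F19041 : act 3 n11344 = n8839 := d6_2 (iv F14648) D11344 (iv D8839)
theorem F19042 : act 5 n11344 = n8860 := d8_2 (iv F14647) D11344 (iv D8860)
def n11345 : Q := act 4 n8815
theorem D11345 : act 4 n8815 = n11345 := rfl
theorem F19043 : act 0 n11345 = n8846 := d3_1 D11345 (iv D8846) (iv F14646)
theorem F19044 : act 2 n11345 = n8816 := d10_1 D11345 (iv D8816) D8815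
def n11346 : Q := act 5 n8816
theorem D11346 : act 5 n8816 = n11346 := rfl
theorem F19045 : act 1 n11346 = n8819 := d8_1 D11346 (iv D8819) (iv F14649)
theorem F19046 : act 4 n11346 = n8863 := d14_1 D11346 (iv D8863) (iv D6793) (iv F11177) D8816
def n11347 : Q := act 4 n8817
theorem D11347 : act 4 n8817 = n11347 := rfl
theorem F19047 : act 1 n11347 = n8818 := d7_1 D11347 (iv D8818) D8817
def n11348 : Q := act 3 n8818
theorem D11348 : act 3 n8818 = n11348 := rfl
def n11349 : Q := act 5 n8818
theorem D11349 : act 5 n8818 = n11349 := rfl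
theorem F19048 : act 2 n11349 = n8819 := d11_1 D11349 (iv D8819) (iv F14650)
def n11350 : Q := act 4 n8819
theorem D11350 : act 4 n8819 = n11350 := rfl
theorem F19049 : act 1 n11350 = n8863 := d7_1 D11350 (iv F19046) F19045
theorem F19050 : act 5 n11350 = n8820 := d14_2 D8819 D11350 (iv D8820) (iv D6759) D6758
def n11351 : Q := act 3 n8820
theorem D11351 : act 3 n8820 = n11351 := rfl
theorem F19051 : act 1 n11351 = n8862 := d6_1 D11351 (iv D8862) (iv F14651)
theorem F19052 : act 4 n11351 = n8821 := d12_2 D8820 D11351 (iv D8821) (iv D6760) (iv F11179)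
def n11352 : Q := act 2 n8821
theorem D11352 : act 2 n8821 = n11352 := rfl
def n11353 : Q := act 1 n8822
theorem D11353 : act 1 n8822 = n11353 := rfl
theorem F19053 : act 2 n11353 = n8826 := d5_2 D8822 D11353 (iv D8826) (iv D6765) (iv F11183)
def n11354 : Q := act 3 n8822
theorem D11354 : act 3 n8822 = n11354 := rfl
theorem F19054 : act 0 n11354 = n11290 := d2_1 D11354 (iv D11290) (iv F14653)
def n11355 : Q := act 5 n8822
theorem D11355 : act 5 n8822 = n11355 := rfl
theorem F19055 : act 0 n11355 = n11291 := d4_1 D11355 (iv D11291) (iv F14653)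
theorem F19056 : act 2 n11355 = n8823 := d11_1 D11355 (iv D8823) D8822
def n11356 : Q := act 4 n8823
theorem D11356 : act 4 n8823 = n11356 := rfl
theorem F19057 : act 0 n11356 = n11292 := d3_1 D11356 (iv D11292) (iv F14654)
theorem F19058 : act 1 n11356 = n8827 := d7_1 D11356 (iv D8827) (iv F14655)
def n11357 : Q := act 1 n8824
theorem D11357 : act 1 n8824 = n11357 := rfl
theorem F19059 : act 4 n11357 = n8826 := d7_2 (iv F14658) D11357 (iv D8826)
def n11358 : Q := act 3 n8824
theorem D11358 : act 3 n8824 = n11358 := rfl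
theorem F19060 : act 0 n11358 = n8831 := d2_1 D11358 (iv D8831) (iv F14657)
def n11359 : Q := act 5 n8824
theorem D11359 : act 5 n8824 = n11359 := rfl
theorem F19061 : act 0 n11359 = n8832 := d4_1 D11359 (iv D8832) (iv F14657)
theorem F19062 : act 2 n11359 = n8825 := d11_1 D11359 (iv D8825) D8824
def n11360 : Q := act 4 n8825
theorem D11360 : act 4 n8825 = n11360 := rfl
theorem F19063 : act 0 n11360 = n8833 := d3_1 D11360 (iv D8833) (iv F14659)
theorem F19064 : act 5 n11360 = n8827 := d14_2 D8825 D11360 (iv D8827) (iv D6766) (iv F11188)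
def n11361 : Q := act 0 n8826
theorem D11361 : act 0 n8826 = n11361 := rfl
theorem F19065 : act 1 n11361 = n8834 := d0_2 D8826 D11361 (iv D8834) (iv D6771) (iv F11190)
def n11362 : Q := act 1 n8828
theorem D11362 : act 1 n8828 = n11362 := rfl
def n11363 : Q := act 3 n8828
theorem D11363 : act 3 n8828 = n11363 := rfl
def n11364 : Q := act 5 n8828
theorem D11364 : act 5 n8828 = n11364 := rfl
theorem F19066 : act 2 n11364 = n8829 := d11_1 D11364 (iv D8829) D8828
def n11365 : Q := act 4 n8829
theorem D11365 : act 4 n8829 = n11365 := rfl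
def n11366 : Q := act 0 n8830
theorem D11366 : act 0 n8830 = n11366 := rfl
theorem F19067 : act 2 n11366 = n11294 := d1_2 (iv F14663) D11366 (iv D11294)
theorem F19068 : act 4 n11366 = n8834 := d3_2 (iv F14664) D11366 (iv D8834)
def n11367 : Q := act 3 n8830
theorem D11367 : act 3 n8830 = n11367 := rfl
theorem F19069 : act 1 n11367 = n8831 := d6_1 D11367 (iv D8831) D8830
def n11368 : Q := act 5 n8830
theorem D11368 : act 5 n8830 = n11368 := rfl
theorem F19070 : act 1 n11368 = n8832 := d8_1 D11368 (iv D8832) D8830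
theorem F19071 : act 2 n11368 = n11296 := d11_1 D11368 (iv D11296) (iv F14663)
def n11369 : Q := act 2 n8831
theorem D11369 : act 2 n8831 = n11369 := rfl
def n11370 : Q := act 4 n8831
theorem D11370 : act 4 n8831 = n11370 := rfl
theorem F19072 : act 3 n11370 = n8837 := d12_1 D11370 (iv D8837) (iv D6772) (iv F11194) D8831
def n11371 : Q := act 5 n8831
theorem D11371 : act 5 n8831 = n11371 := rfl
theorem F19073 : act 3 n11371 = n8832 := d13_1 D11371 (iv D8832) D8831
def n11372 : Q := act 4 n8832
theorem D11372 : act 4 n8832 = n11372 := rfl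
theorem F19074 : act 2 n11372 = n8833 := d10_1 D11372 (iv D8833) (iv F14665)
theorem F19075 : act 5 n11372 = n8838 := d14_2 D8832 D11372 (iv D8838) (iv D6773) (iv F11194)
def n11373 : Q := act 3 n8834
theorem D11373 : act 3 n8834 = n11373 := rfl
theorem F19076 : act 0 n11373 = n8835 := d2_1 D11373 (iv D8835) D8834
def n11374 : Q := act 5 n8834
theorem D11374 : act 5 n8834 = n11374 := rfl
theorem F19077 : act 0 n11374 = n8836 := d4_1 D11374 (iv D8836) D8834
theorem F19078 : act 2 n11374 = n11298 := d11_1 D11374 (iv D11298) (iv F14668)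
def n11375 : Q := act 2 n8835
theorem D11375 : act 2 n8835 = n11375 := rfl
theorem F19079 : act 1 n11375 = n9850 := d5_1 D11375 F16472 (iv F14028) F14029 (iv F14669)
theorem F19080 : act 5 n11375 = n9848 := d11_2 F18240 D11375 (iv F18238)
def n11376 : Q := act 4 n8835
theorem D11376 : act 4 n8835 = n11376 := rfl
theorem F19081 : act 1 n11376 = n8837 := d7_1 D11376 (iv D8837) (iv F14669)
def n11377 : Q := act 4 n8836
theorem D11377 : act 4 n8836 = n11377 := rfl
theorem F19082 : act 1 n11377 = n8838 := d7_1 D11377 (iv D8838) (iv F14670)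
theorem F19083 : act 2 n11377 = n11301 := d10_1 D11377 (iv D11301) (iv F14671)
def n11378 : Q := act 5 n8837
theorem D11378 : act 5 n8837 = n11378 := rfl
def n11379 : Q := act 3 n8838
theorem D11379 : act 3 n8838 = n11379 := rfl
def n11380 : Q := act 0 n8839
theorem D11380 : act 0 n8839 = n11380 := rfl
theorem F19084 : act 1 n11380 = n8841 := d0_2 D8839 D11380 F14676 (iv D6778) (iv F11200)
theorem F19085 : act 2 n11380 = n10619 := d1_2 (iv F14673) D11380 (iv D10619)
theorem F19086 : act 3 n11380 = n8860 := d2_2 F19041 D11380 (iv F19039)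
theorem F19087 : act 5 n11380 = n8839 := d15_8 F19085 (iv F17760) (iv F17840) F17841 (iv F14573) D11303 (iv F18966) (iv F19086) D11380
def n11381 : Q := act 4 n8839
theorem D11381 : act 4 n8839 = n11381 := rfl
theorem F19088 : act 1 n11381 = n8840 := d7_1 D11381 (iv D8840) D8839
theorem F19089 : act 2 n11381 = n9691 := d10_1 D11381 F16176 (iv F14673)
def n11382 : Q := act 3 n8840
theorem D11382 : act 3 n8840 = n11382 := rfl
theorem F19090 : act 0 n11382 = n8847 := d2_1 D11382 (iv D8847) (iv F14674)
def n11383 : Q := act 5 n8840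
theorem D11383 : act 5 n8840 = n11383 := rfl
theorem F19091 : act 0 n11383 = n8848 := d4_1 D11383 (iv D8848) (iv F14674)
theorem F19092 : act 2 n11383 = n8842 := d11_1 D11383 (iv D8842) (iv F14675)
def n11384 : Q := act 4 n8841
theorem D11384 : act 4 n8841 = n11384 := rfl
theorem F19093 : act 0 n11384 = n8845 := d3_1 D11384 (iv D8845) (iv F14676)
theorem F19094 : act 2 n11384 = n8843 := d10_1 D11384 (iv D8843) (iv F14677)
def n11385 : Q := act 4 n8842
theorem D11385 : act 4 n8842 = n11385 := rfl
theorem F19095 : act 0 n11385 = n8849 := d3_1 D11385 (iv D8849) (iv F14679)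
theorem F19096 : act 1 n11385 = n9694 := d7_1 D11385 (iv D9694) (iv F14680)
theorem F19097 : act 3 n11385 = n10994 := d12_1 D11385 (iv D10994) F14181 (iv F12358) (iv F14681)
theorem F19098 : act 5 n11385 = n8843 := d14_2 D8842 D11385 (iv D8843) (iv D6777) D6776
def n11386 : Q := act 4 n8844
theorem D11386 : act 4 n8844 = n11386 := rfl
theorem F19099 : act 0 n11386 = n8861 := d3_1 D11386 (iv D8861) (iv F14685)
theorem F19100 : act 1 n11386 = n8846 := d7_1 D11386 (iv D8846) (iv F14686)
theorem F19101 : act 2 n11386 = n8856 := d10_1 D11386 (iv D8856) (iv F14687)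
def n11387 : Q := act 3 n8845
theorem D11387 : act 3 n8845 = n11387 := rfl
theorem F19102 : act 1 n11387 = n8847 := d6_1 D11387 (iv D8847) (iv F14689)
def n11388 : Q := act 5 n8845
theorem D11388 : act 5 n8845 = n11388 := rfl
theorem F19103 : act 1 n11388 = n8848 := d8_1 D11388 (iv D8848) (iv F14689)
theorem F19104 : act 2 n11388 = n8849 := d11_1 D11388 F14693 (iv F14690)
theorem F19105 : act 4 n11388 = n8848 := d14_1 D11388 (iv D8848) (iv D6780) F11208 D8845
def n11389 : Q := act 3 n8846
theorem D11389 : act 3 n8846 = n11389 := rfl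
theorem F19106 : act 4 n11389 = n8847 := d12_2 D8846 D11389 (iv D8847) (iv D6780) D6779
def n11390 : Q := act 5 n8846
theorem D11390 : act 5 n8846 = n11390 := rfl
def n11391 : Q := act 2 n8847
theorem D11391 : act 2 n8847 = n11391 := rfl
def n11392 : Q := act 5 n8847
theorem D11392 : act 5 n8847 = n11392 := rfl
theorem F19107 : act 3 n11392 = n8848 := d13_1 D11392 (iv D8848) D8847
def n11393 : Q := act 2 n8850
theorem D11393 : act 2 n8850 = n11393 := rfl
theorem F19108 : act 0 n11393 = n10998 := d1_1 D11393 F18469 (iv F14694)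
theorem F19109 : act 4 n11393 = n8851 := d10_2 (iv F14696) D11393 (iv D8851)
def n11394 : Q := act 1 n8851
theorem D11394 : act 1 n8851 = n11394 := rfl
theorem F19110 : act 2 n11394 = n8853 := d5_2 D8851 D11394 (iv D8853) (iv D6786) (iv F11214)
theorem F19111 : act 5 n11394 = n10616 := d8_2 (iv F14698) D11394 (iv D10616)
def n11395 : Q := act 3 n8851
theorem D11395 : act 3 n8851 = n11395 := rfl
theorem F19112 : act 0 n11395 = n10677 := d2_1 D11395 F17884 (iv F14697)
theorem F19113 : act 2 n11395 = n10674 := d9_1 D11395 (iv D10674) (iv D8283) (iv D6351) F7825 D4961 D6547 D8537 (iv F14718) (iv D8866) (iv D6796) (iv D5159) (iv F8442) D6783 D8851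
theorem F19114 : act 5 n11395 = n10617 := d13_2 (iv F14698) D11395 (iv D10617)
def n11396 : Q := act 1 n8852
theorem D11396 : act 1 n8852 = n11396 := rfl
theorem F19115 : act 3 n11396 = n10637 := d6_2 (iv F14700) D11396 F17801
theorem F19116 : act 4 n11396 = n8853 := d7_2 (iv F14701) D11396 (iv D8853)
theorem F19117 : act 5 n11396 = n10636 := d8_2 (iv F14702) D11396 F17799
def n11397 : Q := act 0 n8853
theorem D11397 : act 0 n8853 = n11397 := rfl
theorem F19118 : act 1 n11397 = n10631 := d0_2 D8853 D11397 (iv D10631) (iv D8246) (iv F11221)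
theorem F19119 : act 3 n11397 = n10647 := d2_2 (iv F14703) D11397 (iv D10647)
theorem F19120 : act 5 n11397 = n10618 := d4_2 (iv F14704) D11397 (iv D10618)
def n11398 : Q := act 4 n8854
theorem D11398 : act 4 n8854 = n11398 := rfl
theorem F19121 : act 1 n11398 = n8856 := d7_1 D11398 (iv D8856) (iv F14705)
def n11399 : Q := act 3 n8855
theorem D11399 : act 3 n8855 = n11399 := rfl
theorem F19122 : act 1 n11399 = n8857 := d6_1 D11399 (iv D8857) (iv F14706)
def n11400 : Q := act 5 n8855
theorem D11400 : act 5 n8855 = n11400 := rfl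
theorem F19123 : act 1 n11400 = n8858 := d8_1 D11400 (iv D8858) (iv F14706)
theorem F19124 : act 2 n11400 = n10681 := d11_1 D11400 (iv D10681) (iv F14707)
def n11401 : Q := act 3 n8856
theorem D11401 : act 3 n8856 = n11401 := rfl
theorem F19125 : act 0 n11401 = n8862 := d2_1 D11401 (iv D8862) (iv F14708)
theorem F19126 : act 4 n11401 = n8857 := d12_2 D8856 D11401 (iv D8857) (iv D6789) D6788
def n11402 : Q := act 5 n8856
theorem D11402 : act 5 n8856 = n11402 := rfl
theorem F19127 : act 0 n11402 = n8863 := d4_1 D11402 (iv D8863) (iv F14708)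
def n11403 : Q := act 1 n8859
theorem D11403 : act 1 n8859 = n11403 := rfl
theorem F19128 : act 2 n11403 = n10686 := d5_2 D8859 D11403 (iv D10686) (iv D8292) (iv F11232)
theorem F19129 : act 5 n11403 = n10673 := d8_2 (iv F14713) D11403 (iv D10673)
def n11404 : Q := act 3 n8859
theorem D11404 : act 3 n8859 = n11404 := rfl
theorem F19130 : act 0 n11404 = n8866 := d2_1 D11404 (iv D8866) (iv F14712)
theorem F19131 : act 2 n11404 = n10617 := d9_1 D11404 (iv D10617) (iv D8231) (iv D6308) F7745 D4802 D6352 D8285 D10677 F17884 F14183 F10840 (iv F8456) D6791 D8859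
theorem F19132 : act 5 n11404 = n10674 := d13_2 (iv F14713) D11404 (iv D10674)
def n11405 : Q := act 4 n8860
theorem D11405 : act 4 n8860 = n11405 := rfl
theorem F19133 : act 1 n11405 = n8861 := d7_1 D11405 (iv D8861) D8860
def n11406 : Q := act 3 n8861
theorem D11406 : act 3 n8861 = n11406 := rfl
def n11407 : Q := act 5 n8861
theorem D11407 : act 5 n8861 = n11407 := rfl
theorem F19134 : act 2 n11407 = n8863 := d11_1 D11407 (iv D8863) (iv F14714)
def n11408 : Q := act 2 n8862
theorem D11408 : act 2 n8862 = n11408 := rfl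
theorem F19135 : act 4 n11408 = n8864 := d10_2 (iv F14715) D11408 (iv D8864)
def n11409 : Q := act 5 n8862
theorem D11409 : act 5 n8862 = n11409 := rfl
theorem F19136 : act 3 n11409 = n8863 := d13_1 D11409 (iv D8863) D8862
def n11410 : Q := act 1 n8864
theorem D11410 : act 1 n8864 = n11410 := rfl
def n11411 : Q := act 4 n8865
theorem D11411 : act 4 n8865 = n11411 := rfl
def n11412 : Q := act 4 n8866
theorem D11412 : act 4 n8866 = n11412 := rfl
theorem F19137 : act 2 n11412 = n10997 := d10_1 D11412 (iv D10997) (iv F14718)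
def n11413 : Q := act 3 n8867
theorem D11413 : act 3 n8867 = n11413 := rfl
theorem F19138 : act 0 n11413 = n8869 := d2_1 D11413 (iv D8869) (iv F14719)
theorem F19139 : act 1 n11413 = n8880 := d6_1 D11413 (iv D8880) (iv F14720)
theorem F19140 : act 4 n11413 = n10793 := d12_2 D8867 D11413 (iv D10793) (iv D8379) F11237
def n11414 : Q := act 5 n8867
theorem D11414 : act 5 n8867 = n11414 := rfl
theorem F19141 : act 0 n11414 = n8870 := d4_1 D11414 (iv D8870) (iv F14719)
theorem F19142 : act 1 n11414 = n8881 := d8_1 D11414 (iv D8881) (iv F14720)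
theorem F19143 : act 4 n11414 = n10681 := d14_1 D11414 (iv D10681) (iv D8288) F11238 D8867
def n11415 : Q := act 3 n8868
theorem D11415 : act 3 n8868 = n11415 := rfl
theorem F19144 : act 0 n11415 = n10793 := d2_1 D11415 (iv D10793) (iv F14721)
theorem F19145 : act 1 n11415 = n8872 := d6_1 D11415 (iv D8872) (iv F14722)
theorem F19146 : act 4 n11415 = n8869 := d12_2 D8868 D11415 (iv D8869) (iv D6799) D6798
def n11416 : Q := act 5 n8868
theorem D11416 : act 5 n8868 = n11416 := rfl
theorem F19147 : act 0 n11416 = n10794 := d4_1 D11416 (iv D10794) (iv F14721)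
theorem F19148 : act 1 n11416 = n8873 := d8_1 D11416 (iv D8873) (iv F14722)
theorem F19149 : act 2 n11416 = n10794 := d11_1 D11416 (iv D10794) (iv F14723)
def n11417 : Q := act 2 n8869
theorem D11417 : act 2 n8869 = n11417 := rfl
def n11418 : Q := act 5 n8869
theorem D11418 : act 5 n8869 = n11418 := rfl
theorem F19150 : act 1 n11418 = n8875 := d8_1 D11418 (iv D8875) (iv F14724)
theorem F19151 : act 3 n11418 = n8870 := d13_1 D11418 (iv D8870) D8869
def n11419 : Q := act 4 n8870
theorem D11419 : act 4 n8870 = n11419 := rfl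
theorem F19152 : act 0 n11419 = n10681 := d3_1 D11419 (iv F19143) F19141
theorem F19153 : act 1 n11419 = n8876 := d7_1 D11419 (iv D8876) (iv F14725)
theorem F19154 : act 5 n11419 = n8871 := d14_2 D8870 D11419 (iv D8871) (iv D6800) D6799
def n11420 : Q := act 3 n8871
theorem D11420 : act 3 n8871 = n11420 := rfl
theorem F19155 : act 0 n11420 = n10680 := d2_1 D11420 (iv D10680) (iv F14726)
theorem F19156 : act 1 n11420 = n8877 := d6_1 D11420 (iv D8877) (iv F14727)
def n11421 : Q := act 2 n8872
theorem D11421 : act 2 n8872 = n11421 := rfl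
theorem F19157 : act 0 n11421 = n8889 := d1_1 D11421 (iv D8889) (iv F14728)
theorem F19158 : act 4 n11421 = n8874 := d10_2 (iv F14729) D11421 (iv D8874)
def n11422 : Q := act 5 n8872
theorem D11422 : act 5 n8872 = n11422 := rfl
theorem F19159 : act 0 n11422 = n8890 := d4_1 D11422 (iv D8890) (iv F14728)
theorem F19160 : act 3 n11422 = n8873 := d13_1 D11422 (iv D8873) D8872
def n11423 : Q := act 1 n8874
theorem D11423 : act 1 n8874 = n11423 := rfl
theorem F19161 : act 3 n11423 = n8926 := d6_2 (iv F14733) D11423 F14813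
theorem F19162 : act 5 n11423 = n8925 := d8_2 F14734 D11423 F14812
def n11424 : Q := act 4 n8875
theorem D11424 : act 4 n8875 = n11424 := rfl
theorem F19163 : act 0 n11424 = n8896 := d3_1 D11424 (iv D8896) (iv F14735)
theorem F19164 : act 2 n11424 = n8927 := d10_1 D11424 (iv D8927) (iv F14736)
def n11425 : Q := act 3 n8876
theorem D11425 : act 3 n8876 = n11425 := rfl
theorem F19165 : act 0 n11425 = n8897 := d2_1 D11425 (iv D8897) (iv F14738)
theorem F19166 : act 5 n11425 = n8877 := d13_2 (iv F14740) D11425 (iv D8877)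
def n11426 : Q := act 2 n8877
theorem D11426 : act 2 n8877 = n11426 := rfl
theorem F19167 : act 0 n11426 = n8898 := d1_1 D11426 (iv D8898) (iv F14741)
def n11427 : Q := act 1 n8878
theorem D11427 : act 1 n8878 = n11427 := rfl
theorem F19168 : act 4 n11427 = n8879 := d7_2 (iv F14743) D11427 (iv D8879)
def n11428 : Q := act 3 n8878
theorem D11428 : act 3 n8878 = n11428 := rfl
theorem F19169 : act 0 n11428 = n8899 := d2_1 D11428 (iv D8899) (iv F14742)
def n11429 : Q := act 0 n8879
theorem D11429 : act 0 n8879 = n11429 := rfl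
theorem F19170 : act 1 n11429 = n8900 := d0_2 D8879 D11429 (iv D8900) (iv D6822) (iv F11256)
theorem F19171 : act 5 n11429 = n8913 := d4_2 (iv F14744) D11429 (iv D8913)
def n11430 : Q := act 2 n8880
theorem D11430 : act 2 n8880 = n11430 := rfl
theorem F19172 : act 0 n11430 = n8884 := d1_1 D11430 (iv D8884) (iv F14745)
theorem F19173 : act 4 n11430 = n10795 := d10_2 (iv F14746) D11430 (iv D10795)
def n11431 : Q := act 5 n8880
theorem D11431 : act 5 n8880 = n11431 := rfl
theorem F19174 : act 0 n11431 = n8885 := d4_1 D11431 (iv D8885) (iv F14745)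
theorem F19175 : act 3 n11431 = n8881 := d13_1 D11431 (iv D8881) D8880
def n11432 : Q := act 2 n8882
theorem D11432 : act 2 n8882 = n11432 := rfl
theorem F19176 : act 0 n11432 = n10795 := d1_1 D11432 (iv D10795) (iv F14750)
theorem F19177 : act 3 n11432 = n8883 := d9_2 D8882 D11432 F14755 (iv F18083) F18082 F13923 (iv F13922) (iv F18095) (iv D10795) (iv D8380) F10615 D6428 F13908 (iv D8370) (iv F11262)
theorem F19178 : act 4 n11432 = n8884 := d10_2 (iv F14752) D11432 (iv D8884)
theorem F19179 : act 1 n8890 = n11432 := d6_3 F19177 F14754 (iv F14767)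
theorem F19180 : act 5 n8882 = n11432 := d13_0 F19177 (iv D8883) D8882
def n11433 : Q := act 1 n8884
theorem D11433 : act 1 n8884 = n11433 := rfl
theorem F19181 : act 2 n11433 = n8893 := d5_2 D8884 D11433 (iv D8893) (iv D6817) (iv F11263)
theorem F19182 : act 4 n11433 = n8890 := d7_2 F19178 D11433 F19179
theorem F19183 : act 5 n8896 = n11433 := d14_0 F19182 (iv D8890) F11272 D6818 D8896
def n11434 : Q := act 3 n8884
theorem D11434 : act 3 n8884 = n11434 := rfl
theorem F19184 : act 4 n11434 = n10691 := d12_2 F19178 D11434 F17909 (iv F14756) (iv F19177)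
theorem F19185 : act 5 n10695 = n11434 := d14_0 F19184 (iv D10691) F13776 D8298 D10695
def n11435 : Q := act 5 n8884
theorem D11435 : act 5 n8884 = n11435 := rfl
theorem F19186 : act 1 n11435 = n8896 := d8_1 D11435 F19183 (iv D11433)
theorem F19187 : act 2 n11435 = n8885 := d11_1 D11435 (iv D8885) D8884
theorem F19188 : act 3 n11435 = n10695 := d13_1 D11435 F19185 (iv D11434)
theorem F19189 : act 4 n11435 = n8885 := d14_1 D11435 (iv D8885) (iv F14752) F19180 F19178
def n11436 : Q := act 3 n8886
theorem D11436 : act 3 n8886 = n11436 := rfl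
theorem F19190 : act 0 n11436 = n10781 := d2_1 D11436 (iv D10781) (iv F14759)
theorem F19191 : act 1 n11436 = n8887 := d6_1 D11436 (iv D8887) (iv F14760)
theorem F19192 : act 4 n11436 = n10780 := d12_2 D8886 D11436 (iv D10780) (iv D8365) (iv F11269)
def n11437 : Q := act 5 n8886
theorem D11437 : act 5 n8886 = n11437 := rfl
theorem F19193 : act 0 n11437 = n10782 := d4_1 D11437 (iv D10782) (iv F14759)
theorem F19194 : act 1 n11437 = n8888 := d8_1 D11437 (iv D8888) (iv F14760)
theorem F19195 : act 2 n11437 = n10782 := d11_1 D11437 (iv D10782) (iv F14761)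
def n11438 : Q := act 2 n8887
theorem D11438 : act 2 n8887 = n11438 := rfl
theorem F19196 : act 0 n11438 = n10791 := d1_1 D11438 (iv D10791) (iv F14762)
theorem F19197 : act 4 n11438 = n9594 := d10_2 (iv F14763) D11438 F16043
def n11439 : Q := act 5 n8887
theorem D11439 : act 5 n8887 = n11439 := rfl
theorem F19198 : act 0 n11439 = n10792 := d4_1 D11439 (iv D10792) (iv F14762)
theorem F19199 : act 3 n11439 = n8888 := d13_1 D11439 (iv D8888) D8887
def n11440 : Q := act 1 n8889
theorem D11440 : act 1 n8889 = n11440 := rfl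
theorem F19200 : act 2 n11440 = n8890 := d5_2 D8889 D11440 F19179 (iv D11432) F14751
theorem F19201 : act 4 n11440 = n8893 := d7_2 (iv F14766) D11440 (iv D8893)
theorem F19202 : act 5 n8889 = n11440 := d11_0 F19200 (iv D8890) D8889
def n11441 : Q := act 3 n8889
theorem D11441 : act 3 n8889 = n11441 := rfl
def n11442 : Q := act 3 n8891
theorem D11442 : act 3 n8891 = n11442 := rfl
theorem F19203 : act 1 n11442 = n10691 := d6_1 D11442 F17909 (iv F14768)
theorem F19204 : act 5 n11442 = n8892 := d13_2 (iv F14769) D11442 (iv D8892)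
def n11443 : Q := act 2 n8892
theorem D11443 : act 2 n8892 = n11443 := rfl
theorem F19205 : act 4 n11443 = n8898 := d10_2 (iv F14771) D11443 (iv D8898)
def n11444 : Q := act 0 n8893
theorem D11444 : act 0 n8893 = n11444 := rfl
def n11445 : Q := act 3 n8893
theorem D11445 : act 3 n8893 = n11445 := rfl
theorem F19206 : act 1 n11445 = n8894 := d6_1 D11445 (iv D8894) D8893
theorem F19207 : act 5 n8911 = n11445 := d8_0 F19206 F14774 D8911
def n11446 : Q := act 5 n8893
theorem D11446 : act 5 n8893 = n11446 := rfl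
theorem F19208 : act 1 n11446 = n8895 := d8_1 D11446 (iv D8895) D8893
theorem F19209 : act 2 n11446 = n8896 := d11_1 D11446 F19183 F19181
theorem F19210 : act 3 n11446 = n8911 := d13_1 D11446 F19207 (iv D11445)
theorem F19211 : act 4 n11446 = n8895 := d14_1 D11446 (iv D8895) (iv F14766) F19202 F19201
theorem F19212 : act 0 n8927 = n11446 := d3_3 F19211 F14775 D8927
theorem F19213 : act 5 n11444 = n8927 := d4_0 F19212 (iv D11446) D11444
def n11447 : Q := act 4 n8894
theorem D11447 : act 4 n8894 = n11447 := rfl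
theorem F19214 : act 0 n11447 = n8928 := d3_1 D11447 (iv D8928) (iv F14772)
theorem F19215 : act 2 n11447 = n8912 := d10_1 D11447 (iv D8912) (iv F14773)
def n11448 : Q := act 3 n8896
theorem D11448 : act 3 n8896 = n11448 := rfl
theorem F19216 : act 1 n11448 = n10695 := d6_1 D11448 (iv F19188) F19186
theorem F19217 : act 4 n11448 = n8897 := d12_2 D8896 D11448 (iv D8897) (iv D6819) (iv F11274)
def n11449 : Q := act 2 n8897
theorem D11449 : act 2 n8897 = n11449 := rfl
theorem F19218 : act 5 n11449 = n8898 := d11_2 (iv F14779) D11449 (iv D8898)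
def n11450 : Q := act 1 n8898
theorem D11450 : act 1 n8898 = n11450 := rfl
theorem F19219 : act 2 n11450 = n10692 := d5_2 D8898 D11450 (iv D10692) (iv D8297) (iv F11278)
def n11451 : Q := act 3 n8898
theorem D11451 : act 3 n8898 = n11451 := rfl
def n11452 : Q := act 2 n8899
theorem D11452 : act 2 n8899 = n11452 := rfl
def n11453 : Q := act 4 n8899
theorem D11453 : act 4 n8899 = n11453 := rfl
theorem F19220 : act 3 n11453 = n8902 := d12_1 D11453 (iv D8902) (iv D6823) (iv F11279) D8899
def n11454 : Q := act 3 n8900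
theorem D11454 : act 3 n8900 = n11454 := rfl
theorem F19221 : act 0 n11454 = n8901 := d2_1 D11454 (iv D8901) D8900
theorem F19222 : act 5 n11454 = n8929 := d13_2 (iv F14781) D11454 (iv D8929)
def n11455 : Q := act 2 n8901
theorem D11455 : act 2 n8901 = n11455 := rfl
theorem F19223 : act 5 n11455 = n8930 := d11_2 (iv F14783) D11455 (iv D8930)
def n11456 : Q := act 4 n8901
theorem D11456 : act 4 n8901 = n11456 := rfl
theorem F19224 : act 1 n11456 = n8902 := d7_1 D11456 (iv D8902) (iv F14782)
def n11457 : Q := act 5 n8902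
theorem D11457 : act 5 n8902 = n11457 := rfl
theorem F19225 : act 4 n11457 = n8934 := d14_1 D11457 (iv D8934) (iv D6849) (iv F11282) D8902
def n11458 : Q := act 1 n8903
theorem D11458 : act 1 n8903 = n11458 := rfl
theorem F19226 : act 4 n11458 = n10686 := d7_2 (iv F14785) D11458 (iv D10686)
def n11459 : Q := act 3 n8903
theorem D11459 : act 3 n8903 = n11459 := rfl
theorem F19227 : act 0 n11459 = n8904 := d2_1 D11459 (iv D8904) (iv F14784)
theorem F19228 : act 4 n11459 = n10694 := d12_2 (iv F14785) D11459 F17915 F13795 (iv F13771)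
theorem F19229 : act 2 n11459 = n10695 := d15_2 D8903 D11459 (iv F19188) F19187 F14758 F11265 (iv F11001) F11003 (iv F11283)
def n11460 : Q := act 2 n8904
theorem D11460 : act 2 n8904 = n11460 := rfl
theorem F19230 : act 0 n11460 = n10695 := d1_1 D11460 (iv F19229) F19227
theorem F19231 : act 4 n11460 = n10685 := d10_2 (iv F14786) D11460 F17898
def n11461 : Q := act 2 n8905
theorem D11461 : act 2 n8905 = n11461 := rfl
theorem F19232 : act 4 n11461 = n8907 := d10_2 (iv F14788) D11461 (iv D8907)
def n11462 : Q := act 5 n8905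
theorem D11462 : act 5 n8905 = n11462 := rfl
theorem F19233 : act 1 n11462 = n8910 := d8_1 D11462 (iv D8910) (iv F14787)
theorem F19234 : act 3 n11462 = n8906 := d13_1 D11462 (iv D8906) D8905
def n11463 : Q := act 1 n8907
theorem D11463 : act 1 n8907 = n11463 := rfl
theorem F19235 : act 2 n11463 = n8911 := d5_2 D8907 D11463 (iv D8911) (iv D6833) (iv F11290)
def n11464 : Q := act 3 n8907
theorem D11464 : act 3 n8907 = n11464 := rfl
theorem F19236 : act 2 n11464 = n11216 := d15_2 D8907 D11464 (iv D11216) (iv D8708) (iv D6675) (iv F11014) D8695 F14403 F14293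
def n11465 : Q := act 5 n8907
theorem D11465 : act 5 n8907 = n11465 := rfl
theorem F19237 : act 0 n11465 = n11200 := d4_1 D11465 F18771 F18623
theorem F19238 : act 2 n11465 = n8908 := d11_1 D11465 (iv D8908) D8907
def n11466 : Q := act 4 n8908
theorem D11466 : act 4 n8908 = n11466 := rfl
theorem F19239 : act 0 n11466 = n11199 := d3_1 D11466 F18770 (iv F14790)
theorem F19240 : act 1 n11466 = n8912 := d7_1 D11466 (iv D8912) (iv F14791)
theorem F19241 : act 3 n11466 = n11192 := d12_1 D11466 (iv D11192) F14395 (iv F11294) (iv F14792)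
def n11467 : Q := act 1 n8909
theorem D11467 : act 1 n8909 = n11467 := rfl
theorem F19242 : act 4 n11467 = n8911 := d7_2 (iv F14794) D11467 (iv D8911)
theorem F19243 : act 3 n8909 = n11467 := d12_5 F19242 (iv F19210) F19211 F14777 (iv F14794)
theorem F19244 : act 0 n11467 = n8921 := d2_1 F19243 (iv D8921) (iv F14793)
def n11468 : Q := act 5 n8909
theorem D11468 : act 5 n8909 = n11468 := rfl
theorem F19245 : act 0 n11468 = n8922 := d4_1 D11468 (iv D8922) (iv F14793)
theorem F19246 : act 2 n11468 = n8910 := d11_1 D11468 (iv D8910) D8909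
def n11469 : Q := act 4 n8910
theorem D11469 : act 4 n8910 = n11469 := rfl
theorem F19247 : act 0 n11469 = n8923 := d3_1 D11469 (iv D8923) (iv F14795)
theorem F19248 : act 5 n11469 = n8912 := d14_2 D8910 D11469 (iv D8912) (iv D6834) (iv F11296)
def n11470 : Q := act 0 n8911
theorem D11470 : act 0 n8911 = n11470 := rfl
theorem F19249 : act 1 n11470 = n8924 := d0_2 D8911 D11470 (iv D8924) (iv D6842) (iv F11298)
theorem F19250 : act 3 n11470 = n8927 := d2_2 F19210 D11470 F19212
theorem F19251 : act 4 n11470 = n8921 := d3_2 F19242 D11470 (iv F19244)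
def n11471 : Q := act 3 n8913
theorem D11471 : act 3 n8913 = n11471 := rfl
theorem F19252 : act 0 n11471 = n8914 := d2_1 D11471 (iv D8914) D8913
theorem F19253 : act 1 n11471 = n8929 := d6_1 D11471 (iv D8929) (iv F14798)
def n11472 : Q := act 4 n8914
theorem D11472 : act 4 n8914 = n11472 := rfl
theorem F19254 : act 1 n11472 = n8915 := d7_1 D11472 (iv D8915) (iv F14799)
def n11473 : Q := act 5 n8915
theorem D11473 : act 5 n8915 = n11473 := rfl
theorem F19255 : act 0 n11473 = n8934 := d4_1 D11473 (iv D8934) (iv F14800)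
def n11474 : Q := act 2 n8916
theorem D11474 : act 2 n8916 = n11474 := rfl
theorem F19256 : act 0 n11474 = n11088 := d1_1 D11474 F18583 (iv F14801)
theorem F19257 : act 4 n11474 = n11086 := d10_2 (iv F14803) D11474 (iv D11086)
def n11475 : Q := act 5 n8916
theorem D11475 : act 5 n8916 = n11475 := rfl
theorem F19258 : act 0 n11475 = n11089 := d4_1 D11475 (iv D11089) (iv F14801)
theorem F19259 : act 1 n11475 = n8919 := d8_1 D11475 (iv D8919) (iv F14802)
theorem F19260 : act 3 n11475 = n8917 := d13_1 D11475 (iv D8917) D8916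
def n11476 : Q := act 1 n8918
theorem D11476 : act 1 n8918 = n11476 := rfl
theorem F19261 : act 4 n11476 = n11091 := d7_2 (iv F14806) D11476 (iv D11091)
def n11477 : Q := act 3 n8918
theorem D11477 : act 3 n8918 = n11477 := rfl
theorem F19262 : act 0 n11477 = n11099 := d2_1 D11477 (iv D11099) (iv F14805)
def n11478 : Q := act 5 n8918
theorem D11478 : act 5 n8918 = n11478 := rfl
theorem F19263 : act 0 n11478 = n11100 := d4_1 D11478 (iv D11100) (iv F14805)
theorem F19264 : act 2 n11478 = n8919 := d11_1 D11478 (iv D8919) D8918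
def n11479 : Q := act 4 n8919
theorem D11479 : act 4 n8919 = n11479 := rfl
theorem F19265 : act 0 n11479 = n11102 := d3_1 D11479 (iv D11102) (iv F14807)
theorem F19266 : act 5 n11479 = n11093 := d14_2 D8919 D11479 (iv D11093) (iv D8613) (iv F11304)
def n11480 : Q := act 0 n8920
theorem D11480 : act 0 n8920 = n11480 := rfl
theorem F19267 : act 1 n11480 = n8921 := d0_2 D8920 D11480 (iv F19244) (iv D11467) F14793
theorem F19268 : act 4 n11480 = n8924 := d3_2 (iv F14809) D11480 (iv D8924)
theorem F19269 : act 3 n8920 = n11480 := d6_0 F19267 (iv D8921) D8920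
def n11481 : Q := act 5 n8920
theorem D11481 : act 5 n8920 = n11481 := rfl
theorem F19270 : act 1 n11481 = n8922 := d8_1 D11481 (iv D8922) D8920
def n11482 : Q := act 2 n8921
theorem D11482 : act 2 n8921 = n11482 := rfl
theorem F19271 : act 3 n11482 = n11100 := d15_3 D6840 D8921 D11482 F18601 F14277 F13742 (iv F14796) (iv D8910) F11295
theorem F19272 : act 5 n11099 = n11482 := d13_0 F19271 (iv D11100) D11099
def n11483 : Q := act 5 n8921
theorem D11483 : act 5 n8921 = n11483 := rfl
theorem F19273 : act 2 n11483 = n11099 := d11_1 D11483 F19272 (iv D11482)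
theorem F19274 : act 3 n11483 = n8922 := d13_1 D11483 (iv D8922) D8921
def n11484 : Q := act 4 n8922
theorem D11484 : act 4 n8922 = n11484 := rfl
theorem F19275 : act 2 n11484 = n8923 := d10_1 D11484 (iv D8923) (iv F14810)
theorem F19276 : act 5 n11484 = n8928 := d14_2 D8922 D11484 (iv D8928) (iv D6844) (iv F11306)
def n11485 : Q := act 3 n8924
theorem D11485 : act 3 n8924 = n11485 := rfl
theorem F19277 : act 0 n11485 = n8925 := d2_1 D11485 (iv D8925) D8924
theorem F19278 : act 1 n11485 = n8927 := d6_1 D11485 (iv F19250) F19249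
theorem F19279 : act 4 n11485 = n8925 := d12_2 F19268 D11485 (iv D8925) (iv F14809) F19269
def n11486 : Q := act 5 n8924
theorem D11486 : act 5 n8924 = n11486 := rfl
theorem F19280 : act 0 n11486 = n8926 := d4_1 D11486 (iv D8926) D8924
def n11487 : Q := act 2 n8925
theorem D11487 : act 2 n8925 = n11487 := rfl
def n11488 : Q := act 4 n8926
theorem D11488 : act 4 n8926 = n11488 := rfl
theorem F19281 : act 1 n11488 = n8928 := d7_1 D11488 (iv D8928) (iv F14813)
def n11489 : Q := act 3 n8928
theorem D11489 : act 3 n8928 = n11489 := rfl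
def n11490 : Q := act 2 n8929
theorem D11490 : act 2 n8929 = n11490 := rfl
theorem F19282 : act 0 n11490 = n8930 := d1_1 D11490 (iv D8930) (iv F14815)
def n11491 : Q := act 4 n8929
theorem D11491 : act 4 n8929 = n11491 := rfl
theorem F19283 : act 0 n11491 = n8931 := d3_1 D11491 (iv D8931) (iv F14815)
def n11492 : Q := act 1 n8930
theorem D11492 : act 1 n8930 = n11492 := rfl
theorem F19284 : act 2 n11492 = n8932 := d5_2 D8930 D11492 (iv D8932) (iv D6848) (iv F11310)
def n11493 : Q := act 3 n8930
theorem D11493 : act 3 n8930 = n11493 := rfl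
def n11494 : Q := act 4 n8930
theorem D11494 : act 4 n8930 = n11494 := rfl
theorem F19285 : act 2 n11494 = n8931 := d10_1 D11494 (iv D8931) D8930
def n11495 : Q := act 5 n8931
theorem D11495 : act 5 n8931 = n11495 := rfl
theorem F19286 : act 1 n11495 = n8934 := d8_1 D11495 (iv D8934) (iv F14816)
def n11496 : Q := act 4 n8932
theorem D11496 : act 4 n8932 = n11496 := rfl
theorem F19287 : act 0 n11496 = n9664 := d3_1 D11496 (iv F18453) F18451
theorem F19288 : act 1 n11496 = n8933 := d7_1 D11496 (iv D8933) D8932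
theorem F19289 : act 3 n11496 = n9663 := d12_1 D11496 (iv D9663) (iv F15551) (iv F18114) F18113
def n11497 : Q := act 3 n8933
theorem D11497 : act 3 n8933 = n11497 := rfl
theorem F19290 : act 0 n11497 = n9311 := d2_1 D11497 (iv F18119) F18116
theorem F19291 : act 1 n11497 = n9663 := d6_1 D11497 (iv F19289) F19288
theorem F19292 : act 4 n11497 = n9309 := d12_2 D8933 D11497 (iv D9309) (iv F13936) F13938
def n11498 : Q := act 5 n8933
theorem D11498 : act 5 n8933 = n11498 := rfl
theorem F19293 : act 2 n11498 = n8934 := d11_1 D11498 (iv D8934) (iv F14817)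
def n11499 : Q := act 1 n8935
theorem D11499 : act 1 n8935 = n11499 := rfl
theorem F19294 : act 0 n11499 = n11403 := d0_1 D11499 (iv D11403) F14712 (iv F11312) (iv F14818)
def n11500 : Q := act 3 n8935
theorem D11500 : act 3 n8935 = n11500 := rfl
theorem F19295 : act 0 n11500 = n8936 := d2_1 D11500 (iv D8936) (iv F14818)
def n11501 : Q := act 2 n8936
theorem D11501 : act 2 n8936 = n11501 := rfl
def n11502 : Q := act 4 n8936
theorem D11502 : act 4 n8936 = n11502 := rfl
theorem F19296 : act 1 n11502 = n11412 := d7_1 D11502 (iv D11412) (iv F14819)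
def n11503 : Q := act 1 n8937
theorem D11503 : act 1 n8937 = n11503 := rfl
theorem F19297 : act 2 n11503 = n8946 := d5_2 D8937 D11503 (iv D8946) (iv D6860) (iv F11314)
theorem F19298 : act 4 n11503 = n10590 := d7_2 (iv F14821) D11503 (iv D10590)
def n11504 : Q := act 3 n8937
theorem D11504 : act 3 n8937 = n11504 := rfl
theorem F19299 : act 0 n11504 = n8940 := d2_1 D11504 (iv D8940) (iv F14820)
def n11505 : Q := act 5 n8937
theorem D11505 : act 5 n8937 = n11505 := rfl
theorem F19300 : act 0 n11505 = n8941 := d4_1 D11505 (iv D8941) (iv F14820)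
theorem F19301 : act 2 n11505 = n8938 := d11_1 D11505 (iv D8938) D8937
def n11506 : Q := act 4 n8938
theorem D11506 : act 4 n8938 = n11506 := rfl
theorem F19302 : act 0 n11506 = n8942 := d3_1 D11506 (iv D8942) (iv F14822)
theorem F19303 : act 1 n11506 = n8949 := d7_1 D11506 (iv D8949) (iv F14823)
theorem F19304 : act 3 n11506 = n11356 := d12_1 D11506 (iv D11356) F14656 (iv F11319) (iv F14824)
theorem F19305 : act 5 n11506 = n10593 := d14_2 D8938 D11506 (iv D10593) (iv D8211) (iv F11315)
def n11507 : Q := act 0 n8939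
theorem D11507 : act 0 n8939 = n11507 := rfl
theorem F19306 : act 2 n11507 = n8943 := d1_2 (iv F14825) D11507 (iv D8943)
theorem F19307 : act 4 n11507 = n10594 := d3_2 (iv F14826) D11507 (iv D10594)
def n11508 : Q := act 3 n8939
theorem D11508 : act 3 n8939 = n11508 := rfl
theorem F19308 : act 1 n11508 = n8940 := d6_1 D11508 (iv D8940) D8939
def n11509 : Q := act 2 n8940
theorem D11509 : act 2 n8940 = n11509 := rfl
theorem F19309 : act 3 n11509 = n11291 := d15_3 D6854 D8940 D11509 F18931 F14542 (iv F11318) (iv F14824) (iv D8938) F11313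
theorem F19310 : act 5 n11290 = n11509 := d13_0 F19309 (iv D11291) D11290
def n11510 : Q := act 4 n8940
theorem D11510 : act 4 n8940 = n11510 := rfl
theorem F19311 : act 3 n11510 = n10597 := d12_1 D11510 (iv D10597) (iv D8213) (iv F11320) D8940
def n11511 : Q := act 5 n8940
theorem D11511 : act 5 n8940 = n11511 := rfl
theorem F19312 : act 2 n11511 = n11290 := d11_1 D11511 F19310 (iv D11509)
theorem F19313 : act 3 n11511 = n8941 := d13_1 D11511 (iv D8941) D8940
def n11512 : Q := act 4 n8941
theorem D11512 : act 4 n8941 = n11512 := rfl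
theorem F19314 : act 1 n11512 = n11085 := d7_1 D11512 F18581 F18291
theorem F19315 : act 2 n11512 = n8942 := d10_1 D11512 (iv D8942) (iv F14827)
theorem F19316 : act 5 n11512 = n10599 := d14_2 D8941 D11512 (iv D10599) (iv D8214) (iv F11320)
def n11513 : Q := act 1 n8944
theorem D11513 : act 1 n8944 = n11513 := rfl
theorem F19317 : act 2 n11513 = n10590 := d5_2 D8944 D11513 (iv D10590) (iv D8210) (iv F11328)
theorem F19318 : act 4 n11513 = n8946 := d7_2 (iv F14833) D11513 (iv D8946)
def n11514 : Q := act 3 n8944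
theorem D11514 : act 3 n8944 = n11514 := rfl
theorem F19319 : act 0 n11514 = n8953 := d2_1 D11514 (iv D8953) (iv F14832)
def n11515 : Q := act 5 n8944
theorem D11515 : act 5 n8944 = n11515 := rfl
theorem F19320 : act 0 n11515 = n8954 := d4_1 D11515 (iv D8954) (iv F14832)
theorem F19321 : act 2 n11515 = n8945 := d11_1 D11515 (iv D8945) D8944
def n11516 : Q := act 4 n8945
theorem D11516 : act 4 n8945 = n11516 := rfl
theorem F19322 : act 0 n11516 = n8955 := d3_1 D11516 (iv D8955) (iv F14834)
theorem F19323 : act 1 n11516 = n10593 := d7_1 D11516 (iv D10593) (iv F14835)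
theorem F19324 : act 3 n11516 = n11360 := d12_1 D11516 (iv D11360) F14660 (iv F11333) (iv F14836)
theorem F19325 : act 5 n11516 = n8949 := d14_2 D8945 D11516 (iv D8949) (iv D6861) (iv F11329)
def n11517 : Q := act 0 n8946
theorem D11517 : act 0 n8946 = n11517 := rfl
theorem F19326 : act 1 n11517 = n8956 := d0_2 D8946 D11517 (iv D8956) (iv D6866) (iv F11334)
def n11518 : Q := act 3 n8946
theorem D11518 : act 3 n8946 = n11518 := rfl
theorem F19327 : act 1 n11518 = n8947 := d6_1 D11518 (iv D8947) D8946
theorem F19328 : act 5 n8975 = n11518 := d8_0 F19327 (iv F14839) D8975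
def n11519 : Q := act 5 n8946
theorem D11519 : act 5 n8946 = n11519 := rfl
theorem F19329 : act 1 n11519 = n8948 := d8_1 D11519 (iv D8948) D8946
theorem F19330 : act 3 n11519 = n8975 := d13_1 D11519 F19328 (iv D11518)
def n11520 : Q := act 4 n8947
theorem D11520 : act 4 n8947 = n11520 := rfl
theorem F19331 : act 0 n11520 = n8960 := d3_1 D11520 (iv D8960) (iv F14837)
theorem F19332 : act 2 n11520 = n8978 := d10_1 D11520 (iv D8978) (iv F14838)
def n11521 : Q := act 4 n8948
theorem D11521 : act 4 n8948 = n11521 := rfl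
theorem F19333 : act 0 n11521 = n8962 := d3_1 D11521 (iv D8962) (iv F14840)
theorem F19334 : act 2 n11521 = n8949 := d10_1 D11521 (iv D8949) (iv F14841)
def n11522 : Q := act 1 n8950
theorem D11522 : act 1 n8950 = n11522 := rfl
theorem F19335 : act 2 n11522 = n10515 := d5_2 D8950 D11522 (iv D10515) (iv D8147) (iv F11338)
theorem F19336 : act 4 n11522 = n10515 := d7_2 (iv F14846) D11522 (iv D10515)
def n11523 : Q := act 3 n8950
theorem D11523 : act 3 n8950 = n11523 := rfl
theorem F19337 : act 0 n11523 = n10518 := d2_1 D11523 (iv D10518) (iv F14845)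
def n11524 : Q := act 5 n8950
theorem D11524 : act 5 n8950 = n11524 := rfl
theorem F19338 : act 0 n11524 = n10519 := d4_1 D11524 (iv D10519) (iv F14845)
theorem F19339 : act 2 n11524 = n8951 := d11_1 D11524 (iv D8951) D8950
def n11525 : Q := act 4 n8951
theorem D11525 : act 4 n8951 = n11525 := rfl
theorem F19340 : act 0 n11525 = n10520 := d3_1 D11525 (iv D10520) (iv F14847)
theorem F19341 : act 1 n11525 = n10516 := d7_1 D11525 (iv D10516) (iv F14848)
theorem F19342 : act 3 n11525 = n11365 := d12_1 D11525 (iv D11365) F14662 (iv F11343) (iv F14849)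
theorem F19343 : act 5 n11525 = n10516 := d14_2 D8951 D11525 (iv D10516) (iv D8148) (iv F11339)
def n11526 : Q := act 0 n8952
theorem D11526 : act 0 n8952 = n11526 := rfl
theorem F19344 : act 2 n11526 = n8963 := d1_2 (iv F14850) D11526 (iv D8963)
theorem F19345 : act 4 n11526 = n8956 := d3_2 (iv F14851) D11526 (iv D8956)
def n11527 : Q := act 3 n8952
theorem D11527 : act 3 n8952 = n11527 := rfl
theorem F19346 : act 1 n11527 = n8953 := d6_1 D11527 (iv D8953) D8952
def n11528 : Q := act 2 n8953
theorem D11528 : act 2 n8953 = n11528 := rfl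
theorem F19347 : act 3 n11528 = n10519 := d15_3 D6864 D8953 D11528 F17607 F13527 (iv F11332) (iv F14836) (iv D8945) F11327
theorem F19348 : act 5 n10518 = n11528 := d13_0 F19347 (iv D10519) D10518
def n11529 : Q := act 4 n8953
theorem D11529 : act 4 n8953 = n11529 := rfl
theorem F19349 : act 3 n11529 = n8960 := d12_1 D11529 (iv D8960) (iv D6867) (iv F11344) D8953
def n11530 : Q := act 5 n8953
theorem D11530 : act 5 n8953 = n11530 := rfl
theorem F19350 : act 2 n11530 = n10518 := d11_1 D11530 F19348 (iv D11528)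
theorem F19351 : act 3 n11530 = n8954 := d13_1 D11530 (iv D8954) D8953
def n11531 : Q := act 4 n8954
theorem D11531 : act 4 n8954 = n11531 := rfl
theorem F19352 : act 1 n11531 = n9790 := d7_1 D11531 F16357 F15671
theorem F19353 : act 2 n11531 = n8955 := d10_1 D11531 (iv D8955) (iv F14852)
theorem F19354 : act 5 n11531 = n8962 := d14_2 D8954 D11531 (iv D8962) (iv D6868) (iv F11344)
def n11532 : Q := act 3 n8956
theorem D11532 : act 3 n8956 = n11532 := rfl
theorem F19355 : act 0 n11532 = n8957 := d2_1 D11532 (iv D8957) D8956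
def n11533 : Q := act 5 n8956
theorem D11533 : act 5 n8956 = n11533 := rfl
theorem F19356 : act 0 n11533 = n8958 := d4_1 D11533 (iv D8958) D8956
theorem F19357 : act 2 n11533 = n8965 := d11_1 D11533 (iv D8965) (iv F14856)
def n11534 : Q := act 2 n8957
theorem D11534 : act 2 n8957 = n11534 := rfl
def n11535 : Q := act 4 n8957
theorem D11535 : act 4 n8957 = n11535 := rfl
theorem F19358 : act 1 n11535 = n8960 := d7_1 D11535 (iv D8960) (iv F14857)
def n11536 : Q := act 5 n8957
theorem D11536 : act 5 n8957 = n11536 := rfl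
theorem F19359 : act 1 n11536 = n8961 := d8_1 D11536 (iv D8961) (iv F14857)
theorem F19360 : act 3 n11536 = n8958 := d13_1 D11536 (iv D8958) D8957
def n11537 : Q := act 4 n8958
theorem D11537 : act 4 n8958 = n11537 := rfl
theorem F19361 : act 1 n11537 = n8962 := d7_1 D11537 (iv D8962) (iv F14858)
theorem F19362 : act 2 n11537 = n8968 := d10_1 D11537 (iv D8968) (iv F14859)
theorem F19363 : act 5 n11537 = n9790 := d14_2 D8958 D11537 F16357 F15672 F14851
def n11538 : Q := act 4 n8959
theorem D11538 : act 4 n8959 = n11538 := rfl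
theorem F19364 : act 0 n11538 = n8978 := d3_1 D11538 (iv D8978) (iv F14860)
theorem F19365 : act 2 n11538 = n8960 := d10_1 D11538 (iv D8960) D8959
def n11539 : Q := act 5 n8960
theorem D11539 : act 5 n8960 = n11539 := rfl
def n11540 : Q := act 4 n8961
theorem D11540 : act 4 n8961 = n11540 := rfl
theorem F19366 : act 0 n11540 = n8976 := d3_1 D11540 (iv D8976) (iv F14863)
theorem F19367 : act 2 n11540 = n8969 := d10_1 D11540 (iv D8969) (iv F14864)
def n11541 : Q := act 3 n8962
theorem D11541 : act 3 n8962 = n11541 := rfl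
def n11542 : Q := act 2 n8964
theorem D11542 : act 2 n8964 = n11542 := rfl
theorem F19368 : act 0 n11542 = n8966 := d1_1 D11542 (iv D8966) (iv F14869)
theorem F19369 : act 5 n11542 = n9852 := d11_2 F14870 D11542 F16473
def n11543 : Q := act 4 n8964
theorem D11543 : act 4 n8964 = n11543 := rfl
theorem F19370 : act 0 n11543 = n8967 := d3_1 D11543 (iv D8967) (iv F14869)
theorem F19371 : act 1 n11543 = n11079 := d7_1 D11543 F18575 F18289
theorem F19372 : act 3 n11543 = n9786 := d12_1 D11543 F16351 F15670 F14868 D8964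
theorem F19373 : act 5 n11543 = n9781 := d14_2 F14870 D11543 (iv D9781) (iv F12483) (iv F12599)
def n11544 : Q := act 4 n8965
theorem D11544 : act 4 n8965 = n11544 := rfl
theorem F19374 : act 0 n11544 = n8968 := d3_1 D11544 (iv D8968) (iv F14871)
theorem F19375 : act 1 n11544 = n11080 := d7_1 D11544 F18577 F18286
theorem F19376 : act 3 n11544 = n9782 := d12_1 D11544 (iv D9782) F12486 (iv F12599) (iv F14872)
theorem F19377 : act 5 n11544 = n9787 := d14_2 D8965 D11544 F16353 (iv F15668) F14868
def n11545 : Q := act 3 n8966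
theorem D11545 : act 3 n8966 = n11545 := rfl
theorem F19378 : act 1 n11545 = n9856 := d6_1 D11545 F16477 (iv F14873)
theorem F19379 : act 5 n11545 = n9853 := d13_2 (iv F14874) D11545 (iv D9853)
def n11546 : Q := act 4 n8966
theorem D11546 : act 4 n8966 = n11546 := rfl
theorem F19380 : act 1 n11546 = n9857 := d7_1 D11546 (iv D9857) (iv F14873)
theorem F19381 : act 2 n11546 = n8967 := d10_1 D11546 (iv D8967) D8966
theorem F19382 : act 5 n11546 = n9784 := d14_2 (iv F14874) D11546 (iv D9784) F12488 (iv F12586)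
def n11547 : Q := act 5 n8969
theorem D11547 : act 5 n8969 = n11547 := rfl
theorem F19383 : act 0 n11547 = n8977 := d4_1 D11547 (iv D8977) (iv F14881)
theorem F19384 : act 3 n11547 = n11157 := d13_1 D11547 (iv D11157) (iv F14882)
def n11548 : Q := act 2 n8970
theorem D11548 : act 2 n8970 = n11548 := rfl
theorem F19385 : act 0 n11548 = n8972 := d1_1 D11548 (iv D8972) (iv F14883)
theorem F19386 : act 4 n11548 = n11258 := d10_2 (iv F14884) D11548 (iv D11258)
def n11549 : Q := act 5 n8970
theorem D11549 : act 5 n8970 = n11549 := rfl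
theorem F19387 : act 0 n11549 = n8974 := d4_1 D11549 (iv D8974) (iv F14883)
theorem F19388 : act 3 n11549 = n8971 := d13_1 D11549 (iv D8971) D8970
def n11550 : Q := act 1 n8972
theorem D11550 : act 1 n8972 = n11550 := rfl
theorem F19389 : act 2 n11550 = n8975 := d5_2 D8972 D11550 (iv D8975) (iv D6882) (iv F11372)
def n11551 : Q := act 3 n8972
theorem D11551 : act 3 n8972 = n11551 := rfl
def n11552 : Q := act 4 n8972
theorem D11552 : act 4 n8972 = n11552 := rfl
theorem F19390 : act 0 n11552 = n11258 := d3_1 D11552 (iv F19386) F19385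
theorem F19391 : act 2 n11552 = n8973 := d10_1 D11552 (iv D8973) D8972
def n11553 : Q := act 5 n8972
theorem D11553 : act 5 n8972 = n11553 := rfl
theorem F19392 : act 2 n11553 = n8974 := d11_1 D11553 (iv D8974) D8972
def n11554 : Q := act 5 n8973
theorem D11554 : act 5 n8973 = n11554 := rfl
theorem F19393 : act 0 n11554 = n11259 := d4_1 D11554 (iv D11259) (iv F14888)
theorem F19394 : act 1 n11554 = n8977 := d8_1 D11554 (iv D8977) (iv F14889)
theorem F19395 : act 3 n11554 = n11158 := d13_1 D11554 (iv D11158) (iv F14890)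
def n11555 : Q := act 4 n8974
theorem D11555 : act 4 n8974 = n11555 := rfl
theorem F19396 : act 1 n11555 = n8978 := d7_1 D11555 (iv D8978) (iv F14891)
theorem F19397 : act 3 n11555 = n11183 := d12_1 D11555 (iv D11183) F14381 (iv F11375) (iv F14892)
def n11556 : Q := act 0 n8975
theorem D11556 : act 0 n8975 = n11556 := rfl
def n11557 : Q := act 4 n8975
theorem D11557 : act 4 n8975 = n11557 := rfl
theorem F19398 : act 1 n11557 = n8976 := d7_1 D11557 (iv D8976) D8975
def n11558 : Q := act 3 n8976
theorem D11558 : act 3 n8976 = n11558 := rfl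
def n11559 : Q := act 5 n8976
theorem D11559 : act 5 n8976 = n11559 := rfl
theorem F19399 : act 2 n11559 = n8977 := d11_1 D11559 (iv D8977) (iv F14893)
def n11560 : Q := act 4 n8977
theorem D11560 : act 4 n8977 = n11560 := rfl
theorem F19400 : act 5 n11560 = n8978 := d14_2 D8977 D11560 (iv D8978) (iv D6884) D6883
def n11561 : Q := act 3 n8978
theorem D11561 : act 3 n8978 = n11561 := rfl
theorem F19401 : act 1 n11561 = n11183 := d6_1 D11561 (iv F19397) F19396
theorem F19402 : act 4 n11561 = n8979 := d12_2 D8978 D11561 (iv D8979) (iv D6885) (iv F11377)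
def n11562 : Q := act 1 n8980
theorem D11562 : act 1 n8980 = n11562 := rfl
theorem F19403 : act 2 n11562 = n11285 := d5_2 D8980 D11562 (iv D11285) (iv D8764) (iv F11382)
theorem F19404 : act 4 n11562 = n11176 := d7_2 (iv F14898) D11562 (iv D11176)
def n11563 : Q := act 3 n8980
theorem D11563 : act 3 n8980 = n11563 := rfl
theorem F19405 : act 0 n11563 = n8981 := d2_1 D11563 (iv D8981) (iv F14897)
def n11564 : Q := act 2 n8981
theorem D11564 : act 2 n8981 = n11564 := rfl
def n11565 : Q := act 4 n8981
theorem D11565 : act 4 n8981 = n11565 := rfl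
theorem F19406 : act 3 n11565 = n11187 := d12_1 D11565 (iv D11187) (iv D8685) (iv F11387) D8981
def n11566 : Q := act 1 n8982
theorem D11566 : act 1 n8982 = n11566 := rfl
theorem F19407 : act 2 n11566 = n11362 := d5_2 D8982 D11566 (iv D11362) (iv D8828) (iv F11389)
theorem F19408 : act 4 n11566 = n11362 := d7_2 (iv F14900) D11566 (iv D11362)
def n11567 : Q := act 3 n8982
theorem D11567 : act 3 n8982 = n11567 := rfl
theorem F19409 : act 0 n11567 = n10349 := d2_1 D11567 (iv D10349) (iv F14899)
theorem F19410 : act 2 n11567 = n10361 := d15_2 D8982 D11567 F17312 F13274 F10076 (iv F10071) (iv F13270) (iv D8011) (iv F11388)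
theorem F19411 : act 5 n10359 = n11567 := d11_0 F19410 (iv D10361) D10359
def n11568 : Q := act 5 n8982
theorem D11568 : act 5 n8982 = n11568 := rfl
theorem F19412 : act 0 n11568 = n10350 := d4_1 D11568 (iv D10350) (iv F14899)
theorem F19413 : act 2 n11568 = n8983 := d11_1 D11568 (iv D8983) D8982
theorem F19414 : act 3 n11568 = n10359 := d13_1 D11568 F19411 (iv D11567)
def n11569 : Q := act 4 n8983
theorem D11569 : act 4 n8983 = n11569 := rfl
theorem F19415 : act 0 n11569 = n10351 := d3_1 D11569 (iv D10351) (iv F14901)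
theorem F19416 : act 1 n11569 = n11365 := d7_1 D11569 (iv D11365) (iv F14902)
theorem F19417 : act 3 n11569 = n10516 := d12_1 D11569 (iv D10516) F13525 (iv F11394) (iv F14903)
theorem F19418 : act 5 n11569 = n11365 := d14_2 D8983 D11569 (iv D11365) (iv D8829) (iv F11390)
def n11570 : Q := act 2 n8984
theorem D11570 : act 2 n8984 = n11570 := rfl
theorem F19419 : act 0 n11570 = n10359 := d1_1 D11570 (iv D10359) (iv F14904)
theorem F19420 : act 3 n11570 = n10350 := d9_2 D8984 D11570 F17301 F13270 F10071 (iv F10076) (iv F13274) (iv F17312) (iv F19410) (iv D11567) (iv D8982) (iv D6889) F8566 D5228 D6891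
theorem F19421 : act 5 n10349 = n11570 := d13_0 F19420 (iv D10350) D10349
def n11571 : Q := act 4 n8984
theorem D11571 : act 4 n8984 = n11571 := rfl
theorem F19422 : act 0 n11571 = n10360 := d3_1 D11571 (iv D10360) (iv F14904)
theorem F19423 : act 1 n11571 = n9992 := d7_1 D11571 F16670 (iv F14905)
theorem F19424 : act 3 n11571 = n8986 := d12_1 D11571 (iv D8986) (iv D6893) (iv F11397) D8984
def n11572 : Q := act 5 n8984
theorem D11572 : act 5 n8984 = n11572 := rfl
theorem F19425 : act 0 n11572 = n10361 := d4_1 D11572 (iv D10361) (iv F14904)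
theorem F19426 : act 1 n11572 = n9995 := d8_1 D11572 (iv D9995) (iv F14905)
theorem F19427 : act 2 n11572 = n10349 := d11_1 D11572 F19421 (iv D11570)
theorem F19428 : act 3 n11572 = n8985 := d13_1 D11572 (iv D8985) D8984
def n11573 : Q := act 5 n8986
theorem D11573 : act 5 n8986 = n11573 := rfl
theorem F19429 : act 0 n11573 = n10402 := d4_1 D11573 (iv D10402) (iv F14910)
theorem F19430 : act 1 n11573 = n9993 := d8_1 D11573 (iv D9993) (iv F14911)
theorem F19431 : act 2 n11573 = n10881 := d11_1 D11573 (iv D10881) (iv F14912)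
theorem F19432 : act 4 n11573 = n9935 := d14_1 D11573 (iv D9935) (iv D7659) (iv F11405) D8986
def n11574 : Q := act 1 n8987
theorem D11574 : act 1 n8987 = n11574 := rfl
theorem F19433 : act 2 n11574 = n11357 := d5_2 D8987 D11574 (iv D11357) (iv D8824) (iv F11407)
theorem F19434 : act 4 n11574 = n11353 := d7_2 (iv F14914) D11574 (iv D11353)
def n11575 : Q := act 3 n8987
theorem D11575 : act 3 n8987 = n11575 := rfl
theorem F19435 : act 0 n11575 = n8990 := d2_1 D11575 (iv D8990) (iv F14913)
theorem F19436 : act 2 n11575 = n10250 := d15_2 D8987 D11575 F17133 F13126 F9963 (iv F8585) (iv F11414) (iv D6897) (iv F11406)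
theorem F19437 : act 5 n10249 = n11575 := d11_0 F19436 (iv D10250) D10249
def n11576 : Q := act 5 n8987
theorem D11576 : act 5 n8987 = n11576 := rfl
theorem F19438 : act 0 n11576 = n8991 := d4_1 D11576 (iv D8991) (iv F14913)
theorem F19439 : act 2 n11576 = n8988 := d11_1 D11576 (iv D8988) D8987
theorem F19440 : act 3 n11576 = n10249 := d13_1 D11576 F19437 (iv D11575)
def n11577 : Q := act 4 n8988
theorem D11577 : act 4 n8988 = n11577 := rfl
theorem F19441 : act 0 n11577 = n8992 := d3_1 D11577 (iv D8992) (iv F14915)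
theorem F19442 : act 1 n11577 = n11360 := d7_1 D11577 (iv D11360) (iv F14916)
theorem F19443 : act 3 n11577 = n10593 := d12_1 D11577 (iv D10593) F13619 (iv F11412) (iv F14917)
theorem F19444 : act 5 n11577 = n11356 := d14_2 D8988 D11577 (iv D11356) (iv D8823) (iv F11408)
def n11578 : Q := act 0 n8989
theorem D11578 : act 0 n8989 = n11578 := rfl
theorem F19445 : act 2 n11578 = n8993 := d1_2 (iv F14918) D11578 (iv D8993)
def n11579 : Q := act 3 n8989
theorem D11579 : act 3 n8989 = n11579 := rfl
theorem F19446 : act 1 n11579 = n8990 := d6_1 D11579 (iv D8990) D8989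
def n11580 : Q := act 5 n8989
theorem D11580 : act 5 n8989 = n11580 := rfl
theorem F19447 : act 1 n11580 = n8991 := d8_1 D11580 (iv D8991) D8989
theorem F19448 : act 2 n11580 = n8995 := d11_1 D11580 (iv D8995) (iv F14918)
def n11581 : Q := act 2 n8990
theorem D11581 : act 2 n8990 = n11581 := rfl
theorem F19449 : act 0 n11581 = n10250 := d1_1 D11581 (iv F19436) F19435
theorem F19450 : act 3 n11581 = n10240 := d9_2 D8990 D11581 F17116 F13113 (iv F11411) (iv F14917) (iv F19439) F19440 (iv D10249) (iv D7930) F9961 F7429 (iv F6407) D5233 D6896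
theorem F19451 : act 5 n10239 = n11581 := d13_0 F19450 (iv D10240) D10239
def n11582 : Q := act 4 n8990
theorem D11582 : act 4 n8990 = n11582 := rfl
def n11583 : Q := act 5 n8990
theorem D11583 : act 5 n8990 = n11583 := rfl
theorem F19452 : act 0 n11583 = n10249 := d4_1 D11583 F19437 F19435
theorem F19453 : act 2 n11583 = n10239 := d11_1 D11583 F19451 (iv D11581)
theorem F19454 : act 3 n11583 = n8991 := d13_1 D11583 (iv D8991) D8990
def n11584 : Q := act 4 n8991
theorem D11584 : act 4 n8991 = n11584 := rfl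
theorem F19455 : act 2 n11584 = n8992 := d10_1 D11584 (iv D8992) (iv F14919)
def n11585 : Q := act 3 n8993
theorem D11585 : act 3 n8993 = n11585 := rfl
theorem F19456 : act 0 n11585 = n8994 := d2_1 D11585 (iv D8994) D8993
theorem F19457 : act 5 n9988 = n11585 := d4_0 F19456 (iv F14923) (iv F16661)
def n11586 : Q := act 5 n8993
theorem D11586 : act 5 n8993 = n11586 := rfl
theorem F19458 : act 0 n11586 = n8995 := d4_1 D11586 (iv D8995) D8993
theorem F19459 : act 3 n11586 = n9988 := d13_1 D11586 F19457 (iv D11585)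
def n11587 : Q := act 2 n8994
theorem D11587 : act 2 n8994 = n11587 := rfl
theorem F19460 : act 1 n11587 = n9985 := d5_1 D11587 F16657 F12717 (iv F11415) (iv F14922)
theorem F19461 : act 5 n11587 = n9981 := d11_2 F14923 D11587 F16651
def n11588 : Q := act 4 n8994
theorem D11588 : act 4 n8994 = n11588 := rfl
theorem F19462 : act 1 n11588 = n8996 := d7_1 D11588 (iv D8996) (iv F14922)
theorem F19463 : act 3 n11588 = n9352 := d12_1 D11588 (iv F18922) F18921 F14543 D8994
theorem F19464 : act 5 n11588 = n9351 := d14_2 F14923 D11588 (iv D9351) (iv F11955) D7702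
def n11589 : Q := act 4 n8995
theorem D11589 : act 4 n8995 = n11589 := rfl
theorem F19465 : act 1 n11589 = n8997 := d7_1 D11589 (iv D8997) (iv F14924)
theorem F19466 : act 3 n11589 = n9146 := d12_1 D11589 F15248 F11958 D7702 (iv F14925)
theorem F19467 : act 5 n11589 = n9145 := d14_2 D8995 D11589 (iv F18918) (iv F18919) F14543
def n11590 : Q := act 2 n8998
theorem D11590 : act 2 n8998 = n11590 := rfl
theorem F19468 : act 0 n11590 = n9000 := d1_1 D11590 (iv D9000) (iv F14934)
theorem F19469 : act 4 n11590 = n9960 := d10_2 (iv F14936) D11590 (iv D9960)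
def n11591 : Q := act 5 n8998
theorem D11591 : act 5 n8998 = n11591 := rfl
theorem F19470 : act 0 n11591 = n9001 := d4_1 D11591 (iv D9001) (iv F14934)
theorem F19471 : act 1 n11591 = n9977 := d8_1 D11591 (iv D9977) (iv F14935)
theorem F19472 : act 3 n11591 = n8999 := d13_1 D11591 (iv D8999) D8998
def n11592 : Q := act 1 n9000
theorem D11592 : act 1 n9000 = n11592 := rfl
theorem F19473 : act 2 n11592 = n9002 := d5_2 D9000 D11592 (iv D9002) (iv D6905) (iv F11423)
theorem F19474 : act 4 n11592 = n9962 := d7_2 (iv F14941) D11592 (iv D9962)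
def n11593 : Q := act 3 n9000
theorem D11593 : act 3 n9000 = n11593 := rfl
def n11594 : Q := act 5 n9000
theorem D11594 : act 5 n9000 = n11594 := rfl
theorem F19475 : act 2 n11594 = n9001 := d11_1 D11594 (iv D9001) D9000
def n11595 : Q := act 4 n9001
theorem D11595 : act 4 n9001 = n11595 := rfl
theorem F19476 : act 1 n11595 = n9003 := d7_1 D11595 (iv D9003) (iv F14942)
theorem F19477 : act 3 n11595 = n9957 := d12_1 D11595 (iv D9957) F12685 (iv F11427) (iv F14943)
theorem F19478 : act 5 n11595 = n9965 := d14_2 D9001 D11595 (iv D9965) (iv D7682) (iv F11424)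
def n11596 : Q := act 0 n9002
theorem D11596 : act 0 n9002 = n11596 := rfl
theorem F19479 : act 1 n11596 = n9988 := d0_2 D9002 D11596 F16661 F12720 (iv F11428)
theorem F19480 : act 4 n11596 = n9966 := d3_2 (iv F14944) D11596 (iv D9966)
def n11597 : Q := act 4 n9004
theorem D11597 : act 4 n9004 = n11597 := rfl
theorem F19481 : act 0 n11597 = n10061 := d3_1 D11597 (iv D10061) (iv F14949)
theorem F19482 : act 1 n11597 = n9006 := d7_1 D11597 (iv D9006) D9004
theorem F19483 : act 2 n11597 = n9019 := d10_1 D11597 (iv D9019) (iv F14950)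
def n11598 : Q := act 4 n9005
theorem D11598 : act 4 n9005 = n11598 := rfl
theorem F19484 : act 0 n11598 = n9009 := d3_1 D11598 (iv D9009) (iv F14953)
theorem F19485 : act 1 n11598 = n10103 := d7_1 D11598 (iv D10103) (iv F14954)
theorem F19486 : act 2 n11598 = n9125 := d10_1 D11598 (iv D9125) (iv F14955)
def n11599 : Q := act 3 n9006
theorem D11599 : act 3 n9006 = n11599 := rfl
theorem F19487 : act 0 n11599 = n9010 := d2_1 D11599 (iv D9010) (iv F14957)
def n11600 : Q := act 5 n9006
theorem D11600 : act 5 n9006 = n11600 := rfl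
theorem F19488 : act 0 n11600 = n9011 := d4_1 D11600 (iv D9011) (iv F14957)
theorem F19489 : act 2 n11600 = n9007 := d11_1 D11600 (iv D9007) (iv F14958)
theorem F19490 : act 4 n11600 = n10070 := d14_1 D11600 (iv D10070) (iv D7774) (iv F11433) D9006
def n11601 : Q := act 4 n9008
theorem D11601 : act 4 n9008 = n11601 := rfl
theorem F19491 : act 0 n11601 = n9125 := d3_1 D11601 (iv D9125) (iv F14963)
theorem F19492 : act 1 n11601 = n10096 := d7_1 D11601 (iv D10096) (iv F14964)
theorem F19493 : act 2 n11601 = n9009 := d10_1 D11601 (iv D9009) D9008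
def n11602 : Q := act 3 n9009
theorem D11602 : act 3 n9009 = n11602 := rfl
theorem F19494 : act 1 n11602 = n10078 := d6_1 D11602 (iv D10078) (iv F14967)
theorem F19495 : act 4 n11602 = n9010 := d12_2 D9009 D11602 (iv D9010) (iv D6910) D6909
def n11603 : Q := act 5 n9009
theorem D11603 : act 5 n9009 = n11603 := rfl
theorem F19496 : act 1 n11603 = n10077 := d8_1 D11603 F16801 (iv F14967)
theorem F19497 : act 4 n11603 = n10072 := d14_1 D11603 (iv D10072) (iv D7775) (iv F11438) D9009
def n11604 : Q := act 2 n9010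
theorem D11604 : act 2 n9010 = n11604 := rfl
def n11605 : Q := act 5 n9010
theorem D11605 : act 5 n9010 = n11605 := rfl
theorem F19498 : act 1 n11605 = n10083 := d8_1 D11605 F16805 (iv F14968)
theorem F19499 : act 3 n11605 = n9011 := d13_1 D11605 (iv D9011) D9010
def n11606 : Q := act 1 n9012
theorem D11606 : act 1 n9012 = n11606 := rfl
theorem F19500 : act 2 n11606 = n9013 := d5_2 D9012 D11606 (iv D9013) (iv D6913) (iv F11445)
theorem F19501 : act 4 n11606 = n10089 := d7_2 (iv F14973) D11606 (iv D10089)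
theorem F19502 : act 5 n11606 = n9014 := d8_2 (iv F14974) D11606 (iv D9014)
def n11607 : Q := act 3 n9012
theorem D11607 : act 3 n9012 = n11607 := rfl
theorem F19503 : act 0 n11607 = n9139 := d2_1 D11607 F15231 (iv F14972)
theorem F19504 : act 2 n11607 = n9136 := d9_1 D11607 (iv D9136) (iv D7014) (iv D5331) F6558 D4239 D5634 D7405 (iv F15215) (iv D9131) (iv D7010) (iv D5323) (iv F8613) D6912 D9012
theorem F19505 : act 5 n11607 = n9015 := d13_2 (iv F14974) D11607 (iv D9015)
def n11608 : Q := act 0 n9013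
theorem D11608 : act 0 n9013 = n11608 := rfl
theorem F19506 : act 1 n11608 = n9045 := d0_2 D9013 D11608 (iv D9045) (iv D6940) (iv F11448)
theorem F19507 : act 3 n11608 = n9066 := d2_2 (iv F14975) D11608 (iv D9066)
theorem F19508 : act 4 n11608 = n10092 := d3_2 (iv F14976) D11608 (iv D10092)
theorem F19509 : act 5 n11608 = n9016 := d4_2 (iv F14977) D11608 (iv D9016)
def n11609 : Q := act 0 n9014
theorem D11609 : act 0 n9014 = n11609 := rfl
theorem F19510 : act 1 n11609 = n9611 := d0_2 D9014 D11609 (iv D9611) (iv D7404) (iv F11455)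
theorem F19511 : act 2 n11609 = n9016 := d1_2 (iv F14978) D11609 (iv D9016)
def n11610 : Q := act 3 n9014
theorem D11610 : act 3 n9014 = n11610 := rfl
theorem F19512 : act 1 n11610 = n9015 := d6_1 D11610 (iv D9015) D9014
def n11611 : Q := act 2 n9015
theorem D11611 : act 2 n9015 = n11611 := rfl
theorem F19513 : act 0 n11611 = n9131 := d1_1 D11611 F15215 (iv F14979)
theorem F19514 : act 3 n11611 = n9114 := d9_2 D9015 D11611 (iv D9114) (iv D6998) F8752 (iv F9299) (iv F12288) (iv F15231) (iv D9139) (iv D7016) (iv D5332) (iv D4000) (iv F6438) D5250 D6915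
theorem F19515 : act 5 n11611 = n9136 := d11_2 F19505 D11611 (iv F19504)
theorem F19516 : act 1 n9650 = n11611 := d6_3 F19514 F15182 D9650
def n11612 : Q := act 4 n9015
theorem D11612 : act 4 n9015 = n11612 := rfl
theorem F19517 : act 0 n11612 = n9613 := d3_1 D11612 (iv D9613) (iv F14979)
def n11613 : Q := act 4 n9017
theorem D11613 : act 4 n9017 = n11613 := rfl
theorem F19518 : act 0 n11613 = n9019 := d3_1 D11613 (iv D9019) D9017
theorem F19519 : act 1 n11613 = n9026 := d7_1 D11613 (iv D9026) (iv F14982)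
theorem F19520 : act 2 n11613 = n10061 := d10_1 D11613 (iv D10061) (iv F14983)
def n11614 : Q := act 4 n9018
theorem D11614 : act 4 n9018 = n11614 := rfl
theorem F19521 : act 1 n11614 = n9021 := d7_1 D11614 (iv D9021) (iv F14985)
theorem F19522 : act 2 n11614 = n9269 := d10_1 D11614 (iv D9269) (iv F14986)
def n11615 : Q := act 3 n9019
theorem D11615 : act 3 n9019 = n11615 := rfl
theorem F19523 : act 1 n11615 = n9022 := d6_1 D11615 (iv D9022) (iv F14988)
def n11616 : Q := act 5 n9019
theorem D11616 : act 5 n9019 = n11616 := rfl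
theorem F19524 : act 1 n11616 = n9023 := d8_1 D11616 (iv D9023) (iv F14988)
def n11617 : Q := act 4 n9020
theorem D11617 : act 4 n9020 = n11617 := rfl
theorem F19525 : act 0 n11617 = n10047 := d3_1 D11617 (iv D10047) (iv F14989)
theorem F19526 : act 1 n11617 = n9024 := d7_1 D11617 (iv D9024) (iv F14990)
theorem F19527 : act 2 n11617 = n10058 := d10_1 D11617 (iv D10058) (iv F14991)
def n11618 : Q := act 3 n9021
theorem D11618 : act 3 n9021 = n11618 := rfl
theorem F19528 : act 0 n11618 = n9032 := d2_1 D11618 (iv D9032) (iv F14993)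
theorem F19529 : act 4 n11618 = n9022 := d12_2 D9021 D11618 (iv D9022) (iv D6919) D6918
def n11619 : Q := act 5 n9021
theorem D11619 : act 5 n9021 = n11619 := rfl
theorem F19530 : act 0 n11619 = n9033 := d4_1 D11619 (iv D9033) (iv F14993)
theorem F19531 : act 2 n11619 = n9083 := d11_1 D11619 F15108 (iv F14994)
theorem F19532 : act 4 n11619 = n9082 := d14_1 D11619 (iv D9082) (iv D6971) F11459 D9021
def n11620 : Q := act 2 n9022
theorem D11620 : act 2 n9022 = n11620 := rfl
theorem F19533 : act 0 n11620 = n9035 := d1_1 D11620 (iv D9035) (iv F14995)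
theorem F19534 : act 3 n11620 = n9050 := d9_2 D9022 D11620 F15049 F11515 F8668 (iv F8641) (iv F11483) (iv F15024) F15023 (iv D7371) (iv D5610) (iv D4220) (iv F6459) (iv F8631) (iv F11461)
theorem F19535 : act 5 n9049 = n11620 := d13_0 F19534 (iv D9050) D9049
def n11621 : Q := act 5 n9022
theorem D11621 : act 5 n9022 = n11621 := rfl
theorem F19536 : act 0 n11621 = n9036 := d4_1 D11621 (iv D9036) (iv F14995)
theorem F19537 : act 2 n11621 = n9049 := d11_1 D11621 F19535 (iv D11620)
theorem F19538 : act 3 n11621 = n9023 := d13_1 D11621 (iv D9023) D9022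
def n11622 : Q := act 4 n9023
theorem D11622 : act 4 n9023 = n11622 := rfl
theorem F19539 : act 0 n11622 = n9037 := d3_1 D11622 (iv D9037) (iv F14996)
theorem F19540 : act 2 n11622 = n9025 := d10_1 D11622 (iv D9025) (iv F14997)
theorem F19541 : act 5 n11622 = n9024 := d14_2 D9023 D11622 (iv D9024) (iv D6920) D6919
def n11623 : Q := act 3 n9024
theorem D11623 : act 3 n9024 = n11623 := rfl
theorem F19542 : act 0 n11623 = n9038 := d2_1 D11623 (iv D9038) (iv F14998)
theorem F19543 : act 4 n11623 = n9081 := d12_2 D9024 D11623 (iv D9081) (iv D6971) (iv F11464)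
def n11624 : Q := act 3 n9026
theorem D11624 : act 3 n9026 = n11624 := rfl
theorem F19544 : act 0 n11624 = n9028 := d2_1 D11624 (iv D9028) (iv F15004)
def n11625 : Q := act 5 n9026
theorem D11625 : act 5 n9026 = n11625 := rfl
theorem F19545 : act 0 n11625 = n9029 := d4_1 D11625 (iv D9029) (iv F15004)
theorem F19546 : act 2 n11625 = n9040 := d11_1 D11625 (iv D9040) (iv F15005)
theorem F19547 : act 4 n11625 = n10050 := d14_1 D11625 (iv D10050) (iv D7757) (iv F11471) D9026
def n11626 : Q := act 3 n9027
theorem D11626 : act 3 n9027 = n11626 := rfl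
theorem F19548 : act 1 n11626 = n9032 := d6_1 D11626 (iv D9032) (iv F15006)
theorem F19549 : act 4 n11626 = n9028 := d12_2 D9027 D11626 (iv D9028) (iv D6925) D6924
def n11627 : Q := act 5 n9027
theorem D11627 : act 5 n9027 = n11627 := rfl
theorem F19550 : act 1 n11627 = n9033 := d8_1 D11627 (iv D9033) (iv F15006)
theorem F19551 : act 4 n11627 = n10054 := d14_1 D11627 (iv D10054) (iv D7761) (iv F11473) D9027
def n11628 : Q := act 2 n9028
theorem D11628 : act 2 n9028 = n11628 := rfl
def n11629 : Q := act 5 n9028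
theorem D11629 : act 5 n9028 = n11629 := rfl
theorem F19552 : act 1 n11629 = n9036 := d8_1 D11629 (iv D9036) (iv F15007)
theorem F19553 : act 3 n11629 = n9029 := d13_1 D11629 (iv D9029) D9028
def n11630 : Q := act 4 n9030
theorem D11630 : act 4 n9030 = n11630 := rfl
theorem F19554 : act 0 n11630 = n9264 := d3_1 D11630 (iv D9264) (iv F15011)
theorem F19555 : act 1 n11630 = n9031 := d7_1 D11630 (iv D9031) D9030
theorem F19556 : act 3 n11630 = n9186 := d12_1 D11630 (iv D9186) F11696 (iv F11549) (iv F15012)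
def n11631 : Q := act 5 n9031
theorem D11631 : act 5 n9031 = n11631 := rfl
theorem F19557 : act 0 n11631 = n9083 := d4_1 D11631 F15108 (iv F15014)
theorem F19558 : act 2 n11631 = n9033 := d11_1 D11631 (iv D9033) (iv F15015)
theorem F19559 : act 3 n11631 = n9187 := d13_1 D11631 (iv D9187) (iv F15016)
theorem F19560 : act 4 n11631 = n9076 := d14_1 D11631 (iv D9076) (iv D6967) F11478 D9031
def n11632 : Q := act 2 n9032
theorem D11632 : act 2 n9032 = n11632 := rfl
theorem F19561 : act 4 n11632 = n9035 := d10_2 (iv F15017) D11632 (iv D9035)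
def n11633 : Q := act 5 n9032
theorem D11633 : act 5 n9032 = n11633 := rfl
theorem F19562 : act 3 n11633 = n9033 := d13_1 D11633 (iv D9033) D9032
def n11634 : Q := act 4 n9033
theorem D11634 : act 4 n9033 = n11634 := rfl
theorem F19563 : act 0 n11634 = n9082 := d3_1 D11634 (iv F19532) F19530
theorem F19564 : act 1 n11634 = n10054 := d7_1 D11634 (iv F19551) F19550
theorem F19565 : act 2 n11634 = n9076 := d10_1 D11634 (iv F19560) F19558
theorem F19566 : act 5 n11634 = n9034 := d14_2 D9033 D11634 (iv D9034) (iv D6928) D6927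
def n11635 : Q := act 3 n9034
theorem D11635 : act 3 n9034 = n11635 := rfl
theorem F19567 : act 0 n11635 = n9081 := d2_1 D11635 (iv D9081) (iv F15018)
theorem F19568 : act 1 n11635 = n10053 := d6_1 D11635 (iv D10053) (iv F15019)
theorem F19569 : act 4 n11635 = n9038 := d12_2 D9034 D11635 (iv D9038) (iv D6931) (iv F11482)
def n11636 : Q := act 1 n9035
theorem D11636 : act 1 n9035 = n11636 := rfl
theorem F19570 : act 3 n11636 = n9568 := d6_2 (iv F15021) D11636 F16003
theorem F19571 : act 5 n11636 = n9567 := d8_2 F15022 D11636 F16002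
def n11637 : Q := act 4 n9036
theorem D11637 : act 4 n9036 = n11637 := rfl
theorem F19572 : act 2 n11637 = n9569 := d10_1 D11637 (iv D9569) (iv F15023)
def n11638 : Q := act 3 n9037
theorem D11638 : act 3 n9037 = n11638 := rfl
theorem F19573 : act 1 n11638 = n10056 := d6_1 D11638 F16770 (iv F15025)
theorem F19574 : act 5 n11638 = n9038 := d13_2 (iv F15027) D11638 (iv D9038)
def n11639 : Q := act 2 n9038
theorem D11639 : act 2 n9038 = n11639 := rfl
def n11640 : Q := act 2 n9039
theorem D11640 : act 2 n9039 = n11640 := rfl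
theorem F19575 : act 0 n11640 = n9041 := d1_1 D11640 (iv D9041) (iv F15029)
theorem F19576 : act 4 n11640 = n10051 := d10_2 (iv F15031) D11640 (iv D10051)
def n11641 : Q := act 5 n9039
theorem D11641 : act 5 n9039 = n11641 := rfl
theorem F19577 : act 0 n11641 = n9042 := d4_1 D11641 (iv D9042) (iv F15029)
theorem F19578 : act 1 n11641 = n10066 := d8_1 D11641 F16785 (iv F15030)
theorem F19579 : act 3 n11641 = n9040 := d13_1 D11641 (iv D9040) D9039
def n11642 : Q := act 1 n9041
theorem D11642 : act 1 n9041 = n11642 := rfl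
theorem F19580 : act 2 n11642 = n9043 := d5_2 D9041 D11642 (iv D9043) (iv D6936) (iv F11491)
theorem F19581 : act 4 n11642 = n9063 := d7_2 (iv F15035) D11642 F15069
def n11643 : Q := act 3 n9041
theorem D11643 : act 3 n9041 = n11643 := rfl
def n11644 : Q := act 5 n9041
theorem D11644 : act 5 n9041 = n11644 := rfl
theorem F19582 : act 2 n11644 = n9042 := d11_1 D11644 (iv D9042) D9041
def n11645 : Q := act 0 n9043
theorem D11645 : act 0 n9043 = n11645 := rfl
theorem F19583 : act 1 n11645 = n10095 := d0_2 D9043 D11645 (iv D10095) (iv D7794) (iv F11495)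
theorem F19584 : act 4 n11645 = n9062 := d3_2 (iv F15038) D11645 F15067
def n11646 : Q := act 0 n9044
theorem D11646 : act 0 n9044 = n11646 := rfl
theorem F19585 : act 1 n11646 = n10092 := d0_2 D9044 D11646 (iv D10092) (iv D7791) (iv F11503)
theorem F19586 : act 2 n11646 = n9649 := d1_2 (iv F15039) D11646 F16115
theorem F19587 : act 4 n11646 = n9045 := d3_2 (iv F15040) D11646 (iv D9045)
def n11647 : Q := act 1 n9046
theorem D11647 : act 1 n9046 = n11647 := rfl
theorem F19588 : act 2 n11647 = n9048 := d5_2 D9046 D11647 (iv D9048) (iv D6943) (iv F11507)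
theorem F19589 : act 4 n11647 = n9537 := d7_2 (iv F15043) D11647 (iv D9537)
def n11648 : Q := act 3 n9046
theorem D11648 : act 3 n9046 = n11648 := rfl
def n11649 : Q := act 5 n9046
theorem D11649 : act 5 n9046 = n11649 := rfl
theorem F19590 : act 2 n11649 = n9047 := d11_1 D11649 (iv D9047) D9046
def n11650 : Q := act 4 n9047
theorem D11650 : act 4 n9047 = n11650 := rfl
theorem F19591 : act 1 n11650 = n9051 := d7_1 D11650 (iv D9051) (iv F15044)
theorem F19592 : act 3 n11650 = n9630 := d12_1 D11650 (iv D9630) F12310 (iv F11511) (iv F15045)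
theorem F19593 : act 5 n11650 = n9540 := d14_2 D9047 D11650 (iv D9540) (iv D7351) (iv F11508)
def n11651 : Q := act 0 n9048
theorem D11651 : act 0 n9048 = n11651 := rfl
theorem F19594 : act 1 n11651 = n9566 := d0_2 D9048 D11651 (iv D9566) (iv D7370) (iv F11512)
theorem F19595 : act 4 n11651 = n9543 := d3_2 (iv F15046) D11651 (iv D9543)
def n11652 : Q := act 3 n9048
theorem D11652 : act 3 n9048 = n11652 := rfl
theorem F19596 : act 1 n11652 = n9049 := d6_1 D11652 (iv D9049) D9048
def n11653 : Q := act 5 n9048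
theorem D11653 : act 5 n9048 = n11653 := rfl
theorem F19597 : act 1 n11653 = n9050 := d8_1 D11653 (iv D9050) D9048
def n11654 : Q := act 4 n9049
theorem D11654 : act 4 n9049 = n11654 := rfl
theorem F19598 : act 0 n11654 = n9569 := d3_1 D11654 (iv D9569) (iv F15047)
theorem F19599 : act 3 n11654 = n9423 := d12_1 D11654 (iv D9423) F12018 (iv F11513) D9049
def n11655 : Q := act 4 n9050
theorem D11655 : act 4 n9050 = n11655 := rfl
theorem F19600 : act 0 n11655 = n9570 := d3_1 D11655 (iv D9570) (iv F15048)
theorem F19601 : act 2 n11655 = n9051 := d10_1 D11655 (iv D9051) (iv F15049)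
theorem F19602 : act 5 n11655 = n9422 := d14_2 D9050 D11655 (iv D9422) F12015 (iv F11513)
def n11656 : Q := act 0 n9052
theorem D11656 : act 0 n9052 = n11656 := rfl
theorem F19603 : act 2 n11656 = n9056 := d1_2 (iv F15053) D11656 (iv D9056)
def n11657 : Q := act 3 n9052
theorem D11657 : act 3 n9052 = n11657 := rfl
theorem F19604 : act 1 n11657 = n9053 := d6_1 D11657 (iv D9053) D9052
def n11658 : Q := act 5 n9052
theorem D11658 : act 5 n9052 = n11658 := rfl
theorem F19605 : act 1 n11658 = n9054 := d8_1 D11658 (iv D9054) D9052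
theorem F19606 : act 2 n11658 = n9058 := d11_1 D11658 (iv D9058) (iv F15053)
def n11659 : Q := act 2 n9053
theorem D11659 : act 2 n9053 = n11659 := rfl
def n11660 : Q := act 4 n9053
theorem D11660 : act 4 n9053 = n11660 := rfl
def n11661 : Q := act 5 n9053
theorem D11661 : act 5 n9053 = n11661 := rfl
theorem F19607 : act 3 n11661 = n9054 := d13_1 D11661 (iv D9054) D9053
def n11662 : Q := act 4 n9054
theorem D11662 : act 4 n9054 = n11662 := rfl
theorem F19608 : act 2 n11662 = n9055 := d10_1 D11662 (iv D9055) (iv F15054)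
theorem F19609 : act 5 n11662 = n11393 := d14_2 D9054 D11662 F19109 F14698 F13646
def n11663 : Q := act 3 n9056
theorem D11663 : act 3 n9056 = n11663 := rfl
theorem F19610 : act 0 n11663 = n9057 := d2_1 D11663 (iv D9057) D9056
theorem F19611 : act 5 n10095 = n11663 := d4_0 F19610 (iv F15059) D10095
def n11664 : Q := act 5 n9056
theorem D11664 : act 5 n9056 = n11664 := rfl
theorem F19612 : act 0 n11664 = n9058 := d4_1 D11664 (iv D9058) D9056
theorem F19613 : act 3 n11664 = n10095 := d13_1 D11664 F19611 (iv D11663)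
def n11665 : Q := act 2 n9057
theorem D11665 : act 2 n9057 = n11665 := rfl
theorem F19614 : act 1 n11665 = n10085 := d5_1 D11665 (iv D10085) F12835 (iv F11518) (iv F15058)
theorem F19615 : act 5 n11665 = n10086 := d11_2 F15059 D11665 F16807
def n11666 : Q := act 0 n9059
theorem D11666 : act 0 n9059 = n11666 := rfl
theorem F19616 : act 2 n11666 = n9637 := d1_2 (iv F15062) D11666 F16103
theorem F19617 : act 5 n11666 = n9060 := d4_2 (iv F15063) D11666 (iv D9060)
def n11667 : Q := act 3 n9060
theorem D11667 : act 3 n9060 = n11667 := rfl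
theorem F19618 : act 0 n11667 = n9061 := d2_1 D11667 (iv D9061) D9060
def n11668 : Q := act 2 n9062
theorem D11668 : act 2 n9062 = n11668 := rfl
theorem F19619 : act 0 n11668 = n9063 := d1_1 D11668 (iv D9063) (iv F15067)
def n11669 : Q := act 3 n9063
theorem D11669 : act 3 n9063 = n11669 := rfl
theorem F19620 : act 1 n11669 = n10057 := d6_1 D11669 (iv D10057) (iv F15069)
def n11670 : Q := act 1 n9064
theorem D11670 : act 1 n9064 = n11670 := rfl
theorem F19621 : act 3 n11670 = n9065 := d6_2 (iv F15071) D11670 (iv D9065)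
theorem F19622 : act 5 n11670 = n10068 := d8_2 (iv F15072) D11670 (iv D10068)
def n11671 : Q := act 0 n9065
theorem D11671 : act 0 n9065 = n11671 := rfl
theorem F19623 : act 2 n11671 = n9066 := d1_2 (iv F15073) D11671 (iv D9066)
theorem F19624 : act 5 n11671 = n10088 := d4_2 (iv F15074) D11671 (iv D10088)
def n11672 : Q := act 2 n9067
theorem D11672 : act 2 n9067 = n11672 := rfl
theorem F19625 : act 0 n11672 = n9071 := d1_1 D11672 (iv D9071) (iv F15076)
theorem F19626 : act 4 n11672 = n9340 := d10_2 (iv F15078) D11672 (iv D9340)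
theorem F19627 : act 3 n11672 = n10081 := d15_1 D11672 F16804 F12832 F9711 (iv F8693) (iv F11540) (iv F15087) (iv D9072) (iv F15076)
theorem F19628 : act 5 n10080 = n11672 := d13_0 F19627 (iv D10081) D10080
def n11673 : Q := act 5 n9067
theorem D11673 : act 5 n9067 = n11673 := rfl
theorem F19629 : act 0 n11673 = n9072 := d4_1 D11673 (iv D9072) (iv F15076)
theorem F19630 : act 1 n11673 = n11547 := d8_1 D11673 (iv D11547) (iv F15077)
theorem F19631 : act 2 n11673 = n10080 := d11_1 D11673 F19628 (iv D11672)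
theorem F19632 : act 3 n11673 = n9068 := d13_1 D11673 (iv D9068) D9067
def n11674 : Q := act 2 n9069
theorem D11674 : act 2 n9069 = n11674 := rfl
theorem F19633 : act 0 n11674 = n9340 := d1_1 D11674 (iv D9340) (iv F15081)
theorem F19634 : act 4 n11674 = n9071 := d10_2 (iv F15083) D11674 (iv D9071)
def n11675 : Q := act 5 n9069
theorem D11675 : act 5 n9069 = n11675 := rfl
theorem F19635 : act 0 n11675 = n9341 := d4_1 D11675 (iv D9341) (iv F15081)
theorem F19636 : act 1 n11675 = n11549 := d8_1 D11675 (iv D11549) (iv F15082)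
theorem F19637 : act 3 n11675 = n9070 := d13_1 D11675 (iv D9070) D9069
def n11676 : Q := act 1 n9071
theorem D11676 : act 1 n9071 = n11676 := rfl
def n11677 : Q := act 3 n9071
theorem D11677 : act 3 n9071 = n11677 := rfl
theorem F19638 : act 0 n11677 = n10081 := d2_1 D11677 (iv F19627) F19625
theorem F19639 : act 2 n11677 = n10063 := d9_1 D11677 F16778 F12814 (iv F11536) (iv F15080) (iv F19632) F19631 (iv D10080) (iv D7781) (iv D5930) F7245 (iv F6481) (iv F8691) D6962 D9071
theorem F19640 : act 5 n11677 = n10062 := d15_8 (iv D7781) (iv D5930) F7245 (iv F6481) (iv F8691) D6962 D9071 D11677 F16776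
def n11678 : Q := act 5 n9071
theorem D11678 : act 5 n9071 = n11678 := rfl
theorem F19641 : act 0 n11678 = n10080 := d4_1 D11678 F19628 F19625
theorem F19642 : act 2 n11678 = n9072 := d11_1 D11678 (iv D9072) D9071
theorem F19643 : act 3 n11678 = n10062 := d13_1 D11678 (iv F19640) (iv D11677)
def n11679 : Q := act 4 n9072
theorem D11679 : act 4 n9072 = n11679 := rfl
def n11680 : Q := act 4 n9073
theorem D11680 : act 4 n9073 = n11680 := rfl
theorem F19644 : act 0 n11680 = n9075 := d3_1 D11680 (iv D9075) (iv F15088)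
theorem F19645 : act 1 n11680 = n9077 := d7_1 D11680 (iv D9077) (iv F15089)
theorem F19646 : act 3 n11680 = n9621 := d12_1 D11680 (iv D9621) (iv D7413) (iv F11543) D9073
def n11681 : Q := act 4 n9074
theorem D11681 : act 4 n9074 = n11681 := rfl
theorem F19647 : act 1 n11681 = n10052 := d7_1 D11681 (iv D10052) (iv F15091)
theorem F19648 : act 2 n11681 = n9075 := d10_1 D11681 (iv D9075) D9074
def n11682 : Q := act 5 n9075
theorem D11682 : act 5 n9075 = n11682 := rfl
theorem F19649 : act 1 n11682 = n9076 := d8_1 D11682 (iv D9076) (iv F15092)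
theorem F19650 : act 3 n11682 = n9624 := d13_1 D11682 (iv D9624) (iv F15093)
def n11683 : Q := act 5 n9077
theorem D11683 : act 5 n9077 = n11683 := rfl
theorem F19651 : act 0 n11683 = n9078 := d4_1 D11683 (iv D9078) (iv F15096)
theorem F19652 : act 2 n11683 = n9249 := d11_1 D11683 (iv D9249) (iv F15097)
theorem F19653 : act 3 n11683 = n9657 := d13_1 D11683 (iv D9657) (iv F15098)
theorem F19654 : act 4 n11683 = n9265 := d14_1 D11683 (iv D9265) (iv D7116) (iv F11554) D9077
def n11684 : Q := act 4 n9079
theorem D11684 : act 4 n9079 = n11684 := rfl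
theorem F19655 : act 0 n11684 = n9080 := d3_1 D11684 (iv D9080) D9079
theorem F19656 : act 1 n11684 = n10048 := d7_1 D11684 (iv D10048) (iv F15102)
def n11685 : Q := act 3 n9080
theorem D11685 : act 3 n9080 = n11685 := rfl
theorem F19657 : act 1 n11685 = n9081 := d6_1 D11685 (iv D9081) (iv F15104)
def n11686 : Q := act 5 n9080
theorem D11686 : act 5 n9080 = n11686 := rfl
theorem F19658 : act 1 n11686 = n9082 := d8_1 D11686 (iv D9082) (iv F15104)
def n11687 : Q := act 2 n9081
theorem D11687 : act 2 n9081 = n11687 := rfl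
def n11688 : Q := act 5 n9081
theorem D11688 : act 5 n9081 = n11688 := rfl
theorem F19659 : act 3 n11688 = n9082 := d13_1 D11688 (iv D9082) D9081
def n11689 : Q := act 2 n9084
theorem D11689 : act 2 n9084 = n11689 := rfl
theorem F19660 : act 0 n11689 = n9327 := d1_1 D11689 (iv D9327) (iv F15109)
theorem F19661 : act 4 n11689 = n9408 := d10_2 (iv F15111) D11689 (iv D9408)
theorem F19662 : act 5 n11689 = n10099 := d11_2 (iv F15112) D11689 (iv D10099)
def n11690 : Q := act 2 n9085
theorem D11690 : act 2 n9085 = n11690 := rfl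
theorem F19663 : act 0 n11690 = n9090 := d1_1 D11690 (iv D9090) (iv F15113)
theorem F19664 : act 4 n11690 = n9087 := d10_2 (iv F15115) D11690 (iv D9087)
def n11691 : Q := act 5 n9085
theorem D11691 : act 5 n9085 = n11691 := rfl
theorem F19665 : act 0 n11691 = n9091 := d4_1 D11691 (iv D9091) (iv F15113)
theorem F19666 : act 1 n11691 = n9409 := d8_1 D11691 (iv D9409) (iv F15114)
theorem F19667 : act 3 n11691 = n9086 := d13_1 D11691 (iv D9086) D9085
theorem F19668 : act 4 n11691 = n10101 := d14_1 D11691 (iv D10101) F12847 (iv F11568) (iv F15115)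
def n11692 : Q := act 1 n9087
theorem D11692 : act 1 n9087 = n11692 := rfl
theorem F19669 : act 3 n11692 = n9092 := d6_2 (iv F15120) D11692 (iv D9092)
theorem F19670 : act 5 n11692 = n10102 := d8_2 (iv F15121) D11692 (iv D10102)
def n11693 : Q := act 2 n9088
theorem D11693 : act 2 n9088 = n11693 := rfl
def n11694 : Q := act 5 n9088
theorem D11694 : act 5 n9088 = n11694 := rfl
theorem F19671 : act 1 n11694 = n9407 := d8_1 D11694 (iv D9407) (iv F15122)
theorem F19672 : act 3 n11694 = n9089 := d13_1 D11694 (iv D9089) D9088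
def n11695 : Q := act 1 n9090
theorem D11695 : act 1 n9090 = n11695 := rfl
theorem F19673 : act 2 n11695 = n9331 := d5_2 D9090 D11695 (iv D9331) (iv D7170) (iv F11571)
theorem F19674 : act 4 n11695 = n9092 := d7_2 (iv F15126) D11695 (iv D9092)
theorem F19675 : act 5 n9923 = n11695 := d11_0 F19673 F15588 D9923
def n11696 : Q := act 3 n9090
theorem D11696 : act 3 n9090 = n11696 := rfl
def n11697 : Q := act 5 n9090
theorem D11697 : act 5 n9090 = n11697 := rfl
theorem F19676 : act 1 n11697 = n9923 := d8_1 D11697 F19675 (iv D11695)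
theorem F19677 : act 2 n11697 = n9091 := d11_1 D11697 (iv D9091) D9090
theorem F19678 : act 4 n11697 = n10110 := d14_1 D11697 (iv D10110) F12853 (iv F11575) (iv F15126)
def n11698 : Q := act 0 n9092
theorem D11698 : act 0 n9092 = n11698 := rfl
theorem F19679 : act 2 n11698 = n9333 := d1_2 (iv F15130) D11698 (iv D9333)
theorem F19680 : act 5 n11698 = n10111 := d4_2 (iv F15131) D11698 (iv D10111)
def n11699 : Q := act 2 n9093
theorem D11699 : act 2 n9093 = n11699 := rfl
theorem F19681 : act 0 n11699 = n9315 := d1_1 D11699 (iv D9315) (iv F15132)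
theorem F19682 : act 5 n11699 = n10113 := d11_2 (iv F15134) D11699 (iv D10113)
def n11700 : Q := act 1 n9094
theorem D11700 : act 1 n9094 = n11700 := rfl
theorem F19683 : act 3 n11700 = n9452 := d6_2 (iv F15136) D11700 F15779
theorem F19684 : act 5 n11700 = n9451 := d8_2 (iv F15137) D11700 F15778
def n11701 : Q := act 1 n9095
theorem D11701 : act 1 n9095 = n11701 := rfl
theorem F19685 : act 2 n11701 = n9323 := d5_2 D9095 D11701 (iv D9323) (iv D7163) (iv F11582)
theorem F19686 : act 4 n11701 = n9097 := d7_2 (iv F15138) D11701 (iv D9097)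
def n11702 : Q := act 3 n9095
theorem D11702 : act 3 n9095 = n11702 := rfl
theorem F19687 : act 2 n11702 = n11107 := d15_2 D9095 D11702 F18609 F14281 F10912 (iv F13750) (iv F17873) (iv D10672) F13747
theorem F19688 : act 5 n11106 = n11702 := d11_0 F19687 (iv D11107) D11106
def n11703 : Q := act 5 n9095
theorem D11703 : act 5 n9095 = n11703 := rfl
theorem F19689 : act 2 n11703 = n9096 := d11_1 D11703 (iv D9096) D9095
theorem F19690 : act 3 n11703 = n11106 := d13_1 D11703 F19688 (iv D11702)
theorem F19691 : act 4 n11703 = n10123 := d14_1 D11703 F16842 F12867 (iv F11586) (iv F15138)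
def n11704 : Q := act 0 n9097
theorem D11704 : act 0 n9097 = n11704 := rfl
theorem F19692 : act 2 n11704 = n9326 := d1_2 (iv F15142) D11704 (iv D9326)
theorem F19693 : act 5 n11704 = n10126 := d4_2 (iv F15143) D11704 (iv D10126)
def n11705 : Q := act 3 n9097
theorem D11705 : act 3 n9097 = n11705 := rfl
theorem F19694 : act 1 n11705 = n9098 := d6_1 D11705 (iv D9098) D9097
theorem F19695 : act 5 n11705 = n9444 := d13_2 (iv F15143) D11705 F15768
def n11706 : Q := act 4 n9098
theorem D11706 : act 4 n9098 = n11706 := rfl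
theorem F19696 : act 0 n11706 = n9454 := d3_1 D11706 (iv D9454) (iv F15144)
theorem F19697 : act 2 n11706 = n9445 := d10_1 D11706 (iv D9445) (iv F15145)
def n11707 : Q := act 2 n9100
theorem D11707 : act 2 n9100 = n11707 := rfl
def n11708 : Q := act 5 n9100
theorem D11708 : act 5 n9100 = n11708 := rfl
theorem F19698 : act 1 n11708 = n9103 := d8_1 D11708 (iv D9103) (iv F15149)
theorem F19699 : act 3 n11708 = n9101 := d13_1 D11708 (iv D9101) D9100
def n11709 : Q := act 1 n9102
theorem D11709 : act 1 n9102 = n11709 := rfl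
def n11710 : Q := act 3 n9102
theorem D11710 : act 3 n9102 = n11710 := rfl
theorem F19700 : act 0 n11710 = n10122 := d2_1 D11710 F16841 F16050
theorem F19701 : act 2 n11710 = n9281 := d9_1 D11710 F15488 F11827 (iv F11590) (iv F12532) (iv F16054) (iv F16838) (iv D10121) (iv D7818) (iv D5963) F7265 (iv F6533) (iv F8741) D6990 D9102
theorem F19702 : act 4 n11710 = n9662 := d12_2 (iv F15999) D11710 F16132 (iv D9565) (iv F15998)
theorem F19703 : act 5 n11710 = n9280 := d15_8 (iv D7818) (iv D5963) F7265 (iv F6533) (iv F8741) D6990 D9102 D11710 F15484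
def n11711 : Q := act 5 n9102
theorem D11711 : act 5 n9102 = n11711 := rfl
theorem F19704 : act 0 n11711 = n10121 := d4_1 D11711 F16839 F16050
theorem F19705 : act 2 n11711 = n9103 := d11_1 D11711 (iv D9103) D9102
theorem F19706 : act 3 n11711 = n9280 := d13_1 D11711 (iv F19703) (iv D11710)
def n11712 : Q := act 4 n9103
theorem D11712 : act 4 n9103 = n11712 := rfl
theorem F19707 : act 0 n11712 = n11108 := d3_1 D11712 F18611 F16052
theorem F19708 : act 3 n11712 = n11072 := d12_1 D11712 F18565 F14266 F12691 (iv F15151)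
theorem F19709 : act 5 n11712 = n11071 := d14_2 D9103 D11712 F18561 F14268 F12271
def n11713 : Q := act 4 n9104
theorem D11713 : act 4 n9104 = n11713 := rfl
theorem F19710 : act 0 n11713 = n9106 := d3_1 D11713 (iv D9106) D9104
theorem F19711 : act 1 n11713 = n9116 := d7_1 D11713 (iv D9116) (iv F15152)
theorem F19712 : act 2 n11713 = n9165 := d10_1 D11713 (iv D9165) (iv F15153)
def n11714 : Q := act 3 n9106
theorem D11714 : act 3 n9106 = n11714 := rfl
theorem F19713 : act 1 n11714 = n9109 := d6_1 D11714 (iv D9109) (iv F15160)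
theorem F19714 : act 4 n11714 = n10902 := d12_2 D9106 D11714 (iv F18899) F18898 (iv D9105)
theorem F19715 : act 2 n10903 = n11714 := d10_3 F19714 (iv D10902) D10903
theorem F19716 : act 1 n9945 = n10905 := d5_3 F19715 F19713 (iv F16604) F18301 (iv F18300)
theorem F19717 : act 3 n10905 = n9942 := d6_2 (iv F16605) F19716 F16598
theorem F19718 : act 4 n10904 = n9945 := d7_0 F19716 (iv D10905) D10904
theorem F19719 : act 5 n10905 = n9941 := d8_2 D9945 F19716 F16597
theorem F19720 : act 2 n9941 = n10906 := d11_1 F19719 (iv D10906) (iv F18301)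
def n11715 : Q := act 5 n9106
theorem D11715 : act 5 n9106 = n11715 := rfl
theorem F19721 : act 1 n11715 = n9110 := d8_1 D11715 (iv D9110) (iv F15160)
theorem F19722 : act 2 n11715 = n9168 := d11_1 D11715 (iv D9168) (iv F15161)
def n11716 : Q := act 4 n9107
theorem D11716 : act 4 n9107 = n11716 := rfl
theorem F19723 : act 0 n11716 = n9150 := d3_1 D11716 (iv D9150) (iv F15162)
theorem F19724 : act 1 n11716 = n9111 := d7_1 D11716 (iv D9111) (iv F15163)
theorem F19725 : act 2 n11716 = n9169 := d10_1 D11716 (iv D9169) (iv F15164)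
def n11717 : Q := act 3 n9108
theorem D11717 : act 3 n9108 = n11717 := rfl
theorem F19726 : act 0 n11717 = n9123 := d2_1 D11717 (iv D9123) (iv F15166)
theorem F19727 : act 1 n11717 = n10902 := d6_1 D11717 (iv F18899) F18897
theorem F19728 : act 4 n11717 = n9109 := d12_2 D9108 D11717 (iv D9109) (iv D6994) D6993
theorem F19729 : act 2 n10904 = n11717 := d10_3 F19728 (iv F16604) (iv F19718)
def n11718 : Q := act 5 n9108
theorem D11718 : act 5 n9108 = n11718 := rfl
theorem F19730 : act 0 n11718 = n9124 := d4_1 D11718 (iv D9124) (iv F15166)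
theorem F19731 : act 2 n11718 = n10072 := d11_1 D11718 (iv D10072) (iv F15167)
def n11719 : Q := act 4 n9110
theorem D11719 : act 4 n9110 = n11719 := rfl
theorem F19732 : act 0 n11719 = n9128 := d3_1 D11719 (iv D9128) (iv F15169)
theorem F19733 : act 2 n11719 = n9112 := d10_1 D11719 (iv D9112) (iv F15170)
theorem F19734 : act 5 n11719 = n9111 := d14_2 D9110 D11719 (iv D9111) (iv D6995) D6994
def n11720 : Q := act 3 n9111
theorem D11720 : act 3 n9111 = n11720 := rfl
theorem F19735 : act 0 n11720 = n9129 := d2_1 D11720 (iv D9129) (iv F15171)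
def n11721 : Q := act 2 n9113
theorem D11721 : act 2 n9113 = n11721 := rfl
theorem F19736 : act 0 n11721 = n9130 := d1_1 D11721 (iv D9130) (iv F15177)
theorem F19737 : act 1 n11721 = n9651 := d5_1 D11721 F16116 F12321 F11687 (iv F15178)
theorem F19738 : act 4 n11721 = n9114 := d10_2 (iv F15179) D11721 (iv D9114)
theorem F19739 : act 5 n11721 = n9385 := d11_2 (iv F15180) D11721 F15678
def n11722 : Q := act 3 n9116
theorem D11722 : act 3 n9116 = n11722 := rfl
theorem F19740 : act 0 n11722 = n9119 := d2_1 D11722 (iv D9119) (iv F15188)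
def n11723 : Q := act 5 n9116
theorem D11723 : act 5 n9116 = n11723 := rfl
theorem F19741 : act 0 n11723 = n9120 := d4_1 D11723 (iv D9120) (iv F15188)
theorem F19742 : act 2 n11723 = n9133 := d11_1 D11723 (iv D9133) (iv F15189)
theorem F19743 : act 4 n11723 = n9153 := d14_1 D11723 (iv D9153) (iv D7028) (iv F11612) D9116
def n11724 : Q := act 3 n9118
theorem D11724 : act 3 n9118 = n11724 := rfl
theorem F19744 : act 1 n11724 = n9123 := d6_1 D11724 (iv D9123) (iv F15194)
theorem F19745 : act 4 n11724 = n9119 := d12_2 D9118 D11724 (iv D9119) (iv D7001) D7000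
def n11725 : Q := act 5 n9118
theorem D11725 : act 5 n9118 = n11725 := rfl
theorem F19746 : act 1 n11725 = n9124 := d8_1 D11725 (iv D9124) (iv F15194)
theorem F19747 : act 4 n11725 = n9158 := d14_1 D11725 (iv D9158) (iv D7032) (iv F11614) D9118
def n11726 : Q := act 2 n9119
theorem D11726 : act 2 n9119 = n11726 := rfl
def n11727 : Q := act 5 n9119
theorem D11727 : act 5 n9119 = n11727 := rfl
theorem F19748 : act 1 n11727 = n9127 := d8_1 D11727 (iv D9127) (iv F15195)
theorem F19749 : act 3 n11727 = n9120 := d13_1 D11727 (iv D9120) D9119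
def n11728 : Q := act 4 n9121
theorem D11728 : act 4 n9121 = n11728 := rfl
theorem F19750 : act 0 n11728 = n9342 := d3_1 D11728 F15616 (iv F15199)
theorem F19751 : act 1 n11728 = n9122 := d7_1 D11728 (iv D9122) D9121
theorem F19752 : act 2 n11728 = n9345 := d10_1 D11728 F15622 (iv F15200)
def n11729 : Q := act 3 n9122
theorem D11729 : act 3 n9122 = n11729 := rfl
theorem F19753 : act 0 n11729 = n10071 := d2_1 D11729 (iv D10071) (iv F15203)
theorem F19754 : act 4 n11729 = n10069 := d12_2 D9122 D11729 (iv D10069) (iv D7774) (iv F11618)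
def n11730 : Q := act 5 n9122
theorem D11730 : act 5 n9122 = n11730 := rfl
theorem F19755 : act 0 n11730 = n10072 := d4_1 D11730 (iv D10072) (iv F15203)
theorem F19756 : act 2 n11730 = n9124 := d11_1 D11730 (iv D9124) (iv F15204)
def n11731 : Q := act 2 n9123
theorem D11731 : act 2 n9123 = n11731 := rfl
theorem F19757 : act 0 n11731 = n10904 := d1_1 D11731 F19729 F19726
theorem F19758 : act 4 n11731 = n9126 := d10_2 (iv F15205) D11731 (iv D9126)
def n11732 : Q := act 5 n9123
theorem D11732 : act 5 n9123 = n11732 := rfl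
theorem F19759 : act 3 n11732 = n9124 := d13_1 D11732 (iv D9124) D9123
def n11733 : Q := act 4 n9124
theorem D11733 : act 4 n9124 = n11733 := rfl
theorem F19760 : act 1 n11733 = n9158 := d7_1 D11733 (iv F19747) F19746
theorem F19761 : act 5 n11733 = n9125 := d14_2 D9124 D11733 (iv D9125) (iv D7004) D7003
def n11734 : Q := act 3 n9125
theorem D11734 : act 3 n9125 = n11734 := rfl
theorem F19762 : act 1 n11734 = n9157 := d6_1 D11734 (iv D9157) (iv F15206)
theorem F19763 : act 4 n11734 = n9129 := d12_2 D9125 D11734 (iv D9129) (iv D7007) (iv F11620)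
def n11735 : Q := act 1 n9126
theorem D11735 : act 1 n9126 = n11735 := rfl
def n11736 : Q := act 4 n9127
theorem D11736 : act 4 n9127 = n11736 := rfl
def n11737 : Q := act 3 n9128
theorem D11737 : act 3 n9128 = n11737 := rfl
theorem F19764 : act 1 n11737 = n9160 := d6_1 D11737 F15269 (iv F15208)
theorem F19765 : act 5 n11737 = n9129 := d13_2 (iv F15210) D11737 (iv D9129)
def n11738 : Q := act 2 n9129
theorem D11738 : act 2 n9129 = n11738 := rfl
def n11739 : Q := act 3 n9130
theorem D11739 : act 3 n9130 = n11739 := rfl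
theorem F19766 : act 5 n11739 = n9396 := d13_2 (iv F15213) D11739 (iv D9396)
def n11740 : Q := act 4 n9131
theorem D11740 : act 4 n9131 = n11740 := rfl
theorem F19767 : act 2 n11740 = n9613 := d10_1 D11740 (iv D9613) (iv F15215)
def n11741 : Q := act 2 n9132
theorem D11741 : act 2 n9132 = n11741 := rfl
theorem F19768 : act 0 n11741 = n9134 := d1_1 D11741 (iv D9134) (iv F15216)
theorem F19769 : act 4 n11741 = n9154 := d10_2 (iv F15218) D11741 (iv D9154)
def n11742 : Q := act 3 n9134
theorem D11742 : act 3 n9134 = n11742 := rfl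
def n11743 : Q := act 0 n9135
theorem D11743 : act 0 n9135 = n11743 := rfl
theorem F19770 : act 1 n11743 = n9137 := d0_2 D9135 D11743 (iv D9137) (iv D7015) (iv F11637)
theorem F19771 : act 2 n11743 = n9214 := d1_2 (iv F15223) D11743 (iv D9214)
theorem F19772 : act 4 n11743 = n9381 := d3_2 (iv F15224) D11743 (iv D9381)
theorem F19773 : act 5 n11743 = n9647 := d4_2 (iv F15225) D11743 F16113
def n11744 : Q := act 3 n9135
theorem D11744 : act 3 n9135 = n11744 := rfl
theorem F19774 : act 1 n11744 = n9136 := d6_1 D11744 (iv D9136) D9135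
theorem F19775 : act 5 n11744 = n9650 := d13_2 (iv F15225) D11744 (iv D9650)
def n11745 : Q := act 4 n9136
theorem D11745 : act 4 n9136 = n11745 := rfl
theorem F19776 : act 0 n11745 = n9140 := d3_1 D11745 (iv D9140) (iv F15226)
theorem F19777 : act 3 n11745 = n9384 := d12_1 D11745 (iv D9384) (iv D7224) (iv F11638) D9136
def n11746 : Q := act 3 n9137
theorem D11746 : act 3 n9137 = n11746 := rfl
theorem F19778 : act 0 n11746 = n9138 := d2_1 D11746 (iv D9138) D9137
def n11747 : Q := act 2 n9138
theorem D11747 : act 2 n9138 = n11747 := rfl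
def n11748 : Q := act 4 n9138
theorem D11748 : act 4 n9138 = n11748 := rfl
theorem F19779 : act 1 n11748 = n9140 := d7_1 D11748 (iv D9140) (iv F15229)
theorem F19780 : act 3 n11748 = n9389 := d12_1 D11748 (iv D9389) (iv D7228) (iv F11640) D9138
def n11749 : Q := act 1 n9139
theorem D11749 : act 1 n9139 = n11749 := rfl
theorem F19781 : act 3 n11749 = n9238 := d6_2 (iv F15231) D11749 F15400
theorem F19782 : act 5 n11749 = n9612 := d8_2 (iv F15230) D11749 F16073
def n11750 : Q := act 4 n9139
theorem D11750 : act 4 n9139 = n11750 := rfl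
theorem F19783 : act 2 n11750 = n9140 := d10_1 D11750 (iv D9140) D9139
def n11751 : Q := act 5 n9140
theorem D11751 : act 5 n9140 = n11751 := rfl
theorem F19784 : act 3 n11751 = n9394 := d13_1 D11751 (iv D9394) (iv F15232)
def n11752 : Q := act 4 n9141
theorem D11752 : act 4 n9141 = n11752 := rfl
theorem F19785 : act 0 n11752 = n9346 := d3_1 D11752 (iv D9346) (iv F15233)
theorem F19786 : act 1 n11752 = n9142 := d7_1 D11752 (iv D9142) D9141
theorem F19787 : act 2 n11752 = n10018 := d10_1 D11752 (iv D10018) (iv F15234)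
theorem F19788 : act 5 n11752 = n9969 := d14_2 (iv F15236) D11752 (iv D9969) (iv D7686) (iv F11950)
def n11753 : Q := act 3 n9142
theorem D11753 : act 3 n9142 = n11753 := rfl
theorem F19789 : act 0 n11753 = n9145 := d2_1 D11753 (iv D9145) (iv F15237)
def n11754 : Q := act 5 n9142
theorem D11754 : act 5 n9142 = n11754 := rfl
theorem F19790 : act 0 n11754 = n9146 := d4_1 D11754 (iv D9146) (iv F15237)
theorem F19791 : act 1 n11754 = n9969 := d8_1 D11754 (iv F19788) F19786
theorem F19792 : act 2 n11754 = n9143 := d11_1 D11754 (iv D9143) (iv F15238)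
theorem F19793 : act 4 n11754 = n9349 := d14_1 D11754 (iv D9349) F11953 (iv F11644) D9142
def n11755 : Q := act 2 n9144
theorem D11755 : act 2 n9144 = n11755 := rfl
theorem F19794 : act 0 n11755 = n9147 := d1_1 D11755 (iv D9147) (iv F15242)
theorem F19795 : act 4 n11755 = n10031 := d10_2 (iv F15244) D11755 (iv D10031)
def n11756 : Q := act 2 n9145
theorem D11756 : act 2 n9145 = n11756 := rfl
def n11757 : Q := act 1 n9147
theorem D11757 : act 1 n9147 = n11757 := rfl
theorem F19796 : act 2 n11757 = n9148 := d5_2 D9147 D11757 (iv D9148) (iv D7025) (iv F11656)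
theorem F19797 : act 4 n11757 = n10033 := d7_2 (iv F15249) D11757 (iv D10033)
def n11758 : Q := act 3 n9147
theorem D11758 : act 3 n9147 = n11758 := rfl
def n11759 : Q := act 0 n9148
theorem D11759 : act 0 n9148 = n11759 := rfl
theorem F19798 : act 1 n11759 = n10030 := d0_2 D9148 D11759 (iv D10030) (iv D7738) (iv F11658)
theorem F19799 : act 4 n11759 = n10037 := d3_2 (iv F15250) D11759 (iv D10037)
def n11760 : Q := act 4 n9149
theorem D11760 : act 4 n9149 = n11760 := rfl
theorem F19800 : act 0 n11760 = n10096 := d3_1 D11760 (iv D10096) (iv F15251)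
theorem F19801 : act 1 n11760 = n9151 := d7_1 D11760 (iv D9151) (iv F15252)
theorem F19802 : act 2 n11760 = n9338 := d10_1 D11760 (iv D9338) (iv F15253)
def n11761 : Q := act 3 n9150
theorem D11761 : act 3 n9150 = n11761 := rfl
theorem F19803 : act 1 n11761 = n9152 := d6_1 D11761 (iv D9152) (iv F15255)
def n11762 : Q := act 5 n9150
theorem D11762 : act 5 n9150 = n11762 := rfl
theorem F19804 : act 1 n11762 = n9153 := d8_1 D11762 (iv D9153) (iv F15255)
def n11763 : Q := act 3 n9151
theorem D11763 : act 3 n9151 = n11763 := rfl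
theorem F19805 : act 0 n11763 = n9157 := d2_1 D11763 (iv D9157) (iv F15256)
theorem F19806 : act 4 n11763 = n9152 := d12_2 D9151 D11763 (iv D9152) (iv D7028) D7027
def n11764 : Q := act 5 n9151
theorem D11764 : act 5 n9151 = n11764 := rfl
theorem F19807 : act 0 n11764 = n9158 := d4_1 D11764 (iv D9158) (iv F15256)
theorem F19808 : act 2 n11764 = n9352 := d11_1 D11764 (iv D9352) (iv F15257)
def n11765 : Q := act 2 n9152
theorem D11765 : act 2 n9152 = n11765 := rfl
theorem F19809 : act 0 n11765 = n9159 := d1_1 D11765 (iv D9159) (iv F15258)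
theorem F19810 : act 3 n11765 = n9199 := d15_1 D11765 F15338 (iv F12965) F12964 (iv F9870) (iv F11668) (iv F15269) (iv D9160) (iv F15258)
theorem F19811 : act 1 n9200 = n11765 := d6_3 F19810 (iv D9199) D9200
theorem F19812 : act 4 n9616 = n11765 := d12_0 F19810 F15339 F11712 (iv F12292) D9616
theorem F19813 : act 2 n11763 = n9616 := d10_3 F19812 (iv D11765) (iv F19806)
def n11766 : Q := act 5 n9152
theorem D11766 : act 5 n9152 = n11766 := rfl
theorem F19814 : act 0 n11766 = n9160 := d4_1 D11766 (iv D9160) (iv F15258)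
theorem F19815 : act 3 n11766 = n9153 := d13_1 D11766 (iv D9153) D9152
def n11767 : Q := act 1 n9154
theorem D11767 : act 1 n9154 = n11767 := rfl
def n11768 : Q := act 3 n9154
theorem D11768 : act 3 n9154 = n11768 := rfl
theorem F19816 : act 0 n11768 = n9162 := d2_1 D11768 (iv D9162) (iv F15261)
def n11769 : Q := act 4 n9155
theorem D11769 : act 4 n9155 = n11769 := rfl
theorem F19817 : act 0 n11769 = n9347 := d3_1 D11769 (iv D9347) (iv F15262)
theorem F19818 : act 1 n11769 = n9156 := d7_1 D11769 (iv D9156) D9155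
theorem F19819 : act 2 n11769 = n10103 := d10_1 D11769 (iv D10103) (iv F15263)
theorem F19820 : act 3 n11769 = n9968 := d12_1 D11769 (iv D9968) (iv D7685) (iv F11950) (iv F15264)
def n11770 : Q := act 3 n9156
theorem D11770 : act 3 n9156 = n11770 := rfl
theorem F19821 : act 0 n11770 = n9351 := d2_1 D11770 F15638 (iv F15266)
theorem F19822 : act 1 n11770 = n9968 := d6_1 D11770 (iv F19820) F19818
theorem F19823 : act 4 n11770 = n9348 := d12_2 D9156 D11770 (iv D9348) F11953 (iv F11667)
def n11771 : Q := act 5 n9156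
theorem D11771 : act 5 n9156 = n11771 := rfl
theorem F19824 : act 0 n11771 = n9352 := d4_1 D11771 (iv D9352) (iv F15266)
theorem F19825 : act 2 n11771 = n9158 := d11_1 D11771 (iv D9158) (iv F15267)
def n11772 : Q := act 2 n9157
theorem D11772 : act 2 n9157 = n11772 := rfl
theorem F19826 : act 0 n11772 = n9616 := d1_1 D11772 (iv F19813) F19805
theorem F19827 : act 4 n11772 = n9159 := d10_2 (iv F15268) D11772 (iv D9159)
theorem F19828 : act 1 n9636 = n11772 := d0_0 F19826 F16078 F12293 (iv F12313) (iv F16102)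
theorem F19829 : act 3 n9615 = n11772 := d2_0 F19826 (iv D9616) D9615
def n11773 : Q := act 5 n9157
theorem D11773 : act 5 n9157 = n11773 := rfl
theorem F19830 : act 3 n11773 = n9158 := d13_1 D11773 (iv D9158) D9157
def n11774 : Q := act 1 n9159
theorem D11774 : act 1 n9159 = n11774 := rfl
theorem F19831 : act 0 n11774 = n9639 := d0_1 D11774 F16104 (iv F15340) F19811 F19809
theorem F19832 : act 4 n11774 = n9636 := d7_2 F19827 D11774 F19828
theorem F19833 : act 3 n9648 = n11774 := d12_5 F19832 (iv D9636) F12312 D7432 D9648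
def n11775 : Q := act 3 n9159
theorem D11775 : act 3 n9159 = n11775 := rfl
theorem F19834 : act 0 n11775 = n9199 := d2_1 D11775 (iv F19810) F19809
theorem F19835 : act 1 n11775 = n9648 := d6_1 D11775 F19833 (iv D11774)
theorem F19836 : act 4 n11775 = n9201 := d12_2 F19827 D11775 F15344 (iv F16077) F19829
theorem F19837 : act 2 n11775 = n9208 := d15_2 D9159 D11775 (iv F16940) F16939 (iv F13017) (iv F15260) (iv F19815) (iv D11766) F15258
def n11776 : Q := act 5 n9159
theorem D11776 : act 5 n9159 = n11776 := rfl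
theorem F19838 : act 2 n11776 = n9160 := d11_1 D11776 (iv D9160) D9159
def n11777 : Q := act 4 n9160
theorem D11777 : act 4 n9160 = n11777 := rfl
def n11778 : Q := act 0 n9161
theorem D11778 : act 0 n9161 = n11778 := rfl
theorem F19839 : act 2 n11778 = n9163 := d1_2 (iv F15270) D11778 (iv D9163)
def n11779 : Q := act 3 n9161
theorem D11779 : act 3 n9161 = n11779 := rfl
theorem F19840 : act 1 n11779 = n9162 := d6_1 D11779 (iv D9162) D9161
def n11780 : Q := act 2 n9162
theorem D11780 : act 2 n9162 = n11780 := rfl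
def n11781 : Q := act 4 n9162
theorem D11781 : act 4 n9162 = n11781 := rfl
def n11782 : Q := act 4 n9164
theorem D11782 : act 4 n9164 = n11782 := rfl
theorem F19841 : act 0 n11782 = n9166 := d3_1 D11782 (iv D9166) (iv F15271)
theorem F19842 : act 1 n11782 = n9177 := d7_1 D11782 (iv D9177) (iv F15272)
theorem F19843 : act 2 n11782 = n9297 := d10_1 D11782 (iv D9297) (iv F15273)
def n11783 : Q := act 3 n9165
theorem D11783 : act 3 n9165 = n11783 := rfl
theorem F19844 : act 0 n11783 = n9167 := d2_1 D11783 (iv D9167) (iv F15275)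
theorem F19845 : act 1 n11783 = n9178 := d6_1 D11783 (iv D9178) (iv F15276)
def n11784 : Q := act 5 n9165
theorem D11784 : act 5 n9165 = n11784 := rfl
theorem F19846 : act 0 n11784 = n9168 := d4_1 D11784 (iv D9168) (iv F15275)
theorem F19847 : act 1 n11784 = n9179 := d8_1 D11784 (iv D9179) (iv F15276)
def n11785 : Q := act 3 n9166
theorem D11785 : act 3 n9166 = n11785 := rfl
theorem F19848 : act 1 n11785 = n9170 := d6_1 D11785 (iv D9170) (iv F15277)
theorem F19849 : act 4 n11785 = n9167 := d12_2 D9166 D11785 (iv D9167) (iv D7039) D7038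
def n11786 : Q := act 5 n9166
theorem D11786 : act 5 n9166 = n11786 := rfl
theorem F19850 : act 1 n11786 = n9171 := d8_1 D11786 (iv D9171) (iv F15277)
theorem F19851 : act 2 n11786 = n10045 := d11_1 D11786 (iv D10045) (iv F15278)
theorem F19852 : act 4 n11786 = n9286 := d14_1 D11786 (iv D9286) (iv D7133) F11672 D9166
def n11787 : Q := act 2 n9167
theorem D11787 : act 2 n9167 = n11787 := rfl
def n11788 : Q := act 5 n9167
theorem D11788 : act 5 n9167 = n11788 := rfl
theorem F19853 : act 1 n11788 = n9173 := d8_1 D11788 (iv D9173) (iv F15279)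
theorem F19854 : act 3 n11788 = n9168 := d13_1 D11788 (iv D9168) D9167
def n11789 : Q := act 4 n9168
theorem D11789 : act 4 n9168 = n11789 := rfl
theorem F19855 : act 1 n11789 = n9174 := d7_1 D11789 (iv D9174) (iv F15280)
theorem F19856 : act 5 n11789 = n9169 := d14_2 D9168 D11789 (iv D9169) (iv D7040) D7039
def n11790 : Q := act 3 n9169
theorem D11790 : act 3 n9169 = n11790 := rfl
theorem F19857 : act 1 n11790 = n9175 := d6_1 D11790 (iv D9175) (iv F15281)
theorem F19858 : act 4 n11790 = n9285 := d12_2 D9169 D11790 (iv D9285) (iv D7133) (iv F11675)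
def n11791 : Q := act 2 n9170
theorem D11791 : act 2 n9170 = n11791 := rfl
theorem F19859 : act 0 n11791 = n9188 := d1_1 D11791 (iv D9188) (iv F15282)
theorem F19860 : act 4 n11791 = n9172 := d10_2 (iv F15283) D11791 (iv D9172)
def n11792 : Q := act 5 n9170
theorem D11792 : act 5 n9170 = n11792 := rfl
theorem F19861 : act 0 n11792 = n9189 := d4_1 D11792 (iv D9189) (iv F15282)
theorem F19862 : act 3 n11792 = n9171 := d13_1 D11792 (iv D9171) D9170
def n11793 : Q := act 1 n9172
theorem D11793 : act 1 n9172 = n11793 := rfl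
theorem F19863 : act 3 n11793 = n9225 := d6_2 (iv F15288) D11793 F15383
theorem F19864 : act 5 n11793 = n9224 := d8_2 F15289 D11793 F15382
def n11794 : Q := act 4 n9173
theorem D11794 : act 4 n9173 = n11794 := rfl
theorem F19865 : act 0 n11794 = n9195 := d3_1 D11794 (iv D9195) (iv F15290)
theorem F19866 : act 2 n11794 = n9226 := d10_1 D11794 (iv D9226) (iv F15291)
def n11795 : Q := act 3 n9174
theorem D11795 : act 3 n9174 = n11795 := rfl
theorem F19867 : act 0 n11795 = n9196 := d2_1 D11795 (iv D9196) (iv F15293)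
theorem F19868 : act 5 n11795 = n9175 := d13_2 (iv F15295) D11795 (iv D9175)
def n11796 : Q := act 2 n9175
theorem D11796 : act 2 n9175 = n11796 := rfl
theorem F19869 : act 0 n11796 = n9197 := d1_1 D11796 (iv D9197) (iv F15296)
theorem F19870 : act 4 n11796 = n9287 := d10_2 (iv F15297) D11796 (iv D9287)
def n11797 : Q := act 3 n9177
theorem D11797 : act 3 n9177 = n11797 := rfl
theorem F19871 : act 0 n11797 = n9182 := d2_1 D11797 (iv D9182) (iv F15303)
theorem F19872 : act 4 n11797 = n9178 := d12_2 D9177 D11797 (iv D9178) (iv D7048) D7047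
def n11798 : Q := act 5 n9177
theorem D11798 : act 5 n9177 = n11798 := rfl
theorem F19873 : act 0 n11798 = n9183 := d4_1 D11798 (iv D9183) (iv F15303)
def n11799 : Q := act 2 n9178
theorem D11799 : act 2 n9178 = n11799 := rfl
theorem F19874 : act 0 n11799 = n9184 := d1_1 D11799 (iv D9184) (iv F15304)
def n11800 : Q := act 5 n9178
theorem D11800 : act 5 n9178 = n11800 := rfl
theorem F19875 : act 0 n11800 = n9185 := d4_1 D11800 (iv D9185) (iv F15304)
theorem F19876 : act 3 n11800 = n9179 := d13_1 D11800 (iv D9179) D9178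
def n11801 : Q := act 4 n9180
theorem D11801 : act 4 n9180 = n11801 := rfl
theorem F19877 : act 0 n11801 = n9302 := d3_1 D11801 (iv D9302) (iv F15307)
theorem F19878 : act 1 n11801 = n9181 := d7_1 D11801 (iv D9181) D9180
theorem F19879 : act 2 n11801 = n9186 := d10_1 D11801 (iv D9186) (iv F15308)
def n11802 : Q := act 3 n9181
theorem D11802 : act 3 n9181 = n11802 := rfl
def n11803 : Q := act 5 n9181
theorem D11803 : act 5 n9181 = n11803 := rfl
theorem F19880 : act 2 n11803 = n9183 := d11_1 D11803 (iv D9183) (iv F15310)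
def n11804 : Q := act 2 n9182
theorem D11804 : act 2 n9182 = n11804 := rfl
theorem F19881 : act 4 n11804 = n9184 := d10_2 (iv F15312) D11804 (iv D9184)
def n11805 : Q := act 5 n9182
theorem D11805 : act 5 n9182 = n11805 := rfl
theorem F19882 : act 1 n11805 = n9189 := d8_1 D11805 (iv D9189) (iv F15311)
theorem F19883 : act 3 n11805 = n9183 := d13_1 D11805 (iv D9183) D9182
def n11806 : Q := act 1 n9184
theorem D11806 : act 1 n9184 = n11806 := rfl
theorem F19884 : act 2 n11806 = n9192 := d5_2 D9184 D11806 (iv D9192) (iv D7058) (iv F11692)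
def n11807 : Q := act 3 n9184
theorem D11807 : act 3 n9184 = n11807 := rfl
def n11808 : Q := act 5 n9184
theorem D11808 : act 5 n9184 = n11808 := rfl
theorem F19885 : act 2 n11808 = n9185 := d11_1 D11808 (iv D9185) D9184
def n11809 : Q := act 4 n9185
theorem D11809 : act 4 n9185 = n11809 := rfl
theorem F19886 : act 1 n11809 = n9195 := d7_1 D11809 (iv D9195) (iv F15314)
def n11810 : Q := act 5 n9186
theorem D11810 : act 5 n9186 = n11810 := rfl
theorem F19887 : act 0 n11810 = n10043 := d4_1 D11810 (iv D10043) (iv F15316)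
theorem F19888 : act 1 n11810 = n9187 := d8_1 D11810 (iv D9187) (iv F15317)
theorem F19889 : act 4 n11810 = n9276 := d14_1 D11810 (iv D9276) (iv D7124) (iv F11697) D9186
def n11811 : Q := act 1 n9188
theorem D11811 : act 1 n9188 = n11811 := rfl
theorem F19890 : act 4 n11811 = n9192 := d7_2 (iv F15321) D11811 (iv D9192)
def n11812 : Q := act 3 n9188
theorem D11812 : act 3 n9188 = n11812 := rfl
def n11813 : Q := act 5 n9188
theorem D11813 : act 5 n9188 = n11813 := rfl
theorem F19891 : act 2 n11813 = n9189 := d11_1 D11813 (iv D9189) D9188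
def n11814 : Q := act 4 n9189
theorem D11814 : act 4 n9189 = n11814 := rfl
theorem F19892 : act 5 n11814 = n9195 := d14_2 D9189 D11814 (iv D9195) (iv D7059) (iv F11700)
def n11815 : Q := act 3 n9190
theorem D11815 : act 3 n9190 = n11815 := rfl
theorem F19893 : act 0 n11815 = n9288 := d2_1 D11815 F15500 (iv F15323)
theorem F19894 : act 5 n11815 = n9191 := d13_2 (iv F15325) D11815 (iv D9191)
def n11816 : Q := act 2 n9191
theorem D11816 : act 2 n9191 = n11816 := rfl
theorem F19895 : act 0 n11816 = n9287 := d1_1 D11816 (iv D9287) (iv F15326)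
theorem F19896 : act 4 n11816 = n9197 := d10_2 (iv F15327) D11816 (iv D9197)
def n11817 : Q := act 0 n9192
theorem D11817 : act 0 n9192 = n11817 := rfl
def n11818 : Q := act 3 n9192
theorem D11818 : act 3 n9192 = n11818 := rfl
theorem F19897 : act 1 n11818 = n9193 := d6_1 D11818 (iv D9193) D9192
theorem F19898 : act 5 n9209 = n11818 := d8_0 F19897 F15330 D9209
def n11819 : Q := act 5 n9192
theorem D11819 : act 5 n9192 = n11819 := rfl
theorem F19899 : act 1 n11819 = n9194 := d8_1 D11819 (iv D9194) D9192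
theorem F19900 : act 3 n11819 = n9209 := d13_1 D11819 F19898 (iv D11818)
def n11820 : Q := act 4 n9193
theorem D11820 : act 4 n9193 = n11820 := rfl
theorem F19901 : act 0 n11820 = n9227 := d3_1 D11820 (iv D9227) (iv F15328)
theorem F19902 : act 2 n11820 = n9210 := d10_1 D11820 (iv D9210) (iv F15329)
theorem F19903 : act 5 n11820 = n9423 := d14_2 (iv F15330) D11820 (iv D9423) (iv D7255) (iv F11723)
def n11821 : Q := act 4 n9194
theorem D11821 : act 4 n9194 = n11821 := rfl
theorem F19904 : act 0 n11821 = n9226 := d3_1 D11821 (iv D9226) (iv F15331)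
theorem F19905 : act 2 n11821 = n9195 := d10_1 D11821 (iv D9195) (iv F15332)
theorem F19906 : act 3 n11821 = n9422 := d12_1 D11821 (iv D9422) (iv D7254) (iv F11723) (iv F15333)
def n11822 : Q := act 3 n9195
theorem D11822 : act 3 n9195 = n11822 := rfl
theorem F19907 : act 4 n11822 = n9196 := d12_2 D9195 D11822 (iv D9196) (iv D7060) (iv F11703)
def n11823 : Q := act 2 n9196
theorem D11823 : act 2 n9196 = n11823 := rfl
theorem F19908 : act 5 n11823 = n9197 := d11_2 (iv F15334) D11823 (iv D9197)
theorem F19909 : act 3 n11823 = n9643 := d15_1 D11823 F16110 F12315 F11687 (iv D7046) (iv F11682) D9175 (iv F19868) F19867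
def n11824 : Q := act 1 n9197
theorem D11824 : act 1 n9197 = n11824 := rfl
def n11825 : Q := act 3 n9197
theorem D11825 : act 3 n9197 = n11825 := rfl
theorem F19910 : act 5 n11825 = n9643 := d13_2 F19908 D11825 (iv F19909)
theorem F19911 : act 2 n11825 = n9644 := d15_2 D9197 D11825 F16111 F15302 (iv D9176) (iv F15294) D11795 F19868 F15296
def n11826 : Q := act 3 n9198
theorem D11826 : act 3 n9198 = n11826 := rfl
theorem F19912 : act 0 n11826 = n9644 := d2_1 D11826 F16111 (iv F15335)
theorem F19913 : act 5 n11826 = n9200 := d13_2 (iv F15337) D11826 (iv D9200)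
def n11827 : Q := act 2 n9200
theorem D11827 : act 2 n9200 = n11827 := rfl
theorem F19914 : act 0 n11827 = n9643 := d1_1 D11827 F16110 (iv F15340)
theorem F19915 : act 4 n11827 = n9618 := d10_2 (iv F15341) D11827 (iv D9618)
def n11828 : Q := act 1 n9202
theorem D11828 : act 1 n9202 = n11828 := rfl
def n11829 : Q := act 3 n9202
theorem D11829 : act 3 n9202 = n11829 := rfl
theorem F19916 : act 0 n11829 = n9205 := d2_1 D11829 (iv D9205) (iv F15346)
def n11830 : Q := act 5 n9202
theorem D11830 : act 5 n9202 = n11830 := rfl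
theorem F19917 : act 0 n11830 = n9206 := d4_1 D11830 (iv D9206) (iv F15346)
theorem F19918 : act 2 n11830 = n9203 := d11_1 D11830 (iv D9203) D9202
def n11831 : Q := act 0 n9204
theorem D11831 : act 0 n9204 = n11831 := rfl
theorem F19919 : act 2 n11831 = n9207 := d1_2 (iv F15349) D11831 (iv D9207)
theorem F19920 : act 5 n11831 = n9402 := d4_2 F15350 D11831 F15694
def n11832 : Q := act 3 n9204
theorem D11832 : act 3 n9204 = n11832 := rfl
theorem F19921 : act 1 n11832 = n9205 := d6_1 D11832 (iv D9205) D9204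
theorem F19922 : act 5 n11832 = n9403 := d13_2 F15350 D11832 (iv D9403)
def n11833 : Q := act 2 n9205
theorem D11833 : act 2 n9205 = n11833 := rfl
def n11834 : Q := act 4 n9205
theorem D11834 : act 4 n9205 = n11834 := rfl
def n11835 : Q := act 5 n9205
theorem D11835 : act 5 n9205 = n11835 := rfl
theorem F19923 : act 1 n11835 = n9403 := d8_1 D11835 (iv F19922) F19921
theorem F19924 : act 3 n11835 = n9206 := d13_1 D11835 (iv D9206) D9205
def n11836 : Q := act 0 n9209
theorem D11836 : act 0 n9209 = n11836 := rfl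
theorem F19925 : act 1 n11836 = n9223 := d0_2 D9209 D11836 (iv D9223) (iv D7083) (iv F11722)
theorem F19926 : act 4 n11836 = n9419 := d3_2 (iv F15356) D11836 (iv D9419)
def n11837 : Q := act 1 n9211
theorem D11837 : act 1 n9211 = n11837 := rfl
theorem F19927 : act 2 n11837 = n9383 := d5_2 D9211 D11837 F15675 F11986 (iv F11727)
theorem F19928 : act 4 n11837 = n9652 := d7_2 (iv F15360) D11837 F16117
theorem F19929 : act 5 n11837 = n9212 := d8_2 (iv F15361) D11837 (iv D9212)
def n11838 : Q := act 3 n9211
theorem D11838 : act 3 n9211 = n11838 := rfl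
theorem F19930 : act 0 n11838 = n9232 := d2_1 D11838 (iv D9232) (iv F15359)
theorem F19931 : act 2 n11838 = n9231 := d9_1 D11838 (iv D9231) (iv D7088) (iv D5389) F6615 D4043 D5391 D7091 D9235 (iv F18391) F18390 F14143 F10810 D7074 D9211
theorem F19932 : act 5 n11838 = n9213 := d13_2 (iv F15361) D11838 (iv D9213)
def n11839 : Q := act 0 n9212
theorem D11839 : act 0 n9212 = n11839 := rfl
theorem F19933 : act 1 n11839 = n9233 := d0_2 D9212 D11839 (iv D9233) (iv D7090) (iv F11729)
theorem F19934 : act 2 n11839 = n9381 := d1_2 (iv F15362) D11839 (iv D9381)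
theorem F19935 : act 4 n11839 = n9214 := d3_2 (iv F15363) D11839 (iv D9214)
def n11840 : Q := act 3 n9212
theorem D11840 : act 3 n9212 = n11840 := rfl
theorem F19936 : act 1 n11840 = n9213 := d6_1 D11840 (iv D9213) D9212
theorem F19937 : act 4 n11840 = n9653 := d12_2 (iv F15363) D11840 (iv D9653) (iv D7436) (iv F11731)
def n11841 : Q := act 2 n9213
theorem D11841 : act 2 n9213 = n11841 := rfl
theorem F19938 : act 0 n11841 = n9235 := d1_1 D11841 (iv D9235) (iv F15364)
theorem F19939 : act 3 n11841 = n9229 := d9_2 D9213 D11841 (iv D9229) (iv D7087) F8880 D5390 D7089 D9232 (iv F18387) (iv D10949) (iv D8503) (iv D6525) F8092 D5379 D7075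
theorem F19940 : act 4 n11841 = n9654 := d10_2 (iv F15365) D11841 (iv D9654)
theorem F19941 : act 5 n11841 = n9231 := d11_2 F19932 D11841 (iv F19931)
def n11842 : Q := act 1 n9215
theorem D11842 : act 1 n9215 = n11842 := rfl
theorem F19942 : act 2 n11842 = n9221 := d5_2 D9215 D11842 (iv D9221) (iv D7081) (iv F11733)
theorem F19943 : act 4 n11842 = n9217 := d7_2 (iv F15369) D11842 (iv D9217)
theorem F19944 : act 5 n9577 = n11842 := d11_0 F19942 F15378 D9577
def n11843 : Q := act 3 n9215
theorem D11843 : act 3 n9215 = n11843 := rfl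
def n11844 : Q := act 5 n9215
theorem D11844 : act 5 n9215 = n11844 := rfl
theorem F19945 : act 1 n11844 = n9577 := d8_1 D11844 F19944 (iv D11842)
theorem F19946 : act 2 n11844 = n9216 := d11_1 D11844 (iv D9216) D9215
def n11845 : Q := act 4 n9216
theorem D11845 : act 4 n9216 = n11845 := rfl
theorem F19947 : act 1 n11845 = n9222 := d7_1 D11845 (iv D9222) (iv F15370)
theorem F19948 : act 3 n11845 = n9360 := d12_1 D11845 (iv D9360) F11972 (iv F11736) (iv F15371)
theorem F19949 : act 5 n11845 = n9220 := d14_2 D9216 D11845 (iv D9220) (iv D7080) (iv F11734)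
def n11846 : Q := act 0 n9217
theorem D11846 : act 0 n9217 = n11846 := rfl
theorem F19950 : act 2 n11846 = n9223 := d1_2 (iv F15372) D11846 (iv D9223)
def n11847 : Q := act 3 n9217
theorem D11847 : act 3 n9217 = n11847 := rfl
theorem F19951 : act 1 n11847 = n9218 := d6_1 D11847 (iv D9218) D9217
def n11848 : Q := act 5 n9217
theorem D11848 : act 5 n9217 = n11848 := rfl
theorem F19952 : act 1 n11848 = n9219 := d8_1 D11848 (iv D9219) D9217
theorem F19953 : act 2 n11848 = n9225 := d11_1 D11848 (iv D9225) (iv F15372)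
def n11849 : Q := act 4 n9218
theorem D11849 : act 4 n9218 = n11849 := rfl
def n11850 : Q := act 4 n9219
theorem D11850 : act 4 n9219 = n11850 := rfl
theorem F19954 : act 2 n11850 = n9220 := d10_1 D11850 (iv D9220) (iv F15373)
def n11851 : Q := act 0 n9221
theorem D11851 : act 0 n9221 = n11851 := rfl
theorem F19955 : act 1 n11851 = n9419 := d0_2 D9221 D11851 (iv D9419) (iv D7253) (iv F11739)
theorem F19956 : act 3 n11851 = n9576 := d2_2 (iv F15376) D11851 F16020
theorem F19957 : act 4 n11851 = n9223 := d3_2 (iv F15377) D11851 (iv D9223)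
theorem F19958 : act 5 n11851 = n9575 := d4_2 (iv F15378) D11851 F16019
def n11852 : Q := act 3 n9223
theorem D11852 : act 3 n9223 = n11852 := rfl
theorem F19959 : act 0 n11852 = n9224 := d2_1 D11852 (iv D9224) D9223
def n11853 : Q := act 5 n9223
theorem D11853 : act 5 n9223 = n11853 := rfl
theorem F19960 : act 0 n11853 = n9225 := d4_1 D11853 (iv D9225) D9223
def n11854 : Q := act 2 n9224
theorem D11854 : act 2 n9224 = n11854 := rfl
def n11855 : Q := act 4 n9224
theorem D11855 : act 4 n9224 = n11855 := rfl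
theorem F19961 : act 1 n11855 = n9226 := d7_1 D11855 (iv D9226) (iv F15382)
theorem F19962 : act 3 n11855 = n9579 := d12_1 D11855 (iv D9579) (iv F15376) F15377 D9224
def n11856 : Q := act 4 n9225
theorem D11856 : act 4 n9225 = n11856 := rfl
theorem F19963 : act 1 n11856 = n9227 := d7_1 D11856 (iv D9227) (iv F15383)
theorem F19964 : act 5 n11856 = n9578 := d14_2 D9225 D11856 (iv D9578) (iv F15378) F15377
def n11857 : Q := act 5 n9226
theorem D11857 : act 5 n9226 = n11857 := rfl
theorem F19965 : act 3 n11857 = n9570 := d13_1 D11857 F16006 (iv F15384)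
def n11858 : Q := act 3 n9227
theorem D11858 : act 3 n9227 = n11858 := rfl
theorem F19966 : act 5 n11858 = n9569 := d13_2 (iv F15386) D11858 F16004
def n11859 : Q := act 2 n9228
theorem D11859 : act 2 n9228 = n11859 := rfl
theorem F19967 : act 4 n11859 = n9229 := d10_2 (iv F15388) D11859 (iv D9229)
def n11860 : Q := act 1 n9229
theorem D11860 : act 1 n9229 = n11860 := rfl
theorem F19968 : act 2 n11860 = n9363 := d5_2 D9229 D11860 F15647 F11973 (iv F11747)
theorem F19969 : act 5 n11860 = n9230 := d8_2 (iv F15389) D11860 (iv D9230)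
def n11861 : Q := act 0 n9230
theorem D11861 : act 0 n9230 = n11861 := rfl
theorem F19970 : act 2 n11861 = n9361 := d1_2 (iv F15390) D11861 (iv D9361)
def n11862 : Q := act 3 n9230
theorem D11862 : act 3 n9230 = n11862 := rfl
theorem F19971 : act 1 n11862 = n9231 := d6_1 D11862 (iv D9231) D9230
def n11863 : Q := act 4 n9231
theorem D11863 : act 4 n9231 = n11863 := rfl
def n11864 : Q := act 4 n9232
theorem D11864 : act 4 n9232 = n11864 := rfl
def n11865 : Q := act 3 n9233
theorem D11865 : act 3 n9233 = n11865 := rfl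
theorem F19972 : act 0 n11865 = n9234 := d2_1 D11865 (iv D9234) D9233
def n11866 : Q := act 2 n9234
theorem D11866 : act 2 n9234 = n11866 := rfl
def n11867 : Q := act 4 n9234
theorem D11867 : act 4 n9234 = n11867 := rfl
theorem F19973 : act 1 n11867 = n9236 := d7_1 D11867 (iv D9236) (iv F15394)
theorem F19974 : act 3 n11867 = n9239 := d12_1 D11867 (iv D9239) (iv D7093) (iv F11751) D9234
def n11868 : Q := act 1 n9235
theorem D11868 : act 1 n9235 = n11868 := rfl
def n11869 : Q := act 4 n9235
theorem D11869 : act 4 n9235 = n11869 := rfl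
theorem F19975 : act 0 n11869 = n9654 := d3_1 D11869 (iv F19940) F19938
theorem F19976 : act 2 n11869 = n9236 := d10_1 D11869 (iv D9236) D9235
def n11870 : Q := act 5 n9236
theorem D11870 : act 5 n9236 = n11870 := rfl
theorem F19977 : act 0 n11870 = n9646 := d4_1 D11870 F16112 (iv F15395)
theorem F19978 : act 3 n11870 = n9240 := d13_1 D11870 (iv D9240) (iv F15396)
def n11871 : Q := act 2 n9237
theorem D11871 : act 2 n9237 = n11871 := rfl
theorem F19979 : act 0 n11871 = n9238 := d1_1 D11871 (iv D9238) (iv F15397)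
theorem F19980 : act 5 n11871 = n9611 := d11_2 (iv F15399) D11871 F16072
def n11872 : Q := act 4 n9237
theorem D11872 : act 4 n9237 = n11872 := rfl
theorem F19981 : act 0 n11872 = n9239 := d3_1 D11872 (iv D9239) (iv F15397)
theorem F19982 : act 1 n11872 = n9649 := d7_1 D11872 (iv D9649) (iv F15398)
def n11873 : Q := act 4 n9238
theorem D11873 : act 4 n9238 = n11873 := rfl
theorem F19983 : act 1 n11873 = n9614 := d7_1 D11873 (iv D9614) (iv F15400)
theorem F19984 : act 2 n11873 = n9239 := d10_1 D11873 (iv D9239) D9238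
def n11874 : Q := act 5 n9239
theorem D11874 : act 5 n9239 = n11874 := rfl
theorem F19985 : act 1 n11874 = n9240 := d8_1 D11874 (iv D9240) (iv F15402)
theorem F19986 : act 4 n11874 = n9617 := d14_1 D11874 (iv D9617) F12292 (iv F11754) D9239
def n11875 : Q := act 1 n9241
theorem D11875 : act 1 n9241 = n11875 := rfl
def n11876 : Q := act 4 n9241
theorem D11876 : act 4 n9241 = n11876 := rfl
theorem F19987 : act 2 n11876 = n9242 := d10_1 D11876 (iv D9242) D9241
def n11877 : Q := act 5 n9242
theorem D11877 : act 5 n9242 = n11877 := rfl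
theorem F19988 : act 3 n11877 = n9366 := d13_1 D11877 (iv D9366) (iv F15406)
def n11878 : Q := act 4 n9243
theorem D11878 : act 4 n9243 = n11878 := rfl
def n11879 : Q := act 1 n9244
theorem D11879 : act 1 n9244 = n11879 := rfl
def n11880 : Q := act 3 n9244
theorem D11880 : act 3 n9244 = n11880 := rfl
theorem F19989 : act 0 n11880 = n9246 := d2_1 D11880 (iv D9246) (iv F15408)
theorem F19990 : act 2 n11880 = n9612 := d15_2 D9244 D11880 (iv D9612) F12287 (iv F11712) F11711 F10232 (iv F10233) (iv F11760)
def n11881 : Q := act 4 n9244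
theorem D11881 : act 4 n9244 = n11881 := rfl
theorem F19991 : act 0 n11881 = n9247 := d3_1 D11881 (iv D9247) (iv F15408)
theorem F19992 : act 2 n11881 = n9245 := d10_1 D11881 (iv D9245) D9244
def n11882 : Q := act 2 n9246
theorem D11882 : act 2 n9246 = n11882 := rfl
theorem F19993 : act 0 n11882 = n9612 := d1_1 D11882 (iv F19990) F19989
theorem F19994 : act 3 n11882 = n9611 := d15_3 D7099 D9246 D11882 F16072 (iv F15344) F15343 F13442 (iv F13443) F11760
def n11883 : Q := act 4 n9246
theorem D11883 : act 4 n9246 = n11883 := rfl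
def n11884 : Q := act 3 n9247
theorem D11884 : act 3 n9247 = n11884 := rfl
def n11885 : Q := act 5 n9248
theorem D11885 : act 5 n9248 = n11885 := rfl
theorem F19995 : act 1 n11885 = n9249 := d8_1 D11885 (iv D9249) (iv F15411)
theorem F19996 : act 4 n11885 = n10025 := d14_1 D11885 (iv D10025) (iv D7734) (iv F11765) D9248
def n11886 : Q := act 4 n9249
theorem D11886 : act 4 n9249 = n11886 := rfl
theorem F19997 : act 0 n11886 = n9271 := d3_1 D11886 (iv F18312) F18309
theorem F19998 : act 1 n11886 = n10025 := d7_1 D11886 (iv F19996) F19995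
theorem F19999 : act 2 n11886 = n9265 := d10_1 D11886 (iv F19654) F19652
theorem F20000 : act 5 n11886 = n9250 := d14_2 D9249 D11886 (iv D9250) (iv D7104) D7103
def n11887 : Q := act 3 n9250
theorem D11887 : act 3 n9250 = n11887 := rfl
theorem F20001 : act 0 n11887 = n9270 := d2_1 D11887 (iv D9270) (iv F15412)
theorem F20002 : act 1 n11887 = n10024 := d6_1 D11887 (iv D10024) (iv F15413)
theorem F20003 : act 4 n11887 = n9251 := d12_2 D9250 D11887 (iv D9251) (iv D7105) (iv F11769)
def n11888 : Q := act 2 n9251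
theorem D11888 : act 2 n9251 = n11888 := rfl
theorem F20004 : act 3 n11888 = n11075 := d15_1 D11888 (iv D11075) (iv D8597) F10884 F8142 (iv F10767) D8480 (iv F18315) F18313
def n11889 : Q := act 1 n9252
theorem D11889 : act 1 n9252 = n11889 := rfl
theorem F20005 : act 2 n11889 = n9261 := d5_2 D9252 D11889 (iv D9261) (iv D7113) (iv F11773)
theorem F20006 : act 4 n11889 = n9253 := d7_2 (iv F15417) D11889 (iv D9253)
theorem F20007 : act 5 n11889 = n11055 := d8_2 (iv F15418) D11889 F18534
def n11890 : Q := act 3 n9252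
theorem D11890 : act 3 n9252 = n11890 := rfl
theorem F20008 : act 0 n11890 = n9772 := d2_1 D11890 (iv D9772) (iv F15416)
theorem F20009 : act 5 n11890 = n11057 := d13_2 (iv F15418) D11890 (iv D11057)
def n11891 : Q := act 0 n9253
theorem D11891 : act 0 n9253 = n11891 := rfl
theorem F20010 : act 1 n11891 = n9762 := d0_2 D9253 D11891 F16304 F12452 (iv F11776)
theorem F20011 : act 2 n11891 = n9262 := d1_2 (iv F15419) D11891 (iv D9262)
theorem F20012 : act 5 n11891 = n9502 := d4_2 (iv F15420) D11891 (iv D9502)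
def n11892 : Q := act 3 n9253
theorem D11892 : act 3 n9253 = n11892 := rfl
theorem F20013 : act 1 n11892 = n9254 := d6_1 D11892 (iv D9254) D9253
theorem F20014 : act 5 n11892 = n9503 := d13_2 (iv F15420) D11892 (iv D9503)
def n11893 : Q := act 4 n9254
theorem D11893 : act 4 n9254 = n11893 := rfl
theorem F20015 : act 0 n11893 = n9506 := d3_1 D11893 (iv D9506) (iv F15421)
theorem F20016 : act 2 n11893 = n9493 := d10_1 D11893 F15863 (iv F15422)
def n11894 : Q := act 2 n9255
theorem D11894 : act 2 n9255 = n11894 := rfl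
theorem F20017 : act 0 n11894 = n9257 := d1_1 D11894 (iv D9257) (iv F15424)
theorem F20018 : act 4 n11894 = n10022 := d10_2 (iv F15426) D11894 (iv D10022)
def n11895 : Q := act 5 n9255
theorem D11895 : act 5 n9255 = n11895 := rfl
theorem F20019 : act 0 n11895 = n9258 := d4_1 D11895 (iv D9258) (iv F15424)
theorem F20020 : act 1 n11895 = n10032 := d8_1 D11895 (iv D10032) (iv F15425)
theorem F20021 : act 3 n11895 = n9256 := d13_1 D11895 (iv D9256) D9255
def n11896 : Q := act 1 n9257
theorem D11896 : act 1 n9257 = n11896 := rfl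
theorem F20022 : act 2 n11896 = n9259 := d5_2 D9257 D11896 (iv D9259) (iv D7111) (iv F11780)
theorem F20023 : act 4 n11896 = n10028 := d7_2 (iv F15430) D11896 (iv D10028)
theorem F20024 : act 5 n10040 = n11896 := d11_0 F20022 F15435 D10040
def n11897 : Q := act 3 n9257
theorem D11897 : act 3 n9257 = n11897 := rfl
def n11898 : Q := act 5 n9257
theorem D11898 : act 5 n9257 = n11898 := rfl
theorem F20025 : act 1 n11898 = n10040 := d8_1 D11898 F20024 (iv D11896)
theorem F20026 : act 2 n11898 = n9258 := d11_1 D11898 (iv D9258) D9257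
def n11899 : Q := act 4 n9258
theorem D11899 : act 4 n9258 = n11899 := rfl
theorem F20027 : act 1 n11899 = n9260 := d7_1 D11899 (iv D9260) (iv F15431)
theorem F20028 : act 3 n11899 = n10010 := d12_1 D11899 (iv D10010) F12745 (iv F11783) (iv F15432)
theorem F20029 : act 5 n11899 = n10011 := d14_2 D9258 D11899 F16706 F12748 (iv F11781)
def n11900 : Q := act 0 n9259
theorem D11900 : act 0 n9259 = n11900 := rfl
theorem F20030 : act 1 n11900 = n10037 := d0_2 D9259 D11900 (iv D10037) (iv D7743) (iv F11784)
theorem F20031 : act 3 n11900 = n10039 := d2_2 (iv F15433) D11900 F16747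
theorem F20032 : act 4 n11900 = n10030 := d3_2 (iv F15434) D11900 (iv D10030)
theorem F20033 : act 5 n11900 = n10038 := d4_2 (iv F15435) D11900 F16745
def n11901 : Q := act 0 n9261
theorem D11901 : act 0 n9261 = n11901 := rfl
theorem F20034 : act 1 n11901 = n9779 := d0_2 D9261 D11901 F16334 F12479 (iv F11791)
theorem F20035 : act 4 n11901 = n9262 := d3_2 (iv F15440) D11901 (iv D9262)
def n11902 : Q := act 4 n9263
theorem D11902 : act 4 n9263 = n11902 := rfl
theorem F20036 : act 1 n11902 = n10023 := d7_1 D11902 (iv D10023) (iv F15444)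
theorem F20037 : act 2 n11902 = n9264 := d10_1 D11902 (iv D9264) D9263
def n11903 : Q := act 5 n9264
theorem D11903 : act 5 n9264 = n11903 := rfl
theorem F20038 : act 1 n11903 = n9265 := d8_1 D11903 (iv D9265) (iv F15445)
theorem F20039 : act 3 n11903 = n10043 := d13_1 D11903 (iv D10043) (iv F15446)
def n11904 : Q := act 3 n9266
theorem D11904 : act 3 n9266 = n11904 := rfl
theorem F20040 : act 0 n11904 = n9494 := d2_1 D11904 (iv D9494) (iv F15449)
theorem F20041 : act 1 n11904 = n9267 := d6_1 D11904 (iv D9267) D9266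
theorem F20042 : act 5 n11904 = n9501 := d13_2 (iv F15452) D11904 (iv D9501)
def n11905 : Q := act 4 n9267
theorem D11905 : act 4 n9267 = n11905 := rfl
theorem F20043 : act 0 n11905 = n9272 := d3_1 D11905 (iv D9272) (iv F15453)
theorem F20044 : act 2 n11905 = n9504 := d10_1 D11905 (iv D9504) (iv F15454)
theorem F20045 : act 3 n11905 = n9669 := d12_1 D11905 (iv D9669) (iv D7450) (iv F11799) D9267
def n11906 : Q := act 4 n9268
theorem D11906 : act 4 n9268 = n11906 := rfl
theorem F20046 : act 0 n11906 = n9269 := d3_1 D11906 (iv D9269) D9268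
theorem F20047 : act 1 n11906 = n10019 := d7_1 D11906 (iv D10019) (iv F15456)
def n11907 : Q := act 3 n9269
theorem D11907 : act 3 n9269 = n11907 := rfl
theorem F20048 : act 1 n11907 = n9270 := d6_1 D11907 (iv D9270) (iv F15458)
def n11908 : Q := act 5 n9269
theorem D11908 : act 5 n9269 = n11908 := rfl
theorem F20049 : act 1 n11908 = n9271 := d8_1 D11908 (iv D9271) (iv F15458)
def n11909 : Q := act 2 n9270
theorem D11909 : act 2 n9270 = n11909 := rfl
theorem F20050 : act 3 n11909 = n10123 := d15_3 (iv F11801) D9270 D11909 (iv D10123) (iv D7820) (iv F12791) (iv F15448) (iv D9265) F11796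
theorem F20051 : act 5 n10125 = n11909 := d13_0 F20050 F16842 D10125
def n11910 : Q := act 5 n9270
theorem D11910 : act 5 n9270 = n11910 := rfl
theorem F20052 : act 2 n11910 = n10125 := d11_1 D11910 F20051 (iv D11909)
theorem F20053 : act 3 n11910 = n9271 := d13_1 D11910 (iv D9271) D9270
def n11911 : Q := act 5 n9272
theorem D11911 : act 5 n9272 = n11911 := rfl
theorem F20054 : act 1 n11911 = n9499 := d8_1 D11911 (iv D9499) (iv F15460)
theorem F20055 : act 2 n11911 = n9771 := d11_1 D11911 (iv D9771) (iv F15461)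
theorem F20056 : act 3 n11911 = n9672 := d13_1 D11911 (iv D9672) (iv F15462)
theorem F20057 : act 4 n11911 = n9507 := d14_1 D11911 (iv D9507) (iv D7324) (iv F11804) D9272
def n11912 : Q := act 2 n9273
theorem D11912 : act 2 n9273 = n11912 := rfl
theorem F20058 : act 0 n11912 = n9277 := d1_1 D11912 (iv D9277) (iv F15463)
theorem F20059 : act 4 n11912 = n10118 := d10_2 (iv F15465) D11912 (iv D10118)
theorem F20060 : act 5 n11912 = n9620 := d11_2 (iv F15466) D11912 (iv D9620)
def n11913 : Q := act 3 n9274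
theorem D11913 : act 3 n9274 = n11913 := rfl
theorem F20061 : act 0 n11913 = n10114 := d2_1 D11913 (iv D10114) (iv F15467)
def n11914 : Q := act 5 n9274
theorem D11914 : act 5 n9274 = n11914 := rfl
theorem F20062 : act 0 n11914 = n10115 := d4_1 D11914 (iv D10115) (iv F15467)
theorem F20063 : act 2 n11914 = n9276 := d11_1 D11914 (iv D9276) (iv F15468)
def n11915 : Q := act 2 n9275
theorem D11915 : act 2 n9275 = n11915 := rfl
theorem F20064 : act 0 n11915 = n10118 := d1_1 D11915 (iv D10118) (iv F15469)
theorem F20065 : act 1 n11915 = n9595 := d5_1 D11915 F16044 F12266 F11817 (iv F15470)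
theorem F20066 : act 4 n11915 = n9277 := d10_2 (iv F15471) D11915 (iv D9277)
def n11916 : Q := act 5 n9275
theorem D11916 : act 5 n9275 = n11916 := rfl
theorem F20067 : act 0 n11916 = n10119 := d4_1 D11916 (iv D10119) (iv F15469)
theorem F20068 : act 1 n11916 = n9278 := d8_1 D11916 (iv D9278) (iv F15470)
theorem F20069 : act 3 n11916 = n9276 := d13_1 D11916 (iv D9276) D9275
theorem F20070 : act 4 n11916 = n9624 := d14_1 D11916 (iv D9624) (iv D7415) (iv F11814) (iv F15471)
def n11917 : Q := act 3 n9277
theorem D11917 : act 3 n9277 = n11917 := rfl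
theorem F20071 : act 1 n11917 = n9594 := d6_1 D11917 (iv D9594) (iv F15474)
theorem F20072 : act 5 n11917 = n9622 := d13_2 (iv F15475) D11917 (iv D9622)
def n11918 : Q := act 1 n9279
theorem D11918 : act 1 n9279 = n11918 := rfl
theorem F20073 : act 3 n11918 = n9670 := d6_2 (iv F15483) D11918 (iv D9670)
theorem F20074 : act 4 n11918 = n10120 := d7_2 (iv F15481) D11918 (iv D10120)
theorem F20075 : act 5 n11918 = n9655 := d8_2 (iv F15482) D11918 (iv D9655)
def n11919 : Q := act 1 n9280
theorem D11919 : act 1 n9280 = n11919 := rfl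
theorem F20076 : act 2 n11919 = n9289 := d5_2 D9280 D11919 (iv D9289) (iv D7136) (iv F11823)
theorem F20077 : act 4 n11919 = n9282 := d7_2 (iv F15485) D11919 (iv D9282)
def n11920 : Q := act 0 n9282
theorem D11920 : act 0 n9282 = n11920 := rfl
theorem F20078 : act 2 n11920 = n9292 := d1_2 (iv F15490) D11920 (iv D9292)
theorem F20079 : act 5 n11920 = n9658 := d4_2 (iv F15491) D11920 (iv D9658)
def n11921 : Q := act 3 n9282
theorem D11921 : act 3 n9282 = n11921 := rfl
theorem F20080 : act 1 n11921 = n9283 := d6_1 D11921 (iv D9283) D9282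
theorem F20081 : act 5 n11921 = n9659 := d13_2 (iv F15491) D11921 (iv D9659)
def n11922 : Q := act 4 n9283
theorem D11922 : act 4 n9283 = n11922 := rfl
theorem F20082 : act 0 n11922 = n9671 := d3_1 D11922 (iv D9671) (iv F15492)
theorem F20083 : act 2 n11922 = n9669 := d10_1 D11922 (iv D9669) (iv F15494)
def n11923 : Q := act 3 n9284
theorem D11923 : act 3 n9284 = n11923 := rfl
theorem F20084 : act 0 n11923 = n9285 := d2_1 D11923 (iv D9285) (iv F15495)
def n11924 : Q := act 5 n9284
theorem D11924 : act 5 n9284 = n11924 := rfl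
theorem F20085 : act 0 n11924 = n9286 := d4_1 D11924 (iv D9286) (iv F15495)
theorem F20086 : act 2 n11924 = n10112 := d11_1 D11924 (iv D10112) (iv F15496)
def n11925 : Q := act 2 n9285
theorem D11925 : act 2 n9285 = n11925 := rfl
theorem F20087 : act 3 n11925 = n11197 := d15_3 (iv F11832) D9285 D11925 F18766 F14400 (iv F17703) F17704 (iv D10112) F12855
theorem F20088 : act 5 n11196 = n11925 := d13_0 F20087 (iv D11197) D11196
def n11926 : Q := act 5 n9285
theorem D11926 : act 5 n9285 = n11926 := rfl
theorem F20089 : act 1 n11926 = n9288 := d8_1 D11926 (iv D9288) (iv F15497)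
theorem F20090 : act 2 n11926 = n11196 := d11_1 D11926 F20088 (iv D11925)
theorem F20091 : act 3 n11926 = n9286 := d13_1 D11926 (iv D9286) D9285
def n11927 : Q := act 1 n9287
theorem D11927 : act 1 n9287 = n11927 := rfl
def n11928 : Q := act 3 n9287
theorem D11928 : act 3 n9287 = n11928 := rfl
theorem F20092 : act 2 n11928 = n9591 := d15_2 D9287 D11928 F16038 (iv F15477) F15478 (iv F15324) D11815 F19894 F15326
theorem F20093 : act 5 n9590 = n11928 := d11_0 F20092 (iv D9591) (iv F16037)
def n11929 : Q := act 5 n9287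
theorem D11929 : act 5 n9287 = n11929 := rfl
theorem F20094 : act 2 n11929 = n9288 := d11_1 D11929 (iv D9288) D9287
theorem F20095 : act 3 n11929 = n9590 := d13_1 D11929 F20093 (iv D11928)
def n11930 : Q := act 4 n9288
theorem D11930 : act 4 n9288 = n11930 := rfl
def n11931 : Q := act 0 n9289
theorem D11931 : act 0 n9289 = n11931 := rfl
theorem F20096 : act 1 n11931 = n9593 := d0_2 D9289 D11931 F16041 F12266 (iv F11834)
theorem F20097 : act 4 n11931 = n9292 := d3_2 (iv F15501) D11931 (iv D9292)
def n11932 : Q := act 3 n9289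
theorem D11932 : act 3 n9289 = n11932 := rfl
theorem F20098 : act 1 n11932 = n9290 := d6_1 D11932 (iv D9290) D9289
theorem F20099 : act 4 n11932 = n9551 := d12_2 (iv F15501) D11932 (iv D9551) F12226 (iv F11840)
def n11933 : Q := act 5 n9289
theorem D11933 : act 5 n9289 = n11933 := rfl
theorem F20100 : act 1 n11933 = n9291 := d8_1 D11933 (iv D9291) D9289
theorem F20101 : act 4 n11933 = n9665 := d14_1 D11933 (iv D9665) (iv D7446) (iv F11841) (iv F15501)
def n11934 : Q := act 2 n9290
theorem D11934 : act 2 n9290 = n11934 := rfl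
theorem F20102 : act 0 n11934 = n9590 := d1_1 D11934 F16037 (iv F15502)
theorem F20103 : act 4 n11934 = n9552 := d10_2 (iv F15503) D11934 (iv D9552)
def n11935 : Q := act 5 n9290
theorem D11935 : act 5 n9290 = n11935 := rfl
theorem F20104 : act 0 n11935 = n9591 := d4_1 D11935 (iv D9591) (iv F15502)
theorem F20105 : act 3 n11935 = n9291 := d13_1 D11935 (iv D9291) D9290
def n11936 : Q := act 4 n9295
theorem D11936 : act 4 n9295 = n11936 := rfl
theorem F20106 : act 0 n11936 = n9488 := d3_1 D11936 F15853 (iv F15520)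
theorem F20107 : act 1 n11936 = n11006 := d7_1 D11936 (iv D11006) (iv F15521)
theorem F20108 : act 2 n11936 = n9296 := d10_1 D11936 (iv D9296) D9295
theorem F20109 : act 3 n9483 = n11936 := d9_0 F20108 F15526 (iv D7289) (iv D5550) (iv F6918) D5606 D7364 D9557 F15983 F15854 F12127 F9177 (iv F9175) (iv F12125) (iv F15845)
theorem F20110 : act 5 n11936 = n9482 := d13_2 D9483 F20109 (iv D9482)
def n11937 : Q := act 5 n9296
theorem D11937 : act 5 n9296 = n11937 := rfl
theorem F20111 : act 0 n11937 = n9489 := d4_1 D11937 (iv D9489) (iv F15524)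
theorem F20112 : act 1 n11937 = n9424 := d8_1 D11937 (iv D9424) (iv F15525)
theorem F20113 : act 2 n11937 = n9482 := d11_1 D11937 (iv F20110) F20108
theorem F20114 : act 3 n11937 = n9462 := d13_1 D11937 (iv D9462) (iv F15526)
theorem F20115 : act 4 n11937 = n9672 := d14_1 D11937 (iv D9672) (iv D7452) (iv F11846) D9296
def n11938 : Q := act 3 n9297
theorem D11938 : act 3 n9297 = n11938 := rfl
theorem F20116 : act 0 n11938 = n10044 := d2_1 D11938 (iv D10044) (iv F15527)
theorem F20117 : act 1 n11938 = n9299 := d6_1 D11938 (iv D9299) (iv F15528)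
theorem F20118 : act 4 n11938 = n9298 := d12_2 D9297 D11938 (iv D9298) (iv D7143) D7142
def n11939 : Q := act 5 n9297
theorem D11939 : act 5 n9297 = n11939 := rfl
theorem F20119 : act 0 n11939 = n10045 := d4_1 D11939 (iv D10045) (iv F15527)
theorem F20120 : act 1 n11939 = n9300 := d8_1 D11939 (iv D9300) (iv F15528)
theorem F20121 : act 4 n11939 = n10112 := d14_1 D11939 (iv D10112) (iv D7809) (iv F11849) D9297
def n11940 : Q := act 2 n9298
theorem D11940 : act 2 n9298 = n11940 := rfl
theorem F20122 : act 0 n11940 = n10113 := d1_1 D11940 (iv D10113) (iv F15529)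
theorem F20123 : act 5 n11940 = n9315 := d11_2 (iv F15531) D11940 (iv D9315)
def n11941 : Q := act 2 n9299
theorem D11941 : act 2 n9299 = n11941 := rfl
theorem F20124 : act 0 n11941 = n9305 := d1_1 D11941 (iv D9305) (iv F15532)
theorem F20125 : act 4 n11941 = n9301 := d10_2 (iv F15533) D11941 (iv D9301)
def n11942 : Q := act 5 n9299
theorem D11942 : act 5 n9299 = n11942 := rfl
theorem F20126 : act 0 n11942 = n9306 := d4_1 D11942 (iv D9306) (iv F15532)
theorem F20127 : act 3 n11942 = n9300 := d13_1 D11942 (iv D9300) D9299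
theorem F20128 : act 4 n11942 = n9317 := d14_1 D11942 (iv D9317) F11876 (iv F11856) (iv F15533)
def n11943 : Q := act 1 n9301
theorem D11943 : act 1 n9301 = n11943 := rfl
theorem F20129 : act 3 n11943 = n9307 := d6_2 (iv F15537) D11943 (iv D9307)
theorem F20130 : act 5 n11943 = n9318 := d8_2 (iv F15538) D11943 (iv D9318)
def n11944 : Q := act 3 n9302
theorem D11944 : act 3 n9302 = n11944 := rfl
theorem F20131 : act 1 n11944 = n9303 := d6_1 D11944 (iv D9303) (iv F15539)
def n11945 : Q := act 5 n9302
theorem D11945 : act 5 n9302 = n11945 := rfl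
theorem F20132 : act 1 n11945 = n9304 := d8_1 D11945 (iv D9304) (iv F15539)
theorem F20133 : act 2 n11945 = n10043 := d11_1 D11945 (iv D10043) (iv F15540)
theorem F20134 : act 4 n11945 = n10115 := d14_1 D11945 (iv D10115) (iv D7813) (iv F11858) D9302
def n11946 : Q := act 2 n9303
theorem D11946 : act 2 n9303 = n11946 := rfl
def n11947 : Q := act 5 n9303
theorem D11947 : act 5 n9303 = n11947 := rfl
theorem F20135 : act 3 n11947 = n9304 := d13_1 D11947 (iv D9304) D9303
def n11948 : Q := act 1 n9305
theorem D11948 : act 1 n9305 = n11948 := rfl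
theorem F20136 : act 2 n11948 = n10124 := d5_2 D9305 D11948 (iv D10124) (iv D7821) (iv F11860)
theorem F20137 : act 4 n11948 = n9307 := d7_2 (iv F15543) D11948 (iv D9307)
def n11949 : Q := act 3 n9305
theorem D11949 : act 3 n9305 = n11949 := rfl
def n11950 : Q := act 5 n9305
theorem D11950 : act 5 n9305 = n11950 := rfl
theorem F20138 : act 2 n11950 = n9306 := d11_1 D11950 (iv D9306) D9305
theorem F20139 : act 4 n11950 = n9325 := d14_1 D11950 (iv D9325) F11882 (iv F11864) (iv F15543)
def n11951 : Q := act 0 n9307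
theorem D11951 : act 0 n9307 = n11951 := rfl
theorem F20140 : act 2 n11951 = n10126 := d1_2 (iv F15547) D11951 (iv D10126)
theorem F20141 : act 5 n11951 = n9326 := d4_2 (iv F15548) D11951 (iv D9326)
def n11952 : Q := act 2 n9309
theorem D11952 : act 2 n9309 = n11952 := rfl
theorem F20142 : act 0 n11952 = n9310 := d1_1 D11952 (iv D9310) (iv F15553)
theorem F20143 : act 3 n11952 = n9603 := d9_2 D9309 D11952 (iv D9603) (iv D7399) (iv D5630) (iv D4236) (iv F6935) D5624 D7391 D9594 F16043 (iv D8375) F10612 (iv F9098) (iv F11867)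
theorem F20144 : act 5 n11952 = n9592 := d11_2 (iv F15555) D11952 (iv D9592)
def n11953 : Q := act 3 n9310
theorem D11953 : act 3 n9310 = n11953 := rfl
theorem F20145 : act 0 n11953 = n9603 := d2_1 D11953 (iv F20143) F20142
theorem F20146 : act 1 n11953 = n9622 := d6_1 D11953 (iv D9622) (iv F15556)
theorem F20147 : act 2 n11953 = n9602 := d9_1 D11953 (iv D9602) (iv D7398) (iv D5629) (iv F9279) D7390 D9592 F16040 (iv D8378) (iv D6425) F7939 (iv F6771) (iv F8982) D7153 D9310
theorem F20148 : act 5 n11953 = n9594 := d13_2 (iv F15557) D11953 (iv D9594)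
def n11954 : Q := act 4 n9310
theorem D11954 : act 4 n9310 = n11954 := rfl
theorem F20149 : act 1 n11954 = n9623 := d7_1 D11954 (iv D9623) (iv F15556)
theorem F20150 : act 2 n11954 = n9311 := d10_1 D11954 (iv D9311) D9310
def n11955 : Q := act 5 n9311
theorem D11955 : act 5 n9311 = n11955 := rfl
theorem F20151 : act 1 n11955 = n9312 := d8_1 D11955 (iv D9312) (iv F15558)
theorem F20152 : act 4 n11955 = n9596 := d14_1 D11955 (iv D9596) (iv D7392) (iv F11870) D9311
def n11956 : Q := act 2 n9313
theorem D11956 : act 2 n9313 = n11956 := rfl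
theorem F20153 : act 4 n11956 = n9315 := d10_2 (iv F15563) D11956 (iv D9315)
def n11957 : Q := act 5 n9313
theorem D11957 : act 5 n9313 = n11957 := rfl
theorem F20154 : act 1 n11957 = n9317 := d8_1 D11957 (iv D9317) (iv F15562)
theorem F20155 : act 3 n11957 = n9314 := d13_1 D11957 (iv D9314) D9313
def n11958 : Q := act 1 n9315
theorem D11958 : act 1 n9315 = n11958 := rfl
theorem F20156 : act 2 n11958 = n9318 := d5_2 D9315 D11958 (iv D9318) (iv D7159) (iv F11874)
def n11959 : Q := act 3 n9315
theorem D11959 : act 3 n9315 = n11959 := rfl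
def n11960 : Q := act 1 n9316
theorem D11960 : act 1 n9316 = n11960 := rfl
theorem F20157 : act 4 n11960 = n9318 := d7_2 (iv F15566) D11960 (iv D9318)
def n11961 : Q := act 3 n9316
theorem D11961 : act 3 n9316 = n11961 := rfl
theorem F20158 : act 0 n11961 = n9324 := d2_1 D11961 (iv D9324) (iv F15565)
theorem F20159 : act 4 n11961 = n9324 := d12_2 (iv F15566) D11961 (iv D9324) F11882 (iv F11879)
def n11962 : Q := act 5 n9316
theorem D11962 : act 5 n9316 = n11962 := rfl
theorem F20160 : act 0 n11962 = n9325 := d4_1 D11962 (iv D9325) (iv F15565)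
theorem F20161 : act 2 n11962 = n9317 := d11_1 D11962 (iv D9317) D9316
def n11963 : Q := act 0 n9318
theorem D11963 : act 0 n9318 = n11963 := rfl
theorem F20162 : act 1 n11963 = n9326 := d0_2 D9318 D11963 (iv D9326) (iv D7165) (iv F11878)
theorem F20163 : act 3 n11963 = n9326 := d2_2 (iv F15569) D11963 (iv D9326)
def n11964 : Q := act 2 n9319
theorem D11964 : act 2 n9319 = n11964 := rfl
def n11965 : Q := act 5 n9319
theorem D11965 : act 5 n9319 = n11965 := rfl
theorem F20164 : act 1 n11965 = n9322 := d8_1 D11965 (iv D9322) (iv F15570)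
theorem F20165 : act 3 n11965 = n9320 := d13_1 D11965 (iv D9320) D9319
def n11966 : Q := act 1 n9321
theorem D11966 : act 1 n9321 = n11966 := rfl
def n11967 : Q := act 3 n9321
theorem D11967 : act 3 n9321 = n11967 := rfl
def n11968 : Q := act 5 n9321
theorem D11968 : act 5 n9321 = n11968 := rfl
theorem F20166 : act 2 n11968 = n9322 := d11_1 D11968 (iv D9322) D9321
def n11969 : Q := act 4 n9322
theorem D11969 : act 4 n9322 = n11969 := rfl
def n11970 : Q := act 0 n9323
theorem D11970 : act 0 n9323 = n11970 := rfl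
theorem F20167 : act 4 n11970 = n9326 := d3_2 (iv F15573) D11970 (iv D9326)
def n11971 : Q := act 3 n9323
theorem D11971 : act 3 n9323 = n11971 := rfl
theorem F20168 : act 1 n11971 = n9324 := d6_1 D11971 (iv D9324) D9323
def n11972 : Q := act 5 n9323
theorem D11972 : act 5 n9323 = n11972 := rfl
theorem F20169 : act 1 n11972 = n9325 := d8_1 D11972 (iv D9325) D9323
def n11973 : Q := act 2 n9324
theorem D11973 : act 2 n9324 = n11973 := rfl
def n11974 : Q := act 5 n9324
theorem D11974 : act 5 n9324 = n11974 := rfl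
theorem F20170 : act 3 n11974 = n9325 := d13_1 D11974 (iv D9325) D9324
def n11975 : Q := act 1 n9327
theorem D11975 : act 1 n9327 = n11975 := rfl
theorem F20171 : act 2 n11975 = n9329 := d5_2 D9327 D11975 (iv D9329) (iv D7168) (iv F11884)
theorem F20172 : act 4 n11975 = n9410 := d7_2 (iv F15575) D11975 (iv D9410)
theorem F20173 : act 5 n9721 = n11975 := d11_0 F20171 F15581 D9721
def n11976 : Q := act 3 n9327
theorem D11976 : act 3 n9327 = n11976 := rfl
def n11977 : Q := act 5 n9327
theorem D11977 : act 5 n9327 = n11977 := rfl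
theorem F20174 : act 0 n11977 = n10099 := d4_1 D11977 (iv F19662) F19660
theorem F20175 : act 1 n11977 = n9721 := d8_1 D11977 F20173 (iv D11975)
theorem F20176 : act 2 n11977 = n9328 := d11_1 D11977 (iv D9328) D9327
def n11978 : Q := act 4 n9328
theorem D11978 : act 4 n9328 = n11978 := rfl
theorem F20177 : act 0 n11978 = n10097 := d3_1 D11978 F16817 (iv F15576)
theorem F20178 : act 1 n11978 = n9330 := d7_1 D11978 (iv D9330) (iv F15577)
theorem F20179 : act 3 n11978 = n9338 := d12_1 D11978 (iv D9338) F11917 (iv F11889) (iv F15578)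
theorem F20180 : act 5 n11978 = n9413 := d14_2 D9328 D11978 (iv D9413) (iv D7248) (iv F11885)
def n11979 : Q := act 0 n9329
theorem D11979 : act 0 n9329 = n11979 := rfl
theorem F20181 : act 1 n11979 = n9333 := d0_2 D9329 D11979 (iv D9333) (iv D7172) (iv F11890)
theorem F20182 : act 3 n11979 = n9720 := d2_2 (iv F15579) D11979 F16220
theorem F20183 : act 4 n11979 = n9414 := d3_2 (iv F15580) D11979 (iv D9414)
theorem F20184 : act 5 n11979 = n9719 := d4_2 (iv F15581) D11979 F16219
def n11980 : Q := act 0 n9331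
theorem D11980 : act 0 n9331 = n11980 := rfl
theorem F20185 : act 1 n11980 = n9414 := d0_2 D9331 D11980 (iv D9414) (iv D7249) (iv F11897)
theorem F20186 : act 3 n11980 = n9922 := d2_2 (iv F15586) D11980 F16562
theorem F20187 : act 4 n11980 = n9333 := d3_2 (iv F15587) D11980 (iv D9333)
theorem F20188 : act 5 n11980 = n9921 := d4_2 (iv F15588) D11980 F16561
def n11981 : Q := act 3 n9333
theorem D11981 : act 3 n9333 = n11981 := rfl
theorem F20189 : act 0 n11981 = n9334 := d2_1 D11981 (iv D9334) D9333
theorem F20190 : act 1 n11981 = n9720 := d6_1 D11981 (iv F20182) F20181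
theorem F20191 : act 5 n9713 = n11981 := d8_0 F20190 (iv D9720) (iv F16203)
def n11982 : Q := act 5 n9333
theorem D11982 : act 5 n9333 = n11982 := rfl
theorem F20192 : act 0 n11982 = n9335 := d4_1 D11982 (iv D9335) D9333
theorem F20193 : act 1 n11982 = n9719 := d8_1 D11982 (iv F20184) F20181
theorem F20194 : act 2 n11982 = n10111 := d11_1 D11982 (iv F19680) F19679
theorem F20195 : act 3 n11982 = n9713 := d13_1 D11982 F20191 (iv D11981)
def n11983 : Q := act 2 n9334
theorem D11983 : act 2 n9334 = n11983 := rfl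
theorem F20196 : act 1 n11983 = n9711 := d5_1 D11983 F16199 F12370 (iv F11905) (iv F15594)
theorem F20197 : act 5 n11983 = n9709 := d11_2 F15595 D11983 F16197
def n11984 : Q := act 4 n9334
theorem D11984 : act 4 n9334 = n11984 := rfl
theorem F20198 : act 1 n11984 = n9336 := d7_1 D11984 (iv D9336) (iv F15594)
theorem F20199 : act 3 n11984 = n9925 := d12_1 D11984 (iv D9925) (iv F15586) F15587 D9334
theorem F20200 : act 5 n11984 = n9951 := d14_2 F15595 D11984 (iv D9951) (iv D7668) (iv F12372)
def n11985 : Q := act 4 n9335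
theorem D11985 : act 4 n9335 = n11985 := rfl
theorem F20201 : act 1 n11985 = n9337 := d7_1 D11985 (iv D9337) (iv F15596)
theorem F20202 : act 2 n11985 = n10108 := d10_1 D11985 F16828 (iv F15597)
theorem F20203 : act 3 n11985 = n9950 := d12_1 D11985 (iv D9950) (iv D7667) (iv F12372) (iv F15598)
theorem F20204 : act 5 n11985 = n9924 := d14_2 D9335 D11985 (iv D9924) (iv F15588) F15587
def n11986 : Q := act 1 n9340
theorem D11986 : act 1 n9340 = n11986 := rfl
theorem F20205 : act 2 n11986 = n11536 := d5_2 D9340 D11986 F19359 F14864 (iv F11924)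
theorem F20206 : act 5 n11534 = n11986 := d11_0 F20205 (iv D11536) D11534
def n11987 : Q := act 3 n9340
theorem D11987 : act 3 n9340 = n11987 := rfl
theorem F20207 : act 2 n11987 = n10076 := d15_2 D9340 D11987 F16798 (iv F15610) F15611 (iv F15086) (iv F19637) (iv D11675) F15081
theorem F20208 : act 5 n10075 = n11987 := d11_0 F20207 (iv D10076) D10075
def n11988 : Q := act 5 n9340
theorem D11988 : act 5 n9340 = n11988 := rfl
theorem F20209 : act 1 n11988 = n11534 := d8_1 D11988 F20206 (iv D11986)
theorem F20210 : act 2 n11988 = n9341 := d11_1 D11988 (iv D9341) D9340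
theorem F20211 : act 3 n11988 = n10075 := d13_1 D11988 F20208 (iv D11987)
def n11989 : Q := act 4 n9341
theorem D11989 : act 4 n9341 = n11989 := rfl
theorem F20212 : act 1 n11989 = n11538 := d7_1 D11989 (iv D11538) (iv F15613)
def n11990 : Q := act 3 n9342
theorem D11990 : act 3 n9342 = n11990 := rfl
theorem F20213 : act 1 n11990 = n9343 := d6_1 D11990 (iv D9343) D9342
theorem F20214 : act 4 n11990 = n10059 := d12_2 (iv F15616) D11990 (iv D10059) (iv D7766) (iv F11933)
def n11991 : Q := act 2 n9343
theorem D11991 : act 2 n9343 = n11991 := rfl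
theorem F20215 : act 0 n11991 = n10075 := d1_1 D11991 (iv D10075) (iv F15617)
theorem F20216 : act 4 n11991 = n10062 := d10_2 (iv F15618) D11991 (iv D10062)
def n11992 : Q := act 5 n9343
theorem D11992 : act 5 n9343 = n11992 := rfl
theorem F20217 : act 0 n11992 = n10076 := d4_1 D11992 (iv D10076) (iv F15617)
theorem F20218 : act 3 n11992 = n9344 := d13_1 D11992 (iv D9344) D9343
def n11993 : Q := act 2 n9348
theorem D11993 : act 2 n9348 = n11993 := rfl
theorem F20219 : act 0 n11993 = n9350 := d1_1 D11993 (iv D9350) (iv F15628)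
theorem F20220 : act 5 n11993 = n9979 := d11_2 F15630 D11993 F16648
def n11994 : Q := act 3 n9350
theorem D11994 : act 3 n9350 = n11994 := rfl
theorem F20221 : act 1 n11994 = n9983 := d6_1 D11994 F16656 (iv F15635)
theorem F20222 : act 5 n11994 = n9980 := d13_2 (iv F15636) D11994 (iv D9980)
def n11995 : Q := act 4 n9350
theorem D11995 : act 4 n9350 = n11995 := rfl
theorem F20223 : act 1 n11995 = n9986 := d7_1 D11995 (iv D9986) (iv F15635)
theorem F20224 : act 2 n11995 = n9351 := d10_1 D11995 (iv D9351) D9350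
def n11996 : Q := act 0 n9353
theorem D11996 : act 0 n9353 = n11996 := rfl
theorem F20225 : act 1 n11996 = n9361 := d0_2 D9353 D11996 (iv D9361) (iv D7209) (iv F11966)
def n11997 : Q := act 1 n9355
theorem D11997 : act 1 n9355 = n11997 := rfl
theorem F20226 : act 4 n11997 = n9906 := d7_2 (iv F15641) D11997 (iv D9906)
def n11998 : Q := act 3 n9355
theorem D11998 : act 3 n9355 = n11998 := rfl
def n11999 : Q := act 5 n9355
theorem D11999 : act 5 n9355 = n11999 := rfl
theorem F20227 : act 2 n11999 = n9356 := d11_1 D11999 (iv D9356) D9355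
def n12000 : Q := act 4 n9356
theorem D12000 : act 4 n9356 = n12000 := rfl
theorem F20228 : act 5 n12000 = n9909 := d14_2 D9356 D12000 (iv D9909) (iv D7641) (iv F11969)
def n12001 : Q := act 0 n9357
theorem D12001 : act 0 n9357 = n12001 := rfl
theorem F20229 : act 4 n12001 = n9361 := d3_2 (iv F15643) D12001 (iv D9361)
def n12002 : Q := act 3 n9357
theorem D12002 : act 3 n9357 = n12002 := rfl
theorem F20230 : act 1 n12002 = n9358 := d6_1 D12002 (iv D9358) D9357
def n12003 : Q := act 5 n9357
theorem D12003 : act 5 n9357 = n12003 := rfl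
theorem F20231 : act 1 n12003 = n9359 := d8_1 D12003 (iv D9359) D9357
def n12004 : Q := act 2 n9358
theorem D12004 : act 2 n9358 = n12004 := rfl
def n12005 : Q := act 4 n9358
theorem D12005 : act 4 n9358 = n12005 := rfl
theorem F20232 : act 3 n12005 = n9364 := d12_1 D12005 (iv D9364) (iv D7210) (iv F11971) D9358
def n12006 : Q := act 5 n9358
theorem D12006 : act 5 n9358 = n12006 := rfl
theorem F20233 : act 3 n12006 = n9359 := d13_1 D12006 (iv D9359) D9358
def n12007 : Q := act 4 n9359
theorem D12007 : act 4 n9359 = n12007 := rfl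
theorem F20234 : act 2 n12007 = n9360 := d10_1 D12007 (iv D9360) (iv F15644)
theorem F20235 : act 5 n12007 = n9365 := d14_2 D9359 D12007 (iv D9365) (iv D7211) (iv F11971)
def n12008 : Q := act 3 n9361
theorem D12008 : act 3 n9361 = n12008 := rfl
theorem F20236 : act 0 n12008 = n9362 := d2_1 D12008 (iv D9362) D9361
def n12009 : Q := act 5 n9361
theorem D12009 : act 5 n9361 = n12009 := rfl
theorem F20237 : act 0 n12009 = n9363 := d4_1 D12009 (iv D9363) D9361
def n12010 : Q := act 2 n9362
theorem D12010 : act 2 n9362 = n12010 := rfl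
theorem F20238 : act 1 n12010 = n11524 := d5_1 D12010 F19339 F14848 F13524 (iv F15646)
theorem F20239 : act 5 n12010 = n11522 := d11_2 F17603 D12010 F19335
def n12011 : Q := act 4 n9362
theorem D12011 : act 4 n9362 = n12011 := rfl
theorem F20240 : act 1 n12011 = n9364 := d7_1 D12011 (iv D9364) (iv F15646)
def n12012 : Q := act 4 n9363
theorem D12012 : act 4 n9363 = n12012 := rfl
theorem F20241 : act 1 n12012 = n9365 := d7_1 D12012 (iv D9365) (iv F15647)
def n12013 : Q := act 5 n9364
theorem D12013 : act 5 n9364 = n12013 := rfl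
theorem F20242 : act 2 n12013 = n11525 := d11_1 D12013 F19343 F17605
theorem F20243 : act 4 n12013 = n11524 := d14_1 D12013 (iv D11524) F14846 (iv F13522) D9364
def n12014 : Q := act 3 n9365
theorem D12014 : act 3 n9365 = n12014 := rfl
theorem F20244 : act 4 n12014 = n11523 := d12_2 D9365 D12014 (iv D11523) F14846 F13521
def n12015 : Q := act 3 n9367
theorem D12015 : act 3 n9367 = n12015 := rfl
theorem F20245 : act 0 n12015 = n9375 := d2_1 D12015 (iv F16241) F16239
theorem F20246 : act 1 n12015 = n9368 := d6_1 D12015 (iv D9368) D9367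
theorem F20247 : act 4 n12015 = n9368 := d12_2 F16224 D12015 (iv D9368) (iv F12390) F16225
theorem F20248 : act 2 n9395 = n12015 := d10_3 F20247 F15650 D9395
theorem F20249 : act 5 n9392 = n12015 := d8_0 F20246 (iv F15651) D9392
def n12016 : Q := act 5 n9367
theorem D12016 : act 5 n9367 = n12016 := rfl
theorem F20250 : act 1 n12016 = n9369 := d8_1 D12016 (iv D9369) D9367
theorem F20251 : act 3 n12016 = n9392 := d13_1 D12016 F20249 (iv D12015)
def n12017 : Q := act 4 n9369
theorem D12017 : act 4 n9369 = n12017 := rfl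
theorem F20252 : act 0 n12017 = n9377 := d3_1 D12017 (iv D9377) (iv F15652)
theorem F20253 : act 2 n12017 = n9370 := d10_1 D12017 (iv D9370) (iv F15653)
def n12018 : Q := act 3 n9371
theorem D12018 : act 3 n9371 = n12018 := rfl
theorem F20254 : act 0 n12018 = n9372 := d2_1 D12018 (iv D9372) D9371
theorem F20255 : act 1 n12018 = n9375 := d6_1 D12018 (iv F16241) F16240
theorem F20256 : act 4 n12018 = n9372 := d12_2 F16234 D12018 (iv D9372) (iv F12395) F16236
def n12019 : Q := act 5 n9371
theorem D12019 : act 5 n9371 = n12019 := rfl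
theorem F20257 : act 0 n12019 = n9373 := d4_1 D12019 (iv D9373) D9371
theorem F20258 : act 2 n12019 = n9379 := d11_1 D12019 (iv D9379) (iv F15656)
def n12020 : Q := act 2 n9372
theorem D12020 : act 2 n9372 = n12020 := rfl
def n12021 : Q := act 5 n9372
theorem D12021 : act 5 n9372 = n12021 := rfl
theorem F20259 : act 1 n12021 = n9376 := d8_1 D12021 (iv D9376) (iv F15657)
theorem F20260 : act 3 n12021 = n9373 := d13_1 D12021 (iv D9373) D9372
def n12022 : Q := act 1 n9374
theorem D12022 : act 1 n9374 = n12022 := rfl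
theorem F20261 : act 3 n12022 = n9383 := d6_2 (iv F15661) D12022 F15675
theorem F20262 : act 5 n12022 = n9382 := d8_2 F15662 D12022 F15674
def n12023 : Q := act 4 n9374
theorem D12023 : act 4 n9374 = n12023 := rfl
theorem F20263 : act 0 n12023 = n9395 := d3_1 D12023 (iv D9395) (iv F15660)
theorem F20264 : act 2 n12023 = n9375 := d10_1 D12023 (iv D9375) D9374
def n12024 : Q := act 5 n9375
theorem D12024 : act 5 n9375 = n12024 := rfl
theorem F20265 : act 0 n12024 = n9392 := d4_1 D12024 F20249 F20245
def n12025 : Q := act 4 n9376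
theorem D12025 : act 4 n9376 = n12025 := rfl
theorem F20266 : act 0 n12025 = n9393 := d3_1 D12025 (iv D9393) (iv F15663)
theorem F20267 : act 2 n12025 = n9384 := d10_1 D12025 (iv D9384) (iv F15664)
def n12026 : Q := act 3 n9377
theorem D12026 : act 3 n9377 = n12026 := rfl
def n12027 : Q := act 2 n9378
theorem D12027 : act 2 n9378 = n12027 := rfl
theorem F20268 : act 0 n12027 = n9380 := d1_1 D12027 (iv D9380) (iv F15667)
theorem F20269 : act 5 n12027 = n11526 := d11_2 F15668 D12027 F19344
def n12028 : Q := act 3 n9380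
theorem D12028 : act 3 n9380 = n12028 := rfl
theorem F20270 : act 1 n12028 = n11530 := d6_1 D12028 F19351 (iv F15671)
theorem F20271 : act 5 n12028 = n11527 := d13_2 (iv F15672) D12028 (iv D11527)
def n12029 : Q := act 3 n9381
theorem D12029 : act 3 n9381 = n12029 := rfl
theorem F20272 : act 0 n12029 = n9382 := d2_1 D12029 (iv D9382) D9381
theorem F20273 : act 1 n12029 = n9386 := d6_1 D12029 (iv D9386) (iv F15673)
def n12030 : Q := act 5 n9381
theorem D12030 : act 5 n9381 = n12030 := rfl
theorem F20274 : act 0 n12030 = n9383 := d4_1 D12030 (iv D9383) D9381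
theorem F20275 : act 1 n12030 = n9387 := d8_1 D12030 (iv D9387) (iv F15673)
def n12031 : Q := act 2 n9382
theorem D12031 : act 2 n9382 = n12031 := rfl
def n12032 : Q := act 4 n9382
theorem D12032 : act 4 n9382 = n12032 := rfl
theorem F20276 : act 1 n12032 = n9384 := d7_1 D12032 (iv D9384) (iv F15674)
def n12033 : Q := act 4 n9383
theorem D12033 : act 4 n9383 = n12033 := rfl
theorem F20277 : act 1 n12033 = n9385 := d7_1 D12033 (iv D9385) (iv F15675)
theorem F20278 : act 2 n12033 = n9652 := d10_1 D12033 (iv F19928) F19927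
theorem F20279 : act 5 n12033 = n9651 := d14_2 D9383 D12033 (iv D9651) (iv F15225) F15224
def n12034 : Q := act 5 n9384
theorem D12034 : act 5 n9384 = n12034 := rfl
theorem F20280 : act 0 n12034 = n9394 := d4_1 D12034 (iv D9394) (iv F15676)
def n12035 : Q := act 3 n9385
theorem D12035 : act 3 n9385 = n12035 := rfl
theorem F20281 : act 0 n12035 = n9396 := d2_1 D12035 (iv D9396) (iv F15677)
def n12036 : Q := act 2 n9386
theorem D12036 : act 2 n9386 = n12036 := rfl
theorem F20282 : act 0 n12036 = n9388 := d1_1 D12036 (iv D9388) (iv F15679)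
def n12037 : Q := act 4 n9386
theorem D12037 : act 4 n9386 = n12037 := rfl
theorem F20283 : act 0 n12037 = n9389 := d3_1 D12037 (iv D9389) (iv F15679)
def n12038 : Q := act 5 n9386
theorem D12038 : act 5 n9386 = n12038 := rfl
theorem F20284 : act 0 n12038 = n9390 := d4_1 D12038 (iv D9390) (iv F15679)
theorem F20285 : act 3 n12038 = n9387 := d13_1 D12038 (iv D9387) D9386
def n12039 : Q := act 4 n9387
theorem D12039 : act 4 n9387 = n12039 := rfl
theorem F20286 : act 0 n12039 = n9391 := d3_1 D12039 (iv D9391) (iv F15680)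
theorem F20287 : act 2 n12039 = n9399 := d10_1 D12039 (iv D9399) (iv F15681)
def n12040 : Q := act 1 n9388
theorem D12040 : act 1 n9388 = n12040 := rfl
theorem F20288 : act 2 n12040 = n9392 := d5_2 D9388 D12040 (iv D9392) (iv D7230) (iv F11989)
theorem F20289 : act 5 n9395 = n12040 := d11_0 F20288 F20249 (iv F20248)
theorem F20290 : act 4 n12040 = n9394 := d14_1 F20289 (iv D9394) (iv D7231) D7232 D9395
def n12041 : Q := act 3 n9388
theorem D12041 : act 3 n9388 = n12041 := rfl
def n12042 : Q := act 4 n9388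
theorem D12042 : act 4 n9388 = n12042 := rfl
theorem F20291 : act 1 n12042 = n9394 := d7_1 D12042 (iv F20290) (iv D12040)
theorem F20292 : act 2 n12042 = n9389 := d10_1 D12042 (iv D9389) D9388
theorem F20293 : act 5 n9389 = n12042 := d8_0 F20291 (iv D9394) (iv F15682)
def n12043 : Q := act 5 n9388
theorem D12043 : act 5 n9388 = n12043 := rfl
theorem F20294 : act 1 n12043 = n9395 := d8_1 D12043 F20289 (iv D12040)
theorem F20295 : act 2 n12043 = n9390 := d11_1 D12043 (iv D9390) D9388
theorem F20296 : act 4 n12043 = n9390 := d14_1 D12043 (iv D9390) D9389 F20293 (iv D12042)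
def n12044 : Q := act 3 n9391
theorem D12044 : act 3 n9391 = n12044 := rfl
theorem F20297 : act 1 n12044 = n9396 := d6_1 D12044 (iv D9396) (iv F15685)
def n12045 : Q := act 4 n9392
theorem D12045 : act 4 n9392 = n12045 := rfl
theorem F20298 : act 1 n12045 = n9393 := d7_1 D12045 (iv D9393) D9392
theorem F20299 : act 2 n12045 = n9394 := d10_1 D12045 (iv F20290) F20288
theorem F20300 : act 5 n12045 = n9393 := d14_2 (iv F20249) D12045 (iv D9393) F15651 (iv F20247)
def n12046 : Q := act 3 n9393
theorem D12046 : act 3 n9393 = n12046 := rfl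
def n12047 : Q := act 3 n9395
theorem D12047 : act 3 n9395 = n12047 := rfl
theorem F20301 : act 4 n12047 = n9396 := d12_2 D9395 D12047 (iv D9396) (iv D7233) (iv F11992)
def n12048 : Q := act 2 n9396
theorem D12048 : act 2 n9396 = n12048 := rfl
def n12049 : Q := act 1 n9397
theorem D12049 : act 1 n9397 = n12049 := rfl
theorem F20302 : act 0 n12049 = n10328 := d0_1 D12049 F17264 F13245 F13048 (iv F15688)
theorem F20303 : act 5 n12049 = n10324 := d8_2 (iv F17037) D12049 F17257
def n12050 : Q := act 3 n9397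
theorem D12050 : act 3 n9397 = n12050 := rfl
theorem F20304 : act 0 n12050 = n9400 := d2_1 D12050 (iv D9400) (iv F15688)
def n12051 : Q := act 4 n9397
theorem D12051 : act 4 n9397 = n12051 := rfl
theorem F20305 : act 0 n12051 = n9401 := d3_1 D12051 (iv D9401) (iv F15688)
theorem F20306 : act 2 n12051 = n9398 := d10_1 D12051 (iv D9398) D9397
theorem F20307 : act 5 n12051 = n10366 := d14_2 (iv F17037) D12051 (iv D10366) F13291 D10204
def n12052 : Q := act 2 n9400
theorem D12052 : act 2 n9400 = n12052 := rfl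
def n12053 : Q := act 4 n9400
theorem D12053 : act 4 n9400 = n12053 := rfl
def n12054 : Q := act 3 n9401
theorem D12054 : act 3 n9401 = n12054 := rfl
theorem F20308 : act 1 n12054 = n10369 := d6_1 D12054 F17325 (iv F15691)
theorem F20309 : act 5 n12054 = n10367 := d13_2 (iv F15693) D12054 (iv D10367)
def n12055 : Q := act 1 n9402
theorem D12055 : act 1 n9402 = n12055 := rfl
def n12056 : Q := act 3 n9402
theorem D12056 : act 3 n9402 = n12056 := rfl
theorem F20310 : act 0 n12056 = n9403 := d2_1 D12056 (iv D9403) (iv F15694)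
def n12057 : Q := act 2 n9403
theorem D12057 : act 2 n9403 = n12057 := rfl
def n12058 : Q := act 4 n9403
theorem D12058 : act 4 n9403 = n12058 := rfl
def n12059 : Q := act 2 n9404
theorem D12059 : act 2 n9404 = n12059 := rfl
theorem F20311 : act 4 n12059 = n9406 := d10_2 (iv F15695) D12059 (iv D9406)
def n12060 : Q := act 5 n9404
theorem D12060 : act 5 n9404 = n12060 := rfl
theorem F20312 : act 3 n12060 = n9405 := d13_1 D12060 (iv D9405) D9404
def n12061 : Q := act 1 n9406
theorem D12061 : act 1 n9406 = n12061 := rfl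
def n12062 : Q := act 4 n9407
theorem D12062 : act 4 n9407 = n12062 := rfl
theorem F20313 : act 0 n12062 = n11561 := d3_1 D12062 F19402 (iv F15696)
theorem F20314 : act 3 n12062 = n11538 := d12_1 D12062 (iv D11538) F14861 (iv F12002) (iv F15697)
def n12063 : Q := act 1 n9408
theorem D12063 : act 1 n9408 = n12063 := rfl
def n12064 : Q := act 3 n9408
theorem D12064 : act 3 n9408 = n12064 := rfl
theorem F20315 : act 0 n12064 = n9411 := d2_1 D12064 (iv D9411) (iv F15698)
theorem F20316 : act 2 n12064 = n11215 := d15_2 D9408 D12064 F18796 F14425 F11031 F10740 (iv F12006) (iv D7248) (iv F12003)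
theorem F20317 : act 5 n11214 = n12064 := d11_0 F20316 (iv D11215) D11214
def n12065 : Q := act 5 n9408
theorem D12065 : act 5 n9408 = n12065 := rfl
theorem F20318 : act 0 n12065 = n9412 := d4_1 D12065 (iv D9412) (iv F15698)
theorem F20319 : act 2 n12065 = n9409 := d11_1 D12065 (iv D9409) D9408
theorem F20320 : act 3 n12065 = n11214 := d13_1 D12065 F20317 (iv D12064)
def n12066 : Q := act 4 n9409
theorem D12066 : act 4 n9409 = n12066 := rfl
theorem F20321 : act 0 n12066 = n9413 := d3_1 D12066 (iv D9413) (iv F15699)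
theorem F20322 : act 1 n12066 = n10101 := d7_1 D12066 (iv F19668) F19666
theorem F20323 : act 3 n12066 = n10098 := d12_1 D12066 (iv F18903) F18902 F14519 (iv F15700)
theorem F20324 : act 5 n12066 = n10097 := d14_2 D9409 D12066 F16817 (iv F15112) F15111
def n12067 : Q := act 0 n9410
theorem D12067 : act 0 n9410 = n12067 := rfl
theorem F20325 : act 2 n12067 = n9414 := d1_2 (iv F15701) D12067 (iv D9414)
def n12068 : Q := act 3 n9410
theorem D12068 : act 3 n9410 = n12068 := rfl
theorem F20326 : act 1 n12068 = n9411 := d6_1 D12068 (iv D9411) D9410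
def n12069 : Q := act 5 n9410
theorem D12069 : act 5 n9410 = n12069 := rfl
theorem F20327 : act 1 n12069 = n9412 := d8_1 D12069 (iv D9412) D9410
theorem F20328 : act 2 n12069 = n9416 := d11_1 D12069 (iv D9416) (iv F15701)
def n12070 : Q := act 2 n9411
theorem D12070 : act 2 n9411 = n12070 := rfl
theorem F20329 : act 0 n12070 = n11215 := d1_1 D12070 (iv F20316) F20315
theorem F20330 : act 3 n12070 = n11208 := d9_2 D9411 D12070 F18788 F14418 F14067 (iv F15700) (iv F20319) F20320 (iv D11214) (iv D8706) F11029 F8277 F8039 D5521 D7247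
theorem F20331 : act 5 n11207 = n12070 := d13_0 F20330 (iv D11208) D11207
def n12071 : Q := act 4 n9411
theorem D12071 : act 4 n9411 = n12071 := rfl
def n12072 : Q := act 5 n9411
theorem D12072 : act 5 n9411 = n12072 := rfl
theorem F20332 : act 0 n12072 = n11214 := d4_1 D12072 F20317 F20315
theorem F20333 : act 2 n12072 = n11207 := d11_1 D12072 F20331 (iv D12070)
theorem F20334 : act 3 n12072 = n9412 := d13_1 D12072 (iv D9412) D9411
def n12073 : Q := act 4 n9412
theorem D12073 : act 4 n9412 = n12073 := rfl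
theorem F20335 : act 2 n12073 = n9413 := d10_1 D12073 (iv D9413) (iv F15702)
def n12074 : Q := act 3 n9414
theorem D12074 : act 3 n9414 = n12074 := rfl
theorem F20336 : act 0 n12074 = n9415 := d2_1 D12074 (iv D9415) D9414
theorem F20337 : act 1 n12074 = n9922 := d6_1 D12074 (iv F20186) F20185
theorem F20338 : act 5 n9866 = n12074 := d8_0 F20337 (iv D9922) (iv F16488)
def n12075 : Q := act 5 n9414
theorem D12075 : act 5 n9414 = n12075 := rfl
theorem F20339 : act 0 n12075 = n9416 := d4_1 D12075 (iv D9416) D9414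
theorem F20340 : act 1 n12075 = n9921 := d8_1 D12075 (iv F20188) F20185
theorem F20341 : act 3 n12075 = n9866 := d13_1 D12075 F20338 (iv D12074)
def n12076 : Q := act 2 n9415
theorem D12076 : act 2 n9415 = n12076 := rfl
theorem F20342 : act 1 n12076 = n9524 := d5_1 D12076 F15917 F12190 (iv F12008) (iv F15704)
theorem F20343 : act 5 n12076 = n9522 := d11_2 F15705 D12076 F15915
def n12077 : Q := act 4 n9415
theorem D12077 : act 4 n9415 = n12077 := rfl
theorem F20344 : act 1 n12077 = n9417 := d7_1 D12077 (iv D9417) (iv F15704)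
theorem F20345 : act 3 n12077 = n9723 := d12_1 D12077 (iv D9723) (iv F15579) F15580 D9415
theorem F20346 : act 5 n12077 = n9867 := d14_2 F15705 D12077 F16490 F12605 (iv F12603)
def n12078 : Q := act 4 n9416
theorem D12078 : act 4 n9416 = n12078 := rfl
theorem F20347 : act 1 n12078 = n9418 := d7_1 D12078 (iv D9418) (iv F15706)
theorem F20348 : act 3 n12078 = n9871 := d12_1 D12078 (iv D9871) (iv D7611) (iv F12603) (iv F15707)
theorem F20349 : act 5 n12078 = n9722 := d14_2 D9416 D12078 (iv D9722) (iv F15581) F15580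
def n12079 : Q := act 3 n9419
theorem D12079 : act 3 n9419 = n12079 := rfl
theorem F20350 : act 0 n12079 = n9420 := d2_1 D12079 (iv D9420) D9419
theorem F20351 : act 1 n12079 = n9576 := d6_1 D12079 (iv F19956) F19955
theorem F20352 : act 5 n9543 = n12079 := d8_0 F20351 (iv D9576) (iv F15948)
def n12080 : Q := act 5 n9419
theorem D12080 : act 5 n9419 = n12080 := rfl
theorem F20353 : act 0 n12080 = n9421 := d4_1 D12080 (iv D9421) D9419
theorem F20354 : act 1 n12080 = n9575 := d8_1 D12080 (iv F19958) F19955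
theorem F20355 : act 3 n12080 = n9543 := d13_1 D12080 F20352 (iv D12079)
def n12081 : Q := act 2 n9420
theorem D12081 : act 2 n9420 = n12081 := rfl
theorem F20356 : act 1 n12081 = n9539 := d5_1 D12081 F15941 F12209 (iv F12014) (iv F15716)
theorem F20357 : act 5 n12081 = n9537 := d11_2 F15717 D12081 F15940
def n12082 : Q := act 4 n9420
theorem D12082 : act 4 n9420 = n12082 := rfl
theorem F20358 : act 1 n12082 = n9422 := d7_1 D12082 (iv D9422) (iv F15716)
def n12083 : Q := act 4 n9421
theorem D12083 : act 4 n9421 = n12083 := rfl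
theorem F20359 : act 1 n12083 = n9423 := d7_1 D12083 (iv D9423) (iv F15718)
def n12084 : Q := act 1 n9425
theorem D12084 : act 1 n9425 = n12084 := rfl
theorem F20360 : act 2 n12084 = n9429 := d5_2 D9425 D12084 (iv D9429) (iv D7263) (iv F12027)
theorem F20361 : act 4 n12084 = n9936 := d7_2 (iv F15729) D12084 (iv D9936)
theorem F20362 : act 5 n9704 = n12084 := d11_0 F20360 F15739 D9704
def n12085 : Q := act 3 n9425
theorem D12085 : act 3 n9425 = n12085 := rfl
theorem F20363 : act 0 n12085 = n9710 := d2_1 D12085 (iv D9710) (iv F15728)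
def n12086 : Q := act 5 n9425
theorem D12086 : act 5 n9425 = n12086 := rfl
theorem F20364 : act 0 n12086 = n9711 := d4_1 D12086 (iv D9711) (iv F15728)
theorem F20365 : act 1 n12086 = n9704 := d8_1 D12086 F20362 (iv D12084)
theorem F20366 : act 2 n12086 = n9426 := d11_1 D12086 (iv D9426) D9425
def n12087 : Q := act 4 n9426
theorem D12087 : act 4 n9426 = n12087 := rfl
theorem F20367 : act 0 n12087 = n9712 := d3_1 D12087 (iv D9712) (iv F15730)
theorem F20368 : act 1 n12087 = n9430 := d7_1 D12087 (iv D9430) (iv F15731)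
theorem F20369 : act 3 n12087 = n9726 := d12_1 D12087 (iv D9726) F12393 (iv F12032) (iv F15732)
theorem F20370 : act 5 n12087 = n9939 := d14_2 D9426 D12087 (iv D9939) (iv D7661) (iv F12028)
def n12088 : Q := act 1 n9427
theorem D12088 : act 1 n9427 = n12088 := rfl
theorem F20371 : act 2 n12088 = n9936 := d5_2 D9427 D12088 (iv D9936) (iv D7660) (iv F12034)
theorem F20372 : act 4 n12088 = n9429 := d7_2 (iv F15734) D12088 (iv D9429)
def n12089 : Q := act 3 n9427
theorem D12089 : act 3 n9427 = n12089 := rfl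
theorem F20373 : act 0 n12089 = n9434 := d2_1 D12089 (iv D9434) (iv F15733)
theorem F20374 : act 4 n12089 = n9708 := d12_2 (iv F15734) D12089 (iv D9708) (iv D7477) (iv F12041)
def n12090 : Q := act 5 n9427
theorem D12090 : act 5 n9427 = n12090 := rfl
theorem F20375 : act 0 n12090 = n9435 := d4_1 D12090 (iv D9435) (iv F15733)
theorem F20376 : act 2 n12090 = n9428 := d11_1 D12090 (iv D9428) D9427
theorem F20377 : act 4 n12090 = n9707 := d14_1 D12090 (iv D9707) (iv D7476) F12042 (iv F15734)
def n12091 : Q := act 4 n9428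
theorem D12091 : act 4 n9428 = n12091 := rfl
theorem F20378 : act 0 n12091 = n9436 := d3_1 D12091 (iv D9436) (iv F15735)
theorem F20379 : act 1 n12091 = n9939 := d7_1 D12091 (iv D9939) (iv F15736)
theorem F20380 : act 2 n12091 = n9707 := d10_1 D12091 (iv F20377) F20376
theorem F20381 : act 3 n12091 = n9735 := d12_1 D12091 (iv D9735) F12409 (iv F12039) (iv F15737)
theorem F20382 : act 5 n12091 = n9430 := d14_2 D9428 D12091 (iv D9430) (iv D7264) (iv F12035)
def n12092 : Q := act 0 n9429
theorem D12092 : act 0 n9429 = n12092 := rfl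
theorem F20383 : act 1 n12092 = n9437 := d0_2 D9429 D12092 (iv D9437) (iv D7269) (iv F12040)
theorem F20384 : act 3 n12092 = n9703 := d2_2 (iv F15738) D12092 F16194
theorem F20385 : act 5 n12092 = n9702 := d4_2 (iv F15739) D12092 F16193
def n12093 : Q := act 1 n9431
theorem D12093 : act 1 n9431 = n12093 := rfl
theorem F20386 : act 2 n12093 = n9928 := d5_2 D9431 D12093 (iv D9928) (iv D7655) (iv F12047)
theorem F20387 : act 4 n12093 = n10942 := d7_2 (iv F15744) D12093 (iv D10942)
def n12094 : Q := act 3 n9431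
theorem D12094 : act 3 n9431 = n12094 := rfl
theorem F20388 : act 0 n12094 = n10966 := d2_1 D12094 (iv D10966) (iv F15743)
def n12095 : Q := act 5 n9431
theorem D12095 : act 5 n9431 = n12095 := rfl
theorem F20389 : act 0 n12095 = n10964 := d4_1 D12095 F18416 (iv F15743)
theorem F20390 : act 2 n12095 = n9432 := d11_1 D12095 (iv D9432) D9431
def n12096 : Q := act 4 n9432
theorem D12096 : act 4 n9432 = n12096 := rfl
theorem F20391 : act 0 n12096 = n10963 := d3_1 D12096 F18414 (iv F15745)
theorem F20392 : act 1 n12096 = n9931 := d7_1 D12096 (iv D9931) (iv F15746)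
theorem F20393 : act 3 n12096 = n9740 := d12_1 D12096 (iv D9740) F12418 (iv F12052) (iv F15747)
theorem F20394 : act 5 n12096 = n10940 := d14_2 D9432 D12096 F18367 F14128 (iv F12048)
def n12097 : Q := act 0 n9433
theorem D12097 : act 0 n9433 = n12097 := rfl
theorem F20395 : act 2 n12097 = n9714 := d1_2 (iv F15748) D12097 (iv D9714)
theorem F20396 : act 4 n12097 = n9437 := d3_2 (iv F15749) D12097 (iv D9437)
def n12098 : Q := act 3 n9433
theorem D12098 : act 3 n9433 = n12098 := rfl
theorem F20397 : act 1 n12098 = n9434 := d6_1 D12098 (iv D9434) D9433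
def n12099 : Q := act 5 n9433
theorem D12099 : act 5 n9433 = n12099 := rfl
theorem F20398 : act 1 n12099 = n9435 := d8_1 D12099 (iv D9435) D9433
theorem F20399 : act 2 n12099 = n9716 := d11_1 D12099 (iv D9716) (iv F15748)
def n12100 : Q := act 2 n9434
theorem D12100 : act 2 n9434 = n12100 := rfl
theorem F20400 : act 3 n12100 = n10964 := d15_3 D7267 D9434 D12100 (iv D10964) (iv D8513) (iv F12038) (iv F15737) (iv D9428) F12033
theorem F20401 : act 5 n10966 = n12100 := d13_0 F20400 F18416 D10966
def n12101 : Q := act 4 n9434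
theorem D12101 : act 4 n9434 = n12101 := rfl
theorem F20402 : act 0 n12101 = n9708 := d3_1 D12101 (iv F20374) F20373
theorem F20403 : act 3 n12101 = n9440 := d12_1 D12101 (iv D9440) (iv D7270) (iv F12053) D9434
def n12102 : Q := act 5 n9434
theorem D12102 : act 5 n9434 = n12102 := rfl
theorem F20404 : act 2 n12102 = n10966 := d11_1 D12102 F20401 (iv D12100)
theorem F20405 : act 3 n12102 = n9435 := d13_1 D12102 (iv D9435) D9434
def n12103 : Q := act 4 n9435
theorem D12103 : act 4 n9435 = n12103 := rfl
theorem F20406 : act 0 n12103 = n9707 := d3_1 D12103 (iv F20377) F20375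
theorem F20407 : act 2 n12103 = n9436 := d10_1 D12103 (iv D9436) (iv F15750)
theorem F20408 : act 5 n12103 = n9441 := d14_2 D9435 D12103 (iv D9441) (iv D7271) (iv F12053)
def n12104 : Q := act 3 n9437
theorem D12104 : act 3 n9437 = n12104 := rfl
theorem F20409 : act 0 n12104 = n9438 := d2_1 D12104 (iv D9438) D9437
theorem F20410 : act 1 n12104 = n9703 := d6_1 D12104 (iv F20384) F20383
theorem F20411 : act 5 n9690 = n12104 := d8_0 F20410 (iv D9703) (iv F16175)
def n12105 : Q := act 5 n9437
theorem D12105 : act 5 n9437 = n12105 := rfl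
theorem F20412 : act 0 n12105 = n9439 := d4_1 D12105 (iv D9439) D9437
theorem F20413 : act 1 n12105 = n9702 := d8_1 D12105 (iv F20385) F20383
theorem F20414 : act 2 n12105 = n9720 := d11_1 D12105 (iv D9720) (iv F15754)
theorem F20415 : act 3 n12105 = n9690 := d13_1 D12105 F20411 (iv D12104)
def n12106 : Q := act 2 n9438
theorem D12106 : act 2 n9438 = n12106 := rfl
theorem F20416 : act 1 n12106 = n9684 := d5_1 D12106 F16166 F12348 (iv F12058) (iv F15755)
theorem F20417 : act 5 n12106 = n9682 := d11_2 F15756 D12106 F16165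
def n12107 : Q := act 4 n9438
theorem D12107 : act 4 n9438 = n12107 := rfl
theorem F20418 : act 1 n12107 = n9440 := d7_1 D12107 (iv D9440) (iv F15755)
def n12108 : Q := act 4 n9439
theorem D12108 : act 4 n9439 = n12108 := rfl
theorem F20419 : act 1 n12108 = n9441 := d7_1 D12108 (iv D9441) (iv F15757)
theorem F20420 : act 2 n12108 = n9723 := d10_1 D12108 (iv D9723) (iv F15758)
def n12109 : Q := act 5 n9440
theorem D12109 : act 5 n9440 = n12109 := rfl
theorem F20421 : act 0 n12109 = n9701 := d4_1 D12109 F16192 (iv F15760)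
theorem F20422 : act 2 n12109 = n9689 := d11_1 D12109 F16174 (iv F15761)
theorem F20423 : act 4 n12109 = n9688 := d14_1 D12109 (iv D9688) F12351 (iv F12059) D9440
def n12110 : Q := act 3 n9441
theorem D12110 : act 3 n9441 = n12110 := rfl
theorem F20424 : act 0 n12110 = n9699 := d2_1 D12110 F16188 (iv F15762)
theorem F20425 : act 4 n12110 = n9687 := d12_2 D9441 D12110 (iv D9687) F12351 (iv F12062)
def n12111 : Q := act 1 n9442
theorem D12111 : act 1 n9442 = n12111 := rfl
theorem F20426 : act 2 n12111 = n9444 := d5_2 D9442 D12111 (iv D9444) (iv D7275) (iv F12066)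
def n12112 : Q := act 3 n9442
theorem D12112 : act 3 n9442 = n12112 := rfl
theorem F20427 : act 0 n12112 = n9683 := d2_1 D12112 (iv D9683) (iv F15764)
def n12113 : Q := act 5 n9442
theorem D12113 : act 5 n9442 = n12113 := rfl
theorem F20428 : act 0 n12113 = n9684 := d4_1 D12113 (iv D9684) (iv F15764)
theorem F20429 : act 2 n12113 = n9443 := d11_1 D12113 (iv D9443) D9442
def n12114 : Q := act 4 n9443
theorem D12114 : act 4 n9443 = n12114 := rfl
theorem F20430 : act 0 n12114 = n9685 := d3_1 D12114 (iv D9685) (iv F15765)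
theorem F20431 : act 1 n12114 = n9445 := d7_1 D12114 (iv D9445) (iv F15766)
theorem F20432 : act 3 n12114 = n9461 := d12_1 D12114 (iv D9461) F12099 (iv F12070) (iv F15767)
def n12115 : Q := act 0 n9444
theorem D12115 : act 0 n9444 = n12115 := rfl
theorem F20433 : act 1 n12115 = n9450 := d0_2 D9444 D12115 (iv D9450) (iv D7279) (iv F12071)
theorem F20434 : act 3 n12115 = n10126 := d2_2 (iv F15768) D12115 (iv D10126)
def n12116 : Q := act 0 n9446
theorem D12116 : act 0 n9446 = n12116 := rfl
theorem F20435 : act 2 n12116 = n9695 := d1_2 (iv F15771) D12116 (iv D9695)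
theorem F20436 : act 4 n12116 = n9450 := d3_2 (iv F15772) D12116 (iv D9450)
def n12117 : Q := act 3 n9446
theorem D12117 : act 3 n9446 = n12117 := rfl
theorem F20437 : act 1 n12117 = n9447 := d6_1 D12117 (iv D9447) D9446
def n12118 : Q := act 5 n9446
theorem D12118 : act 5 n9446 = n12118 := rfl
theorem F20438 : act 1 n12118 = n9448 := d8_1 D12118 (iv D9448) D9446
theorem F20439 : act 2 n12118 = n9697 := d11_1 D12118 (iv D9697) (iv F15771)
def n12119 : Q := act 4 n9447
theorem D12119 : act 4 n9447 = n12119 := rfl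
theorem F20440 : act 0 n12119 = n10125 := d3_1 D12119 F16844 F16377
theorem F20441 : act 3 n12119 = n9453 := d12_1 D12119 (iv D9453) (iv D7280) (iv F12075) D9447
def n12120 : Q := act 4 n9448
theorem D12120 : act 4 n9448 = n12120 := rfl
theorem F20442 : act 2 n12120 = n9449 := d10_1 D12120 (iv D9449) (iv F15773)
theorem F20443 : act 5 n12120 = n9454 := d14_2 D9448 D12120 (iv D9454) (iv D7281) (iv F12075)
def n12121 : Q := act 3 n9450
theorem D12121 : act 3 n9450 = n12121 := rfl
theorem F20444 : act 0 n12121 = n9451 := d2_1 D12121 (iv D9451) D9450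
theorem F20445 : act 1 n12121 = n10126 := d6_1 D12121 (iv F20434) F20433
def n12122 : Q := act 5 n9450
theorem D12122 : act 5 n9450 = n12122 := rfl
theorem F20446 : act 0 n12122 = n9452 := d4_1 D12122 (iv D9452) D9450
theorem F20447 : act 2 n12122 = n9703 := d11_1 D12122 (iv D9703) (iv F15777)
def n12123 : Q := act 2 n9451
theorem D12123 : act 2 n9451 = n12123 := rfl
theorem F20448 : act 1 n12123 = n10113 := d5_1 D12123 (iv D10113) F12858 (iv F12080) (iv F15778)
def n12124 : Q := act 4 n9451
theorem D12124 : act 4 n9451 = n12124 := rfl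
theorem F20449 : act 1 n12124 = n9453 := d7_1 D12124 (iv D9453) (iv F15778)
def n12125 : Q := act 4 n9452
theorem D12125 : act 4 n9452 = n12125 := rfl
theorem F20450 : act 1 n12125 = n9454 := d7_1 D12125 (iv D9454) (iv F15779)
theorem F20451 : act 2 n12125 = n9706 := d10_1 D12125 (iv D9706) (iv F15780)
def n12126 : Q := act 5 n9453
theorem D12126 : act 5 n9453 = n12126 := rfl
theorem F20452 : act 0 n12126 = n10123 := d4_1 D12126 F16842 (iv F15781)
theorem F20453 : act 2 n12126 = n10046 := d11_1 D12126 (iv D10046) (iv F15782)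
def n12127 : Q := act 3 n9454
theorem D12127 : act 3 n9454 = n12127 := rfl
def n12128 : Q := act 1 n9455
theorem D12128 : act 1 n9455 = n12128 := rfl
theorem F20454 : act 0 n12128 = n9752 := d0_1 D12128 F16284 F12428 (iv F12097) (iv F15784)
theorem F20455 : act 2 n12128 = n9464 := d5_2 D9455 D12128 (iv D9464) (iv D7292) (iv F12085)
theorem F20456 : act 4 n12128 = n11008 := d7_2 (iv F15785) D12128 (iv D11008)
theorem F20457 : act 3 n9749 = n12128 := d2_0 F20454 F16285 (iv F16281)
theorem F20458 : act 5 n9748 = n12128 := d4_0 F20454 (iv D9752) (iv F16280)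
def n12129 : Q := act 3 n9455
theorem D12129 : act 3 n9455 = n12129 := rfl
theorem F20459 : act 0 n12129 = n9459 := d2_1 D12129 (iv D9459) (iv F15784)
theorem F20460 : act 1 n12129 = n9749 := d6_1 D12129 F20457 (iv D12128)
theorem F20461 : act 2 n12129 = n9730 := d9_1 D12129 F16243 F12398 F9375 (iv F9147) (iv F12099) (iv F15798) F15799 (iv F16223) (iv F16225) (iv D7491) (iv D5695) (iv F9141) D7283 D9455
theorem F20462 : act 5 n12129 = n9728 := d15_8 (iv F16223) (iv F16225) (iv D7491) (iv D5695) (iv F9141) D7283 D9455 D12129 F16237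
def n12130 : Q := act 5 n9455
theorem D12130 : act 5 n9455 = n12130 := rfl
theorem F20463 : act 0 n12130 = n9460 := d4_1 D12130 (iv D9460) (iv F15784)
theorem F20464 : act 1 n12130 = n9748 := d8_1 D12130 F20458 (iv D12128)
theorem F20465 : act 2 n12130 = n9456 := d11_1 D12130 (iv D9456) D9455
theorem F20466 : act 3 n12130 = n9728 := d13_1 D12130 (iv F20462) (iv D12129)
def n12131 : Q := act 4 n9456
theorem D12131 : act 4 n9456 = n12131 := rfl
theorem F20467 : act 0 n12131 = n9461 := d3_1 D12131 (iv D9461) (iv F15786)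
theorem F20468 : act 1 n12131 = n9467 := d7_1 D12131 (iv D9467) (iv F15787)
theorem F20469 : act 3 n12131 = n9685 := d12_1 D12131 (iv D9685) F12349 (iv F12090) (iv F15788)
theorem F20470 : act 5 n12131 = n11011 := d14_2 D9456 D12131 (iv D11011) (iv D8550) (iv F12086)
def n12132 : Q := act 3 n9457
theorem D12132 : act 3 n9457 = n12132 := rfl
theorem F20471 : act 0 n12132 = n11009 := d2_1 D12132 (iv D11009) (iv F15789)
theorem F20472 : act 1 n12132 = n9767 := d6_1 D12132 (iv D9767) (iv F15790)
theorem F20473 : act 2 n12132 = n11605 := d15_2 D9457 D12132 F19499 F14970 F11442 (iv F10851) (iv F14197) (iv D8550) (iv F12091)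
theorem F20474 : act 5 n11604 = n12132 := d11_0 F20473 (iv D11605) D11604
def n12133 : Q := act 5 n9457
theorem D12133 : act 5 n9457 = n12133 := rfl
theorem F20475 : act 0 n12133 = n11010 := d4_1 D12133 (iv D11010) (iv F15789)
theorem F20476 : act 1 n12133 = n9768 := d8_1 D12133 (iv D9768) (iv F15790)
theorem F20477 : act 2 n12133 = n9458 := d11_1 D12133 (iv D9458) D9457
theorem F20478 : act 3 n12133 = n11604 := d13_1 D12133 F20474 (iv D12132)
def n12134 : Q := act 4 n9458
theorem D12134 : act 4 n9458 = n12134 := rfl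
theorem F20479 : act 0 n12134 = n11011 := d3_1 D12134 (iv D11011) (iv F15792)
theorem F20480 : act 1 n12134 = n9463 := d7_1 D12134 (iv D9463) (iv F15793)
theorem F20481 : act 5 n12134 = n9461 := d14_2 D9458 D12134 (iv D9461) (iv D7288) (iv F12093)
def n12135 : Q := act 2 n9459
theorem D12135 : act 2 n9459 = n12135 := rfl
theorem F20482 : act 0 n12135 = n9730 := d1_1 D12135 (iv F20461) F20459
theorem F20483 : act 1 n12135 = n9725 := d5_1 D12135 F16228 F12392 (iv F12411) (iv F15795)
theorem F20484 : act 3 n12135 = n9725 := d9_2 D9459 D12135 F16228 F12393 (iv F12089) (iv F15788) (iv F20465) F20466 (iv D9728) (iv D7494) (iv D5697) (iv D4284) (iv F6824) D5548 D7287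
theorem F20485 : act 5 n12135 = n9724 := d11_2 F15796 D12135 F16223
def n12136 : Q := act 4 n9459
theorem D12136 : act 4 n9459 = n12136 := rfl
theorem F20486 : act 1 n12136 = n9736 := d7_1 D12136 (iv D9736) (iv F15795)
def n12137 : Q := act 4 n9460
theorem D12137 : act 4 n9460 = n12137 := rfl
theorem F20487 : act 1 n12137 = n9509 := d7_1 D12137 (iv D9509) (iv F15797)
theorem F20488 : act 2 n12137 = n9461 := d10_1 D12137 (iv D9461) (iv F15798)
def n12138 : Q := act 0 n9464
theorem D12138 : act 0 n9464 = n12138 := rfl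
theorem F20489 : act 1 n12138 = n9472 := d0_2 D9464 D12138 (iv D9472) (iv D7296) (iv F12107)
theorem F20490 : act 2 n12138 = n9752 := d1_2 F20455 D12138 (iv F20454)
theorem F20491 : act 4 n12138 = n11012 := d3_2 (iv F15808) D12138 (iv D11012)
theorem F20492 : act 5 n9750 = n12138 := d11_0 F20490 (iv D9752) D9750
def n12139 : Q := act 3 n9464
theorem D12139 : act 3 n9464 = n12139 := rfl
theorem F20493 : act 1 n12139 = n9465 := d6_1 D12139 (iv D9465) D9464
theorem F20494 : act 2 n12139 = n9505 := d15_2 F20455 D12139 F15883 (iv D7522) (iv D5718) (iv F9400) D7510 D9752 (iv F20454)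
theorem F20495 : act 5 n9497 = n12139 := d11_0 F20494 F15884 (iv F15871)
def n12140 : Q := act 5 n9464
theorem D12140 : act 5 n9464 = n12140 := rfl
theorem F20496 : act 0 n12140 = n9750 := d4_1 D12140 F20492 (iv D12138)
theorem F20497 : act 1 n12140 = n9466 := d8_1 D12140 (iv D9466) D9464
theorem F20498 : act 2 n12140 = n9748 := d11_1 D12140 F20458 F20455
theorem F20499 : act 3 n12140 = n9497 := d13_1 D12140 F20495 (iv D12139)
def n12141 : Q := act 4 n9465
theorem D12141 : act 4 n9465 = n12141 := rfl
theorem F20500 : act 0 n12141 = n9476 := d3_1 D12141 (iv D9476) (iv F15809)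
theorem F20501 : act 2 n12141 = n9500 := d10_1 D12141 (iv D9500) (iv F15810)
theorem F20502 : act 3 n12141 = n11015 := d12_1 D12141 (iv D11015) (iv D8552) (iv F12108) D9465
def n12142 : Q := act 4 n9466
theorem D12142 : act 4 n9466 = n12142 := rfl
theorem F20503 : act 0 n12142 = n9478 := d3_1 D12142 (iv D9478) (iv F15812)
theorem F20504 : act 2 n12142 = n9467 := d10_1 D12142 (iv D9467) (iv F15813)
theorem F20505 : act 5 n12142 = n11016 := d14_2 D9466 D12142 (iv D11016) (iv D8553) (iv F12108)
def n12143 : Q := act 0 n9468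
theorem D12143 : act 0 n9468 = n12143 := rfl
theorem F20506 : act 1 n12143 = n11012 := d0_2 D9468 D12143 (iv D11012) (iv D8551) (iv F12111)
theorem F20507 : act 2 n12143 = n9485 := d1_2 (iv F15818) D12143 (iv D9485)
theorem F20508 : act 4 n12143 = n9472 := d3_2 (iv F15819) D12143 (iv D9472)
def n12144 : Q := act 3 n9468
theorem D12144 : act 3 n9468 = n12144 := rfl
theorem F20509 : act 1 n12144 = n9469 := d6_1 D12144 (iv D9469) D9468
theorem F20510 : act 5 n11023 = n12144 := d8_0 F20509 (iv F15822) D11023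
def n12145 : Q := act 5 n9468
theorem D12145 : act 5 n9468 = n12145 := rfl
theorem F20511 : act 1 n12145 = n9470 := d8_1 D12145 (iv D9470) D9468
theorem F20512 : act 2 n12145 = n9487 := d11_1 D12145 (iv D9487) (iv F15818)
theorem F20513 : act 3 n12145 = n11023 := d13_1 D12145 F20510 (iv D12144)
def n12146 : Q := act 4 n9469
theorem D12146 : act 4 n9469 = n12146 := rfl
theorem F20514 : act 0 n12146 = n11015 := d3_1 D12146 (iv D11015) (iv F15820)
theorem F20515 : act 2 n12146 = n11026 := d10_1 D12146 (iv D11026) (iv F15821)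
theorem F20516 : act 3 n12146 = n9476 := d12_1 D12146 (iv D9476) (iv D7297) (iv F12112) D9469
def n12147 : Q := act 4 n9470
theorem D12147 : act 4 n9470 = n12147 := rfl
theorem F20517 : act 0 n12147 = n11016 := d3_1 D12147 (iv D11016) (iv F15823)
theorem F20518 : act 2 n12147 = n9471 := d10_1 D12147 (iv D9471) (iv F15824)
theorem F20519 : act 5 n12147 = n9478 := d14_2 D9470 D12147 (iv D9478) (iv D7298) (iv F12112)
def n12148 : Q := act 3 n9472
theorem D12148 : act 3 n9472 = n12148 := rfl
theorem F20520 : act 0 n12148 = n9473 := d2_1 D12148 (iv D9473) D9472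
def n12149 : Q := act 5 n9472
theorem D12149 : act 5 n9472 = n12149 := rfl
theorem F20521 : act 0 n12149 = n9474 := d4_1 D12149 (iv D9474) D9472
theorem F20522 : act 1 n12149 = n9750 := d8_1 D12149 F20492 F20489
theorem F20523 : act 2 n12149 = n9491 := d11_1 D12149 (iv D9491) (iv F15830)
def n12150 : Q := act 2 n9473
theorem D12150 : act 2 n9473 = n12150 := rfl
def n12151 : Q := act 4 n9473
theorem D12151 : act 4 n9473 = n12151 := rfl
theorem F20524 : act 1 n12151 = n9476 := d7_1 D12151 (iv D9476) (iv F15831)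
def n12152 : Q := act 5 n9473
theorem D12152 : act 5 n9473 = n12152 := rfl
theorem F20525 : act 1 n12152 = n9477 := d8_1 D12152 (iv D9477) (iv F15831)
theorem F20526 : act 3 n12152 = n9474 := d13_1 D12152 (iv D9474) D9473
def n12153 : Q := act 4 n9474
theorem D12153 : act 4 n9474 = n12153 := rfl
theorem F20527 : act 1 n12153 = n9478 := d7_1 D12153 (iv D9478) (iv F15832)
theorem F20528 : act 2 n12153 = n9492 := d10_1 D12153 (iv D9492) (iv F15833)
def n12154 : Q := act 1 n9475
theorem D12154 : act 1 n9475 = n12154 := rfl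
theorem F20529 : act 0 n12154 = n9501 := d0_1 D12154 F15876 F12149 (iv F12145) (iv F15834)
theorem F20530 : act 3 n12154 = n9495 := d6_2 (iv F15835) D12154 F15866
theorem F20531 : act 5 n12154 = n9494 := d8_2 F15836 D12154 F15864
def n12155 : Q := act 4 n9475
theorem D12155 : act 4 n9475 = n12155 := rfl
theorem F20532 : act 0 n12155 = n9500 := d3_1 D12155 (iv D9500) (iv F15834)
theorem F20533 : act 2 n12155 = n9476 := d10_1 D12155 (iv D9476) D9475
theorem F20534 : act 3 n12155 = n9508 := d12_1 D12155 (iv D9508) (iv D7325) (iv F12143) (iv F15835)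
def n12156 : Q := act 5 n9476
theorem D12156 : act 5 n9476 = n12156 := rfl
def n12157 : Q := act 4 n9477
theorem D12157 : act 4 n9477 = n12157 := rfl
theorem F20535 : act 0 n12157 = n9498 := d3_1 D12157 (iv D9498) (iv F15837)
theorem F20536 : act 2 n12157 = n9496 := d10_1 D12157 (iv D9496) (iv F15838)
def n12158 : Q := act 3 n9478
theorem D12158 : act 3 n9478 = n12158 := rfl
def n12159 : Q := act 1 n9479
theorem D12159 : act 1 n9479 = n12159 := rfl
theorem F20537 : act 2 n12159 = n9481 := d5_2 D9479 D12159 (iv D9481) (iv D7302) (iv F12121)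
def n12160 : Q := act 3 n9479
theorem D12160 : act 3 n9479 = n12160 := rfl
theorem F20538 : act 0 n12160 = n11648 := d2_1 D12160 (iv D11648) (iv F15841)
theorem F20539 : act 2 n12160 = n11661 := d15_2 D9479 D12160 F19607 F15054 F11517 (iv F11510) (iv F15045) (iv D9047) (iv F12120)
theorem F20540 : act 5 n11659 = n12160 := d11_0 F20539 (iv D11661) D11659
def n12161 : Q := act 5 n9479
theorem D12161 : act 5 n9479 = n12161 := rfl
theorem F20541 : act 0 n12161 = n11649 := d4_1 D12161 (iv D11649) (iv F15841)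
theorem F20542 : act 2 n12161 = n9480 := d11_1 D12161 (iv D9480) D9479
theorem F20543 : act 3 n12161 = n11659 := d13_1 D12161 F20540 (iv D12160)
def n12162 : Q := act 4 n9480
theorem D12162 : act 4 n9480 = n12162 := rfl
theorem F20544 : act 0 n12162 = n11650 := d3_1 D12162 (iv D11650) (iv F15842)
theorem F20545 : act 1 n12162 = n9484 := d7_1 D12162 (iv D9484) (iv F15843)
def n12163 : Q := act 0 n9481
theorem D12163 : act 0 n9481 = n12163 := rfl
def n12164 : Q := act 3 n9481
theorem D12164 : act 3 n9481 = n12164 := rfl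
theorem F20546 : act 1 n12164 = n9482 := d6_1 D12164 (iv D9482) D9481
theorem F20547 : act 2 n11007 = n12164 := d5_0 F20546 (iv F20113) F20112 F15725 (iv F18484)
theorem F20548 : act 5 n11006 = n12164 := d8_0 F20546 (iv F20110) F20107
def n12165 : Q := act 5 n9481
theorem D12165 : act 5 n9481 = n12165 := rfl
theorem F20549 : act 1 n12165 = n9483 := d8_1 D12165 (iv D9483) D9481
theorem F20550 : act 3 n12165 = n11006 := d13_1 D12165 F20548 (iv D12164)
def n12166 : Q := act 4 n9482
theorem D12166 : act 4 n9482 = n12166 := rfl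
theorem F20551 : act 2 n12166 = n9672 := d10_1 D12166 (iv F20115) F20113
theorem F20552 : act 3 n12166 = n11109 := d12_1 D12166 F18614 F14287 F12230 D9482
theorem F20553 : act 5 n12166 = n9671 := d14_2 F20110 D12166 (iv D9671) (iv F15523) D11936
def n12167 : Q := act 4 n9483
theorem D12167 : act 4 n9483 = n12167 := rfl
theorem F20554 : act 0 n12167 = n9661 := d3_1 D12167 F16128 F15985
theorem F20555 : act 2 n12167 = n9484 := d10_1 D12167 (iv D9484) (iv F15845)
theorem F20556 : act 3 n12167 = n9656 := d12_1 D12167 (iv D9656) (iv F15522) D11936 (iv F20109)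
def n12168 : Q := act 5 n9485
theorem D12168 : act 5 n9485 = n12168 := rfl
theorem F20557 : act 0 n12168 = n9487 := d4_1 D12168 (iv D9487) D9485
theorem F20558 : act 1 n12168 = n9766 := d8_1 D12168 (iv D9766) (iv F15846)
theorem F20559 : act 3 n12168 = n11045 := d13_1 D12168 (iv D11045) F15848
def n12169 : Q := act 2 n9486
theorem D12169 : act 2 n9486 = n12169 := rfl
theorem F20560 : act 0 n12169 = n11041 := d1_1 D12169 F18515 (iv F15849)
theorem F20561 : act 4 n12169 = n11039 := d10_2 (iv F15851) D12169 F18512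
def n12170 : Q := act 5 n9486
theorem D12170 : act 5 n9486 = n12170 := rfl
theorem F20562 : act 0 n12170 = n11045 := d4_1 D12170 (iv D11045) (iv F15849)
theorem F20563 : act 1 n12170 = n9489 := d8_1 D12170 (iv D9489) (iv F15850)
theorem F20564 : act 3 n12170 = n9487 := d13_1 D12170 (iv D9487) D9486
def n12171 : Q := act 4 n9487
theorem D12171 : act 4 n9487 = n12171 := rfl
theorem F20565 : act 1 n12171 = n9490 := d7_1 D12171 (iv D9490) (iv F15852)
theorem F20566 : act 5 n12171 = n9492 := d14_2 D9487 D12171 (iv D9492) (iv D7310) (iv F12126)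
def n12172 : Q := act 1 n9488
theorem D12172 : act 1 n9488 = n12172 := rfl
theorem F20567 : act 4 n12172 = n9659 := d7_2 (iv F15853) D12172 F16125
def n12173 : Q := act 4 n9489
theorem D12173 : act 4 n9489 = n12173 := rfl
theorem F20568 : act 0 n12173 = n9672 := d3_1 D12173 (iv F20115) F20111
theorem F20569 : act 5 n12173 = n9669 := d14_2 D9489 D12173 (iv D9669) (iv F15519) F15518
def n12174 : Q := act 3 n9490
theorem D12174 : act 3 n9490 = n12174 := rfl
theorem F20570 : act 0 n12174 = n9507 := d2_1 D12174 F15886 (iv F15855)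
theorem F20571 : act 5 n12174 = n9493 := d13_2 (iv F15857) D12174 (iv D9493)
def n12175 : Q := act 4 n9491
theorem D12175 : act 4 n9491 = n12175 := rfl
theorem F20572 : act 0 n12175 = n9492 := d3_1 D12175 (iv D9492) (iv F15858)
theorem F20573 : act 1 n12175 = n9508 := d7_1 D12175 (iv D9508) (iv F15859)
def n12176 : Q := act 3 n9492
theorem D12176 : act 3 n9492 = n12176 := rfl
theorem F20574 : act 1 n12176 = n9493 := d6_1 D12176 (iv D9493) (iv F15861)
theorem F20575 : act 4 n12176 = n9501 := d12_2 D9492 D12176 (iv D9501) F12148 (iv F12135)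
def n12177 : Q := act 2 n9494
theorem D12177 : act 2 n9494 = n12177 := rfl
def n12178 : Q := act 4 n9494
theorem D12178 : act 4 n9494 = n12178 := rfl
theorem F20576 : act 1 n12178 = n9496 := d7_1 D12178 (iv D9496) (iv F15864)
theorem F20577 : act 3 n12178 = n9674 := d12_1 D12178 (iv D9674) (iv D7453) (iv F12139) D9494
def n12179 : Q := act 5 n9496
theorem D12179 : act 5 n9496 = n12179 := rfl
theorem F20578 : act 0 n12179 = n9499 := d4_1 D12179 (iv D9499) (iv F15869)
theorem F20579 : act 3 n12179 = n9675 := d13_1 D12179 (iv D9675) (iv F15870)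
def n12180 : Q := act 0 n9497
theorem D12180 : act 0 n9497 = n12180 := rfl
theorem F20580 : act 2 n12180 = n9769 := d1_2 (iv F15871) D12180 F16318
theorem F20581 : act 3 n12180 = n9750 := d2_2 F20499 D12180 (iv F20496)
def n12181 : Q := act 4 n9497
theorem D12181 : act 4 n9497 = n12181 := rfl
theorem F20582 : act 1 n12181 = n9498 := d7_1 D12181 (iv D9498) D9497
theorem F20583 : act 2 n12181 = n9770 := d10_1 D12181 (iv D9770) (iv F15871)
def n12182 : Q := act 3 n9498
theorem D12182 : act 3 n9498 = n12182 := rfl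
def n12183 : Q := act 5 n9498
theorem D12183 : act 5 n9498 = n12183 := rfl
theorem F20584 : act 2 n12183 = n9499 := d11_1 D12183 (iv D9499) (iv F15872)
def n12184 : Q := act 4 n9499
theorem D12184 : act 4 n9499 = n12184 := rfl
theorem F20585 : act 1 n12184 = n9507 := d7_1 D12184 (iv F20057) F20054
theorem F20586 : act 3 n12184 = n9510 := d12_1 D12184 F15892 (iv F15726) F15727 (iv F15873)
theorem F20587 : act 5 n12184 = n9500 := d14_2 D9499 D12184 (iv D9500) (iv D7317) D7316
def n12185 : Q := act 2 n9501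
theorem D12185 : act 2 n9501 = n12185 := rfl
def n12186 : Q := act 3 n9502
theorem D12186 : act 3 n9502 = n12186 := rfl
theorem F20588 : act 0 n12186 = n9503 := d2_1 D12186 (iv D9503) D9502
theorem F20589 : act 1 n12186 = n9769 := d6_1 D12186 (iv D9769) (iv F15877)
def n12187 : Q := act 2 n9503
theorem D12187 : act 2 n9503 = n12187 := rfl
def n12188 : Q := act 4 n9503
theorem D12188 : act 4 n9503 = n12188 := rfl
theorem F20590 : act 1 n12188 = n9504 := d7_1 D12188 (iv D9504) (iv F15880)
theorem F20591 : act 3 n12188 = n11054 := d12_1 D12188 (iv D11054) (iv D8583) (iv F12153) D9503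
def n12189 : Q := act 5 n9504
theorem D12189 : act 5 n9504 = n12189 := rfl
theorem F20592 : act 0 n12189 = n9771 := d4_1 D12189 (iv D9771) (iv F15881)
theorem F20593 : act 3 n12189 = n11056 := d13_1 D12189 (iv D11056) (iv F15882)
def n12190 : Q := act 0 n9505
theorem D12190 : act 0 n9505 = n12190 := rfl
theorem F20594 : act 3 n12190 = n9762 := d2_2 (iv F15883) D12190 F16304
theorem F20595 : act 5 n12190 = n9769 := d4_2 (iv F15884) D12190 F16318
def n12191 : Q := act 4 n9505
theorem D12191 : act 4 n9505 = n12191 := rfl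
theorem F20596 : act 1 n12191 = n9506 := d7_1 D12191 (iv D9506) D9505
def n12192 : Q := act 3 n9506
theorem D12192 : act 3 n9506 = n12192 := rfl
theorem F20597 : act 4 n12192 = n9772 := d12_2 D9506 D12192 (iv D9772) (iv D7531) (iv F12156)
def n12193 : Q := act 5 n9506
theorem D12193 : act 5 n9506 = n12193 := rfl
theorem F20598 : act 2 n12193 = n9507 := d11_1 D12193 (iv D9507) (iv F15885)
theorem F20599 : act 4 n12193 = n9771 := d14_1 D12193 (iv D9771) (iv D7530) (iv F12155) D9506
def n12194 : Q := act 5 n9508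
theorem D12194 : act 5 n9508 = n12194 := rfl
theorem F20600 : act 0 n12194 = n9510 := d4_1 D12194 (iv D9510) (iv F15887)
theorem F20601 : act 2 n12194 = n9754 := d11_1 D12194 (iv D9754) (iv F15888)
theorem F20602 : act 4 n12194 = n9766 := d14_1 D12194 (iv D9766) (iv D7525) (iv F12159) D9508
def n12195 : Q := act 3 n9509
theorem D12195 : act 3 n9509 = n12195 := rfl
theorem F20603 : act 0 n12195 = n9745 := d2_1 D12195 F16275 (iv F15889)
theorem F20604 : act 4 n12195 = n9733 := d12_2 D9509 D12195 (iv D9733) F12406 (iv F12163)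
def n12196 : Q := act 5 n9509
theorem D12196 : act 5 n9509 = n12196 := rfl
theorem F20605 : act 0 n12196 = n9754 := d4_1 D12196 (iv D9754) (iv F15889)
theorem F20606 : act 2 n12196 = n9510 := d11_1 D12196 (iv D9510) (iv F15890)
theorem F20607 : act 4 n12196 = n9768 := d14_1 D12196 (iv D9768) (iv D7526) (iv F12162) D9509
def n12197 : Q := act 1 n9511
theorem D12197 : act 1 n9511 = n12197 := rfl
theorem F20608 : act 2 n12197 = n9515 := d5_2 D9511 D12197 (iv D9515) (iv D7333) (iv F12166)
theorem F20609 : act 4 n12197 = n9910 := d7_2 (iv F15894) D12197 (iv D9910)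
def n12198 : Q := act 3 n9511
theorem D12198 : act 3 n9511 = n12198 := rfl
theorem F20610 : act 0 n12198 = n9827 := d2_1 D12198 (iv D9827) (iv F15893)
def n12199 : Q := act 5 n9511
theorem D12199 : act 5 n9511 = n12199 := rfl
theorem F20611 : act 0 n12199 = n9825 := d4_1 D12199 F16423 (iv F15893)
theorem F20612 : act 2 n12199 = n9512 := d11_1 D12199 (iv D9512) D9511
def n12200 : Q := act 4 n9512
theorem D12200 : act 4 n9512 = n12200 := rfl
theorem F20613 : act 0 n12200 = n9824 := d3_1 D12200 F16421 (iv F15895)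
theorem F20614 : act 1 n12200 = n9516 := d7_1 D12200 (iv D9516) (iv F15896)
theorem F20615 : act 3 n12200 = n9817 := d12_1 D12200 (iv D9817) F12537 (iv F12171) (iv F15897)
theorem F20616 : act 5 n12200 = n9913 := d14_2 D9512 D12200 (iv D9913) (iv D7643) (iv F12167)
def n12201 : Q := act 1 n9513
theorem D12201 : act 1 n9513 = n12201 := rfl
theorem F20617 : act 2 n12201 = n9910 := d5_2 D9513 D12201 (iv D9910) (iv D7642) (iv F12173)
theorem F20618 : act 4 n12201 = n9515 := d7_2 (iv F15899) D12201 (iv D9515)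
def n12202 : Q := act 3 n9513
theorem D12202 : act 3 n9513 = n12202 := rfl
theorem F20619 : act 0 n12202 = n9523 := d2_1 D12202 (iv D9523) (iv F15898)
def n12203 : Q := act 5 n9513
theorem D12203 : act 5 n9513 = n12203 := rfl
theorem F20620 : act 0 n12203 = n9524 := d4_1 D12203 (iv D9524) (iv F15898)
theorem F20621 : act 2 n12203 = n9514 := d11_1 D12203 (iv D9514) D9513
def n12204 : Q := act 4 n9514
theorem D12204 : act 4 n9514 = n12204 := rfl
theorem F20622 : act 0 n12204 = n9525 := d3_1 D12204 (iv D9525) (iv F15900)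
theorem F20623 : act 1 n12204 = n9913 := d7_1 D12204 (iv D9913) (iv F15901)
theorem F20624 : act 3 n12204 = n9842 := d12_1 D12204 (iv D9842) F12576 (iv F12177) (iv F15902)
theorem F20625 : act 5 n12204 = n9516 := d14_2 D9514 D12204 (iv D9516) (iv D7334) (iv F12174)
def n12205 : Q := act 0 n9515
theorem D12205 : act 0 n9515 = n12205 := rfl
theorem F20626 : act 1 n12205 = n9526 := d0_2 D9515 D12205 (iv D9526) (iv D7341) (iv F12178)
def n12206 : Q := act 3 n9517
theorem D12206 : act 3 n9517 = n12206 := rfl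
theorem F20627 : act 0 n12206 = n9518 := d2_1 D12206 (iv D9518) D9517
theorem F20628 : act 1 n12206 = n9531 := d6_1 D12206 (iv D9531) (iv F15905)
theorem F20629 : act 5 n12206 = n11046 := d13_2 (iv F15908) D12206 (iv D11046)
def n12207 : Q := act 2 n9518
theorem D12207 : act 2 n9518 = n12207 := rfl
theorem F20630 : act 1 n12207 = n9532 := d5_1 D12207 (iv D9532) F12199 (iv F12184) (iv F15909)
theorem F20631 : act 5 n12207 = n11048 := d11_2 F18332 D12207 F18521
theorem F20632 : act 3 n11036 = n12207 := d6_0 F20630 F15931 D11036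
def n12208 : Q := act 4 n9518
theorem D12208 : act 4 n9518 = n12208 := rfl
theorem F20633 : act 1 n12208 = n9519 := d7_1 D12208 (iv D9519) (iv F15909)
theorem F20634 : act 3 n12208 = n9891 := d12_1 D12208 (iv D9891) (iv D7628) (iv F12182) D9518
def n12209 : Q := act 5 n9519
theorem D12209 : act 5 n9519 = n12209 := rfl
theorem F20635 : act 0 n12209 = n9534 := d4_1 D12209 (iv D9534) (iv F15910)
theorem F20636 : act 2 n12209 = n9534 := d11_1 D12209 (iv D9534) (iv F15911)
theorem F20637 : act 3 n12209 = n9893 := d13_1 D12209 (iv D9893) (iv F15912)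
def n12210 : Q := act 1 n9520
theorem D12210 : act 1 n9520 = n12210 := rfl
theorem F20638 : act 2 n12210 = n9906 := d5_2 D9520 D12210 (iv D9906) (iv D7640) (iv F12185)
def n12211 : Q := act 3 n9520
theorem D12211 : act 3 n9520 = n12211 := rfl
def n12212 : Q := act 5 n9520
theorem D12212 : act 5 n9520 = n12212 := rfl
theorem F20639 : act 2 n12212 = n9521 := d11_1 D12212 (iv D9521) D9520
def n12213 : Q := act 4 n9521
theorem D12213 : act 4 n9521 = n12213 := rfl
theorem F20640 : act 1 n12213 = n9909 := d7_1 D12213 (iv D9909) (iv F15913)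
theorem F20641 : act 3 n12213 = n9851 := d12_1 D12213 (iv D9851) F12584 (iv F12188) (iv F15914)
def n12214 : Q := act 0 n9522
theorem D12214 : act 0 n9522 = n12214 := rfl
theorem F20642 : act 2 n12214 = n9866 := d1_2 (iv F15915) D12214 (iv D9866)
theorem F20643 : act 4 n12214 = n9526 := d3_2 (iv F15916) D12214 (iv D9526)
def n12215 : Q := act 3 n9522
theorem D12215 : act 3 n9522 = n12215 := rfl
theorem F20644 : act 1 n12215 = n9523 := d6_1 D12215 (iv D9523) D9522
def n12216 : Q := act 2 n9523
theorem D12216 : act 2 n9523 = n12216 := rfl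
def n12217 : Q := act 4 n9523
theorem D12217 : act 4 n9523 = n12217 := rfl
theorem F20645 : act 3 n12217 = n9529 := d12_1 D12217 (iv D9529) (iv D7342) (iv F12189) D9523
def n12218 : Q := act 5 n9523
theorem D12218 : act 5 n9523 = n12218 := rfl
theorem F20646 : act 3 n12218 = n9524 := d13_1 D12218 (iv D9524) D9523
def n12219 : Q := act 4 n9524
theorem D12219 : act 4 n9524 = n12219 := rfl
theorem F20647 : act 2 n12219 = n9525 := d10_1 D12219 (iv D9525) (iv F15917)
theorem F20648 : act 5 n12219 = n9530 := d14_2 D9524 D12219 (iv D9530) (iv D7343) (iv F12189)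
def n12220 : Q := act 3 n9526
theorem D12220 : act 3 n9526 = n12220 := rfl
theorem F20649 : act 0 n12220 = n9527 := d2_1 D12220 (iv D9527) D9526
def n12221 : Q := act 5 n9526
theorem D12221 : act 5 n9526 = n12221 := rfl
theorem F20650 : act 0 n12221 = n9528 := d4_1 D12221 (iv D9528) D9526
theorem F20651 : act 2 n12221 = n9868 := d11_1 D12221 F16491 (iv F15921)
def n12222 : Q := act 2 n9527
theorem D12222 : act 2 n9527 = n12222 := rfl
def n12223 : Q := act 4 n9527
theorem D12223 : act 4 n9527 = n12223 := rfl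
theorem F20652 : act 1 n12223 = n9529 := d7_1 D12223 (iv D9529) (iv F15922)
def n12224 : Q := act 4 n9528
theorem D12224 : act 4 n9528 = n12224 := rfl
theorem F20653 : act 1 n12224 = n9530 := d7_1 D12224 (iv D9530) (iv F15923)
theorem F20654 : act 2 n12224 = n9867 := d10_1 D12224 F16490 (iv F15924)
def n12225 : Q := act 5 n9529
theorem D12225 : act 5 n9529 = n12225 := rfl
theorem F20655 : act 2 n12225 = n9851 := d11_1 D12225 (iv F18330) F18329
theorem F20656 : act 4 n12225 = n9850 := d14_1 D12225 (iv D9850) (iv F14097) (iv F14099) D9529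
def n12226 : Q := act 3 n9530
theorem D12226 : act 3 n9530 = n12226 := rfl
theorem F20657 : act 4 n12226 = n9849 := d12_2 D9530 D12226 (iv D9849) (iv F14097) F14098
def n12227 : Q := act 4 n9531
theorem D12227 : act 4 n9531 = n12227 := rfl
theorem F20658 : act 0 n12227 = n9533 := d3_1 D12227 (iv D9533) (iv F15926)
theorem F20659 : act 2 n12227 = n11042 := d10_1 D12227 (iv D11042) (iv F15928)
theorem F20660 : act 3 n12227 = n9895 := d12_1 D12227 (iv D9895) (iv D7632) (iv F12197) D9531
def n12228 : Q := act 4 n9532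
theorem D12228 : act 4 n9532 = n12228 := rfl
theorem F20661 : act 0 n12228 = n11042 := d3_1 D12228 (iv D11042) (iv F15929)
theorem F20662 : act 2 n12228 = n9533 := d10_1 D12228 (iv D9533) D9532
def n12229 : Q := act 5 n9533
theorem D12229 : act 5 n9533 = n12229 := rfl
theorem F20663 : act 1 n12229 = n9534 := d8_1 D12229 (iv D9534) (iv F15932)
theorem F20664 : act 3 n12229 = n9898 := d13_1 D12229 (iv D9898) (iv F15933)
theorem F20665 : act 4 n12229 = n11050 := d14_1 D12229 (iv D11050) (iv D8581) (iv F12200) D9533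
def n12230 : Q := act 1 n9535
theorem D12230 : act 1 n9535 = n12230 := rfl
theorem F20666 : act 2 n12230 = n9553 := d5_2 D9535 D12230 (iv D9553) (iv D7362) (iv F12203)
theorem F20667 : act 4 n12230 = n12159 := d7_2 (iv F15936) D12230 (iv D12159)
def n12231 : Q := act 3 n9535
theorem D12231 : act 3 n9535 = n12231 := rfl
theorem F20668 : act 0 n12231 = n9538 := d2_1 D12231 (iv D9538) (iv F15935)
def n12232 : Q := act 5 n9535
theorem D12232 : act 5 n9535 = n12232 := rfl
theorem F20669 : act 0 n12232 = n9539 := d4_1 D12232 (iv D9539) (iv F15935)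
theorem F20670 : act 2 n12232 = n9536 := d11_1 D12232 (iv D9536) D9535
def n12233 : Q := act 4 n9536
theorem D12233 : act 4 n9536 = n12233 := rfl
theorem F20671 : act 0 n12233 = n9540 := d3_1 D12233 (iv D9540) (iv F15937)
theorem F20672 : act 1 n12233 = n9555 := d7_1 D12233 (iv D9555) (iv F15938)
theorem F20673 : act 3 n12233 = n9794 := d12_1 D12233 (iv D9794) F12503 (iv F12208) (iv F15939)
theorem F20674 : act 5 n12233 = n12162 := d14_2 D9536 D12233 (iv D12162) (iv D9480) (iv F12204)
def n12234 : Q := act 0 n9537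
theorem D12234 : act 0 n9537 = n12234 := rfl
theorem F20675 : act 2 n12234 = n9543 := d1_2 (iv F15940) D12234 (iv D9543)
def n12235 : Q := act 3 n9537
theorem D12235 : act 3 n9537 = n12235 := rfl
theorem F20676 : act 1 n12235 = n9538 := d6_1 D12235 (iv D9538) D9537
def n12236 : Q := act 2 n9538
theorem D12236 : act 2 n9538 = n12236 := rfl
theorem F20677 : act 3 n12236 = n9825 := d15_3 D7350 D9538 D12236 (iv D9825) (iv D7575) (iv F12207) (iv F15939) (iv D9536) F12202
theorem F20678 : act 5 n9827 = n12236 := d13_0 F20677 F16423 D9827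
def n12237 : Q := act 4 n9538
theorem D12237 : act 4 n9538 = n12237 := rfl
def n12238 : Q := act 5 n9538
theorem D12238 : act 5 n9538 = n12238 := rfl
theorem F20679 : act 2 n12238 = n9827 := d11_1 D12238 F20678 (iv D12236)
theorem F20680 : act 3 n12238 = n9539 := d13_1 D12238 (iv D9539) D9538
def n12239 : Q := act 4 n9539
theorem D12239 : act 4 n9539 = n12239 := rfl
theorem F20681 : act 2 n12239 = n9540 := d10_1 D12239 (iv D9540) (iv F15941)
def n12240 : Q := act 3 n9540
theorem D12240 : act 3 n9540 = n12240 := rfl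
theorem F20682 : act 0 n12240 = n9794 := d2_1 D12240 (iv F20673) F20671
theorem F20683 : act 1 n12240 = n9544 := d6_1 D12240 (iv D9544) (iv F15942)
theorem F20684 : act 4 n12240 = n9541 := d12_2 D9540 D12240 (iv D9541) (iv D7352) (iv F12210)
theorem F20685 : act 5 n12240 = n9630 := d13_2 F19593 D12240 (iv F19592)
def n12241 : Q := act 2 n9541
theorem D12241 : act 2 n9541 = n12241 := rfl
theorem F20686 : act 0 n12241 = n9793 := d1_1 D12241 F16361 (iv F15943)
theorem F20687 : act 5 n12241 = n9542 := d11_2 (iv F15945) D12241 (iv D9542)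
theorem F20688 : act 3 n12241 = n9820 := d15_1 D12241 (iv D9820) (iv D7572) (iv D5769) (iv D4336) (iv F7072) D5751 D7552 (iv F15943)
def n12242 : Q := act 1 n9542
theorem D12242 : act 1 n9542 = n12242 := rfl
theorem F20689 : act 2 n12242 = n9546 := d5_2 D9542 D12242 (iv D9546) (iv D7357) (iv F12216)
theorem F20690 : act 4 n12242 = n9627 := d7_2 (iv F15947) D12242 (iv D9627)
def n12243 : Q := act 3 n9542
theorem D12243 : act 3 n9542 = n12243 := rfl
theorem F20691 : act 0 n12243 = n9792 := d2_1 D12243 (iv D9792) (iv F15946)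
theorem F20692 : act 5 n12243 = n9820 := d13_2 F20687 D12243 (iv F20688)
theorem F20693 : act 2 n12243 = n9822 := d15_2 D9542 D12243 F16417 F12541 F9499 (iv F9462) (iv F12503) (iv D7552) (iv F12215)
def n12244 : Q := act 2 n9544
theorem D12244 : act 2 n9544 = n12244 := rfl
theorem F20694 : act 0 n12244 = n9580 := d1_1 D12244 (iv D9580) (iv F15949)
theorem F20695 : act 4 n12244 = n9545 := d10_2 (iv F15950) D12244 (iv D9545)
theorem F20696 : act 5 n12244 = n9635 := d11_2 (iv F15951) D12244 F16101
def n12245 : Q := act 1 n9545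
theorem D12245 : act 1 n9545 = n12245 := rfl
theorem F20697 : act 3 n12245 = n9589 := d6_2 (iv F15954) D12245 (iv D9589)
theorem F20698 : act 5 n12245 = n9546 := d8_2 (iv F15953) D12245 (iv D9546)
def n12246 : Q := act 0 n9546
theorem D12246 : act 0 n9546 = n12246 := rfl
theorem F20699 : act 1 n12246 = n9582 := d0_2 D9546 D12246 (iv D9582) (iv D7383) (iv F12221)
theorem F20700 : act 4 n12246 = n9631 := d3_2 (iv F15955) D12246 (iv D9631)
def n12247 : Q := act 3 n9546
theorem D12247 : act 3 n9546 = n12247 := rfl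
theorem F20701 : act 1 n12247 = n9547 := d6_1 D12247 (iv D9547) D9546
theorem F20702 : act 5 n12247 = n9589 := d13_2 F20698 D12247 (iv F20697)
theorem F20703 : act 2 n11113 = n12247 := d5_0 F20701 F15958 F12257 D8629 D11113
def n12248 : Q := act 4 n9547
theorem D12248 : act 4 n9547 = n12248 := rfl
theorem F20704 : act 0 n12248 = n9584 := d3_1 D12248 (iv D9584) (iv F15956)
theorem F20705 : act 2 n12248 = n9585 := d10_1 D12248 (iv D9585) (iv F15958)
theorem F20706 : act 3 n12248 = n9634 := d12_1 D12248 (iv D9634) (iv D7422) (iv F12222) D9547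
def n12249 : Q := act 3 n9548
theorem D12249 : act 3 n9548 = n12249 := rfl
theorem F20707 : act 0 n12249 = n11111 := d2_1 D12249 (iv D11111) (iv F15959)
theorem F20708 : act 1 n12249 = n9549 := d6_1 D12249 (iv D9549) D9548
theorem F20709 : act 5 n12249 = n9551 := d13_2 (iv F15961) D12249 (iv D9551)
def n12250 : Q := act 4 n9549
theorem D12250 : act 4 n9549 = n12250 := rfl
theorem F20710 : act 0 n12250 = n9585 := d3_1 D12250 (iv D9585) (iv F15962)
theorem F20711 : act 2 n12250 = n9584 := d10_1 D12250 (iv D9584) (iv F15963)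
def n12251 : Q := act 3 n9550
theorem D12251 : act 3 n9550 = n12251 := rfl
theorem F20712 : act 0 n12251 = n9551 := d2_1 D12251 (iv D9551) D9550
theorem F20713 : act 1 n12251 = n9586 := d6_1 D12251 (iv D9586) (iv F15965)
theorem F20714 : act 5 n12251 = n11111 := d13_2 (iv F15968) D12251 (iv D11111)
def n12252 : Q := act 2 n9551
theorem D12252 : act 2 n9551 = n12252 := rfl
def n12253 : Q := act 1 n9552
theorem D12253 : act 1 n9552 = n12253 := rfl
theorem F20715 : act 3 n12253 = n9581 := d6_2 (iv F15971) D12253 (iv D9581)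
theorem F20716 : act 5 n12253 = n9583 := d8_2 (iv F15972) D12253 F16027
def n12254 : Q := act 0 n9553
theorem D12254 : act 0 n9553 = n12254 := rfl
theorem F20717 : act 1 n12254 = n9560 := d0_2 D9553 D12254 (iv D9560) (iv D7366) (iv F12229)
theorem F20718 : act 4 n12254 = n12163 := d3_2 (iv F15973) D12254 (iv D12163)
def n12255 : Q := act 5 n9553
theorem D12255 : act 5 n9553 = n12255 := rfl
theorem F20719 : act 1 n12255 = n9554 := d8_1 D12255 (iv D9554) D9553
theorem F20720 : act 3 n12255 = n9598 := d13_1 D12255 (iv F18617) F18616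
def n12256 : Q := act 4 n9554
theorem D12256 : act 4 n9554 = n12256 := rfl
theorem F20721 : act 0 n12256 = n9565 := d3_1 D12256 (iv D9565) (iv F15974)
theorem F20722 : act 2 n12256 = n9555 := d10_1 D12256 (iv D9555) (iv F15975)
theorem F20723 : act 5 n12256 = n12167 := d14_2 D9554 D12256 (iv D12167) (iv D9483) (iv F12230)
def n12257 : Q := act 0 n9556
theorem D12257 : act 0 n9556 = n12257 := rfl
theorem F20724 : act 1 n12257 = n12163 := d0_2 D9556 D12257 (iv D12163) (iv D9481) (iv F12233)
theorem F20725 : act 2 n12257 = n9566 := d1_2 (iv F15980) D12257 (iv D9566)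
theorem F20726 : act 4 n12257 = n9560 := d3_2 (iv F15981) D12257 (iv D9560)
def n12258 : Q := act 3 n9556
theorem D12258 : act 3 n9556 = n12258 := rfl
theorem F20727 : act 1 n12258 = n9557 := d6_1 D12258 (iv D9557) D9556
theorem F20728 : act 5 n12172 = n12258 := d8_0 F20727 (iv F15984) D12172
def n12259 : Q := act 5 n9556
theorem D12259 : act 5 n9556 = n12259 := rfl
theorem F20729 : act 1 n12259 = n9558 := d8_1 D12259 (iv D9558) D9556
theorem F20730 : act 2 n12259 = n9568 := d11_1 D12259 (iv D9568) (iv F15980)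
theorem F20731 : act 3 n12259 = n12172 := d13_1 D12259 F20728 (iv D12258)
def n12260 : Q := act 4 n9557
theorem D12260 : act 4 n9557 = n12260 := rfl
theorem F20732 : act 0 n12260 = n12166 := d3_1 D12260 (iv D12166) (iv F15982)
theorem F20733 : act 2 n12260 = n12173 := d10_1 D12260 (iv D12173) (iv F15983)
theorem F20734 : act 3 n12260 = n9563 := d12_1 D12260 (iv D9563) (iv D7367) (iv F12234) D9557
theorem F20735 : act 5 n12260 = n11922 := d14_2 F15984 D12260 (iv D11922) F15493 (iv F15853)
def n12261 : Q := act 3 n9560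
theorem D12261 : act 3 n9560 = n12261 := rfl
theorem F20736 : act 0 n12261 = n9561 := d2_1 D12261 (iv D9561) D9560
def n12262 : Q := act 5 n9560
theorem D12262 : act 5 n9560 = n12262 := rfl
theorem F20737 : act 0 n12262 = n9562 := d4_1 D12262 (iv D9562) D9560
theorem F20738 : act 2 n12262 = n9576 := d11_1 D12262 (iv D9576) (iv F15992)
def n12263 : Q := act 2 n9561
theorem D12263 : act 2 n9561 = n12263 := rfl
def n12264 : Q := act 4 n9561
theorem D12264 : act 4 n9561 = n12264 := rfl
theorem F20739 : act 1 n12264 = n9563 := d7_1 D12264 (iv D9563) (iv F15993)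
def n12265 : Q := act 5 n9561
theorem D12265 : act 5 n9561 = n12265 := rfl
theorem F20740 : act 1 n12265 = n9564 := d8_1 D12265 (iv D9564) (iv F15993)
theorem F20741 : act 3 n12265 = n9562 := d13_1 D12265 (iv D9562) D9561
theorem F20742 : act 4 n11709 = n12265 := d7_0 F20740 (iv F15999) D11709
def n12266 : Q := act 4 n9562
theorem D12266 : act 4 n9562 = n12266 := rfl
theorem F20743 : act 1 n12266 = n9565 := d7_1 D12266 (iv D9565) (iv F15994)
theorem F20744 : act 2 n12266 = n9579 := d10_1 D12266 (iv D9579) (iv F15995)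
def n12267 : Q := act 5 n9563
theorem D12267 : act 5 n9563 = n12267 := rfl
theorem F20745 : act 2 n12267 = n11712 := d11_1 D12267 F19709 (iv F18562)
theorem F20746 : act 3 n12267 = n11922 := d13_1 D12267 (iv F20735) F20734
theorem F20747 : act 4 n12267 = n11711 := d14_1 D12267 (iv D11711) F15999 (iv D9564) D9563
def n12268 : Q := act 3 n9566
theorem D12268 : act 3 n9566 = n12268 := rfl
theorem F20748 : act 0 n12268 = n9567 := d2_1 D12268 (iv D9567) D9566
def n12269 : Q := act 5 n9566
theorem D12269 : act 5 n9566 = n12269 := rfl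
theorem F20749 : act 0 n12269 = n9568 := d4_1 D12269 (iv D9568) D9566
def n12270 : Q := act 2 n9567
theorem D12270 : act 2 n9567 = n12270 := rfl
def n12271 : Q := act 4 n9567
theorem D12271 : act 4 n9567 = n12271 := rfl
theorem F20750 : act 1 n12271 = n9569 := d7_1 D12271 (iv D9569) (iv F16002)
theorem F20751 : act 3 n12271 = n9578 := d12_1 D12271 (iv D9578) (iv D7377) (iv F12242) D9567
def n12272 : Q := act 4 n9568
theorem D12272 : act 4 n9568 = n12272 := rfl
theorem F20752 : act 1 n12272 = n9570 := d7_1 D12272 (iv D9570) (iv F16003)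
theorem F20753 : act 5 n12272 = n9579 := d14_2 D9568 D12272 (iv D9579) (iv D7378) (iv F12242)
def n12273 : Q := act 2 n9571
theorem D12273 : act 2 n9571 = n12273 := rfl
theorem F20754 : act 0 n12273 = n9635 := d1_1 D12273 F16101 (iv F16007)
theorem F20755 : act 4 n12273 = n9572 := d10_2 (iv F16009) D12273 (iv D9572)
theorem F20756 : act 5 n12273 = n9580 := d11_2 (iv F16010) D12273 (iv D9580)
def n12274 : Q := act 1 n9572
theorem D12274 : act 1 n9572 = n12274 := rfl
theorem F20757 : act 2 n12274 = n9806 := d5_2 D9572 D12274 F16385 F12517 (iv F12246)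
theorem F20758 : act 3 n12274 = n9642 := d6_2 (iv F16013) D12274 (iv D9642)
theorem F20759 : act 5 n12274 = n9573 := d8_2 (iv F16012) D12274 (iv D9573)
def n12275 : Q := act 0 n9573
theorem D12275 : act 0 n9573 = n12275 := rfl
theorem F20760 : act 1 n12275 = n9631 := d0_2 D9573 D12275 (iv D9631) (iv D7421) (iv F12248)
theorem F20761 : act 2 n12275 = n9804 := d1_2 (iv F16014) D12275 (iv D9804)
theorem F20762 : act 4 n12275 = n9582 := d3_2 (iv F16015) D12275 (iv D9582)
def n12276 : Q := act 3 n9573
theorem D12276 : act 3 n9573 = n12276 := rfl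
theorem F20763 : act 1 n12276 = n9574 := d6_1 D12276 (iv D9574) D9573
theorem F20764 : act 5 n12276 = n9642 := d13_2 F20759 D12276 (iv F20758)
def n12277 : Q := act 4 n9574
theorem D12277 : act 4 n9574 = n12277 := rfl
theorem F20765 : act 0 n12277 = n9634 := d3_1 D12277 (iv D9634) (iv F16016)
theorem F20766 : act 2 n12277 = n9645 := d10_1 D12277 (iv D9645) (iv F16018)
theorem F20767 : act 3 n12277 = n9584 := d12_1 D12277 (iv D9584) (iv D7384) (iv F12249) D9574
def n12278 : Q := act 2 n9575
theorem D12278 : act 2 n9575 = n12278 := rfl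
theorem F20768 : act 0 n12278 = n9577 := d1_1 D12278 (iv D9577) (iv F16019)
def n12279 : Q := act 4 n9575
theorem D12279 : act 4 n9575 = n12279 := rfl
theorem F20769 : act 0 n12279 = n9578 := d3_1 D12279 (iv D9578) (iv F16019)
def n12280 : Q := act 4 n9576
theorem D12280 : act 4 n9576 = n12280 := rfl
theorem F20770 : act 0 n12280 = n9579 := d3_1 D12280 (iv D9579) (iv F16020)
def n12281 : Q := act 3 n9577
theorem D12281 : act 3 n9577 = n12281 := rfl
def n12282 : Q := act 4 n9577
theorem D12282 : act 4 n9577 = n12282 := rfl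
theorem F20771 : act 2 n12282 = n9578 := d10_1 D12282 (iv D9578) D9577
def n12283 : Q := act 1 n9580
theorem D12283 : act 1 n9580 = n12283 := rfl
theorem F20772 : act 2 n12283 = n9813 := d5_2 D9580 D12283 F16404 F12528 (iv F12253)
theorem F20773 : act 4 n12283 = n9581 := d7_2 (iv F16023) D12283 (iv D9581)
def n12284 : Q := act 3 n9580
theorem D12284 : act 3 n9580 = n12284 := rfl
def n12285 : Q := act 0 n9581
theorem D12285 : act 0 n9581 = n12285 := rfl
theorem F20774 : act 2 n12285 = n9812 := d1_2 (iv F16024) D12285 F16401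
theorem F20775 : act 5 n12285 = n9582 := d4_2 (iv F16025) D12285 (iv D9582)
def n12286 : Q := act 3 n9582
theorem D12286 : act 3 n9582 = n12286 := rfl
theorem F20776 : act 0 n12286 = n9583 := d2_1 D12286 (iv D9583) D9582
theorem F20777 : act 2 n12286 = n11897 := d15_2 (iv F16026) D12286 (iv D11897) (iv D9257) (iv D7109) (iv F10746) (iv F12523) (iv D7565) D7563
def n12287 : Q := act 2 n9583
theorem D12287 : act 2 n9583 = n12287 := rfl
theorem F20778 : act 0 n12287 = n11897 := d1_1 D12287 (iv F20777) F20776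
theorem F20779 : act 3 n12287 = n11894 := d15_3 (iv F12256) D9583 D12287 (iv D11894) (iv D9255) (iv F14071) (iv F16403) (iv D9812) (iv D7563)
def n12288 : Q := act 4 n9583
theorem D12288 : act 4 n9583 = n12288 := rfl
theorem F20780 : act 1 n12288 = n9584 := d7_1 D12288 (iv D9584) (iv F16027)
def n12289 : Q := act 5 n9584
theorem D12289 : act 5 n9584 = n12289 := rfl
def n12290 : Q := act 5 n9585
theorem D12290 : act 5 n9585 = n12290 := rfl
theorem F20781 : act 1 n12290 = n11115 := d8_1 D12290 (iv D11115) (iv F16028)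
theorem F20782 : act 4 n12290 = n9591 := d14_1 D12290 (iv D9591) (iv D7389) (iv F12258) D9585
def n12291 : Q := act 4 n9586
theorem D12291 : act 4 n9586 = n12291 := rfl
theorem F20783 : act 0 n12291 = n9588 := d3_1 D12291 (iv D9588) (iv F16029)
theorem F20784 : act 2 n12291 = n11097 := d10_1 D12291 (iv D11097) (iv F16031)
theorem F20785 : act 3 n12291 = n9593 := d12_1 D12291 (iv D9593) (iv D7390) (iv F12260) D9586
def n12292 : Q := act 1 n9587
theorem D12292 : act 1 n9587 = n12292 := rfl
theorem F20786 : act 2 n12292 = n9589 := d5_2 D9587 D12292 (iv D9589) (iv D7388) (iv F12262)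
theorem F20787 : act 3 n12292 = n11091 := d6_2 (iv F16034) D12292 (iv D11091)
theorem F20788 : act 5 n12292 = n11113 := d8_2 (iv F16033) D12292 (iv D11113)
def n12293 : Q := act 4 n9587
theorem D12293 : act 4 n9587 = n12293 := rfl
theorem F20789 : act 0 n12293 = n11097 := d3_1 D12293 (iv D11097) (iv F16032)
theorem F20790 : act 2 n12293 = n9588 := d10_1 D12293 (iv D9588) D9587
def n12294 : Q := act 5 n9588
theorem D12294 : act 5 n9588 = n12294 := rfl
theorem F20791 : act 1 n12294 = n9591 := d8_1 D12294 (iv D9591) (iv F16035)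
theorem F20792 : act 3 n12294 = n9596 := d13_1 D12294 (iv D9596) (iv F16036)
theorem F20793 : act 4 n12294 = n11115 := d14_1 D12294 (iv D11115) (iv D8630) (iv F12263) D9588
def n12295 : Q := act 0 n9589
theorem D12295 : act 0 n9589 = n12295 := rfl
def n12296 : Q := act 4 n9589
theorem D12296 : act 4 n9589 = n12296 := rfl
theorem F20794 : act 1 n12296 = n9590 := d7_1 D12296 (iv D9590) D9589
def n12297 : Q := act 1 n9592
theorem D12297 : act 1 n9592 = n12297 := rfl
theorem F20795 : act 3 n12297 = n10783 := d6_2 (iv F16040) D12297 F18074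
def n12298 : Q := act 4 n9592
theorem D12298 : act 4 n9592 = n12298 := rfl
theorem F20796 : act 0 n12298 = n9595 := d3_1 D12298 (iv D9595) (iv F16039)
theorem F20797 : act 2 n12298 = n9593 := d10_1 D12298 (iv D9593) D9592
def n12299 : Q := act 5 n9593
theorem D12299 : act 5 n9593 = n12299 := rfl
theorem F20798 : act 0 n12299 = n9596 := d4_1 D12299 (iv D9596) (iv F16041)
def n12300 : Q := act 3 n9595
theorem D12300 : act 3 n9595 = n12300 := rfl
def n12301 : Q := act 5 n9595
theorem D12301 : act 5 n9595 = n12301 := rfl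
theorem F20799 : act 2 n12301 = n9596 := d11_1 D12301 (iv D9596) (iv F16044)
def n12302 : Q := act 2 n9597
theorem D12302 : act 2 n9597 = n12302 := rfl
theorem F20800 : act 0 n12302 = n10845 := d1_1 D12302 (iv D10845) (iv F16046)
theorem F20801 : act 4 n12302 = n11707 := d10_2 (iv F16048) D12302 (iv D11707)
def n12303 : Q := act 0 n9598
theorem D12303 : act 0 n9598 = n12303 := rfl
theorem F20802 : act 2 n12303 = n10858 := d1_2 (iv F16049) D12303 (iv D10858)
def n12304 : Q := act 4 n9598
theorem D12304 : act 4 n9598 = n12304 := rfl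
theorem F20803 : act 1 n12304 = n9599 := d7_1 D12304 (iv D9599) D9598
theorem F20804 : act 2 n12304 = n10854 := d10_1 D12304 F18218 (iv F16049)
def n12305 : Q := act 3 n9601
theorem D12305 : act 3 n9601 = n12305 := rfl
theorem F20805 : act 0 n12305 = n10784 := d2_1 D12305 F18076 (iv F16055)
theorem F20806 : act 1 n12305 = n9602 := d6_1 D12305 (iv D9602) D9601
theorem F20807 : act 5 n12305 = n10780 := d13_2 (iv F16057) D12305 (iv D10780)
def n12306 : Q := act 4 n9602
theorem D12306 : act 4 n9602 = n12306 := rfl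
theorem F20808 : act 0 n12306 = n9604 := d3_1 D12306 (iv D9604) (iv F16058)
def n12307 : Q := act 1 n9603
theorem D12307 : act 1 n9603 = n12307 := rfl
theorem F20809 : act 2 n12307 = n10784 := d5_2 D9603 D12307 F18075 F13911 (iv F12277)
theorem F20810 : act 5 n12307 = n10783 := d8_2 (iv F16060) D12307 F18074
def n12308 : Q := act 4 n9603
theorem D12308 : act 4 n9603 = n12308 := rfl
theorem F20811 : act 2 n12308 = n9604 := d10_1 D12308 (iv D9604) D9603
def n12309 : Q := act 5 n9604
theorem D12309 : act 5 n9604 = n12309 := rfl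
theorem F20812 : act 1 n12309 = n10796 := d8_1 D12309 F18097 (iv F16061)
theorem F20813 : act 4 n12309 = n10792 := d14_1 D12309 (iv D10792) F13919 (iv F12278) D9604
def n12310 : Q := act 1 n9605
theorem D12310 : act 1 n9605 = n12310 := rfl
theorem F20814 : act 2 n12310 = n9800 := d5_2 D9605 D12310 (iv D9800) (iv D7557) (iv F12279)
theorem F20815 : act 4 n12310 = n12111 := d7_2 (iv F16062) D12310 (iv D12111)
def n12311 : Q := act 3 n9605
theorem D12311 : act 3 n9605 = n12311 := rfl
def n12312 : Q := act 5 n9605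
theorem D12312 : act 5 n9605 = n12312 := rfl
theorem F20816 : act 2 n12312 = n9606 := d11_1 D12312 (iv D9606) D9605
def n12313 : Q := act 4 n9606
theorem D12313 : act 4 n9606 = n12313 := rfl
theorem F20817 : act 1 n12313 = n9803 := d7_1 D12313 (iv D9803) (iv F16063)
theorem F20818 : act 3 n12313 = n12134 := d12_1 D12313 (iv D12134) F15794 (iv F12283) (iv F16064)
theorem F20819 : act 5 n12313 = n12114 := d14_2 D9606 D12313 (iv D12114) (iv D9443) (iv F12280)
def n12314 : Q := act 0 n9607
theorem D12314 : act 0 n9607 = n12314 := rfl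
theorem F20820 : act 2 n12314 = n9615 := d1_2 (iv F16065) D12314 (iv D9615)
theorem F20821 : act 4 n12314 = n9611 := d3_2 (iv F16066) D12314 (iv D9611)
def n12315 : Q := act 3 n9607
theorem D12315 : act 3 n9607 = n12315 := rfl
theorem F20822 : act 1 n12315 = n9608 := d6_1 D12315 (iv D9608) D9607
def n12316 : Q := act 5 n9607
theorem D12316 : act 5 n9607 = n12316 := rfl
theorem F20823 : act 1 n12316 = n9609 := d8_1 D12316 (iv D9609) D9607
theorem F20824 : act 2 n12316 = n9617 := d11_1 D12316 (iv D9617) (iv F16065)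
def n12317 : Q := act 2 n9608
theorem D12317 : act 2 n9608 = n12317 := rfl
def n12318 : Q := act 4 n9608
theorem D12318 : act 4 n9608 = n12318 := rfl
theorem F20825 : act 3 n12318 = n9613 := d12_1 D12318 (iv D9613) (iv D7405) (iv F12284) D9608
def n12319 : Q := act 5 n9608
theorem D12319 : act 5 n9608 = n12319 := rfl
theorem F20826 : act 3 n12319 = n9609 := d13_1 D12319 (iv D9609) D9608
def n12320 : Q := act 4 n9609
theorem D12320 : act 4 n9609 = n12320 := rfl
theorem F20827 : act 0 n12320 = n10091 := d3_1 D12320 (iv F17796) F17794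
theorem F20828 : act 2 n12320 = n9610 := d10_1 D12320 (iv D9610) (iv F16067)
theorem F20829 : act 5 n12320 = n9614 := d14_2 D9609 D12320 (iv D9614) (iv D7406) (iv F12284)
def n12321 : Q := act 4 n9612
theorem D12321 : act 4 n9612 = n12321 := rfl
theorem F20830 : act 1 n12321 = n9613 := d7_1 D12321 (iv D9613) (iv F16073)
def n12322 : Q := act 5 n9613
theorem D12322 : act 5 n9613 = n12322 := rfl
def n12323 : Q := act 3 n9614
theorem D12323 : act 3 n9614 = n12323 := rfl
theorem F20831 : act 0 n12323 = n10090 := d2_1 D12323 (iv D10090) (iv F16074)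
def n12324 : Q := act 5 n9615
theorem D12324 : act 5 n9615 = n12324 := rfl
theorem F20832 : act 0 n12324 = n9617 := d4_1 D12324 (iv D9617) D9615
theorem F20833 : act 1 n12324 = n9637 := d8_1 D12324 (iv D9637) (iv F16076)
def n12325 : Q := act 5 n9616
theorem D12325 : act 5 n9616 = n12325 := rfl
theorem F20834 : act 1 n12325 = n9619 := d8_1 D12325 (iv D9619) (iv F16078)
theorem F20835 : act 3 n12325 = n9617 := d13_1 D12325 (iv D9617) D9616
def n12326 : Q := act 1 n9618
theorem D12326 : act 1 n9618 = n12326 := rfl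
theorem F20836 : act 3 n12326 = n9633 := d6_2 (iv F16081) D12326 F16100
theorem F20837 : act 5 n12326 = n9632 := d8_2 F16082 D12326 F16099
def n12327 : Q := act 4 n9619
theorem D12327 : act 4 n9619 = n12327 := rfl
theorem F20838 : act 0 n12327 = n9645 := d3_1 D12327 (iv D9645) (iv F16083)
theorem F20839 : act 2 n12327 = n9634 := d10_1 D12327 (iv D9634) (iv F16084)
def n12328 : Q := act 1 n9620
theorem D12328 : act 1 n9620 = n12328 := rfl
theorem F20840 : act 2 n12328 = n9655 := d5_2 D9620 D12328 (iv D9655) (iv D7439) (iv F12300)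
def n12329 : Q := act 3 n9620
theorem D12329 : act 3 n9620 = n12329 := rfl
theorem F20841 : act 0 n12329 = n9622 := d2_1 D12329 (iv D9622) (iv F16086)
theorem F20842 : act 2 n12329 = n9622 := d15_2 D9620 D12329 (iv D9622) (iv D7414) (iv D5641) (iv F8937) D7125 F11814 (iv F12299)
def n12330 : Q := act 4 n9620
theorem D12330 : act 4 n9620 = n12330 := rfl
theorem F20843 : act 0 n12330 = n9623 := d3_1 D12330 (iv D9623) (iv F16086)
theorem F20844 : act 2 n12330 = n9621 := d10_1 D12330 (iv D9621) D9620
def n12331 : Q := act 5 n9621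
theorem D12331 : act 5 n9621 = n12331 := rfl
theorem F20845 : act 0 n12331 = n9624 := d4_1 D12331 (iv D9624) (iv F16087)
theorem F20846 : act 1 n12331 = n9657 := d8_1 D12331 (iv D9657) (iv F16088)
theorem F20847 : act 4 n12331 = n10119 := d14_1 D12331 (iv D10119) (iv F15465) F15466 D9621
def n12332 : Q := act 4 n9622
theorem D12332 : act 4 n9622 = n12332 := rfl
def n12333 : Q := act 3 n9623
theorem D12333 : act 3 n9623 = n12333 := rfl
def n12334 : Q := act 5 n9623
theorem D12334 : act 5 n9623 = n12334 := rfl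
theorem F20848 : act 2 n12334 = n9624 := d11_1 D12334 (iv D9624) (iv F16089)
def n12335 : Q := act 1 n9625
theorem D12335 : act 1 n9625 = n12335 := rfl
theorem F20849 : act 2 n12335 = n9795 := d5_2 D9625 D12335 (iv D9795) (iv D7553) (iv F12304)
theorem F20850 : act 4 n12335 = n9791 := d7_2 (iv F16092) D12335 (iv D9791)
def n12336 : Q := act 3 n9625
theorem D12336 : act 3 n9625 = n12336 := rfl
theorem F20851 : act 0 n12336 = n9628 := d2_1 D12336 (iv D9628) (iv F16091)
theorem F20852 : act 2 n12336 = n11392 := d15_2 D9625 D12336 F19107 F14691 F11211 F10393 (iv F12310) (iv D7420) (iv F12303)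
theorem F20853 : act 5 n11391 = n12336 := d11_0 F20852 (iv D11392) D11391
def n12337 : Q := act 5 n9625
theorem D12337 : act 5 n9625 = n12337 := rfl
theorem F20854 : act 0 n12337 = n9629 := d4_1 D12337 (iv D9629) (iv F16091)
theorem F20855 : act 2 n12337 = n9626 := d11_1 D12337 (iv D9626) D9625
theorem F20856 : act 3 n12337 = n11391 := d13_1 D12337 F20853 (iv D12336)
def n12338 : Q := act 4 n9626
theorem D12338 : act 4 n9626 = n12338 := rfl
theorem F20857 : act 0 n12338 = n9630 := d3_1 D12338 (iv D9630) (iv F16093)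
theorem F20858 : act 1 n12338 = n9798 := d7_1 D12338 (iv D9798) (iv F16094)
theorem F20859 : act 3 n12338 = n12162 := d12_1 D12338 (iv D12162) F15844 (iv F12308) (iv F16095)
theorem F20860 : act 5 n12338 = n9794 := d14_2 D9626 D12338 (iv D9794) (iv D7552) (iv F12305)
def n12339 : Q := act 0 n9627
theorem D12339 : act 0 n9627 = n12339 := rfl
theorem F20861 : act 2 n12339 = n9631 := d1_2 (iv F16096) D12339 (iv D9631)
def n12340 : Q := act 3 n9627
theorem D12340 : act 3 n9627 = n12340 := rfl
theorem F20862 : act 1 n12340 = n9628 := d6_1 D12340 (iv D9628) D9627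
def n12341 : Q := act 5 n9627
theorem D12341 : act 5 n9627 = n12341 := rfl
theorem F20863 : act 1 n12341 = n9629 := d8_1 D12341 (iv D9629) D9627
theorem F20864 : act 2 n12341 = n9633 := d11_1 D12341 (iv D9633) (iv F16096)
def n12342 : Q := act 2 n9628
theorem D12342 : act 2 n9628 = n12342 := rfl
theorem F20865 : act 0 n12342 = n11392 := d1_1 D12342 (iv F20852) F20851
theorem F20866 : act 3 n12342 = n11383 := d9_2 D9628 D12342 F19092 F14681 F12357 (iv F16095) (iv F20855) F20856 (iv D11391) (iv D8847) F11209 F8437 F7742 D5644 D7419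
theorem F20867 : act 5 n11382 = n12342 := d13_0 F20866 (iv D11383) D11382
def n12343 : Q := act 4 n9628
theorem D12343 : act 4 n9628 = n12343 := rfl
def n12344 : Q := act 5 n9628
theorem D12344 : act 5 n9628 = n12344 := rfl
theorem F20868 : act 0 n12344 = n11391 := d4_1 D12344 F20853 F20851
theorem F20869 : act 2 n12344 = n11382 := d11_1 D12344 F20867 (iv D12342)
theorem F20870 : act 3 n12344 = n9629 := d13_1 D12344 (iv D9629) D9628
def n12345 : Q := act 4 n9629
theorem D12345 : act 4 n9629 = n12345 := rfl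
theorem F20871 : act 2 n12345 = n9630 := d10_1 D12345 (iv D9630) (iv F16097)
def n12346 : Q := act 3 n9631
theorem D12346 : act 3 n9631 = n12346 := rfl
theorem F20872 : act 0 n12346 = n9632 := d2_1 D12346 (iv D9632) D9631
def n12347 : Q := act 5 n9631
theorem D12347 : act 5 n9631 = n12347 := rfl
theorem F20873 : act 0 n12347 = n9633 := d4_1 D12347 (iv D9633) D9631
def n12348 : Q := act 2 n9632
theorem D12348 : act 2 n9632 = n12348 := rfl
def n12349 : Q := act 4 n9632
theorem D12349 : act 4 n9632 = n12349 := rfl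
theorem F20874 : act 1 n12349 = n9634 := d7_1 D12349 (iv D9634) (iv F16099)
def n12350 : Q := act 4 n9633
theorem D12350 : act 4 n9633 = n12350 := rfl
theorem F20875 : act 1 n12350 = n9635 := d7_1 D12350 (iv D9635) (iv F16100)
def n12351 : Q := act 5 n9634
theorem D12351 : act 5 n9634 = n12351 := rfl
def n12352 : Q := act 3 n9635
theorem D12352 : act 3 n9635 = n12352 := rfl
def n12353 : Q := act 2 n9636
theorem D12353 : act 2 n9636 = n12353 := rfl
theorem F20876 : act 0 n12353 = n9638 := d1_1 D12353 (iv D9638) (iv F16102)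
def n12354 : Q := act 5 n9636
theorem D12354 : act 5 n9636 = n12354 := rfl
theorem F20877 : act 0 n12354 = n9640 := d4_1 D12354 (iv D9640) (iv F16102)
theorem F20878 : act 3 n12354 = n9637 := d13_1 D12354 (iv D9637) D9636
def n12355 : Q := act 4 n9637
theorem D12355 : act 4 n9637 = n12355 := rfl
theorem F20879 : act 0 n12355 = n9641 := d3_1 D12355 (iv D9641) (iv F16103)
theorem F20880 : act 5 n12355 = n9649 := d14_2 D9637 D12355 (iv D9649) (iv D7433) (iv F12312)
def n12356 : Q := act 1 n9638
theorem D12356 : act 1 n9638 = n12356 := rfl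
theorem F20881 : act 2 n12356 = n9642 := d5_2 D9638 D12356 (iv D9642) (iv D7428) (iv F12313)
def n12357 : Q := act 3 n9638
theorem D12357 : act 3 n9638 = n12357 := rfl
def n12358 : Q := act 4 n9638
theorem D12358 : act 4 n9638 = n12358 := rfl
theorem F20882 : act 2 n12358 = n9639 := d10_1 D12358 (iv D9639) D9638
def n12359 : Q := act 5 n9638
theorem D12359 : act 5 n9638 = n12359 := rfl
theorem F20883 : act 2 n12359 = n9640 := d11_1 D12359 (iv D9640) D9638
def n12360 : Q := act 5 n9639
theorem D12360 : act 5 n9639 = n12360 := rfl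
theorem F20884 : act 1 n12360 = n9644 := d8_1 D12360 (iv D9644) (iv F16104)
theorem F20885 : act 3 n12360 = n9652 := d13_1 D12360 (iv D9652) (iv F16105)
def n12361 : Q := act 4 n9640
theorem D12361 : act 4 n9640 = n12361 := rfl
theorem F20886 : act 1 n12361 = n9645 := d7_1 D12361 (iv D9645) (iv F16106)
def n12362 : Q := act 3 n9641
theorem D12362 : act 3 n9641 = n12362 := rfl
theorem F20887 : act 1 n12362 = n9646 := d6_1 D12362 (iv D9646) (iv F16108)
theorem F20888 : act 5 n12362 = n9653 := d13_2 (iv F16109) D12362 (iv D9653)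
def n12363 : Q := act 0 n9642
theorem D12363 : act 0 n9642 = n12363 := rfl
def n12364 : Q := act 4 n9642
theorem D12364 : act 4 n9642 = n12364 := rfl
theorem F20889 : act 1 n12364 = n9643 := d7_1 D12364 (iv D9643) D9642
def n12365 : Q := act 4 n9644
theorem D12365 : act 4 n9644 = n12365 := rfl
theorem F20890 : act 5 n12365 = n9645 := d14_2 D9644 D12365 (iv D9645) (iv D7430) D7429
def n12366 : Q := act 3 n9645
theorem D12366 : act 3 n9645 = n12366 := rfl
theorem F20891 : act 4 n12366 = n9646 := d12_2 D9645 D12366 (iv D9646) (iv D7431) (iv F12316)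
def n12367 : Q := act 2 n9646
theorem D12367 : act 2 n9646 = n12367 := rfl
theorem F20892 : act 5 n12367 = n9654 := d11_2 (iv F16112) D12367 (iv D9654)
def n12368 : Q := act 3 n9647
theorem D12368 : act 3 n9647 = n12368 := rfl
theorem F20893 : act 0 n12368 = n9650 := d2_1 D12368 (iv D9650) (iv F16113)
def n12369 : Q := act 4 n9647
theorem D12369 : act 4 n9647 = n12369 := rfl
theorem F20894 : act 0 n12369 = n9651 := d3_1 D12369 (iv D9651) (iv F16113)
theorem F20895 : act 2 n12369 = n9648 := d10_1 D12369 (iv D9648) D9647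
def n12370 : Q := act 5 n9648
theorem D12370 : act 5 n9648 = n12370 := rfl
theorem F20896 : act 0 n12370 = n9652 := d4_1 D12370 (iv D9652) (iv F16114)
def n12371 : Q := act 3 n9649
theorem D12371 : act 3 n9649 = n12371 := rfl
theorem F20897 : act 0 n12371 = n9653 := d2_1 D12371 (iv D9653) (iv F16115)
def n12372 : Q := act 2 n9650
theorem D12372 : act 2 n9650 = n12372 := rfl
def n12373 : Q := act 4 n9650
theorem D12373 : act 4 n9650 = n12373 := rfl
def n12374 : Q := act 3 n9651
theorem D12374 : act 3 n9651 = n12374 := rfl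
def n12375 : Q := act 2 n9653
theorem D12375 : act 2 n9653 = n12375 := rfl
def n12376 : Q := act 1 n9654
theorem D12376 : act 1 n9654 = n12376 := rfl
def n12377 : Q := act 3 n9654
theorem D12377 : act 3 n9654 = n12377 := rfl
def n12378 : Q := act 0 n9655
theorem D12378 : act 0 n9655 = n12378 := rfl
theorem F20898 : act 1 n12378 = n9658 := d0_2 D9655 D12378 (iv D9658) (iv D7441) (iv F12323)
theorem F20899 : act 3 n12378 = n11004 := d2_2 (iv F16119) D12378 F18480
def n12379 : Q := act 4 n9655
theorem D12379 : act 4 n9655 = n12379 := rfl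
theorem F20900 : act 1 n12379 = n9656 := d7_1 D12379 (iv D9656) D9655
def n12380 : Q := act 5 n9656
theorem D12380 : act 5 n9656 = n12380 := rfl
theorem F20901 : act 0 n12380 = n9662 := d4_1 D12380 (iv D9662) (iv F16120)
theorem F20902 : act 2 n12380 = n9657 := d11_1 D12380 (iv D9657) (iv F16121)
theorem F20903 : act 3 n12380 = n12256 := d13_1 D12380 F20723 F20556
theorem F20904 : act 4 n12380 = n10122 := d14_1 D12380 (iv D10122) (iv F15481) F15482 D9656
def n12381 : Q := act 3 n9658
theorem D12381 : act 3 n9658 = n12381 := rfl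
theorem F20905 : act 0 n12381 = n9659 := d2_1 D12381 (iv D9659) D9658
theorem F20906 : act 1 n12381 = n11004 := d6_1 D12381 (iv F20899) F20898
theorem F20907 : act 2 n12381 = n11036 := d15_2 (iv F16124) D12381 F20632 (iv D12207) (iv D9518) F12181 (iv F11840) F11841 D7445
def n12382 : Q := act 4 n9658
theorem D12382 : act 4 n9658 = n12382 := rfl
theorem F20908 : act 0 n12382 = n9660 := d3_1 D12382 (iv D9660) D9658
theorem F20909 : act 2 n12382 = n9663 := d10_1 D12382 (iv D9663) (iv F16124)
def n12383 : Q := act 2 n9659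
theorem D12383 : act 2 n9659 = n12383 := rfl
theorem F20910 : act 0 n12383 = n11036 := d1_1 D12383 (iv F20907) F20905
theorem F20911 : act 1 n12383 = n11039 := d5_1 D12383 F18512 (iv F15516) F15517 (iv F16125)
def n12384 : Q := act 3 n9660
theorem D12384 : act 3 n9660 = n12384 := rfl
theorem F20912 : act 1 n12384 = n9661 := d6_1 D12384 (iv D9661) (iv F16126)
theorem F20913 : act 4 n12384 = n12259 := d12_2 D9660 D12384 F20731 F20567 (iv D9659)
theorem F20914 : act 2 n12272 = n12384 := d10_3 F20913 F20730 D12272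
theorem F20915 : act 5 n12266 = n12384 := d14_0 F20913 (iv D12259) F15981 D9562 D12266
def n12385 : Q := act 5 n9660
theorem D12385 : act 5 n9660 = n12385 := rfl
theorem F20916 : act 1 n12385 = n9662 := d8_1 D12385 (iv D9662) (iv F16126)
theorem F20917 : act 2 n12385 = n9665 := d11_1 D12385 (iv D9665) (iv F16127)
theorem F20918 : act 3 n12385 = n12266 := d13_1 D12385 F20915 (iv D12384)
def n12386 : Q := act 5 n9663
theorem D12386 : act 5 n9663 = n12386 := rfl
theorem F20919 : act 0 n12386 = n9665 := d4_1 D12386 (iv D9665) (iv F16133)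
def n12387 : Q := act 2 n9664
theorem D12387 : act 2 n9664 = n12387 := rfl
def n12388 : Q := act 5 n9664
theorem D12388 : act 5 n9664 = n12388 := rfl
theorem F20920 : act 1 n12388 = n9667 := d8_1 D12388 (iv D9667) (iv F16134)
theorem F20921 : act 3 n12388 = n9665 := d13_1 D12388 (iv D9665) D9664
def n12389 : Q := act 1 n9666
theorem D12389 : act 1 n9666 = n12389 := rfl
def n12390 : Q := act 3 n9666
theorem D12390 : act 3 n9666 = n12390 := rfl
def n12391 : Q := act 5 n9666
theorem D12391 : act 5 n9666 = n12391 := rfl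
theorem F20922 : act 2 n12391 = n9667 := d11_1 D12391 (iv D9667) D9666
def n12392 : Q := act 4 n9667
theorem D12392 : act 4 n9667 = n12392 := rfl
def n12393 : Q := act 2 n9668
theorem D12393 : act 2 n9668 = n12393 := rfl
theorem F20923 : act 0 n12393 = n9673 := d1_1 D12393 (iv D9673) (iv F16137)
theorem F20924 : act 5 n12393 = n11039 := d11_2 (iv F16139) D12393 F18512
def n12394 : Q := act 4 n9668
theorem D12394 : act 4 n9668 = n12394 := rfl
theorem F20925 : act 0 n12394 = n9674 := d3_1 D12394 (iv D9674) (iv F16137)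
theorem F20926 : act 1 n12394 = n9669 := d7_1 D12394 (iv D9669) (iv F16138)
def n12395 : Q := act 0 n9670
theorem D12395 : act 0 n9670 = n12395 := rfl
theorem F20927 : act 2 n12395 = n9676 := d1_2 (iv F16141) D12395 (iv D9676)
theorem F20928 : act 5 n12395 = n11004 := d4_2 (iv F16142) D12395 F18480
def n12396 : Q := act 4 n9670
theorem D12396 : act 4 n9670 = n12396 := rfl
theorem F20929 : act 1 n12396 = n9671 := d7_1 D12396 (iv D9671) D9670
theorem F20930 : act 2 n12396 = n9677 := d10_1 D12396 (iv D9677) (iv F16141)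
def n12397 : Q := act 3 n9671
theorem D12397 : act 3 n9671 = n12397 := rfl
theorem F20931 : act 0 n12397 = n12267 := d2_1 D12397 F20746 F20082
theorem F20932 : act 4 n12397 = n10121 := d12_2 D9671 D12397 (iv D10121) (iv F15481) F15483
theorem F20933 : act 5 n12397 = n11109 := d13_2 F20553 D12397 (iv F20552)
theorem F20934 : act 2 n12397 = n11108 := d15_4 (iv F15461) F15462 (iv F16143) D12397 (iv D11108) (iv F18537) (iv F20593) (iv D12189) F15881
def n12398 : Q := act 3 n9673
theorem D12398 : act 3 n9673 = n12398 := rfl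
theorem F20935 : act 1 n12398 = n10984 := d6_1 D12398 (iv D10984) (iv F16145)
theorem F20936 : act 5 n12398 = n11040 := d13_2 (iv F16146) D12398 (iv D11040)
def n12399 : Q := act 4 n9673
theorem D12399 : act 4 n9673 = n12399 := rfl
theorem F20937 : act 1 n12399 = n10985 := d7_1 D12399 (iv D10985) (iv F16145)
theorem F20938 : act 2 n12399 = n9674 := d10_1 D12399 (iv D9674) D9673
def n12400 : Q := act 5 n9674
theorem D12400 : act 5 n9674 = n12400 := rfl
theorem F20939 : act 1 n12400 = n9675 := d8_1 D12400 (iv D9675) (iv F16147)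
theorem F20940 : act 4 n12400 = n11045 := d14_1 D12400 (iv D11045) (iv D8576) (iv F12334) D9674
def n12401 : Q := act 4 n9676
theorem D12401 : act 4 n9676 = n12401 := rfl
theorem F20941 : act 0 n12401 = n9677 := d3_1 D12401 (iv D9677) D9676
theorem F20942 : act 1 n12401 = n10983 := d7_1 D12401 (iv D10983) (iv F16151)
def n12402 : Q := act 3 n9677
theorem D12402 : act 3 n9677 = n12402 := rfl
theorem F20943 : act 1 n12402 = n9678 := d6_1 D12402 (iv D9678) (iv F16154)
theorem F20944 : act 4 n12402 = n10943 := d12_2 D9677 D12402 (iv D10943) F14130 (iv F12337)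
def n12403 : Q := act 5 n9677
theorem D12403 : act 5 n9677 = n12403 := rfl
theorem F20945 : act 1 n12403 = n9679 := d8_1 D12403 (iv D9679) (iv F16154)
theorem F20946 : act 4 n12403 = n11007 := d14_1 D12403 (iv D11007) (iv D8547) (iv F12338) D9677
def n12404 : Q := act 2 n9678
theorem D12404 : act 2 n9678 = n12404 := rfl
theorem F20947 : act 0 n12404 = n10980 := d1_1 D12404 F18439 (iv F16155)
theorem F20948 : act 4 n12404 = n10944 := d10_2 (iv F16156) D12404 (iv D10944)
def n12405 : Q := act 5 n9678
theorem D12405 : act 5 n9678 = n12405 := rfl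
theorem F20949 : act 0 n12405 = n10981 := d4_1 D12405 (iv D10981) (iv F16155)
theorem F20950 : act 3 n12405 = n9679 := d13_1 D12405 (iv D9679) D9678
def n12406 : Q := act 1 n9680
theorem D12406 : act 1 n9680 = n12406 := rfl
theorem F20951 : act 2 n12406 = n9686 := d5_2 D9680 D12406 (iv D9686) (iv D7462) (iv F12342)
theorem F20952 : act 4 n12406 = n9682 := d7_2 (iv F16161) D12406 (iv D9682)
def n12407 : Q := act 3 n9680
theorem D12407 : act 3 n9680 = n12407 := rfl
theorem F20953 : act 0 n12407 = n12311 := d2_1 D12407 (iv D12311) (iv F16160)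
theorem F20954 : act 2 n12407 = n12319 := d15_2 D9680 D12407 F20826 F16067 F12286 (iv F12282) (iv F16064) (iv D9606) (iv F12341)
theorem F20955 : act 5 n12317 = n12407 := d11_0 F20954 (iv D12319) D12317
def n12408 : Q := act 5 n9680
theorem D12408 : act 5 n9680 = n12408 := rfl
theorem F20956 : act 0 n12408 = n12312 := d4_1 D12408 (iv D12312) (iv F16160)
theorem F20957 : act 2 n12408 = n9681 := d11_1 D12408 (iv D9681) D9680
theorem F20958 : act 3 n12408 = n12317 := d13_1 D12408 F20955 (iv D12407)
def n12409 : Q := act 4 n9681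
theorem D12409 : act 4 n9681 = n12409 := rfl
theorem F20959 : act 0 n12409 = n12313 := d3_1 D12409 (iv D12313) (iv F16162)
theorem F20960 : act 1 n12409 = n9689 := d7_1 D12409 (iv D9689) (iv F16163)
theorem F20961 : act 3 n12409 = n11011 := d12_1 D12409 (iv D11011) F14197 (iv F12347) (iv F16164)
theorem F20962 : act 5 n12409 = n9685 := d14_2 D9681 D12409 (iv D9685) (iv D7461) (iv F12343)
def n12410 : Q := act 0 n9682
theorem D12410 : act 0 n9682 = n12410 := rfl
theorem F20963 : act 2 n12410 = n9690 := d1_2 (iv F16165) D12410 (iv D9690)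
def n12411 : Q := act 3 n9682
theorem D12411 : act 3 n9682 = n12411 := rfl
theorem F20964 : act 1 n12411 = n9683 := d6_1 D12411 (iv D9683) D9682
def n12412 : Q := act 2 n9683
theorem D12412 : act 2 n9683 = n12412 := rfl
theorem F20965 : act 3 n12412 = n9711 := d15_3 D7460 D9683 D12412 F16199 F12371 (iv F12069) (iv F15767) (iv D9443) F12065
theorem F20966 : act 5 n9710 = n12412 := d13_0 F20965 (iv D9711) D9710
def n12413 : Q := act 4 n9683
theorem D12413 : act 4 n9683 = n12413 := rfl
def n12414 : Q := act 5 n9683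
theorem D12414 : act 5 n9683 = n12414 := rfl
theorem F20967 : act 2 n12414 = n9710 := d11_1 D12414 F20966 (iv D12412)
theorem F20968 : act 3 n12414 = n9684 := d13_1 D12414 (iv D9684) D9683
def n12415 : Q := act 4 n9684
theorem D12415 : act 4 n9684 = n12415 := rfl
theorem F20969 : act 2 n12415 = n9685 := d10_1 D12415 (iv D9685) (iv F16166)
def n12416 : Q := act 0 n9686
theorem D12416 : act 0 n9686 = n12416 := rfl
theorem F20970 : act 1 n12416 = n9695 := d0_2 D9686 D12416 (iv D9695) (iv D7469) (iv F12350)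
theorem F20971 : act 4 n12416 = n9690 := d3_2 (iv F16168) D12416 (iv D9690)
def n12417 : Q := act 3 n9686
theorem D12417 : act 3 n9686 = n12417 := rfl
theorem F20972 : act 1 n12417 = n9687 := d6_1 D12417 (iv D9687) D9686
def n12418 : Q := act 5 n9686
theorem D12418 : act 5 n9686 = n12418 := rfl
theorem F20973 : act 1 n12418 = n9688 := d8_1 D12418 (iv D9688) D9686
def n12419 : Q := act 2 n9687
theorem D12419 : act 2 n9687 = n12419 := rfl
theorem F20974 : act 0 n12419 = n9698 := d1_1 D12419 (iv D9698) (iv F16169)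
theorem F20975 : act 3 n12419 = n9693 := d9_2 D9687 D12419 F16179 F12362 F9349 (iv F9352) (iv F12364) (iv F16190) F16189 (iv D8241) F10405 F7756 (iv F6981) D5672 D7462
theorem F20976 : act 5 n9692 = n12419 := d13_0 F20975 (iv D9693) D9692
def n12420 : Q := act 5 n9687
theorem D12420 : act 5 n9687 = n12420 := rfl
theorem F20977 : act 0 n12420 = n9700 := d4_1 D12420 (iv D9700) (iv F16169)
theorem F20978 : act 2 n12420 = n9692 := d11_1 D12420 F20976 (iv D12419)
theorem F20979 : act 3 n12420 = n9688 := d13_1 D12420 (iv D9688) D9687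
def n12421 : Q := act 0 n9691
theorem D12421 : act 0 n9691 = n12421 := rfl
theorem F20980 : act 1 n12421 = n10622 := d0_2 D9691 D12421 F17768 F13660 (iv F12359)
theorem F20981 : act 4 n12421 = n10619 := d3_2 (iv F16176) D12421 (iv D10619)
def n12422 : Q := act 3 n9691
theorem D12422 : act 3 n9691 = n12422 := rfl
theorem F20982 : act 1 n12422 = n9692 := d6_1 D12422 (iv D9692) D9691
def n12423 : Q := act 5 n9691
theorem D12423 : act 5 n9691 = n12423 := rfl
theorem F20983 : act 1 n12423 = n9693 := d8_1 D12423 (iv D9693) D9691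
def n12424 : Q := act 4 n9692
theorem D12424 : act 4 n9692 = n12424 := rfl
theorem F20984 : act 0 n12424 = n10628 := d3_1 D12424 F17783 (iv F16177)
theorem F20985 : act 3 n12424 = n10621 := d12_1 D12424 (iv D10621) (iv D8234) (iv F12360) D9692
def n12425 : Q := act 4 n9693
theorem D12425 : act 4 n9693 = n12425 := rfl
theorem F20986 : act 0 n12425 = n10625 := d3_1 D12425 F17776 (iv F16178)
theorem F20987 : act 2 n12425 = n9694 := d10_1 D12425 (iv D9694) (iv F16179)
theorem F20988 : act 5 n12425 = n10622 := d14_2 D9693 D12425 (iv D10622) (iv D8235) (iv F12360)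
def n12426 : Q := act 3 n9695
theorem D12426 : act 3 n9695 = n12426 := rfl
theorem F20989 : act 0 n12426 = n9696 := d2_1 D12426 (iv D9696) D9695
def n12427 : Q := act 5 n9695
theorem D12427 : act 5 n9695 = n12427 := rfl
theorem F20990 : act 0 n12427 = n9697 := d4_1 D12427 (iv D9697) D9695
def n12428 : Q := act 2 n9696
theorem D12428 : act 2 n9696 = n12428 := rfl
def n12429 : Q := act 4 n9696
theorem D12429 : act 4 n9696 = n12429 := rfl
theorem F20991 : act 1 n12429 = n9699 := d7_1 D12429 (iv D9699) (iv F16184)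
theorem F20992 : act 3 n12429 = n9705 := d12_1 D12429 (iv D9705) (iv D7474) (iv F12363) D9696
def n12430 : Q := act 5 n9696
theorem D12430 : act 5 n9696 = n12430 := rfl
theorem F20993 : act 1 n12430 = n9700 := d8_1 D12430 (iv D9700) (iv F16184)
theorem F20994 : act 3 n12430 = n9697 := d13_1 D12430 (iv D9697) D9696
def n12431 : Q := act 4 n9697
theorem D12431 : act 4 n9697 = n12431 := rfl
theorem F20995 : act 1 n12431 = n9701 := d7_1 D12431 (iv D9701) (iv F16185)
theorem F20996 : act 5 n12431 = n9706 := d14_2 D9697 D12431 (iv D9706) (iv D7475) (iv F12363)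
def n12432 : Q := act 1 n9698
theorem D12432 : act 1 n9698 = n12432 := rfl
theorem F20997 : act 3 n12432 = n10625 := d6_2 (iv F16186) D12432 F17774
theorem F20998 : act 5 n12432 = n10624 := d8_2 F16187 D12432 F17773
def n12433 : Q := act 4 n9698
theorem D12433 : act 4 n9698 = n12433 := rfl
theorem F20999 : act 2 n12433 = n9699 := d10_1 D12433 (iv D9699) D9698
def n12434 : Q := act 5 n9699
theorem D12434 : act 5 n9699 = n12434 := rfl
theorem F21000 : act 3 n12434 = n9707 := d13_1 D12434 (iv D9707) (iv F16188)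
def n12435 : Q := act 4 n9700
theorem D12435 : act 4 n9700 = n12435 := rfl
theorem F21001 : act 2 n12435 = n10628 := d10_1 D12435 F17783 (iv F16189)
def n12436 : Q := act 3 n9701
theorem D12436 : act 3 n9701 = n12436 := rfl
theorem F21002 : act 5 n12436 = n9708 := d13_2 (iv F16192) D12436 (iv D9708)
def n12437 : Q := act 2 n9702
theorem D12437 : act 2 n9702 = n12437 := rfl
theorem F21003 : act 0 n12437 = n9704 := d1_1 D12437 (iv D9704) (iv F16193)
def n12438 : Q := act 4 n9702
theorem D12438 : act 4 n9702 = n12438 := rfl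
theorem F21004 : act 0 n12438 = n9705 := d3_1 D12438 (iv D9705) (iv F16193)
def n12439 : Q := act 4 n9703
theorem D12439 : act 4 n9703 = n12439 := rfl
theorem F21005 : act 0 n12439 = n9706 := d3_1 D12439 (iv D9706) (iv F16194)
def n12440 : Q := act 3 n9704
theorem D12440 : act 3 n9704 = n12440 := rfl
def n12441 : Q := act 4 n9704
theorem D12441 : act 4 n9704 = n12441 := rfl
theorem F21006 : act 2 n12441 = n9705 := d10_1 D12441 (iv D9705) D9704
def n12442 : Q := act 5 n9705
theorem D12442 : act 5 n9705 = n12442 := rfl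
theorem F21007 : act 1 n12442 = n9707 := d8_1 D12442 (iv D9707) (iv F16195)
def n12443 : Q := act 3 n9706
theorem D12443 : act 3 n9706 = n12443 := rfl
theorem F21008 : act 1 n12443 = n9708 := d6_1 D12443 (iv D9708) (iv F16196)
def n12444 : Q := act 2 n9708
theorem D12444 : act 2 n9708 = n12444 := rfl
def n12445 : Q := act 0 n9709
theorem D12445 : act 0 n9709 = n12445 := rfl
theorem F21009 : act 2 n12445 = n9713 := d1_2 (iv F16197) D12445 (iv D9713)
theorem F21010 : act 4 n12445 = n9940 := d3_2 (iv F16198) D12445 (iv D9940)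
def n12446 : Q := act 3 n9709
theorem D12446 : act 3 n9709 = n12446 := rfl
theorem F21011 : act 1 n12446 = n9710 := d6_1 D12446 (iv D9710) D9709
def n12447 : Q := act 4 n9710
theorem D12447 : act 4 n9710 = n12447 := rfl
theorem F21012 : act 3 n12447 = n9944 := d12_1 D12447 (iv D9944) (iv D7663) (iv F12369) D9710
def n12448 : Q := act 4 n9711
theorem D12448 : act 4 n9711 = n12448 := rfl
theorem F21013 : act 2 n12448 = n9712 := d10_1 D12448 (iv D9712) (iv F16199)
theorem F21014 : act 5 n12448 = n9946 := d14_2 D9711 D12448 (iv D9946) (iv D7664) (iv F12369)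
def n12449 : Q := act 3 n9714
theorem D12449 : act 3 n9714 = n12449 := rfl
theorem F21015 : act 0 n12449 = n9715 := d2_1 D12449 (iv D9715) D9714
theorem F21016 : act 1 n12449 = n9947 := d6_1 D12449 (iv D9947) (iv F16205)
theorem F21017 : act 5 n9958 = n12449 := d4_0 F21015 (iv F16208) D9958
def n12450 : Q := act 5 n9714
theorem D12450 : act 5 n9714 = n12450 := rfl
theorem F21018 : act 0 n12450 = n9716 := d4_1 D12450 (iv D9716) D9714
theorem F21019 : act 1 n12450 = n9948 := d8_1 D12450 (iv D9948) (iv F16205)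
theorem F21020 : act 3 n12450 = n9958 := d13_1 D12450 F21017 (iv D12449)
def n12451 : Q := act 2 n9715
theorem D12451 : act 2 n9715 = n12451 := rfl
theorem F21021 : act 1 n12451 = n9956 := d5_1 D12451 F16615 F12684 (iv F12378) (iv F16207)
theorem F21022 : act 5 n12451 = n9954 := d11_2 F16208 D12451 F16614
def n12452 : Q := act 4 n9715
theorem D12452 : act 4 n9715 = n12452 := rfl
theorem F21023 : act 1 n12452 = n9717 := d7_1 D12452 (iv D9717) (iv F16207)
theorem F21024 : act 3 n12452 = n9722 := d12_1 D12452 (iv D9722) (iv D7487) (iv F12376) D9715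
theorem F21025 : act 5 n12452 = n9871 := d14_2 F16208 D12452 (iv D9871) (iv F16456) F16455
def n12453 : Q := act 4 n9716
theorem D12453 : act 4 n9716 = n12453 := rfl
theorem F21026 : act 1 n12453 = n9718 := d7_1 D12453 (iv D9718) (iv F16209)
theorem F21027 : act 3 n12453 = n9867 := d12_1 D12453 F16490 (iv F16454) F16455 (iv F16210)
theorem F21028 : act 5 n12453 = n9723 := d14_2 D9716 D12453 (iv D9723) (iv D7488) (iv F12376)
def n12454 : Q := act 2 n9719
theorem D12454 : act 2 n9719 = n12454 := rfl
theorem F21029 : act 0 n12454 = n9721 := d1_1 D12454 (iv D9721) (iv F16219)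
def n12455 : Q := act 4 n9719
theorem D12455 : act 4 n9719 = n12455 := rfl
theorem F21030 : act 0 n12455 = n9722 := d3_1 D12455 (iv D9722) (iv F16219)
def n12456 : Q := act 4 n9720
theorem D12456 : act 4 n9720 = n12456 := rfl
theorem F21031 : act 0 n12456 = n9723 := d3_1 D12456 (iv D9723) (iv F16220)
def n12457 : Q := act 3 n9721
theorem D12457 : act 3 n9721 = n12457 := rfl
def n12458 : Q := act 4 n9721
theorem D12458 : act 4 n9721 = n12458 := rfl
theorem F21032 : act 2 n12458 = n9722 := d10_1 D12458 (iv D9722) D9721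
def n12459 : Q := act 4 n9725
theorem D12459 : act 4 n9725 = n12459 := rfl
theorem F21033 : act 0 n12459 = n9731 := d3_1 D12459 (iv D9731) (iv F16227)
theorem F21034 : act 2 n12459 = n9726 := d10_1 D12459 (iv D9726) (iv F16228)
theorem F21035 : act 5 n12459 = n12017 := d14_2 D9725 D12459 (iv D12017) (iv D9369) (iv F12390)
def n12460 : Q := act 4 n9728
theorem D12460 : act 4 n9728 = n12460 := rfl
theorem F21036 : act 0 n12460 = n9732 := d3_1 D12460 F16248 (iv F16237)
theorem F21037 : act 1 n12460 = n9741 := d7_1 D12460 F16269 (iv F16238)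
theorem F21038 : act 2 n12460 = n9729 := d10_1 D12460 (iv D9729) D9728
def n12461 : Q := act 5 n9729
theorem D12461 : act 5 n9729 = n12461 := rfl
theorem F21039 : act 0 n12461 = n12016 := d4_1 D12461 (iv D12016) (iv F16239)
theorem F21040 : act 1 n12461 = n12019 := d8_1 D12461 (iv D12019) (iv F16240)
theorem F21041 : act 3 n12461 = n12024 := d13_1 D12461 (iv D12024) (iv F16241)
def n12462 : Q := act 4 n9730
theorem D12462 : act 4 n9730 = n12462 := rfl
theorem F21042 : act 1 n12462 = n9785 := d7_1 D12462 (iv D9785) (iv F16242)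
def n12463 : Q := act 3 n9731
theorem D12463 : act 3 n9731 = n12463 := rfl
theorem F21043 : act 1 n12463 = n9788 := d6_1 D12463 (iv D9788) (iv F16244)
theorem F21044 : act 5 n12463 = n12026 := d13_2 (iv F16246) D12463 (iv D12026)
def n12464 : Q := act 3 n9732
theorem D12464 : act 3 n9732 = n12464 := rfl
theorem F21045 : act 1 n12464 = n9733 := d6_1 D12464 (iv D9733) D9732
def n12465 : Q := act 5 n9732
theorem D12465 : act 5 n9732 = n12465 := rfl
theorem F21046 : act 1 n12465 = n9734 := d8_1 D12465 (iv D9734) D9732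
theorem F21047 : act 2 n12465 = n12016 := d11_1 D12465 (iv D12016) (iv F16247)
def n12466 : Q := act 2 n9733
theorem D12466 : act 2 n9733 = n12466 := rfl
theorem F21048 : act 0 n12466 = n9744 := d1_1 D12466 (iv D9744) (iv F16249)
theorem F21049 : act 3 n12466 = n9739 := d9_2 D9733 D12466 F16262 F12418 F9396 (iv F9399) (iv F12421) (iv F16277) F16276 (iv D8510) (iv D6529) (iv D4946) (iv F7019) D5701 D7498
theorem F21050 : act 5 n9738 = n12466 := d13_0 F21049 (iv D9739) D9738
def n12467 : Q := act 5 n9733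
theorem D12467 : act 5 n9733 = n12467 := rfl
theorem F21051 : act 0 n12467 = n9746 := d4_1 D12467 (iv D9746) (iv F16249)
theorem F21052 : act 2 n12467 = n9738 := d11_1 D12467 F21050 (iv D12466)
theorem F21053 : act 3 n12467 = n9734 := d13_1 D12467 (iv D9734) D9733
theorem F21054 : act 4 n11035 = n12467 := d10_0 F21052 F16260 D11035
def n12468 : Q := act 4 n9734
theorem D12468 : act 4 n9734 = n12468 := rfl
theorem F21055 : act 0 n12468 = n9747 := d3_1 D12468 (iv D9747) (iv F16250)
theorem F21056 : act 2 n12468 = n9735 := d10_1 D12468 (iv D9735) (iv F16251)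
theorem F21057 : act 5 n12468 = n9736 := d14_2 D9734 D12468 (iv D9736) (iv D7501) (iv F12406)
def n12469 : Q := act 3 n9736
theorem D12469 : act 3 n9736 = n12469 := rfl
theorem F21058 : act 0 n12469 = n9756 := d2_1 D12469 (iv D9756) (iv F16255)
theorem F21059 : act 4 n12469 = n9767 := d12_2 D9736 D12469 (iv D9767) (iv D7526) (iv F12412)
def n12470 : Q := act 0 n9737
theorem D12470 : act 0 n9737 = n12470 := rfl
theorem F21060 : act 1 n12470 = n10958 := d0_2 D9737 D12470 (iv D10958) (iv D8509) (iv F12414)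
theorem F21061 : act 2 n12470 = n11996 := d1_2 (iv F16257) D12470 (iv D11996)
theorem F21062 : act 4 n12470 = n10939 := d3_2 (iv F16258) D12470 (iv D10939)
def n12471 : Q := act 3 n9737
theorem D12471 : act 3 n9737 = n12471 := rfl
theorem F21063 : act 1 n12471 = n9738 := d6_1 D12471 (iv D9738) D9737
theorem F21064 : act 4 n12471 = n11034 := d12_2 (iv F16258) D12471 (iv D11034) (iv D8566) (iv F14123)
def n12472 : Q := act 5 n9737
theorem D12472 : act 5 n9737 = n12472 := rfl
theorem F21065 : act 1 n12472 = n9739 := d8_1 D12472 (iv D9739) D9737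
theorem F21066 : act 2 n12472 = n10522 := d11_1 D12472 (iv F17610) (iv F16257)
theorem F21067 : act 4 n12472 = n11033 := d14_1 D12472 (iv D11033) (iv D8565) (iv F14124) (iv F16258)
def n12473 : Q := act 3 n9741
theorem D12473 : act 3 n9741 = n12473 := rfl
theorem F21068 : act 0 n12473 = n9742 := d2_1 D12473 (iv D9742) D9741
def n12474 : Q := act 5 n9741
theorem D12474 : act 5 n9741 = n12474 := rfl
theorem F21069 : act 0 n12474 = n9743 := d4_1 D12474 (iv D9743) D9741
theorem F21070 : act 2 n12474 = n9758 := d11_1 D12474 (iv D9758) (iv F16268)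
def n12475 : Q := act 2 n9742
theorem D12475 : act 2 n9742 = n12475 := rfl
def n12476 : Q := act 4 n9742
theorem D12476 : act 4 n9742 = n12476 := rfl
theorem F21071 : act 1 n12476 = n9745 := d7_1 D12476 (iv D9745) (iv F16270)
theorem F21072 : act 3 n12476 = n9751 := d12_1 D12476 (iv D9751) (iv D7510) (iv F12420) D9742
def n12477 : Q := act 5 n9742
theorem D12477 : act 5 n9742 = n12477 := rfl
theorem F21073 : act 1 n12477 = n9746 := d8_1 D12477 (iv D9746) (iv F16270)
theorem F21074 : act 3 n12477 = n9743 := d13_1 D12477 (iv D9743) D9742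
def n12478 : Q := act 4 n9743
theorem D12478 : act 4 n9743 = n12478 := rfl
theorem F21075 : act 1 n12478 = n9747 := d7_1 D12478 (iv D9747) (iv F16271)
theorem F21076 : act 2 n12478 = n9761 := d10_1 D12478 (iv D9761) (iv F16272)
theorem F21077 : act 5 n12478 = n9753 := d14_2 D9743 D12478 (iv D9753) (iv D7511) (iv F12420)
def n12479 : Q := act 1 n9744
theorem D12479 : act 1 n9744 = n12479 := rfl
theorem F21078 : act 3 n12479 = n10960 := d6_2 (iv F16273) D12479 F18407
theorem F21079 : act 5 n12479 = n10959 := d8_2 F16274 D12479 F18406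
def n12480 : Q := act 4 n9744
theorem D12480 : act 4 n9744 = n12480 := rfl
theorem F21080 : act 2 n12480 = n9745 := d10_1 D12480 (iv D9745) D9744
def n12481 : Q := act 5 n9745
theorem D12481 : act 5 n9745 = n12481 := rfl
theorem F21081 : act 3 n12481 = n9754 := d13_1 D12481 (iv D9754) (iv F16275)
def n12482 : Q := act 4 n9746
theorem D12482 : act 4 n9746 = n12482 := rfl
theorem F21082 : act 0 n12482 = n11035 := d3_1 D12482 F21054 F21051
theorem F21083 : act 2 n12482 = n10961 := d10_1 D12482 (iv D10961) (iv F16276)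
def n12483 : Q := act 3 n9747
theorem D12483 : act 3 n9747 = n12483 := rfl
theorem F21084 : act 5 n12483 = n9756 := d13_2 (iv F16279) D12483 (iv D9756)
def n12484 : Q := act 4 n9748
theorem D12484 : act 4 n9748 = n12484 := rfl
theorem F21085 : act 0 n12484 = n9751 := d3_1 D12484 (iv D9751) (iv F16280)
def n12485 : Q := act 4 n9749
theorem D12485 : act 4 n9749 = n12485 := rfl
theorem F21086 : act 0 n12485 = n9753 := d3_1 D12485 (iv D9753) (iv F16281)
theorem F21087 : act 2 n12485 = n9764 := d10_1 D12485 (iv D9764) (iv F16282)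
def n12486 : Q := act 4 n9750
theorem D12486 : act 4 n9750 = n12486 := rfl
theorem F21088 : act 2 n12486 = n9751 := d10_1 D12486 (iv D9751) D9750
def n12487 : Q := act 5 n9751
theorem D12487 : act 5 n9751 = n12487 := rfl
theorem F21089 : act 1 n12487 = n9754 := d8_1 D12487 (iv D9754) (iv F16283)
def n12488 : Q := act 4 n9752
theorem D12488 : act 4 n9752 = n12488 := rfl
theorem F21090 : act 0 n12488 = n11008 := d3_1 D12488 (iv F20456) F20454
theorem F21091 : act 1 n12488 = n9755 := d7_1 D12488 (iv D9755) (iv F16284)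
theorem F21092 : act 2 n12488 = n11012 := d10_1 D12488 (iv F20491) F20490
def n12489 : Q := act 3 n9753
theorem D12489 : act 3 n9753 = n12489 := rfl
theorem F21093 : act 1 n12489 = n9756 := d6_1 D12489 (iv D9756) (iv F16286)
def n12490 : Q := act 4 n9754
theorem D12490 : act 4 n9754 = n12490 := rfl
theorem F21094 : act 0 n12490 = n9768 := d3_1 D12490 (iv F20607) F20605
theorem F21095 : act 2 n12490 = n9766 := d10_1 D12490 (iv F20602) F20601
theorem F21096 : act 5 n12490 = n9755 := d14_2 D9754 D12490 (iv D9755) (iv D7513) D7512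
def n12491 : Q := act 3 n9755
theorem D12491 : act 3 n9755 = n12491 := rfl
theorem F21097 : act 0 n12491 = n9767 := d2_1 D12491 (iv D9767) (iv F16288)
theorem F21098 : act 4 n12491 = n9756 := d12_2 D9755 D12491 (iv D9756) (iv D7514) (iv F12430)
def n12492 : Q := act 2 n9756
theorem D12492 : act 2 n9756 = n12492 := rfl
def n12493 : Q := act 2 n9757
theorem D12493 : act 2 n9757 = n12493 := rfl
theorem F21099 : act 0 n12493 = n9759 := d1_1 D12493 (iv D9759) (iv F16290)
theorem F21100 : act 5 n12493 = n10594 := d11_2 F16292 D12493 F17727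
def n12494 : Q := act 4 n9757
theorem D12494 : act 4 n9757 = n12494 := rfl
theorem F21101 : act 0 n12494 = n9760 := d3_1 D12494 (iv D9760) (iv F16290)
theorem F21102 : act 1 n12494 = n9787 := d7_1 D12494 F16353 (iv F16291)
theorem F21103 : act 3 n12494 = n9763 := d12_1 D12494 (iv D9763) (iv D7520) (iv F12433) D9757
theorem F21104 : act 5 n12494 = n11080 := d14_2 F16292 D12494 F18577 (iv F18287) F14831
def n12495 : Q := act 4 n9758
theorem D12495 : act 4 n9758 = n12495 := rfl
theorem F21105 : act 0 n12495 = n9761 := d3_1 D12495 (iv D9761) (iv F16293)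
theorem F21106 : act 1 n12495 = n9786 := d7_1 D12495 F16351 (iv F16294)
theorem F21107 : act 3 n12495 = n11079 := d12_1 D12495 F18575 F18290 F14831 (iv F16295)
theorem F21108 : act 5 n12495 = n9764 := d14_2 D9758 D12495 (iv D9764) (iv D7521) (iv F12433)
def n12496 : Q := act 3 n9759
theorem D12496 : act 3 n9759 = n12496 := rfl
theorem F21109 : act 1 n12496 = n10598 := d6_1 D12496 F17734 (iv F16296)
theorem F21110 : act 5 n12496 = n10595 := d13_2 (iv F16297) D12496 (iv D10595)
def n12497 : Q := act 4 n9759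
theorem D12497 : act 4 n9759 = n12497 := rfl
theorem F21111 : act 1 n12497 = n10599 := d7_1 D12497 (iv D10599) (iv F16296)
theorem F21112 : act 2 n12497 = n9760 := d10_1 D12497 (iv D9760) D9759
theorem F21113 : act 5 n12497 = n11085 := d14_2 (iv F16297) D12497 F18581 F18292 F14826
def n12498 : Q := act 4 n9762
theorem D12498 : act 4 n9762 = n12498 := rfl
theorem F21114 : act 0 n12498 = n9765 := d3_1 D12498 (iv D9765) (iv F16304)
theorem F21115 : act 2 n12498 = n9763 := d10_1 D12498 (iv D9763) D9762
theorem F21116 : act 5 n12498 = n11061 := d14_2 (iv F16305) D12498 (iv D11061) (iv D8588) (iv F12462)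
def n12499 : Q := act 3 n9765
theorem D12499 : act 3 n9765 = n12499 := rfl
theorem F21117 : act 1 n12499 = n9772 := d6_1 D12499 (iv D9772) (iv F16312)
theorem F21118 : act 5 n12499 = n11068 := d13_2 (iv F16314) D12499 (iv D11068)
def n12500 : Q := act 2 n9767
theorem D12500 : act 2 n9767 = n12500 := rfl
theorem F21119 : act 3 n12500 = n10661 := d15_3 (iv F12460) D9767 D12500 F17849 F13733 (iv F14216) (iv F16316) (iv D9766) F12458
theorem F21120 : act 5 n10660 = n12500 := d13_0 F21119 (iv D10661) D10660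
def n12501 : Q := act 5 n9767
theorem D12501 : act 5 n9767 = n12501 := rfl
theorem F21121 : act 1 n12501 = n11604 := d8_1 D12501 F20474 F20472
theorem F21122 : act 2 n12501 = n10660 := d11_1 D12501 F21120 (iv D12500)
theorem F21123 : act 3 n12501 = n9768 := d13_1 D12501 (iv D9768) D9767
theorem F21124 : act 1 n10660 = n10084 := d5_1 F21122 (iv D10084) (iv F14968) D11604 (iv F21121)
theorem F21125 : act 3 n10084 = n10659 := d6_2 D10660 F21124 F17848
def n12502 : Q := act 4 n9769
theorem D12502 : act 4 n9769 = n12502 := rfl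
theorem F21126 : act 0 n12502 = n9770 := d3_1 D12502 (iv D9770) (iv F16318)
theorem F21127 : act 3 n12502 = n11059 := d12_1 D12502 (iv D11059) (iv D8587) (iv F12462) D9769
def n12503 : Q := act 5 n9770
theorem D12503 : act 5 n9770 = n12503 := rfl
theorem F21128 : act 1 n12503 = n9771 := d8_1 D12503 (iv D9771) (iv F16319)
theorem F21129 : act 3 n12503 = n11066 := d13_1 D12503 (iv D11066) (iv F16320)
def n12504 : Q := act 2 n9772
theorem D12504 : act 2 n9772 = n12504 := rfl
theorem F21130 : act 5 n12504 = n11075 := d11_2 (iv F16322) D12504 (iv D11075)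
def n12505 : Q := act 2 n9773
theorem D12505 : act 2 n9773 = n12505 := rfl
theorem F21131 : act 0 n12505 = n9775 := d1_1 D12505 (iv D9775) (iv F16323)
theorem F21132 : act 3 n12505 = n9859 := d15_1 D12505 (iv D9859) (iv D7600) F9532 (iv F9446) (iv F12472) (iv F12775) F12776 (iv F16323)
def n12506 : Q := act 4 n9773
theorem D12506 : act 4 n9773 = n12506 := rfl
theorem F21133 : act 0 n12506 = n9776 := d3_1 D12506 (iv D9776) (iv F16323)
theorem F21134 : act 3 n12506 = n9779 := d12_1 D12506 (iv D9779) (iv D7538) (iv F12469) D9773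
def n12507 : Q := act 4 n9774
theorem D12507 : act 4 n9774 = n12507 := rfl
theorem F21135 : act 0 n12507 = n9777 := d3_1 D12507 (iv D9777) (iv F16324)
theorem F21136 : act 2 n12507 = n9782 := d10_1 D12507 (iv D9782) (iv F16325)
theorem F21137 : act 5 n12507 = n9779 := d14_2 D9774 D12507 (iv D9779) (iv F12478) (iv F12469)
def n12508 : Q := act 3 n9775
theorem D12508 : act 3 n9775 = n12508 := rfl
theorem F21138 : act 0 n12508 = n9859 := d2_1 D12508 (iv F21132) F21131
theorem F21139 : act 2 n12508 = n9858 := d15_2 D9775 D12508 (iv D9858) F12590 (iv F12486) (iv F16325) (iv F16743) F16744 F16323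
def n12509 : Q := act 4 n9775
theorem D12509 : act 4 n9775 = n12509 := rfl
theorem F21140 : act 2 n12509 = n9776 := d10_1 D12509 (iv D9776) D9775
def n12510 : Q := act 5 n9776
theorem D12510 : act 5 n9776 = n12510 := rfl
theorem F21141 : act 1 n12510 = n9778 := d8_1 D12510 (iv D9778) (iv F16326)
theorem F21142 : act 3 n12510 = n9777 := d13_1 D12510 F16330 (iv F16327)
theorem F21143 : act 4 n12510 = n10217 := d14_1 D12510 F17056 F15250 F12776 D9776
def n12511 : Q := act 1 n9780
theorem D12511 : act 1 n9780 = n12511 := rfl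
theorem F21144 : act 0 n12511 = n9845 := d0_1 D12511 F16466 F12580 (iv F12487) (iv F16336)
theorem F21145 : act 2 n12511 = n11076 := d5_2 D9780 D12511 (iv D11076) (iv D8598) (iv F12482)
theorem F21146 : act 5 n12511 = n9843 := d8_2 (iv F16337) D12511 F16463
theorem F21147 : act 3 n9899 = n12511 := d2_0 F21144 F16467 D9899
def n12512 : Q := act 3 n9780
theorem D12512 : act 3 n9780 = n12512 := rfl
theorem F21148 : act 0 n12512 = n9783 := d2_1 D12512 (iv D9783) (iv F16336)
theorem F21149 : act 1 n12512 = n9899 := d6_1 D12512 F21147 (iv D12511)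
theorem F21150 : act 5 n12512 = n9858 := d13_2 (iv F16337) D12512 (iv D9858)
def n12513 : Q := act 4 n9780
theorem D12513 : act 4 n9780 = n12513 := rfl
theorem F21151 : act 0 n12513 = n9784 := d3_1 D12513 (iv D9784) (iv F16336)
theorem F21152 : act 2 n12513 = n9781 := d10_1 D12513 (iv D9781) D9780
def n12514 : Q := act 2 n9783
theorem D12514 : act 2 n9783 = n12514 := rfl
theorem F21153 : act 1 n12514 = n9890 := d5_1 D12514 (iv D9890) F12638 (iv F12596) (iv F16344)
theorem F21154 : act 5 n12514 = n9859 := d11_2 (iv F16345) D12514 (iv D9859)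
def n12515 : Q := act 4 n9783
theorem D12515 : act 4 n9783 = n12515 := rfl
theorem F21155 : act 1 n12515 = n9864 := d7_1 D12515 (iv D9864) (iv F16344)
def n12516 : Q := act 3 n9784
theorem D12516 : act 3 n9784 = n12516 := rfl
theorem F21156 : act 1 n12516 = n9865 := d6_1 D12516 (iv D9865) (iv F16346)
def n12517 : Q := act 3 n9785
theorem D12517 : act 3 n9785 = n12517 := rfl
theorem F21157 : act 0 n12517 = n9788 := d2_1 D12517 (iv D9788) (iv F16348)
theorem F21158 : act 4 n12517 = n9788 := d12_2 D9785 D12517 (iv D9788) (iv D7548) (iv F12494)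
def n12518 : Q := act 5 n9785
theorem D12518 : act 5 n9785 = n12518 := rfl
theorem F21159 : act 0 n12518 = n9789 := d4_1 D12518 (iv D9789) (iv F16348)
theorem F21160 : act 2 n12518 = n9786 := d11_1 D12518 (iv D9786) (iv F16349)
theorem F21161 : act 4 n12518 = n12019 := d14_1 D12518 (iv D12019) (iv F16234) F16235 D9785
def n12519 : Q := act 2 n9787
theorem D12519 : act 2 n9787 = n12519 := rfl
theorem F21162 : act 0 n12519 = n9790 := d1_1 D12519 (iv D9790) (iv F16352)
theorem F21163 : act 4 n12519 = n12027 := d10_2 (iv F16353) D12519 (iv D12027)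
def n12520 : Q := act 2 n9788
theorem D12520 : act 2 n9788 = n12520 := rfl
def n12521 : Q := act 5 n9788
theorem D12521 : act 5 n9788 = n12521 := rfl
theorem F21164 : act 1 n12521 = n12026 := d8_1 D12521 (iv F21044) F21043
theorem F21165 : act 3 n12521 = n9789 := d13_1 D12521 (iv D9789) D9788
def n12522 : Q := act 3 n9790
theorem D12522 : act 3 n9790 = n12522 := rfl
def n12523 : Q := act 0 n9791
theorem D12523 : act 0 n9791 = n12523 := rfl
theorem F21166 : act 2 n12523 = n9799 := d1_2 (iv F16358) D12523 (iv D9799)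
theorem F21167 : act 5 n12523 = n10913 := d4_2 F16359 D12523 F18316
def n12524 : Q := act 3 n9791
theorem D12524 : act 3 n9791 = n12524 := rfl
theorem F21168 : act 1 n12524 = n9792 := d6_1 D12524 (iv D9792) D9791
theorem F21169 : act 5 n12524 = n10916 := d13_2 F16359 D12524 (iv D10916)
def n12525 : Q := act 2 n9792
theorem D12525 : act 2 n9792 = n12525 := rfl
theorem F21170 : act 0 n12525 = n9822 := d1_1 D12525 (iv F20693) F20691
theorem F21171 : act 3 n12525 = n9816 := d9_2 D9792 D12525 F16409 F12537 (iv F12213) D9541 D12241 F20688 (iv D9820) (iv D7572) (iv D5769) (iv D4336) (iv F7072) D5751 D7551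
theorem F21172 : act 5 n9815 = n12525 := d13_0 F21171 (iv D9816) D9815
def n12526 : Q := act 4 n9792
theorem D12526 : act 4 n9792 = n12526 := rfl
def n12527 : Q := act 5 n9792
theorem D12527 : act 5 n9792 = n12527 := rfl
theorem F21173 : act 0 n12527 = n9820 := d4_1 D12527 (iv F20692) F20691
theorem F21174 : act 1 n12527 = n10916 := d8_1 D12527 (iv F21169) F21168
theorem F21175 : act 2 n12527 = n9815 := d11_1 D12527 F21172 (iv D12525)
theorem F21176 : act 3 n12527 = n9793 := d13_1 D12527 (iv D9793) D9792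
def n12528 : Q := act 4 n9793
theorem D12528 : act 4 n9793 = n12528 := rfl
theorem F21177 : act 1 n12528 = n10917 := d7_1 D12528 (iv D10917) (iv F16360)
theorem F21178 : act 2 n12528 = n9794 := d10_1 D12528 (iv D9794) (iv F16361)
def n12529 : Q := act 0 n9795
theorem D12529 : act 0 n9795 = n12529 := rfl
theorem F21179 : act 1 n12529 = n9804 := d0_2 D9795 D12529 (iv D9804) (iv D7559) (iv F12504)
theorem F21180 : act 4 n12529 = n9799 := d3_2 (iv F16363) D12529 (iv D9799)
def n12530 : Q := act 3 n9795
theorem D12530 : act 3 n9795 = n12530 := rfl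
theorem F21181 : act 1 n12530 = n9796 := d6_1 D12530 (iv D9796) D9795
theorem F21182 : act 4 n12530 = n10919 := d12_2 (iv F16363) D12530 (iv D10919) (iv D8478) (iv F12508)
def n12531 : Q := act 5 n9795
theorem D12531 : act 5 n9795 = n12531 := rfl
theorem F21183 : act 1 n12531 = n9797 := d8_1 D12531 (iv D9797) D9795
theorem F21184 : act 4 n12531 = n10918 := d14_1 D12531 (iv D10918) (iv D8477) (iv F12509) (iv F16363)
def n12532 : Q := act 2 n9796
theorem D12532 : act 2 n9796 = n12532 := rfl
theorem F21185 : act 0 n12532 = n9807 := d1_1 D12532 (iv D9807) (iv F16364)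
theorem F21186 : act 3 n12532 = n9802 := d9_2 D9796 D12532 F16379 F12515 F9481 (iv F9484) (iv F12517) (iv F16392) F16391 (iv D9447) (iv D7277) (iv D5542) (iv F7074) D5753 D7553
theorem F21187 : act 4 n12532 = n10920 := d10_2 (iv F16365) D12532 (iv D10920)
theorem F21188 : act 5 n9801 = n12532 := d13_0 F21186 (iv D9802) D9801
def n12533 : Q := act 5 n9796
theorem D12533 : act 5 n9796 = n12533 := rfl
theorem F21189 : act 0 n12533 = n9809 := d4_1 D12533 (iv D9809) (iv F16364)
theorem F21190 : act 2 n12533 = n9801 := d11_1 D12533 F21188 (iv D12532)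
theorem F21191 : act 3 n12533 = n9797 := d13_1 D12533 (iv D9797) D9796
theorem F21192 : act 4 n12533 = n11910 := d14_1 D12533 (iv D11910) (iv F18314) F18315 (iv F16365)
def n12534 : Q := act 0 n9800
theorem D12534 : act 0 n9800 = n12534 := rfl
theorem F21193 : act 1 n12534 = n12116 := d0_2 D9800 D12534 (iv D12116) (iv D9446) (iv F12512)
theorem F21194 : act 4 n12534 = n12115 := d3_2 (iv F16376) D12534 (iv D12115)
def n12535 : Q := act 3 n9800
theorem D12535 : act 3 n9800 = n12535 := rfl
theorem F21195 : act 1 n12535 = n9801 := d6_1 D12535 (iv D9801) D9800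
def n12536 : Q := act 5 n9800
theorem D12536 : act 5 n9800 = n12536 := rfl
theorem F21196 : act 1 n12536 = n9802 := d8_1 D12536 (iv D9802) D9800
def n12537 : Q := act 4 n9802
theorem D12537 : act 4 n9802 = n12537 := rfl
theorem F21197 : act 0 n12537 = n12120 := d3_1 D12537 (iv D12120) (iv F16378)
theorem F21198 : act 2 n12537 = n9803 := d10_1 D12537 (iv D9803) (iv F16379)
theorem F21199 : act 5 n12537 = n11706 := d14_2 D9802 D12537 (iv D11706) F15146 (iv F12513)
def n12538 : Q := act 3 n9804
theorem D12538 : act 3 n9804 = n12538 := rfl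
theorem F21200 : act 0 n12538 = n9805 := d2_1 D12538 (iv D9805) D9804
def n12539 : Q := act 5 n9804
theorem D12539 : act 5 n9804 = n12539 := rfl
theorem F21201 : act 0 n12539 = n9806 := d4_1 D12539 (iv D9806) D9804
def n12540 : Q := act 2 n9805
theorem D12540 : act 2 n9805 = n12540 := rfl
def n12541 : Q := act 5 n9805
theorem D12541 : act 5 n9805 = n12541 := rfl
theorem F21202 : act 1 n12541 = n9809 := d8_1 D12541 (iv D9809) (iv F16384)
theorem F21203 : act 3 n12541 = n9806 := d13_1 D12541 (iv D9806) D9805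
def n12542 : Q := act 4 n9806
theorem D12542 : act 4 n9806 = n12542 := rfl
theorem F21204 : act 1 n12542 = n9810 := d7_1 D12542 (iv D9810) (iv F16385)
theorem F21205 : act 5 n12542 = n9813 := d14_2 D9806 D12542 (iv D9813) (iv D7565) (iv F12516)
theorem F21206 : act 3 n11885 = n12542 := d13_3 F21205 F16405 D11885
def n12543 : Q := act 1 n9807
theorem D12543 : act 1 n9807 = n12543 := rfl
theorem F21207 : act 3 n12543 = n12118 := d6_2 (iv F16386) D12543 F20438
theorem F21208 : act 5 n12543 = n12117 := d8_2 F16387 D12543 F20437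
def n12544 : Q := act 4 n9807
theorem D12544 : act 4 n9807 = n12544 := rfl
theorem F21209 : act 0 n12544 = n10920 := d3_1 D12544 (iv F21187) F21185
theorem F21210 : act 2 n12544 = n9808 := d10_1 D12544 (iv D9808) D9807
theorem F21211 : act 5 n11888 = n12544 := d11_0 F21210 (iv F16390) D11888
theorem F21212 : act 3 n12504 = n12544 := d15_1 D12504 F21210 F16389 F12525 (iv F10873) (iv F14230) D11057 (iv F20009) F20008
def n12545 : Q := act 4 n9809
theorem D12545 : act 4 n9809 = n12545 := rfl
theorem F21213 : act 0 n12545 = n11910 := d3_1 D12545 (iv F21192) F21189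
theorem F21214 : act 2 n12545 = n12119 := d10_1 D12545 (iv D12119) (iv F16391)
theorem F21215 : act 3 n12545 = n11886 := d12_1 D12545 (iv D11886) F16396 (iv D9810) (iv F16392)
theorem F21216 : act 5 n12545 = n11887 := d14_2 D9809 D12545 F20003 F16390 (iv D9808)
def n12546 : Q := act 4 n9812
theorem D12546 : act 4 n9812 = n12546 := rfl
theorem F21217 : act 0 n12546 = n9813 := d3_1 D12546 (iv D9813) (iv F16401)
theorem F21218 : act 1 n12546 = n10914 := d7_1 D12546 (iv D10914) (iv F16402)
theorem F21219 : act 3 n12546 = n10533 := d12_1 D12546 (iv D10533) F13542 (iv F14072) (iv F16403)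
def n12547 : Q := act 0 n9814
theorem D12547 : act 0 n9814 = n12547 := rfl
theorem F21220 : act 1 n12547 = n9818 := d0_2 D9814 D12547 (iv D9818) (iv D7571) (iv F12534)
theorem F21221 : act 2 n12547 = n9843 := d1_2 (iv F16406) D12547 (iv D9843)
theorem F21222 : act 5 n11076 = n12547 := d11_0 F21221 (iv F21146) F21145
def n12548 : Q := act 3 n9814
theorem D12548 : act 3 n9814 = n12548 := rfl
theorem F21223 : act 1 n12548 = n9815 := d6_1 D12548 (iv D9815) D9814
def n12549 : Q := act 5 n9814
theorem D12549 : act 5 n9814 = n12549 := rfl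
theorem F21224 : act 0 n12549 = n11076 := d4_1 D12549 F21222 (iv D12547)
theorem F21225 : act 1 n12549 = n9816 := d8_1 D12549 (iv D9816) D9814
theorem F21226 : act 2 n12549 = n9845 := d11_1 D12549 (iv D9845) (iv F16406)
def n12550 : Q := act 4 n9815
theorem D12550 : act 4 n9815 = n12550 := rfl
theorem F21227 : act 0 n12550 = n9821 := d3_1 D12550 (iv D9821) (iv F16407)
def n12551 : Q := act 4 n9816
theorem D12551 : act 4 n9816 = n12551 := rfl
theorem F21228 : act 0 n12551 = n9823 := d3_1 D12551 (iv D9823) (iv F16408)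
theorem F21229 : act 2 n12551 = n9817 := d10_1 D12551 (iv D9817) (iv F16409)
def n12552 : Q := act 3 n9818
theorem D12552 : act 3 n9818 = n12552 := rfl
theorem F21230 : act 0 n12552 = n9819 := d2_1 D12552 (iv D9819) D9818
theorem F21231 : act 5 n12552 = n11077 := d13_2 (iv F16413) D12552 (iv D11077)
theorem F21232 : act 2 n12552 = n11063 := d15_2 (iv F16412) D12552 (iv D11063) (iv D8589) (iv D6582) F8139 D4991 (iv F9505) D7577
def n12553 : Q := act 2 n9819
theorem D12553 : act 2 n9819 = n12553 := rfl
theorem F21233 : act 0 n12553 = n11063 := d1_1 D12553 (iv F21232) F21230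
theorem F21234 : act 5 n12553 = n11081 := d11_2 (iv F16415) D12553 (iv D11081)
theorem F21235 : act 3 n12553 = n11058 := d15_1 D12553 (iv D11058) (iv D8587) F10874 D6588 D8598 D11077 (iv F21231) F21230
def n12554 : Q := act 4 n9819
theorem D12554 : act 4 n9819 = n12554 := rfl
theorem F21236 : act 1 n12554 = n9821 := d7_1 D12554 (iv D9821) (iv F16414)
def n12555 : Q := act 1 n9820
theorem D12555 : act 1 n9820 = n12555 := rfl
def n12556 : Q := act 4 n9820
theorem D12556 : act 4 n9820 = n12556 := rfl
theorem F21237 : act 2 n12556 = n9821 := d10_1 D12556 (iv D9821) D9820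
def n12557 : Q := act 5 n9821
theorem D12557 : act 5 n9821 = n12557 := rfl
def n12558 : Q := act 4 n9822
theorem D12558 : act 4 n9822 = n12558 := rfl
theorem F21238 : act 1 n12558 = n11082 := d7_1 D12558 (iv D11082) (iv F16416)
def n12559 : Q := act 3 n9823
theorem D12559 : act 3 n9823 = n12559 := rfl
theorem F21239 : act 1 n12559 = n11083 := d6_1 D12559 (iv D11083) (iv F16418)
def n12560 : Q := act 2 n9824
theorem D12560 : act 2 n9824 = n12560 := rfl
theorem F21240 : act 4 n12560 = n9825 := d10_2 (iv F16421) D12560 (iv D9825)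
theorem F21241 : act 5 n12560 = n9920 := d11_2 (iv F16422) D12560 F16560
def n12561 : Q := act 1 n9825
theorem D12561 : act 1 n9825 = n12561 := rfl
theorem F21242 : act 2 n12561 = n9829 := d5_2 D9825 D12561 (iv D9829) (iv D7579) (iv F12543)
theorem F21243 : act 5 n12561 = n9826 := d8_2 (iv F16423) D12561 (iv D9826)
def n12562 : Q := act 0 n9826
theorem D12562 : act 0 n9826 = n12562 := rfl
theorem F21244 : act 2 n12562 = n9830 := d1_2 (iv F16424) D12562 (iv D9830)
theorem F21245 : act 4 n12562 = n9914 := d3_2 (iv F16425) D12562 (iv D9914)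
def n12563 : Q := act 3 n9826
theorem D12563 : act 3 n9826 = n12563 := rfl
theorem F21246 : act 1 n12563 = n9827 := d6_1 D12563 (iv D9827) D9826
def n12564 : Q := act 4 n9827
theorem D12564 : act 4 n9827 = n12564 := rfl
theorem F21247 : act 3 n12564 = n9918 := d12_1 D12564 (iv D9918) (iv D7645) (iv F12545) D9827
def n12565 : Q := act 1 n9828
theorem D12565 : act 1 n9828 = n12565 := rfl
theorem F21248 : act 3 n12565 = n9951 := d6_2 (iv F16427) D12565 F16610
theorem F21249 : act 4 n12565 = n9829 := d7_2 (iv F16428) D12565 (iv D9829)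
theorem F21250 : act 5 n12565 = n9925 := d8_2 (iv F16429) D12565 F16564
def n12566 : Q := act 0 n9829
theorem D12566 : act 0 n9829 = n12566 := rfl
theorem F21251 : act 1 n12566 = n9868 := d0_2 D9829 D12566 (iv D9868) (iv D7609) (iv F12552)
theorem F21252 : act 3 n12566 = n9882 := d2_2 (iv F16430) D12566 (iv D9882)
theorem F21253 : act 5 n12566 = n9830 := d4_2 (iv F16431) D12566 (iv D9830)
def n12567 : Q := act 3 n9830
theorem D12567 : act 3 n9830 = n12567 := rfl
theorem F21254 : act 0 n12567 = n9831 := d2_1 D12567 (iv D9831) D9830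
theorem F21255 : act 1 n12567 = n9869 := d6_1 D12567 (iv D9869) (iv F16432)
theorem F21256 : act 5 n12567 = n9882 := d13_2 F21253 D12567 (iv F21252)
def n12568 : Q := act 2 n9831
theorem D12568 : act 2 n9831 = n12568 := rfl
theorem F21257 : act 1 n12568 = n9873 := d5_1 D12568 (iv D9873) F12610 (iv F12558) (iv F16434)
theorem F21258 : act 5 n12568 = n9878 := d11_2 (iv F16435) D12568 F16507
def n12569 : Q := act 4 n9831
theorem D12569 : act 4 n9831 = n12569 := rfl
theorem F21259 : act 1 n12569 = n9832 := d7_1 D12569 (iv D9832) (iv F16434)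
theorem F21260 : act 3 n12569 = n9924 := d12_1 D12569 (iv D9924) (iv D7649) (iv F12555) D9831
theorem F21261 : act 5 n12569 = n9950 := d14_2 (iv F16435) D12569 (iv D9950) F16513 (iv D9883)
def n12570 : Q := act 3 n9833
theorem D12570 : act 3 n9833 = n12570 := rfl
theorem F21262 : act 0 n12570 = n9834 := d2_1 D12570 (iv D9834) D9833
theorem F21263 : act 1 n12570 = n9872 := d6_1 D12570 (iv D9872) (iv F16440)
theorem F21264 : act 5 n12570 = n9836 := d13_2 (iv F16443) D12570 (iv D9836)
def n12571 : Q := act 2 n9834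
theorem D12571 : act 2 n9834 = n12571 := rfl
theorem F21265 : act 1 n12571 = n9870 := d5_1 D12571 (iv D9870) F12606 (iv F12562) (iv F16444)
theorem F21266 : act 5 n12571 = n9837 := d11_2 (iv F16445) D12571 (iv D9837)
def n12572 : Q := act 4 n9834
theorem D12572 : act 4 n9834 = n12572 := rfl
theorem F21267 : act 1 n12572 = n9835 := d7_1 D12572 (iv D9835) (iv F16444)
theorem F21268 : act 3 n12572 = n9965 := d12_1 D12572 (iv D9965) F12697 (iv F12559) D9834
theorem F21269 : act 5 n12572 = n9957 := d14_2 (iv F16445) D12572 (iv D9957) (iv D7674) (iv F12568)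
def n12573 : Q := act 2 n9836
theorem D12573 : act 2 n9836 = n12573 := rfl
theorem F21270 : act 0 n12573 = n9837 := d1_1 D12573 (iv D9837) (iv F16450)
theorem F21271 : act 4 n12573 = n9952 := d10_2 (iv F16452) D12573 (iv D9952)
def n12574 : Q := act 1 n9837
theorem D12574 : act 1 n9837 = n12574 := rfl
theorem F21272 : act 2 n12574 = n9838 := d5_2 D9837 D12574 (iv D9838) (iv D7586) (iv F12567)
theorem F21273 : act 4 n12574 = n9954 := d7_2 (iv F16453) D12574 (iv D9954)
theorem F21274 : act 5 n12574 = n9870 := d8_2 F21266 D12574 (iv F21265)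
def n12575 : Q := act 3 n9837
theorem D12575 : act 3 n9837 = n12575 := rfl
def n12576 : Q := act 0 n9838
theorem D12576 : act 0 n9838 = n12576 := rfl
theorem F21275 : act 1 n12576 = n9882 := d0_2 D9838 D12576 (iv D9882) (iv D7619) (iv F12569)
theorem F21276 : act 3 n12576 = n9868 := d2_2 (iv F16454) D12576 (iv D9868)
theorem F21277 : act 4 n12576 = n9958 := d3_2 (iv F16455) D12576 (iv D9958)
theorem F21278 : act 5 n12576 = n9869 := d4_2 (iv F16456) D12576 F16492
def n12577 : Q := act 0 n9839
theorem D12577 : act 0 n9839 = n12577 := rfl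
theorem F21279 : act 1 n12577 = n9852 := d0_2 D9839 D12577 (iv D9852) (iv D7595) (iv F12573)
theorem F21280 : act 4 n12577 = n9843 := d3_2 (iv F16457) D12577 (iv D9843)
def n12578 : Q := act 3 n9839
theorem D12578 : act 3 n9839 = n12578 := rfl
theorem F21281 : act 1 n12578 = n9840 := d6_1 D12578 (iv D9840) D9839
def n12579 : Q := act 5 n9839
theorem D12579 : act 5 n9839 = n12579 := rfl
theorem F21282 : act 1 n12579 = n9841 := d8_1 D12579 (iv D9841) D9839
def n12580 : Q := act 2 n9840
theorem D12580 : act 2 n9840 = n12580 := rfl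
theorem F21283 : act 0 n12580 = n9854 := d1_1 D12580 (iv D9854) (iv F16458)
theorem F21284 : act 3 n12580 = n9850 := d9_2 D9840 D12580 F16472 F12584 F9528 (iv F9531) (iv F12587) (iv F16477) (iv F18337) (iv D10926) (iv D8485) (iv D6510) F8071 D5781 D7587
theorem F21285 : act 5 n9849 = n12580 := d13_0 F21284 (iv D9850) D9849
def n12581 : Q := act 4 n9840
theorem D12581 : act 4 n9840 = n12581 := rfl
theorem F21286 : act 0 n12581 = n9855 := d3_1 D12581 (iv D9855) (iv F16458)
theorem F21287 : act 3 n12581 = n9846 := d12_1 D12581 (iv D9846) (iv D7590) (iv F12574) D9840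
def n12582 : Q := act 5 n9840
theorem D12582 : act 5 n9840 = n12582 := rfl
theorem F21288 : act 0 n12582 = n9856 := d4_1 D12582 (iv D9856) (iv F16458)
theorem F21289 : act 2 n12582 = n9849 := d11_1 D12582 F21285 (iv D12580)
theorem F21290 : act 3 n12582 = n9841 := d13_1 D12582 (iv D9841) D9840
def n12583 : Q := act 4 n9841
theorem D12583 : act 4 n9841 = n12583 := rfl
theorem F21291 : act 0 n12583 = n9857 := d3_1 D12583 (iv D9857) (iv F16459)
theorem F21292 : act 2 n12583 = n9842 := d10_1 D12583 (iv D9842) (iv F16460)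
theorem F21293 : act 5 n12583 = n9847 := d14_2 D9841 D12583 (iv D9847) (iv D7591) (iv F12574)
def n12584 : Q := act 3 n9843
theorem D12584 : act 3 n9843 = n12584 := rfl
theorem F21294 : act 0 n12584 = n9844 := d2_1 D12584 (iv D9844) D9843
theorem F21295 : act 1 n12584 = n9858 := d6_1 D12584 (iv D9858) (iv F16463)
theorem F21296 : act 5 n12584 = n9899 := d13_2 F21146 D12584 F21147
def n12585 : Q := act 4 n9844
theorem D12585 : act 4 n9844 = n12585 := rfl
theorem F21297 : act 1 n12585 = n9846 := d7_1 D12585 (iv D9846) (iv F16464)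
def n12586 : Q := act 4 n9845
theorem D12586 : act 4 n9845 = n12586 := rfl
theorem F21298 : act 1 n12586 = n9847 := d7_1 D12586 (iv D9847) (iv F16466)
def n12587 : Q := act 5 n9846
theorem D12587 : act 5 n9846 = n12587 := rfl
theorem F21299 : act 0 n12587 = n9863 := d4_1 D12587 (iv D9863) (iv F16468)
theorem F21300 : act 2 n12587 = n9903 := d11_1 D12587 F16539 (iv F16469)
theorem F21301 : act 4 n12587 = n9902 := d14_1 D12587 (iv D9902) (iv D7636) F12579 D9846
def n12588 : Q := act 3 n9847
theorem D12588 : act 3 n9847 = n12588 := rfl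
theorem F21302 : act 0 n12588 = n9865 := d2_1 D12588 (iv D9865) (iv F16470)
theorem F21303 : act 4 n12588 = n9901 := d12_2 D9847 D12588 (iv D9901) (iv D7636) (iv F12582)
def n12589 : Q := act 0 n9848
theorem D12589 : act 0 n9848 = n12589 := rfl
def n12590 : Q := act 3 n9848
theorem D12590 : act 3 n9848 = n12590 := rfl
theorem F21304 : act 1 n12590 = n9849 := d6_1 D12590 (iv D9849) D9848
def n12591 : Q := act 3 n9852
theorem D12591 : act 3 n9852 = n12591 := rfl
theorem F21305 : act 0 n12591 = n9853 := d2_1 D12591 (iv D9853) D9852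
def n12592 : Q := act 2 n9853
theorem D12592 : act 2 n9853 = n12592 := rfl
def n12593 : Q := act 4 n9853
theorem D12593 : act 4 n9853 = n12593 := rfl
theorem F21306 : act 1 n12593 = n9855 := d7_1 D12593 (iv D9855) (iv F16475)
theorem F21307 : act 3 n12593 = n9860 := d12_1 D12593 (iv D9860) (iv D7600) (iv F12586) D9853
def n12594 : Q := act 1 n9854
theorem D12594 : act 1 n9854 = n12594 := rfl
def n12595 : Q := act 4 n9854
theorem D12595 : act 4 n9854 = n12595 := rfl
theorem F21308 : act 2 n12595 = n9855 := d10_1 D12595 (iv D9855) D9854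
def n12596 : Q := act 5 n9855
theorem D12596 : act 5 n9855 = n12596 := rfl
theorem F21309 : act 3 n12596 = n9863 := d13_1 D12596 (iv D9863) (iv F16476)
def n12597 : Q := act 4 n9856
theorem D12597 : act 4 n9856 = n12597 := rfl
def n12598 : Q := act 3 n9857
theorem D12598 : act 3 n9857 = n12598 := rfl
theorem F21310 : act 5 n12598 = n9865 := d13_2 (iv F16479) D12598 (iv D9865)
def n12599 : Q := act 4 n9858
theorem D12599 : act 4 n9858 = n12599 := rfl
theorem F21311 : act 0 n12599 = n9860 := d3_1 D12599 (iv D9860) (iv F16480)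
def n12600 : Q := act 1 n9859
theorem D12600 : act 1 n9859 = n12600 := rfl
theorem F21312 : act 2 n12600 = n9861 := d5_2 D9859 D12600 (iv D9861) (iv D7601) (iv F12591)
theorem F21313 : act 5 n12600 = n9890 := d8_2 F21154 D12600 (iv F21153)
def n12601 : Q := act 4 n9859
theorem D12601 : act 4 n9859 = n12601 := rfl
theorem F21314 : act 2 n12601 = n9860 := d10_1 D12601 (iv D9860) D9859
def n12602 : Q := act 5 n9860
theorem D12602 : act 5 n9860 = n12602 := rfl
theorem F21315 : act 1 n12602 = n9863 := d8_1 D12602 (iv D9863) (iv F16481)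
def n12603 : Q := act 4 n9861
theorem D12603 : act 4 n9861 = n12603 := rfl
theorem F21316 : act 1 n12603 = n9862 := d7_1 D12603 (iv D9862) D9861
def n12604 : Q := act 3 n9862
theorem D12604 : act 3 n9862 = n12604 := rfl
theorem F21317 : act 0 n12604 = n9904 := d2_1 D12604 (iv D9904) (iv F16484)
theorem F21318 : act 4 n12604 = n9894 := d12_2 D9862 D12604 (iv D9894) (iv D7631) (iv F12593)
def n12605 : Q := act 5 n9862
theorem D12605 : act 5 n9862 = n12605 := rfl
theorem F21319 : act 0 n12605 = n9903 := d4_1 D12605 F16539 (iv F16484)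
theorem F21320 : act 2 n12605 = n9863 := d11_1 D12605 (iv D9863) (iv F16485)
theorem F21321 : act 4 n12605 = n9893 := d14_1 D12605 (iv D9893) (iv D7630) F12594 D9862
def n12606 : Q := act 4 n9863
theorem D12606 : act 4 n9863 = n12606 := rfl
theorem F21322 : act 0 n12606 = n9902 := d3_1 D12606 (iv F21301) F21299
theorem F21323 : act 2 n12606 = n9893 := d10_1 D12606 (iv F21321) F21320
theorem F21324 : act 5 n12606 = n9864 := d14_2 D9863 D12606 (iv D9864) (iv D7603) D7602
def n12607 : Q := act 3 n9864
theorem D12607 : act 3 n9864 = n12607 := rfl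
theorem F21325 : act 0 n12607 = n9901 := d2_1 D12607 (iv D9901) (iv F16486)
theorem F21326 : act 4 n12607 = n9865 := d12_2 D9864 D12607 (iv D9865) (iv D7604) (iv F12597)
def n12608 : Q := act 2 n9865
theorem D12608 : act 2 n9865 = n12608 := rfl
def n12609 : Q := act 0 n9867
theorem D12609 : act 0 n9867 = n12609 := rfl
theorem F21327 : act 4 n12609 = n9868 := d3_2 (iv F16490) D12609 (iv D9868)
def n12610 : Q := act 2 n9869
theorem D12610 : act 2 n9869 = n12610 := rfl
theorem F21328 : act 0 n12610 = n9870 := d1_1 D12610 (iv D9870) (iv F16492)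
def n12611 : Q := act 4 n9869
theorem D12611 : act 4 n9869 = n12611 := rfl
theorem F21329 : act 0 n12611 = n9871 := d3_1 D12611 (iv D9871) (iv F16492)
def n12612 : Q := act 3 n9870
theorem D12612 : act 3 n9870 = n12612 := rfl
def n12613 : Q := act 4 n9870
theorem D12613 : act 4 n9870 = n12613 := rfl
theorem F21330 : act 2 n12613 = n9871 := d10_1 D12613 (iv D9871) D9870
def n12614 : Q := act 4 n9872
theorem D12614 : act 4 n9872 = n12614 := rfl
theorem F21331 : act 0 n12614 = n9874 := d3_1 D12614 (iv D9874) (iv F16494)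
theorem F21332 : act 3 n12614 = n9978 := d12_1 D12614 (iv D9978) F12711 (iv F12608) D9872
def n12615 : Q := act 4 n9873
theorem D12615 : act 4 n9873 = n12615 := rfl
theorem F21333 : act 2 n12615 = n9874 := d10_1 D12615 (iv D9874) D9873
def n12616 : Q := act 5 n9874
theorem D12616 : act 5 n9874 = n12616 := rfl
theorem F21334 : act 1 n12616 = n9875 := d8_1 D12616 (iv D9875) (iv F16497)
theorem F21335 : act 3 n12616 = n9987 := d13_1 D12616 F16660 (iv F16498)
theorem F21336 : act 4 n12616 = n9881 := d14_1 D12616 (iv D9881) (iv D7618) (iv F12611) D9874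
def n12617 : Q := act 1 n9876
theorem D12617 : act 1 n9876 = n12617 := rfl
def n12618 : Q := act 4 n9876
theorem D12618 : act 4 n9876 = n12618 := rfl
theorem F21337 : act 0 n12618 = n9880 := d3_1 D12618 (iv D9880) (iv F16503)
theorem F21338 : act 2 n12618 = n9877 := d10_1 D12618 (iv D9877) D9876
def n12619 : Q := act 5 n9877
theorem D12619 : act 5 n9877 = n12619 := rfl
theorem F21339 : act 0 n12619 = n9881 := d4_1 D12619 (iv D9881) (iv F16504)
theorem F21340 : act 1 n12619 = n9953 := d8_1 D12619 (iv D9953) (iv F16505)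
theorem F21341 : act 3 n12619 = n9885 := d13_1 D12619 (iv D9885) (iv F16506)
def n12620 : Q := act 0 n9878
theorem D12620 : act 0 n9878 = n12620 := rfl
theorem F21342 : act 2 n12620 = n9882 := d1_2 (iv F16507) D12620 (iv D9882)
def n12621 : Q := act 3 n9878
theorem D12621 : act 3 n9878 = n12621 := rfl
theorem F21343 : act 1 n12621 = n9879 := d6_1 D12621 (iv D9879) D9878
def n12622 : Q := act 4 n9878
theorem D12622 : act 4 n9878 = n12622 := rfl
theorem F21344 : act 1 n12622 = n9880 := d7_1 D12622 (iv D9880) D9878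
theorem F21345 : act 2 n12622 = n9883 := d10_1 D12622 (iv D9883) (iv F16507)
theorem F21346 : act 5 n9949 = n12622 := d11_0 F21345 (iv F16513) D9949
def n12623 : Q := act 4 n9879
theorem D12623 : act 4 n9879 = n12623 := rfl
def n12624 : Q := act 3 n9880
theorem D12624 : act 3 n9880 = n12624 := rfl
def n12625 : Q := act 5 n9880
theorem D12625 : act 5 n9880 = n12625 := rfl
theorem F21347 : act 1 n12625 = n9949 := d8_1 D12625 F21346 F21344
theorem F21348 : act 2 n12625 = n9881 := d11_1 D12625 (iv D9881) (iv F16508)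
def n12626 : Q := act 4 n9882
theorem D12626 : act 4 n9882 = n12626 := rfl
theorem F21349 : act 0 n12626 = n9883 := d3_1 D12626 (iv D9883) D9882
theorem F21350 : act 1 n12626 = n9958 := d7_1 D12626 (iv F21277) F21275
theorem F21351 : act 3 n9948 = n12626 := d6_0 F21350 (iv F21020) F21019
theorem F21352 : act 5 n9947 = n12626 := d8_0 F21350 F21017 F21016
def n12627 : Q := act 3 n9884
theorem D12627 : act 3 n9884 = n12627 := rfl
theorem F21353 : act 0 n12627 = n9887 := d2_1 D12627 (iv D9887) (iv F16514)
theorem F21354 : act 1 n12627 = n10413 := d6_1 D12627 (iv D10413) (iv F16515)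
theorem F21355 : act 4 n12627 = n10491 := d12_2 D9884 D12627 (iv D10491) (iv D8126) (iv F12625)
def n12628 : Q := act 5 n9884
theorem D12628 : act 5 n9884 = n12628 := rfl
theorem F21356 : act 0 n12628 = n9888 := d4_1 D12628 (iv D9888) (iv F16514)
theorem F21357 : act 1 n12628 = n10414 := d8_1 D12628 (iv D10414) (iv F16515)
theorem F21358 : act 2 n12628 = n9885 := d11_1 D12628 (iv D9885) (iv F16516)
theorem F21359 : act 4 n12628 = n9991 := d14_1 D12628 (iv D9991) (iv D7705) (iv F12626) D9884
def n12629 : Q := act 3 n9886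
theorem D12629 : act 3 n9886 = n12629 := rfl
theorem F21360 : act 0 n12629 = n10491 := d2_1 D12629 (iv D10491) (iv F16520)
theorem F21361 : act 1 n12629 = n9933 := d6_1 D12629 F16582 (iv F16521)
theorem F21362 : act 4 n12629 = n9887 := d12_2 D9886 D12629 (iv D9887) (iv D7625) D7624
def n12630 : Q := act 5 n9886
theorem D12630 : act 5 n9886 = n12630 := rfl
theorem F21363 : act 0 n12630 = n10492 := d4_1 D12630 (iv D10492) (iv F16520)
theorem F21364 : act 1 n12630 = n9935 := d8_1 D12630 (iv D9935) (iv F16521)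
theorem F21365 : act 2 n12630 = n10496 := d11_1 D12630 (iv D10496) (iv F16522)
theorem F21366 : act 4 n12630 = n9993 := d14_1 D12630 (iv D9993) (iv D7707) (iv F12632) D9886
def n12631 : Q := act 2 n9887
theorem D12631 : act 2 n9887 = n12631 := rfl
def n12632 : Q := act 5 n9887
theorem D12632 : act 5 n9887 = n12632 := rfl
theorem F21367 : act 1 n12632 = n9934 := d8_1 D12632 (iv D9934) (iv F16523)
theorem F21368 : act 3 n12632 = n9888 := d13_1 D12632 (iv D9888) D9887
def n12633 : Q := act 2 n9889
theorem D12633 : act 2 n9889 = n12633 := rfl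
theorem F21369 : act 0 n12633 = n9890 := d1_1 D12633 (iv D9890) (iv F16527)
def n12634 : Q := act 4 n9889
theorem D12634 : act 4 n9889 = n12634 := rfl
theorem F21370 : act 0 n12634 = n9891 := d3_1 D12634 (iv D9891) (iv F16527)
theorem F21371 : act 1 n12634 = n9895 := d7_1 D12634 (iv D9895) (iv F16528)
def n12635 : Q := act 3 n9890
theorem D12635 : act 3 n9890 = n12635 := rfl
def n12636 : Q := act 4 n9890
theorem D12636 : act 4 n9890 = n12636 := rfl
theorem F21372 : act 2 n12636 = n9891 := d10_1 D12636 (iv D9891) D9890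
def n12637 : Q := act 5 n9891
theorem D12637 : act 5 n9891 = n12637 := rfl
theorem F21373 : act 1 n12637 = n9893 := d8_1 D12637 (iv D9893) (iv F16529)
def n12638 : Q := act 3 n9892
theorem D12638 : act 3 n9892 = n12638 := rfl
theorem F21374 : act 1 n12638 = n9894 := d6_1 D12638 (iv D9894) (iv F16530)
def n12639 : Q := act 5 n9895
theorem D12639 : act 5 n9895 = n12639 := rfl
theorem F21375 : act 0 n12639 = n9898 := d4_1 D12639 (iv D9898) (iv F16533)
def n12640 : Q := act 0 n9896
theorem D12640 : act 0 n9896 = n12640 := rfl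
theorem F21376 : act 2 n12640 = n9899 := d1_2 (iv F16534) D12640 (iv D9899)
def n12641 : Q := act 4 n9896
theorem D12641 : act 4 n9896 = n12641 := rfl
theorem F21377 : act 1 n12641 = n9897 := d7_1 D12641 (iv D9897) D9896
theorem F21378 : act 2 n12641 = n9900 := d10_1 D12641 (iv D9900) (iv F16534)
def n12642 : Q := act 3 n9897
theorem D12642 : act 3 n9897 = n12642 := rfl
def n12643 : Q := act 5 n9897
theorem D12643 : act 5 n9897 = n12643 := rfl
theorem F21379 : act 2 n12643 = n9898 := d11_1 D12643 (iv D9898) (iv F16535)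
def n12644 : Q := act 4 n9899
theorem D12644 : act 4 n9899 = n12644 := rfl
theorem F21380 : act 0 n12644 = n9900 := d3_1 D12644 (iv D9900) D9899
def n12645 : Q := act 3 n9900
theorem D12645 : act 3 n9900 = n12645 := rfl
theorem F21381 : act 1 n12645 = n9901 := d6_1 D12645 (iv D9901) (iv F16537)
def n12646 : Q := act 5 n9900
theorem D12646 : act 5 n9900 = n12646 := rfl
theorem F21382 : act 1 n12646 = n9902 := d8_1 D12646 (iv D9902) (iv F16537)
def n12647 : Q := act 2 n9901
theorem D12647 : act 2 n9901 = n12647 := rfl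
theorem F21383 : act 3 n12647 = n9902 := d15_3 (iv F12645) D9901 D12647 F16538 (iv F15934) (iv F20636) F20637 (iv D9893) F12640
theorem F21384 : act 5 n9901 = n12647 := d13_0 F21383 (iv D9902) D9901
def n12648 : Q := act 3 n9903
theorem D12648 : act 3 n9903 = n12648 := rfl
theorem F21385 : act 5 n12648 = n9904 := d13_2 (iv F16539) D12648 (iv D9904)
def n12649 : Q := act 2 n9904
theorem D12649 : act 2 n9904 = n12649 := rfl
theorem F21386 : act 4 n12649 = n9905 := d10_2 (iv F16540) D12649 (iv D9905)
def n12650 : Q := act 1 n9905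
theorem D12650 : act 1 n9905 = n12650 := rfl
def n12651 : Q := act 0 n9906
theorem D12651 : act 0 n9906 = n12651 := rfl
def n12652 : Q := act 3 n9906
theorem D12652 : act 3 n9906 = n12652 := rfl
theorem F21387 : act 1 n12652 = n9907 := d6_1 D12652 (iv D9907) D9906
def n12653 : Q := act 5 n9906
theorem D12653 : act 5 n9906 = n12653 := rfl
theorem F21388 : act 1 n12653 = n9908 := d8_1 D12653 (iv D9908) D9906
def n12654 : Q := act 4 n9907
theorem D12654 : act 4 n9907 = n12654 := rfl
theorem F21389 : act 2 n12654 = n11561 := d10_1 D12654 F19402 (iv F16541)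
def n12655 : Q := act 4 n9908
theorem D12655 : act 4 n9908 = n12655 := rfl
theorem F21390 : act 2 n12655 = n9909 := d10_1 D12655 (iv D9909) (iv F16542)
def n12656 : Q := act 0 n9910
theorem D12656 : act 0 n9910 = n12656 := rfl
theorem F21391 : act 1 n12656 = n9914 := d0_2 D9910 D12656 (iv D9914) (iv D7644) (iv F12647)
def n12657 : Q := act 3 n9910
theorem D12657 : act 3 n9910 = n12657 := rfl
theorem F21392 : act 1 n12657 = n9911 := d6_1 D12657 (iv D9911) D9910
theorem F21393 : act 5 n11410 = n12657 := d8_0 F21392 (iv F16545) D11410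
def n12658 : Q := act 5 n9910
theorem D12658 : act 5 n9910 = n12658 := rfl
theorem F21394 : act 1 n12658 = n9912 := d8_1 D12658 (iv D9912) D9910
theorem F21395 : act 3 n12658 = n11410 := d13_1 D12658 F21393 (iv D12657)
def n12659 : Q := act 4 n9911
theorem D12659 : act 4 n9911 = n12659 := rfl
theorem F21396 : act 0 n12659 = n9918 := d3_1 D12659 (iv D9918) (iv F16543)
theorem F21397 : act 2 n12659 = n11411 := d10_1 D12659 (iv D11411) (iv F16544)
def n12660 : Q := act 4 n9912
theorem D12660 : act 4 n9912 = n12660 := rfl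
theorem F21398 : act 0 n12660 = n9920 := d3_1 D12660 (iv D9920) (iv F16546)
theorem F21399 : act 2 n12660 = n9913 := d10_1 D12660 (iv D9913) (iv F16547)
def n12661 : Q := act 3 n9914
theorem D12661 : act 3 n9914 = n12661 := rfl
theorem F21400 : act 0 n12661 = n9915 := d2_1 D12661 (iv D9915) D9914
def n12662 : Q := act 5 n9914
theorem D12662 : act 5 n9914 = n12662 := rfl
theorem F21401 : act 0 n12662 = n9916 := d4_1 D12662 (iv D9916) D9914
theorem F21402 : act 2 n12662 = n9922 := d11_1 D12662 (iv D9922) (iv F16550)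
def n12663 : Q := act 2 n9915
theorem D12663 : act 2 n9915 = n12663 := rfl
def n12664 : Q := act 4 n9915
theorem D12664 : act 4 n9915 = n12664 := rfl
theorem F21403 : act 1 n12664 = n9918 := d7_1 D12664 (iv D9918) (iv F16551)
def n12665 : Q := act 5 n9915
theorem D12665 : act 5 n9915 = n12665 := rfl
theorem F21404 : act 1 n12665 = n9919 := d8_1 D12665 (iv D9919) (iv F16551)
theorem F21405 : act 3 n12665 = n9916 := d13_1 D12665 (iv D9916) D9915
def n12666 : Q := act 4 n9916
theorem D12666 : act 4 n9916 = n12666 := rfl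
theorem F21406 : act 1 n12666 = n9920 := d7_1 D12666 (iv D9920) (iv F16552)
theorem F21407 : act 2 n12666 = n9925 := d10_1 D12666 (iv D9925) (iv F16553)
def n12667 : Q := act 1 n9917
theorem D12667 : act 1 n9917 = n12667 := rfl
theorem F21408 : act 3 n12667 = n11400 := d6_2 (iv F16555) D12667 F19123
theorem F21409 : act 5 n12667 = n11399 := d8_2 F16556 D12667 F19122
def n12668 : Q := act 4 n9917
theorem D12668 : act 4 n9917 = n12668 := rfl
theorem F21410 : act 0 n12668 = n11411 := d3_1 D12668 (iv D11411) (iv F16554)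
theorem F21411 : act 2 n12668 = n9918 := d10_1 D12668 (iv D9918) D9917
def n12669 : Q := act 5 n9918
theorem D12669 : act 5 n9918 = n12669 := rfl
def n12670 : Q := act 4 n9919
theorem D12670 : act 4 n9919 = n12670 := rfl
theorem F21412 : act 0 n12670 = n11408 := d3_1 D12670 F19135 (iv F16557)
theorem F21413 : act 2 n12670 = n11401 := d10_1 D12670 F19126 (iv F16558)
def n12671 : Q := act 3 n9920
theorem D12671 : act 3 n9920 = n12671 := rfl
def n12672 : Q := act 2 n9921
theorem D12672 : act 2 n9921 = n12672 := rfl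
theorem F21414 : act 0 n12672 = n9923 := d1_1 D12672 (iv D9923) (iv F16561)
def n12673 : Q := act 4 n9921
theorem D12673 : act 4 n9921 = n12673 := rfl
theorem F21415 : act 0 n12673 = n9924 := d3_1 D12673 (iv D9924) (iv F16561)
def n12674 : Q := act 4 n9922
theorem D12674 : act 4 n9922 = n12674 := rfl
theorem F21416 : act 0 n12674 = n9925 := d3_1 D12674 (iv D9925) (iv F16562)
def n12675 : Q := act 3 n9923
theorem D12675 : act 3 n9923 = n12675 := rfl
def n12676 : Q := act 4 n9923
theorem D12676 : act 4 n9923 = n12676 := rfl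
theorem F21417 : act 1 n12676 = n10110 := d7_1 D12676 (iv F19678) F19676
theorem F21418 : act 2 n12676 = n9924 := d10_1 D12676 (iv D9924) D9923
theorem F21419 : act 5 n12676 = n10108 := d14_2 (iv F19675) D12676 F16828 (iv F15131) (iv F19674)
def n12677 : Q := act 1 n9926
theorem D12677 : act 1 n9926 = n12677 := rfl
theorem F21420 : act 2 n12677 = n10942 := d5_2 D9926 D12677 (iv D10942) (iv D8497) (iv F12657)
theorem F21421 : act 4 n12677 = n9928 := d7_2 (iv F16566) D12677 (iv D9928)
def n12678 : Q := act 3 n9926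
theorem D12678 : act 3 n9926 = n12678 := rfl
theorem F21422 : act 0 n12678 = n11843 := d2_1 D12678 (iv D11843) (iv F16565)
def n12679 : Q := act 5 n9926
theorem D12679 : act 5 n9926 = n12679 := rfl
theorem F21423 : act 0 n12679 = n11844 := d4_1 D12679 (iv D11844) (iv F16565)
theorem F21424 : act 2 n12679 = n9927 := d11_1 D12679 (iv D9927) D9926
def n12680 : Q := act 4 n9927
theorem D12680 : act 4 n9927 = n12680 := rfl
theorem F21425 : act 0 n12680 = n11845 := d3_1 D12680 (iv D11845) (iv F16567)
theorem F21426 : act 1 n12680 = n10940 := d7_1 D12680 F18367 (iv F16568)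
theorem F21427 : act 3 n12680 = n10938 := d12_1 D12680 (iv D10938) F14122 (iv F12662) (iv F16569)
theorem F21428 : act 5 n12680 = n9931 := d14_2 D9927 D12680 (iv D9931) (iv D7656) (iv F12658)
def n12681 : Q := act 0 n9928
theorem D12681 : act 0 n9928 = n12681 := rfl
theorem F21429 : act 1 n12681 = n11846 := d0_2 D9928 D12681 (iv D11846) (iv D9217) (iv F12663)
def n12682 : Q := act 3 n9928
theorem D12682 : act 3 n9928 = n12682 := rfl
theorem F21430 : act 1 n12682 = n9929 := d6_1 D12682 (iv D9929) D9928
theorem F21431 : act 5 n11875 = n12682 := d8_0 F21430 (iv F16572) D11875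
def n12683 : Q := act 5 n9928
theorem D12683 : act 5 n9928 = n12683 := rfl
theorem F21432 : act 1 n12683 = n9930 := d8_1 D12683 (iv D9930) D9928
theorem F21433 : act 3 n12683 = n11875 := d13_1 D12683 F21431 (iv D12682)
def n12684 : Q := act 4 n9929
theorem D12684 : act 4 n9929 = n12684 := rfl
theorem F21434 : act 0 n12684 = n11849 := d3_1 D12684 (iv D11849) (iv F16570)
theorem F21435 : act 2 n12684 = n11878 := d10_1 D12684 (iv D11878) (iv F16571)
def n12685 : Q := act 4 n9930
theorem D12685 : act 4 n9930 = n12685 := rfl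
theorem F21436 : act 0 n12685 = n11850 := d3_1 D12685 (iv D11850) (iv F16573)
theorem F21437 : act 2 n12685 = n9931 := d10_1 D12685 (iv D9931) (iv F16574)
def n12686 : Q := act 1 n9932
theorem D12686 : act 1 n9932 = n12686 := rfl
theorem F21438 : act 3 n12686 = n11848 := d6_2 (iv F16579) D12686 F19952
theorem F21439 : act 5 n12686 = n11847 := d8_2 F16580 D12686 F19951
def n12687 : Q := act 4 n9932
theorem D12687 : act 4 n9932 = n12687 := rfl
theorem F21440 : act 0 n12687 = n11876 := d3_1 D12687 (iv D11876) (iv F16578)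
theorem F21441 : act 2 n12687 = n9933 := d10_1 D12687 (iv D9933) D9932
def n12688 : Q := act 5 n9933
theorem D12688 : act 5 n9933 = n12688 := rfl
theorem F21442 : act 0 n12688 = n11877 := d4_1 D12688 (iv D11877) (iv F16581)
theorem F21443 : act 3 n12688 = n9935 := d13_1 D12688 (iv D9935) (iv F16582)
def n12689 : Q := act 4 n9934
theorem D12689 : act 4 n9934 = n12689 := rfl
theorem F21444 : act 0 n12689 = n11878 := d3_1 D12689 (iv D11878) (iv F16583)
theorem F21445 : act 2 n12689 = n11849 := d10_1 D12689 (iv D11849) (iv F16584)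
def n12690 : Q := act 0 n9936
theorem D12690 : act 0 n9936 = n12690 := rfl
theorem F21446 : act 1 n12690 = n9940 := d0_2 D9936 D12690 (iv D9940) (iv D7662) (iv F12671)
def n12691 : Q := act 3 n9936
theorem D12691 : act 3 n9936 = n12691 := rfl
theorem F21447 : act 1 n12691 = n9937 := d6_1 D12691 (iv D9937) D9936
theorem F21448 : act 5 n11735 = n12691 := d8_0 F21447 (iv F16590) D11735
def n12692 : Q := act 5 n9936
theorem D12692 : act 5 n9936 = n12692 := rfl
theorem F21449 : act 1 n12692 = n9938 := d8_1 D12692 (iv D9938) D9936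
theorem F21450 : act 3 n12692 = n11735 := d13_1 D12692 F21448 (iv D12691)
def n12693 : Q := act 4 n9937
theorem D12693 : act 4 n9937 = n12693 := rfl
theorem F21451 : act 0 n12693 = n9944 := d3_1 D12693 (iv D9944) (iv F16588)
theorem F21452 : act 2 n12693 = n11736 := d10_1 D12693 (iv D11736) (iv F16589)
def n12694 : Q := act 4 n9938
theorem D12694 : act 4 n9938 = n12694 := rfl
theorem F21453 : act 0 n12694 = n9946 := d3_1 D12694 (iv D9946) (iv F16591)
theorem F21454 : act 2 n12694 = n9939 := d10_1 D12694 (iv D9939) (iv F16592)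
def n12695 : Q := act 3 n9940
theorem D12695 : act 3 n9940 = n12695 := rfl
theorem F21455 : act 0 n12695 = n9941 := d2_1 D12695 (iv D9941) D9940
def n12696 : Q := act 5 n9940
theorem D12696 : act 5 n9940 = n12696 := rfl
theorem F21456 : act 0 n12696 = n9942 := d4_1 D12696 (iv D9942) D9940
theorem F21457 : act 2 n12696 = n9948 := d11_1 D12696 (iv D9948) (iv F16596)
def n12697 : Q := act 4 n9941
theorem D12697 : act 4 n9941 = n12697 := rfl
theorem F21458 : act 1 n12697 = n9944 := d7_1 D12697 (iv D9944) (iv F16597)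
def n12698 : Q := act 4 n9942
theorem D12698 : act 4 n9942 = n12698 := rfl
theorem F21459 : act 1 n12698 = n9946 := d7_1 D12698 (iv D9946) (iv F16598)
theorem F21460 : act 2 n12698 = n9951 := d10_1 D12698 (iv D9951) (iv F16599)
def n12699 : Q := act 1 n9943
theorem D12699 : act 1 n9943 = n12699 := rfl
theorem F21461 : act 3 n12699 = n11715 := d6_2 (iv F16601) D12699 F19721
theorem F21462 : act 5 n12699 = n11714 := d8_2 F16602 D12699 F19713
def n12700 : Q := act 4 n9943
theorem D12700 : act 4 n9943 = n12700 := rfl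
theorem F21463 : act 0 n12700 = n11736 := d3_1 D12700 (iv D11736) (iv F16600)
theorem F21464 : act 2 n12700 = n9944 := d10_1 D12700 (iv D9944) D9943
def n12701 : Q := act 5 n9944
theorem D12701 : act 5 n9944 = n12701 := rfl
def n12702 : Q := act 3 n9946
theorem D12702 : act 3 n9946 = n12702 := rfl
def n12703 : Q := act 2 n9947
theorem D12703 : act 2 n9947 = n12703 := rfl
theorem F21465 : act 0 n12703 = n9949 := d1_1 D12703 (iv D9949) (iv F16607)
def n12704 : Q := act 4 n9947
theorem D12704 : act 4 n9947 = n12704 := rfl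
theorem F21466 : act 0 n12704 = n9950 := d3_1 D12704 (iv D9950) (iv F16607)
def n12705 : Q := act 4 n9948
theorem D12705 : act 4 n9948 = n12705 := rfl
theorem F21467 : act 0 n12705 = n9951 := d3_1 D12705 (iv D9951) (iv F16608)
def n12706 : Q := act 3 n9949
theorem D12706 : act 3 n9949 = n12706 := rfl
def n12707 : Q := act 4 n9949
theorem D12707 : act 4 n9949 = n12707 := rfl
theorem F21468 : act 2 n12707 = n9950 := d10_1 D12707 (iv D9950) D9949
def n12708 : Q := act 1 n9952
theorem D12708 : act 1 n9952 = n12708 := rfl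
def n12709 : Q := act 3 n9952
theorem D12709 : act 3 n9952 = n12709 := rfl
theorem F21469 : act 0 n12709 = n9955 := d2_1 D12709 (iv D9955) (iv F16611)
theorem F21470 : act 2 n12709 = n11832 := d15_2 D9952 D12709 (iv D11832) F15349 F11718 (iv F9604) (iv F12685) (iv D7674) (iv F12681)
theorem F21471 : act 5 n12057 = n12709 := d11_0 F21470 F19922 D12057
def n12710 : Q := act 5 n9952
theorem D12710 : act 5 n9952 = n12710 := rfl
theorem F21472 : act 0 n12710 = n9956 := d4_1 D12710 (iv D9956) (iv F16611)
theorem F21473 : act 2 n12710 = n9953 := d11_1 D12710 (iv D9953) D9952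
theorem F21474 : act 3 n12710 = n12057 := d13_1 D12710 F21471 (iv D12709)
def n12711 : Q := act 4 n9953
theorem D12711 : act 4 n9953 = n12711 := rfl
theorem F21475 : act 0 n12711 = n9957 := d3_1 D12711 (iv D9957) (iv F16612)
def n12712 : Q := act 0 n9954
theorem D12712 : act 0 n9954 = n12712 := rfl
theorem F21476 : act 2 n12712 = n9958 := d1_2 (iv F16614) D12712 (iv D9958)
def n12713 : Q := act 3 n9954
theorem D12713 : act 3 n9954 = n12713 := rfl
theorem F21477 : act 1 n12713 = n9955 := d6_1 D12713 (iv D9955) D9954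
def n12714 : Q := act 2 n9955
theorem D12714 : act 2 n9955 = n12714 := rfl
theorem F21478 : act 0 n12714 = n11832 := d1_1 D12714 (iv F21470) F21469
theorem F21479 : act 3 n12714 = n11831 := d9_2 D9955 D12714 F19919 F15353 (iv F12683) (iv F16613) (iv F21473) F21474 (iv D12057) (iv D9403) (iv D7241) (iv D5516) (iv F7178) D5848 D7673
theorem F21480 : act 5 n12056 = n12714 := d13_0 F21479 F19920 D12056
def n12715 : Q := act 4 n9955
theorem D12715 : act 4 n9955 = n12715 := rfl
def n12716 : Q := act 5 n9955
theorem D12716 : act 5 n9955 = n12716 := rfl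
theorem F21481 : act 0 n12716 = n12057 := d4_1 D12716 F21471 F21469
theorem F21482 : act 2 n12716 = n12056 := d11_1 D12716 F21480 (iv D12714)
theorem F21483 : act 3 n12716 = n9956 := d13_1 D12716 (iv D9956) D9955
def n12717 : Q := act 4 n9956
theorem D12717 : act 4 n9956 = n12717 := rfl
theorem F21484 : act 2 n12717 = n9957 := d10_1 D12717 (iv D9957) (iv F16615)
def n12718 : Q := act 1 n9960
theorem D12718 : act 1 n9960 = n12718 := rfl
theorem F21485 : act 2 n12718 = n9974 := d5_2 D9960 D12718 (iv D9974) (iv D7692) (iv F12693)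
def n12719 : Q := act 3 n9960
theorem D12719 : act 3 n9960 = n12719 := rfl
theorem F21486 : act 0 n12719 = n9963 := d2_1 D12719 (iv D9963) (iv F16621)
def n12720 : Q := act 5 n9960
theorem D12720 : act 5 n9960 = n12720 := rfl
theorem F21487 : act 0 n12720 = n9964 := d4_1 D12720 (iv D9964) (iv F16621)
theorem F21488 : act 2 n12720 = n9961 := d11_1 D12720 (iv D9961) D9960
def n12721 : Q := act 4 n9961
theorem D12721 : act 4 n9961 = n12721 := rfl
theorem F21489 : act 0 n12721 = n9965 := d3_1 D12721 (iv D9965) (iv F16622)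
theorem F21490 : act 1 n12721 = n9978 := d7_1 D12721 (iv D9978) (iv F16623)
def n12722 : Q := act 0 n9962
theorem D12722 : act 0 n9962 = n12722 := rfl
theorem F21491 : act 2 n12722 = n9966 := d1_2 (iv F16625) D12722 (iv D9966)
theorem F21492 : act 5 n12722 = n9967 := d4_2 F16626 D12722 F16633
def n12723 : Q := act 3 n9962
theorem D12723 : act 3 n9962 = n12723 := rfl
theorem F21493 : act 1 n12723 = n9963 := d6_1 D12723 (iv D9963) D9962
theorem F21494 : act 5 n12723 = n9970 := d13_2 F16626 D12723 (iv D9970)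
def n12724 : Q := act 2 n9963
theorem D12724 : act 2 n9963 = n12724 := rfl
def n12725 : Q := act 4 n9963
theorem D12725 : act 4 n9963 = n12725 := rfl
def n12726 : Q := act 5 n9963
theorem D12726 : act 5 n9963 = n12726 := rfl
theorem F21495 : act 1 n12726 = n9970 := d8_1 D12726 (iv F21494) F21493
theorem F21496 : act 3 n12726 = n9964 := d13_1 D12726 (iv D9964) D9963
def n12727 : Q := act 4 n9964
theorem D12727 : act 4 n9964 = n12727 := rfl
theorem F21497 : act 1 n12727 = n9971 := d7_1 D12727 (iv D9971) (iv F16627)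
theorem F21498 : act 2 n12727 = n9965 := d10_1 D12727 (iv D9965) (iv F16628)
def n12728 : Q := act 1 n9967
theorem D12728 : act 1 n9967 = n12728 := rfl
def n12729 : Q := act 3 n9967
theorem D12729 : act 3 n9967 = n12729 := rfl
theorem F21499 : act 0 n12729 = n9970 := d2_1 D12729 (iv D9970) (iv F16633)
theorem F21500 : act 2 n12729 = n12524 := d15_2 D9967 D12729 (iv D12524) F16358 F12508 F10766 (iv F12698) F12699 (iv F12702)
def n12730 : Q := act 4 n9967
theorem D12730 : act 4 n9967 = n12730 := rfl
theorem F21501 : act 0 n12730 = n9971 := d3_1 D12730 (iv D9971) (iv F16633)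
theorem F21502 : act 2 n12730 = n9968 := d10_1 D12730 (iv D9968) D9967
def n12731 : Q := act 5 n9968
theorem D12731 : act 5 n9968 = n12731 := rfl
theorem F21503 : act 0 n12731 = n9972 := d4_1 D12731 (iv D9972) (iv F16634)
def n12732 : Q := act 3 n9969
theorem D12732 : act 3 n9969 = n12732 := rfl
theorem F21504 : act 0 n12732 = n9973 := d2_1 D12732 (iv D9973) (iv F16635)
def n12733 : Q := act 2 n9970
theorem D12733 : act 2 n9970 = n12733 := rfl
theorem F21505 : act 0 n12733 = n12524 := d1_1 D12733 (iv F21500) F21499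
theorem F21506 : act 3 n12733 = n12523 := d15_3 D7687 D9970 D12733 F21166 F16374 F14092 (iv F16631) F16632 F12702
def n12734 : Q := act 4 n9970
theorem D12734 : act 4 n9970 = n12734 := rfl
def n12735 : Q := act 3 n9971
theorem D12735 : act 3 n9971 = n12735 := rfl
def n12736 : Q := act 5 n9971
theorem D12736 : act 5 n9971 = n12736 := rfl
theorem F21507 : act 2 n12736 = n9972 := d11_1 D12736 (iv D9972) (iv F16636)
def n12737 : Q := act 2 n9973
theorem D12737 : act 2 n9973 = n12737 := rfl
theorem F21508 : act 1 n12737 = n11372 := d5_1 D12737 F19074 F14666 F14558 (iv F16638)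
theorem F21509 : act 4 n12737 = n11368 := d10_2 (iv F18944) D12737 F19071
theorem F21510 : act 5 n12737 = n11377 := d11_2 F18958 D12737 F19083
def n12738 : Q := act 0 n9974
theorem D12738 : act 0 n9974 = n12738 := rfl
theorem F21511 : act 1 n12738 = n9979 := d0_2 D9974 D12738 (iv D9979) (iv D7695) (iv F12706)
theorem F21512 : act 3 n12738 = n12640 := d2_2 (iv F16639) D12738 (iv D12640)
def n12739 : Q := act 4 n9974
theorem D12739 : act 4 n9974 = n12739 := rfl
theorem F21513 : act 1 n12739 = n9975 := d7_1 D12739 (iv D9975) D9974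
def n12740 : Q := act 5 n9974
theorem D12740 : act 5 n9974 = n12740 := rfl
theorem F21514 : act 1 n12740 = n9976 := d8_1 D12740 (iv D9976) D9974
theorem F21515 : act 3 n12740 = n10865 := d13_1 D12740 F18229 (iv F16639)
def n12741 : Q := act 3 n9975
theorem D12741 : act 3 n9975 = n12741 := rfl
theorem F21516 : act 0 n12741 = n9984 := d2_1 D12741 (iv D9984) (iv F16640)
theorem F21517 : act 4 n12741 = n12642 := d12_2 D9975 D12741 (iv D12642) (iv D9897) (iv F12707)
def n12742 : Q := act 5 n9975
theorem D12742 : act 5 n9975 = n12742 := rfl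
theorem F21518 : act 0 n12742 = n9985 := d4_1 D12742 (iv D9985) (iv F16640)
theorem F21519 : act 2 n12742 = n9977 := d11_1 D12742 (iv D9977) (iv F16641)
def n12743 : Q := act 4 n9976
theorem D12743 : act 4 n9976 = n12743 := rfl
theorem F21520 : act 0 n12743 = n9986 := d3_1 D12743 (iv D9986) (iv F16642)
theorem F21521 : act 2 n12743 = n9978 := d10_1 D12743 (iv D9978) (iv F16643)
def n12744 : Q := act 4 n9977
theorem D12744 : act 4 n9977 = n12744 := rfl
theorem F21522 : act 0 n12744 = n9987 := d3_1 D12744 (iv D9987) (iv F16645)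
theorem F21523 : act 5 n12744 = n9978 := d14_2 D9977 D12744 (iv D9978) (iv D7694) D7693
def n12745 : Q := act 3 n9979
theorem D12745 : act 3 n9979 = n12745 := rfl
theorem F21524 : act 0 n12745 = n9980 := d2_1 D12745 (iv D9980) D9979
theorem F21525 : act 1 n12745 = n12640 := d6_1 D12745 (iv F21512) F21511
theorem F21526 : act 2 n12745 = n10034 := d15_2 (iv F16648) D12745 (iv D10034) (iv D7741) (iv D5899) (iv F9045) D7196 (iv F11955) D7701
def n12746 : Q := act 4 n9979
theorem D12746 : act 4 n9979 = n12746 := rfl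
theorem F21527 : act 0 n12746 = n9981 := d3_1 D12746 (iv D9981) D9979
theorem F21528 : act 2 n12746 = n9988 := d10_1 D12746 (iv D9988) (iv F16648)
def n12747 : Q := act 2 n9980
theorem D12747 : act 2 n9980 = n12747 := rfl
theorem F21529 : act 0 n12747 = n10034 := d1_1 D12747 (iv F21526) F21524
theorem F21530 : act 1 n12747 = n12633 := d5_1 D12747 (iv D12633) F16528 (iv F12714) (iv F16649)
theorem F21531 : act 3 n12747 = n10031 := d15_3 (iv F12712) D9980 D12747 (iv D10031) (iv D7739) (iv F11952) D9348 (iv F15630) (iv D7701)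
def n12748 : Q := act 4 n9980
theorem D12748 : act 4 n9980 = n12748 := rfl
theorem F21532 : act 1 n12748 = n9982 := d7_1 D12748 (iv D9982) (iv F16649)
def n12749 : Q := act 3 n9981
theorem D12749 : act 3 n9981 = n12749 := rfl
theorem F21533 : act 1 n12749 = n9984 := d6_1 D12749 (iv D9984) (iv F16650)
def n12750 : Q := act 3 n9982
theorem D12750 : act 3 n9982 = n12750 := rfl
theorem F21534 : act 0 n12750 = n12642 := d2_1 D12750 (iv D12642) (iv F16652)
theorem F21535 : act 4 n12750 = n9984 := d12_2 D9982 D12750 (iv D9984) (iv D7697) D7696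
def n12751 : Q := act 5 n9982
theorem D12751 : act 5 n9982 = n12751 := rfl
theorem F21536 : act 0 n12751 = n12643 := d4_1 D12751 (iv D12643) (iv F16652)
theorem F21537 : act 2 n12751 = n12639 := d11_1 D12751 (iv D12639) (iv F16653)
def n12752 : Q := act 4 n9983
theorem D12752 : act 4 n9983 = n12752 := rfl
theorem F21538 : act 0 n12752 = n10866 := d3_1 D12752 (iv D10866) (iv F16654)
theorem F21539 : act 2 n12752 = n10864 := d10_1 D12752 (iv D10864) (iv F16655)
def n12753 : Q := act 2 n9984
theorem D12753 : act 2 n9984 = n12753 := rfl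
def n12754 : Q := act 5 n9984
theorem D12754 : act 5 n9984 = n12754 := rfl
theorem F21540 : act 3 n12754 = n9985 := d13_1 D12754 (iv D9985) D9984
def n12755 : Q := act 4 n9985
theorem D12755 : act 4 n9985 = n12755 := rfl
theorem F21541 : act 2 n12755 = n9987 := d10_1 D12755 (iv D9987) (iv F16657)
theorem F21542 : act 5 n12755 = n9986 := d14_2 D9985 D12755 (iv D9986) (iv D7698) D7697
def n12756 : Q := act 3 n9986
theorem D12756 : act 3 n9986 = n12756 := rfl
def n12757 : Q := act 3 n9989
theorem D12757 : act 3 n9989 = n12757 := rfl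
theorem F21543 : act 0 n12757 = n10357 := d2_1 D12757 (iv D10357) (iv F16662)
theorem F21544 : act 1 n12757 = n9990 := d6_1 D12757 (iv D9990) (iv F16663)
theorem F21545 : act 4 n12757 = n10477 := d12_2 D9989 D12757 (iv D10477) (iv D8114) (iv F12724)
def n12758 : Q := act 5 n9989
theorem D12758 : act 5 n9989 = n12758 := rfl
theorem F21546 : act 0 n12758 = n10358 := d4_1 D12758 (iv D10358) (iv F16662)
theorem F21547 : act 1 n12758 = n9991 := d8_1 D12758 (iv D9991) (iv F16663)
theorem F21548 : act 2 n12758 = n10363 := d11_1 D12758 (iv D10363) (iv F16664)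
theorem F21549 : act 4 n12758 = n10414 := d14_1 D12758 (iv D10414) (iv D8066) (iv F12725) D9989
def n12759 : Q := act 2 n9990
theorem D12759 : act 2 n9990 = n12759 := rfl
theorem F21550 : act 0 n12759 = n9994 := d1_1 D12759 (iv D9994) (iv F16665)
theorem F21551 : act 4 n12759 = n10648 := d10_2 (iv F16666) D12759 (iv D10648)
def n12760 : Q := act 5 n9990
theorem D12760 : act 5 n9990 = n12760 := rfl
theorem F21552 : act 0 n12760 = n9995 := d4_1 D12760 (iv D9995) (iv F16665)
theorem F21553 : act 3 n12760 = n9991 := d13_1 D12760 (iv D9991) D9990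
def n12761 : Q := act 2 n9992
theorem D12761 : act 2 n9992 = n12761 := rfl
theorem F21554 : act 0 n12761 = n10648 := d1_1 D12761 (iv D10648) (iv F16669)
theorem F21555 : act 4 n12761 = n9994 := d10_2 (iv F16670) D12761 (iv D9994)
def n12762 : Q := act 5 n9992
theorem D12762 : act 5 n9992 = n12762 := rfl
theorem F21556 : act 0 n12762 = n10649 := d4_1 D12762 (iv D10649) (iv F16669)
theorem F21557 : act 3 n12762 = n9993 := d13_1 D12762 (iv D9993) D9992
def n12763 : Q := act 1 n9994
theorem D12763 : act 1 n9994 = n12763 := rfl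
def n12764 : Q := act 3 n9994
theorem D12764 : act 3 n9994 = n12764 := rfl
def n12765 : Q := act 5 n9994
theorem D12765 : act 5 n9994 = n12765 := rfl
theorem F21558 : act 2 n12765 = n9995 := d11_1 D12765 (iv D9995) D9994
def n12766 : Q := act 4 n9995
theorem D12766 : act 4 n9995 = n12766 := rfl
def n12767 : Q := act 4 n9996
theorem D12767 : act 4 n9996 = n12767 := rfl
theorem F21559 : act 0 n12767 = n10161 := d3_1 D12767 (iv D10161) F16675
theorem F21560 : act 1 n12767 = n9997 := d7_1 D12767 (iv D9997) D9996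
theorem F21561 : act 3 n12767 = n10602 := d12_1 D12767 (iv D10602) (iv D8218) (iv F12943) (iv F16674)
def n12768 : Q := act 3 n9997
theorem D12768 : act 3 n9997 = n12768 := rfl
theorem F21562 : act 0 n12768 = n10007 := d2_1 D12768 (iv D10007) (iv F16676)
theorem F21563 : act 1 n12768 = n10602 := d6_1 D12768 (iv F21561) F21560
theorem F21564 : act 4 n12768 = n10600 := d12_2 D9997 D12768 (iv D10600) F13624 F13238
def n12769 : Q := act 5 n9997
theorem D12769 : act 5 n9997 = n12769 := rfl
theorem F21565 : act 0 n12769 = n10008 := d4_1 D12769 (iv D10008) (iv F16676)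
theorem F21566 : act 2 n12769 = n9999 := d11_1 D12769 (iv D9999) (iv F16677)
def n12770 : Q := act 4 n9998
theorem D12770 : act 4 n9998 = n12770 := rfl
theorem F21567 : act 0 n12770 = n10009 := d3_1 D12770 (iv D10009) (iv F16678)
theorem F21568 : act 2 n12770 = n10000 := d10_1 D12770 (iv D10000) (iv F16679)
def n12771 : Q := act 4 n9999
theorem D12771 : act 4 n9999 = n12771 := rfl
theorem F21569 : act 0 n12771 = n10010 := d3_1 D12771 (iv D10010) (iv F16680)
theorem F21570 : act 5 n12771 = n10000 := d14_2 D9999 D12771 (iv D10000) (iv D7712) D7711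
def n12772 : Q := act 3 n10000
theorem D12772 : act 3 n10000 = n12772 := rfl
theorem F21571 : act 0 n12772 = n10011 := d2_1 D12772 (iv D10011) (iv F16682)
theorem F21572 : act 4 n12772 = n10001 := d12_2 D10000 D12772 (iv D10001) (iv D7713) (iv F12736)
def n12773 : Q := act 2 n10001
theorem D12773 : act 2 n10001 = n12773 := rfl
theorem F21573 : act 0 n12773 = n10012 := d1_1 D12773 (iv D10012) (iv F16683)
theorem F21574 : act 5 n12773 = n10022 := d11_2 (iv F16684) D12773 (iv D10022)
def n12774 : Q := act 4 n10002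
theorem D12774 : act 4 n10002 = n12774 := rfl
theorem F21575 : act 0 n12774 = n10004 := d3_1 D12774 (iv D10004) D10002
theorem F21576 : act 1 n12774 = n10161 := d7_1 D12774 (iv D10161) (iv F16685)
theorem F21577 : act 2 n12774 = n10013 := d10_1 D12774 (iv D10013) (iv F16686)
theorem F21578 : act 3 n12774 = n10607 := d12_1 D12774 (iv D10607) (iv D8222) (iv F12945) F16688
def n12775 : Q := act 3 n10004
theorem D12775 : act 3 n10004 = n12775 := rfl
theorem F21579 : act 0 n12775 = n10607 := d2_1 D12775 (iv F21578) F21575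
theorem F21580 : act 1 n12775 = n10007 := d6_1 D12775 (iv D10007) (iv F16694)
theorem F21581 : act 4 n12775 = n10604 := d12_2 D10004 D12775 (iv D10604) F16693 (iv D10003)
def n12776 : Q := act 5 n10004
theorem D12776 : act 5 n10004 = n12776 := rfl
theorem F21582 : act 1 n12776 = n10008 := d8_1 D12776 (iv D10008) (iv F16694)
theorem F21583 : act 2 n12776 = n10015 := d11_1 D12776 (iv D10015) (iv F16695)
theorem F21584 : act 4 n12776 = n10216 := d14_1 D12776 (iv D10216) (iv D7905) F12740 D10004
def n12777 : Q := act 3 n10005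
theorem D12777 : act 3 n10005 = n12777 := rfl
theorem F21585 : act 0 n12777 = n10600 := d2_1 D12777 (iv D10600) (iv F16696)
theorem F21586 : act 1 n12777 = n10604 := d6_1 D12777 (iv D10604) (iv F16697)
theorem F21587 : act 4 n12777 = n10007 := d12_2 D10005 D12777 (iv D10007) (iv D7716) D7715
def n12778 : Q := act 5 n10005
theorem D12778 : act 5 n10005 = n12778 := rfl
theorem F21588 : act 0 n12778 = n10601 := d4_1 D12778 (iv D10601) (iv F16696)
theorem F21589 : act 1 n12778 = n10605 := d8_1 D12778 (iv D10605) (iv F16697)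
theorem F21590 : act 2 n12778 = n12049 := d11_1 D12778 F20303 F17258
def n12779 : Q := act 4 n10006
theorem D12779 : act 4 n10006 = n12779 := rfl
theorem F21591 : act 1 n12779 = n10167 := d7_1 D12779 (iv D10167) (iv F16698)
def n12780 : Q := act 2 n10007
theorem D12780 : act 2 n10007 = n12780 := rfl
def n12781 : Q := act 5 n10007
theorem D12781 : act 5 n10007 = n12781 := rfl
theorem F21592 : act 3 n12781 = n10008 := d13_1 D12781 (iv D10008) D10007
def n12782 : Q := act 4 n10008
theorem D12782 : act 4 n10008 = n12782 := rfl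
theorem F21593 : act 1 n12782 = n10216 := d7_1 D12782 (iv F21584) F21582
theorem F21594 : act 2 n12782 = n10010 := d10_1 D12782 (iv D10010) (iv F16700)
theorem F21595 : act 5 n12782 = n10009 := d14_2 D10008 D12782 (iv D10009) (iv D7717) D7716
def n12783 : Q := act 3 n10009
theorem D12783 : act 3 n10009 = n12783 := rfl
theorem F21596 : act 1 n12783 = n10215 := d6_1 D12783 (iv D10215) (iv F16701)
def n12784 : Q := act 2 n10011
theorem D12784 : act 2 n10011 = n12784 := rfl
theorem F21597 : act 4 n12784 = n10012 := d10_2 (iv F16706) D12784 (iv D10012)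
def n12785 : Q := act 1 n10012
theorem D12785 : act 1 n10012 = n12785 := rfl
theorem F21598 : act 2 n12785 = n10017 := d5_2 D10012 D12785 (iv D10017) (iv D7727) (iv F12747)
theorem F21599 : act 5 n12785 = n10028 := d8_2 (iv F16707) D12785 (iv D10028)
def n12786 : Q := act 3 n10012
theorem D12786 : act 3 n10012 = n12786 := rfl
theorem F21600 : act 5 n12786 = n10029 := d13_2 (iv F16707) D12786 (iv D10029)
def n12787 : Q := act 3 n10013
theorem D12787 : act 3 n10013 = n12787 := rfl
theorem F21601 : act 0 n12787 = n10014 := d2_1 D12787 (iv D10014) (iv F16708)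
theorem F21602 : act 1 n12787 = n12772 := d6_1 D12787 (iv D12772) (iv F16709)
theorem F21603 : act 4 n12787 = n10202 := d12_2 D10013 D12787 (iv D10202) (iv D7892) (iv F12750)
def n12788 : Q := act 5 n10013
theorem D12788 : act 5 n10013 = n12788 := rfl
theorem F21604 : act 0 n12788 = n10015 := d4_1 D12788 (iv D10015) (iv F16708)
theorem F21605 : act 1 n12788 = n12771 := d8_1 D12788 F21570 (iv F16709)
theorem F21606 : act 4 n12788 = n10214 := d14_1 D12788 (iv D10214) (iv D7904) (iv F12751) D10013
def n12789 : Q := act 2 n10014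
theorem D12789 : act 2 n10014 = n12789 := rfl
theorem F21607 : act 4 n12789 = n10203 := d10_2 (iv F16711) D12789 (iv D10203)
def n12790 : Q := act 1 n10016
theorem D12790 : act 1 n10016 = n12790 := rfl
theorem F21608 : act 3 n12790 = n10042 := d6_2 (iv F16715) D12790 F16751
theorem F21609 : act 4 n12790 = n10017 := d7_2 (iv F16716) D12790 (iv D10017)
theorem F21610 : act 5 n12790 = n10041 := d8_2 (iv F16717) D12790 F16749
def n12791 : Q := act 0 n10017
theorem D12791 : act 0 n10017 = n12791 := rfl
theorem F21611 : act 3 n12791 = n10030 := d2_2 (iv F16718) D12791 (iv D10030)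
theorem F21612 : act 5 n12791 = n10030 := d4_2 (iv F16719) D12791 (iv D10030)
def n12792 : Q := act 3 n10018
theorem D12792 : act 3 n10018 = n12792 := rfl
theorem F21613 : act 1 n12792 = n10020 := d6_1 D12792 (iv D10020) (iv F16720)
def n12793 : Q := act 3 n10019
theorem D12793 : act 3 n10019 = n12793 := rfl
theorem F21614 : act 0 n12793 = n10024 := d2_1 D12793 (iv D10024) (iv F16721)
theorem F21615 : act 4 n12793 = n10020 := d12_2 D10019 D12793 (iv D10020) (iv D7730) D7729
def n12794 : Q := act 5 n10019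
theorem D12794 : act 5 n10019 = n12794 := rfl
theorem F21616 : act 0 n12794 = n10025 := d4_1 D12794 (iv D10025) (iv F16721)
def n12795 : Q := act 2 n10020
theorem D12795 : act 2 n10020 = n12795 := rfl
theorem F21617 : act 0 n12795 = n10026 := d1_1 D12795 (iv D10026) (iv F16722)
def n12796 : Q := act 5 n10020
theorem D12796 : act 5 n10020 = n12796 := rfl
theorem F21618 : act 0 n12796 = n10027 := d4_1 D12796 (iv D10027) (iv F16722)
theorem F21619 : act 3 n12796 = n10021 := d13_1 D12796 (iv D10021) D10020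
theorem F21620 : act 4 n12538 = n12796 := d12_0 F21619 F16725 (iv D9811) (iv F16383) D12538
def n12797 : Q := act 1 n10022
theorem D12797 : act 1 n10022 = n12797 := rfl
def n12798 : Q := act 3 n10022
theorem D12798 : act 3 n10022 = n12798 := rfl
theorem F21621 : act 0 n12798 = n10029 := d2_1 D12798 (iv D10029) (iv F16726)
def n12799 : Q := act 3 n10023
theorem D12799 : act 3 n10023 = n12799 := rfl
def n12800 : Q := act 5 n10023
theorem D12800 : act 5 n10023 = n12800 := rfl
theorem F21622 : act 2 n12800 = n10025 := d11_1 D12800 (iv D10025) (iv F16727)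
def n12801 : Q := act 2 n10024
theorem D12801 : act 2 n10024 = n12801 := rfl
theorem F21623 : act 4 n12801 = n10026 := d10_2 (iv F16728) D12801 (iv D10026)
def n12802 : Q := act 5 n10024
theorem D12802 : act 5 n10024 = n12802 := rfl
theorem F21624 : act 1 n12802 = n12545 := d8_1 D12802 F21216 F20002
theorem F21625 : act 3 n12802 = n10025 := d13_1 D12802 (iv D10025) D10024
theorem F21626 : act 4 n12802 = n12541 := d14_1 D12802 (iv D12541) F16731 (iv D10027) (iv F16728)
def n12803 : Q := act 1 n10026
theorem D12803 : act 1 n10026 = n12803 := rfl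
def n12804 : Q := act 3 n10026
theorem D12804 : act 3 n10026 = n12804 := rfl
def n12805 : Q := act 5 n10026
theorem D12805 : act 5 n10026 = n12805 := rfl
theorem F21627 : act 2 n12805 = n10027 := d11_1 D12805 (iv D10027) D10026
theorem F21628 : act 4 n12540 = n12805 := d10_0 F21627 (iv F16731) D12540
def n12806 : Q := act 0 n10028
theorem D12806 : act 0 n10028 = n12806 := rfl
theorem F21629 : act 2 n12806 = n10030 := d1_2 (iv F16732) D12806 (iv D10030)
def n12807 : Q := act 3 n10028
theorem D12807 : act 3 n10028 = n12807 := rfl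
theorem F21630 : act 1 n12807 = n10029 := d6_1 D12807 (iv D10029) D10028
def n12808 : Q := act 2 n10029
theorem D12808 : act 2 n10029 = n12808 := rfl
def n12809 : Q := act 4 n10029
theorem D12809 : act 4 n10029 = n12809 := rfl
def n12810 : Q := act 1 n10031
theorem D12810 : act 1 n10031 = n12810 := rfl
theorem F21631 : act 3 n12810 = n12633 := d6_2 F21531 D12810 (iv F21530)
theorem F21632 : act 0 n12635 = n12810 := d2_3 F21631 F21369 D12635
def n12811 : Q := act 5 n10031
theorem D12811 : act 5 n10031 = n12811 := rfl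
theorem F21633 : act 0 n12811 = n10035 := d4_1 D12811 (iv D10035) (iv F16733)
theorem F21634 : act 2 n12811 = n10032 := d11_1 D12811 (iv D10032) D10031
def n12812 : Q := act 4 n10032
theorem D12812 : act 4 n10032 = n12812 := rfl
theorem F21635 : act 0 n12812 = n10036 := d3_1 D12812 (iv D10036) (iv F16734)
theorem F21636 : act 3 n12812 = n12788 := d12_1 D12812 F21606 F17053 F15241 (iv F16735)
theorem F21637 : act 5 n12812 = n12787 := d14_2 D10032 D12812 F21603 F17033 F15244
def n12813 : Q := act 0 n10033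
theorem D12813 : act 0 n10033 = n12813 := rfl
theorem F21638 : act 1 n12813 = n12635 := d0_2 D10033 D12813 F21632 (iv D12810) F16733
theorem F21639 : act 2 n12813 = n10037 := d1_2 (iv F16736) D12813 (iv D10037)
theorem F21640 : act 5 n12813 = n12505 := d4_2 F16737 D12813 F21131
theorem F21641 : act 3 n12514 = n12813 := d13_3 F21640 F21132 (iv F21154)
def n12814 : Q := act 3 n10033
theorem D12814 : act 3 n10033 = n12814 := rfl
theorem F21642 : act 0 n12814 = n12514 := d2_1 D12814 F21641 (iv D12813)
theorem F21643 : act 1 n12814 = n10034 := d6_1 D12814 (iv D10034) D10033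
theorem F21644 : act 2 n12814 = n12512 := d9_1 D12814 (iv D12512) (iv D9780) (iv D7540) (iv F12468) D9773 D12505 F21132 (iv D9859) (iv D7600) F9532 (iv F9446) (iv F12472) (iv F12775) (iv F16736)
theorem F21645 : act 5 n12814 = n12508 := d13_2 F16737 D12814 (iv D12508)
def n12815 : Q := act 4 n10034
theorem D12815 : act 4 n10034 = n12815 := rfl
def n12816 : Q := act 5 n10034
theorem D12816 : act 5 n10034 = n12816 := rfl
theorem F21646 : act 1 n12816 = n12508 := d8_1 D12816 (iv F21645) F21643
theorem F21647 : act 3 n12816 = n10035 := d13_1 D12816 (iv D10035) D10034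
def n12817 : Q := act 4 n10035
theorem D12817 : act 4 n10035 = n12817 := rfl
theorem F21648 : act 1 n12817 = n12509 := d7_1 D12817 (iv D12509) (iv F16738)
theorem F21649 : act 2 n12817 = n10036 := d10_1 D12817 (iv D10036) (iv F16739)
theorem F21650 : act 5 n12817 = n12789 := d14_2 D10035 D12817 F21607 F17034 F15249
def n12818 : Q := act 2 n10038
theorem D12818 : act 2 n10038 = n12818 := rfl
theorem F21651 : act 0 n12818 = n10040 := d1_1 D12818 (iv D10040) (iv F16745)
def n12819 : Q := act 4 n10038
theorem D12819 : act 4 n10038 = n12819 := rfl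
theorem F21652 : act 0 n12819 = n10041 := d3_1 D12819 (iv D10041) (iv F16745)
theorem F21653 : act 1 n12819 = n12506 := d7_1 D12819 (iv D12506) (iv F16746)
theorem F21654 : act 3 n12819 = n11901 := d12_1 D12819 F20035 F15442 (iv F12781) D10038
def n12820 : Q := act 4 n10039
theorem D12820 : act 4 n10039 = n12820 := rfl
theorem F21655 : act 0 n12820 = n10042 := d3_1 D12820 (iv D10042) (iv F16747)
theorem F21656 : act 1 n12820 = n12507 := d7_1 D12820 (iv D12507) (iv F16748)
theorem F21657 : act 5 n12820 = n11901 := d14_2 D10039 D12820 F20035 F15443 (iv F12781)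
def n12821 : Q := act 3 n10040
theorem D12821 : act 3 n10040 = n12821 := rfl
def n12822 : Q := act 4 n10040
theorem D12822 : act 4 n10040 = n12822 := rfl
theorem F21658 : act 2 n12822 = n10041 := d10_1 D12822 (iv D10041) D10040
def n12823 : Q := act 2 n10044
theorem D12823 : act 2 n10044 = n12823 := rfl
theorem F21659 : act 4 n12823 = n10113 := d10_2 (iv F16756) D12823 (iv D10113)
def n12824 : Q := act 5 n10044
theorem D12824 : act 5 n10044 = n12824 := rfl
theorem F21660 : act 1 n12824 = n10046 := d8_1 D12824 (iv D10046) (iv F16755)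
theorem F21661 : act 3 n12824 = n10045 := d13_1 D12824 (iv D10045) D10044
def n12825 : Q := act 3 n10047
theorem D12825 : act 3 n10047 = n12825 := rfl
theorem F21662 : act 1 n12825 = n10049 := d6_1 D12825 (iv D10049) (iv F16761)
def n12826 : Q := act 5 n10047
theorem D12826 : act 5 n10047 = n12826 := rfl
theorem F21663 : act 1 n12826 = n10050 := d8_1 D12826 (iv D10050) (iv F16761)
theorem F21664 : act 2 n12826 = n10060 := d11_1 D12826 (iv D10060) (iv F16762)
def n12827 : Q := act 3 n10048
theorem D12827 : act 3 n10048 = n12827 := rfl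
theorem F21665 : act 0 n12827 = n10053 := d2_1 D12827 (iv D10053) (iv F16763)
theorem F21666 : act 4 n12827 = n10049 := d12_2 D10048 D12827 (iv D10049) (iv D7757) D7756
def n12828 : Q := act 5 n10048
theorem D12828 : act 5 n10048 = n12828 := rfl
theorem F21667 : act 0 n12828 = n10054 := d4_1 D12828 (iv D10054) (iv F16763)
def n12829 : Q := act 2 n10049
theorem D12829 : act 2 n10049 = n12829 := rfl
theorem F21668 : act 0 n12829 = n10055 := d1_1 D12829 (iv D10055) (iv F16764)
def n12830 : Q := act 5 n10049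
theorem D12830 : act 5 n10049 = n12830 := rfl
theorem F21669 : act 0 n12830 = n10056 := d4_1 D12830 (iv D10056) (iv F16764)
theorem F21670 : act 3 n12830 = n10050 := d13_1 D12830 (iv D10050) D10049
def n12831 : Q := act 1 n10051
theorem D12831 : act 1 n10051 = n12831 := rfl
theorem F21671 : act 2 n12831 = n10068 := d5_2 D10051 D12831 (iv D10068) (iv D7773) (iv F12806)
def n12832 : Q := act 3 n10052
theorem D12832 : act 3 n10052 = n12832 := rfl
def n12833 : Q := act 5 n10052
theorem D12833 : act 5 n10052 = n12833 := rfl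
theorem F21672 : act 2 n12833 = n10054 := d11_1 D12833 (iv D10054) (iv F16768)
def n12834 : Q := act 2 n10053
theorem D12834 : act 2 n10053 = n12834 := rfl
theorem F21673 : act 4 n12834 = n10055 := d10_2 (iv F16769) D12834 (iv D10055)
def n12835 : Q := act 5 n10053
theorem D12835 : act 5 n10053 = n12835 := rfl
theorem F21674 : act 3 n12835 = n10054 := d13_1 D12835 (iv D10054) D10053
def n12836 : Q := act 1 n10055
theorem D12836 : act 1 n10055 = n12836 := rfl
def n12837 : Q := act 3 n10055
theorem D12837 : act 3 n10055 = n12837 := rfl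
def n12838 : Q := act 5 n10055
theorem D12838 : act 5 n10055 = n12838 := rfl
theorem F21675 : act 2 n12838 = n10056 := d11_1 D12838 (iv D10056) D10055
def n12839 : Q := act 4 n10056
theorem D12839 : act 4 n10056 = n12839 := rfl
def n12840 : Q := act 4 n10057
theorem D12840 : act 4 n10057 = n12840 := rfl
def n12841 : Q := act 3 n10058
theorem D12841 : act 3 n10058 = n12841 := rfl
theorem F21676 : act 0 n12841 = n10059 := d2_1 D12841 (iv D10059) (iv F16771)
theorem F21677 : act 1 n12841 = n10069 := d6_1 D12841 (iv D10069) (iv F16772)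
def n12842 : Q := act 5 n10058
theorem D12842 : act 5 n10058 = n12842 := rfl
theorem F21678 : act 0 n12842 = n10060 := d4_1 D12842 (iv D10060) (iv F16771)
theorem F21679 : act 1 n12842 = n10070 := d8_1 D12842 (iv D10070) (iv F16772)
def n12843 : Q := act 2 n10059
theorem D12843 : act 2 n10059 = n12843 := rfl
def n12844 : Q := act 5 n10059
theorem D12844 : act 5 n10059 = n12844 := rfl
theorem F21680 : act 1 n12844 = n10063 := d8_1 D12844 (iv D10063) (iv F16773)
theorem F21681 : act 3 n12844 = n10060 := d13_1 D12844 (iv D10060) D10059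
def n12845 : Q := act 4 n10060
theorem D12845 : act 4 n10060 = n12845 := rfl
theorem F21682 : act 1 n12845 = n10064 := d7_1 D12845 (iv D10064) (iv F16774)
theorem F21683 : act 5 n12845 = n10061 := d14_2 D10060 D12845 (iv D10061) (iv D7767) D7766
def n12846 : Q := act 3 n10061
theorem D12846 : act 3 n10061 = n12846 := rfl
theorem F21684 : act 1 n12846 = n10065 := d6_1 D12846 (iv D10065) (iv F16775)
theorem F21685 : act 4 n12846 = n10104 := d12_2 D10061 D12846 (iv D10104) (iv D7803) (iv F12811)
def n12847 : Q := act 1 n10062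
theorem D12847 : act 1 n10062 = n12847 := rfl
def n12848 : Q := act 4 n10063
theorem D12848 : act 4 n10063 = n12848 := rfl
theorem F21686 : act 0 n12848 = n10082 := d3_1 D12848 (iv D10082) (iv F16777)
def n12849 : Q := act 3 n10064
theorem D12849 : act 3 n10064 = n12849 := rfl
theorem F21687 : act 0 n12849 = n10083 := d2_1 D12849 (iv D10083) (iv F16779)
theorem F21688 : act 5 n12849 = n10065 := d13_2 (iv F16781) D12849 (iv D10065)
def n12850 : Q := act 2 n10065
theorem D12850 : act 2 n10065 = n12850 := rfl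
theorem F21689 : act 0 n12850 = n10084 := d1_1 D12850 (iv D10084) (iv F16782)
theorem F21690 : act 4 n12850 = n10106 := d10_2 (iv F16783) D12850 (iv D10106)
def n12851 : Q := act 2 n10066
theorem D12851 : act 2 n10066 = n12851 := rfl
theorem F21691 : act 0 n12851 = n10085 := d1_1 D12851 (iv D10085) (iv F16784)
theorem F21692 : act 5 n12851 = n10067 := d11_2 (iv F16785) D12851 (iv D10067)
def n12852 : Q := act 1 n10067
theorem D12852 : act 1 n10067 = n12852 := rfl
theorem F21693 : act 4 n12852 = n10068 := d7_2 (iv F16787) D12852 (iv D10068)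
def n12853 : Q := act 3 n10067
theorem D12853 : act 3 n10067 = n12853 := rfl
theorem F21694 : act 0 n12853 = n10087 := d2_1 D12853 (iv D10087) (iv F16786)
theorem F21695 : act 4 n12853 = n10087 := d12_2 (iv F16787) D12853 (iv D10087) F12837 (iv F12822)
def n12854 : Q := act 0 n10068
theorem D12854 : act 0 n10068 = n12854 := rfl
theorem F21696 : act 1 n12854 = n10088 := d0_2 D10068 D12854 (iv D10088) (iv D7787) (iv F12821)
theorem F21697 : act 3 n12854 = n10088 := d2_2 (iv F16788) D12854 (iv D10088)
def n12855 : Q := act 2 n10069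
theorem D12855 : act 2 n10069 = n12855 := rfl
theorem F21698 : act 0 n12855 = n10073 := d1_1 D12855 (iv D10073) (iv F16789)
def n12856 : Q := act 5 n10069
theorem D12856 : act 5 n10069 = n12856 := rfl
theorem F21699 : act 0 n12856 = n10074 := d4_1 D12856 (iv D10074) (iv F16789)
theorem F21700 : act 3 n12856 = n10070 := d13_1 D12856 (iv D10070) D10069
def n12857 : Q := act 2 n10071
theorem D12857 : act 2 n10071 = n12857 := rfl
theorem F21701 : act 4 n12857 = n10073 := d10_2 (iv F16793) D12857 (iv D10073)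
def n12858 : Q := act 5 n10071
theorem D12858 : act 5 n10071 = n12858 := rfl
theorem F21702 : act 1 n12858 = n10076 := d8_1 D12858 (iv D10076) (iv F16792)
theorem F21703 : act 3 n12858 = n10072 := d13_1 D12858 (iv D10072) D10071
def n12859 : Q := act 1 n10073
theorem D12859 : act 1 n10073 = n12859 := rfl
theorem F21704 : act 2 n12859 = n10079 := d5_2 D10073 D12859 (iv D10079) (iv D7781) (iv F12826)
def n12860 : Q := act 3 n10073
theorem D12860 : act 3 n10073 = n12860 := rfl
def n12861 : Q := act 5 n10073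
theorem D12861 : act 5 n10073 = n12861 := rfl
theorem F21705 : act 2 n12861 = n10074 := d11_1 D12861 (iv D10074) D10073
def n12862 : Q := act 4 n10074
theorem D12862 : act 4 n10074 = n12862 := rfl
theorem F21706 : act 1 n12862 = n10082 := d7_1 D12862 (iv D10082) (iv F16795)
def n12863 : Q := act 1 n10075
theorem D12863 : act 1 n10075 = n12863 := rfl
theorem F21707 : act 3 n12863 = n11534 := d6_2 F20211 D12863 (iv F20209)
theorem F21708 : act 4 n12863 = n10079 := d7_2 (iv F16797) D12863 (iv D10079)
theorem F21709 : act 2 n12591 = n12863 := d15_0 F21707 (iv D11534) (iv D8957) F11347 D6873 D8966 D11545 F19379 (iv F21305)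
theorem F21710 : act 0 n12863 = n12592 := d1_1 F21709 (iv D12592) (iv F21305)
theorem F21711 : act 1 n12857 = n12591 := d5_5 F21709 (iv D12863) (iv D10075) (iv F16792) D12857
theorem F21712 : act 4 n12859 = n12591 := d10_0 F21709 F21708 (iv F21704)
theorem F21713 : act 0 n12593 = n12859 := d3_3 F21712 F21305 D12593
theorem F21714 : act 3 n12599 = n12859 := d12_5 F21712 (iv D12591) F16474 D9858 D12599
theorem F21715 : act 1 n12860 = n12599 := d6_3 F21714 (iv D12859) D12860
theorem F21716 : act 0 n12585 = n12860 := d0_5 F21715 F21311 F16481 (iv F16468) (iv F21297)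
theorem F21717 : act 4 n12584 = n12860 := d7_0 F21715 (iv D12599) (iv F21295)
theorem F21718 : act 3 n12857 = n12577 := d12_3 F21717 (iv D12860) (iv F21701) F21280 D12584
theorem F21719 : act 0 n12578 = n12857 := d2_3 F21718 (iv D12577) D12578
theorem F21720 : act 2 n11729 = n12578 := d1_0 F21719 (iv D12857) (iv F19753)
theorem F21721 : act 4 n12855 = n12578 := d3_0 F21719 F21701 (iv F21698)
theorem F21722 : act 1 n12581 = n12855 := d7_3 F21721 F21281 D12581
theorem F21723 : act 3 n12585 = n12855 := d12_5 F21721 (iv D12578) F16457 D9844 D12585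
def n12864 : Q := act 4 n10076
theorem D12864 : act 4 n10076 = n12864 := rfl
theorem F21724 : act 5 n12864 = n10082 := d14_2 D10076 D12864 (iv D10082) (iv D7782) (iv F12829)
def n12865 : Q := act 3 n10077
theorem D12865 : act 3 n10077 = n12865 := rfl
theorem F21725 : act 0 n12865 = n10107 := d2_1 D12865 F16827 (iv F16799)
theorem F21726 : act 5 n12865 = n10078 := d13_2 (iv F16801) D12865 (iv D10078)
def n12866 : Q := act 2 n10078
theorem D12866 : act 2 n10078 = n12866 := rfl
theorem F21727 : act 0 n12866 = n10106 := d1_1 D12866 (iv D10106) (iv F16802)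
theorem F21728 : act 4 n12866 = n10084 := d10_2 (iv F16803) D12866 (iv D10084)
theorem F21729 : act 3 n12421 = n12866 := d12_5 F21728 F21125 (iv D10659) F17760 (iv F20981)
theorem E1 : n12422 = n10106 := ((c2_2 F21729 F21727 (iv D12422) D12421)).symm
theorem F21730 : act 1 n10106 = n9692 := (sb E1 F20982)
theorem F21731 : act 3 n10106 = n9691 := (sb E1 (iv D12422))
theorem F21732 : act 1 n12424 = n12850 := d7_3 F21690 F21730 D12424
def n12867 : Q := act 0 n10079
theorem D12867 : act 0 n10079 = n12867 := rfl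
theorem F21733 : act 2 n12867 = n12593 := d1_2 F21704 D12867 F21713
theorem F21734 : act 4 n12867 = n12592 := d3_2 F21708 D12867 (iv F21710)
def n12868 : Q := act 3 n10079
theorem D12868 : act 3 n10079 = n12868 := rfl
theorem F21735 : act 1 n12868 = n10080 := d6_1 D12868 (iv D10080) D10079
def n12869 : Q := act 5 n10079
theorem D12869 : act 5 n10079 = n12869 := rfl
theorem F21736 : act 1 n12869 = n10081 := d8_1 D12869 (iv D10081) D10079
def n12870 : Q := act 4 n10080
theorem D12870 : act 4 n10080 = n12870 := rfl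
def n12871 : Q := act 4 n10081
theorem D12871 : act 4 n10081 = n12871 := rfl
theorem F21737 : act 2 n12871 = n10082 := d10_1 D12871 (iv D10082) (iv F16804)
def n12872 : Q := act 3 n10082
theorem D12872 : act 3 n10082 = n12872 := rfl
theorem F21738 : act 4 n12872 = n10083 := d12_2 D10082 D12872 (iv D10083) (iv D7783) (iv F12832)
def n12873 : Q := act 2 n10083
theorem D12873 : act 2 n10083 = n12873 := rfl
theorem F21739 : act 1 n12873 = n12500 := d5_1 D12873 (iv D12500) (iv F20472) F20473 F19498
theorem F21740 : act 5 n12873 = n10084 := d11_2 (iv F16805) D12873 (iv D10084)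
def n12874 : Q := act 3 n10085
theorem D12874 : act 3 n10085 = n12874 := rfl
theorem F21741 : act 5 n12874 = n10087 := d13_2 (iv F16806) D12874 (iv D10087)
def n12875 : Q := act 0 n10086
theorem D12875 : act 0 n10086 = n12875 := rfl
theorem F21742 : act 2 n12875 = n10095 := d1_2 (iv F16807) D12875 (iv D10095)
theorem F21743 : act 4 n12875 = n10088 := d3_2 (iv F16808) D12875 (iv D10088)
def n12876 : Q := act 3 n10086
theorem D12876 : act 3 n10086 = n12876 := rfl
theorem F21744 : act 1 n12876 = n10087 := d6_1 D12876 (iv D10087) D10086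
def n12877 : Q := act 2 n10087
theorem D12877 : act 2 n10087 = n12877 := rfl
def n12878 : Q := act 0 n10089
theorem D12878 : act 0 n10089 = n12878 := rfl
theorem F21745 : act 2 n12878 = n10092 := d1_2 (iv F16810) D12878 (iv D10092)
def n12879 : Q := act 3 n10089
theorem D12879 : act 3 n10089 = n12879 := rfl
theorem F21746 : act 1 n12879 = n10090 := d6_1 D12879 (iv D10090) D10089
def n12880 : Q := act 5 n10089
theorem D12880 : act 5 n10089 = n12880 := rfl
theorem F21747 : act 1 n12880 = n10091 := d8_1 D12880 (iv D10091) D10089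
theorem F21748 : act 2 n12880 = n10094 := d11_1 D12880 (iv D10094) (iv F16810)
def n12881 : Q := act 2 n10090
theorem D12881 : act 2 n10090 = n12881 := rfl
def n12882 : Q := act 4 n10090
theorem D12882 : act 4 n10090 = n12882 := rfl
def n12883 : Q := act 5 n10090
theorem D12883 : act 5 n10090 = n12883 := rfl
theorem F21749 : act 3 n12883 = n10091 := d13_1 D12883 (iv D10091) D10090
theorem F21750 : act 2 n12585 = n12883 := d15_2 D12855 (iv F21723) F21749 F16811 F12841 (iv F12828) (iv F16796) (iv D10074) (iv F16789)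
theorem F21751 : act 1 n12883 = n10866 := d5_1 F21750 F18230 F14016 (iv F16469) (iv F21297)
theorem F21752 : act 4 n12883 = n10865 := d10_2 D12585 F21750 F18228
theorem F21753 : act 5 n12881 = n12585 := d11_0 F21750 (iv D12883) D12881
theorem F21754 : act 1 n12587 = n12881 := d8_3 F21753 F21297 D12587
theorem F21755 : act 4 n12646 = n12881 := d14_5 F21753 (iv D12585) (iv F16465) D9900 D12646
theorem F21756 : act 2 n12882 = n12646 := d10_3 F21755 (iv D12881) D12882
theorem F21757 : act 1 n12643 = n12882 := d5_5 F21756 F21382 F16538 (iv F16536) (iv F21379)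
theorem F21758 : act 5 n12641 = n12882 := d11_0 F21756 (iv D12646) (iv F21378)
theorem F21759 : act 4 n12879 = n12643 := d7_0 F21757 (iv D12882) (iv F21746)
theorem F21760 : act 2 n10867 = n12879 := d10_3 F21759 F21379 (iv F18232)
theorem F21761 : act 5 n10866 = n12879 := d14_0 F21759 (iv D12643) (iv D9897) (iv F14015) D10866
theorem F21762 : act 3 n12880 = n10866 := d13_3 F21761 (iv D12879) D12880
def n12884 : Q := act 3 n10092
theorem D12884 : act 3 n10092 = n12884 := rfl
theorem F21763 : act 0 n12884 = n10093 := d2_1 D12884 (iv D10093) D10092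
def n12885 : Q := act 5 n10092
theorem D12885 : act 5 n10092 = n12885 := rfl
theorem F21764 : act 0 n12885 = n10094 := d4_1 D12885 (iv D10094) D10092
def n12886 : Q := act 2 n10093
theorem D12886 : act 2 n10093 = n12886 := rfl
def n12887 : Q := act 3 n10096
theorem D12887 : act 3 n10096 = n12887 := rfl
def n12888 : Q := act 5 n10096
theorem D12888 : act 5 n10096 = n12888 := rfl
theorem F21765 : act 2 n12888 = n10098 := d11_1 D12888 (iv D10098) (iv F16815)
def n12889 : Q := act 2 n10097
theorem D12889 : act 2 n10097 = n12889 := rfl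
theorem F21766 : act 4 n12889 = n10099 := d10_2 (iv F16817) D12889 (iv D10099)
def n12890 : Q := act 1 n10099
theorem D12890 : act 1 n10099 = n12890 := rfl
theorem F21767 : act 2 n12890 = n10102 := d5_2 D10099 D12890 (iv D10102) (iv D7801) (iv F12845)
def n12891 : Q := act 3 n10099
theorem D12891 : act 3 n10099 = n12891 := rfl
def n12892 : Q := act 1 n10100
theorem D12892 : act 1 n10100 = n12892 := rfl
theorem F21768 : act 4 n12892 = n10102 := d7_2 (iv F16820) D12892 (iv D10102)
def n12893 : Q := act 3 n10100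
theorem D12893 : act 3 n10100 = n12893 := rfl
theorem F21769 : act 0 n12893 = n10109 := d2_1 D12893 (iv D10109) (iv F16819)
theorem F21770 : act 4 n12893 = n10109 := d12_2 (iv F16820) D12893 (iv D10109) F12853 (iv F12850)
def n12894 : Q := act 5 n10100
theorem D12894 : act 5 n10100 = n12894 := rfl
theorem F21771 : act 0 n12894 = n10110 := d4_1 D12894 (iv D10110) (iv F16819)
theorem F21772 : act 2 n12894 = n10101 := d11_1 D12894 (iv D10101) D10100
theorem F21773 : act 3 n11381 = n12894 := d15_7 (iv D7806) (iv D5950) (iv F9727) D7804 D10106 F21731 (iv F19089) (iv D12894) F16819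
theorem F21774 : act 1 n12894 = n11382 := d6_1 F21773 (iv D11382) (iv F19088)
theorem F21775 : act 5 n12893 = n11381 := d13_0 F21773 (iv D12894) D12893
theorem F21776 : act 1 n11383 = n12893 := d8_3 F21775 F19088 D11383
theorem F21777 : act 2 n12423 = n12893 := d11_3 F21775 F19089 D12423
theorem E2 : n12892 = n12342 := (c6_4 F20866 F21776 (iv D12893) D12892)
theorem F21778 : act 1 n12342 = n10100 := (sb E2 (iv D12892))
theorem F21779 : act 4 n12342 = n10102 := (sb E2 F21768)
theorem E3 : n12890 = n12343 := (c10_2 F21779 (iv F21767) (iv D12343) D12342)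
theorem F21780 : act 1 n12343 = n10099 := (sb E3 (iv D12890))
theorem F21781 : act 2 n12343 = n10102 := (sb E3 F21767)
theorem E4 : n12889 = n12340 := (c7_3 D12343 F21780 (iv F21766) F20862)
theorem F21782 : act 2 n12340 = n10097 := (sb E4 (iv D12889))
theorem F21783 : act 4 n12340 = n10099 := (sb E4 F21766)
theorem F21784 : act 0 n11387 = n12676 := d0_3 F21774 F19090 (iv F19102) F21417 (iv F21771)
theorem F21785 : act 2 n12673 = n11387 := d1_0 F21784 F21418 (iv F21415)
theorem F21786 : act 3 n12676 = n11384 := d2_2 D11387 F21784 F19093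
theorem F21787 : act 4 n12672 = n11387 := d3_0 F21784 (iv D12676) (iv F21414)
theorem F21788 : act 1 n11389 = n12672 := d7_3 F21787 F19102 (iv F19106)
theorem F21789 : act 3 n11386 = n12672 := d12_5 F21787 (iv D11387) (iv D8845) D8844 D11386
theorem E5 : n12675 = n8861 := (c2_3 F21789 F21414 D12675 (iv F19099))
theorem E6 : n11406 = n9923 := ((D11406).symm.trans (sb E5 (iv D12675)))
theorem F21790 : act 3 n9923 = n8861 := (sb E6 (iv D11406))
theorem F21791 : act 2 n12661 = n11409 := d15_6 (iv F19101) F21789 (iv D12672) (iv D9921) (iv F16550) D12661 F19136 (iv D8863) (iv F14708)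
theorem F21792 : act 5 n12661 = n11408 := d15_8 F21413 (iv D11401) (iv F19101) F21789 (iv D12672) (iv D9921) (iv F16550) D12661 (iv F21412)
theorem E7 : n12670 = n12665 := ((c15_2 (iv F16553) (iv F21405) F21413 (iv D11401) (iv F19101) F21789 (iv D12672) (iv D9921) D9922 F16562)).symm
theorem F21793 : act 0 n12665 = n11408 := (sb E7 F21412)
theorem F21794 : act 2 n12665 = n11401 := (sb E7 F21413)
theorem F21795 : act 4 n12665 = n9919 := (sb E7 (iv D12670))
theorem F21796 : act 3 n11695 = n11407 := d9_8 (iv F21789) F19101 D11401 (iv F21794) F21405 F16553 (iv F15586) (iv F19673) F19134 (iv F19136) (iv F21791) (iv D12661) F16550 D9921 D12672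
theorem F21797 : act 1 n11407 = n11696 := d6_1 F21796 (iv D11696) D11695
theorem F21798 : act 5 n11696 = n11405 := d8_2 D11407 F21797 F19133
theorem F21799 : act 3 n11405 = n11697 := d13_1 F21798 (iv D11697) D11696
theorem E8 : n12671 = n12666 := (c12_4 F21795 F16559 D9920 D12671 (iv D12666) (iv F21405))
theorem F21800 : act 3 n12666 = n9920 := (sb E8 (iv D12671))
theorem E9 : n12669 = n12664 := (c14_5 D12665 F21795 (iv D9919) D9918 D12669 (iv D12664))
theorem F21801 : act 5 n12664 = n9918 := (sb E9 (iv D12669))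
theorem F21802 : act 5 n11401 = n12663 := d11_2 D12665 F21794 (iv D12663)
theorem F21803 : act 0 n12663 = n11409 := d4_1 F21802 (iv D11409) (iv F19125)
theorem F21804 : act 3 n12663 = n11402 := d13_1 F21802 (iv D11402) D11401
theorem F21805 : act 3 n11408 = n12662 := d2_2 (iv F21405) F21793 F21401
theorem F21806 : act 3 n11393 = n12707 := d15_5 F21785 (iv D11387) F14690 D8850 D11393 F21468 (iv F20203) F20204 (iv F21415)
theorem F21807 : act 4 n12706 = n11395 := d12_4 (iv F19109) F21806 (iv D12707) D12706 (iv D11395)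
def n12895 : Q := act 0 n10102
theorem D12895 : act 0 n10102 = n12895 := rfl
theorem F21808 : act 1 n12895 = n10111 := d0_2 D10102 D12895 (iv D10111) (iv D7808) (iv F12849)
theorem F21809 : act 3 n12895 = n10111 := d2_2 (iv F16823) D12895 (iv D10111)
theorem F21810 : act 4 n12895 = n11392 := d3_2 F21779 D12895 (iv F20865)
def n12896 : Q := act 3 n10103
theorem D12896 : act 3 n10103 = n12896 := rfl
theorem F21811 : act 0 n12896 = n10104 := d2_1 D12896 (iv D10104) (iv F16824)
def n12897 : Q := act 5 n10103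
theorem D12897 : act 5 n10103 = n12897 := rfl
theorem F21812 : act 0 n12897 = n10105 := d4_1 D12897 (iv D10105) (iv F16824)
def n12898 : Q := act 2 n10104
theorem D12898 : act 2 n10104 = n12898 := rfl
theorem F21813 : act 1 n12898 = n12420 := d5_1 D12898 F20978 (iv F21730) (iv D10106) (iv F16825)
theorem F21814 : act 3 n12418 = n12898 := d6_0 F21813 F20979 (iv F20973)
theorem F21815 : act 5 n12417 = n12898 := d8_0 F21813 (iv D12420) (iv F20972)
theorem F21816 : act 2 n12416 = n12735 := d15_0 (iv D12735) F16636 (iv F15627) F15626 D10104 D12898 (iv F21814) (iv D12418) D12416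
theorem F21817 : act 0 n12735 = n12406 := d1_1 F21816 F20951 D12416
theorem F21818 : act 4 n12735 = n12410 := d10_2 (iv F20971) F21816 F20963
theorem F21819 : act 3 n12410 = n12734 := d12_1 F21818 (iv D12734) (iv D9970) D9971 D12735
theorem F21820 : act 0 n12734 = n12411 := d2_1 F21819 (iv D12411) D12410
theorem F21821 : act 2 n12734 = n12457 := d15_2 (iv F20963) F21819 (iv D12457) (iv D9721) (iv D7487) (iv F12056) D9438 (iv F15756) D9690
theorem F21822 : act 4 n12457 = n12733 := d10_2 D12734 F21821 (iv D12733)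
theorem F21823 : act 4 n12411 = n12729 := d3_2 D12734 F21820 F21499
theorem F21824 : act 1 n12729 = n12413 := d7_1 F21823 (iv D12413) (iv F20964)
theorem F21825 : act 3 n12730 = n12406 := d12_3 F21823 (iv D12729) D12730 F20952 D12411
theorem F21826 : act 1 n12407 = n12730 := d6_3 F21825 (iv D12406) D12407
theorem F21827 : act 4 n12728 = n12407 := d7_0 F21826 (iv D12730) D12728
theorem F21828 : act 3 n12413 = n12728 := d12_5 F21827 (iv D12407) F16161 D9683 D12413
def n12899 : Q := act 5 n10104
theorem D12899 : act 5 n10104 = n12899 := rfl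
theorem F21829 : act 1 n12899 = n10107 := d8_1 D12899 (iv D10107) (iv F16825)
theorem F21830 : act 2 n12899 = n12417 := d11_1 D12899 F21815 (iv D12898)
theorem F21831 : act 3 n12899 = n10105 := d13_1 D12899 (iv D10105) D10104
def n12900 : Q := act 5 n10106
theorem D12900 : act 5 n10106 = n12900 := rfl
theorem F21832 : act 1 n12900 = n12419 := d8_1 D12900 (iv F20976) (iv F21730)
theorem F21833 : act 2 n12900 = n10107 := d11_1 D12900 (iv D10107) D10106
theorem F21834 : act 3 n12900 = n12423 := d13_1 D12900 (iv D12423) (iv F21731)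
def n12901 : Q := act 4 n10107
theorem D12901 : act 4 n10107 = n12901 := rfl
def n12902 : Q := act 0 n10108
theorem D12902 : act 0 n10108 = n12902 := rfl
theorem F21835 : act 1 n12902 = n11392 := d0_2 D10108 D12902 (iv F20865) F21778 F16819
theorem F21836 : act 4 n12902 = n10111 := d3_2 (iv F16828) D12902 (iv D10111)
theorem F21837 : act 5 n12902 = n11387 := d4_2 F21419 D12902 F21784
theorem F21838 : act 3 n11388 = n12902 := d13_3 F21837 (iv D11387) D11388
def n12903 : Q := act 3 n10108
theorem D12903 : act 3 n10108 = n12903 := rfl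
theorem F21839 : act 0 n12903 = n11388 := d2_1 D12903 F21838 (iv D12902)
theorem F21840 : act 1 n12903 = n10109 := d6_1 D12903 (iv D10109) D10108
theorem F21841 : act 4 n12903 = n11383 := d12_2 (iv F16828) D12903 (iv F20866) F21779 F16823
theorem F21842 : act 5 n12903 = n11384 := d13_2 F21419 D12903 (iv F21786)
theorem F21843 : act 2 n12903 = n11385 := d15_6 D11393 F21806 F21468 (iv F20203) F20202 D12903 F19097 F18466 (iv F14694)
def n12904 : Q := act 2 n10109
theorem D12904 : act 2 n10109 = n12904 := rfl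
theorem F21844 : act 0 n12904 = n12423 := d1_1 D12904 F21777 F21769
theorem F21845 : act 1 n12904 = n12425 := d5_1 D12904 F20987 (iv F19096) (iv F21843) F21840
theorem F21846 : act 4 n12904 = n12423 := d10_2 F21770 D12904 F21777
theorem F21847 : act 5 n12421 = n12904 := d14_0 F21846 (iv D12423) F16176 F17761 (iv F20981)
def n12905 : Q := act 5 n10109
theorem D12905 : act 5 n10109 = n12905 := rfl
theorem F21848 : act 0 n12905 = n11381 := d4_1 D12905 (iv F21775) F21769
theorem F21849 : act 1 n12905 = n11384 := d8_1 D12905 (iv F21842) F21840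
theorem F21850 : act 2 n12905 = n12421 := d11_1 D12905 F21847 (iv D12904)
theorem F21851 : act 3 n12905 = n10110 := d13_1 D12905 (iv D10110) D10109
theorem F21852 : act 4 n12905 = n11380 := d14_1 D12905 F19087 D11381 (iv F21775) F21770
def n12906 : Q := act 3 n10113
theorem D12906 : act 3 n10113 = n12906 := rfl
def n12907 : Q := act 2 n10114
theorem D12907 : act 2 n10114 = n12907 := rfl
def n12908 : Q := act 5 n10114
theorem D12908 : act 5 n10114 = n12908 := rfl
theorem F21853 : act 1 n12908 = n10117 := d8_1 D12908 (iv D10117) (iv F16832)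
theorem F21854 : act 3 n12908 = n10115 := d13_1 D12908 (iv D10115) D10114
def n12909 : Q := act 1 n10116
theorem D12909 : act 1 n10116 = n12909 := rfl
def n12910 : Q := act 4 n10117
theorem D12910 : act 4 n10117 = n12910 := rfl
def n12911 : Q := act 1 n10118
theorem D12911 : act 1 n10118 = n12911 := rfl
theorem F21855 : act 2 n12911 = n10120 := d5_2 D10118 D12911 (iv D10120) (iv D7818) (iv F12863)
def n12912 : Q := act 3 n10118
theorem D12912 : act 3 n10118 = n12912 := rfl
def n12913 : Q := act 5 n10118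
theorem D12913 : act 5 n10118 = n12913 := rfl
theorem F21856 : act 2 n12913 = n10119 := d11_1 D12913 (iv D10119) D10118
def n12914 : Q := act 0 n10120
theorem D12914 : act 0 n10120 = n12914 := rfl
def n12915 : Q := act 3 n10120
theorem D12915 : act 3 n10120 = n12915 := rfl
theorem F21857 : act 1 n12915 = n10121 := d6_1 D12915 (iv D10121) D10120
theorem F21858 : act 5 n12304 = n12915 := d8_0 F21857 F16839 (iv F20803)
def n12916 : Q := act 5 n10120
theorem D12916 : act 5 n10120 = n12916 := rfl
theorem F21859 : act 1 n12916 = n10122 := d8_1 D12916 (iv D10122) D10120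
theorem F21860 : act 3 n12916 = n12304 := d13_1 D12916 F21858 (iv D12915)
def n12917 : Q := act 1 n10123
theorem D12917 : act 1 n10123 = n12917 := rfl
theorem F21861 : act 5 n12917 = n10124 := d8_2 (iv F16842) D12917 (iv D10124)
def n12918 : Q := act 0 n10124
theorem D12918 : act 0 n10124 = n12918 := rfl
theorem F21862 : act 4 n12918 = n10126 := d3_2 (iv F16843) D12918 (iv D10126)
def n12919 : Q := act 3 n10124
theorem D12919 : act 3 n10124 = n12919 := rfl
theorem F21863 : act 1 n12919 = n10125 := d6_1 D12919 (iv D10125) D10124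
theorem F21864 : act 4 n12919 = n12535 := d12_2 (iv F16843) D12919 (iv D12535) F16376 F15768
def n12920 : Q := act 4 n10127
theorem D12920 : act 4 n10127 = n12920 := rfl
theorem F21865 : act 0 n12920 = n10128 := d3_1 D12920 (iv D10128) (iv F16845)
theorem F21866 : act 1 n12920 = n10140 := d7_1 D12920 (iv D10140) (iv F16846)
theorem F21867 : act 3 n12920 = n10424 := d12_1 D12920 (iv D10424) (iv D8074) (iv F12870) D10127
def n12921 : Q := act 5 n10128
theorem D12921 : act 5 n10128 = n12921 := rfl
theorem F21868 : act 1 n12921 = n10130 := d8_1 D12921 (iv D10130) (iv F16848)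
theorem F21869 : act 3 n12921 = n10429 := d13_1 D12921 (iv D10429) (iv F16849)
def n12922 : Q := act 3 n10129
theorem D12922 : act 3 n10129 = n12922 := rfl
theorem F21870 : act 0 n12922 = n10289 := d2_1 D12922 (iv D10289) (iv F16850)
theorem F21871 : act 1 n12922 = n10131 := d6_1 D12922 (iv D10131) (iv F16851)
theorem F21872 : act 5 n12922 = n10431 := d13_2 (iv F16853) D12922 (iv D10431)
def n12923 : Q := act 2 n10131
theorem D12923 : act 2 n10131 = n12923 := rfl
theorem F21873 : act 0 n12923 = n10149 := d1_1 D12923 (iv D10149) (iv F16856)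
theorem F21874 : act 5 n12923 = n10434 := d11_2 (iv F16857) D12923 (iv D10434)
theorem F21875 : act 3 n12923 = n10434 := d15_1 D12923 (iv D10434) (iv D8082) F10201 (iv F9759) (iv F12895) D10139 F16874 (iv F16856)
def n12924 : Q := act 2 n10132
theorem D12924 : act 2 n10132 = n12924 := rfl
theorem F21876 : act 0 n12924 = n10134 := d1_1 D12924 (iv D10134) (iv F16858)
def n12925 : Q := act 4 n10132
theorem D12925 : act 4 n10132 = n12925 := rfl
theorem F21877 : act 0 n12925 = n10135 := d3_1 D12925 (iv D10135) (iv F16858)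
theorem F21878 : act 1 n12925 = n10424 := d7_1 D12925 (iv D10424) (iv F16859)
theorem F21879 : act 3 n12925 = n10140 := d12_1 D12925 (iv D10140) (iv D7834) (iv F12883) D10132
def n12926 : Q := act 5 n10132
theorem D12926 : act 5 n10132 = n12926 := rfl
theorem F21880 : act 0 n12926 = n10136 := d4_1 D12926 (iv D10136) (iv F16858)
theorem F21881 : act 1 n12926 = n10425 := d8_1 D12926 (iv D10425) (iv F16859)
theorem F21882 : act 3 n12926 = n10133 := d13_1 D12926 (iv D10133) D10132
def n12927 : Q := act 1 n10134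
theorem D12927 : act 1 n10134 = n12927 := rfl
theorem F21883 : act 2 n12927 = n10136 := d5_2 D10134 D12927 F16866 (iv D7831) (iv F12884)
theorem F21884 : act 5 n10134 = n12927 := d11_0 F21883 (iv D10136) D10134
def n12928 : Q := act 3 n10134
theorem D12928 : act 3 n10134 = n12928 := rfl
def n12929 : Q := act 4 n10134
theorem D12929 : act 4 n10134 = n12929 := rfl
theorem F21885 : act 2 n12929 = n10135 := d10_1 D12929 (iv D10135) D10134
def n12930 : Q := act 5 n10135
theorem D12930 : act 5 n10135 = n12930 := rfl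
theorem F21886 : act 1 n12930 = n10138 := d8_1 D12930 (iv D10138) (iv F16864)
theorem F21887 : act 3 n12930 = n10143 := d13_1 D12930 (iv D10143) (iv F16865)
def n12931 : Q := act 4 n10136
theorem D12931 : act 4 n10136 = n12931 := rfl
theorem F21888 : act 1 n12931 = n10137 := d7_1 D12931 (iv D10137) (iv F16866)
theorem F21889 : act 3 n12931 = n10305 := d12_1 D12931 (iv D10305) F13211 (iv F12887) (iv F16867)
def n12932 : Q := act 3 n10137
theorem D12932 : act 3 n10137 = n12932 := rfl
theorem F21890 : act 0 n12932 = n10432 := d2_1 D12932 (iv D10432) (iv F16868)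
theorem F21891 : act 1 n12932 = n10305 := d6_1 D12932 (iv F21889) F21888
theorem F21892 : act 4 n12932 = n10139 := d12_2 D10137 D12932 (iv D10139) (iv D7833) (iv F12889)
def n12933 : Q := act 5 n10137
theorem D12933 : act 5 n10137 = n12933 := rfl
theorem F21893 : act 0 n12933 = n10433 := d4_1 D12933 (iv D10433) (iv F16868)
theorem F21894 : act 2 n12933 = n10138 := d11_1 D12933 (iv D10138) (iv F16869)
theorem F21895 : act 4 n12933 = n10138 := d14_1 D12933 (iv D10138) (iv D7832) F12890 D10137
def n12934 : Q := act 2 n10139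
theorem D12934 : act 2 n10139 = n12934 := rfl
theorem F21896 : act 0 n12934 = n10434 := d1_1 D12934 (iv D10434) (iv F16872)
theorem F21897 : act 3 n12934 = n10149 := d9_2 D10139 D12934 (iv D10149) (iv D7841) F9772 (iv F9750) (iv F12879) D10131 D12923 F21875 (iv D10434) (iv D8082) F10201 (iv F9759) (iv F12895)
theorem F21898 : act 5 n12934 = n10149 := d11_2 (iv F16874) D12934 (iv D10149)
def n12935 : Q := act 5 n10140
theorem D12935 : act 5 n10140 = n12935 := rfl
theorem F21899 : act 0 n12935 = n10143 := d4_1 D12935 (iv D10143) (iv F16875)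
theorem F21900 : act 2 n12935 = n10269 := d11_1 D12935 (iv D10269) (iv F16876)
theorem F21901 : act 4 n12935 = n10292 := d14_1 D12935 (iv D10292) (iv D7966) (iv F12898) D10140
def n12936 : Q := act 4 n10141
theorem D12936 : act 4 n10141 = n12936 := rfl
theorem F21902 : act 1 n12936 = n10142 := d7_1 D12936 (iv D10142) D10141
theorem F21903 : act 2 n12936 = n10144 := d10_1 D12936 (iv D10144) (iv F16877)
def n12937 : Q := act 3 n10142
theorem D12937 : act 3 n10142 = n12937 := rfl
theorem F21904 : act 0 n12937 = n10268 := d2_1 D12937 (iv D10268) (iv F16880)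
theorem F21905 : act 4 n12937 = n10265 := d12_2 D10142 D12937 (iv D10265) (iv D7945) (iv F12902)
def n12938 : Q := act 5 n10142
theorem D12938 : act 5 n10142 = n12938 := rfl
theorem F21906 : act 0 n12938 = n10269 := d4_1 D12938 (iv D10269) (iv F16880)
theorem F21907 : act 2 n12938 = n10143 := d11_1 D12938 (iv D10143) (iv F16881)
theorem F21908 : act 4 n12938 = n10299 := d14_1 D12938 (iv D10299) (iv D7971) (iv F12901) D10142
def n12939 : Q := act 3 n10144
theorem D12939 : act 3 n10144 = n12939 := rfl
theorem F21909 : act 1 n12939 = n10145 := d6_1 D12939 (iv D10145) (iv F16884)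
theorem F21910 : act 4 n12939 = n12922 := d12_2 D10144 D12939 (iv D12922) (iv D10129) (iv F12904)
def n12940 : Q := act 5 n10144
theorem D12940 : act 5 n10144 = n12940 := rfl
theorem F21911 : act 1 n12940 = n10146 := d8_1 D12940 (iv D10146) (iv F16884)
theorem F21912 : act 4 n12940 = n12921 := d14_1 D12940 (iv D12921) (iv D10128) (iv F12905) D10144
def n12941 : Q := act 2 n10145
theorem D12941 : act 2 n10145 = n12941 := rfl
theorem F21913 : act 4 n12941 = n12923 := d10_2 (iv F16885) D12941 (iv D12923)
def n12942 : Q := act 5 n10145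
theorem D12942 : act 5 n10145 = n12942 := rfl
theorem F21914 : act 3 n12942 = n10146 := d13_1 D12942 (iv D10146) D10145
def n12943 : Q := act 3 n10147
theorem D12943 : act 3 n10147 = n12943 := rfl
theorem F21915 : act 0 n12943 = n12942 := d2_1 D12943 F21914 (iv F16888)
theorem F21916 : act 1 n12943 = n10301 := d6_1 D12943 F17226 (iv F16889)
theorem F21917 : act 5 n12943 = n10148 := d13_2 (iv F16891) D12943 (iv D10148)
def n12944 : Q := act 2 n10148
theorem D12944 : act 2 n10148 = n12944 := rfl
theorem F21918 : act 0 n12944 = n12941 := d1_1 D12944 (iv D12941) (iv F16892)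
theorem F21919 : act 4 n12944 = n10149 := d10_2 (iv F16894) D12944 (iv D10149)
def n12945 : Q := act 1 n10149
theorem D12945 : act 1 n10149 = n12945 := rfl
theorem F21920 : act 2 n12945 = n10302 := d5_2 D10149 D12945 (iv D10302) (iv D7974) (iv F12910)
def n12946 : Q := act 1 n10150
theorem D12946 : act 1 n10150 = n12946 := rfl
theorem F21921 : act 2 n12946 = n10187 := d5_2 D10150 D12946 (iv D10187) (iv D7880) (iv F12912)
theorem F21922 : act 4 n12946 = n10295 := d7_2 (iv F16896) D12946 (iv D10295)
def n12947 : Q := act 3 n10150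
theorem D12947 : act 3 n10150 = n12947 := rfl
theorem F21923 : act 0 n12947 = n10153 := d2_1 D12947 (iv D10153) (iv F16895)
def n12948 : Q := act 5 n10150
theorem D12948 : act 5 n10150 = n12948 := rfl
theorem F21924 : act 0 n12948 = n10154 := d4_1 D12948 (iv D10154) (iv F16895)
theorem F21925 : act 2 n12948 = n10151 := d11_1 D12948 (iv D10151) D10150
theorem F21926 : act 4 n12948 = n11830 := d14_1 D12948 (iv D11830) (iv F17190) F17191 (iv F16896)
def n12949 : Q := act 0 n10152
theorem D12949 : act 0 n10152 = n12949 := rfl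
theorem F21927 : act 2 n12949 = n10155 := d1_2 (iv F16901) D12949 (iv D10155)
theorem F21928 : act 4 n12949 = n10306 := d3_2 (iv F16902) D12949 (iv D10306)
theorem F21929 : act 5 n12949 = n10183 := d4_2 F16903 D12949 F16987
def n12950 : Q := act 3 n10152
theorem D12950 : act 3 n10152 = n12950 := rfl
theorem F21930 : act 1 n12950 = n10153 := d6_1 D12950 (iv D10153) D10152
theorem F21931 : act 5 n12950 = n10185 := d13_2 F16903 D12950 (iv D10185)
def n12951 : Q := act 2 n10153
theorem D12951 : act 2 n10153 = n12951 := rfl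
def n12952 : Q := act 4 n10153
theorem D12952 : act 4 n10153 = n12952 := rfl
theorem F21932 : act 3 n12952 = n10309 := d12_1 D12952 (iv D10309) (iv D7977) (iv F12917) D10153
def n12953 : Q := act 5 n10153
theorem D12953 : act 5 n10153 = n12953 := rfl
theorem F21933 : act 1 n12953 = n10185 := d8_1 D12953 (iv F21931) F21930
theorem F21934 : act 3 n12953 = n10154 := d13_1 D12953 (iv D10154) D10153
def n12954 : Q := act 4 n10158
theorem D12954 : act 4 n10158 = n12954 := rfl
theorem F21935 : act 1 n12954 = n10170 := d7_1 D12954 (iv D10170) (iv F16920)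
theorem F21936 : act 2 n12954 = n12767 := d10_1 D12954 (iv D12767) (iv F16922)
def n12955 : Q := act 3 n10159
theorem D12955 : act 3 n10159 = n12955 := rfl
theorem F21937 : act 1 n12955 = n10171 := d6_1 D12955 (iv D10171) (iv F16923)
theorem F21938 : act 5 n12955 = n10613 := d13_2 (iv F16925) D12955 (iv D10613)
def n12956 : Q := act 4 n10160
theorem D12956 : act 4 n10160 = n12956 := rfl
theorem F21939 : act 0 n12956 = n12954 := d3_1 D12956 (iv D12954) (iv F16926)
theorem F21940 : act 1 n12956 = n12770 := d7_1 D12956 (iv D12770) (iv F16927)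
theorem F21941 : act 2 n12956 = n10161 := d10_1 D12956 (iv D10161) D10160
def n12957 : Q := act 5 n10161
theorem D12957 : act 5 n10161 = n12957 := rfl
theorem F21942 : act 3 n12957 = n10611 := d13_1 D12957 (iv D10611) (iv F16930)
def n12958 : Q := act 1 n10162
theorem D12958 : act 1 n10162 = n12958 := rfl
theorem F21943 : act 0 n12958 = n10448 := d0_1 D12958 F17470 F13415 (iv F12958) (iv F16931)
theorem F21944 : act 2 n12958 = n10435 := d5_2 D10162 D12958 (iv D10435) (iv D8083) (iv F12952)
theorem F21945 : act 5 n12958 = n10445 := d8_2 (iv F16932) D12958 F17466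
def n12959 : Q := act 3 n10162
theorem D12959 : act 3 n10162 = n12959 := rfl
theorem F21946 : act 0 n12959 = n10165 := d2_1 D12959 (iv D10165) (iv F16931)
theorem F21947 : act 2 n12959 = n10197 := d9_1 D12959 F17020 F13023 F9867 (iv F9820) F9821 (iv F10223) D8098 (iv F16997) (iv D10188) (iv D7880) (iv D6017) (iv F9815) D7857 D10162
theorem F21948 : act 5 n12959 = n10195 := d13_2 (iv F16932) D12959 F17018
def n12960 : Q := act 4 n10162
theorem D12960 : act 4 n10162 = n12960 := rfl
theorem F21949 : act 0 n12960 = n10166 := d3_1 D12960 (iv D10166) (iv F16931)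
theorem F21950 : act 2 n12960 = n10163 := d10_1 D12960 (iv D10163) D10162
theorem F21951 : act 5 n12960 = n11881 := d14_2 (iv F16932) D12960 (iv D11881) F17490 (iv D10456)
def n12961 : Q := act 2 n10165
theorem D12961 : act 2 n10165 = n12961 := rfl
theorem F21952 : act 0 n12961 = n10197 := d1_1 D12961 (iv F21947) F21946
theorem F21953 : act 3 n12961 = n10190 := d9_2 D10165 D12961 F17002 F13013 (iv F12956) F12957 (iv F13424) (iv F17018) (iv D10195) (iv D7885) (iv D6019) (iv D4526) (iv F7319) D5998 D7859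
theorem F21954 : act 5 n12961 = n10188 := d11_2 (iv F16943) D12961 F16997
def n12962 : Q := act 4 n10165
theorem D12962 : act 4 n10165 = n12962 := rfl
theorem F21955 : act 1 n12962 = n10463 := d7_1 D12962 (iv D10463) (iv F16942)
def n12963 : Q := act 3 n10166
theorem D12963 : act 3 n10166 = n12963 := rfl
theorem F21956 : act 1 n12963 = n10467 := d6_1 D12963 (iv D10467) (iv F16944)
theorem F21957 : act 5 n12963 = n11884 := d13_2 (iv F16946) D12963 (iv D11884)
def n12964 : Q := act 3 n10167
theorem D12964 : act 3 n10167 = n12964 := rfl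
theorem F21958 : act 0 n12964 = n10171 := d2_1 D12964 (iv D10171) (iv F16947)
theorem F21959 : act 4 n12964 = n10215 := d12_2 D10167 D12964 (iv D10215) (iv D7905) (iv F12968)
def n12965 : Q := act 5 n10167
theorem D12965 : act 5 n10167 = n12965 := rfl
theorem F21960 : act 0 n12965 = n10172 := d4_1 D12965 (iv D10172) (iv F16947)
theorem F21961 : act 2 n12965 = n10168 := d11_1 D12965 (iv D10168) (iv F16948)
theorem F21962 : act 4 n12965 = n10605 := d14_1 D12965 (iv D10605) F16693 F16692 D10167
def n12966 : Q := act 2 n10169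
theorem D12966 : act 2 n10169 = n12966 := rfl
theorem F21963 : act 0 n12966 = n10173 := d1_1 D12966 (iv D10173) (iv F16953)
theorem F21964 : act 3 n12966 = n11776 := d9_2 D10169 D12966 F19838 F15269 F11668 F9870 (iv F12964) F12965 (iv F15338) (iv F19810) (iv D11765) (iv D9152) F11663 (iv F9888) (iv F12971)
theorem F21965 : act 4 n12966 = n10614 := d10_2 (iv F16955) D12966 (iv D10614)
theorem F21966 : act 5 n12966 = n11775 := d11_2 (iv F16956) D12966 F19837
theorem F21967 : act 1 n12370 = n12966 := d8_3 F21966 F19835 D12370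
def n12967 : Q := act 3 n10170
theorem D12967 : act 3 n10170 = n12967 := rfl
theorem F21968 : act 0 n12967 = n10215 := d2_1 D12967 (iv D10215) (iv F16957)
theorem F21969 : act 4 n12967 = n10171 := d12_2 D10170 D12967 (iv D10171) (iv D7866) D7865
def n12968 : Q := act 5 n10170
theorem D12968 : act 5 n10170 = n12968 := rfl
theorem F21970 : act 0 n12968 = n10216 := d4_1 D12968 (iv D10216) (iv F16957)
theorem F21971 : act 2 n12968 = n10214 := d11_1 D12968 (iv D10214) (iv F16958)
def n12969 : Q := act 2 n10171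
theorem D12969 : act 2 n10171 = n12969 := rfl
def n12970 : Q := act 5 n10171
theorem D12970 : act 5 n10171 = n12970 := rfl
theorem F21972 : act 1 n12970 = n10613 := d8_1 D12970 (iv F21938) F21937
theorem F21973 : act 3 n12970 = n10172 := d13_1 D12970 (iv D10172) D10171
def n12971 : Q := act 3 n10173
theorem D12971 : act 3 n10173 = n12971 := rfl
theorem F21974 : act 0 n12971 = n11776 := d2_1 D12971 (iv F21964) F21963
theorem F21975 : act 1 n12971 = n11826 := d6_1 D12971 (iv D11826) (iv F16962)
theorem F21976 : act 2 n12971 = n11766 := d9_1 D12971 F19815 F15260 F13017 (iv F16939) F16940 (iv F19837) (iv D11775) (iv D9159) (iv D7033) F8808 (iv F7374) (iv F9835) D7868 D10173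
theorem F21977 : act 5 n12971 = n11765 := d13_2 (iv F16964) D12971 F19810
def n12972 : Q := act 2 n10174
theorem D12972 : act 2 n10174 = n12972 := rfl
theorem F21978 : act 0 n12972 = n10176 := d1_1 D12972 (iv D10176) (iv F16965)
theorem F21979 : act 4 n12972 = n11964 := d10_2 (iv F16967) D12972 (iv D11964)
def n12973 : Q := act 5 n10174
theorem D12973 : act 5 n10174 = n12973 := rfl
theorem F21980 : act 0 n12973 = n10178 := d4_1 D12973 (iv D10178) (iv F16965)
theorem F21981 : act 1 n12973 = n10374 := d8_1 D12973 (iv D10374) (iv F16966)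
theorem F21982 : act 3 n12973 = n10175 := d13_1 D12973 (iv D10175) D10174
def n12974 : Q := act 1 n10176
theorem D12974 : act 1 n10176 = n12974 := rfl
theorem F21983 : act 2 n12974 = n10178 := d5_2 D10176 D12974 F16975 (iv D7872) (iv F12984)
theorem F21984 : act 5 n10176 = n12974 := d11_0 F21983 (iv D10178) D10176
def n12975 : Q := act 3 n10176
theorem D12975 : act 3 n10176 = n12975 := rfl
def n12976 : Q := act 4 n10176
theorem D12976 : act 4 n10176 = n12976 := rfl
theorem F21985 : act 0 n12976 = n11964 := d3_1 D12976 (iv F21979) F21978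
theorem F21986 : act 2 n12976 = n10177 := d10_1 D12976 (iv D10177) D10176
def n12977 : Q := act 5 n10177
theorem D12977 : act 5 n10177 = n12977 := rfl
theorem F21987 : act 0 n12977 = n11965 := d4_1 D12977 (iv D11965) (iv F16972)
theorem F21988 : act 1 n12977 = n10181 := d8_1 D12977 (iv D10181) (iv F16973)
theorem F21989 : act 3 n12977 = n10370 := d13_1 D12977 (iv D10370) (iv F16974)
def n12978 : Q := act 4 n10178
theorem D12978 : act 4 n10178 = n12978 := rfl
theorem F21990 : act 1 n12978 = n10180 := d7_1 D12978 (iv D10180) (iv F16975)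
def n12979 : Q := act 3 n10179
theorem D12979 : act 3 n10179 = n12979 := rfl
theorem F21991 : act 0 n12979 = n10572 := d2_1 D12979 F17693 (iv F16977)
theorem F21992 : act 1 n12979 = n10182 := d6_1 D12979 (iv D10182) (iv F16978)
theorem F21993 : act 5 n12979 = n10371 := d13_2 (iv F16980) D12979 (iv D10371)
def n12980 : Q := act 3 n10180
theorem D12980 : act 3 n10180 = n12980 := rfl
theorem F21994 : act 0 n12980 = n10380 := d2_1 D12980 (iv D10380) (iv F16981)
theorem F21995 : act 4 n12980 = n10182 := d12_2 D10180 D12980 (iv D10182) (iv D7874) (iv F12988)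
theorem F21996 : act 5 n11137 = n12980 := d14_0 F21995 F16986 F13306 D8647 D11137
def n12981 : Q := act 5 n10180
theorem D12981 : act 5 n10180 = n12981 := rfl
theorem F21997 : act 0 n12981 = n10381 := d4_1 D12981 (iv D10381) (iv F16981)
theorem F21998 : act 2 n12981 = n10181 := d11_1 D12981 (iv D10181) (iv F16982)
theorem F21999 : act 3 n12981 = n11137 := d13_1 D12981 F21996 (iv D12980)
theorem F22000 : act 4 n12981 = n10181 := d14_1 D12981 (iv D10181) (iv D7873) F12989 D10180
def n12982 : Q := act 2 n10182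
theorem D12982 : act 2 n10182 = n12982 := rfl
theorem F22001 : act 0 n12982 = n10382 := d1_1 D12982 (iv D10382) (iv F16985)
theorem F22002 : act 3 n12982 = n10372 := d9_2 D10182 D12982 (iv D10372) (iv D8032) F10110 F7539 (iv F7560) D6155 D8047 (iv F17353) (iv D10382) (iv D8040) F10121 (iv F9851) (iv F12993)
theorem F22003 : act 5 n12982 = n10372 := d11_2 (iv F16986) D12982 (iv D10372)
def n12983 : Q := act 1 n10183
theorem D12983 : act 1 n10183 = n12983 := rfl
theorem F22004 : act 2 n12983 = n10403 := d5_2 D10183 D12983 (iv D10403) (iv D8059) (iv F12996)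
theorem F22005 : act 4 n12983 = n12055 := d7_2 (iv F16988) D12983 (iv D12055)
def n12984 : Q := act 3 n10183
theorem D12984 : act 3 n10183 = n12984 := rfl
theorem F22006 : act 0 n12984 = n10185 := d2_1 D12984 (iv D10185) (iv F16987)
def n12985 : Q := act 3 n10184
theorem D12985 : act 3 n10184 = n12985 := rfl
theorem F22007 : act 0 n12985 = n10186 := d2_1 D12985 (iv D10186) (iv F16989)
theorem F22008 : act 1 n12985 = n10407 := d6_1 D12985 (iv D10407) (iv F16990)
theorem F22009 : act 4 n12985 = n10310 := d12_2 D10184 D12985 (iv D10310) (iv F16909) F16908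
theorem F22010 : act 5 n12985 = n10399 := d13_2 (iv F16992) D12985 (iv D10399)
def n12986 : Q := act 2 n10185
theorem D12986 : act 2 n10185 = n12986 := rfl
def n12987 : Q := act 4 n10185
theorem D12987 : act 4 n10185 = n12987 := rfl
theorem F22011 : act 3 n12987 = n12058 := d12_1 D12987 (iv D12058) (iv D9403) (iv F13000) D10185
def n12988 : Q := act 2 n10186
theorem D12988 : act 2 n10186 = n12988 := rfl
theorem F22012 : act 1 n12988 = n10488 := d5_1 D12988 (iv D10488) F13464 (iv F13004) (iv F16993)
theorem F22013 : act 4 n12988 = n10311 := d10_2 (iv F16994) D12988 (iv D10311)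
theorem F22014 : act 5 n12988 = n10400 := d11_2 (iv F16995) D12988 (iv D10400)
def n12989 : Q := act 0 n10187
theorem D12989 : act 0 n10187 = n12989 := rfl
theorem F22015 : act 1 n12989 = n10192 := d0_2 D10187 D12989 (iv D10192) (iv D7884) (iv F13007)
theorem F22016 : act 3 n10459 = n12989 := d6_0 F22015 (iv F17009) D10459
theorem F22017 : act 5 n10403 = n12989 := d8_0 F22015 F17008 D10403
def n12990 : Q := act 3 n10187
theorem D12990 : act 3 n10187 = n12990 := rfl
theorem F22018 : act 0 n12990 = n10459 := d2_1 D12990 F22016 (iv D12989)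
theorem F22019 : act 1 n12990 = n10188 := d6_1 D12990 (iv D10188) D10187
theorem F22020 : act 2 n10459 = n12990 := d5_0 F22019 F16997 F13425 D8100 D10459
def n12991 : Q := act 4 n10187
theorem D12991 : act 4 n10187 = n12991 := rfl
theorem F22021 : act 1 n12991 = n10189 := d7_1 D12991 (iv D10189) D10187
theorem F22022 : act 2 n12991 = n10295 := d10_1 D12991 (iv F21922) F21921
theorem F22023 : act 5 n11767 = n12991 := d8_0 F22021 (iv F17000) D11767
def n12992 : Q := act 5 n10187
theorem D12992 : act 5 n10187 = n12992 := rfl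
theorem F22024 : act 0 n12992 = n10403 := d4_1 D12992 F22017 (iv D12989)
theorem F22025 : act 1 n12992 = n10190 := d8_1 D12992 (iv D10190) D10187
def n12993 : Q := act 4 n10188
theorem D12993 : act 4 n10188 = n12993 := rfl
theorem F22026 : act 0 n12993 = n10196 := d3_1 D12993 (iv D10196) (iv F16996)
theorem F22027 : act 2 n12993 = n10457 := d10_1 D12993 (iv D10457) (iv F16997)
def n12994 : Q := act 3 n10189
theorem D12994 : act 3 n10189 = n12994 := rfl
theorem F22028 : act 0 n12994 = n10198 := d2_1 D12994 (iv D10198) (iv F16998)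
theorem F22029 : act 5 n12994 = n11768 := d13_2 F17000 D12994 (iv D11768)
theorem F22030 : act 2 n12994 = n11758 := d15_2 (iv F16999) D12994 (iv D11758) (iv D9147) (iv D7024) F8799 D5347 F9865 (iv F13008)
def n12995 : Q := act 4 n10190
theorem D12995 : act 4 n10190 = n12995 := rfl
theorem F22031 : act 0 n12995 = n10199 := d3_1 D12995 (iv D10199) (iv F17001)
theorem F22032 : act 2 n12995 = n10191 := d10_1 D12995 (iv D10191) (iv F17002)
theorem F22033 : act 5 n12995 = n11741 := d14_2 D10190 D12995 F19769 F17000 (iv D10189)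
def n12996 : Q := act 4 n10192
theorem D12996 : act 4 n10192 = n12996 := rfl
theorem F22034 : act 0 n12996 = n10194 := d3_1 D12996 (iv D10194) D10192
theorem F22035 : act 2 n12996 = n10200 := d10_1 D12996 (iv D10200) (iv F17007)
theorem F22036 : act 5 n11778 = n12996 := d11_0 F22035 (iv F17027) (iv F19839)
def n12997 : Q := act 4 n10193
theorem D12997 : act 4 n10193 = n12997 := rfl
theorem F22037 : act 0 n12997 = n10460 := d3_1 D12997 (iv D10460) (iv F17010)
theorem F22038 : act 1 n12997 = n10196 := d7_1 D12997 (iv D10196) (iv F17011)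
theorem F22039 : act 2 n12997 = n10449 := d10_1 D12997 (iv D10449) (iv F17013)
def n12998 : Q := act 3 n10194
theorem D12998 : act 3 n10194 = n12998 := rfl
theorem F22040 : act 1 n12998 = n10198 := d6_1 D12998 (iv D10198) (iv F17014)
theorem F22041 : act 5 n12998 = n11779 := d13_2 F17016 D12998 (iv D11779)
def n12999 : Q := act 1 n10195
theorem D12999 : act 1 n10195 = n12999 := rfl
theorem F22042 : act 0 n12999 = n10446 := d0_1 D12999 F17467 F13412 (iv F13425) (iv F17017)
theorem F22043 : act 2 n12999 = n10446 := d5_2 D10195 D12999 F17467 (iv F17013) F17011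
theorem F22044 : act 3 n12999 = n10445 := d6_2 (iv F17018) D12999 F17466
def n13000 : Q := act 4 n10195
theorem D13000 : act 4 n10195 = n13000 := rfl
theorem F22045 : act 0 n13000 = n10457 := d3_1 D13000 (iv D10457) (iv F17017)
theorem F22046 : act 2 n13000 = n10196 := d10_1 D13000 (iv D10196) D10195
def n13001 : Q := act 3 n10196
theorem D13001 : act 3 n10196 = n13001 := rfl
theorem F22047 : act 4 n13001 = n10198 := d12_2 D10196 D13001 (iv D10198) (iv D7886) D7885
def n13002 : Q := act 5 n10196
theorem D13002 : act 5 n10196 = n13002 := rfl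
def n13003 : Q := act 4 n10197
theorem D13003 : act 4 n10197 = n13003 := rfl
theorem F22048 : act 1 n13003 = n10409 := d7_1 D13003 (iv D10409) (iv F17019)
def n13004 : Q := act 2 n10198
theorem D13004 : act 2 n10198 = n13004 := rfl
theorem F22049 : act 0 n13004 = n11758 := d1_1 D13004 (iv F22030) F22028
theorem F22050 : act 5 n13004 = n11780 := d11_2 (iv F17021) D13004 (iv D11780)
theorem F22051 : act 3 n13004 = n11755 := d15_1 D13004 (iv D11755) (iv D9144) F11649 D7030 D9154 D11768 (iv F22029) F22028
def n13005 : Q := act 3 n10199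
theorem D13005 : act 3 n10199 = n13005 := rfl
theorem F22052 : act 1 n13005 = n10410 := d6_1 D13005 (iv D10410) (iv F17022)
theorem F22053 : act 5 n13005 = n11742 := d13_2 (iv F17024) D13005 (iv D11742)
def n13006 : Q := act 3 n10200
theorem D13006 : act 3 n10200 = n13006 := rfl
theorem F22054 : act 0 n13006 = n10201 := d2_1 D13006 (iv D10201) (iv F17025)
theorem F22055 : act 1 n13006 = n10310 := d6_1 D13006 (iv D10310) (iv F17026)
theorem F22056 : act 4 n13006 = n10407 := d12_2 D10200 D13006 (iv D10407) (iv D8061) (iv F13027)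
theorem F22057 : act 5 n13006 = n10274 := d13_2 F17027 D13006 F17178
def n13007 : Q := act 2 n10201
theorem D13007 : act 2 n10201 = n13007 := rfl
theorem F22058 : act 1 n13007 = n10263 := d5_1 D13007 (iv D10263) F13160 (iv F13034) (iv F17028)
theorem F22059 : act 4 n13007 = n10412 := d10_2 (iv F17029) D13007 (iv D10412)
theorem F22060 : act 5 n13007 = n10272 := d11_2 (iv F17030) D13007 F17177
def n13008 : Q := act 2 n10202
theorem D13008 : act 2 n10202 = n13008 := rfl
theorem F22061 : act 0 n13008 = n10203 := d1_1 D13008 (iv D10203) (iv F17031)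
theorem F22062 : act 3 n13008 = n11780 := d9_2 D10202 D13008 (iv D11780) (iv D9162) (iv D7035) (iv D5347) (iv F8799) D7024 D9147 D11758 (iv F22030) (iv D12994) F16999 F13010 (iv F13037)
theorem F22063 : act 5 n13008 = n11755 := d11_2 (iv F17033) D13008 (iv D11755)
def n13009 : Q := act 1 n10203
theorem D13009 : act 1 n10203 = n13009 := rfl
theorem F22064 : act 2 n13009 = n10217 := d5_2 D10203 D13009 (iv D10217) (iv D7907) (iv F13039)
theorem F22065 : act 5 n13009 = n11757 := d8_2 (iv F17034) D13009 (iv D11757)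
def n13010 : Q := act 3 n10203
theorem D13010 : act 3 n10203 = n13010 := rfl
theorem F22066 : act 0 n13010 = n11780 := d2_1 D13010 (iv F22062) F22061
theorem F22067 : act 2 n13010 = n11768 := d9_1 D13010 (iv D11768) (iv D9154) (iv D7030) (iv F11649) D9144 D11755 (iv F22051) (iv D13004) (iv D10198) F13020 F9864 (iv F9890) D7893 D10203
theorem F22068 : act 5 n13010 = n11758 := d13_2 (iv F17034) D13010 (iv D11758)
def n13011 : Q := act 3 n10204
theorem D13011 : act 3 n10204 = n13011 := rfl
theorem F22069 : act 0 n13011 = n10205 := d2_1 D13011 (iv D10205) (iv F17035)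
theorem F22070 : act 5 n13011 = n12050 := d13_2 F17037 D13011 (iv D12050)
theorem F22071 : act 2 n13011 = n12041 := d15_2 (iv F17036) D13011 (iv D12041) (iv D9388) (iv D7228) F9078 D5510 F9905 (iv F13050)
def n13012 : Q := act 2 n10205
theorem D13012 : act 2 n10205 = n13012 := rfl
theorem F22072 : act 0 n13012 = n12041 := d1_1 D13012 (iv F22071) F22069
theorem F22073 : act 5 n13012 = n12052 := d11_2 (iv F17039) D13012 (iv D12052)
theorem F22074 : act 3 n13012 = n12036 := d15_1 D13012 (iv D12036) (iv D9386) F11988 D7234 D9397 D12050 (iv F22070) F22069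
def n13013 : Q := act 1 n10206
theorem D13013 : act 1 n10206 = n13013 := rfl
def n13014 : Q := act 3 n10206
theorem D13014 : act 3 n10206 = n13014 := rfl
theorem F22075 : act 0 n13014 = n10212 := d2_1 D13014 (iv F17269) F17267
theorem F22076 : act 2 n13014 = n10209 := d9_1 D13014 F17046 F13059 (iv F13043) (iv F13246) (iv F17273) F17272 (iv D10211) (iv D7902) (iv D6039) F7393 (iv F7378) (iv F9900) D7897 D10206
theorem F22077 : act 5 n13014 = n10208 := d15_8 (iv D7902) (iv D6039) F7393 (iv F7378) (iv F9900) D7897 D10206 D13014 F17042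
def n13015 : Q := act 5 n10206
theorem D13015 : act 5 n10206 = n13015 := rfl
theorem F22078 : act 0 n13015 = n10211 := d4_1 D13015 F17270 F17267
theorem F22079 : act 2 n13015 = n10207 := d11_1 D13015 (iv D10207) D10206
theorem F22080 : act 3 n13015 = n10208 := d13_1 D13015 (iv F22077) (iv D13014)
def n13016 : Q := act 4 n10207
theorem D13016 : act 4 n10207 = n13016 := rfl
theorem F22081 : act 1 n13016 = n12053 := d7_1 D13016 (iv D12053) (iv F17040)
def n13017 : Q := act 1 n10208
theorem D13017 : act 1 n10208 = n13017 := rfl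
theorem F22082 : act 2 n13017 = n10517 := d5_2 D10208 D13017 (iv D10517) (iv D8149) (iv F13055)
theorem F22083 : act 4 n13017 = n10210 := d7_2 (iv F17043) D13017 (iv D10210)
def n13018 : Q := act 4 n10209
theorem D13018 : act 4 n10209 = n13018 := rfl
theorem F22084 : act 0 n13018 = n10213 := d3_1 D13018 (iv D10213) (iv F17044)
theorem F22085 : act 1 n13018 = n10520 := d7_1 D13018 (iv D10520) (iv F17045)
theorem F22086 : act 3 n13018 = n10347 := d12_1 D13018 (iv D10347) F13268 (iv F13060) (iv F17046)
theorem F22087 : act 5 n13018 = n10213 := d14_2 D10209 D13018 (iv D10213) (iv D7903) (iv F13056)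
def n13019 : Q := act 0 n10210
theorem D13019 : act 0 n10210 = n13019 := rfl
theorem F22088 : act 2 n13019 = n10521 := d1_2 (iv F17047) D13019 (iv D10521)
def n13020 : Q := act 3 n10210
theorem D13020 : act 3 n10210 = n13020 := rfl
theorem F22089 : act 1 n13020 = n10211 := d6_1 D13020 (iv D10211) D10210
def n13021 : Q := act 5 n10210
theorem D13021 : act 5 n10210 = n13021 := rfl
theorem F22090 : act 1 n13021 = n10212 := d8_1 D13021 (iv D10212) D10210
theorem F22091 : act 2 n13021 = n10523 := d11_1 D13021 (iv D10523) (iv F17047)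
def n13022 : Q := act 4 n10211
theorem D13022 : act 4 n10211 = n13022 := rfl
def n13023 : Q := act 4 n10212
theorem D13023 : act 4 n10212 = n13023 := rfl
theorem F22092 : act 2 n13023 = n10213 := d10_1 D13023 (iv D10213) (iv F17048)
def n13024 : Q := act 2 n10215
theorem D13024 : act 2 n10215 = n13024 := rfl
def n13025 : Q := act 5 n10215
theorem D13025 : act 5 n10215 = n13025 := rfl
theorem F22093 : act 3 n13025 = n10216 := d13_1 D13025 (iv D10216) D10215
def n13026 : Q := act 0 n10217
theorem D13026 : act 0 n10217 = n13026 := rfl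
theorem F22094 : act 1 n13026 = n12791 := d0_2 D10217 D13026 (iv D12791) (iv D10017) (iv F13069)
theorem F22095 : act 3 n13026 = n11759 := d2_2 (iv F17055) D13026 (iv D11759)
theorem F22096 : act 5 n13026 = n11759 := d4_2 (iv F17056) D13026 (iv D11759)
def n13027 : Q := act 2 n10218
theorem D13027 : act 2 n10218 = n13027 := rfl
theorem F22097 : act 0 n13027 = n10219 := d1_1 D13027 (iv D10219) (iv F17057)
theorem F22098 : act 4 n13027 = n10337 := d10_2 (iv F17059) D13027 (iv D10337)
theorem F22099 : act 5 n13027 = n10531 := d11_2 (iv F17060) D13027 (iv D10531)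
theorem F22100 : act 3 n13027 = n12808 := d15_1 D13027 (iv D12808) (iv D10029) (iv D7737) (iv D5896) (iv F7684) D6255 (iv F13078) (iv F17057)
def n13028 : Q := act 1 n10219
theorem D13028 : act 1 n10219 = n13028 := rfl
theorem F22101 : act 2 n13028 = n10220 := d5_2 D10219 D13028 (iv D10220) (iv D7910) (iv F13076)
theorem F22102 : act 4 n13028 = n10339 := d7_2 (iv F17061) D13028 (iv D10339)
theorem F22103 : act 5 n13028 = n10311 := d8_2 (iv F17062) D13028 F17231
def n13029 : Q := act 3 n10219
theorem D13029 : act 3 n10219 = n13029 := rfl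
theorem F22104 : act 0 n13029 = n12808 := d2_1 D13029 (iv F22100) F22097
theorem F22105 : act 5 n13029 = n10538 := d13_2 (iv F17062) D13029 (iv D10538)
theorem F22106 : act 2 n13029 = n12798 := d15_2 D10219 D13029 (iv D12798) (iv D10022) (iv D7732) (iv F10317) D8159 (iv F17060) F17057
def n13030 : Q := act 0 n10220
theorem D13030 : act 0 n10220 = n13030 := rfl
theorem F22107 : act 1 n13030 = n10274 := d0_2 D10220 D13030 (iv D10274) (iv D7952) (iv F13079)
theorem F22108 : act 3 n13030 = n10287 := d2_2 (iv F17063) D13030 (iv D10287)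
theorem F22109 : act 4 n13030 = n10343 := d3_2 (iv F17064) D13030 (iv D10343)
theorem F22110 : act 5 n13030 = n10310 := d4_2 (iv F17065) D13030 F17230
def n13031 : Q := act 4 n10221
theorem D13031 : act 4 n10221 = n13031 := rfl
theorem F22111 : act 0 n13031 = n10312 := d3_1 D13031 (iv D10312) (iv F17066)
theorem F22112 : act 1 n13031 = n10223 := d7_1 D13031 (iv D10223) D10221
theorem F22113 : act 2 n13031 = n10264 := d10_1 D13031 (iv D10264) (iv F17067)
def n13032 : Q := act 4 n10222
theorem D13032 : act 4 n10222 = n13032 := rfl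
theorem F22114 : act 0 n13032 = n10226 := d3_1 D13032 (iv D10226) (iv F17070)
theorem F22115 : act 1 n13032 = n10366 := d7_1 D13032 (iv D10366) (iv F17071)
theorem F22116 : act 2 n13032 = n12779 := d10_1 D13032 (iv D12779) (iv F17072)
def n13033 : Q := act 3 n10223
theorem D13033 : act 3 n10223 = n13033 := rfl
theorem F22117 : act 0 n13033 = n10227 := d2_1 D13033 (iv D10227) (iv F17074)
def n13034 : Q := act 5 n10223
theorem D13034 : act 5 n10223 = n13034 := rfl
theorem F22118 : act 0 n13034 = n10228 := d4_1 D13034 (iv D10228) (iv F17074)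
theorem F22119 : act 2 n13034 = n10224 := d11_1 D13034 (iv D10224) (iv F17075)
theorem F22120 : act 4 n13034 = n10326 := d14_1 D13034 (iv D10326) (iv D7991) (iv F13084) D10223
def n13035 : Q := act 4 n10225
theorem D13035 : act 4 n10225 = n13035 := rfl
theorem F22121 : act 0 n13035 = n12779 := d3_1 D13035 (iv D12779) (iv F17080)
theorem F22122 : act 1 n13035 = n10365 := d7_1 D13035 (iv D10365) (iv F17081)
theorem F22123 : act 2 n13035 = n10226 := d10_1 D13035 (iv D10226) D10225
def n13036 : Q := act 3 n10226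
theorem D13036 : act 3 n10226 = n13036 := rfl
theorem F22124 : act 1 n13036 = n10315 := d6_1 D13036 (iv D10315) (iv F17084)
theorem F22125 : act 4 n13036 = n10227 := d12_2 D10226 D13036 (iv D10227) (iv D7914) D7913
def n13037 : Q := act 5 n10226
theorem D13037 : act 5 n10226 = n13037 := rfl
theorem F22126 : act 1 n13037 = n10316 := d8_1 D13037 (iv D10316) (iv F17084)
theorem F22127 : act 4 n13037 = n10328 := d14_1 D13037 (iv D10328) (iv D7993) (iv F13089) D10226
def n13038 : Q := act 2 n10227
theorem D13038 : act 2 n10227 = n13038 := rfl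
def n13039 : Q := act 5 n10227
theorem D13039 : act 5 n10227 = n13039 := rfl
theorem F22128 : act 1 n13039 = n10318 := d8_1 D13039 (iv D10318) (iv F17085)
theorem F22129 : act 3 n13039 = n10228 := d13_1 D13039 (iv D10228) D10227
def n13040 : Q := act 4 n10229
theorem D13040 : act 4 n10229 = n13040 := rfl
theorem F22130 : act 0 n13040 = n10264 := d3_1 D13040 (iv D10264) (iv F17089)
theorem F22131 : act 1 n13040 = n10230 := d7_1 D13040 (iv D10230) D10229
theorem F22132 : act 2 n13040 = n10312 := d10_1 D13040 (iv D10312) (iv F17090)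
def n13041 : Q := act 3 n10230
theorem D13041 : act 3 n10230 = n13041 := rfl
theorem F22133 : act 0 n13041 = n10233 := d2_1 D13041 (iv D10233) (iv F17092)
def n13042 : Q := act 5 n10230
theorem D13042 : act 5 n10230 = n13042 := rfl
theorem F22134 : act 0 n13042 = n10234 := d4_1 D13042 (iv D10234) (iv F17092)
theorem F22135 : act 2 n13042 = n10231 := d11_1 D13042 (iv D10231) (iv F17093)
theorem F22136 : act 4 n13042 = n10240 := d14_1 D13042 (iv D10240) (iv D7923) (iv F13096) D10230
def n13043 : Q := act 3 n10232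
theorem D13043 : act 3 n10232 = n13043 := rfl
theorem F22137 : act 1 n13043 = n10268 := d6_1 D13043 (iv D10268) (iv F17098)
theorem F22138 : act 4 n13043 = n10233 := d12_2 D10232 D13043 (iv D10233) (iv D7919) D7918
def n13044 : Q := act 5 n10232
theorem D13044 : act 5 n10232 = n13044 := rfl
theorem F22139 : act 1 n13044 = n10269 := d8_1 D13044 (iv D10269) (iv F17098)
theorem F22140 : act 4 n13044 = n10248 := d14_1 D13044 (iv D10248) (iv D7929) (iv F13100) D10232
def n13045 : Q := act 2 n10233
theorem D13045 : act 2 n10233 = n13045 := rfl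
def n13046 : Q := act 5 n10233
theorem D13046 : act 5 n10233 = n13046 := rfl
theorem F22141 : act 1 n13046 = n10271 := d8_1 D13046 (iv D10271) (iv F17099)
theorem F22142 : act 3 n13046 = n10234 := d13_1 D13046 (iv D10234) D10233
def n13047 : Q := act 4 n10235
theorem D13047 : act 4 n10235 = n13047 := rfl
theorem F22143 : act 0 n13047 = n10237 := d3_1 D13047 (iv D10237) D10235
theorem F22144 : act 1 n13047 = n10241 := d7_1 D13047 (iv D10241) (iv F17103)
theorem F22145 : act 2 n13047 = n10319 := d10_1 D13047 (iv D10319) (iv F17104)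
def n13048 : Q := act 4 n10236
theorem D13048 : act 4 n10236 = n13048 := rfl
theorem F22146 : act 0 n13048 = n10297 := d3_1 D13048 (iv D10297) (iv F17107)
theorem F22147 : act 1 n13048 = n10238 := d7_1 D13048 (iv D10238) (iv F17108)
theorem F22148 : act 2 n13048 = n12920 := d10_1 D13048 (iv D12920) (iv F17109)
def n13049 : Q := act 3 n10237
theorem D13049 : act 3 n10237 = n13049 := rfl
theorem F22149 : act 1 n13049 = n10239 := d6_1 D13049 (iv D10239) (iv F17110)
def n13050 : Q := act 5 n10237
theorem D13050 : act 5 n10237 = n13050 := rfl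
theorem F22150 : act 1 n13050 = n10240 := d8_1 D13050 (iv D10240) (iv F17110)
theorem F22151 : act 2 n13050 = n10321 := d11_1 D13050 (iv D10321) (iv F17111)
def n13051 : Q := act 3 n10238
theorem D13051 : act 3 n10238 = n13051 := rfl
theorem F22152 : act 0 n13051 = n10247 := d2_1 D13051 (iv D10247) (iv F17112)
theorem F22153 : act 4 n13051 = n10239 := d12_2 D10238 D13051 (iv D10239) (iv D7923) D7922
def n13052 : Q := act 5 n10238
theorem D13052 : act 5 n10238 = n13052 := rfl
theorem F22154 : act 0 n13052 = n10248 := d4_1 D13052 (iv D10248) (iv F17112)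
theorem F22155 : act 2 n13052 = n13044 := d11_1 D13052 (iv D13044) (iv F17113)
def n13053 : Q := act 3 n10241
theorem D13053 : act 3 n10241 = n13053 := rfl
theorem F22156 : act 0 n13053 = n10243 := d2_1 D13053 (iv D10243) (iv F17117)
theorem F22157 : act 4 n13053 = n10298 := d12_2 D10241 D13053 (iv D10298) (iv D7971) F13116
def n13054 : Q := act 5 n10241
theorem D13054 : act 5 n10241 = n13054 := rfl
theorem F22158 : act 0 n13054 = n10244 := d4_1 D13054 (iv D10244) (iv F17117)
theorem F22159 : act 2 n13054 = n10252 := d11_1 D13054 (iv D10252) (iv F17118)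
theorem F22160 : act 4 n13054 = n10266 := d14_1 D13054 (iv D10266) (iv D7945) (iv F13115) D10241
def n13055 : Q := act 3 n10242
theorem D13055 : act 3 n10242 = n13055 := rfl
theorem F22161 : act 0 n13055 = n10298 := d2_1 D13055 (iv D10298) (iv F17119)
theorem F22162 : act 1 n13055 = n10247 := d6_1 D13055 (iv D10247) (iv F17120)
theorem F22163 : act 4 n13055 = n10243 := d12_2 D10242 D13055 (iv D10243) (iv D7927) D7926
def n13056 : Q := act 5 n10242
theorem D13056 : act 5 n10242 = n13056 := rfl
theorem F22164 : act 0 n13056 = n10299 := d4_1 D13056 (iv D10299) (iv F17119)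
theorem F22165 : act 1 n13056 = n10248 := d8_1 D13056 (iv D10248) (iv F17120)
theorem F22166 : act 2 n13056 = n10292 := d11_1 D13056 (iv D10292) (iv F17121)
theorem F22167 : act 4 n13056 = n10269 := d14_1 D13056 (iv D10269) (iv D7948) (iv F13120) D10242
def n13057 : Q := act 2 n10243
theorem D13057 : act 2 n10243 = n13057 := rfl
def n13058 : Q := act 5 n10243
theorem D13058 : act 5 n10243 = n13058 := rfl
theorem F22168 : act 1 n13058 = n10250 := d8_1 D13058 (iv D10250) (iv F17122)
theorem F22169 : act 3 n13058 = n10244 := d13_1 D13058 (iv D10244) D10243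
def n13059 : Q := act 4 n10245
theorem D13059 : act 4 n10245 = n13059 := rfl
theorem F22170 : act 0 n13059 = n12936 := d3_1 D13059 (iv D12936) (iv F17126)
theorem F22171 : act 1 n13059 = n10246 := d7_1 D13059 (iv D10246) D10245
theorem F22172 : act 2 n13059 = n10288 := d10_1 D13059 (iv D10288) (iv F17127)
def n13060 : Q := act 3 n10246
theorem D13060 : act 3 n10246 = n13060 := rfl
theorem F22173 : act 0 n13060 = n13043 := d2_1 D13060 (iv D13043) (iv F17130)
theorem F22174 : act 4 n13060 = n13041 := d12_2 D10246 D13060 (iv D13041) (iv D10230) (iv F13125)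
def n13061 : Q := act 5 n10246
theorem D13061 : act 5 n10246 = n13061 := rfl
theorem F22175 : act 0 n13061 = n13044 := d4_1 D13061 (iv D13044) (iv F17130)
theorem F22176 : act 2 n13061 = n10248 := d11_1 D13061 (iv D10248) (iv F17131)
theorem F22177 : act 4 n13061 = n13052 := d14_1 D13061 (iv D13052) (iv D10238) (iv F13124) D10246
def n13062 : Q := act 2 n10247
theorem D13062 : act 2 n10247 = n13062 := rfl
theorem F22178 : act 4 n13062 = n10249 := d10_2 (iv F17132) D13062 (iv D10249)
def n13063 : Q := act 5 n10247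
theorem D13063 : act 5 n10247 = n13063 := rfl
theorem F22179 : act 3 n13063 = n10248 := d13_1 D13063 (iv D10248) D10247
def n13064 : Q := act 1 n10249
theorem D13064 : act 1 n10249 = n13064 := rfl
def n13065 : Q := act 4 n10250
theorem D13065 : act 4 n10250 = n13065 := rfl
def n13066 : Q := act 2 n10251
theorem D13066 : act 2 n10251 = n13066 := rfl
theorem F22180 : act 0 n13066 = n10253 := d1_1 D13066 (iv D10253) (iv F17134)
theorem F22181 : act 4 n13066 = n10267 := d10_2 (iv F17136) D13066 (iv D10267)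
def n13067 : Q := act 5 n10251
theorem D13067 : act 5 n10251 = n13067 := rfl
theorem F22182 : act 0 n13067 = n10254 := d4_1 D13067 (iv D10254) (iv F17134)
theorem F22183 : act 1 n13067 = n10338 := d8_1 D13067 (iv D10338) (iv F17135)
theorem F22184 : act 3 n13067 = n10252 := d13_1 D13067 (iv D10252) D10251
theorem F22185 : act 4 n13067 = n10422 := d14_1 D13067 F17435 (iv F17159) F17160 (iv F17136)
def n13068 : Q := act 1 n10253
theorem D13068 : act 1 n10253 = n13068 := rfl
theorem F22186 : act 2 n13068 = n10255 := d5_2 D10253 D13068 (iv D10255) (iv D7935) (iv F13129)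
theorem F22187 : act 4 n13068 = n10272 := d7_2 (iv F17140) D13068 (iv D10272)
theorem F22188 : act 5 n10364 = n13068 := d14_0 F22187 (iv F22060) F22059 F17418 (iv F17319)
def n13069 : Q := act 3 n10253
theorem D13069 : act 3 n10253 = n13069 := rfl
def n13070 : Q := act 5 n10253
theorem D13070 : act 5 n10253 = n13070 := rfl
theorem F22189 : act 1 n13070 = n10364 := d8_1 D13070 F22188 (iv D13068)
theorem F22190 : act 2 n13070 = n10254 := d11_1 D13070 (iv D10254) D10253
theorem F22191 : act 4 n13070 = n10420 := d14_1 D13070 F17433 (iv F17168) F17169 (iv F17140)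
def n13071 : Q := act 0 n10255
theorem D13071 : act 0 n10255 = n13071 := rfl
theorem F22192 : act 1 n13071 = n10343 := d0_2 D10255 D13071 (iv D10343) (iv D8004) (iv F13133)
theorem F22193 : act 3 n13071 = n10363 := d2_2 (iv F17144) D13071 F17316
theorem F22194 : act 4 n13071 = n10274 := d3_2 (iv F17145) D13071 (iv D10274)
theorem F22195 : act 5 n13071 = n10362 := d4_2 (iv F17146) D13071 F17313
def n13072 : Q := act 4 n10256
theorem D13072 : act 4 n10256 = n13072 := rfl
theorem F22196 : act 0 n13072 = n10542 := d3_1 D13072 (iv D10542) (iv F17147)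
theorem F22197 : act 1 n13072 = n10257 := d7_1 D13072 (iv D10257) D10256
theorem F22198 : act 2 n13072 = n10527 := d10_1 D13072 (iv D10527) (iv F17148)
def n13073 : Q := act 3 n10257
theorem D13073 : act 3 n10257 = n13073 := rfl
theorem F22199 : act 0 n13073 = n10261 := d2_1 D13073 (iv D10261) (iv F17151)
theorem F22200 : act 4 n13073 = n11802 := d12_2 D10257 D13073 (iv D11802) (iv D9181) (iv F13143)
def n13074 : Q := act 5 n10257
theorem D13074 : act 5 n10257 = n13074 := rfl
theorem F22201 : act 0 n13074 = n10262 := d4_1 D13074 (iv D10262) (iv F17151)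
theorem F22202 : act 2 n13074 = n10258 := d11_1 D13074 (iv D10258) (iv F17152)
theorem F22203 : act 4 n13074 = n10550 := d14_1 D13074 (iv D10550) (iv D8174) (iv F13142) D10257
def n13075 : Q := act 2 n10259
theorem D13075 : act 2 n10259 = n13075 := rfl
theorem F22204 : act 0 n13075 = n10263 := d1_1 D13075 (iv D10263) (iv F17157)
theorem F22205 : act 4 n13075 = n10567 := d10_2 (iv F17159) D13075 (iv D10567)
theorem F22206 : act 5 n13075 = n10267 := d11_2 (iv F17160) D13075 (iv D10267)
theorem F22207 : act 3 n13075 = n10308 := d15_1 D13075 (iv D10308) (iv D7977) (iv D6100) (iv D4593) (iv F7459) D6081 (iv F13162) (iv F17157)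
def n13076 : Q := act 3 n10260
theorem D13076 : act 3 n10260 = n13076 := rfl
theorem F22208 : act 0 n13076 = n11802 := d2_1 D13076 (iv D11802) (iv F17161)
theorem F22209 : act 1 n13076 = n10558 := d6_1 D13076 (iv D10558) (iv F17162)
theorem F22210 : act 4 n13076 = n10261 := d12_2 D10260 D13076 (iv D10261) (iv D7941) D7940
def n13077 : Q := act 5 n10260
theorem D13077 : act 5 n10260 = n13077 := rfl
theorem F22211 : act 0 n13077 = n11803 := d4_1 D13077 (iv D11803) (iv F17161)
theorem F22212 : act 1 n13077 = n10557 := d8_1 D13077 F17672 (iv F17162)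
theorem F22213 : act 2 n13077 = n11798 := d11_1 D13077 (iv D11798) (iv F17163)
theorem F22214 : act 4 n13077 = n10552 := d14_1 D13077 (iv D10552) (iv D8175) (iv F13153) D10260
def n13078 : Q := act 2 n10261
theorem D13078 : act 2 n10261 = n13078 := rfl
def n13079 : Q := act 5 n10261
theorem D13079 : act 5 n10261 = n13079 := rfl
theorem F22215 : act 1 n13079 = n10563 := d8_1 D13079 F17681 (iv F17164)
theorem F22216 : act 3 n13079 = n10262 := d13_1 D13079 (iv D10262) D10261
def n13080 : Q := act 3 n10263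
theorem D13080 : act 3 n10263 = n13080 := rfl
theorem F22217 : act 0 n13080 = n10308 := d2_1 D13080 (iv F22207) F22204
theorem F22218 : act 5 n13080 = n10273 := d13_2 (iv F17169) D13080 (iv D10273)
theorem F22219 : act 2 n13080 = n10296 := d15_2 D10263 D13080 (iv D10296) (iv D7969) (iv D6095) (iv F10000) D7947 (iv F17160) F17157
def n13081 : Q := act 3 n10264
theorem D13081 : act 3 n10264 = n13081 := rfl
theorem F22220 : act 1 n13081 = n10265 := d6_1 D13081 (iv D10265) (iv F17170)
def n13082 : Q := act 5 n10264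
theorem D13082 : act 5 n10264 = n13082 := rfl
theorem F22221 : act 1 n13082 = n10266 := d8_1 D13082 (iv D10266) (iv F17170)
def n13083 : Q := act 2 n10265
theorem D13083 : act 2 n10265 = n13083 := rfl
theorem F22222 : act 0 n13083 = n10270 := d1_1 D13083 (iv D10270) (iv F17171)
def n13084 : Q := act 5 n10265
theorem D13084 : act 5 n10265 = n13084 := rfl
theorem F22223 : act 0 n13084 = n10271 := d4_1 D13084 (iv D10271) (iv F17171)
theorem F22224 : act 3 n13084 = n10266 := d13_1 D13084 (iv D10266) D10265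
def n13085 : Q := act 1 n10267
theorem D13085 : act 1 n10267 = n13085 := rfl
def n13086 : Q := act 3 n10267
theorem D13086 : act 3 n10267 = n13086 := rfl
theorem F22225 : act 0 n13086 = n10273 := d2_1 D13086 (iv D10273) (iv F17174)
theorem F22226 : act 2 n13086 = n10286 := d9_1 D13086 (iv D10286) (iv D7962) (iv D6089) (iv F9988) D7943 D10263 D13080 F22219 (iv D10296) (iv D7969) (iv D6095) (iv F10000) D7947 D10267
theorem F22227 : act 5 n13086 = n10308 := d13_2 F22206 D13086 (iv F22207)
def n13087 : Q := act 2 n10268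
theorem D13087 : act 2 n10268 = n13087 := rfl
theorem F22228 : act 4 n13087 = n10270 := d10_2 (iv F17175) D13087 (iv D10270)
def n13088 : Q := act 5 n10268
theorem D13088 : act 5 n10268 = n13088 := rfl
theorem F22229 : act 3 n13088 = n10269 := d13_1 D13088 (iv D10269) D10268
def n13089 : Q := act 1 n10270
theorem D13089 : act 1 n10270 = n13089 := rfl
def n13090 : Q := act 3 n10270
theorem D13090 : act 3 n10270 = n13090 := rfl
def n13091 : Q := act 5 n10270
theorem D13091 : act 5 n10270 = n13091 := rfl
theorem F22230 : act 2 n13091 = n10271 := d11_1 D13091 (iv D10271) D10270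
def n13092 : Q := act 4 n10271
theorem D13092 : act 4 n10271 = n13092 := rfl
def n13093 : Q := act 0 n10272
theorem D13093 : act 0 n10272 = n13093 := rfl
theorem F22231 : act 2 n13093 = n10274 := d1_2 (iv F17177) D13093 (iv D10274)
def n13094 : Q := act 3 n10272
theorem D13094 : act 3 n10272 = n13094 := rfl
theorem F22232 : act 1 n13094 = n10273 := d6_1 D13094 (iv D10273) D10272
def n13095 : Q := act 2 n10273
theorem D13095 : act 2 n10273 = n13095 := rfl
theorem F22233 : act 0 n13095 = n10286 := d1_1 D13095 (iv F22226) F22225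
theorem F22234 : act 3 n13095 = n10279 := d9_2 D10273 D13095 (iv D10279) (iv D7957) (iv F13149) D10259 D13075 F22207 (iv D10308) (iv D7977) (iv D6100) (iv D4593) (iv F7459) D6081 D7951
theorem F22235 : act 5 n13095 = n10296 := d11_2 F22218 D13095 (iv F22219)
def n13096 : Q := act 4 n10273
theorem D13096 : act 4 n10273 = n13096 := rfl
def n13097 : Q := act 3 n10275
theorem D13097 : act 3 n10275 = n13097 := rfl
theorem F22236 : act 0 n13097 = n11790 := d2_1 D13097 (iv D11790) (iv F17179)
theorem F22237 : act 1 n13097 = n10277 := d6_1 D13097 (iv D10277) (iv F17180)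
theorem F22238 : act 4 n13097 = n11923 := d12_2 D10275 D13097 (iv D11923) (iv D9284) F13172
def n13098 : Q := act 5 n10275
theorem D13098 : act 5 n10275 = n13098 := rfl
theorem F22239 : act 0 n13098 = n11789 := d4_1 D13098 F19856 (iv F17179)
theorem F22240 : act 1 n13098 = n10278 := d8_1 D13098 (iv D10278) (iv F17180)
theorem F22241 : act 2 n13098 = n11762 := d11_1 D13098 (iv D11762) (iv F17181)
theorem F22242 : act 4 n13098 = n11784 := d14_1 D13098 (iv D11784) (iv D9165) (iv F13171) D10275
def n13099 : Q := act 3 n10276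
theorem D13099 : act 3 n10276 = n13099 := rfl
theorem F22243 : act 0 n13099 = n10281 := d2_1 D13099 (iv D10281) (iv F17182)
theorem F22244 : act 1 n13099 = n11923 := d6_1 D13099 (iv D11923) (iv F17183)
theorem F22245 : act 4 n13099 = n10277 := d12_2 D10276 D13099 (iv D10277) (iv D7955) D7954
def n13100 : Q := act 5 n10276
theorem D13100 : act 5 n10276 = n13100 := rfl
theorem F22246 : act 0 n13100 = n10282 := d4_1 D13100 (iv D10282) (iv F17182)
theorem F22247 : act 1 n13100 = n11924 := d8_1 D13100 (iv D11924) (iv F17183)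
theorem F22248 : act 2 n13100 = n10552 := d11_1 D13100 (iv D10552) (iv F17184)
theorem F22249 : act 4 n13100 = n11798 := d14_1 D13100 (iv D11798) (iv D9177) (iv F13176) D10276
def n13101 : Q := act 2 n10277
theorem D13101 : act 2 n10277 = n13101 := rfl
theorem F22250 : act 0 n13101 = n10283 := d1_1 D13101 (iv D10283) (iv F17185)
theorem F22251 : act 3 n13101 = n10304 := d15_1 D13101 F17227 F13211 F10031 (iv F10018) (iv F13194) (iv F17200) (iv D10284) (iv F17185)
theorem F22252 : act 5 n10303 = n13101 := d13_0 F22251 (iv D10304) D10303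
def n13102 : Q := act 5 n10277
theorem D13102 : act 5 n10277 = n13102 := rfl
theorem F22253 : act 0 n13102 = n10284 := d4_1 D13102 (iv D10284) (iv F17185)
theorem F22254 : act 2 n13102 = n10303 := d11_1 D13102 F22252 (iv D13101)
theorem F22255 : act 3 n13102 = n10278 := d13_1 D13102 (iv D10278) D10277
def n13103 : Q := act 1 n10279
theorem D13103 : act 1 n10279 = n13103 := rfl
theorem F22256 : act 2 n13103 = n11767 := d5_2 D10279 D13103 (iv D11767) (iv D9154) (iv F13184)
theorem F22257 : act 4 n13103 = n11828 := d7_2 (iv F17190) D13103 (iv D11828)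
theorem F22258 : act 5 n13103 = n10295 := d8_2 (iv F17191) D13103 (iv D10295)
def n13104 : Q := act 3 n10280
theorem D13104 : act 3 n10280 = n13104 := rfl
theorem F22259 : act 0 n13104 = n10551 := d2_1 D13104 (iv D10551) (iv F17192)
theorem F22260 : act 1 n13104 = n11913 := d6_1 D13104 (iv D11913) (iv F17193)
theorem F22261 : act 4 n13104 = n10549 := d12_2 D10280 D13104 (iv D10549) (iv D8174) (iv F13189)
def n13105 : Q := act 5 n10280
theorem D13105 : act 5 n10280 = n13105 := rfl
theorem F22262 : act 0 n13105 = n10552 := d4_1 D13105 (iv D10552) (iv F17192)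
theorem F22263 : act 1 n13105 = n11914 := d8_1 D13105 (iv D11914) (iv F17193)
theorem F22264 : act 2 n13105 = n10282 := d11_1 D13105 (iv D10282) (iv F17194)
theorem F22265 : act 4 n13105 = n11803 := d14_1 D13105 (iv D11803) (iv D9181) (iv F13190) D10280
def n13106 : Q := act 2 n10281
theorem D13106 : act 2 n10281 = n13106 := rfl
theorem F22266 : act 4 n13106 = n10283 := d10_2 (iv F17196) D13106 (iv D10283)
def n13107 : Q := act 5 n10281
theorem D13107 : act 5 n10281 = n13107 := rfl
theorem F22267 : act 1 n13107 = n11815 := d8_1 D13107 F19894 (iv F17195)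
theorem F22268 : act 3 n13107 = n10282 := d13_1 D13107 (iv D10282) D10281
def n13108 : Q := act 1 n10283
theorem D13108 : act 1 n10283 = n13108 := rfl
theorem F22269 : act 2 n13108 = n11824 := d5_2 D10283 D13108 (iv D11824) (iv D9197) (iv F13192)
def n13109 : Q := act 3 n10283
theorem D13109 : act 3 n10283 = n13109 := rfl
theorem F22270 : act 0 n13109 = n10304 := d2_1 D13109 (iv F22251) F22250
theorem F22271 : act 2 n13109 = n10294 := d9_1 D13109 F17220 F13206 (iv F13181) (iv F17187) (iv F22255) F22254 (iv D10303) (iv D7974) (iv D6098) F7482 (iv F7469) (iv F10016) D7960 D10283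
theorem F22272 : act 5 n13109 = n10293 := d15_8 (iv D7974) (iv D6098) F7482 (iv F7469) (iv F10016) D7960 D10283 D13109 F17218
def n13110 : Q := act 5 n10283
theorem D13110 : act 5 n10283 = n13110 := rfl
theorem F22273 : act 0 n13110 = n10303 := d4_1 D13110 F22252 F22250
theorem F22274 : act 2 n13110 = n10284 := d11_1 D13110 (iv D10284) D10283
theorem F22275 : act 3 n13110 = n10293 := d13_1 D13110 (iv F22272) (iv D13109)
def n13111 : Q := act 4 n10284
theorem D13111 : act 4 n10284 = n13111 := rfl
theorem F22276 : act 1 n13111 = n11822 := d7_1 D13111 F19907 (iv F17199)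
theorem F22277 : act 3 n13111 = n11809 := d12_1 D13111 (iv D11809) F15315 (iv F13195) (iv F17200)
def n13112 : Q := act 0 n10285
theorem D13112 : act 0 n10285 = n13112 := rfl
theorem F22278 : act 2 n13112 = n10287 := d1_2 (iv F17201) D13112 (iv D10287)
theorem F22279 : act 4 n13112 = n11831 := d3_2 (iv F17202) D13112 (iv D11831)
theorem F22280 : act 5 n13112 = n10306 := d4_2 (iv F17203) D13112 (iv D10306)
def n13113 : Q := act 3 n10285
theorem D13113 : act 3 n10285 = n13113 := rfl
theorem F22281 : act 1 n13113 = n10286 := d6_1 D13113 (iv D10286) D10285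
theorem F22282 : act 5 n13113 = n10307 := d13_2 (iv F17203) D13113 (iv D10307)
def n13114 : Q := act 4 n10286
theorem D13114 : act 4 n10286 = n13114 := rfl
theorem F22283 : act 3 n13114 = n11834 := d12_1 D13114 (iv D11834) (iv D9205) (iv F13196) D10286
def n13115 : Q := act 3 n10288
theorem D13115 : act 3 n10288 = n13115 := rfl
theorem F22284 : act 0 n13115 = n12939 := d2_1 D13115 (iv D12939) (iv F17208)
theorem F22285 : act 1 n13115 = n10291 := d6_1 D13115 (iv D10291) (iv F17209)
theorem F22286 : act 4 n13115 = n10289 := d12_2 D10288 D13115 (iv D10289) (iv D7965) D7964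
def n13116 : Q := act 5 n10288
theorem D13116 : act 5 n10288 = n13116 := rfl
theorem F22287 : act 0 n13116 = n12940 := d4_1 D13116 (iv D12940) (iv F17208)
theorem F22288 : act 1 n13116 = n10292 := d8_1 D13116 (iv D10292) (iv F17209)
def n13117 : Q := act 2 n10289
theorem D13117 : act 2 n10289 = n13117 := rfl
def n13118 : Q := act 5 n10289
theorem D13118 : act 5 n10289 = n13118 := rfl
theorem F22289 : act 0 n13118 = n10431 := d4_1 D13118 (iv F21872) F21870
theorem F22290 : act 1 n13118 = n10294 := d8_1 D13118 (iv D10294) (iv F17210)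
theorem F22291 : act 3 n13118 = n10290 := d13_1 D13118 (iv D10290) D10289
def n13119 : Q := act 2 n10291
theorem D13119 : act 2 n10291 = n13119 := rfl
theorem F22292 : act 0 n13119 = n10300 := d1_1 D13119 (iv D10300) (iv F17215)
theorem F22293 : act 4 n13119 = n10293 := d10_2 (iv F17216) D13119 (iv D10293)
def n13120 : Q := act 5 n10291
theorem D13120 : act 5 n10291 = n13120 := rfl
theorem F22294 : act 0 n13120 = n10301 := d4_1 D13120 (iv D10301) (iv F17215)
theorem F22295 : act 3 n13120 = n10292 := d13_1 D13120 (iv D10292) D10291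
def n13121 : Q := act 1 n10293
theorem D13121 : act 1 n10293 = n13121 := rfl
def n13122 : Q := act 4 n10294
theorem D13122 : act 4 n10294 = n13122 := rfl
theorem F22296 : act 0 n13122 = n10305 := d3_1 D13122 (iv D10305) (iv F17219)
def n13123 : Q := act 0 n10295
theorem D13123 : act 0 n10295 = n13123 := rfl
theorem F22297 : act 1 n13123 = n10306 := d0_2 D10295 D13123 (iv D10306) (iv D7976) (iv F13207)
def n13124 : Q := act 3 n10295
theorem D13124 : act 3 n10295 = n13124 := rfl
theorem F22298 : act 1 n13124 = n10296 := d6_1 D13124 (iv D10296) D10295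
def n13125 : Q := act 4 n10296
theorem D13125 : act 4 n10296 = n13125 := rfl
theorem F22299 : act 0 n13125 = n10309 := d3_1 D13125 (iv D10309) (iv F17221)
def n13126 : Q := act 3 n10297
theorem D13126 : act 3 n10297 = n13126 := rfl
theorem F22300 : act 1 n13126 = n10298 := d6_1 D13126 (iv D10298) (iv F17222)
def n13127 : Q := act 5 n10297
theorem D13127 : act 5 n10297 = n13127 := rfl
theorem F22301 : act 1 n13127 = n10299 := d8_1 D13127 (iv D10299) (iv F17222)
theorem F22302 : act 2 n13127 = n12921 := d11_1 D13127 (iv D12921) (iv F17223)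
def n13128 : Q := act 2 n10298
theorem D13128 : act 2 n10298 = n13128 := rfl
def n13129 : Q := act 5 n10298
theorem D13129 : act 5 n10298 = n13129 := rfl
theorem F22303 : act 3 n13129 = n10299 := d13_1 D13129 (iv D10299) D10298
def n13130 : Q := act 1 n10300
theorem D13130 : act 1 n10300 = n13130 := rfl
theorem F22304 : act 4 n13130 = n10302 := d7_2 (iv F17225) D13130 (iv D10302)
def n13131 : Q := act 3 n10300
theorem D13131 : act 3 n10300 = n13131 := rfl
def n13132 : Q := act 5 n10300
theorem D13132 : act 5 n10300 = n13132 := rfl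
theorem F22305 : act 2 n13132 = n10301 := d11_1 D13132 (iv D10301) D10300
def n13133 : Q := act 4 n10301
theorem D13133 : act 4 n10301 = n13133 := rfl
theorem F22306 : act 5 n13133 = n10305 := d14_2 D10301 D13133 (iv D10305) (iv D7975) (iv F13210)
def n13134 : Q := act 0 n10302
theorem D13134 : act 0 n10302 = n13134 := rfl
def n13135 : Q := act 3 n10302
theorem D13135 : act 3 n10302 = n13135 := rfl
theorem F22307 : act 1 n13135 = n10303 := d6_1 D13135 (iv D10303) D10302
def n13136 : Q := act 5 n10302
theorem D13136 : act 5 n10302 = n13136 := rfl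
theorem F22308 : act 1 n13136 = n10304 := d8_1 D13136 (iv D10304) D10302
def n13137 : Q := act 4 n10303
theorem D13137 : act 4 n10303 = n13137 := rfl
def n13138 : Q := act 4 n10304
theorem D13138 : act 4 n10304 = n13138 := rfl
theorem F22309 : act 2 n13138 = n10305 := d10_1 D13138 (iv D10305) (iv F17227)
def n13139 : Q := act 3 n10306
theorem D13139 : act 3 n10306 = n13139 := rfl
theorem F22310 : act 0 n13139 = n10307 := d2_1 D13139 (iv D10307) D10306
def n13140 : Q := act 2 n10307
theorem D13140 : act 2 n10307 = n13140 := rfl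
def n13141 : Q := act 4 n10307
theorem D13141 : act 4 n10307 = n13141 := rfl
theorem F22311 : act 1 n13141 = n10309 := d7_1 D13141 (iv D10309) (iv F17229)
def n13142 : Q := act 1 n10308
theorem D13142 : act 1 n10308 = n13142 := rfl
def n13143 : Q := act 4 n10308
theorem D13143 : act 4 n10308 = n13143 := rfl
theorem F22312 : act 2 n13143 = n10309 := d10_1 D13143 (iv D10309) D10308
def n13144 : Q := act 5 n10309
theorem D13144 : act 5 n10309 = n13144 := rfl
def n13145 : Q := act 2 n10310
theorem D13145 : act 2 n10310 = n13145 := rfl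
theorem F22313 : act 0 n13145 = n10311 := d1_1 D13145 (iv D10311) (iv F17230)
def n13146 : Q := act 3 n10311
theorem D13146 : act 3 n10311 = n13146 := rfl
theorem F22314 : act 1 n13146 = n10538 := d6_1 D13146 (iv D10538) (iv F17231)
def n13147 : Q := act 3 n10312
theorem D13147 : act 3 n10312 = n13147 := rfl
theorem F22315 : act 1 n13147 = n10313 := d6_1 D13147 (iv D10313) (iv F17232)
theorem F22316 : act 4 n13147 = n10367 := d12_2 D10312 D13147 (iv D10367) (iv D8026) (iv F13214)
def n13148 : Q := act 5 n10312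
theorem D13148 : act 5 n10312 = n13148 := rfl
theorem F22317 : act 1 n13148 = n10314 := d8_1 D13148 (iv D10314) (iv F17232)
theorem F22318 : act 4 n13148 = n10321 := d14_1 D13148 (iv D10321) (iv D7987) (iv F13215) D10312
def n13149 : Q := act 2 n10313
theorem D13149 : act 2 n10313 = n13149 := rfl
theorem F22319 : act 0 n13149 = n10317 := d1_1 D13149 (iv D10317) (iv F17233)
theorem F22320 : act 4 n13149 = n10368 := d10_2 (iv F17234) D13149 (iv D10368)
def n13150 : Q := act 5 n10313
theorem D13150 : act 5 n10313 = n13150 := rfl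
theorem F22321 : act 0 n13150 = n10318 := d4_1 D13150 (iv D10318) (iv F17233)
theorem F22322 : act 3 n13150 = n10314 := d13_1 D13150 (iv D10314) D10313
def n13151 : Q := act 2 n10315
theorem D13151 : act 2 n10315 = n13151 := rfl
theorem F22323 : act 0 n13151 = n10368 := d1_1 D13151 (iv D10368) (iv F17238)
theorem F22324 : act 4 n13151 = n10317 := d10_2 (iv F17239) D13151 (iv D10317)
def n13152 : Q := act 5 n10315
theorem D13152 : act 5 n10315 = n13152 := rfl
theorem F22325 : act 0 n13152 = n10369 := d4_1 D13152 (iv D10369) (iv F17238)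
theorem F22326 : act 3 n13152 = n10316 := d13_1 D13152 (iv D10316) D10315
def n13153 : Q := act 1 n10317
theorem D13153 : act 1 n10317 = n13153 := rfl
def n13154 : Q := act 3 n10317
theorem D13154 : act 3 n10317 = n13154 := rfl
theorem F22327 : act 2 n13154 = n13152 := d15_2 D10317 D13154 F22326 F17241 F13288 (iv F17236) (iv F22322) (iv D13150) F17233
theorem F22328 : act 5 n13154 = n13151 := d15_8 (iv D10368) (iv D8027) F10091 F7529 (iv F10040) D7984 D10317 D13154 F22323
def n13155 : Q := act 5 n10317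
theorem D13155 : act 5 n10317 = n13155 := rfl
theorem F22329 : act 2 n13155 = n10318 := d11_1 D13155 (iv D10318) D10317
theorem F22330 : act 3 n13155 = n13151 := d13_1 D13155 (iv F22328) (iv D13154)
def n13156 : Q := act 4 n10318
theorem D13156 : act 4 n10318 = n13156 := rfl
theorem F22331 : act 3 n13156 = n10336 := d12_1 D13156 (iv D10336) F13247 (iv F13223) (iv F17243)
def n13157 : Q := act 3 n10319
theorem D13157 : act 3 n10319 = n13157 := rfl
theorem F22332 : act 0 n13157 = n10320 := d2_1 D13157 (iv D10320) (iv F17244)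
theorem F22333 : act 1 n13157 = n10325 := d6_1 D13157 (iv D10325) (iv F17245)
theorem F22334 : act 4 n13157 = n13011 := d12_2 D10319 D13157 (iv D13011) (iv D10204) (iv F13225)
def n13158 : Q := act 5 n10319
theorem D13158 : act 5 n10319 = n13158 := rfl
theorem F22335 : act 0 n13158 = n10321 := d4_1 D13158 (iv D10321) (iv F17244)
theorem F22336 : act 1 n13158 = n10326 := d8_1 D13158 (iv D10326) (iv F17245)
def n13159 : Q := act 2 n10320
theorem D13159 : act 2 n10320 = n13159 := rfl
theorem F22337 : act 4 n13159 = n13012 := d10_2 (iv F17247) D13159 (iv D13012)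
def n13160 : Q := act 5 n10320
theorem D13160 : act 5 n10320 = n13160 := rfl
theorem F22338 : act 1 n13160 = n10323 := d8_1 D13160 (iv D10323) (iv F17246)
theorem F22339 : act 3 n13160 = n10321 := d13_1 D13160 (iv D10321) D10320
def n13161 : Q := act 1 n10322
theorem D13161 : act 1 n10322 = n13161 := rfl
theorem F22340 : act 3 n13161 = n10354 := d6_2 (iv F17251) D13161 F17305
theorem F22341 : act 4 n13161 = n13013 := d7_2 (iv F17250) D13161 (iv D13013)
theorem F22342 : act 5 n13161 = n10353 := d8_2 F17252 D13161 F17304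
def n13162 : Q := act 4 n10323
theorem D13162 : act 4 n10323 = n13162 := rfl
theorem F22343 : act 0 n13162 = n10336 := d3_1 D13162 (iv D10336) (iv F17253)
theorem F22344 : act 2 n13162 = n10355 := d10_1 D13162 (iv D10355) (iv F17254)
theorem F22345 : act 5 n13162 = n13016 := d14_2 D10323 D13162 (iv D13016) (iv D10207) (iv F13228)
def n13163 : Q := act 3 n10324
theorem D13163 : act 3 n10324 = n13163 := rfl
theorem F22346 : act 0 n13163 = n10327 := d2_1 D13163 (iv D10327) (iv F17256)
theorem F22347 : act 1 n13163 = n13011 := d6_1 D13163 (iv D13011) (iv F17257)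
theorem F22348 : act 4 n13163 = n10325 := d12_2 D10324 D13163 (iv D10325) (iv D7991) D7990
def n13164 : Q := act 2 n10325
theorem D13164 : act 2 n10325 = n13164 := rfl
theorem F22349 : act 0 n13164 = n10329 := d1_1 D13164 (iv D10329) (iv F17259)
def n13165 : Q := act 5 n10325
theorem D13165 : act 5 n10325 = n13165 := rfl
theorem F22350 : act 0 n13165 = n10330 := d4_1 D13165 (iv D10330) (iv F17259)
theorem F22351 : act 3 n13165 = n10326 := d13_1 D13165 (iv D10326) D10325
def n13166 : Q := act 2 n10327
theorem D13166 : act 2 n10327 = n13166 := rfl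
theorem F22352 : act 4 n13166 = n10329 := d10_2 (iv F17263) D13166 (iv D10329)
def n13167 : Q := act 5 n10327
theorem D13167 : act 5 n10327 = n13167 := rfl
theorem F22353 : act 1 n13167 = n10332 := d8_1 D13167 (iv D10332) (iv F17262)
theorem F22354 : act 3 n13167 = n10328 := d13_1 D13167 (iv D10328) D10327
def n13168 : Q := act 1 n10329
theorem D13168 : act 1 n10329 = n13168 := rfl
theorem F22355 : act 2 n13168 = n10333 := d5_2 D10329 D13168 (iv D10333) (iv D7998) (iv F13240)
def n13169 : Q := act 3 n10329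
theorem D13169 : act 3 n10329 = n13169 := rfl
def n13170 : Q := act 5 n10329
theorem D13170 : act 5 n10329 = n13170 := rfl
theorem F22356 : act 2 n13170 = n10330 := d11_1 D13170 (iv D10330) D10329
def n13171 : Q := act 4 n10330
theorem D13171 : act 4 n10330 = n13171 := rfl
theorem F22357 : act 1 n13171 = n10336 := d7_1 D13171 (iv D10336) (iv F17265)
def n13172 : Q := act 1 n10331
theorem D13172 : act 1 n10331 = n13172 := rfl
theorem F22358 : act 3 n13172 = n13021 := d6_2 (iv F17269) D13172 F22090
theorem F22359 : act 4 n13172 = n10333 := d7_2 (iv F17268) D13172 (iv D10333)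
theorem F22360 : act 5 n13172 = n13020 := d8_2 F17270 D13172 F22089
def n13173 : Q := act 4 n10332
theorem D13173 : act 4 n10332 = n13173 := rfl
theorem F22361 : act 0 n13173 = n13016 := d3_1 D13173 (iv D13016) (iv F17271)
theorem F22362 : act 2 n13173 = n13022 := d10_1 D13173 (iv D13022) (iv F17272)
theorem F22363 : act 5 n13173 = n10336 := d14_2 D10332 D13173 (iv D10336) (iv D7999) (iv F13244)
def n13174 : Q := act 0 n10333
theorem D13174 : act 0 n10333 = n13174 := rfl
def n13175 : Q := act 3 n10333
theorem D13175 : act 3 n10333 = n13175 := rfl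
theorem F22364 : act 1 n13175 = n10334 := d6_1 D13175 (iv D10334) D10333
theorem F22365 : act 5 n10346 = n13175 := d8_0 F22364 F17276 D10346
def n13176 : Q := act 5 n10333
theorem D13176 : act 5 n10333 = n13176 := rfl
theorem F22366 : act 1 n13176 = n10335 := d8_1 D13176 (iv D10335) D10333
theorem F22367 : act 3 n13176 = n10346 := d13_1 D13176 F22365 (iv D13175)
def n13177 : Q := act 4 n10334
theorem D13177 : act 4 n10334 = n13177 := rfl
theorem F22368 : act 0 n13177 = n10356 := d3_1 D13177 (iv D10356) (iv F17274)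
theorem F22369 : act 2 n13177 = n10347 := d10_1 D13177 (iv D10347) (iv F17275)
theorem F22370 : act 3 n13177 = n13023 := d12_1 D13177 (iv D13023) (iv F17269) F17268 D10334
theorem F22371 : act 5 n13177 = n10356 := d14_2 (iv F17276) D13177 (iv D10356) (iv D8014) (iv F13266)
def n13178 : Q := act 4 n10335
theorem D13178 : act 4 n10335 = n13178 := rfl
theorem F22372 : act 0 n13178 = n10355 := d3_1 D13178 (iv D10355) (iv F17277)
theorem F22373 : act 2 n13178 = n10336 := d10_1 D13178 (iv D10336) (iv F17278)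
theorem F22374 : act 3 n13178 = n10355 := d12_1 D13178 (iv D10355) (iv D8013) (iv F13266) (iv F17279)
theorem F22375 : act 5 n13178 = n13022 := d14_2 D10335 D13178 (iv D13022) F17270 F17268
def n13179 : Q := act 1 n10337
theorem D13179 : act 1 n10337 = n13179 := rfl
def n13180 : Q := act 3 n10337
theorem D13180 : act 3 n10337 = n13180 := rfl
theorem F22376 : act 0 n13180 = n10340 := d2_1 D13180 (iv D10340) (iv F17280)
def n13181 : Q := act 5 n10337
theorem D13181 : act 5 n10337 = n13181 := rfl
theorem F22377 : act 0 n13181 = n10341 := d4_1 D13181 (iv D10341) (iv F17280)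
theorem F22378 : act 2 n13181 = n10338 := d11_1 D13181 (iv D10338) D10337
def n13182 : Q := act 4 n10338
theorem D13182 : act 4 n10338 = n13182 := rfl
theorem F22379 : act 0 n13182 = n10342 := d3_1 D13182 (iv D10342) (iv F17281)
theorem F22380 : act 1 n13182 = n10422 := d7_1 D13182 (iv F22185) F22183
theorem F22381 : act 3 n13182 = n10471 := d12_1 D13182 F17511 (iv F17078) F17079 (iv F17282)
theorem F22382 : act 5 n13182 = n10487 := d14_2 D10338 D13182 F17541 (iv F17060) F17059
def n13183 : Q := act 0 n10339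
theorem D13183 : act 0 n10339 = n13183 := rfl
theorem F22383 : act 2 n13183 = n10343 := d1_2 (iv F17283) D13183 (iv D10343)
theorem F22384 : act 5 n13183 = n10489 := d4_2 F17284 D13183 F17543
def n13184 : Q := act 3 n10339
theorem D13184 : act 3 n10339 = n13184 := rfl
theorem F22385 : act 1 n13184 = n10340 := d6_1 D13184 (iv D10340) D10339
theorem F22386 : act 5 n13184 = n10490 := d13_2 F17284 D13184 (iv D10490)
def n13185 : Q := act 2 n10340
theorem D13185 : act 2 n10340 = n13185 := rfl
def n13186 : Q := act 4 n10340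
theorem D13186 : act 4 n10340 = n13186 := rfl
def n13187 : Q := act 5 n10340
theorem D13187 : act 5 n10340 = n13187 := rfl
theorem F22387 : act 1 n13187 = n10490 := d8_1 D13187 (iv F22386) F22385
theorem F22388 : act 3 n13187 = n10341 := d13_1 D13187 (iv D10341) D10340
def n13188 : Q := act 4 n10341
theorem D13188 : act 4 n10341 = n13188 := rfl
theorem F22389 : act 1 n13188 = n10400 := d7_1 D13188 F17394 (iv F17285)
theorem F22390 : act 2 n13188 = n10342 := d10_1 D13188 (iv D10342) (iv F17286)
theorem F22391 : act 5 n13188 = n10488 := d14_2 D10341 D13188 F17542 (iv F17062) F17061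
def n13189 : Q := act 1 n10344
theorem D13189 : act 1 n10344 = n13189 := rfl
theorem F22392 : act 2 n13189 = n10346 := d5_2 D10344 D13189 (iv D10346) (iv D8008) (iv F13259)
theorem F22393 : act 4 n13189 = n10348 := d7_2 (iv F17293) D13189 (iv D10348)
def n13190 : Q := act 3 n10344
theorem D13190 : act 3 n10344 = n13190 := rfl
theorem F22394 : act 0 n13190 = n11363 := d2_1 D13190 (iv D11363) (iv F17292)
theorem F22395 : act 2 n13190 = n11371 := d15_2 D10344 D13190 F19073 F14665 F11196 (iv F11193) (iv F14662) (iv D8829) (iv F13258)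
theorem F22396 : act 5 n11369 = n13190 := d11_0 F22395 (iv D11371) D11369
def n13191 : Q := act 5 n10344
theorem D13191 : act 5 n10344 = n13191 := rfl
theorem F22397 : act 0 n13191 = n11364 := d4_1 D13191 (iv D11364) (iv F17292)
theorem F22398 : act 2 n13191 = n10345 := d11_1 D13191 (iv D10345) D10344
theorem F22399 : act 3 n13191 = n11369 := d13_1 D13191 F22396 (iv D13190)
def n13192 : Q := act 4 n10345
theorem D13192 : act 4 n10345 = n13192 := rfl
theorem F22400 : act 0 n13192 = n11365 := d3_1 D13192 (iv D11365) (iv F17294)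
theorem F22401 : act 1 n13192 = n10347 := d7_1 D13192 (iv D10347) (iv F17295)
theorem F22402 : act 3 n13192 = n10520 := d12_1 D13192 (iv D10520) F13527 (iv F13264) (iv F17296)
theorem F22403 : act 5 n13192 = n10351 := d14_2 D10345 D13192 (iv D10351) (iv D8011) (iv F13260)
def n13193 : Q := act 0 n10346
theorem D13193 : act 0 n10346 = n13193 := rfl
theorem F22404 : act 1 n13193 = n10352 := d0_2 D10346 D13193 (iv D10352) (iv D8012) (iv F13265)
theorem F22405 : act 4 n13193 = n10352 := d3_2 (iv F17297) D13193 (iv D10352)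
def n13194 : Q := act 0 n10348
theorem D13194 : act 0 n10348 = n13194 := rfl
theorem F22406 : act 2 n13194 = n10352 := d1_2 (iv F17300) D13194 (iv D10352)
def n13195 : Q := act 3 n10348
theorem D13195 : act 3 n10348 = n13195 := rfl
theorem F22407 : act 1 n13195 = n10349 := d6_1 D13195 (iv D10349) D10348
def n13196 : Q := act 5 n10348
theorem D13196 : act 5 n10348 = n13196 := rfl
theorem F22408 : act 1 n13196 = n10350 := d8_1 D13196 (iv D10350) D10348
theorem F22409 : act 2 n13196 = n10354 := d11_1 D13196 (iv D10354) (iv F17300)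
def n13197 : Q := act 4 n10349
theorem D13197 : act 4 n10349 = n13197 := rfl
def n13198 : Q := act 4 n10350
theorem D13198 : act 4 n10350 = n13198 := rfl
theorem F22410 : act 2 n13198 = n10351 := d10_1 D13198 (iv D10351) (iv F17301)
def n13199 : Q := act 3 n10352
theorem D13199 : act 3 n10352 = n13199 := rfl
theorem F22411 : act 0 n13199 = n10353 := d2_1 D13199 (iv D10353) D10352
def n13200 : Q := act 5 n10352
theorem D13200 : act 5 n10352 = n13200 := rfl
theorem F22412 : act 0 n13200 = n10354 := d4_1 D13200 (iv D10354) D10352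
def n13201 : Q := act 2 n10353
theorem D13201 : act 2 n10353 = n13201 := rfl
def n13202 : Q := act 4 n10353
theorem D13202 : act 4 n10353 = n13202 := rfl
theorem F22413 : act 1 n13202 = n10355 := d7_1 D13202 (iv D10355) (iv F17304)
def n13203 : Q := act 4 n10354
theorem D13203 : act 4 n10354 = n13203 := rfl
theorem F22414 : act 1 n13203 = n10356 := d7_1 D13203 (iv D10356) (iv F17305)
def n13204 : Q := act 5 n10355
theorem D13204 : act 5 n10355 = n13204 := rfl
theorem F22415 : act 0 n13204 = n13022 := d4_1 D13204 (iv F22375) F22372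
theorem F22416 : act 2 n13204 = n13016 := d11_1 D13204 (iv F22345) F22344
theorem F22417 : act 3 n13204 = n13022 := d13_1 D13204 (iv F22375) F22374
theorem F22418 : act 4 n13204 = n13015 := d14_1 D13204 (iv D13015) (iv F17250) (iv F17252) D10355
def n13205 : Q := act 3 n10356
theorem D13205 : act 3 n10356 = n13205 := rfl
theorem F22419 : act 0 n13205 = n13023 := d2_1 D13205 (iv F22370) F22368
theorem F22420 : act 4 n13205 = n13014 := d12_2 D10356 D13205 (iv D13014) (iv F17250) F17251
theorem F22421 : act 5 n13205 = n13023 := d13_2 F22371 D13205 (iv F22370)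
theorem F22422 : act 2 n13205 = n13018 := d15_2 (iv F17306) D13205 F22086 (iv F22369) F22370 F22092 F17050 (iv F17299) F17298
def n13206 : Q := act 2 n10357
theorem D13206 : act 2 n10357 = n13206 := rfl
def n13207 : Q := act 4 n10357
theorem D13207 : act 4 n10357 = n13207 := rfl
theorem F22423 : act 0 n13207 = n10477 := d3_1 D13207 (iv F21545) F21543
theorem F22424 : act 1 n13207 = n10360 := d7_1 D13207 (iv D10360) (iv F17307)
theorem F22425 : act 3 n13207 = n10401 := d12_1 D13207 (iv D10401) (iv D8057) (iv F13273) D10357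
def n13208 : Q := act 5 n10357
theorem D13208 : act 5 n10357 = n13208 := rfl
theorem F22426 : act 1 n13208 = n10361 := d8_1 D13208 (iv D10361) (iv F17307)
theorem F22427 : act 3 n13208 = n10358 := d13_1 D13208 (iv D10358) D10357
def n13209 : Q := act 1 n10359
theorem D13209 : act 1 n10359 = n13209 := rfl
def n13210 : Q := act 4 n10359
theorem D13210 : act 4 n10359 = n13210 := rfl
theorem F22428 : act 2 n13210 = n10360 := d10_1 D13210 (iv D10360) D10359
def n13211 : Q := act 5 n10360
theorem D13211 : act 5 n10360 = n13211 := rfl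
theorem F22429 : act 3 n13211 = n10402 := d13_1 D13211 (iv D10402) (iv F17311)
def n13212 : Q := act 4 n10361
theorem D13212 : act 4 n10361 = n13212 := rfl
theorem F22430 : act 3 n13212 = n11878 := d12_1 D13212 (iv D11878) F15407 (iv F13275) (iv F17312)
def n13213 : Q := act 2 n10362
theorem D13213 : act 2 n10362 = n13213 := rfl
theorem F22431 : act 0 n13213 = n10364 := d1_1 D13213 (iv D10364) (iv F17313)
theorem F22432 : act 4 n13213 = n10415 := d10_2 (iv F17315) D13213 (iv D10415)
def n13214 : Q := act 3 n10364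
theorem D13214 : act 3 n10364 = n13214 := rfl
def n13215 : Q := act 3 n10365
theorem D13215 : act 3 n10365 = n13215 := rfl
theorem F22433 : act 0 n13215 = n12955 := d2_1 D13215 (iv D12955) (iv F17320)
def n13216 : Q := act 3 n10366
theorem D13216 : act 3 n10366 = n13216 := rfl
theorem F22434 : act 0 n13216 = n10367 := d2_1 D13216 (iv D10367) (iv F17322)
def n13217 : Q := act 2 n10367
theorem D13217 : act 2 n10367 = n13217 := rfl
def n13218 : Q := act 1 n10368
theorem D13218 : act 1 n10368 = n13218 := rfl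
def n13219 : Q := act 3 n10368
theorem D13219 : act 3 n10368 = n13219 := rfl
theorem F22435 : act 0 n13219 = n13155 := d2_1 D13219 F22330 F22323
theorem F22436 : act 2 n13219 = n13150 := d9_1 D13219 F22322 F17236 (iv F13288) (iv F17241) (iv F22326) (iv F22327) (iv D13154) (iv D10317) (iv D7984) F10040 (iv F7529) (iv F10091) D8027 D10368
theorem F22437 : act 5 n13219 = n13149 := d15_8 (iv D10317) (iv D7984) F10040 (iv F7529) (iv F10091) D8027 D10368 D13219 F22319
def n13220 : Q := act 5 n10368
theorem D13220 : act 5 n10368 = n13220 := rfl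
theorem F22438 : act 0 n13220 = n13154 := d4_1 D13220 F22328 F22323
theorem F22439 : act 2 n13220 = n10369 := d11_1 D13220 (iv D10369) D10368
theorem F22440 : act 3 n13220 = n13149 := d13_1 D13220 (iv F22437) (iv D13219)
def n13221 : Q := act 4 n10369
theorem D13221 : act 4 n10369 = n13221 := rfl
theorem F22441 : act 3 n13221 = n13016 := d12_1 D13221 (iv D13016) F17041 (iv F13295) (iv F17325)
def n13222 : Q := act 2 n10371
theorem D13222 : act 2 n10371 = n13222 := rfl
theorem F22442 : act 0 n13222 = n10571 := d1_1 D13222 (iv D10571) (iv F17330)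
theorem F22443 : act 4 n13222 = n11132 := d10_2 (iv F17332) D13222 (iv D11132)
def n13223 : Q := act 1 n10372
theorem D13223 : act 1 n10372 = n13223 := rfl
theorem F22444 : act 4 n13223 = n11134 := d7_2 (iv F17334) D13223 (iv D11134)
def n13224 : Q := act 1 n10373
theorem D13224 : act 1 n10373 = n13224 := rfl
theorem F22445 : act 4 n13224 = n11966 := d7_2 (iv F17336) D13224 (iv D11966)
def n13225 : Q := act 3 n10373
theorem D13225 : act 3 n10373 = n13225 := rfl
theorem F22446 : act 0 n13225 = n10376 := d2_1 D13225 (iv D10376) (iv F17335)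
theorem F22447 : act 2 n13225 = n10397 := d15_2 D10373 D13225 F17387 F13349 F10144 (iv F10115) (iv F13316) (iv D8037) (iv F13307)
theorem F22448 : act 5 n10396 = n13225 := d11_0 F22447 (iv D10397) D10396
def n13226 : Q := act 5 n10373
theorem D13226 : act 5 n10373 = n13226 := rfl
theorem F22449 : act 0 n13226 = n10375 := d4_1 D13226 (iv F17340) (iv F17335)
theorem F22450 : act 2 n13226 = n10374 := d11_1 D13226 (iv D10374) D10373
theorem F22451 : act 3 n13226 = n10396 := d13_1 D13226 F22448 (iv D13225)
def n13227 : Q := act 4 n10374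
theorem D13227 : act 4 n10374 = n13227 := rfl
theorem F22452 : act 0 n13227 = n10379 := d3_1 D13227 (iv D10379) (iv F17337)
theorem F22453 : act 3 n13227 = n10576 := d12_1 D13227 (iv D10576) F13598 (iv F13311) (iv F17338)
theorem F22454 : act 5 n13227 = n11969 := d14_2 D10374 D13227 (iv D11969) (iv D9322) (iv F13308)
def n13228 : Q := act 3 n10375
theorem D13228 : act 3 n10375 = n13228 := rfl
theorem F22455 : act 0 n13228 = n10396 := d2_1 D13228 (iv F22451) F22449
theorem F22456 : act 1 n13228 = n10376 := d6_1 D13228 (iv D10376) D10375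
theorem F22457 : act 2 n13228 = n10391 := d9_1 D13228 (iv D10391) (iv D8048) (iv D6156) (iv F10111) D8033 D10373 D13225 F22447 F17387 F13349 F10144 (iv F10115) (iv F13316) (iv F17339)
theorem F22458 : act 5 n13228 = n10376 := d13_2 F17340 D13228 (iv D10376)
theorem F22459 : act 4 n10396 = n13228 := d10_0 F22457 F17374 D10396
def n13229 : Q := act 4 n10375
theorem D13229 : act 4 n10375 = n13229 := rfl
theorem F22460 : act 1 n13229 = n10377 := d7_1 D13229 (iv D10377) D10375
theorem F22461 : act 2 n13229 = n10379 := d10_1 D13229 (iv D10379) (iv F17339)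
def n13230 : Q := act 2 n10376
theorem D13230 : act 2 n10376 = n13230 := rfl
theorem F22462 : act 0 n13230 = n10397 := d1_1 D13230 (iv F22447) F22446
theorem F22463 : act 3 n13230 = n10392 := d9_2 D10376 D13230 F17376 F13344 (iv F13310) (iv F17338) (iv F22450) F22451 (iv D10396) (iv D8051) (iv D6158) (iv D4638) (iv F7540) D6145 D8035
theorem F22464 : act 5 n13230 = n10391 := d11_2 F22458 D13230 (iv F22457)
def n13231 : Q := act 4 n10376
theorem D13231 : act 4 n10376 = n13231 := rfl
theorem F22465 : act 1 n13231 = n10396 := d7_1 D13231 F22459 F22456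
def n13232 : Q := act 3 n10377
theorem D13232 : act 3 n10377 = n13232 := rfl
theorem F22466 : act 0 n13232 = n11967 := d2_1 D13232 (iv D11967) (iv F17341)
theorem F22467 : act 2 n13232 = n11974 := d15_2 (iv F17342) D13232 F20170 F15574 F11883 (iv F11881) (iv F15572) (iv D9322) (iv F13312)
theorem F22468 : act 5 n11973 = n13232 := d11_0 F22467 (iv D11974) D11973
def n13233 : Q := act 5 n10377
theorem D13233 : act 5 n10377 = n13233 := rfl
theorem F22469 : act 0 n13233 = n11968 := d4_1 D13233 (iv D11968) (iv F17341)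
theorem F22470 : act 2 n13233 = n10378 := d11_1 D13233 (iv D10378) (iv F17342)
theorem F22471 : act 3 n13233 = n11973 := d13_1 D13233 F22468 (iv D13232)
def n13234 : Q := act 4 n10378
theorem D13234 : act 4 n10378 = n13234 := rfl
theorem F22472 : act 0 n13234 = n11969 := d3_1 D13234 (iv D11969) (iv F17343)
theorem F22473 : act 1 n13234 = n10381 := d7_1 D13234 F17351 (iv F17344)
theorem F22474 : act 3 n13234 = n10582 := d12_1 D13234 (iv D10582) F13609 (iv F13324) (iv F17345)
theorem F22475 : act 5 n13234 = n10379 := d14_2 D10378 D13234 (iv D10379) (iv D8037) D8036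
def n13235 : Q := act 2 n10380
theorem D13235 : act 2 n10380 = n13235 := rfl
theorem F22476 : act 4 n13235 = n10382 := d10_2 (iv F17349) D13235 (iv D10382)
theorem F22477 : act 3 n13235 = n11138 := d15_1 D13235 (iv D11138) (iv D8648) (iv F13303) (iv F16984) (iv F21998) F21999 F21996 F21994
theorem F22478 : act 5 n11140 = n13235 := d13_0 F22477 F18655 D11140
def n13236 : Q := act 5 n10380
theorem D13236 : act 5 n10380 = n13236 := rfl
theorem F22479 : act 0 n13236 = n11137 := d4_1 D13236 F21996 F21994
theorem F22480 : act 1 n13236 = n10582 := d8_1 D13236 F17711 (iv F17348)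
theorem F22481 : act 2 n13236 = n11140 := d11_1 D13236 F22478 (iv D13235)
theorem F22482 : act 3 n13236 = n10381 := d13_1 D13236 (iv D10381) D10380
theorem F22483 : act 4 n13236 = n10387 := d14_1 D13236 F17367 F13339 (iv F13320) (iv F17349)
def n13237 : Q := act 1 n10382
theorem D13237 : act 1 n10382 = n13237 := rfl
theorem F22484 : act 2 n13237 = n10585 := d5_2 D10382 D13237 F17713 F13610 (iv F13319)
theorem F22485 : act 3 n13237 = n10389 := d6_2 (iv F17353) D13237 (iv D10389)
theorem F22486 : act 5 n13237 = n10389 := d8_2 (iv F17352) D13237 (iv D10389)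
def n13238 : Q := act 2 n10383
theorem D13238 : act 2 n10383 = n13238 := rfl
theorem F22487 : act 0 n13238 = n11461 := d1_1 D13238 (iv D11461) (iv F17354)
theorem F22488 : act 4 n13238 = n11116 := d10_2 (iv F17356) D13238 (iv D11116)
def n13239 : Q := act 5 n10383
theorem D13239 : act 5 n10383 = n13239 := rfl
theorem F22489 : act 0 n13239 = n11462 := d4_1 D13239 (iv D11462) (iv F17354)
theorem F22490 : act 1 n13239 = n10386 := d8_1 D13239 (iv D10386) (iv F17355)
theorem F22491 : act 3 n13239 = n10384 := d13_1 D13239 (iv D10384) D10383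
def n13240 : Q := act 1 n10385
theorem D13240 : act 1 n10385 = n13240 := rfl
theorem F22492 : act 4 n13240 = n11117 := d7_2 (iv F17362) D13240 (iv D11117)
def n13241 : Q := act 3 n10385
theorem D13241 : act 3 n10385 = n13241 := rfl
theorem F22493 : act 0 n13241 = n11140 := d2_1 D13241 (iv D11140) (iv F17361)
theorem F22494 : act 2 n13241 = n11137 := d9_1 D13241 (iv F21999) F21998 F16984 F13303 D8648 D11138 (iv F22477) (iv D13235) (iv D10380) F13317 F10119 (iv F10131) D8043 D10385
theorem F22495 : act 4 n13241 = n11136 := d12_2 (iv F17362) D13241 (iv F18774) F18773 F14410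
def n13242 : Q := act 5 n10385
theorem D13242 : act 5 n10385 = n13242 := rfl
theorem F22496 : act 0 n13242 = n11138 := d4_1 D13242 F18655 (iv F17361)
theorem F22497 : act 2 n13242 = n10386 := d11_1 D13242 (iv D10386) D10385
theorem F22498 : act 4 n13242 = n11135 := d14_1 D13242 F18775 F18773 F14411 (iv F17362)
def n13243 : Q := act 2 n10387
theorem D13243 : act 2 n10387 = n13243 := rfl
theorem F22499 : act 0 n13243 = n11136 := d1_1 D13243 F18654 (iv F17365)
theorem F22500 : act 3 n13243 = n11129 := d9_2 D10387 D13243 (iv D11129) (iv D8641) F10931 F8191 (iv F8196) D6626 D8646 D11135 (iv F18777) F18778 F14407 F11019 (iv F13335)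
theorem F22501 : act 4 n13243 = n11140 := d10_2 F22483 D13243 (iv F22481)
theorem F22502 : act 5 n13243 = n10388 := d11_2 (iv F17367) D13243 (iv D10388)
def n13244 : Q := act 1 n10388
theorem D13244 : act 1 n10388 = n13244 := rfl
theorem F22503 : act 2 n13244 = n10579 := d5_2 D10388 D13244 (iv D10579) (iv D8201) (iv F13338)
theorem F22504 : act 4 n13244 = n10389 := d7_2 (iv F17369) D13244 (iv D10389)
def n13245 : Q := act 3 n10388
theorem D13245 : act 3 n10388 = n13245 := rfl
theorem F22505 : act 0 n13245 = n11135 := d2_1 D13245 (iv D11135) (iv F17368)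
theorem F22506 : act 2 n13245 = n11130 := d9_1 D13245 F18647 F14308 F10932 (iv F10938) (iv F14314) (iv F18654) (iv F18774) (iv D11201) (iv D8696) F11017 F8268 (iv F10134) D8046 D10388
theorem F22507 : act 4 n13245 = n11138 := d12_2 (iv F17369) D13245 (iv F22477) F22476 F17353
theorem F22508 : act 5 n13245 = n11129 := d13_2 F22502 D13245 (iv F22500)
def n13246 : Q := act 0 n10389
theorem D13246 : act 0 n10389 = n13246 := rfl
theorem F22509 : act 2 n13246 = n10583 := d1_2 (iv F17370) D13246 (iv D10583)
def n13247 : Q := act 0 n10390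
theorem D13247 : act 0 n10390 = n13247 := rfl
theorem F22510 : act 1 n13247 = n10394 := d0_2 D10390 D13247 (iv D10394) (iv D8050) (iv F13340)
theorem F22511 : act 2 n13247 = n10445 := d1_2 (iv F17371) D13247 (iv D10445)
theorem F22512 : act 4 n13247 = n10577 := d3_2 (iv F17372) D13247 (iv D10577)
theorem F22513 : act 5 n10435 = n13247 := d11_0 F22511 (iv F21945) F21944
def n13248 : Q := act 3 n10390
theorem D13248 : act 3 n10390 = n13248 := rfl
theorem F22514 : act 1 n13248 = n10391 := d6_1 D13248 (iv D10391) D10390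
theorem F22515 : act 4 n13248 = n10395 := d12_2 (iv F17372) D13248 (iv D10395) F13346 (iv F13599)
def n13249 : Q := act 5 n10390
theorem D13249 : act 5 n10390 = n13249 := rfl
theorem F22516 : act 0 n13249 = n10435 := d4_1 D13249 F22513 (iv D13247)
theorem F22517 : act 1 n13249 = n10392 := d8_1 D13249 (iv D10392) D10390
theorem F22518 : act 2 n13249 = n10448 := d11_1 D13249 (iv D10448) (iv F17371)
def n13250 : Q := act 4 n10392
theorem D13250 : act 4 n10392 = n13250 := rfl
theorem F22519 : act 0 n13250 = n10398 := d3_1 D13250 (iv D10398) (iv F17375)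
theorem F22520 : act 2 n13250 = n10393 := d10_1 D13250 (iv D10393) (iv F17376)
theorem F22521 : act 5 n13250 = n10547 := d14_2 D10392 D13250 F17655 F13562 (iv F13341)
def n13251 : Q := act 3 n10394
theorem D13251 : act 3 n10394 = n13251 := rfl
theorem F22522 : act 0 n13251 = n10395 := d2_1 D13251 (iv D10395) D10394
theorem F22523 : act 5 n13251 = n10436 := d13_2 (iv F17383) D13251 (iv D10436)
theorem F22524 : act 2 n13251 = n10427 := d15_2 (iv F17381) D13251 (iv D10427) (iv D8076) (iv D6184) F7602 D4664 (iv F10147) D8054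
def n13252 : Q := act 2 n10395
theorem D13252 : act 2 n10395 = n13252 := rfl
theorem F22525 : act 0 n13252 = n10427 := d1_1 D13252 (iv F22524) F22522
theorem F22526 : act 5 n13252 = n10440 := d11_2 (iv F17385) D13252 (iv D10440)
theorem F22527 : act 3 n13252 = n10423 := d15_1 D13252 (iv D10423) (iv D8074) F10195 D6189 D8083 D10436 (iv F22523) F22522
def n13253 : Q := act 4 n10397
theorem D13253 : act 4 n10397 = n13253 := rfl
theorem F22528 : act 1 n13253 = n10441 := d7_1 D13253 (iv D10441) (iv F17386)
def n13254 : Q := act 3 n10398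
theorem D13254 : act 3 n10398 = n13254 := rfl
theorem F22529 : act 1 n13254 = n10442 := d6_1 D13254 (iv D10442) (iv F17388)
theorem F22530 : act 5 n13254 = n10565 := d13_2 (iv F17390) D13254 (iv D10565)
def n13255 : Q := act 2 n10399
theorem D13255 : act 2 n10399 = n13255 := rfl
theorem F22531 : act 0 n13255 = n10400 := d1_1 D13255 (iv D10400) (iv F17391)
theorem F22532 : act 4 n13255 = n10489 := d10_2 (iv F17393) D13255 (iv D10489)
def n13256 : Q := act 3 n10400
theorem D13256 : act 3 n10400 = n13256 := rfl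
def n13257 : Q := act 5 n10401
theorem D13257 : act 5 n10401 = n13257 := rfl
theorem F22533 : act 0 n13257 = n10478 := d4_1 D13257 (iv D10478) (iv F17395)
theorem F22534 : act 1 n13257 = n10402 := d8_1 D13257 (iv D10402) (iv F17396)
theorem F22535 : act 2 n13257 = n10473 := d11_1 D13257 (iv D10473) (iv F17397)
theorem F22536 : act 4 n13257 = n10417 := d14_1 D13257 (iv D10417) (iv D8069) (iv F13365) D10401
def n13258 : Q := act 3 n10403
theorem D13258 : act 3 n10403 = n13258 := rfl
theorem F22537 : act 1 n13258 = n10404 := d6_1 D13258 (iv D10404) D10403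
theorem F22538 : act 5 n13258 = n10459 := d13_2 (iv F22017) D13258 F22016
def n13259 : Q := act 4 n10403
theorem D13259 : act 4 n10403 = n13259 := rfl
theorem F22539 : act 1 n13259 = n10405 := d7_1 D13259 (iv D10405) D10403
theorem F22540 : act 2 n13259 = n12055 := d10_1 D13259 (iv F22005) F22004
def n13260 : Q := act 4 n10404
theorem D13260 : act 4 n10404 = n13260 := rfl
theorem F22541 : act 0 n13260 = n10409 := d3_1 D13260 (iv D10409) (iv F17400)
theorem F22542 : act 2 n13260 = n10463 := d10_1 D13260 (iv D10463) (iv F17401)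
def n13261 : Q := act 3 n10405
theorem D13261 : act 3 n10405 = n13261 := rfl
theorem F22543 : act 0 n13261 = n10410 := d2_1 D13261 (iv D10410) (iv F17403)
def n13262 : Q := act 5 n10405
theorem D13262 : act 5 n10405 = n13262 := rfl
theorem F22544 : act 0 n13262 = n10411 := d4_1 D13262 (iv D10411) (iv F17403)
theorem F22545 : act 2 n13262 = n10406 := d11_1 D13262 (iv D10406) (iv F17404)
theorem F22546 : act 4 n13262 = n11778 := d14_1 D13262 F22036 (iv D12996) F17008 D10405
def n13263 : Q := act 2 n10407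
theorem D13263 : act 2 n10407 = n13263 := rfl
theorem F22547 : act 0 n13263 = n10412 := d1_1 D13263 (iv D10412) (iv F17409)
theorem F22548 : act 5 n13263 = n10415 := d11_2 (iv F17410) D13263 (iv D10415)
theorem F22549 : act 3 n13263 = n10485 := d15_1 D13263 (iv D10485) (iv D8119) (iv D6219) (iv D4685) (iv F7599) D6181 (iv F13379) (iv F17409)
def n13264 : Q := act 1 n10408
theorem D13264 : act 1 n10408 = n13264 := rfl
theorem F22550 : act 3 n13264 = n10448 := d6_2 (iv F17412) D13264 F17470
theorem F22551 : act 5 n13264 = n10446 := d8_2 (iv F17413) D13264 F17467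
def n13265 : Q := act 4 n10408
theorem D13265 : act 4 n10408 = n13265 := rfl
theorem F22552 : act 0 n13265 = n10463 := d3_1 D13265 (iv D10463) (iv F17411)
theorem F22553 : act 2 n13265 = n10409 := d10_1 D13265 (iv D10409) D10408
def n13266 : Q := act 3 n10409
theorem D13266 : act 3 n10409 = n13266 := rfl
theorem F22554 : act 4 n13266 = n10410 := d12_2 D10409 D13266 (iv D10410) (iv D8063) D8062
def n13267 : Q := act 5 n10409
theorem D13267 : act 5 n10409 = n13267 := rfl
def n13268 : Q := act 2 n10410
theorem D13268 : act 2 n10410 = n13268 := rfl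
def n13269 : Q := act 5 n10410
theorem D13269 : act 5 n10410 = n13269 := rfl
theorem F22555 : act 1 n13269 = n11742 := d8_1 D13269 (iv F22053) F22052
theorem F22556 : act 3 n13269 = n10411 := d13_1 D13269 (iv D10411) D10410
def n13270 : Q := act 3 n10412
theorem D13270 : act 3 n10412 = n13270 := rfl
theorem F22557 : act 0 n13270 = n10485 := d2_1 D13270 (iv F22549) F22547
theorem F22558 : act 1 n13270 = n10568 := d6_1 D13270 (iv D10568) (iv F17417)
theorem F22559 : act 5 n13270 = n10421 := d13_2 (iv F17418) D13270 (iv D10421)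
theorem F22560 : act 2 n13270 = n10476 := d15_2 D10412 D13270 (iv D10476) (iv D8113) (iv D6215) (iv F10185) D8068 (iv F17410) F17409
def n13271 : Q := act 2 n10413
theorem D13271 : act 2 n10413 = n13271 := rfl
theorem F22561 : act 0 n13271 = n10418 := d1_1 D13271 (iv D10418) (iv F17419)
theorem F22562 : act 4 n13271 = n10493 := d10_2 (iv F17420) D13271 (iv D10493)
def n13272 : Q := act 5 n10413
theorem D13272 : act 5 n10413 = n13272 := rfl
theorem F22563 : act 0 n13272 = n10419 := d4_1 D13272 (iv D10419) (iv F17419)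
theorem F22564 : act 3 n13272 = n10414 := d13_1 D13272 (iv D10414) D10413
def n13273 : Q := act 1 n10415
theorem D13273 : act 1 n10415 = n13273 := rfl
def n13274 : Q := act 3 n10415
theorem D13274 : act 3 n10415 = n13274 := rfl
theorem F22565 : act 0 n13274 = n10421 := d2_1 D13274 (iv D10421) (iv F17423)
theorem F22566 : act 2 n13274 = n10470 := d9_1 D13274 (iv D10470) (iv D8108) (iv D6206) (iv F10172) D8065 D10412 D13270 F22560 (iv D10476) (iv D8113) (iv D6215) (iv F10185) D8068 D10415
theorem F22567 : act 5 n13274 = n10485 := d13_2 F22548 D13274 (iv F22549)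
def n13275 : Q := act 2 n10416
theorem D13275 : act 2 n10416 = n13275 := rfl
theorem F22568 : act 0 n13275 = n10493 := d1_1 D13275 (iv D10493) (iv F17424)
theorem F22569 : act 4 n13275 = n10418 := d10_2 (iv F17426) D13275 (iv D10418)
theorem F22570 : act 3 n13275 = n12838 := d15_1 D13275 F21675 F16770 F12807 (iv F10279) (iv F13474) (iv F17548) (iv D10494) (iv F17424)
theorem F22571 : act 5 n12837 = n13275 := d13_0 F22570 (iv D12838) D12837
def n13276 : Q := act 5 n10416
theorem D13276 : act 5 n10416 = n13276 := rfl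
theorem F22572 : act 0 n13276 = n10494 := d4_1 D13276 (iv D10494) (iv F17424)
theorem F22573 : act 1 n13276 = n11877 := d8_1 D13276 (iv D11877) (iv F17425)
theorem F22574 : act 2 n13276 = n12837 := d11_1 D13276 F22571 (iv D13275)
theorem F22575 : act 3 n13276 = n10417 := d13_1 D13276 (iv D10417) D10416
def n13277 : Q := act 1 n10418
theorem D13277 : act 1 n10418 = n13277 := rfl
theorem F22576 : act 2 n13277 = n11875 := d5_2 D10418 D13277 (iv D11875) (iv D9241) (iv F13388)
def n13278 : Q := act 3 n10418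
theorem D13278 : act 3 n10418 = n13278 := rfl
def n13279 : Q := act 5 n10418
theorem D13279 : act 5 n10418 = n13279 := rfl
theorem F22577 : act 2 n13279 = n10419 := d11_1 D13279 (iv D10419) D10418
def n13280 : Q := act 4 n10419
theorem D13280 : act 4 n10419 = n13280 := rfl
theorem F22578 : act 1 n13280 = n11878 := d7_1 D13280 (iv D11878) (iv F17430)
def n13281 : Q := act 0 n10420
theorem D13281 : act 0 n10420 = n13281 := rfl
theorem F22579 : act 2 n13281 = n10422 := d1_2 (iv F17432) D13281 (iv D10422)
theorem F22580 : act 5 n13281 = n10567 := d4_2 (iv F17433) D13281 F17684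
def n13282 : Q := act 3 n10420
theorem D13282 : act 3 n10420 = n13282 := rfl
theorem F22581 : act 1 n13282 = n10421 := d6_1 D13282 (iv D10421) D10420
theorem F22582 : act 5 n13282 = n10568 := d13_2 (iv F17433) D13282 (iv D10568)
def n13283 : Q := act 2 n10421
theorem D13283 : act 2 n10421 = n13283 := rfl
theorem F22583 : act 0 n13283 = n10470 := d1_1 D13283 (iv F22566) F22565
theorem F22584 : act 3 n13283 = n10455 := d9_2 D10421 D13283 (iv D10455) (iv D8096) (iv F13372) D10407 D13263 F22549 (iv D10485) (iv D8119) (iv D6219) (iv D4685) (iv F7599) D6181 D8072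
theorem F22585 : act 5 n13283 = n10476 := d11_2 F22559 D13283 (iv F22560)
def n13284 : Q := act 4 n10421
theorem D13284 : act 4 n10421 = n13284 := rfl
def n13285 : Q := act 1 n10423
theorem D13285 : act 1 n10423 = n13285 := rfl
def n13286 : Q := act 4 n10423
theorem D13286 : act 4 n10423 = n13286 := rfl
theorem F22586 : act 0 n13286 = n10428 := d3_1 D13286 (iv D10428) (iv F17436)
theorem F22587 : act 2 n13286 = n10424 := d10_1 D13286 (iv D10424) D10423
def n13287 : Q := act 5 n10423
theorem D13287 : act 5 n10423 = n13287 := rfl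
theorem F22588 : act 0 n13287 = n10426 := d4_1 D13287 (iv F17441) (iv F17436)
theorem F22589 : act 2 n13287 = n10425 := d11_1 D13287 (iv D10425) D10423
theorem F22590 : act 3 n13287 = n10440 := d13_1 D13287 (iv F22526) F22527
def n13288 : Q := act 5 n10424
theorem D13288 : act 5 n10424 = n13288 := rfl
theorem F22591 : act 0 n13288 = n10429 := d4_1 D13288 (iv D10429) (iv F17437)
def n13289 : Q := act 4 n10425
theorem D13289 : act 4 n10425 = n13289 := rfl
theorem F22592 : act 0 n13289 = n10430 := d3_1 D13289 (iv D10430) (iv F17438)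
def n13290 : Q := act 3 n10426
theorem D13290 : act 3 n10426 = n13290 := rfl
theorem F22593 : act 0 n13290 = n10440 := d2_1 D13290 (iv F22590) F22588
theorem F22594 : act 1 n13290 = n10427 := d6_1 D13290 (iv D10427) D10426
theorem F22595 : act 2 n13290 = n10436 := d9_1 D13290 (iv D10436) (iv D8083) (iv D6189) (iv F10195) D8074 D10423 (iv F22527) (iv D13252) (iv D10395) F13345 F10145 (iv F10198) (iv F13398) (iv F17440)
theorem F22596 : act 5 n13290 = n10427 := d13_2 F17441 D13290 (iv D10427)
def n13291 : Q := act 4 n10426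
theorem D13291 : act 4 n10426 = n13291 := rfl
theorem F22597 : act 1 n13291 = n10428 := d7_1 D13291 (iv D10428) D10426
theorem F22598 : act 2 n13291 = n10430 := d10_1 D13291 (iv D10430) (iv F17440)
def n13292 : Q := act 4 n10427
theorem D13292 : act 4 n10427 = n13292 := rfl
def n13293 : Q := act 3 n10428
theorem D13293 : act 3 n10428 = n13293 := rfl
def n13294 : Q := act 5 n10428
theorem D13294 : act 5 n10428 = n13294 := rfl
theorem F22599 : act 2 n13294 = n10429 := d11_1 D13294 (iv D10429) (iv F17442)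
def n13295 : Q := act 4 n10429
theorem D13295 : act 4 n10429 = n13295 := rfl
theorem F22600 : act 1 n13295 = n10433 := d7_1 D13295 F17448 (iv F17443)
theorem F22601 : act 5 n13295 = n10430 := d14_2 D10429 D13295 (iv D10430) (iv D8078) D8077
def n13296 : Q := act 3 n10430
theorem D13296 : act 3 n10430 = n13296 := rfl
theorem F22602 : act 1 n13296 = n10432 := d6_1 D13296 (iv D10432) (iv F17444)
theorem F22603 : act 4 n13296 = n10431 := d12_2 D10430 D13296 (iv D10431) (iv D8079) (iv F13398)
def n13297 : Q := act 2 n10431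
theorem D13297 : act 2 n10431 = n13297 := rfl
def n13298 : Q := act 2 n10432
theorem D13298 : act 2 n10432 = n13298 := rfl
theorem F22604 : act 4 n13298 = n10434 := d10_2 (iv F17446) D13298 (iv D10434)
def n13299 : Q := act 5 n10432
theorem D13299 : act 5 n10432 = n13299 := rfl
theorem F22605 : act 3 n13299 = n10433 := d13_1 D13299 (iv D10433) D10432
theorem F22606 : act 4 n13299 = n12942 := d14_1 D13299 (iv D12942) F16885 F16857 (iv F17446)
def n13300 : Q := act 1 n10434
theorem D13300 : act 1 n10434 = n13300 := rfl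
def n13301 : Q := act 3 n10435
theorem D13301 : act 3 n10435 = n13301 := rfl
theorem F22607 : act 1 n13301 = n10436 := d6_1 D13301 (iv D10436) D10435
def n13302 : Q := act 4 n10435
theorem D13302 : act 4 n10435 = n13302 := rfl
theorem F22608 : act 1 n13302 = n10437 := d7_1 D13302 (iv D10437) D10435
def n13303 : Q := act 4 n10436
theorem D13303 : act 4 n10436 = n13303 := rfl
theorem F22609 : act 0 n13303 = n10441 := d3_1 D13303 (iv D10441) (iv F17449)
def n13304 : Q := act 3 n10437
theorem D13304 : act 3 n10437 = n13304 := rfl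
theorem F22610 : act 0 n13304 = n10442 := d2_1 D13304 (iv D10442) (iv F17450)
def n13305 : Q := act 5 n10437
theorem D13305 : act 5 n10437 = n13305 := rfl
theorem F22611 : act 0 n13305 = n10443 := d4_1 D13305 (iv D10443) (iv F17450)
theorem F22612 : act 2 n13305 = n10438 := d11_1 D13305 (iv D10438) (iv F17451)
theorem F22613 : act 4 n13305 = n10566 := d14_1 D13305 F17683 (iv F17382) F17383 D10437
def n13306 : Q := act 2 n10439
theorem D13306 : act 2 n10439 = n13306 := rfl
theorem F22614 : act 0 n13306 = n10444 := d1_1 D13306 (iv D10444) (iv F17456)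
theorem F22615 : act 1 n13306 = n12369 := d5_1 D13306 F20895 (iv F19835) F19837 (iv F17457)
theorem F22616 : act 4 n13306 = n10588 := d10_2 (iv F17458) D13306 (iv D10588)
theorem F22617 : act 5 n13306 = n12039 := d11_2 (iv F17459) D13306 F20287
def n13307 : Q := act 1 n10440
theorem D13307 : act 1 n10440 = n13307 := rfl
def n13308 : Q := act 4 n10440
theorem D13308 : act 4 n10440 = n13308 := rfl
theorem F22618 : act 2 n13308 = n10441 := d10_1 D13308 (iv D10441) D10440
def n13309 : Q := act 3 n10441
theorem D13309 : act 3 n10441 = n13309 := rfl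
theorem F22619 : act 4 n13309 = n10442 := d12_2 D10441 D13309 (iv D10442) (iv D8087) D8086
def n13311 : Q := act 2 n10442
theorem D13311 : act 2 n10442 = n13311 := rfl
def n13312 : Q := act 5 n10442
theorem D13312 : act 5 n10442 = n13312 := rfl
theorem F22620 : act 1 n13312 = n10565 := d8_1 D13312 (iv F22530) F22529
theorem F22621 : act 3 n13312 = n10443 := d13_1 D13312 (iv D10443) D10442
def n13313 : Q := act 3 n10444
theorem D13313 : act 3 n10444 = n13313 := rfl
theorem F22622 : act 1 n13313 = n11739 := d6_1 D13313 (iv D11739) (iv F17463)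
theorem F22623 : act 5 n13313 = n12044 := d13_2 (iv F17465) D13313 (iv D12044)
def n13314 : Q := act 4 n10445
theorem D13314 : act 4 n10445 = n13314 := rfl
theorem F22624 : act 0 n13314 = n10447 := d3_1 D13314 (iv D10447) D10445
theorem F22625 : act 1 n13314 = n10456 := d7_1 D13314 (iv D10456) (iv F17466)
theorem F22626 : act 2 n13314 = n10577 := d10_1 D13314 (iv F22512) F22511
theorem F22627 : act 3 n11747 = n13314 := d15_3 (iv F11639) D9138 D11747 F22626 F17700 F13611 D8208 F13614 (iv D7017)
theorem F22628 : act 5 n11879 = n13314 := d8_0 F22625 (iv F17490) D11879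
def n13315 : Q := act 4 n10446
theorem D13315 : act 4 n10446 = n13315 := rfl
theorem F22629 : act 1 n13315 = n10449 := d7_1 D13315 (iv D10449) (iv F17467)
def n13316 : Q := act 3 n10447
theorem D13316 : act 3 n10447 = n13316 := rfl
theorem F22630 : act 0 n13316 = n11747 := d2_1 D13316 F22627 F22624
theorem F22631 : act 1 n13316 = n10450 := d6_1 D13316 (iv D10450) (iv F17468)
theorem F22632 : act 2 n13316 = n11746 := d15_4 (iv F10374) (iv F13599) (iv F17469) D13316 (iv D11746) F15227 (iv F13584) F13585 (iv D6290)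
def n13317 : Q := act 5 n10447
theorem D13317 : act 5 n10447 = n13317 := rfl
theorem F22633 : act 0 n13317 = n11879 := d4_1 D13317 F22628 F22624
theorem F22634 : act 1 n13317 = n10451 := d8_1 D13317 (iv D10451) (iv F17468)
theorem F22635 : act 2 n13317 = n10548 := d11_1 D13317 F17657 (iv F17469)
def n13318 : Q := act 4 n10448
theorem D13318 : act 4 n10448 = n13318 := rfl
theorem F22636 : act 1 n13318 = n10452 := d7_1 D13318 (iv D10452) (iv F17470)
def n13319 : Q := act 3 n10449
theorem D13319 : act 3 n10449 = n13319 := rfl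
theorem F22637 : act 0 n13319 = n10461 := d2_1 D13319 (iv D10461) (iv F17471)
theorem F22638 : act 4 n13319 = n10450 := d12_2 D10449 D13319 (iv D10450) (iv D8092) D8091
theorem F22639 : act 2 n12840 = n13319 := d10_3 F22638 F17473 D12840
def n13320 : Q := act 5 n10449
theorem D13320 : act 5 n10449 = n13320 := rfl
theorem F22640 : act 0 n13320 = n10462 := d4_1 D13320 (iv D10462) (iv F17471)
def n13321 : Q := act 5 n10450
theorem D13321 : act 5 n10450 = n13321 := rfl
theorem F22641 : act 0 n13321 = n10465 := d4_1 D13321 (iv D10465) (iv F17472)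
theorem F22642 : act 2 n13321 = n10482 := d11_1 D13321 F17534 (iv F17473)
theorem F22643 : act 3 n13321 = n10451 := d13_1 D13321 (iv D10451) D10450
def n13322 : Q := act 4 n10451
theorem D13322 : act 4 n10451 = n13322 := rfl
theorem F22644 : act 0 n13322 = n10466 := d3_1 D13322 (iv D10466) (iv F17474)
theorem F22645 : act 2 n13322 = n10453 := d10_1 D13322 (iv D10453) (iv F17475)
theorem F22646 : act 5 n13322 = n10452 := d14_2 D10451 D13322 (iv D10452) (iv D8093) D8092
def n13323 : Q := act 3 n10452
theorem D13323 : act 3 n10452 = n13323 := rfl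
theorem F22647 : act 0 n13323 = n10467 := d2_1 D13323 (iv D10467) (iv F17476)
def n13324 : Q := act 2 n10454
theorem D13324 : act 2 n10454 = n13324 := rfl
theorem F22648 : act 0 n13324 = n10468 := d1_1 D13324 (iv D10468) (iv F17482)
theorem F22649 : act 4 n13324 = n10455 := d10_2 (iv F17484) D13324 (iv D10455)
theorem F22650 : act 5 n13324 = n10508 := d11_2 (iv F17485) D13324 F17588
def n13325 : Q := act 1 n10455
theorem D13325 : act 1 n10455 = n13325 := rfl
theorem F22651 : act 2 n13325 = n10541 := d5_2 D10455 D13325 F17640 F13553 (iv F13422)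
theorem F22652 : act 5 n13325 = n10475 := d8_2 (iv F17487) D13325 (iv D10475)
def n13326 : Q := act 3 n10456
theorem D13326 : act 3 n10456 = n13326 := rfl
theorem F22653 : act 0 n13326 = n10458 := d2_1 D13326 (iv D10458) (iv F17488)
theorem F22654 : act 1 n13326 = n11747 := d6_1 D13326 F22627 F22625
theorem F22655 : act 2 n13326 = n11749 := d9_1 D13326 F19781 (iv D9238) (iv D7093) F8886 D5398 D7099 D9246 D11882 F19994 F16072 (iv F15344) F15343 F13442 (iv F17489)
theorem F22656 : act 5 n13326 = n11880 := d13_2 F17490 D13326 (iv D11880)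
def n13327 : Q := act 3 n10457
theorem D13327 : act 3 n10457 = n13327 := rfl
theorem F22657 : act 1 n13327 = n10461 := d6_1 D13327 (iv D10461) (iv F17491)
theorem F22658 : act 4 n13327 = n10458 := d12_2 D10457 D13327 (iv D10458) (iv D8099) D8098
def n13328 : Q := act 5 n10457
theorem D13328 : act 5 n10457 = n13328 := rfl
theorem F22659 : act 1 n13328 = n10462 := d8_1 D13328 (iv D10462) (iv F17491)
def n13329 : Q := act 2 n10458
theorem D13329 : act 2 n10458 = n13329 := rfl
theorem F22660 : act 0 n13329 = n11749 := d1_1 D13329 (iv F22655) F22653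
theorem F22661 : act 3 n13329 = n11871 := d9_2 D10458 D13329 (iv D11871) (iv D9237) F11752 D7098 D9244 D11880 F19990 (iv D9612) F12287 (iv F11712) F11711 F10232 (iv F13427)
theorem F22662 : act 5 n13329 = n11882 := d11_2 (iv F17493) D13329 (iv D11882)
def n13330 : Q := act 4 n10459
theorem D13330 : act 4 n10459 = n13330 := rfl

end Cfsg.Agent.Helper17.ONS1TC
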