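import Cfsg.Agent.Helper17.ONS1TC.Facts3

set_option autoImplicit false
set_option linter.all false

noncomputable section

namespace Cfsg.Agent.Helper17.ONS1TC

theorem F22663 : act 1 n13330 = n10460 := d7_1 D13330 (iv D10460) D10459
def n13331 : Q := act 3 n10460
theorem D13331 : act 3 n10460 = n13331 := rfl
def n13332 : Q := act 5 n10460
theorem D13332 : act 5 n10460 = n13332 := rfl
theorem F22664 : act 2 n13332 = n10462 := d11_1 D13332 (iv D10462) (iv F17494)
def n13333 : Q := act 2 n10461
theorem D13333 : act 2 n10461 = n13333 := rfl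
theorem F22665 : act 0 n13333 = n12840 := d1_1 D13333 F22639 F22637
theorem F22666 : act 4 n13333 = n10464 := d10_2 (iv F17495) D13333 (iv D10464)
def n13334 : Q := act 5 n10461
theorem D13334 : act 5 n10461 = n13334 := rfl
theorem F22667 : act 3 n13334 = n10462 := d13_1 D13334 (iv D10462) D10461
def n13335 : Q := act 4 n10462
theorem D13335 : act 4 n10462 = n13335 := rfl
theorem F22668 : act 5 n13335 = n10463 := d14_2 D10462 D13335 (iv D10463) (iv D8102) D8101
def n13336 : Q := act 3 n10463
theorem D13336 : act 3 n10463 = n13336 := rfl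
theorem F22669 : act 4 n13336 = n10467 := d12_2 D10463 D13336 (iv D10467) (iv D8105) (iv F13429)
def n13337 : Q := act 1 n10464
theorem D13337 : act 1 n10464 = n13337 := rfl
theorem F22670 : act 3 n13337 = n12831 := d6_2 (iv F17497) D13337 (iv D12831)
def n13338 : Q := act 5 n10464
theorem D13338 : act 5 n10464 = n13338 := rfl
theorem F22671 : act 0 n13338 = n10482 := d4_1 D13338 F17534 (iv F17496)
theorem F22672 : act 2 n13338 = n10465 := d11_1 D13338 (iv D10465) D10464
theorem F22673 : act 3 n13338 = n10474 := d13_1 D13338 F17520 (iv F17497)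
def n13339 : Q := act 4 n10465
theorem D13339 : act 4 n10465 = n13339 := rfl
theorem F22674 : act 1 n13339 = n11883 := d7_1 D13339 (iv D11883) (iv F17498)
def n13340 : Q := act 3 n10466
theorem D13340 : act 3 n10466 = n13340 := rfl
theorem F22675 : act 1 n13340 = n11884 := d6_1 D13340 (iv D11884) (iv F17500)
theorem F22676 : act 5 n13340 = n10467 := d13_2 (iv F17502) D13340 (iv D10467)
def n13341 : Q := act 2 n10467
theorem D13341 : act 2 n10467 = n13341 := rfl
def n13342 : Q := act 3 n10468
theorem D13342 : act 3 n10468 = n13342 := rfl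
theorem F22677 : act 1 n13342 = n10537 := d6_1 D13342 F17635 (iv F17503)
theorem F22678 : act 5 n13342 = n10514 := d13_2 (iv F17505) D13342 (iv D10514)
def n13343 : Q := act 0 n10469
theorem D13343 : act 0 n10469 = n13343 := rfl
theorem F22679 : act 2 n13343 = n10471 := d1_2 (iv F17506) D13343 (iv D10471)
theorem F22680 : act 4 n13343 = n10530 := d3_2 (iv F17507) D13343 F17625
theorem F22681 : act 5 n13343 = n10483 := d4_2 (iv F17508) D13343 (iv D10483)
def n13344 : Q := act 3 n10469
theorem D13344 : act 3 n10469 = n13344 := rfl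
theorem F22682 : act 1 n13344 = n10470 := d6_1 D13344 (iv D10470) D10469
theorem F22683 : act 5 n13344 = n10484 := d13_2 (iv F17508) D13344 (iv D10484)
def n13345 : Q := act 4 n10470
theorem D13345 : act 4 n10470 = n13345 := rfl
def n13346 : Q := act 2 n10472
theorem D13346 : act 2 n10472 = n13346 := rfl
theorem F22684 : act 0 n13346 = n10479 := d1_1 D13346 (iv D10479) (iv F17513)
theorem F22685 : act 4 n13346 = n10474 := d10_2 (iv F17515) D13346 (iv D10474)
def n13347 : Q := act 5 n10472
theorem D13347 : act 5 n10472 = n13347 := rfl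
theorem F22686 : act 0 n13347 = n10480 := d4_1 D13347 (iv D10480) (iv F17513)
theorem F22687 : act 1 n13347 = n11328 := d8_1 D13347 (iv D11328) (iv F17514)
theorem F22688 : act 3 n13347 = n10473 := d13_1 D13347 (iv D10473) D10472
theorem F22689 : act 4 n13347 = n11641 := d14_1 D13347 (iv D11641) F15031 (iv F13450) (iv F17515)
def n13348 : Q := act 1 n10474
theorem D13348 : act 1 n10474 = n13348 := rfl
theorem F22690 : act 2 n13348 = n11670 := d5_2 D10474 D13348 (iv D11670) (iv D9064) (iv F13449)
theorem F22691 : act 5 n13348 = n12831 := d8_2 (iv F17520) D13348 (iv D12831)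
def n13349 : Q := act 0 n10475
theorem D13349 : act 0 n10475 = n13349 := rfl
theorem F22692 : act 1 n13349 = n10483 := d0_2 D10475 D13349 (iv D10483) (iv D8118) (iv F13451)
theorem F22693 : act 2 n13349 = n10539 := d1_2 (iv F17521) D13349 F17636
theorem F22694 : act 4 n13349 = n10504 := d3_2 (iv F17522) D13349 (iv D10504)
def n13350 : Q := act 3 n10475
theorem D13350 : act 3 n10475 = n13350 := rfl
theorem F22695 : act 1 n13350 = n10476 := d6_1 D13350 (iv D10476) D10475
def n13351 : Q := act 4 n10476
theorem D13351 : act 4 n10476 = n13351 := rfl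
theorem F22696 : act 0 n13351 = n10486 := d3_1 D13351 (iv D10486) (iv F17523)
theorem F22697 : act 3 n13351 = n10507 := d12_1 D13351 (iv D10507) (iv D8138) (iv F13452) D10476
def n13352 : Q := act 2 n10477
theorem D13352 : act 2 n10477 = n13352 := rfl
def n13353 : Q := act 5 n10477
theorem D13353 : act 5 n10477 = n13353 := rfl
theorem F22698 : act 1 n13353 = n10649 := d8_1 D13353 (iv D10649) (iv F17524)
theorem F22699 : act 3 n13353 = n10478 := d13_1 D13353 (iv D10478) D10477
def n13354 : Q := act 1 n10479
theorem D13354 : act 1 n10479 = n13354 := rfl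
theorem F22700 : act 2 n13354 = n10501 := d5_2 D10479 D13354 (iv D10501) (iv D8135) (iv F13455)
theorem F22701 : act 4 n13354 = n10481 := d7_2 (iv F17528) D13354 (iv D10481)
def n13355 : Q := act 3 n10479
theorem D13355 : act 3 n10479 = n13355 := rfl
def n13356 : Q := act 5 n10479
theorem D13356 : act 5 n10479 = n13356 := rfl
theorem F22702 : act 2 n13356 = n10480 := d11_1 D13356 (iv D10480) D10479
theorem F22703 : act 4 n13356 = n11644 := d14_1 D13356 (iv D11644) F15035 (iv F13459) (iv F17528)
def n13357 : Q := act 0 n10481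
theorem D13357 : act 0 n10481 = n13357 := rfl
theorem F22704 : act 2 n13357 = n10503 := d1_2 (iv F17532) D13357 (iv D10503)
theorem F22705 : act 5 n13357 = n11668 := d4_2 (iv F17533) D13357 F19619
theorem F22706 : act 3 n12372 = n13357 := d15_7 (iv D9063) (iv D6955) F8676 D5653 D7434 D9650 D12372 F22705 F19619
def n13358 : Q := act 3 n10481
theorem D13358 : act 3 n10481 = n13358 := rfl
theorem F22707 : act 0 n13358 = n12372 := d2_1 D13358 F22706 (iv D13357)
theorem F22708 : act 1 n13358 = n10482 := d6_1 D13358 (iv D10482) D10481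
theorem F22709 : act 5 n13358 = n11669 := d13_2 (iv F17533) D13358 (iv D11669)
theorem F22710 : act 2 n13358 = n12368 := d15_2 (iv F17532) D13358 (iv D12368) (iv D9647) (iv D7432) (iv F11527) D9062 (iv F17572) (iv D10503)
def n13359 : Q := act 4 n10482
theorem D13359 : act 4 n10482 = n13359 := rfl
def n13360 : Q := act 3 n10483
theorem D13360 : act 3 n10483 = n13360 := rfl
theorem F22711 : act 0 n13360 = n10484 := d2_1 D13360 (iv D10484) D10483
theorem F22712 : act 4 n13360 = n12799 := d12_2 (iv F17536) D13360 (iv D12799) (iv D10023) F13506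
def n13361 : Q := act 2 n10484
theorem D13361 : act 2 n10484 = n13361 := rfl
def n13362 : Q := act 4 n10484
theorem D13362 : act 4 n10484 = n13362 := rfl
theorem F22713 : act 0 n13362 = n12799 := d3_1 D13362 (iv F22712) F22711
theorem F22714 : act 1 n13362 = n10486 := d7_1 D13362 (iv D10486) (iv F17537)
theorem F22715 : act 3 n13362 = n10509 := d12_1 D13362 (iv D10509) (iv D8142) (iv F13461) D10484
def n13363 : Q := act 1 n10485
theorem D13363 : act 1 n10485 = n13363 := rfl
def n13364 : Q := act 4 n10485
theorem D13364 : act 4 n10485 = n13364 := rfl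
theorem F22716 : act 2 n13364 = n10486 := d10_1 D13364 (iv D10486) D10485
def n13365 : Q := act 5 n10486
theorem D13365 : act 5 n10486 = n13365 := rfl
theorem F22717 : act 3 n13365 = n10512 := d13_1 D13365 (iv D10512) (iv F17538)
def n13366 : Q := act 2 n10487
theorem D13366 : act 2 n10487 = n13366 := rfl
theorem F22718 : act 0 n13366 = n10488 := d1_1 D13366 (iv D10488) (iv F17539)
theorem F22719 : act 4 n13366 = n10531 := d10_2 (iv F17541) D13366 (iv D10531)
def n13367 : Q := act 3 n10488
theorem D13367 : act 3 n10488 = n13367 := rfl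
def n13368 : Q := act 1 n10489
theorem D13368 : act 1 n10489 = n13368 := rfl
def n13369 : Q := act 3 n10489
theorem D13369 : act 3 n10489 = n13369 := rfl
theorem F22720 : act 0 n13369 = n10490 := d2_1 D13369 (iv D10490) (iv F17543)
def n13370 : Q := act 2 n10490
theorem D13370 : act 2 n10490 = n13370 := rfl
def n13371 : Q := act 4 n10490
theorem D13371 : act 4 n10490 = n13371 := rfl
def n13372 : Q := act 2 n10491
theorem D13372 : act 2 n10491 = n13372 := rfl
def n13373 : Q := act 5 n10491
theorem D13373 : act 5 n10491 = n13373 := rfl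
theorem F22721 : act 1 n13373 = n10494 := d8_1 D13373 (iv D10494) (iv F17544)
theorem F22722 : act 3 n13373 = n10492 := d13_1 D13373 (iv D10492) D10491
def n13374 : Q := act 1 n10493
theorem D13374 : act 1 n10493 = n13374 := rfl
def n13375 : Q := act 3 n10493
theorem D13375 : act 3 n10493 = n13375 := rfl
theorem F22723 : act 0 n13375 = n12838 := d2_1 D13375 (iv F22570) F22568
theorem F22724 : act 2 n13375 = n12830 := d9_1 D13375 F21670 F16766 (iv F13471) (iv F17429) (iv F22575) F22574 (iv D12837) (iv D10055) (iv D7762) F9693 (iv F7651) (iv F10277) D8127 D10493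
theorem F22725 : act 5 n13375 = n12829 := d15_8 (iv D10055) (iv D7762) F9693 (iv F7651) (iv F10277) D8127 D10493 D13375 F21668
def n13376 : Q := act 5 n10493
theorem D13376 : act 5 n10493 = n13376 := rfl
theorem F22726 : act 0 n13376 = n12837 := d4_1 D13376 F22571 F22568
theorem F22727 : act 2 n13376 = n10494 := d11_1 D13376 (iv D10494) D10493
theorem F22728 : act 3 n13376 = n12829 := d13_1 D13376 (iv F22725) (iv D13375)
def n13377 : Q := act 4 n10494
theorem D13377 : act 4 n10494 = n13377 := rfl
def n13378 : Q := act 2 n10495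
theorem D13378 : act 2 n10495 = n13378 := rfl
theorem F22729 : act 0 n13378 = n10497 := d1_1 D13378 (iv D10497) (iv F17549)
theorem F22730 : act 4 n13378 = n10644 := d10_2 (iv F17551) D13378 (iv D10644)
def n13379 : Q := act 5 n10495
theorem D13379 : act 5 n10495 = n13379 := rfl
theorem F22731 : act 0 n13379 = n10498 := d4_1 D13379 (iv D10498) (iv F17549)
theorem F22732 : act 1 n13379 = n11252 := d8_1 D13379 (iv D11252) (iv F17550)
theorem F22733 : act 3 n13379 = n10496 := d13_1 D13379 (iv D10496) D10495
def n13380 : Q := act 1 n10497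
theorem D13380 : act 1 n10497 = n13380 := rfl
theorem F22734 : act 2 n13380 = n10499 := d5_2 D10497 D13380 (iv D10499) (iv D8132) (iv F13477)
theorem F22735 : act 4 n13380 = n10645 := d7_2 (iv F17555) D13380 (iv D10645)
theorem F22736 : act 5 n12886 = n13380 := d11_0 F22734 F17560 D12886
def n13381 : Q := act 3 n10497
theorem D13381 : act 3 n10497 = n13381 := rfl
def n13382 : Q := act 5 n10497
theorem D13382 : act 5 n10497 = n13382 := rfl
theorem F22737 : act 1 n13382 = n12886 := d8_1 D13382 F22736 (iv D13380)
theorem F22738 : act 2 n13382 = n10498 := d11_1 D13382 (iv D10498) D10497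
def n13383 : Q := act 0 n10499
theorem D13383 : act 0 n10499 = n13383 := rfl
theorem F22739 : act 1 n13383 = n11336 := d0_2 D10499 D13383 (iv D11336) (iv D8806) (iv F13481)
theorem F22740 : act 3 n13383 = n12885 := d2_2 (iv F17558) D13383 F21764
theorem F22741 : act 4 n13383 = n10647 := d3_2 (iv F17559) D13383 (iv D10647)
theorem F22742 : act 5 n13383 = n12884 := d4_2 (iv F17560) D13383 F21763
def n13384 : Q := act 1 n10500
theorem D13384 : act 1 n10500 = n13384 := rfl
theorem F22743 : act 3 n13384 = n10643 := d6_2 (iv F17562) D13384 F17816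
theorem F22744 : act 4 n13384 = n10640 := d7_2 (iv F17563) D13384 F17810
theorem F22745 : act 5 n13384 = n10501 := d8_2 (iv F17564) D13384 (iv D10501)
def n13385 : Q := act 0 n10501
theorem D13385 : act 0 n10501 = n13385 := rfl
theorem F22746 : act 1 n13385 = n11332 := d0_2 D10501 D13385 (iv D11332) (iv D8802) (iv F13491)
theorem F22747 : act 4 n13385 = n10503 := d3_2 (iv F17565) D13385 (iv D10503)
def n13386 : Q := act 3 n10501
theorem D13386 : act 3 n10501 = n13386 := rfl
theorem F22748 : act 1 n13386 = n10502 := d6_1 D13386 (iv D10502) D10501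
theorem F22749 : act 4 n13386 = n11335 := d12_2 (iv F17565) D13386 F19020 F15040 (iv F13493)
theorem F22750 : act 5 n13386 = n10643 := d13_2 F22745 D13386 (iv F22743)
def n13387 : Q := act 4 n10505
theorem D13387 : act 4 n10505 = n13387 := rfl
theorem F22751 : act 0 n13387 = n11902 := d3_1 D13387 (iv D11902) (iv F17577)
theorem F22752 : act 1 n13387 = n10507 := d7_1 D13387 (iv D10507) (iv F17578)
theorem F22753 : act 2 n13387 = n11630 := d10_1 D13387 (iv D11630) (iv F17579)
def n13388 : Q := act 4 n10506
theorem D13388 : act 4 n10506 = n13388 := rfl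
theorem F22754 : act 0 n13388 = n10527 := d3_1 D13388 (iv D10527) (iv F17581)
theorem F22755 : act 1 n13388 = n10508 := d7_1 D13388 (iv D10508) (iv F17582)
theorem F22756 : act 2 n13388 = n10542 := d10_1 D13388 (iv D10542) (iv F17583)
def n13389 : Q := act 5 n10507
theorem D13389 : act 5 n10507 = n13389 := rfl
theorem F22757 : act 0 n13389 = n10512 := d4_1 D13389 (iv D10512) (iv F17585)
theorem F22758 : act 2 n13389 = n11627 := d11_1 D13389 (iv D11627) (iv F17586)
theorem F22759 : act 4 n13389 = n12833 := d14_1 D13389 (iv D12833) (iv D10052) F13498 D10507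
def n13390 : Q := act 3 n10508
theorem D13390 : act 3 n10508 = n13390 := rfl
theorem F22760 : act 0 n13390 = n10514 := d2_1 D13390 (iv D10514) (iv F17587)
theorem F22761 : act 4 n13390 = n12832 := d12_2 D10508 D13390 (iv D12832) (iv D10052) (iv F13501)
def n13391 : Q := act 5 n10509
theorem D13391 : act 5 n10509 = n13391 := rfl
theorem F22762 : act 0 n13391 = n12800 := d4_1 D13391 (iv D12800) (iv F17589)
theorem F22763 : act 1 n13391 = n10512 := d8_1 D13391 (iv D10512) (iv F17590)
theorem F22764 : act 2 n13391 = n12794 := d11_1 D13391 (iv D12794) (iv F17591)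
theorem F22765 : act 4 n13391 = n10535 := d14_1 D13391 (iv D10535) (iv D8161) (iv F13509) D10509
def n13392 : Q := act 4 n10510
theorem D13392 : act 4 n10510 = n13392 := rfl
theorem F22766 : act 0 n13392 = n11614 := d3_1 D13392 (iv D11614) (iv F17592)
theorem F22767 : act 1 n13392 = n10511 := d7_1 D13392 (iv D10511) D10510
theorem F22768 : act 2 n13392 = n11906 := d10_1 D13392 (iv D11906) (iv F17593)
def n13393 : Q := act 3 n10511
theorem D13393 : act 3 n10511 = n13393 := rfl
theorem F22769 : act 0 n13393 = n11626 := d2_1 D13393 (iv D11626) (iv F17596)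
theorem F22770 : act 4 n13393 = n11624 := d12_2 D10511 D13393 (iv D11624) (iv D9026) (iv F13512)
def n13394 : Q := act 5 n10511
theorem D13394 : act 5 n10511 = n13394 := rfl
theorem F22771 : act 0 n13394 = n11627 := d4_1 D13394 (iv D11627) (iv F17596)
theorem F22772 : act 2 n13394 = n10512 := d11_1 D13394 (iv D10512) (iv F17597)
theorem F22773 : act 4 n13394 = n12828 := d14_1 D13394 (iv D12828) (iv D10048) F13513 D10511
def n13395 : Q := act 4 n10512
theorem D13395 : act 4 n10512 = n13395 := rfl
theorem F22774 : act 0 n13395 = n12833 := d3_1 D13395 (iv F22759) F22757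
theorem F22775 : act 1 n13395 = n10535 := d7_1 D13395 (iv F22765) F22763
theorem F22776 : act 2 n13395 = n12828 := d10_1 D13395 (iv F22773) F22772
theorem F22777 : act 5 n13395 = n10513 := d14_2 D10512 D13395 (iv D10513) (iv D8145) D8144
def n13396 : Q := act 3 n10513
theorem D13396 : act 3 n10513 = n13396 := rfl
theorem F22778 : act 0 n13396 = n12832 := d2_1 D13396 (iv D12832) (iv F17598)
theorem F22779 : act 1 n13396 = n10534 := d6_1 D13396 (iv D10534) (iv F17599)
theorem F22780 : act 4 n13396 = n10514 := d12_2 D10513 D13396 (iv D10514) (iv D8146) (iv F13517)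
def n13397 : Q := act 2 n10514
theorem D13397 : act 2 n10514 = n13397 := rfl
def n13398 : Q := act 0 n10515
theorem D13398 : act 0 n10515 = n13398 := rfl
theorem F22781 : act 1 n13398 = n10521 := d0_2 D10515 D13398 (iv D10521) (iv D8151) (iv F13520)
theorem F22782 : act 3 n13398 = n12009 := d2_2 (iv F17602) D13398 F20237
theorem F22783 : act 5 n13398 = n12008 := d4_2 (iv F17603) D13398 F20236
def n13399 : Q := act 0 n10517
theorem D13399 : act 0 n10517 = n13399 := rfl
theorem F22784 : act 4 n13399 = n10521 := d3_2 (iv F17606) D13399 (iv D10521)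
def n13400 : Q := act 3 n10517
theorem D13400 : act 3 n10517 = n13400 := rfl
theorem F22785 : act 1 n13400 = n10518 := d6_1 D13400 (iv D10518) D10517
def n13401 : Q := act 5 n10517
theorem D13401 : act 5 n10517 = n13401 := rfl
theorem F22786 : act 1 n13401 = n10519 := d8_1 D13401 (iv D10519) D10517
def n13402 : Q := act 4 n10518
theorem D13402 : act 4 n10518 = n13402 := rfl
theorem F22787 : act 0 n13402 = n12014 := d3_1 D13402 F20244 F19337
theorem F22788 : act 3 n13402 = n10524 := d12_1 D13402 (iv D10524) (iv D8152) (iv F13526) D10518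
def n13403 : Q := act 4 n10519
theorem D13403 : act 4 n10519 = n13403 := rfl
theorem F22789 : act 0 n13403 = n12013 := d3_1 D13403 F20243 F19338
theorem F22790 : act 2 n13403 = n10520 := d10_1 D13403 (iv D10520) (iv F17607)
theorem F22791 : act 5 n13403 = n10525 := d14_2 D10519 D13403 (iv D10525) (iv D8153) (iv F13526)
def n13404 : Q := act 3 n10521
theorem D13404 : act 3 n10521 = n13404 := rfl
theorem F22792 : act 0 n13404 = n10522 := d2_1 D13404 (iv D10522) D10521
theorem F22793 : act 1 n13404 = n12009 := d6_1 D13404 (iv F22782) F22781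
theorem F22794 : act 5 n11996 = n13404 := d8_0 F22793 (iv D12009) (iv F20225)
def n13405 : Q := act 5 n10521
theorem D13405 : act 5 n10521 = n13405 := rfl
theorem F22795 : act 0 n13405 = n10523 := d4_1 D13405 (iv D10523) D10521
theorem F22796 : act 1 n13405 = n12008 := d8_1 D13405 (iv F22783) F22781
theorem F22797 : act 3 n13405 = n11996 := d13_1 D13405 F22794 (iv D13404)
def n13406 : Q := act 4 n10522
theorem D13406 : act 4 n10522 = n13406 := rfl
theorem F22798 : act 1 n13406 = n10524 := d7_1 D13406 (iv D10524) (iv F17609)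
theorem F22799 : act 2 n13406 = n11033 := d10_1 D13406 (iv F21067) F21066
theorem F22800 : act 5 n13406 = n11032 := d14_2 F17610 D13406 (iv D11032) F18355 F18354
def n13407 : Q := act 4 n10523
theorem D13407 : act 4 n10523 = n13407 := rfl
theorem F22801 : act 1 n13407 = n10525 := d7_1 D13407 (iv D10525) (iv F17611)
def n13408 : Q := act 5 n10524
theorem D13408 : act 5 n10524 = n13408 := rfl
theorem F22802 : act 0 n13408 = n12007 := d4_1 D13408 F20235 (iv F17613)
theorem F22803 : act 1 n13408 = n11032 := d8_1 D13408 (iv F22800) F22798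
theorem F22804 : act 2 n13408 = n10938 := d11_1 D13408 F18362 (iv F17614)
theorem F22805 : act 4 n13408 = n10937 := d14_1 D13408 (iv D10937) F14119 (iv F13530) D10524
def n13409 : Q := act 3 n10525
theorem D13409 : act 3 n10525 = n13409 := rfl
theorem F22806 : act 0 n13409 = n12005 := d2_1 D13409 F20232 (iv F17615)
theorem F22807 : act 4 n13409 = n10936 := d12_2 D10525 D13409 (iv D10936) F14119 (iv F13533)
def n13410 : Q := act 4 n10526
theorem D13410 : act 4 n10526 = n13410 := rfl
theorem F22808 : act 0 n13410 = n11681 := d3_1 D13410 (iv D11681) (iv F17617)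
theorem F22809 : act 1 n13410 = n10528 := d7_1 D13410 (iv D10528) (iv F17618)
theorem F22810 : act 2 n13410 = n11680 := d10_1 D13410 (iv D11680) (iv F17619)
def n13411 : Q := act 3 n10527
theorem D13411 : act 3 n10527 = n13411 := rfl
theorem F22811 : act 1 n13411 = n10529 := d6_1 D13411 (iv D10529) (iv F17621)
def n13412 : Q := act 5 n10527
theorem D13412 : act 5 n10527 = n13412 := rfl
theorem F22812 : act 1 n13412 = n10530 := d8_1 D13412 (iv D10530) (iv F17621)
def n13413 : Q := act 3 n10528
theorem D13413 : act 3 n10528 = n13413 := rfl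
theorem F22813 : act 0 n13413 = n10534 := d2_1 D13413 (iv D10534) (iv F17622)
theorem F22814 : act 4 n13413 = n10529 := d12_2 D10528 D13413 (iv D10529) (iv D8157) D8156
def n13414 : Q := act 5 n10528
theorem D13414 : act 5 n10528 = n13414 := rfl
theorem F22815 : act 0 n13414 = n10535 := d4_1 D13414 (iv D10535) (iv F17622)
theorem F22816 : act 2 n13414 = n11885 := d11_1 D13414 (iv D11885) (iv F17623)
theorem F22817 : act 4 n13414 = n12800 := d14_1 D13414 (iv D12800) (iv D10023) (iv F13536) D10528
def n13415 : Q := act 2 n10529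
theorem D13415 : act 2 n10529 = n13415 := rfl
theorem F22818 : act 0 n13415 = n10536 := d1_1 D13415 (iv D10536) (iv F17624)
def n13416 : Q := act 5 n10529
theorem D13416 : act 5 n10529 = n13416 := rfl
theorem F22819 : act 0 n13416 = n10537 := d4_1 D13416 (iv D10537) (iv F17624)
theorem F22820 : act 3 n13416 = n10530 := d13_1 D13416 (iv D10530) D10529
def n13417 : Q := act 1 n10531
theorem D13417 : act 1 n10531 = n13417 := rfl
def n13418 : Q := act 3 n10531
theorem D13418 : act 3 n10531 = n13418 := rfl
theorem F22821 : act 0 n13418 = n10538 := d2_1 D13418 (iv D10538) (iv F17627)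
theorem F22822 : act 2 n13418 = n12786 := d9_1 D13418 (iv D12786) (iv D10012) (iv D7720) (iv F9924) D7909 D10219 D13029 F22106 (iv D12798) (iv D10022) (iv D7732) (iv F10317) D8159 D10531
theorem F22823 : act 5 n13418 = n12808 := d13_2 F22099 D13418 (iv F22100)
def n13419 : Q := act 4 n10532
theorem D13419 : act 4 n10532 = n13419 := rfl
theorem F22824 : act 0 n13419 = n10909 := d3_1 D13419 (iv D10909) (iv F17628)
theorem F22825 : act 1 n13419 = n10533 := d7_1 D13419 (iv D10533) D10532
theorem F22826 : act 2 n13419 = n11684 := d10_1 D13419 (iv D11684) (iv F17629)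
theorem F22827 : act 3 n13419 = n10914 := d12_1 D13419 (iv D10914) (iv D8474) (iv F14075) (iv F17630)
def n13420 : Q := act 5 n10533
theorem D13420 : act 5 n10533 = n13420 := rfl
theorem F22828 : act 0 n13420 = n11885 := d4_1 D13420 (iv D11885) (iv F17632)
theorem F22829 : act 2 n13420 = n10535 := d11_1 D13420 (iv D10535) (iv F17633)
theorem F22830 : act 4 n13420 = n12794 := d14_1 D13420 (iv D12794) (iv D10019) (iv F13543) D10533
def n13421 : Q := act 2 n10534
theorem D13421 : act 2 n10534 = n13421 := rfl
theorem F22831 : act 4 n13421 = n10536 := d10_2 (iv F17634) D13421 (iv D10536)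
def n13422 : Q := act 5 n10534
theorem D13422 : act 5 n10534 = n13422 := rfl
theorem F22832 : act 3 n13422 = n10535 := d13_1 D13422 (iv D10535) D10534
def n13423 : Q := act 1 n10536
theorem D13423 : act 1 n10536 = n13423 := rfl
def n13424 : Q := act 3 n10536
theorem D13424 : act 3 n10536 = n13424 := rfl
def n13425 : Q := act 5 n10536
theorem D13425 : act 5 n10536 = n13425 := rfl
theorem F22833 : act 2 n13425 = n10537 := d11_1 D13425 (iv D10537) D10536
def n13426 : Q := act 4 n10537
theorem D13426 : act 4 n10537 = n13426 := rfl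
def n13427 : Q := act 2 n10538
theorem D13427 : act 2 n10538 = n13427 := rfl
theorem F22834 : act 0 n13427 = n12786 := d1_1 D13427 (iv F22822) F22821
theorem F22835 : act 3 n13427 = n12773 := d9_2 D10538 D13427 (iv D12773) (iv D10001) (iv F13073) D10218 D13027 F22100 (iv D12808) (iv D10029) (iv D7737) (iv D5896) (iv F7684) D6255 D8164
theorem F22836 : act 5 n13427 = n12798 := d11_2 F22105 D13427 (iv F22106)
def n13428 : Q := act 4 n10538
theorem D13428 : act 4 n10538 = n13428 := rfl
def n13429 : Q := act 3 n10539
theorem D13429 : act 3 n10539 = n13429 := rfl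
theorem F22837 : act 0 n13429 = n10540 := d2_1 D13429 (iv D10540) (iv F17636)
theorem F22838 : act 1 n13429 = n10549 := d6_1 D13429 (iv D10549) (iv F17637)
theorem F22839 : act 4 n13429 = n11913 := d12_2 D10539 D13429 (iv D11913) (iv D9274) (iv F13546)
def n13430 : Q := act 5 n10539
theorem D13430 : act 5 n10539 = n13430 := rfl
theorem F22840 : act 0 n13430 = n10541 := d4_1 D13430 (iv D10541) (iv F17636)
theorem F22841 : act 1 n13430 = n10550 := d8_1 D13430 (iv D10550) (iv F17637)
def n13431 : Q := act 2 n10540
theorem D13431 : act 2 n10540 = n13431 := rfl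
theorem F22842 : act 4 n13431 = n12907 := d10_2 (iv F17639) D13431 (iv D12907)
def n13432 : Q := act 5 n10540
theorem D13432 : act 5 n10540 = n13432 := rfl
theorem F22843 : act 1 n13432 = n10544 := d8_1 D13432 (iv D10544) (iv F17638)
theorem F22844 : act 3 n13432 = n10541 := d13_1 D13432 (iv D10541) D10540
def n13433 : Q := act 4 n10541
theorem D13433 : act 4 n10541 = n13433 := rfl
theorem F22845 : act 1 n13433 = n10545 := d7_1 D13433 (iv D10545) (iv F17640)
theorem F22846 : act 5 n13433 = n10542 := d14_2 D10541 D13433 (iv D10542) (iv D8167) D8166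
def n13434 : Q := act 3 n10542
theorem D13434 : act 3 n10542 = n13434 := rfl
theorem F22847 : act 1 n13434 = n10546 := d6_1 D13434 (iv D10546) (iv F17641)
theorem F22848 : act 4 n13434 = n11944 := d12_2 D10542 D13434 (iv D11944) (iv D9302) (iv F13549)
def n13435 : Q := act 1 n10543
theorem D13435 : act 1 n10543 = n13435 := rfl
theorem F22849 : act 3 n13435 = n10585 := d6_2 (iv F17644) D13435 F17713
theorem F22850 : act 4 n13435 = n12909 := d7_2 (iv F17643) D13435 (iv D12909)
theorem F22851 : act 5 n13435 = n10584 := d8_2 F17645 D13435 F17712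
def n13436 : Q := act 4 n10544
theorem D13436 : act 4 n10544 = n13436 := rfl
theorem F22852 : act 0 n13436 = n10562 := d3_1 D13436 (iv D10562) (iv F17646)
theorem F22853 : act 2 n13436 = n10586 := d10_1 D13436 (iv D10586) (iv F17647)
theorem F22854 : act 5 n13436 = n12910 := d14_2 D10544 D13436 (iv D12910) (iv D10117) (iv F13551)
def n13437 : Q := act 3 n10545
theorem D13437 : act 3 n10545 = n13437 := rfl
theorem F22855 : act 0 n13437 = n10563 := d2_1 D13437 (iv D10563) (iv F17649)
theorem F22856 : act 5 n13437 = n10546 := d13_2 (iv F17651) D13437 (iv D10546)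
def n13438 : Q := act 2 n10546
theorem D13438 : act 2 n10546 = n13438 := rfl
theorem F22857 : act 0 n13438 = n10564 := d1_1 D13438 (iv D10564) (iv F17652)
theorem F22858 : act 4 n13438 = n11946 := d10_2 (iv F17653) D13438 (iv D11946)
def n13439 : Q := act 1 n10547
theorem D13439 : act 1 n10547 = n13439 := rfl
theorem F22859 : act 4 n13439 = n10548 := d7_2 (iv F17655) D13439 (iv D10548)
def n13440 : Q := act 3 n10547
theorem D13440 : act 3 n10547 = n13440 := rfl
theorem F22860 : act 0 n13440 = n10565 := d2_1 D13440 (iv D10565) (iv F17654)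
theorem F22861 : act 4 n13440 = n10565 := d12_2 (iv F17655) D13440 (iv D10565) F13578 (iv F13561)
def n13441 : Q := act 0 n10548
theorem D13441 : act 0 n10548 = n13441 := rfl
theorem F22862 : act 1 n13441 = n10566 := d0_2 D10548 D13441 (iv D10566) (iv D8186) (iv F13560)
theorem F22863 : act 2 n13441 = n11879 := d1_2 F22635 D13441 (iv F22633)
theorem F22864 : act 3 n13441 = n10566 := d2_2 (iv F17656) D13441 (iv D10566)
theorem F22865 : act 5 n13441 = n10577 := d4_2 (iv F17657) D13441 (iv D10577)
def n13442 : Q := act 2 n10549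
theorem D13442 : act 2 n10549 = n13442 := rfl
theorem F22866 : act 0 n13442 = n10553 := d1_1 D13442 (iv D10553) (iv F17658)
def n13443 : Q := act 5 n10549
theorem D13443 : act 5 n10549 = n13443 := rfl
theorem F22867 : act 0 n13443 = n10554 := d4_1 D13443 (iv D10554) (iv F17658)
theorem F22868 : act 3 n13443 = n10550 := d13_1 D13443 (iv D10550) D10549
def n13444 : Q := act 2 n10551
theorem D13444 : act 2 n10551 = n13444 := rfl
theorem F22869 : act 4 n13444 = n10553 := d10_2 (iv F17662) D13444 (iv D10553)
def n13445 : Q := act 5 n10551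
theorem D13445 : act 5 n10551 = n13445 := rfl
theorem F22870 : act 1 n13445 = n10556 := d8_1 D13445 (iv D10556) (iv F17661)
theorem F22871 : act 3 n13445 = n10552 := d13_1 D13445 (iv D10552) D10551
def n13446 : Q := act 1 n10553
theorem D13446 : act 1 n10553 = n13446 := rfl
theorem F22872 : act 2 n13446 = n10559 := d5_2 D10553 D13446 (iv D10559) (iv D8181) (iv F13566)
def n13447 : Q := act 3 n10553
theorem D13447 : act 3 n10553 = n13447 := rfl
def n13448 : Q := act 5 n10553
theorem D13448 : act 5 n10553 = n13448 := rfl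
theorem F22873 : act 2 n13448 = n10554 := d11_1 D13448 (iv D10554) D10553
def n13449 : Q := act 4 n10554
theorem D13449 : act 4 n10554 = n13449 := rfl
theorem F22874 : act 1 n13449 = n10562 := d7_1 D13449 (iv D10562) (iv F17664)
def n13450 : Q := act 1 n10555
theorem D13450 : act 1 n10555 = n13450 := rfl
theorem F22875 : act 4 n13450 = n10559 := d7_2 (iv F17667) D13450 (iv D10559)
def n13451 : Q := act 3 n10555
theorem D13451 : act 3 n10555 = n13451 := rfl
theorem F22876 : act 0 n13451 = n10581 := d2_1 D13451 F17710 (iv F17666)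
theorem F22877 : act 2 n13451 = n10574 := d9_1 D13451 F17697 F13594 F11592 (iv F12862) (iv F16835) (iv F17707) (iv D10580) (iv D8201) (iv D6285) (iv F10370) F10371 (iv F10337) D8178 D10555
theorem F22878 : act 5 n13451 = n10573 := d15_8 (iv D8201) (iv D6285) (iv F10370) F10371 (iv F10337) D8178 D10555 D13451 F17694
def n13452 : Q := act 5 n10555
theorem D13452 : act 5 n10555 = n13452 := rfl
theorem F22879 : act 0 n13452 = n10580 := d4_1 D13452 F17708 (iv F17666)
theorem F22880 : act 2 n13452 = n10556 := d11_1 D13452 (iv D10556) D10555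
theorem F22881 : act 3 n13452 = n10573 := d13_1 D13452 (iv F22878) (iv D13451)
def n13453 : Q := act 4 n10556
theorem D13453 : act 4 n10556 = n13453 := rfl
theorem F22882 : act 0 n13453 = n12910 := d3_1 D13453 (iv D12910) (iv F17668)
theorem F22883 : act 5 n13453 = n10562 := d14_2 D10556 D13453 (iv D10562) (iv D8182) (iv F13570)
def n13454 : Q := act 3 n10557
theorem D13454 : act 3 n10557 = n13454 := rfl
theorem F22884 : act 0 n13454 = n11947 := d2_1 D13454 F20135 (iv F17670)
theorem F22885 : act 5 n13454 = n10558 := d13_2 (iv F17672) D13454 (iv D10558)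
def n13455 : Q := act 2 n10558
theorem D13455 : act 2 n10558 = n13455 := rfl
theorem F22886 : act 0 n13455 = n11946 := d1_1 D13455 (iv D11946) (iv F17673)
theorem F22887 : act 4 n13455 = n10564 := d10_2 (iv F17674) D13455 (iv D10564)
def n13456 : Q := act 0 n10559
theorem D13456 : act 0 n10559 = n13456 := rfl
def n13457 : Q := act 3 n10559
theorem D13457 : act 3 n10559 = n13457 := rfl
theorem F22888 : act 1 n13457 = n10560 := d6_1 D13457 (iv D10560) D10559
theorem F22889 : act 5 n10575 = n13457 := d8_0 F22888 F17677 D10575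
def n13458 : Q := act 5 n10559
theorem D13458 : act 5 n10559 = n13458 := rfl
theorem F22890 : act 1 n13458 = n10561 := d8_1 D13458 (iv D10561) D10559
theorem F22891 : act 3 n13458 = n10575 := d13_1 D13458 F22889 (iv D13457)
def n13459 : Q := act 4 n10560
theorem D13459 : act 4 n10560 = n13459 := rfl
theorem F22892 : act 0 n13459 = n10587 := d3_1 D13459 (iv D10587) (iv F17675)
theorem F22893 : act 2 n13459 = n10576 := d10_1 D13459 (iv D10576) (iv F17676)
def n13460 : Q := act 4 n10561
theorem D13460 : act 4 n10561 = n13460 := rfl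
theorem F22894 : act 0 n13460 = n10586 := d3_1 D13460 (iv D10586) (iv F17678)
theorem F22895 : act 2 n13460 = n10562 := d10_1 D13460 (iv D10562) (iv F17679)
def n13461 : Q := act 3 n10562
theorem D13461 : act 3 n10562 = n13461 := rfl
theorem F22896 : act 4 n13461 = n10563 := d12_2 D10562 D13461 (iv D10563) (iv D8183) (iv F13575)
def n13462 : Q := act 2 n10563
theorem D13462 : act 2 n10563 = n13462 := rfl
theorem F22897 : act 5 n13462 = n10564 := d11_2 (iv F17681) D13462 (iv D10564)
def n13463 : Q := act 1 n10564
theorem D13463 : act 1 n10564 = n13463 := rfl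
def n13464 : Q := act 3 n10564
theorem D13464 : act 3 n10564 = n13464 := rfl
def n13465 : Q := act 2 n10565
theorem D13465 : act 2 n10565 = n13465 := rfl
def n13466 : Q := act 1 n10567
theorem D13466 : act 1 n10567 = n13466 := rfl
def n13467 : Q := act 3 n10567
theorem D13467 : act 3 n10567 = n13467 := rfl
theorem F22898 : act 0 n13467 = n10568 := d2_1 D13467 (iv D10568) (iv F17684)
def n13468 : Q := act 2 n10568
theorem D13468 : act 2 n10568 = n13468 := rfl
def n13469 : Q := act 4 n10568
theorem D13469 : act 4 n10568 = n13469 := rfl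
def n13470 : Q := act 2 n10569
theorem D13470 : act 2 n10569 = n13470 := rfl
theorem F22899 : act 0 n13470 = n11132 := d1_1 D13470 (iv D11132) (iv F17685)
theorem F22900 : act 4 n13470 = n10571 := d10_2 (iv F17687) D13470 (iv D10571)
def n13471 : Q := act 5 n10569
theorem D13471 : act 5 n10569 = n13471 := rfl
theorem F22901 : act 0 n13471 = n11133 := d4_1 D13471 (iv D11133) (iv F17685)
theorem F22902 : act 1 n13471 = n10574 := d8_1 D13471 (iv D10574) (iv F17686)
theorem F22903 : act 3 n13471 = n10570 := d13_1 D13471 (iv D10570) D10569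
def n13472 : Q := act 1 n10571
theorem D13472 : act 1 n10571 = n13472 := rfl
theorem F22904 : act 2 n13472 = n10575 := d5_2 D10571 D13472 (iv D10575) (iv D8196) (iv F13589)
def n13473 : Q := act 3 n10571
theorem D13473 : act 3 n10571 = n13473 := rfl
def n13474 : Q := act 5 n10571
theorem D13474 : act 5 n10571 = n13474 := rfl
theorem F22905 : act 2 n13474 = n10572 := d11_1 D13474 (iv D10572) D10571
def n13475 : Q := act 4 n10572
theorem D13475 : act 4 n10572 = n13475 := rfl
theorem F22906 : act 1 n13475 = n10576 := d7_1 D13475 (iv D10576) (iv F17692)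
def n13476 : Q := act 1 n10573
theorem D13476 : act 1 n10573 = n13476 := rfl
theorem F22907 : act 4 n13476 = n10575 := d7_2 (iv F17695) D13476 (iv D10575)
def n13477 : Q := act 4 n10574
theorem D13477 : act 4 n10574 = n13477 := rfl
theorem F22908 : act 0 n13477 = n10582 := d3_1 D13477 (iv D10582) (iv F17696)
theorem F22909 : act 3 n13477 = n11969 := d12_1 D13477 (iv D11969) F15572 (iv F13595) (iv F17697)
theorem F22910 : act 5 n13477 = n10576 := d14_2 D10574 D13477 (iv D10576) (iv D8197) (iv F13592)
def n13478 : Q := act 0 n10575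
theorem D13478 : act 0 n10575 = n13478 := rfl
theorem F22911 : act 1 n13478 = n10583 := d0_2 D10575 D13478 (iv D10583) (iv D8203) (iv F13596)
def n13479 : Q := act 0 n10579
theorem D13479 : act 0 n10579 = n13479 := rfl
theorem F22912 : act 4 n13479 = n10583 := d3_2 (iv F17706) D13479 (iv D10583)
def n13480 : Q := act 3 n10579
theorem D13480 : act 3 n10579 = n13480 := rfl
theorem F22913 : act 1 n13480 = n10580 := d6_1 D13480 (iv D10580) D10579
theorem F22914 : act 5 n12909 = n13480 := d8_0 F22913 F17708 D12909
def n13481 : Q := act 5 n10579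
theorem D13481 : act 5 n10579 = n13481 := rfl
theorem F22915 : act 1 n13481 = n10581 := d8_1 D13481 (iv D10581) D10579
theorem F22916 : act 3 n13481 = n12909 := d13_1 D13481 F22914 (iv D13480)
def n13482 : Q := act 4 n10580
theorem D13482 : act 4 n10580 = n13482 := rfl
theorem F22917 : act 2 n13482 = n12910 := d10_1 D13482 (iv D12910) (iv F17707)
theorem F22918 : act 3 n13482 = n10586 := d12_1 D13482 (iv D10586) (iv D8204) (iv F13608) D10580
theorem F22919 : act 5 n13482 = n10586 := d14_2 (iv F17708) D13482 (iv D10586) F17645 F17643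
def n13483 : Q := act 4 n10581
theorem D13483 : act 4 n10581 = n13483 := rfl
theorem F22920 : act 2 n13483 = n10582 := d10_1 D13483 (iv D10582) (iv F17709)
theorem F22921 : act 3 n13483 = n10587 := d12_1 D13483 (iv D10587) (iv F17644) F17643 (iv F17710)
theorem F22922 : act 5 n13483 = n10587 := d14_2 D10581 D13483 (iv D10587) (iv D8205) (iv F13608)
def n13484 : Q := act 3 n10583
theorem D13484 : act 3 n10583 = n13484 := rfl
theorem F22923 : act 0 n13484 = n10584 := d2_1 D13484 (iv D10584) D10583
def n13485 : Q := act 5 n10583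
theorem D13485 : act 5 n10583 = n13485 := rfl
theorem F22924 : act 0 n13485 = n10585 := d4_1 D13485 (iv D10585) D10583
def n13486 : Q := act 2 n10584
theorem D13486 : act 2 n10584 = n13486 := rfl
def n13487 : Q := act 4 n10584
theorem D13487 : act 4 n10584 = n13487 := rfl
theorem F22925 : act 1 n13487 = n10586 := d7_1 D13487 (iv D10586) (iv F17712)
def n13488 : Q := act 4 n10585
theorem D13488 : act 4 n10585 = n13488 := rfl
theorem F22926 : act 1 n13488 = n10587 := d7_1 D13488 (iv D10587) (iv F17713)
def n13489 : Q := act 3 n10588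
theorem D13489 : act 3 n10588 = n13489 := rfl
theorem F22927 : act 0 n13489 = n10589 := d2_1 D13489 (iv D10589) (iv F17715)
theorem F22928 : act 1 n13489 = n12368 := d6_1 D13489 (iv D12368) (iv F17716)
theorem F22929 : act 5 n13489 = n11746 := d13_2 (iv F17717) D13489 (iv D11746)
def n13490 : Q := act 2 n10589
theorem D13490 : act 2 n10589 = n13490 := rfl
theorem F22930 : act 1 n13490 = n11880 := d5_1 D13490 F19990 F16073 (iv F15215) (iv F17718)
theorem F22931 : act 3 n13490 = n11879 := d9_2 D10589 D13490 (iv F22863) F22864 F17682 F13584 (iv F15227) D11746 (iv F22632) (iv D13316) F17469 F13599 F10374 D6291 D8209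
theorem F22932 : act 5 n13490 = n11747 := d11_2 (iv F17719) D13490 (iv D11747)
def n13491 : Q := act 4 n10589
theorem D13491 : act 4 n10589 = n13491 := rfl
theorem F22933 : act 1 n13491 = n11740 := d7_1 D13491 (iv D11740) (iv F17718)
def n13492 : Q := act 0 n10590
theorem D13492 : act 0 n10590 = n13492 := rfl
theorem F22934 : act 1 n13492 = n10594 := d0_2 D10590 D13492 (iv D10594) (iv D8212) (iv F13617)
def n13493 : Q := act 3 n10590
theorem D13493 : act 3 n10590 = n13493 := rfl
theorem F22935 : act 1 n13493 = n10591 := d6_1 D13493 (iv D10591) D10590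
theorem F22936 : act 5 n10609 = n13493 := d8_0 F22935 (iv F17722) D10609
def n13494 : Q := act 5 n10590
theorem D13494 : act 5 n10590 = n13494 := rfl
theorem F22937 : act 1 n13494 = n10592 := d8_1 D13494 (iv D10592) D10590
theorem F22938 : act 3 n13494 = n10609 := d13_1 D13494 F22936 (iv D13493)
def n13495 : Q := act 4 n10591
theorem D13495 : act 4 n10591 = n13495 := rfl
theorem F22939 : act 0 n13495 = n10597 := d3_1 D13495 (iv D10597) (iv F17720)
theorem F22940 : act 2 n13495 = n10612 := d10_1 D13495 (iv D10612) (iv F17721)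
def n13496 : Q := act 4 n10592
theorem D13496 : act 4 n10592 = n13496 := rfl
theorem F22941 : act 0 n13496 = n10599 := d3_1 D13496 (iv D10599) (iv F17723)
theorem F22942 : act 2 n13496 = n10593 := d10_1 D13496 (iv D10593) (iv F17724)
def n13497 : Q := act 3 n10594
theorem D13497 : act 3 n10594 = n13497 := rfl
theorem F22943 : act 0 n13497 = n10595 := d2_1 D13497 (iv D10595) D10594
def n13498 : Q := act 2 n10595
theorem D13498 : act 2 n10595 = n13498 := rfl
def n13499 : Q := act 4 n10595
theorem D13499 : act 4 n10595 = n13499 := rfl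
theorem F22944 : act 1 n13499 = n10597 := d7_1 D13499 (iv D10597) (iv F17728)
def n13500 : Q := act 1 n10596
theorem D13500 : act 1 n10596 = n13500 := rfl
theorem F22945 : act 3 n13500 = n10601 := d6_2 (iv F17730) D13500 F17737
theorem F22946 : act 5 n13500 = n10600 := d8_2 F17731 D13500 F17736
def n13501 : Q := act 4 n10596
theorem D13501 : act 4 n10596 = n13501 := rfl
theorem F22947 : act 0 n13501 = n10612 := d3_1 D13501 (iv D10612) (iv F17729)
theorem F22948 : act 2 n13501 = n10597 := d10_1 D13501 (iv D10597) D10596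
def n13502 : Q := act 5 n10597
theorem D13502 : act 5 n10597 = n13502 := rfl
def n13503 : Q := act 4 n10598
theorem D13503 : act 4 n10598 = n13503 := rfl
theorem F22949 : act 0 n13503 = n10610 := d3_1 D13503 (iv D10610) (iv F17732)
theorem F22950 : act 2 n13503 = n10602 := d10_1 D13503 (iv D10602) (iv F17733)
def n13504 : Q := act 3 n10599
theorem D13504 : act 3 n10599 = n13504 := rfl
def n13505 : Q := act 2 n10600
theorem D13505 : act 2 n10600 = n13505 := rfl
def n13506 : Q := act 4 n10601
theorem D13506 : act 4 n10601 = n13506 := rfl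
theorem F22951 : act 1 n13506 = n10603 := d7_1 D13506 (iv D10603) (iv F17737)
theorem F22952 : act 2 n13506 = n13037 := d10_1 D13506 F22127 (iv F17738)
theorem F22953 : act 5 n13506 = n13035 := d14_2 D10601 D13506 (iv D13035) F17083 (iv F13624)
def n13507 : Q := act 5 n10602
theorem D13507 : act 5 n10602 = n13507 := rfl
theorem F22954 : act 0 n13507 = n10611 := d4_1 D13507 (iv D10611) (iv F17739)
def n13508 : Q := act 3 n10603
theorem D13508 : act 3 n10603 = n13508 := rfl
theorem F22955 : act 0 n13508 = n10613 := d2_1 D13508 (iv D10613) (iv F17740)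
theorem F22956 : act 5 n13508 = n13215 := d13_2 (iv F17742) D13508 (iv D13215)
def n13509 : Q := act 2 n10604
theorem D13509 : act 2 n10604 = n13509 := rfl
theorem F22957 : act 0 n13509 = n10606 := d1_1 D13509 (iv D10606) (iv F17743)
theorem F22958 : act 3 n13509 = n11866 := d15_1 D13509 (iv D11866) (iv D9234) F11750 (iv F10391) (iv F13634) (iv F17748) (iv D10608) (iv F17743)
def n13510 : Q := act 5 n10604
theorem D13510 : act 5 n10604 = n13510 := rfl
theorem F22959 : act 0 n13510 = n10608 := d4_1 D13510 (iv D10608) (iv F17743)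
theorem F22960 : act 3 n13510 = n10605 := d13_1 D13510 (iv D10605) D10604
def n13511 : Q := act 1 n10606
theorem D13511 : act 1 n10606 = n13511 := rfl
theorem F22961 : act 2 n13511 = n10609 := d5_2 D10606 D13511 (iv D10609) (iv D8224) (iv F13632)
def n13512 : Q := act 3 n10606
theorem D13512 : act 3 n10606 = n13512 := rfl
theorem F22962 : act 0 n13512 = n11866 := d2_1 D13512 (iv F22958) F22957
theorem F22963 : act 2 n13512 = n11865 := d15_2 D10606 D13512 (iv D11865) F15392 (iv F13642) (iv F17745) (iv F22960) (iv D13510) F17743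
def n13513 : Q := act 4 n10606
theorem D13513 : act 4 n10606 = n13513 := rfl
theorem F22964 : act 2 n13513 = n10607 := d10_1 D13513 (iv D10607) D10606
def n13514 : Q := act 5 n10606
theorem D13514 : act 5 n10606 = n13514 := rfl
theorem F22965 : act 2 n13514 = n10608 := d11_1 D13514 (iv D10608) D10606
def n13515 : Q := act 5 n10607
theorem D13515 : act 5 n10607 = n13515 := rfl
theorem F22966 : act 1 n13515 = n10611 := d8_1 D13515 (iv D10611) (iv F17746)
def n13516 : Q := act 4 n10608
theorem D13516 : act 4 n10608 = n13516 := rfl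
theorem F22967 : act 1 n13516 = n10612 := d7_1 D13516 (iv D10612) (iv F17747)
def n13517 : Q := act 0 n10609
theorem D13517 : act 0 n10609 = n13517 := rfl
def n13518 : Q := act 4 n10609
theorem D13518 : act 4 n10609 = n13518 := rfl
theorem F22968 : act 1 n13518 = n10610 := d7_1 D13518 (iv D10610) D10609
def n13519 : Q := act 3 n10610
theorem D13519 : act 3 n10610 = n13519 := rfl
def n13520 : Q := act 5 n10610
theorem D13520 : act 5 n10610 = n13520 := rfl
theorem F22969 : act 2 n13520 = n10611 := d11_1 D13520 (iv D10611) (iv F17749)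
def n13521 : Q := act 4 n10611
theorem D13521 : act 4 n10611 = n13521 := rfl
theorem F22970 : act 5 n13521 = n10612 := d14_2 D10611 D13521 (iv D10612) (iv D8226) D8225
def n13522 : Q := act 3 n10612
theorem D13522 : act 3 n10612 = n13522 := rfl
theorem F22971 : act 4 n13522 = n10613 := d12_2 D10612 D13522 (iv D10613) (iv D8227) (iv F13635)
def n13523 : Q := act 2 n10613
theorem D13523 : act 2 n10613 = n13523 := rfl
def n13524 : Q := act 1 n10614
theorem D13524 : act 1 n10614 = n13524 := rfl
theorem F22972 : act 0 n13524 = n11837 := d0_1 D13524 (iv D11837) F15359 (iv F13643) (iv F17750)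
theorem F22973 : act 2 n13524 = n12030 := d5_2 D10614 D13524 F20275 F15681 (iv F13638)
theorem F22974 : act 4 n13524 = n12370 := d7_2 F21965 D13524 F21967
theorem F22975 : act 5 n13524 = n11839 := d8_2 (iv F17751) D13524 F19933
def n13525 : Q := act 3 n10614
theorem D13525 : act 3 n10614 = n13525 := rfl
theorem F22976 : act 0 n13525 = n10615 := d2_1 D13525 (iv D10615) (iv F17750)
theorem F22977 : act 5 n13525 = n11865 := d13_2 (iv F17751) D13525 (iv D11865)
def n13526 : Q := act 2 n10615
theorem D13526 : act 2 n10615 = n13526 := rfl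
theorem F22978 : act 5 n13526 = n11866 := d11_2 (iv F17753) D13526 (iv D11866)
def n13527 : Q := act 4 n10615
theorem D13527 : act 4 n10615 = n13527 := rfl
theorem F22979 : act 1 n13527 = n11864 := d7_1 D13527 (iv D11864) (iv F17752)
def n13528 : Q := act 0 n10616
theorem D13528 : act 0 n10616 = n13528 := rfl
theorem F22980 : act 1 n13528 = n10995 := d0_2 D10616 D13528 (iv D10995) (iv D8536) (iv F13645)
theorem F22981 : act 2 n13528 = n10618 := d1_2 (iv F17754) D13528 (iv D10618)
theorem F22982 : act 4 n13528 = n11656 := d3_2 (iv F17755) D13528 (iv D11656)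
def n13529 : Q := act 3 n10616
theorem D13529 : act 3 n10616 = n13529 := rfl
theorem F22983 : act 1 n13529 = n10617 := d6_1 D13529 (iv D10617) D10616
def n13530 : Q := act 4 n10617
theorem D13530 : act 4 n10617 = n13530 := rfl
theorem F22984 : act 0 n13530 = n10997 := d3_1 D13530 (iv D10997) (iv F17756)
theorem F22985 : act 3 n13530 = n11660 := d12_1 D13530 (iv D11660) (iv D9053) (iv F13646) D10617
def n13531 : Q := act 4 n10620
theorem D13531 : act 4 n10620 = n13531 := rfl
theorem F22986 : act 0 n13531 = n10659 := d3_1 D13531 (iv D10659) (iv F17762)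
theorem F22987 : act 1 n13531 = n10621 := d7_1 D13531 (iv D10621) (iv F17763)
theorem F22988 : act 2 n13531 = n10769 := d10_1 D13531 (iv D10769) F17765
theorem F22989 : act 3 n13531 = n12850 := d12_1 D13531 F21690 F21731 F16176 D10620
theorem E10 : n12874 = n10769 := (c15_2 D10085 D12874 (iv F22988) F22989 (iv D12850) (iv D10065) F12816 D7772 (iv F16785) F16784)
theorem F22990 : act 3 n10769 = n10085 := (sb E10 (iv D12874))
theorem F22991 : act 5 n10769 = n10087 := (sb E10 F21741)
theorem E11 : n12876 = n10771 := (c8_2 F22991 (iv F21744) (iv D10771) (iv F18053))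
theorem F22992 : act 1 n10771 = n10087 := (sb E11 F21744)
theorem F22993 : act 3 n10771 = n10086 := (sb E11 (iv D12876))
theorem F22994 : act 5 n12877 = n13531 := d11_2 F22991 D12877 F22988
theorem E12 : n11665 = n10770 := (c13_3 D10771 F22993 (iv F19615) (iv D10770))
theorem F22995 : act 1 n10770 = n10085 := (sb E12 F19614)
theorem F22996 : act 2 n10770 = n9057 := (sb E12 (iv D11665))
theorem F22997 : act 5 n10770 = n10086 := (sb E12 F19615)
def n13532 : Q := act 5 n10621
theorem D13532 : act 5 n10621 = n13532 := rfl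
theorem F22998 : act 0 n13532 = n10629 := d4_1 D13532 (iv D10629) (iv F17766)
theorem F22999 : act 1 n13532 = n12877 := d8_1 D13532 F22994 F22987
theorem F23000 : act 2 n13532 = n10662 := d11_1 D13532 F17851 (iv F17767)
theorem F23001 : act 4 n13532 = n10661 := d14_1 D13532 (iv D10661) (iv D8273) F13650 D10621
def n13533 : Q := act 3 n10622
theorem D13533 : act 3 n10622 = n13533 := rfl
theorem F23002 : act 0 n13533 = n10624 := d2_1 D13533 (iv D10624) (iv F17768)
theorem F23003 : act 1 n13533 = n12866 := d6_1 D13533 (iv F21729) F20980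
theorem F23004 : act 4 n13533 = n10660 := d12_2 D10622 D13533 (iv D10660) (iv D8273) (iv F13653)
def n13534 : Q := act 3 n10623
theorem D13534 : act 3 n10623 = n13534 := rfl
theorem F23005 : act 0 n13534 = n10660 := d2_1 D13534 (iv D10660) (iv F17770)
theorem F23006 : act 1 n13534 = n10628 := d6_1 D13534 (iv D10628) (iv F17771)
theorem F23007 : act 4 n13534 = n10624 := d12_2 D10623 D13534 (iv D10624) (iv D8238) D8237
def n13535 : Q := act 5 n10623
theorem D13535 : act 5 n10623 = n13535 := rfl
theorem F23008 : act 0 n13535 = n10661 := d4_1 D13535 (iv D10661) (iv F17770)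
theorem F23009 : act 1 n13535 = n10629 := d8_1 D13535 (iv D10629) (iv F17771)
theorem F23010 : act 2 n13535 = n10653 := d11_1 D13535 (iv D10653) (iv F17772)
theorem F23011 : act 4 n13535 = n10629 := d14_1 D13535 (iv D10629) (iv D8240) (iv F13659) D10623
def n13536 : Q := act 2 n10624
theorem D13536 : act 2 n10624 = n13536 := rfl
def n13537 : Q := act 4 n10626
theorem D13537 : act 4 n10626 = n13537 := rfl
theorem F23012 : act 0 n13537 = n10760 := d3_1 D13537 (iv D10760) (iv F17777)
theorem F23013 : act 1 n13537 = n10627 := d7_1 D13537 (iv D10627) D10626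
theorem F23014 : act 2 n13537 = n10651 := d10_1 D13537 (iv D10651) (iv F17778)
def n13538 : Q := act 3 n10627
theorem D13538 : act 3 n10627 = n13538 := rfl
theorem F23015 : act 0 n13538 = n10663 := d2_1 D13538 (iv D10663) (iv F17781)
theorem F23016 : act 4 n13538 = n10654 := d12_2 D10627 D13538 (iv D10654) (iv D8268) (iv F13663)
theorem F23017 : act 2 n10978 = n13538 := d10_3 F23016 F17835 D10978
def n13539 : Q := act 5 n10627
theorem D13539 : act 5 n10627 = n13539 := rfl
theorem F23018 : act 0 n13539 = n10662 := d4_1 D13539 F17851 (iv F17781)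
theorem F23019 : act 2 n13539 = n10629 := d11_1 D13539 (iv D10629) (iv F17782)
theorem F23020 : act 4 n13539 = n10653 := d14_1 D13539 (iv D10653) (iv D8267) (iv F13664) D10627
def n13540 : Q := act 5 n10628
theorem D13540 : act 5 n10628 = n13540 := rfl
theorem F23021 : act 3 n13540 = n10629 := d13_1 D13540 (iv D10629) D10628
def n13541 : Q := act 0 n10630
theorem D13541 : act 0 n10630 = n13541 := rfl
theorem F23022 : act 2 n13541 = n11030 := d1_2 (iv F17784) D13541 F18505
theorem F23023 : act 3 n13541 = n11666 := d2_2 (iv F17785) D13541 (iv D11666)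
theorem F23024 : act 4 n13541 = n10631 := d3_2 (iv F17786) D13541 (iv D10631)
theorem F23025 : act 5 n13541 = n11667 := d4_2 (iv F17787) D13541 F19618
def n13542 : Q := act 0 n10632
theorem D13542 : act 0 n10632 = n13542 := rfl
theorem F23026 : act 1 n13542 = n12314 := d0_2 D10632 D13542 (iv D12314) (iv D9607) (iv F13680)
theorem F23027 : act 2 n13542 = n10635 := d1_2 (iv F17791) D13542 (iv D10635)
theorem F23028 : act 4 n13542 = n11609 := d3_2 (iv F17792) D13542 (iv D11609)
def n13543 : Q := act 3 n10632
theorem D13543 : act 3 n10632 = n13543 := rfl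
theorem F23029 : act 1 n13543 = n10633 := d6_1 D13543 (iv D10633) D10632
def n13544 : Q := act 5 n10632
theorem D13544 : act 5 n10632 = n13544 := rfl
theorem F23030 : act 1 n13544 = n10634 := d8_1 D13544 (iv D10634) D10632
theorem F23031 : act 2 n13544 = n10637 := d11_1 D13544 (iv D10637) (iv F17791)
theorem F23032 : act 4 n13544 = n12880 := d14_1 D13544 (iv D12880) (iv F19501) F19502 (iv F17792)
theorem F23033 : act 3 n12743 = n13544 := d12_5 F23032 F21762 (iv D10866) (iv F16644) D12743
theorem F23034 : act 0 n13544 = n12756 := d2_1 F23033 (iv D12756) (iv F21520)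
theorem F23035 : act 5 n13543 = n12743 := d13_0 F23033 (iv D13544) D13543
theorem F23036 : act 0 n12755 = n13543 := d4_3 F23035 F21520 (iv F21542)
theorem F23037 : act 2 n12744 = n13543 := d11_3 F23035 F21521 (iv F21523)
theorem F23038 : act 4 n12742 = n13543 := d14_5 F23035 (iv D12743) (iv D9976) D9975 D12742
theorem F23039 : act 3 n13542 = n12755 := d2_0 F23036 (iv D13543) D13542
theorem F23040 : act 5 n12756 = n13542 := d13_0 F23039 F21542 D12756
def n13545 : Q := act 2 n10633
theorem D13545 : act 2 n10633 = n13545 := rfl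
theorem F23041 : act 0 n13545 = n12317 := d1_1 D13545 (iv D12317) (iv F17793)
theorem F23042 : act 3 n13545 = n12312 := d9_2 D10633 D13545 F20816 F16064 F12282 (iv F12286) (iv F16067) (iv F20826) (iv F20954) (iv D12407) (iv D9680) (iv D7458) F9332 D6320 D8247
theorem F23043 : act 5 n12311 = n13545 := d13_0 F23042 (iv D12312) D12311
def n13546 : Q := act 4 n10633
theorem D13546 : act 4 n10633 = n13546 := rfl
theorem F23044 : act 0 n13546 = n12318 := d3_1 D13546 (iv D12318) (iv F17793)
theorem F23045 : act 1 n13546 = n12742 := d7_1 D13546 F23038 F23029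
theorem F23046 : act 3 n13546 = n11612 := d12_1 D13546 (iv D11612) (iv D9015) (iv F13681) D10633
theorem F23047 : act 5 n12739 = n13546 := d8_0 F23045 (iv D12742) (iv F21513)
def n13547 : Q := act 5 n10633
theorem D13547 : act 5 n10633 = n13547 := rfl
theorem F23048 : act 0 n13547 = n12319 := d4_1 D13547 (iv D12319) (iv F17793)
theorem F23049 : act 1 n13547 = n12743 := d8_1 D13547 (iv F23035) F23029
theorem F23050 : act 2 n13547 = n12311 := d11_1 D13547 F23043 (iv D13545)
theorem F23051 : act 3 n13547 = n10634 := d13_1 D13547 (iv D10634) D10633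
theorem F23052 : act 4 n13547 = n12740 := d14_1 D13547 (iv D12740) D12739 F23047 (iv D13546)
def n13548 : Q := act 3 n10635
theorem D13548 : act 3 n10635 = n13548 := rfl
theorem F23053 : act 0 n13548 = n10636 := d2_1 D13548 (iv D10636) D10635
theorem F23054 : act 1 n13548 = n11667 := d6_1 D13548 (iv D11667) (iv F17797)
theorem F23055 : act 4 n13548 = n11664 := d12_2 (iv F17798) D13548 F19613 F16814 (iv F14981)
def n13549 : Q := act 5 n10635
theorem D13549 : act 5 n10635 = n13549 := rfl
theorem F23056 : act 0 n13549 = n10637 := d4_1 D13549 (iv D10637) D10635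
theorem F23057 : act 1 n13549 = n11666 := d8_1 D13549 F19617 (iv F17797)
theorem F23058 : act 2 n13549 = n12756 := d11_1 D13549 F23040 F23027
theorem F23059 : act 4 n13549 = n12885 := d14_1 D13549 (iv D12885) (iv F19508) F19509 (iv F17798)
def n13550 : Q := act 2 n10636
theorem D13550 : act 2 n10636 = n13550 := rfl
theorem F23060 : act 1 n13550 = n11662 := d5_1 D13550 F19608 F15055 (iv F13688) (iv F17799)
theorem F23061 : act 4 n13550 = n11658 := d10_2 (iv F17800) D13550 F19606
theorem F23062 : act 3 n13550 = n12615 := d15_3 F17791 D10636 D13550 F21333 F16498 (iv F16658) D12756 F23040 (iv D13542)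
def n13551 : Q := act 0 n10638
theorem D13551 : act 0 n10638 = n13551 := rfl
theorem F23063 : act 1 n13551 = n11664 := d0_2 D10638 D13551 F19612 F15060 (iv F13693)
theorem F23064 : act 2 n13551 = n11018 := d1_2 (iv F17803) D13551 F18492
theorem F23065 : act 3 n13551 = n11645 := d2_2 (iv F17804) D13551 (iv D11645)
theorem F23066 : act 4 n13551 = n11667 := d3_2 (iv F17805) D13551 F19618
theorem F23067 : act 5 n13551 = n10639 := d4_2 (iv F17806) D13551 (iv D10639)
def n13552 : Q := act 3 n10639
theorem D13552 : act 3 n10639 = n13552 := rfl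
theorem F23068 : act 0 n13552 = n10640 := d2_1 D13552 (iv D10640) D10639
theorem F23069 : act 1 n13552 = n11663 := d6_1 D13552 (iv D11663) (iv F17807)
theorem F23070 : act 5 n13552 = n11645 := d13_2 F23067 D13552 (iv F23065)
def n13553 : Q := act 2 n10640
theorem D13553 : act 2 n10640 = n13553 := rfl
theorem F23071 : act 1 n13553 = n11644 := d5_1 D13553 F19582 F15036 (iv F13700) (iv F17810)
theorem F23072 : act 5 n13553 = n11642 := d11_2 (iv F17811) D13553 F19580
def n13554 : Q := act 2 n10641
theorem D13554 : act 2 n10641 = n13554 := rfl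
theorem F23073 : act 0 n13554 = n10642 := d1_1 D13554 (iv D10642) (iv F17812)
theorem F23074 : act 5 n13554 = n11264 := d11_2 (iv F17813) D13554 F18881
def n13555 : Q := act 4 n10641
theorem D13555 : act 4 n10641 = n13555 := rfl
theorem F23075 : act 0 n13555 = n10643 := d3_1 D13555 (iv D10643) (iv F17812)
def n13556 : Q := act 3 n10642
theorem D13556 : act 3 n10642 = n13556 := rfl
theorem F23076 : act 1 n13556 = n11224 := d6_1 D13556 F18811 (iv F17814)
theorem F23077 : act 5 n13556 = n11265 := d13_2 (iv F17815) D13556 (iv D11265)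
def n13557 : Q := act 4 n10642
theorem D13557 : act 4 n10642 = n13557 := rfl
theorem F23078 : act 1 n13557 = n11267 := d7_1 D13557 (iv D11267) (iv F17814)
theorem F23079 : act 2 n13557 = n10643 := d10_1 D13557 (iv D10643) D10642
def n13558 : Q := act 1 n10644
theorem D13558 : act 1 n10644 = n13558 := rfl
theorem F23080 : act 2 n13558 = n11253 := d5_2 D10644 D13558 (iv D11253) (iv D8738) (iv F13707)
def n13559 : Q := act 0 n10645
theorem D13559 : act 0 n10645 = n13559 := rfl
theorem F23081 : act 2 n13559 = n10647 := d1_2 (iv F17818) D13559 (iv D10647)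
def n13560 : Q := act 3 n10645
theorem D13560 : act 3 n10645 = n13560 := rfl
theorem F23082 : act 1 n13560 = n10646 := d6_1 D13560 (iv D10646) D10645
def n13561 : Q := act 4 n10646
theorem D13561 : act 4 n10646 = n13561 := rfl
def n13562 : Q := act 1 n10648
theorem D13562 : act 1 n10648 = n13562 := rfl
def n13563 : Q := act 3 n10648
theorem D13563 : act 3 n10648 = n13563 := rfl
def n13564 : Q := act 5 n10648
theorem D13564 : act 5 n10648 = n13564 := rfl
theorem F23083 : act 2 n13564 = n10649 := d11_1 D13564 (iv D10649) D10648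
def n13565 : Q := act 4 n10649
theorem D13565 : act 4 n10649 = n13565 := rfl
def n13566 : Q := act 4 n10650
theorem D13566 : act 4 n10650 = n13566 := rfl
theorem F23084 : act 0 n13566 = n10651 := d3_1 D13566 (iv D10651) (iv F17821)
theorem F23085 : act 1 n13566 = n10655 := d7_1 D13566 (iv D10655) (iv F17822)
theorem F23086 : act 2 n13566 = n10760 := d10_1 D13566 (iv D10760) (iv F17823)
theorem F23087 : act 3 n13566 = n11005 := d12_1 D13566 (iv D11005) (iv D8545) (iv F13713) D10650
def n13567 : Q := act 5 n10651
theorem D13567 : act 5 n10651 = n13567 := rfl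
theorem F23088 : act 1 n13567 = n10653 := d8_1 D13567 (iv D10653) (iv F17825)
theorem F23089 : act 3 n13567 = n11007 := d13_1 D13567 (iv D11007) (iv F17826)
def n13568 : Q := act 3 n10652
theorem D13568 : act 3 n10652 = n13568 := rfl
theorem F23090 : act 0 n13568 = n10761 := d2_1 D13568 (iv D10761) (iv F17827)
theorem F23091 : act 1 n13568 = n10654 := d6_1 D13568 (iv D10654) (iv F17828)
theorem F23092 : act 5 n13568 = n10943 := d13_2 (iv F17830) D13568 (iv D10943)
def n13569 : Q := act 5 n10655
theorem D13569 : act 5 n10655 = n13569 := rfl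
theorem F23093 : act 0 n13569 = n10658 := d4_1 D13569 (iv D10658) (iv F17836)
theorem F23094 : act 2 n13569 = n10751 := d11_1 D13569 (iv D10751) (iv F17837)
theorem F23095 : act 3 n13569 = n11038 := d13_1 D13569 (iv D11038) (iv F17838)
theorem F23096 : act 4 n13569 = n10764 := d14_1 D13569 (iv D10764) (iv D8354) (iv F13725) D10655
def n13570 : Q := act 4 n10656
theorem D13570 : act 4 n10656 = n13570 := rfl
theorem F23097 : act 0 n13570 = n10769 := d3_1 D13570 (iv D10769) (iv F17839)
theorem F23098 : act 1 n13570 = n10657 := d7_1 D13570 (iv D10657) D10656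
theorem F23099 : act 2 n13570 = n10659 := d10_1 D13570 (iv D10659) (iv F17840)
theorem F23100 : act 5 n13570 = n12853 := d14_2 (iv F17842) D13570 F21695 (iv F22991) (iv D10769)
theorem F23101 : act 3 n12851 = n13570 := d13_3 F23100 (iv D12853) (iv F21692)
def n13571 : Q := act 3 n10657
theorem D13571 : act 3 n10657 = n13571 := rfl
theorem F23102 : act 0 n13571 = n10750 := d2_1 D13571 (iv D10750) (iv F17843)
theorem F23103 : act 1 n13571 = n12851 := d6_1 D13571 F23101 F23098
theorem F23104 : act 4 n13571 = n10741 := d12_2 D10657 D13571 (iv D10741) (iv D8336) (iv F13729)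
theorem F23105 : act 5 n12852 = n13571 := d8_0 F23103 F21692 D12852
def n13572 : Q := act 5 n10657
theorem D13572 : act 5 n10657 = n13572 := rfl
theorem F23106 : act 0 n13572 = n10751 := d4_1 D13572 (iv D10751) (iv F17843)
theorem F23107 : act 1 n13572 = n12853 := d8_1 D13572 (iv F23100) F23098
theorem F23108 : act 2 n13572 = n10658 := d11_1 D13572 (iv D10658) (iv F17844)
theorem F23109 : act 3 n13572 = n12852 := d13_1 D13572 F23105 (iv D13571)
theorem F23110 : act 4 n13572 = n10771 := d14_1 D13572 (iv D10771) (iv D8359) (iv F13728) D10657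
def n13573 : Q := act 5 n10659
theorem D13573 : act 5 n10659 = n13573 := rfl
theorem F23111 : act 0 n13573 = n12877 := d4_1 D13573 F22994 F22986
theorem F23112 : act 1 n13573 = n10661 := d8_1 D13573 (iv D10661) (iv F17848)
theorem F23113 : act 2 n13573 = n12853 := d11_1 D13573 (iv F23100) F23099
theorem F23114 : act 3 n13573 = n12873 := d13_1 D13573 F21740 F21125
theorem F23115 : act 4 n13573 = n12877 := d14_1 D13573 F22994 (iv D13531) F17764 D10659
def n13574 : Q := act 3 n10662
theorem D13574 : act 3 n10662 = n13574 := rfl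
theorem F23116 : act 1 n13574 = n10773 := d6_1 D13574 F18056 (iv F17850)
theorem F23117 : act 4 n13574 = n10981 := d12_2 D10662 D13574 F18440 F14171 (iv F13733)
theorem F23118 : act 5 n13574 = n10663 := d13_2 (iv F17851) D13574 (iv D10663)
def n13575 : Q := act 2 n10663
theorem D13575 : act 2 n10663 = n13575 := rfl
theorem F23119 : act 0 n13575 = n10978 := d1_1 D13575 F23017 F23015
theorem F23120 : act 4 n13575 = n10664 := d10_2 (iv F17853) D13575 (iv D10664)
def n13576 : Q := act 1 n10664
theorem D13576 : act 1 n10664 = n13576 := rfl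
theorem F23121 : act 2 n13576 = n10774 := d5_2 D10664 D13576 (iv D10774) (iv D8362) (iv F13735)
theorem F23122 : act 3 n13576 = n10942 := d6_2 (iv F17856) D13576 (iv D10942)
theorem F23123 : act 5 n13576 = n10979 := d8_2 (iv F17855) D13576 (iv D10979)
def n13577 : Q := act 3 n10665
theorem D13577 : act 3 n10665 = n13577 := rfl
theorem F23124 : act 0 n13577 = n12638 := d2_1 D13577 (iv D12638) (iv F17857)
theorem F23125 : act 1 n13577 = n10666 := d6_1 D13577 (iv D10666) D10665
def n13578 : Q := act 4 n10666
theorem D13578 : act 4 n10666 = n13578 := rfl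
theorem F23126 : act 0 n13578 = n10668 := d3_1 D13578 (iv D10668) (iv F17860)
theorem F23127 : act 3 n13578 = n10864 := d12_1 D13578 (iv D10864) (iv D8434) (iv F13738) D10666
def n13579 : Q := act 1 n10667
theorem D13579 : act 1 n10667 = n13579 := rfl
theorem F23128 : act 2 n13579 = n12650 := d5_2 D10667 D13579 (iv D12650) (iv D9905) (iv F13739)
def n13580 : Q := act 4 n10667
theorem D13580 : act 4 n10667 = n13580 := rfl
theorem F23129 : act 2 n13580 = n10668 := d10_1 D13580 (iv D10668) D10667
def n13581 : Q := act 5 n10668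
theorem D13581 : act 5 n10668 = n13581 := rfl
theorem F23130 : act 1 n13581 = n12648 := d8_1 D13581 F21385 (iv F17861)
theorem F23131 : act 3 n13581 = n10867 := d13_1 D13581 (iv D10867) (iv F17862)
def n13582 : Q := act 2 n10669
theorem D13582 : act 2 n10669 = n13582 := rfl
theorem F23132 : act 0 n13582 = n11956 := d1_1 D13582 (iv D11956) (iv F17863)
theorem F23133 : act 4 n13582 = n11699 := d10_2 (iv F17865) D13582 (iv D11699)
def n13583 : Q := act 5 n10669
theorem D13583 : act 5 n10669 = n13583 := rfl
theorem F23134 : act 0 n13583 = n11957 := d4_1 D13583 (iv D11957) (iv F17863)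
theorem F23135 : act 1 n13583 = n10672 := d8_1 D13583 (iv D10672) (iv F17864)
theorem F23136 : act 3 n13583 = n10670 := d13_1 D13583 (iv D10670) D10669
theorem F23137 : act 4 n13583 = n12824 := d14_1 D13583 (iv D12824) F16756 (iv F15134) (iv F17865)
def n13584 : Q := act 1 n10671
theorem D13584 : act 1 n10671 = n13584 := rfl
theorem F23138 : act 4 n13584 = n11700 := d7_2 (iv F17871) D13584 (iv D11700)
def n13585 : Q := act 3 n10671
theorem D13585 : act 3 n10671 = n13585 := rfl
theorem F23139 : act 0 n13585 = n11702 := d2_1 D13585 (iv D11702) (iv F17870)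
theorem F23140 : act 4 n13585 = n12127 := d12_2 (iv F17871) D13585 (iv D12127) (iv D9454) (iv F15136)
def n13586 : Q := act 5 n10671
theorem D13586 : act 5 n10671 = n13586 := rfl
theorem F23141 : act 0 n13586 = n11703 := d4_1 D13586 (iv D11703) (iv F17870)
theorem F23142 : act 2 n13586 = n10672 := d11_1 D13586 (iv D10672) D10671
theorem F23143 : act 4 n13586 = n12126 := d14_1 D13586 (iv D12126) (iv D9453) (iv F15137) (iv F17871)
def n13587 : Q := act 0 n10673
theorem D13587 : act 0 n10673 = n13587 := rfl
theorem F23144 : act 1 n13587 = n10675 := d0_2 D10673 D13587 (iv D10675) (iv D8284) (iv F13752)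
theorem F23145 : act 2 n13587 = n10707 := d1_2 (iv F17875) D13587 (iv D10707)
theorem F23146 : act 4 n13587 = n10896 := d3_2 (iv F17876) D13587 (iv D10896)
theorem F23147 : act 5 n13587 = n11499 := d4_2 F19129 D13587 F19294
def n13588 : Q := act 3 n10673
theorem D13588 : act 3 n10673 = n13588 := rfl
theorem F23148 : act 1 n13588 = n10674 := d6_1 D13588 (iv D10674) D10673
def n13589 : Q := act 4 n10674
theorem D13589 : act 4 n10674 = n13589 := rfl
theorem F23149 : act 0 n13589 = n10678 := d3_1 D13589 (iv D10678) (iv F17877)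
theorem F23150 : act 2 n13589 = n12706 := d10_1 D13589 F21807 F19113
theorem F23151 : act 3 n13589 = n10899 := d12_1 D13589 (iv D10899) (iv D8458) (iv F13753) D10674
def n13590 : Q := act 3 n10675
theorem D13590 : act 3 n10675 = n13590 := rfl
theorem F23152 : act 0 n13590 = n10676 := d2_1 D13590 (iv D10676) D10675
theorem F23153 : act 5 n13590 = n11500 := d13_2 (iv F17880) D13590 (iv D11500)
theorem F23154 : act 2 n13590 = n11493 := d15_2 (iv F17878) D13590 (iv D11493) (iv D8930) (iv D6847) F8511 D5198 (iv F10488) D8286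
def n13591 : Q := act 2 n10676
theorem D13591 : act 2 n10676 = n13591 := rfl
theorem F23155 : act 0 n13591 = n11493 := d1_1 D13591 (iv F23154) F23152
theorem F23156 : act 5 n13591 = n11501 := d11_2 (iv F17882) D13591 (iv D11501)
theorem F23157 : act 3 n13591 = n11490 := d15_1 D13591 (iv D11490) (iv D8929) F11309 D6850 D8935 D11500 (iv F23153) F23152
def n13592 : Q := act 4 n10676
theorem D13592 : act 4 n10676 = n13592 := rfl
theorem F23158 : act 1 n13592 = n10678 := d7_1 D13592 (iv D10678) (iv F17881)
theorem F23159 : act 3 n13592 = n10903 := d12_1 D13592 (iv D10903) (iv D8462) (iv F13755) D10676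
def n13593 : Q := act 1 n10677
theorem D13593 : act 1 n10677 = n13593 := rfl
theorem F23160 : act 3 n13593 = n10969 := d6_2 (iv F17884) D13593 F18425
theorem F23161 : act 5 n13593 = n10996 := d8_2 (iv F17883) D13593 F18468
def n13594 : Q := act 4 n10677
theorem D13594 : act 4 n10677 = n13594 := rfl
theorem F23162 : act 0 n13594 = n12706 := d3_1 D13594 F21807 F19112
theorem F23163 : act 2 n13594 = n10678 := d10_1 D13594 (iv D10678) D10677
theorem F23164 : act 3 n12703 = n13594 := d15_1 D12703 F23163 F17885 (iv F18301) F19717 F16599 F16512 (iv F16513) (iv F16607)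
def n13595 : Q := act 5 n10678
theorem D13595 : act 5 n10678 = n13595 := rfl
theorem F23165 : act 3 n13595 = n10906 := d13_1 D13595 (iv D10906) (iv F17885)
def n13596 : Q := act 3 n10679
theorem D13596 : act 3 n10679 = n13596 := rfl
theorem F23166 : act 1 n13596 = n10682 := d6_1 D13596 (iv D10682) (iv F17886)
theorem F23167 : act 4 n13596 = n10680 := d12_2 D10679 D13596 (iv D10680) (iv D8288) D8287
def n13597 : Q := act 5 n10679
theorem D13597 : act 5 n10679 = n13597 := rfl
theorem F23168 : act 1 n13597 = n10683 := d8_1 D13597 (iv D10683) (iv F17886)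
theorem F23169 : act 4 n13597 = n10794 := d14_1 D13597 (iv D10794) (iv D8379) (iv F13762) D10679
def n13598 : Q := act 2 n10680
theorem D13598 : act 2 n10680 = n13598 := rfl
def n13599 : Q := act 5 n10680
theorem D13599 : act 5 n10680 = n13599 := rfl
theorem F23170 : act 1 n13599 = n10685 := d8_1 D13599 (iv D10685) (iv F17887)
theorem F23171 : act 3 n13599 = n10681 := d13_1 D13599 (iv D10681) D10680
def n13600 : Q := act 2 n10682
theorem D13600 : act 2 n10682 = n13600 := rfl
theorem F23172 : act 0 n13600 = n10690 := d1_1 D13600 (iv D10690) (iv F17889)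
theorem F23173 : act 4 n13600 = n10684 := d10_2 (iv F17890) D13600 (iv D10684)
def n13601 : Q := act 5 n10682
theorem D13601 : act 5 n10682 = n13601 := rfl
theorem F23174 : act 0 n13601 = n10691 := d4_1 D13601 (iv D10691) (iv F17889)
theorem F23175 : act 3 n13601 = n10683 := d13_1 D13601 (iv D10683) D10682
def n13602 : Q := act 1 n10684
theorem D13602 : act 1 n10684 = n13602 := rfl
theorem F23176 : act 3 n13602 = n10721 := d6_2 (iv F17895) D13602 F17969
theorem F23177 : act 5 n13602 = n10720 := d8_2 F17896 D13602 F17968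
def n13603 : Q := act 0 n10686
theorem D13603 : act 0 n10686 = n13603 := rfl
theorem F23178 : act 1 n13603 = n10696 := d0_2 D10686 D13603 (iv D10696) (iv D8299) (iv F13769)
theorem F23179 : act 2 n13603 = n11499 := d1_2 F19128 D13603 F19294
theorem F23180 : act 3 n13603 = n10829 := d2_2 (iv F17900) D13603 (iv D10829)
theorem F23181 : act 5 n13603 = n10707 := d4_2 (iv F17901) D13603 (iv D10707)
def n13604 : Q := act 3 n10687
theorem D13604 : act 3 n10687 = n13604 := rfl
theorem F23182 : act 1 n13604 = n10688 := d6_1 D13604 (iv D10688) (iv F17902)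
theorem F23183 : act 4 n13604 = n10786 := d12_2 D10687 D13604 (iv D10786) (iv D8369) (iv F13772)
def n13605 : Q := act 5 n10687
theorem D13605 : act 5 n10687 = n13605 := rfl
theorem F23184 : act 1 n13605 = n10689 := d8_1 D13605 (iv D10689) (iv F17902)
theorem F23185 : act 4 n13605 = n10782 := d14_1 D13605 (iv D10782) (iv D8366) (iv F13773) D10687
def n13606 : Q := act 2 n10688
theorem D13606 : act 2 n10688 = n13606 := rfl
theorem F23186 : act 0 n13606 = n10798 := d1_1 D13606 (iv D10798) (iv F17903)
theorem F23187 : act 4 n13606 = n10790 := d10_2 (iv F17904) D13606 (iv D10790)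
def n13607 : Q := act 5 n10688
theorem D13607 : act 5 n10688 = n13607 := rfl
theorem F23188 : act 0 n13607 = n10797 := d4_1 D13607 F18098 (iv F17903)
theorem F23189 : act 3 n13607 = n10689 := d13_1 D13607 (iv D10689) D10688
def n13608 : Q := act 1 n10690
theorem D13608 : act 1 n10690 = n13608 := rfl
theorem F23190 : act 4 n13608 = n10692 := d7_2 (iv F17908) D13608 (iv D10692)
def n13609 : Q := act 3 n10690
theorem D13609 : act 3 n10690 = n13609 := rfl
def n13610 : Q := act 5 n10690
theorem D13610 : act 5 n10690 = n13610 := rfl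
theorem F23191 : act 2 n13610 = n10691 := d11_1 D13610 (iv D10691) D10690
def n13611 : Q := act 0 n10692
theorem D13611 : act 0 n10692 = n13611 := rfl
def n13612 : Q := act 3 n10692
theorem D13612 : act 3 n10692 = n13612 := rfl
theorem F23192 : act 1 n13612 = n10693 := d6_1 D13612 (iv D10693) D10692
theorem F23193 : act 5 n10700 = n13612 := d8_0 F23192 F17912 D10700
def n13613 : Q := act 5 n10692
theorem D13613 : act 5 n10692 = n13613 := rfl
theorem F23194 : act 1 n13613 = n10694 := d8_1 D13613 (iv D10694) D10692
theorem F23195 : act 3 n13613 = n10700 := d13_1 D13613 F23193 (iv D13612)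
def n13614 : Q := act 4 n10693
theorem D13614 : act 4 n10693 = n13614 := rfl
theorem F23196 : act 0 n13614 = n10722 := d3_1 D13614 (iv D10722) (iv F17910)
theorem F23197 : act 2 n13614 = n10701 := d10_1 D13614 (iv D10701) (iv F17911)
theorem F23198 : act 5 n13614 = n10709 := d14_2 (iv F17912) D13614 (iv D10709) F13812 (iv F13795)
def n13615 : Q := act 3 n10696
theorem D13615 : act 3 n10696 = n13615 := rfl
theorem F23199 : act 0 n13615 = n10697 := d2_1 D13615 (iv D10697) D10696
theorem F23200 : act 1 n13615 = n10829 := d6_1 D13615 (iv F23180) F23178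
theorem F23201 : act 4 n13615 = n10719 := d12_2 F18706 D13615 F18889 (iv D11272) (iv F18708)
theorem F23202 : act 5 n13615 = n10732 := d13_2 (iv F17917) D13615 (iv D10732)
def n13616 : Q := act 2 n10697
theorem D13616 : act 2 n10697 = n13616 := rfl
theorem F23203 : act 1 n13616 = n10710 := d5_1 D13616 (iv D10710) F13814 (iv F13782) (iv F17918)
theorem F23204 : act 4 n13616 = n10712 := d10_2 F17920 D13616 F17949
theorem F23205 : act 5 n13616 = n10733 := d11_2 (iv F17919) D13616 (iv D10733)
def n13617 : Q := act 1 n10698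
theorem D13617 : act 1 n10698 = n13617 := rfl
theorem F23206 : act 2 n13617 = n10700 := d5_2 D10698 D13617 (iv D10700) (iv D8304) (iv F13788)
theorem F23207 : act 4 n13617 = n10827 := d7_2 (iv F17922) D13617 (iv D10827)
def n13618 : Q := act 3 n10698
theorem D13618 : act 3 n10698 = n13618 := rfl
theorem F23208 : act 0 n13618 = n12211 := d2_1 D13618 (iv D12211) (iv F17921)
theorem F23209 : act 2 n13618 = n12218 := d15_2 D10698 D13618 F20646 F15917 F12191 (iv F12187) (iv F15914) (iv D9521) (iv F13787)
theorem F23210 : act 5 n12216 = n13618 := d11_0 F23209 (iv D12218) D12216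
def n13619 : Q := act 5 n10698
theorem D13619 : act 5 n10698 = n13619 := rfl
theorem F23211 : act 0 n13619 = n12212 := d4_1 D13619 (iv D12212) (iv F17921)
theorem F23212 : act 2 n13619 = n10699 := d11_1 D13619 (iv D10699) D10698
theorem F23213 : act 3 n13619 = n12216 := d13_1 D13619 F23210 (iv D13618)
def n13620 : Q := act 4 n10699
theorem D13620 : act 4 n10699 = n13620 := rfl
theorem F23214 : act 0 n13620 = n12213 := d3_1 D13620 (iv D12213) (iv F17923)
theorem F23215 : act 1 n13620 = n10701 := d7_1 D13620 (iv D10701) (iv F17924)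
theorem F23216 : act 3 n13620 = n10928 := d12_1 D13620 (iv D10928) F14111 (iv F13793) (iv F17925)
theorem F23217 : act 5 n13620 = n10806 := d14_2 D10699 D13620 (iv D10806) F13934 (iv F13789)
def n13621 : Q := act 0 n10700
theorem D13621 : act 0 n10700 = n13621 := rfl
theorem F23218 : act 1 n13621 = n10719 := d0_2 D10700 D13621 (iv D10719) (iv D8319) (iv F13794)
theorem F23219 : act 4 n13621 = n10829 := d3_2 (iv F17926) D13621 (iv D10829)
def n13622 : Q := act 3 n10701
theorem D13622 : act 3 n10701 = n13622 := rfl
theorem F23220 : act 0 n13622 = n10723 := d2_1 D13622 (iv D10723) (iv F17927)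
theorem F23221 : act 1 n13622 = n10928 := d6_1 D13622 (iv F23216) F23215
theorem F23222 : act 4 n13622 = n10702 := d12_2 D10701 D13622 (iv D10702) (iv D8306) (iv F13797)
theorem F23223 : act 5 n13622 = n10803 := d13_2 (iv F17928) D13622 F18104
def n13623 : Q := act 2 n10702
theorem D13623 : act 2 n10702 = n13623 := rfl
theorem F23224 : act 0 n13623 = n10724 := d1_1 D13623 (iv D10724) (iv F17929)
theorem F23225 : act 5 n13623 = n10703 := d11_2 (iv F17931) D13623 (iv D10703)
theorem F23226 : act 3 n13623 = n10730 := d15_1 D13623 (iv D10730) (iv D8327) (iv D6383) (iv D4826) (iv F7878) D6381 (iv F13836) (iv F17929)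
def n13624 : Q := act 1 n10703
theorem D13624 : act 1 n10703 = n13624 := rfl
theorem F23227 : act 2 n13624 = n10925 := d5_2 D10703 D13624 (iv D10925) (iv D8485) (iv F13803)
theorem F23228 : act 4 n13624 = n10825 := d7_2 (iv F17933) D13624 (iv D10825)
def n13625 : Q := act 3 n10703
theorem D13625 : act 3 n10703 = n13625 := rfl
theorem F23229 : act 0 n13625 = n10726 := d2_1 D13625 (iv D10726) (iv F17932)
theorem F23230 : act 5 n13625 = n10730 := d13_2 F23225 D13625 (iv F23226)
theorem F23231 : act 2 n13625 = n10727 := d15_2 D10703 D13625 (iv D10727) (iv D8325) (iv D6382) (iv F10540) D8323 F13836 (iv F13802)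
def n13626 : Q := act 1 n10704
theorem D13626 : act 1 n10704 = n13626 := rfl
theorem F23232 : act 0 n13626 = n11562 := d0_1 D13626 (iv D11562) F14897 (iv F13837) (iv F17934)
theorem F23233 : act 2 n13626 = n10898 := d5_2 D10704 D13626 F18295 F14060 (iv F13806)
theorem F23234 : act 5 n13626 = n10705 := d8_2 (iv F17935) D13626 (iv D10705)
def n13627 : Q := act 3 n10704
theorem D13627 : act 3 n10704 = n13627 := rfl
theorem F23235 : act 0 n13627 = n10727 := d2_1 D13627 (iv D10727) (iv F17934)
theorem F23236 : act 2 n13627 = n10726 := d9_1 D13627 (iv D10726) (iv D8324) (iv D6381) F7878 D4826 D6383 D8327 D10730 (iv F23226) (iv D13623) (iv D10702) F13800 D8308 D10704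
theorem F23237 : act 5 n13627 = n10706 := d13_2 (iv F17935) D13627 (iv D10706)
def n13628 : Q := act 0 n10705
theorem D13628 : act 0 n10705 = n13628 := rfl
theorem F23238 : act 1 n13628 = n10728 := d0_2 D10705 D13628 (iv D10728) (iv D8326) (iv F13808)
theorem F23239 : act 2 n13628 = n10896 := d1_2 (iv F17936) D13628 (iv D10896)
theorem F23240 : act 4 n13628 = n10707 := d3_2 (iv F17937) D13628 (iv D10707)
theorem F23241 : act 5 n13628 = n11562 := d4_2 F23234 D13628 (iv F23232)
def n13629 : Q := act 3 n10705
theorem D13629 : act 3 n10705 = n13629 := rfl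
theorem F23242 : act 1 n13629 = n10706 := d6_1 D13629 (iv D10706) D10705
def n13630 : Q := act 2 n10706
theorem D13630 : act 2 n10706 = n13630 := rfl
theorem F23243 : act 0 n13630 = n10730 := d1_1 D13630 (iv D10730) (iv F17938)
theorem F23244 : act 3 n13630 = n10724 := d9_2 D10706 D13630 (iv D10724) (iv D8323) F10540 D6382 D8325 D10727 (iv F23231) (iv D13625) (iv D10703) (iv D8307) F10514 D6370 D8309
theorem F23245 : act 5 n13630 = n10726 := d11_2 F23237 D13630 (iv F23236)
def n13631 : Q := act 4 n10706
theorem D13631 : act 4 n10706 = n13631 := rfl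
theorem F23246 : act 0 n13631 = n10731 := d3_1 D13631 (iv D10731) (iv F17938)
theorem F23247 : act 3 n13631 = n10709 := d12_1 D13631 (iv D10709) (iv D8311) (iv F13809) D10706
def n13632 : Q := act 3 n10707
theorem D13632 : act 3 n10707 = n13632 := rfl
theorem F23248 : act 0 n13632 = n10708 := d2_1 D13632 (iv D10708) D10707
theorem F23249 : act 1 n13632 = n10732 := d6_1 D13632 (iv D10732) (iv F17939)
theorem F23250 : act 5 n13632 = n10829 := d13_2 F23181 D13632 (iv F23180)
def n13633 : Q := act 2 n10708
theorem D13633 : act 2 n10708 = n13633 := rfl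
theorem F23251 : act 1 n13633 = n10805 := d5_1 D13633 (iv D10805) F13933 (iv F13811) (iv F17940)
theorem F23252 : act 5 n13633 = n10827 := d11_2 (iv F17941) D13633 F18164
def n13634 : Q := act 4 n10708
theorem D13634 : act 4 n10708 = n13634 := rfl
theorem F23253 : act 1 n13634 = n10709 := d7_1 D13634 (iv D10709) (iv F17940)
def n13635 : Q := act 3 n10710
theorem D13635 : act 3 n10710 = n13635 := rfl
theorem F23254 : act 0 n13635 = n11998 := d2_1 D13635 (iv D11998) (iv F17944)
theorem F23255 : act 2 n13635 = n12006 := d15_2 D10710 D13635 F20233 F15644 F11972 (iv F11970) (iv F15642) (iv D9356) (iv F13813)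
theorem F23256 : act 5 n12004 = n13635 := d11_0 F23255 (iv D12006) D12004
def n13636 : Q := act 5 n10710
theorem D13636 : act 5 n10710 = n13636 := rfl
theorem F23257 : act 0 n13636 = n11999 := d4_1 D13636 (iv D11999) (iv F17944)
theorem F23258 : act 1 n13636 = n10733 := d8_1 D13636 (iv F23205) F23203
theorem F23259 : act 2 n13636 = n10711 := d11_1 D13636 (iv D10711) D10710
theorem F23260 : act 3 n13636 = n12004 := d13_1 D13636 F23256 (iv D13635)
def n13637 : Q := act 4 n10711
theorem D13637 : act 4 n10711 = n13637 := rfl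
theorem F23261 : act 0 n13637 = n12000 := d3_1 D13637 (iv D12000) (iv F17946)
theorem F23262 : act 1 n13637 = n10716 := d7_1 D13637 (iv D10716) (iv F17947)
theorem F23263 : act 3 n13637 = n10875 := d12_1 D13637 (iv D10875) F14032 (iv F13819) (iv F17948)
theorem F23264 : act 5 n13637 = n10715 := d14_2 D10711 D13637 (iv D10715) (iv D8315) (iv F13815)
def n13638 : Q := act 0 n10712
theorem D13638 : act 0 n10712 = n13638 := rfl
theorem F23265 : act 1 n13638 = n12651 := d0_2 D10712 D13638 (iv D12651) (iv D9906) (iv F13820)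
theorem F23266 : act 2 n13638 = n10719 := d1_2 (iv F17949) D13638 (iv D10719)
def n13639 : Q := act 3 n10712
theorem D13639 : act 3 n10712 = n13639 := rfl
theorem F23267 : act 1 n13639 = n10713 := d6_1 D13639 (iv D10713) D10712
theorem F23268 : act 5 n12061 = n13639 := d8_0 F23267 (iv F17952) D12061
def n13640 : Q := act 5 n10712
theorem D13640 : act 5 n10712 = n13640 := rfl
theorem F23269 : act 1 n13640 = n10714 := d8_1 D13640 (iv D10714) D10712
theorem F23270 : act 2 n13640 = n10721 := d11_1 D13640 (iv D10721) (iv F17949)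
theorem F23271 : act 3 n13640 = n12061 := d13_1 D13640 F23268 (iv D13639)
theorem F23272 : act 2 n11348 = n12061 := d15_6 F23266 F18889 F18888 F14505 (iv F14650) D11348 (iv F23271) (iv D13640) D13638
theorem F23273 : act 1 n11693 = n11348 := d5_5 F23272 (iv D12061) (iv D9406) (iv F15122) D11693
theorem F23274 : act 3 n11347 = n11693 := d6_0 F23273 (iv D11348) (iv F19047)
def n13641 : Q := act 4 n10713
theorem D13641 : act 4 n10713 = n13641 := rfl
theorem F23275 : act 0 n13641 = n12654 := d3_1 D13641 (iv D12654) (iv F17950)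
theorem F23276 : act 2 n13641 = n12062 := d10_1 D13641 (iv D12062) (iv F17951)
def n13642 : Q := act 4 n10714
theorem D13642 : act 4 n10714 = n13642 := rfl
theorem F23277 : act 0 n13642 = n12655 := d3_1 D13642 (iv D12655) (iv F17953)
theorem F23278 : act 2 n13642 = n10715 := d10_1 D13642 (iv D10715) (iv F17954)
def n13643 : Q := act 3 n10716
theorem D13643 : act 3 n10716 = n13643 := rfl
theorem F23279 : act 0 n13643 = n10803 := d2_1 D13643 F18104 (iv F17959)
theorem F23280 : act 1 n13643 = n10875 := d6_1 D13643 (iv F23263) F23262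
theorem F23281 : act 4 n13643 = n10717 := d12_2 D10716 D13643 (iv D10717) (iv D8317) (iv F13826)
theorem F23282 : act 5 n13643 = n10723 := d13_2 (iv F17961) D13643 (iv D10723)
def n13644 : Q := act 2 n10717
theorem D13644 : act 2 n10717 = n13644 := rfl
theorem F23283 : act 0 n13644 = n10802 := d1_1 D13644 (iv D10802) (iv F17962)
theorem F23284 : act 3 n13644 = n10800 := d9_2 D10717 D13644 (iv D10800) (iv D8386) F10618 F7944 (iv F7977) D6448 D8405 (iv F18089) (iv D10790) (iv D8374) F10602 D6422 (iv F13829)
theorem F23285 : act 5 n13644 = n10718 := d11_2 (iv F17964) D13644 (iv D10718)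
def n13645 : Q := act 1 n10718
theorem D13645 : act 1 n10718 = n13645 := rfl
theorem F23286 : act 2 n13645 = n10872 := d5_2 D10718 D13645 (iv D10872) (iv D8441) (iv F13832)
theorem F23287 : act 3 n13645 = n10801 := d6_2 (iv F17967) D13645 (iv D10801)
theorem F23288 : act 4 n13645 = n10725 := d7_2 (iv F17966) D13645 (iv D10725)
def n13646 : Q := act 5 n10719
theorem D13646 : act 5 n10719 = n13646 := rfl
theorem F23289 : act 0 n13646 = n10721 := d4_1 D13646 (iv D10721) D10719
def n13647 : Q := act 4 n10721
theorem D13647 : act 4 n10721 = n13647 := rfl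
theorem F23290 : act 1 n13647 = n10722 := d7_1 D13647 (iv D10722) (iv F17969)
theorem F23291 : act 5 n13647 = n10734 := d14_2 D10721 D13647 (iv D10734) (iv F17919) (iv F17920)
def n13648 : Q := act 3 n10722
theorem D13648 : act 3 n10722 = n13648 := rfl
theorem F23292 : act 5 n13648 = n10731 := d13_2 (iv F17971) D13648 F17983
def n13649 : Q := act 2 n10723
theorem D13649 : act 2 n10723 = n13649 := rfl
theorem F23293 : act 4 n13649 = n10724 := d10_2 (iv F17973) D13649 (iv D10724)
def n13650 : Q := act 1 n10724
theorem D13650 : act 1 n10724 = n13650 := rfl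
theorem F23294 : act 2 n13650 = n10878 := d5_2 D10724 D13650 F18250 F14037 (iv F13835)
theorem F23295 : act 5 n13650 = n10725 := d8_2 (iv F17974) D13650 (iv D10725)
def n13651 : Q := act 0 n10725
theorem D13651 : act 0 n10725 = n13651 := rfl
theorem F23296 : act 2 n13651 = n10876 := d1_2 (iv F17975) D13651 (iv D10876)
def n13652 : Q := act 3 n10725
theorem D13652 : act 3 n10725 = n13652 := rfl
theorem F23297 : act 1 n13652 = n10726 := d6_1 D13652 (iv D10726) D10725
def n13653 : Q := act 4 n10726
theorem D13653 : act 4 n10726 = n13653 := rfl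
theorem F23298 : act 3 n13653 = n10798 := d12_1 D13653 F18099 (iv F17967) F17966 D10726
def n13654 : Q := act 4 n10727
theorem D13654 : act 4 n10727 = n13654 := rfl
theorem F23299 : act 1 n13654 = n11565 := d7_1 D13654 (iv D11565) (iv F17976)
def n13655 : Q := act 3 n10728
theorem D13655 : act 3 n10728 = n13655 := rfl
theorem F23300 : act 0 n13655 = n10729 := d2_1 D13655 (iv D10729) D10728
theorem F23301 : act 5 n13655 = n11563 := d13_2 (iv F17980) D13655 (iv D11563)
theorem F23302 : act 2 n13655 = n11551 := d15_2 (iv F17978) D13655 (iv D11551) (iv D8972) (iv D6880) F8552 D5225 (iv F10552) D8332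
def n13656 : Q := act 2 n10729
theorem D13656 : act 2 n10729 = n13656 := rfl
theorem F23303 : act 0 n13656 = n11551 := d1_1 D13656 (iv F23302) F23300
theorem F23304 : act 5 n13656 = n11564 := d11_2 (iv F17982) D13656 (iv D11564)
theorem F23305 : act 3 n13656 = n11548 := d15_1 D13656 (iv D11548) (iv D8970) F11370 D6886 D8980 D11563 (iv F23301) F23300
def n13657 : Q := act 4 n10729
theorem D13657 : act 4 n10729 = n13657 := rfl
theorem F23306 : act 1 n13657 = n10731 := d7_1 D13657 (iv D10731) (iv F17981)
theorem F23307 : act 3 n13657 = n10734 := d12_1 D13657 (iv D10734) (iv D8329) (iv F13840) D10729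
def n13658 : Q := act 1 n10730
theorem D13658 : act 1 n10730 = n13658 := rfl
def n13659 : Q := act 4 n10730
theorem D13659 : act 4 n10730 = n13659 := rfl
theorem F23308 : act 2 n13659 = n10731 := d10_1 D13659 (iv D10731) D10730
def n13660 : Q := act 2 n10732
theorem D13660 : act 2 n10732 = n13660 := rfl
theorem F23309 : act 0 n13660 = n10733 := d1_1 D13660 (iv D10733) (iv F17984)
theorem F23310 : act 3 n13660 = n11233 := d15_1 D13660 (iv D11233) (iv D8722) F11054 (iv F10503) (iv F13778) D10697 F17919 (iv F17984)
def n13661 : Q := act 4 n10732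
theorem D13661 : act 4 n10732 = n13661 := rfl
theorem F23311 : act 0 n13661 = n10734 := d3_1 D13661 (iv D10734) (iv F17984)
def n13662 : Q := act 3 n10733
theorem D13662 : act 3 n10733 = n13662 := rfl
theorem F23312 : act 0 n13662 = n11233 := d2_1 D13662 (iv F23310) F23309
theorem F23313 : act 1 n13662 = n12004 := d6_1 D13662 (iv F23260) F23258
theorem F23314 : act 2 n13662 = n11230 := d15_2 D10733 D13662 (iv D11230) F14453 (iv F13785) (iv F17916) D13615 F23202 F17984
def n13663 : Q := act 4 n10733
theorem D13663 : act 4 n10733 = n13663 := rfl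
theorem F23315 : act 2 n13663 = n10734 := d10_1 D13663 (iv D10734) D10733
def n13664 : Q := act 1 n10735
theorem D13664 : act 1 n10735 = n13664 := rfl
theorem F23316 : act 2 n13664 = n11180 := d5_2 D10735 D13664 (iv D11180) (iv D8682) (iv F13845)
theorem F23317 : act 3 n13664 = n12653 := d6_2 (iv F17987) D13664 F21388
theorem F23318 : act 5 n13664 = n12652 := d8_2 (iv F17988) D13664 F21387
def n13665 : Q := act 4 n10735
theorem D13665 : act 4 n10735 = n13665 := rfl
theorem F23319 : act 0 n13665 = n12059 := d3_1 D13665 F20311 (iv F17986)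
theorem F23320 : act 2 n13665 = n10736 := d10_1 D13665 (iv D10736) D10735
def n13666 : Q := act 5 n10736
theorem D13666 : act 5 n10736 = n13666 := rfl
theorem F23321 : act 0 n13666 = n12060 := d4_1 D13666 (iv D12060) (iv F17989)
theorem F23322 : act 1 n13666 = n11179 := d8_1 D13666 (iv D11179) (iv F17990)
theorem F23323 : act 3 n13666 = n10881 := d13_1 D13666 (iv D10881) (iv F17991)
def n13667 : Q := act 1 n10737
theorem D13667 : act 1 n10737 = n13667 := rfl
theorem F23324 : act 0 n13667 = n11220 := d0_1 D13667 F18803 F14438 (iv F13853) (iv F17992)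
theorem F23325 : act 2 n13667 = n11429 := d5_2 D10737 D13667 F19170 F14780 (iv F13851)
theorem F23326 : act 5 n13667 = n11217 := d8_2 (iv F17993) D13667 F18799
def n13668 : Q := act 3 n10737
theorem D13668 : act 3 n10737 = n13668 := rfl
theorem F23327 : act 0 n13668 = n10738 := d2_1 D13668 (iv D10738) (iv F17992)
theorem F23328 : act 5 n13668 = n11230 := d13_2 (iv F17993) D13668 (iv D11230)
def n13669 : Q := act 2 n10738
theorem D13669 : act 2 n10738 = n13669 := rfl
theorem F23329 : act 5 n13669 = n11233 := d11_2 (iv F17995) D13669 (iv D11233)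
def n13670 : Q := act 4 n10738
theorem D13670 : act 4 n10738 = n13670 := rfl
theorem F23330 : act 1 n13670 = n11244 := d7_1 D13670 (iv D11244) (iv F17994)
def n13671 : Q := act 4 n10739
theorem D13671 : act 4 n10739 = n13671 := rfl
theorem F23331 : act 0 n13671 = n10740 := d3_1 D13671 (iv D10740) D10739
theorem F23332 : act 1 n13671 = n10743 := d7_1 D13671 (iv D10743) (iv F17996)
theorem F23333 : act 3 n13671 = n11331 := d12_1 D13671 F19012 (iv F22990) (iv D10769) (iv F17997)
theorem F23334 : act 5 n11330 = n13671 := d13_0 F23333 (iv D11331) D11330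
theorem F23335 : act 3 n11304 = n11321 := d15_1 (iv F18968) (iv D11321) (iv D8794) F11156 D6744 D8800 D11330 F23334 F23331
theorem F23336 : act 1 n11321 = n11306 := d6_1 F23335 (iv D11306) (iv F18967)
theorem F23337 : act 2 n11306 = n11323 := d5_2 D11321 F23336 (iv D11323) (iv D8796) (iv F14605)
theorem F23338 : act 0 n11323 = n11317 := d1_1 F23337 (iv D11317) (iv F18971)
theorem F23339 : act 3 n11323 = n11325 := d15_1 F23337 F19003 F14609 F11157 (iv F11143) (iv F14596) (iv F18993) (iv D11318) (iv F18971)
theorem F23340 : act 1 n11325 = n11324 := d6_1 F23339 (iv D11324) D11323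
theorem F23341 : act 5 n11324 = n11323 := d13_0 F23339 (iv D11325) D11324
def n13672 : Q := act 3 n10740
theorem D13672 : act 3 n10740 = n13672 := rfl
theorem F23342 : act 0 n13672 = n11331 := d2_1 D13672 (iv F23333) F23331
theorem F23343 : act 1 n13672 = n10741 := d6_1 D13672 (iv D10741) (iv F17999)
theorem F23344 : act 4 n13672 = n12851 := d12_2 D10740 D13672 F23101 (iv D13570) F17841
theorem F23345 : act 2 n13672 = n11328 := d15_6 (iv F11156) D8794 D11321 (iv F23335) F18968 D13672 F19007 (iv D8799) F11158
theorem F23346 : act 5 n13672 = n11327 := d15_8 (iv D8800) (iv D6744) (iv F11156) D8794 D11321 (iv F23335) F18968 D13672 F19004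
def n13673 : Q := act 5 n10740
theorem D13673 : act 5 n10740 = n13673 := rfl
theorem F23347 : act 0 n13673 = n11330 := d4_1 D13673 F23334 F23331
theorem F23348 : act 1 n13673 = n10742 := d8_1 D13673 (iv D10742) (iv F17999)
theorem F23349 : act 3 n13673 = n11327 := d13_1 D13673 (iv F23346) (iv D13672)
theorem F23350 : act 4 n13673 = n11330 := d14_1 D13673 F23334 (iv D13671) (iv F17998) D10740
def n13674 : Q := act 2 n10741
theorem D13674 : act 2 n10741 = n13674 := rfl
theorem F23351 : act 0 n13674 = n10752 := d1_1 D13674 (iv D10752) (iv F18000)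
theorem F23352 : act 3 n13674 = n13564 := d15_1 D13674 F23083 F17820 F13710 (iv F10567) (iv F13871) (iv F18020) (iv D10753) (iv F18000)
theorem F23353 : act 5 n13563 = n13674 := d13_0 F23352 (iv D13564) D13563
def n13675 : Q := act 5 n10741
theorem D13675 : act 5 n10741 = n13675 := rfl
theorem F23354 : act 0 n13675 = n10753 := d4_1 D13675 (iv D10753) (iv F18000)
theorem F23355 : act 1 n13675 = n11327 := d8_1 D13675 (iv F23346) F23343
theorem F23356 : act 2 n13675 = n13563 := d11_1 D13675 F23353 (iv D13674)
theorem F23357 : act 3 n13675 = n10742 := d13_1 D13675 (iv D10742) D10741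
theorem F23358 : act 4 n13675 = n11670 := d14_1 D13675 F19622 (iv F21693) F23105 F23104
theorem F23359 : act 4 n13348 = n13563 := d10_2 F23358 (iv F22690) (iv F23356)
theorem F23360 : act 1 n13563 = n13346 := d7_1 F23359 F22685 D13348
theorem F23361 : act 3 n13346 = n13562 := d6_2 D13563 F23360 (iv D13562)
theorem F23362 : act 0 n13562 = n13355 := d2_1 F23361 (iv D13355) (iv F22684)
def n13676 : Q := act 4 n10742
theorem D13676 : act 4 n10742 = n13676 := rfl
theorem F23363 : act 0 n13676 = n10749 := d3_1 D13676 F18018 (iv F18001)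
theorem F23364 : act 1 n13676 = n11330 := d7_1 D13676 (iv F23350) F23348
theorem F23365 : act 2 n13676 = n10744 := d10_1 D13676 (iv D10744) (iv F18002)
theorem F23366 : act 3 n13676 = n11329 := d12_1 D13676 F19010 (iv F19621) (iv F23358) F23357
theorem F23367 : act 5 n13676 = n10743 := d14_2 D10742 D13676 (iv D10743) (iv D8337) D8336
def n13677 : Q := act 3 n10743
theorem D13677 : act 3 n10743 = n13677 := rfl
theorem F23368 : act 0 n13677 = n10748 := d2_1 D13677 (iv D10748) (iv F18003)
theorem F23369 : act 1 n13677 = n11331 := d6_1 D13677 (iv F23333) F23332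
theorem F23370 : act 4 n13677 = n10770 := d12_2 D10743 D13677 (iv D10770) (iv D8359) (iv F13859)
theorem F23371 : act 5 n13677 = n11329 := d13_2 F23367 D13677 (iv F23366)
theorem F23372 : act 2 n11334 = n13677 := d11_3 F23371 F19009 D11334
def n13678 : Q := act 3 n10744
theorem D13678 : act 3 n10744 = n13678 := rfl
theorem F23373 : act 0 n13678 = n10754 := d2_1 D13678 (iv D10754) (iv F18005)
theorem F23374 : act 4 n13678 = n13379 := d12_2 D10744 D13678 F22733 F17554 (iv F13861)
theorem F23375 : act 5 n13678 = n10745 := d13_2 (iv F18006) D13678 (iv D10745)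
def n13679 : Q := act 2 n10745
theorem D13679 : act 2 n10745 = n13679 := rfl
theorem F23376 : act 0 n13679 = n10755 := d1_1 D13679 (iv D10755) (iv F18007)
theorem F23377 : act 4 n13679 = n10746 := d10_2 (iv F18008) D13679 (iv D10746)
def n13680 : Q := act 1 n10746
theorem D13680 : act 1 n10746 = n13680 := rfl
theorem F23378 : act 3 n13680 = n13579 := d6_2 (iv F18011) D13680 (iv D13579)
theorem F23379 : act 5 n13680 = n13558 := d8_2 (iv F18010) D13680 (iv D13558)
def n13681 : Q := act 3 n10747
theorem D13681 : act 3 n10747 = n13681 := rfl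
theorem F23380 : act 0 n13681 = n10770 := d2_1 D13681 (iv D10770) (iv F18012)
theorem F23381 : act 1 n13681 = n10750 := d6_1 D13681 (iv D10750) (iv F18013)
theorem F23382 : act 4 n13681 = n10748 := d12_2 D10747 D13681 (iv D10748) (iv D8342) D8341
theorem F23383 : act 2 n11663 = n13681 := d1_0 F23380 F22996 (iv F19610)
theorem F23384 : act 5 n12875 = n13681 := d4_0 F23380 F22997 D12875
def n13682 : Q := act 5 n10747
theorem D13682 : act 5 n10747 = n13682 := rfl
theorem F23385 : act 0 n13682 = n10771 := d4_1 D13682 (iv D10771) (iv F18012)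
theorem F23386 : act 1 n13682 = n10751 := d8_1 D13682 (iv D10751) (iv F18013)
theorem F23387 : act 2 n13682 = n10764 := d11_1 D13682 (iv D10764) (iv F18014)
theorem F23388 : act 3 n13682 = n12875 := d13_1 D13682 F23384 (iv D13681)
theorem F23389 : act 4 n13682 = n10751 := d14_1 D13682 (iv D10751) (iv D8343) (iv F13868) D10747
def n13683 : Q := act 2 n10748
theorem D13683 : act 2 n10748 = n13683 := rfl
theorem F23390 : act 0 n13683 = n11334 := d1_1 D13683 F23372 F23368
theorem F23391 : act 4 n13683 = n11663 := d10_2 F23382 D13683 F23383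
theorem F23392 : act 5 n11332 = n13683 := d14_0 F23391 (iv F19611) F16814 (iv F15075) (iv F19013)
def n13684 : Q := act 5 n10748
theorem D13684 : act 5 n10748 = n13684 := rfl
theorem F23393 : act 0 n13684 = n11329 := d4_1 D13684 (iv F23371) F23368
theorem F23394 : act 1 n13684 = n10753 := d8_1 D13684 (iv D10753) (iv F18015)
theorem F23395 : act 2 n13684 = n11332 := d11_1 D13684 F23392 (iv D13683)
theorem F23396 : act 3 n13684 = n10749 := d13_1 D13684 (iv D10749) D10748
theorem F23397 : act 4 n13684 = n11671 := d14_1 D13684 F19624 (iv F21743) F23384 F23382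
def n13685 : Q := act 2 n10750
theorem D13685 : act 2 n10750 = n13685 := rfl
theorem F23398 : act 4 n13685 = n10752 := d10_2 (iv F18019) D13685 (iv D10752)
def n13686 : Q := act 5 n10750
theorem D13686 : act 5 n10750 = n13686 := rfl
theorem F23399 : act 0 n13686 = n12852 := d4_1 D13686 F23105 F23102
theorem F23400 : act 1 n13686 = n12875 := d8_1 D13686 F23384 F23381
theorem F23401 : act 3 n13686 = n10751 := d13_1 D13686 (iv D10751) D10750
theorem F23402 : act 4 n12854 = n13686 := d12_0 F23401 (iv F23389) F23388 F21743 (iv F21697)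
def n13687 : Q := act 1 n10752
theorem D13687 : act 1 n10752 = n13687 := rfl
def n13688 : Q := act 3 n10752
theorem D13688 : act 3 n10752 = n13688 := rfl
theorem F23403 : act 0 n13688 = n13564 := d2_1 D13688 (iv F23352) F23351
theorem F23404 : act 2 n13688 = n12762 := d9_1 D13688 F21557 F16672 (iv F13861) (iv F18002) (iv F23357) F23356 (iv D13563) (iv D10648) (iv D8262) F10442 (iv F7903) (iv F10565) D8344 D10752
theorem F23405 : act 5 n13688 = n12761 := d15_8 (iv D10648) (iv D8262) F10442 (iv F7903) (iv F10565) D8344 D10752 D13688 F21554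
def n13689 : Q := act 5 n10752
theorem D13689 : act 5 n10752 = n13689 := rfl
theorem F23406 : act 0 n13689 = n13563 := d4_1 D13689 F23353 F23351
theorem F23407 : act 2 n13689 = n10753 := d11_1 D13689 (iv D10753) D10752
theorem F23408 : act 3 n13689 = n12761 := d13_1 D13689 (iv F23405) (iv D13688)
def n13690 : Q := act 4 n10753
theorem D13690 : act 4 n10753 = n13690 := rfl
theorem F23409 : act 0 n13690 = n11670 := d3_1 D13690 (iv F23358) F23354
theorem F23410 : act 1 n13690 = n11671 := d7_1 D13690 (iv F23397) F23394
theorem F23411 : act 3 n13690 = n11671 := d12_1 D13690 (iv F23397) F23396 F18018 (iv F18020)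
theorem F23412 : act 5 n13690 = n12854 := d14_2 D10753 D13690 F23402 (iv D13686) F18019
def n13691 : Q := act 2 n10754
theorem D13691 : act 2 n10754 = n13691 := rfl
theorem F23413 : act 4 n13691 = n13382 := d10_2 (iv F18022) D13691 F22738
theorem F23414 : act 5 n13691 = n10755 := d11_2 (iv F18023) D13691 (iv D10755)
def n13692 : Q := act 1 n10755
theorem D13692 : act 1 n10755 = n13692 := rfl
theorem F23415 : act 2 n13692 = n10758 := d5_2 D10755 D13692 (iv D10758) (iv D8349) (iv F13874)
theorem F23416 : act 4 n13692 = n10756 := d7_2 (iv F18024) D13692 (iv D10756)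
theorem F23417 : act 3 n13691 = n13692 := d15_1 D13691 F23415 (iv F19018) F23372 (iv D13677) F18004 D10745 (iv F23375) F23373
def n13693 : Q := act 3 n10755
theorem D13693 : act 3 n10755 = n13693 := rfl
theorem F23418 : act 1 n13693 = n13691 := d6_1 D13693 F23417 (iv D13692)
theorem F23419 : act 5 n13693 = n13692 := d13_2 F23414 D13693 (iv F23417)
theorem F23420 : act 2 n13693 = n11333 := d15_2 D10755 D13693 (iv D11333) (iv F19009) (iv F23366) F23365 D13678 F23375 F18007
theorem F23421 : act 4 n12886 = n13693 := d10_0 F23420 F19015 D12886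
def n13694 : Q := act 0 n10756
theorem D13694 : act 0 n10756 = n13694 := rfl
theorem F23422 : act 2 n13694 = n10759 := d1_2 (iv F18025) D13694 (iv D10759)
theorem F23423 : act 5 n13694 = n13559 := d4_2 (iv F18026) D13694 (iv D13559)
def n13695 : Q := act 3 n10756
theorem D13695 : act 3 n10756 = n13695 := rfl
theorem F23424 : act 1 n13695 = n10757 := d6_1 D13695 (iv D10757) D10756
theorem F23425 : act 5 n13695 = n13560 := d13_2 (iv F18026) D13695 (iv D13560)
def n13696 : Q := act 4 n10757
theorem D13696 : act 4 n10757 = n13696 := rfl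
theorem F23426 : act 0 n13696 = n13580 := d3_1 D13696 (iv D13580) (iv F18027)
theorem F23427 : act 2 n13696 = n13578 := d10_1 D13696 (iv D13578) (iv F18029)
theorem F23428 : act 3 n13696 = n12886 := d12_1 D13696 F23421 (iv D13693) F18024 D10757
def n13697 : Q := act 0 n10758
theorem D13697 : act 0 n10758 = n13697 := rfl
theorem F23429 : act 1 n13697 = n13555 := d0_2 D10758 D13697 F23075 F17816 (iv F13877)
theorem F23430 : act 3 n13697 = n13683 := d2_2 F19018 D13697 F23390
theorem F23431 : act 4 n13697 = n10759 := d3_2 (iv F18030) D13697 (iv D10759)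
def n13698 : Q := act 3 n10760
theorem D13698 : act 3 n10760 = n13698 := rfl
theorem F23432 : act 1 n13698 = n10763 := d6_1 D13698 (iv D10763) (iv F18034)
theorem F23433 : act 4 n13698 = n10761 := d12_2 D10760 D13698 (iv D10761) (iv D8353) D8352
def n13699 : Q := act 5 n10760
theorem D13699 : act 5 n10760 = n13699 := rfl
theorem F23434 : act 1 n13699 = n10764 := d8_1 D13699 (iv D10764) (iv F18034)
def n13700 : Q := act 2 n10761
theorem D13700 : act 2 n10761 = n13700 := rfl
def n13701 : Q := act 5 n10761
theorem D13701 : act 5 n10761 = n13701 := rfl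
theorem F23435 : act 0 n13701 = n10943 := d4_1 D13701 (iv F23092) F23090
theorem F23436 : act 1 n13701 = n10766 := d8_1 D13701 (iv D10766) (iv F18035)
theorem F23437 : act 3 n13701 = n10762 := d13_1 D13701 (iv D10762) D10761
def n13702 : Q := act 2 n10763
theorem D13702 : act 2 n10763 = n13702 := rfl
theorem F23438 : act 0 n13702 = n10772 := d1_1 D13702 (iv D10772) (iv F18039)
theorem F23439 : act 4 n13702 = n10765 := d10_2 (iv F18040) D13702 (iv D10765)
theorem F23440 : act 3 n13702 = n11658 := d15_1 D13702 F19606 F15061 (iv F16807) (iv F22993) F18054 (iv F18056) (iv D10773) (iv F18039)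
theorem F23441 : act 1 n11661 = n13702 := d6_3 F23440 F19605 (iv F19607)
theorem F23442 : act 5 n11657 = n13702 := d13_0 F23440 (iv D11658) D11657
def n13703 : Q := act 5 n10763
theorem D13703 : act 5 n10763 = n13703 := rfl
theorem F23443 : act 0 n13703 = n10773 := d4_1 D13703 (iv D10773) (iv F18039)
theorem F23444 : act 2 n13703 = n11657 := d11_1 D13703 F23442 (iv D13702)
theorem F23445 : act 3 n13703 = n10764 := d13_1 D13703 (iv D10764) D10763
def n13704 : Q := act 1 n10765
theorem D13704 : act 1 n10765 = n13704 := rfl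
theorem F23446 : act 3 n13704 = n12568 := d6_2 (iv F18043) D13704 F21257
theorem F23447 : act 4 n13704 = n11661 := d7_2 F23439 D13704 F23441
theorem F23448 : act 5 n13704 = n12621 := d8_2 F18044 D13704 F21343
def n13705 : Q := act 4 n10766
theorem D13705 : act 4 n10766 = n13705 := rfl
theorem F23449 : act 0 n13705 = n10777 := d3_1 D13705 (iv D10777) (iv F18045)
theorem F23450 : act 2 n13705 = n12623 := d10_1 D13705 (iv D12623) (iv F18046)
theorem F23451 : act 3 n13705 = n10983 := d12_1 D13705 (iv D10983) (iv D8526) (iv F13889) (iv F18047)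
def n13706 : Q := act 3 n10767
theorem D13706 : act 3 n10767 = n13706 := rfl
theorem F23452 : act 1 n13706 = n10768 := d6_1 D13706 (iv D10768) D10767
theorem F23453 : act 5 n13706 = n13577 := d13_2 (iv F18049) D13706 (iv D13577)
def n13707 : Q := act 4 n10768
theorem D13707 : act 4 n10768 = n13707 := rfl
theorem F23454 : act 0 n13707 = n10779 := d3_1 D13707 (iv D10779) (iv F18050)
theorem F23455 : act 2 n13707 = n13561 := d10_1 D13707 (iv D13561) (iv F18051)
theorem F23456 : act 3 n13707 = n11047 := d12_1 D13707 (iv D11047) (iv D8579) (iv F13891) D10768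
def n13708 : Q := act 1 n10772
theorem D13708 : act 1 n10772 = n13708 := rfl
theorem F23457 : act 4 n13708 = n10774 := d7_2 (iv F18055) D13708 (iv D10774)
def n13709 : Q := act 3 n10772
theorem D13709 : act 3 n10772 = n13709 := rfl
theorem F23458 : act 0 n13709 = n11658 := d2_1 D13709 (iv F23440) F23438
theorem F23459 : act 2 n13709 = n11664 := d9_1 D13709 F19613 (iv F21742) (iv F23388) F23387 (iv F23445) F23444 (iv D11657) F15053 D9057 (iv F22996) (iv D10770) F13893 D8360 D10772
theorem F23460 : act 5 n13709 = n11656 := d15_8 F15053 D9057 (iv F22996) (iv D10770) F13893 D8360 D10772 D13709 (iv D11656)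
def n13710 : Q := act 5 n10772
theorem D13710 : act 5 n10772 = n13710 := rfl
theorem F23461 : act 0 n13710 = n11657 := d4_1 D13710 F23442 F23438
theorem F23462 : act 2 n13710 = n10773 := d11_1 D13710 (iv D10773) D10772
theorem F23463 : act 3 n13710 = n11656 := d13_1 D13710 (iv F23460) (iv D13709)
def n13711 : Q := act 4 n10773
theorem D13711 : act 4 n10773 = n13711 := rfl
theorem F23464 : act 1 n13711 = n10981 := d7_1 D13711 (iv F23117) F23116
theorem F23465 : act 3 n13711 = n10986 := d12_1 D13711 F18450 (iv F17846) F17847 (iv F18056)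
theorem F23466 : act 5 n13711 = n10777 := d14_2 D10773 D13711 (iv D10777) (iv D8363) (iv F13894)
def n13712 : Q := act 0 n10774
theorem D13712 : act 0 n10774 = n13712 := rfl
def n13713 : Q := act 3 n10774
theorem D13713 : act 3 n10774 = n13713 := rfl
theorem F23467 : act 1 n13713 = n10775 := d6_1 D13713 (iv D10775) D10774
theorem F23468 : act 5 n12617 = n13713 := d8_0 F23467 F18059 D12617
def n13714 : Q := act 5 n10774
theorem D13714 : act 5 n10774 = n13714 := rfl
theorem F23469 : act 1 n13714 = n10776 := d8_1 D13714 (iv D10776) D10774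
theorem F23470 : act 2 n13714 = n10979 := d11_1 D13714 (iv F23123) F23121
theorem F23471 : act 3 n13714 = n12617 := d13_1 D13714 F23468 (iv D13713)
def n13715 : Q := act 4 n10775
theorem D13715 : act 4 n10775 = n13715 := rfl
theorem F23472 : act 0 n13715 = n12615 := d3_1 D13715 (iv D12615) (iv F18057)
theorem F23473 : act 2 n13715 = n12614 := d10_1 D13715 (iv D12614) (iv F18058)
def n13716 : Q := act 4 n10776
theorem D13716 : act 4 n10776 = n13716 := rfl
theorem F23474 : act 0 n13716 = n12623 := d3_1 D13716 (iv D12623) (iv F18060)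
theorem F23475 : act 2 n13716 = n10777 := d10_1 D13716 (iv D10777) (iv F18061)
def n13717 : Q := act 1 n10778
theorem D13717 : act 1 n10778 = n13717 := rfl
theorem F23476 : act 3 n13717 = n13558 := d6_2 (iv F18066) D13717 (iv D13558)
theorem F23477 : act 5 n13717 = n13579 := d8_2 (iv F18067) D13717 (iv D13579)
def n13718 : Q := act 4 n10778
theorem D13718 : act 4 n10778 = n13718 := rfl
theorem F23478 : act 0 n13718 = n13561 := d3_1 D13718 (iv D13561) (iv F18065)
theorem F23479 : act 2 n13718 = n10779 := d10_1 D13718 (iv D10779) D10778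
def n13719 : Q := act 5 n10779
theorem D13719 : act 5 n10779 = n13719 := rfl
theorem F23480 : act 3 n13719 = n11050 := d13_1 D13719 (iv D11050) (iv F18068)
theorem F23481 : act 4 n13719 = n13581 := d14_1 D13719 (iv D13581) (iv D10668) (iv F13897) D10779
def n13720 : Q := act 2 n10780
theorem D13720 : act 2 n10780 = n13720 := rfl
theorem F23482 : act 0 n13720 = n10783 := d1_1 D13720 (iv D10783) (iv F18069)
def n13721 : Q := act 2 n10781
theorem D13721 : act 2 n10781 = n13721 := rfl
theorem F23483 : act 1 n13721 = n10791 := d5_1 D13721 (iv D10791) F13918 F13908 (iv F18071)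
theorem F23484 : act 4 n13721 = n10783 := d10_2 (iv F18072) D13721 (iv D10783)
def n13722 : Q := act 5 n10781
theorem D13722 : act 5 n10781 = n13722 := rfl
theorem F23485 : act 1 n13722 = n10787 := d8_1 D13722 (iv D10787) (iv F18071)
theorem F23486 : act 3 n13722 = n10782 := d13_1 D13722 (iv D10782) D10781
def n13723 : Q := act 4 n10784
theorem D13723 : act 4 n10784 = n13723 := rfl
theorem F23487 : act 1 n13723 = n10788 := d7_1 D13723 (iv D10788) (iv F18075)
def n13724 : Q := act 3 n10785
theorem D13724 : act 3 n10785 = n13724 := rfl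
theorem F23488 : act 1 n13724 = n10789 := d6_1 D13724 (iv D10789) (iv F18077)
theorem F23489 : act 5 n13724 = n10786 := d13_2 (iv F18079) D13724 (iv D10786)
def n13725 : Q := act 2 n10786
theorem D13725 : act 2 n10786 = n13725 := rfl
def n13726 : Q := act 4 n10787
theorem D13726 : act 4 n10787 = n13726 := rfl
theorem F23490 : act 0 n13726 = n10796 := d3_1 D13726 (iv D10796) (iv F18081)
theorem F23491 : act 2 n13726 = n10796 := d10_1 D13726 (iv D10796) (iv F18082)
theorem F23492 : act 5 n13726 = n10788 := d14_2 D10787 D13726 (iv D10788) (iv D8372) (iv F13907)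
def n13727 : Q := act 3 n10788
theorem D13727 : act 3 n10788 = n13727 := rfl
theorem F23493 : act 0 n13727 = n10799 := d2_1 D13727 (iv D10799) (iv F18084)
theorem F23494 : act 4 n13727 = n10789 := d12_2 D10788 D13727 (iv D10789) (iv D8373) (iv F13912)
def n13728 : Q := act 2 n10789
theorem D13728 : act 2 n10789 = n13728 := rfl
theorem F23495 : act 0 n13728 = n10800 := d1_1 D13728 (iv D10800) (iv F18086)
theorem F23496 : act 3 n13728 = n10802 := d9_2 D10789 D13728 (iv D10802) (iv D8388) (iv D6434) (iv D4867) (iv F7942) D6433 D8387 (iv F17967) (iv D10718) (iv D8318) F10537 (iv F10605) (iv F13914)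
theorem F23497 : act 5 n13728 = n10790 := d11_2 (iv F18087) D13728 (iv D10790)
def n13729 : Q := act 1 n10790
theorem D13729 : act 1 n10790 = n13729 := rfl
theorem F23498 : act 3 n13729 = n10825 := d6_2 (iv F18089) D13729 (iv D10825)
def n13730 : Q := act 3 n10791
theorem D13730 : act 3 n10791 = n13730 := rfl
def n13731 : Q := act 5 n10791
theorem D13731 : act 5 n10791 = n13731 := rfl
theorem F23499 : act 2 n13731 = n10792 := d11_1 D13731 (iv D10792) D10791
def n13732 : Q := act 2 n10793
theorem D13732 : act 2 n10793 = n13732 := rfl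
def n13733 : Q := act 5 n10793
theorem D13733 : act 5 n10793 = n13733 := rfl
theorem F23500 : act 1 n13733 = n10795 := d8_1 D13733 (iv F18096) (iv F18093)
theorem F23501 : act 3 n13733 = n10794 := d13_1 D13733 (iv D10794) D10793
def n13734 : Q := act 3 n10796
theorem D13734 : act 3 n10796 = n13734 := rfl
theorem F23502 : act 4 n13734 = n10797 := d12_2 D10796 D13734 (iv D10797) (iv D8383) (iv F13923)
theorem F23503 : act 5 n13734 = n10799 := d13_2 (iv F18097) D13734 (iv D10799)
def n13735 : Q := act 2 n10797
theorem D13735 : act 2 n10797 = n13735 := rfl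
theorem F23504 : act 5 n13735 = n10798 := d11_2 (iv F18098) D13735 (iv D10798)
def n13736 : Q := act 1 n10798
theorem D13736 : act 1 n10798 = n13736 := rfl
theorem F23505 : act 4 n13736 = n10801 := d7_2 (iv F18099) D13736 (iv D10801)
def n13737 : Q := act 2 n10799
theorem D13737 : act 2 n10799 = n13737 := rfl
theorem F23506 : act 4 n13737 = n10800 := d10_2 (iv F18100) D13737 (iv D10800)
def n13738 : Q := act 1 n10800
theorem D13738 : act 1 n10800 = n13738 := rfl
theorem F23507 : act 5 n13738 = n10801 := d8_2 (iv F18101) D13738 (iv D10801)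
def n13739 : Q := act 0 n10801
theorem D13739 : act 0 n10801 = n13739 := rfl
def n13740 : Q := act 1 n10802
theorem D13740 : act 1 n10802 = n13740 := rfl
theorem F23508 : act 2 n13740 = n10931 := d5_2 D10802 D13740 F18346 F14116 (iv F13927)
theorem F23509 : act 5 n13740 = n10825 := d8_2 (iv F18102) D13740 (iv D10825)
def n13741 : Q := act 4 n10802
theorem D13741 : act 4 n10802 = n13741 := rfl
theorem F23510 : act 2 n13741 = n10803 := d10_1 D13741 (iv D10803) D10802
def n13742 : Q := act 2 n10804
theorem D13742 : act 2 n10804 = n13742 := rfl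
theorem F23511 : act 0 n13742 = n10805 := d1_1 D13742 (iv D10805) (iv F18105)
theorem F23512 : act 3 n13742 = n10832 := d9_2 D10804 D13742 (iv D10832) (iv D8410) (iv D6453) (iv D4883) (iv F7978) D6450 D8407 D10828 F18166 (iv D9894) F12642 (iv F10628) (iv F13930)
theorem F23513 : act 5 n13742 = n10826 := d11_2 (iv F18107) D13742 (iv D10826)
def n13743 : Q := act 4 n10804
theorem D13743 : act 4 n10804 = n13743 := rfl
theorem F23514 : act 0 n13743 = n10806 := d3_1 D13743 (iv D10806) (iv F18105)
theorem F23515 : act 1 n13743 = n12000 := d7_1 D13743 (iv D12000) (iv F18106)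
theorem F23516 : act 3 n13743 = n10922 := d12_1 D13743 (iv D10922) F14102 (iv F13931) D10804
theorem F23517 : act 5 n13743 = n12213 := d14_2 (iv F18107) D13743 (iv D12213) (iv D9521) (iv F13970)
def n13744 : Q := act 3 n10805
theorem D13744 : act 3 n10805 = n13744 := rfl
theorem F23518 : act 0 n13744 = n10832 := d2_1 D13744 (iv F23512) F23511
theorem F23519 : act 2 n13744 = n10831 := d9_1 D13744 (iv D10831) (iv D8409) (iv D6452) (iv F10660) D8406 D10826 F18163 (iv D9905) (iv D7639) F9568 (iv F7952) (iv F10623) D8390 D10805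
theorem F23520 : act 5 n13744 = n10828 := d13_2 (iv F18108) D13744 (iv D10828)
def n13745 : Q := act 4 n10805
theorem D13745 : act 4 n10805 = n13745 := rfl
theorem F23521 : act 2 n13745 = n10806 := d10_1 D13745 (iv D10806) D10805
def n13746 : Q := act 5 n10808
theorem D13746 : act 5 n10808 = n13746 := rfl
theorem F23522 : act 0 n13746 = n11498 := d4_1 D13746 (iv D11498) (iv F18116)
theorem F23523 : act 1 n13746 = n10990 := d8_1 D13746 (iv D10990) (iv F18117)
theorem F23524 : act 2 n13746 = n11473 := d11_1 D13746 (iv D11473) (iv F18118)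
theorem F23525 : act 3 n13746 = n11955 := d13_1 D13746 (iv D11955) (iv F18119)
theorem F23526 : act 4 n13746 = n10842 := d14_1 D13746 (iv D10842) (iv D8416) (iv F13941) D10808
def n13747 : Q := act 3 n10809
theorem D13747 : act 3 n10809 = n13747 := rfl
theorem F23527 : act 0 n13747 = n13604 := d2_1 D13747 (iv D13604) (iv F18120)
theorem F23528 : act 1 n13747 = n10812 := d6_1 D13747 (iv D10812) (iv F18121)
theorem F23529 : act 4 n13747 = n10810 := d12_2 D10809 D13747 (iv D10810) (iv D8395) D8394
def n13748 : Q := act 5 n10809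
theorem D13748 : act 5 n10809 = n13748 := rfl
theorem F23530 : act 0 n13748 = n13605 := d4_1 D13748 (iv D13605) (iv F18120)
theorem F23531 : act 1 n13748 = n10813 := d8_1 D13748 (iv D10813) (iv F18121)
theorem F23532 : act 2 n13748 = n13605 := d11_1 D13748 (iv D13605) (iv F18122)
theorem F23533 : act 4 n13748 = n11437 := d14_1 D13748 (iv D11437) (iv D8886) (iv F13945) D10809
def n13749 : Q := act 2 n10810
theorem D13749 : act 2 n10810 = n13749 := rfl
theorem F23534 : act 0 n13749 = n13725 := d1_1 D13749 (iv D13725) (iv F18123)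
def n13750 : Q := act 5 n10810
theorem D13750 : act 5 n10810 = n13750 := rfl
theorem F23535 : act 0 n13750 = n13724 := d4_1 D13750 F23489 (iv F18123)
theorem F23536 : act 1 n13750 = n10815 := d8_1 D13750 (iv D10815) (iv F18124)
theorem F23537 : act 3 n13750 = n10811 := d13_1 D13750 (iv D10811) D10810
def n13751 : Q := act 2 n10812
theorem D13751 : act 2 n10812 = n13751 := rfl
theorem F23538 : act 0 n13751 = n10819 := d1_1 D13751 (iv D10819) (iv F18129)
theorem F23539 : act 4 n13751 = n10814 := d10_2 (iv F18130) D13751 (iv D10814)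
def n13752 : Q := act 5 n10812
theorem D13752 : act 5 n10812 = n13752 := rfl
theorem F23540 : act 0 n13752 = n10820 := d4_1 D13752 (iv D10820) (iv F18129)
theorem F23541 : act 3 n13752 = n10813 := d13_1 D13752 (iv D10813) D10812
def n13753 : Q := act 1 n10814
theorem D13753 : act 1 n10814 = n13753 := rfl
theorem F23542 : act 3 n13753 = n10860 := d6_2 (iv F18135) D13753 F18222
theorem F23543 : act 5 n13753 = n10859 := d8_2 F18136 D13753 F18221
def n13754 : Q := act 4 n10815
theorem D13754 : act 4 n10815 = n13754 := rfl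
theorem F23544 : act 0 n13754 = n10824 := d3_1 D13754 (iv D10824) (iv F18137)
theorem F23545 : act 2 n13754 = n10861 := d10_1 D13754 (iv D10861) (iv F18138)
theorem F23546 : act 3 n13754 = n12306 := d12_1 D13754 (iv D12306) (iv D9602) (iv F13955) (iv F18139)
def n13755 : Q := act 3 n10816
theorem D13755 : act 3 n10816 = n13755 := rfl
theorem F23547 : act 0 n13755 = n13596 := d2_1 D13755 (iv D13596) (iv F18140)
theorem F23548 : act 1 n13755 = n10817 := d6_1 D13755 (iv D10817) (iv F18141)
theorem F23549 : act 4 n13755 = n11420 := d12_2 D10816 D13755 (iv D11420) (iv D8871) (iv F13958)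
def n13756 : Q := act 5 n10816
theorem D13756 : act 5 n10816 = n13756 := rfl
theorem F23550 : act 0 n13756 = n13597 := d4_1 D13756 (iv D13597) (iv F18140)
theorem F23551 : act 1 n13756 = n10818 := d8_1 D13756 (iv D10818) (iv F18141)
theorem F23552 : act 2 n13756 = n13597 := d11_1 D13756 (iv D13597) (iv F18142)
theorem F23553 : act 4 n13756 = n11416 := d14_1 D13756 (iv D11416) (iv D8868) (iv F13959) D10816
def n13757 : Q := act 2 n10817
theorem D13757 : act 2 n10817 = n13757 := rfl
theorem F23554 : act 0 n13757 = n11443 := d1_1 D13757 (iv D11443) (iv F18143)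
theorem F23555 : act 4 n13757 = n11426 := d10_2 (iv F18144) D13757 (iv D11426)
def n13758 : Q := act 5 n10817
theorem D13758 : act 5 n10817 = n13758 := rfl
theorem F23556 : act 0 n13758 = n11442 := d4_1 D13758 F19204 (iv F18143)
theorem F23557 : act 3 n13758 = n10818 := d13_1 D13758 (iv D10818) D10817
def n13759 : Q := act 1 n10819
theorem D13759 : act 1 n10819 = n13759 := rfl
theorem F23558 : act 2 n13759 = n13736 := d5_2 D10819 D13759 (iv D13736) (iv D10798) (iv F13962)
theorem F23559 : act 4 n13759 = n10821 := d7_2 (iv F18148) D13759 (iv D10821)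
def n13760 : Q := act 3 n10819
theorem D13760 : act 3 n10819 = n13760 := rfl
def n13761 : Q := act 5 n10819
theorem D13761 : act 5 n10819 = n13761 := rfl
theorem F23560 : act 2 n13761 = n10820 := d11_1 D13761 (iv D10820) D10819
def n13762 : Q := act 4 n10820
theorem D13762 : act 4 n10820 = n13762 := rfl
theorem F23561 : act 1 n13762 = n13734 := d7_1 D13762 F23502 (iv F18149)
theorem F23562 : act 3 n13762 = n12309 := d12_1 D13762 F20813 F18092 (iv F13965) (iv F18150)
theorem F23563 : act 5 n13762 = n10824 := d14_2 D10820 D13762 (iv D10824) (iv D8404) (iv F13963)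
def n13763 : Q := act 0 n10821
theorem D13763 : act 0 n10821 = n13763 := rfl
theorem F23564 : act 2 n13763 = n13739 := d1_2 (iv F18151) D13763 (iv D13739)
def n13764 : Q := act 3 n10821
theorem D13764 : act 3 n10821 = n13764 := rfl
theorem F23565 : act 1 n13764 = n10822 := d6_1 D13764 (iv D10822) D10821
theorem F23566 : act 5 n10849 = n13764 := d8_0 F23565 F18154 D10849
def n13765 : Q := act 5 n10821
theorem D13765 : act 5 n10821 = n13765 := rfl
theorem F23567 : act 1 n13765 = n10823 := d8_1 D13765 (iv D10823) D10821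
theorem F23568 : act 2 n13765 = n13738 := d11_1 D13765 F23507 (iv F18151)
theorem F23569 : act 3 n13765 = n10849 := d13_1 D13765 F23566 (iv D13764)
def n13766 : Q := act 4 n10822
theorem D13766 : act 4 n10822 = n13766 := rfl
theorem F23570 : act 0 n13766 = n10862 := d3_1 D13766 (iv D10862) (iv F18152)
theorem F23571 : act 2 n13766 = n10850 := d10_1 D13766 (iv D10850) (iv F18153)
def n13767 : Q := act 4 n10823
theorem D13767 : act 4 n10823 = n13767 := rfl
theorem F23572 : act 0 n13767 = n10861 := d3_1 D13767 (iv D10861) (iv F18155)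
theorem F23573 : act 2 n13767 = n10824 := d10_1 D13767 (iv D10824) (iv F18156)
def n13768 : Q := act 0 n10825
theorem D13768 : act 0 n10825 = n13768 := rfl
theorem F23574 : act 2 n13768 = n10929 := d1_2 (iv F18160) D13768 (iv D10929)
def n13769 : Q := act 1 n10826
theorem D13769 : act 1 n10826 = n13769 := rfl
theorem F23575 : act 2 n13769 = n11997 := d5_2 D10826 D13769 (iv D11997) (iv D9355) (iv F13969)
theorem F23576 : act 3 n13769 = n12650 := d6_2 (iv F18163) D13769 (iv D12650)
theorem F23577 : act 4 n13769 = n12210 := d7_2 (iv F18162) D13769 (iv D12210)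
def n13770 : Q := act 0 n10827
theorem D13770 : act 0 n10827 = n13770 := rfl
theorem F23578 : act 2 n13770 = n10829 := d1_2 (iv F18164) D13770 (iv D10829)
def n13771 : Q := act 3 n10827
theorem D13771 : act 3 n10827 = n13771 := rfl
theorem F23579 : act 1 n13771 = n10828 := d6_1 D13771 (iv D10828) D10827
def n13772 : Q := act 4 n10828
theorem D13772 : act 4 n10828 = n13772 := rfl
theorem F23580 : act 0 n13772 = n12649 := d3_1 D13772 F21386 (iv F18165)
theorem F23581 : act 2 n13772 = n12604 := d10_1 D13772 F21318 (iv F18166)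
def n13773 : Q := act 3 n10830
theorem D13773 : act 3 n10830 = n13773 := rfl
theorem F23582 : act 0 n13773 = n13706 := d2_1 D13773 (iv D13706) (iv F18167)
theorem F23583 : act 1 n13773 = n10831 := d6_1 D13773 (iv D10831) D10830
theorem F23584 : act 5 n13773 = n12638 := d13_2 (iv F18170) D13773 (iv D12638)
def n13774 : Q := act 4 n10831
theorem D13774 : act 4 n10831 = n13774 := rfl
theorem F23585 : act 0 n13774 = n10833 := d3_1 D13774 (iv D10833) (iv F18171)
theorem F23586 : act 3 n13774 = n10924 := d12_1 D13774 (iv D10924) (iv D8484) (iv F13972) D10831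
def n13775 : Q := act 1 n10832
theorem D13775 : act 1 n10832 = n13775 := rfl
theorem F23587 : act 2 n13775 = n13717 := d5_2 D10832 D13775 (iv D13717) (iv D10778) (iv F13974)
theorem F23588 : act 5 n13775 = n12650 := d8_2 (iv F18173) D13775 (iv D12650)
def n13776 : Q := act 4 n10832
theorem D13776 : act 4 n10832 = n13776 := rfl
theorem F23589 : act 2 n13776 = n10833 := d10_1 D13776 (iv D10833) D10832
def n13777 : Q := act 5 n10833
theorem D13777 : act 5 n10833 = n13777 := rfl
theorem F23590 : act 1 n13777 = n13719 := d8_1 D13777 (iv D13719) (iv F18174)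
theorem F23591 : act 3 n13777 = n10934 := d13_1 D13777 (iv D10934) (iv F18175)
theorem F23592 : act 4 n13777 = n12648 := d14_1 D13777 F21385 F16540 (iv F13975) D10833
def n13778 : Q := act 3 n10834
theorem D13778 : act 3 n10834 = n13778 := rfl
theorem F23593 : act 0 n13778 = n10835 := d2_1 D13778 (iv D10835) D10834
theorem F23594 : act 1 n13778 = n10837 := d6_1 D13778 (iv D10837) (iv F18176)
theorem F23595 : act 5 n13778 = n10987 := d13_2 (iv F18179) D13778 (iv D10987)
def n13779 : Q := act 2 n10835
theorem D13779 : act 2 n10835 = n13779 := rfl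
theorem F23596 : act 1 n13779 = n11455 := d5_1 D13779 (iv D11455) F14782 (iv F13977) (iv F18180)
theorem F23597 : act 5 n13779 = n11492 := d11_2 (iv F18181) D13779 F19284
def n13780 : Q := act 4 n10835
theorem D13780 : act 4 n10835 = n13780 := rfl
theorem F23598 : act 1 n13780 = n10836 := d7_1 D13780 (iv D10836) (iv F18180)
def n13781 : Q := act 5 n10836
theorem D13781 : act 5 n10836 = n13781 := rfl
theorem F23599 : act 0 n13781 = n10842 := d4_1 D13781 (iv D10842) (iv F18182)
theorem F23600 : act 2 n13781 = n11457 := d11_1 D13781 (iv D11457) (iv F18183)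
theorem F23601 : act 4 n13781 = n11498 := d14_1 D13781 (iv D11498) (iv D8933) (iv F13978) D10836
def n13782 : Q := act 4 n10837
theorem D13782 : act 4 n10837 = n13782 := rfl
theorem F23602 : act 0 n13782 = n10839 := d3_1 D13782 (iv D10839) (iv F18184)
theorem F23603 : act 2 n13782 = n10955 := d10_1 D13782 (iv D10955) (iv F18186)
theorem F23604 : act 3 n13782 = n12250 := d12_1 D13782 (iv D12250) (iv D9549) (iv F13980) D10837
theorem F23605 : act 5 n13782 = n12392 := d14_2 (iv F18185) D13782 (iv D12392) (iv D9667) (iv F14174)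
def n13783 : Q := act 1 n10838
theorem D13783 : act 1 n10838 = n13783 := rfl
theorem F23606 : act 2 n13783 = n10840 := d5_2 D10838 D13783 (iv D10840) (iv D8415) (iv F13982)
theorem F23607 : act 3 n13783 = n10945 := d6_2 (iv F18189) D13783 (iv D10945)
theorem F23608 : act 5 n13783 = n10988 := d8_2 (iv F18188) D13783 (iv D10988)
def n13784 : Q := act 4 n10838
theorem D13784 : act 4 n10838 = n13784 := rfl
theorem F23609 : act 0 n13784 = n10955 := d3_1 D13784 (iv D10955) (iv F18187)
theorem F23610 : act 2 n13784 = n10839 := d10_1 D13784 (iv D10839) D10838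
theorem F23611 : act 3 n13784 = n11863 := d12_1 D13784 (iv D11863) (iv D9231) (iv F14135) (iv F18189)
def n13785 : Q := act 5 n10839
theorem D13785 : act 5 n10839 = n13785 := rfl
theorem F23612 : act 0 n13785 = n12392 := d4_1 D13785 (iv F23605) F23602
theorem F23613 : act 1 n13785 = n10842 := d8_1 D13785 (iv D10842) (iv F18190)
theorem F23614 : act 3 n13785 = n12290 := d13_1 D13785 (iv D12290) (iv F18191)
theorem F23615 : act 4 n13785 = n10990 := d14_1 D13785 (iv D10990) (iv D8533) (iv F13983) D10839
def n13786 : Q := act 0 n10840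
theorem D13786 : act 0 n10840 = n13786 := rfl
theorem F23616 : act 1 n13786 = n11454 := d0_2 D10840 D13786 F19221 F14782 (iv F13984)
theorem F23617 : act 3 n13786 = n11429 := d2_2 (iv F18192) D13786 (iv D11429)
theorem F23618 : act 5 n13786 = n11471 := d4_2 (iv F18193) D13786 F19252
def n13787 : Q := act 4 n10840
theorem D13787 : act 4 n10840 = n13787 := rfl
theorem F23619 : act 1 n13787 = n10841 := d7_1 D13787 (iv D10841) D10840
def n13788 : Q := act 3 n10841
theorem D13788 : act 3 n10841 = n13788 := rfl
theorem F23620 : act 0 n13788 = n11453 := d2_1 D13788 F19220 (iv F18194)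
theorem F23621 : act 4 n13788 = n11428 := d12_2 D10841 D13788 (iv D11428) F14743 (iv F13985)
def n13789 : Q := act 5 n10841
theorem D13789 : act 5 n10841 = n13789 := rfl
theorem F23622 : act 0 n13789 = n11457 := d4_1 D13789 (iv D11457) (iv F18194)
theorem F23623 : act 2 n13789 = n10842 := d11_1 D13789 (iv D10842) (iv F18195)
theorem F23624 : act 4 n13789 = n11473 := d14_1 D13789 (iv D11473) (iv D8915) (iv F13986) D10841
def n13790 : Q := act 2 n10843
theorem D13790 : act 2 n10843 = n13790 := rfl
theorem F23625 : act 0 n13790 = n11707 := d1_1 D13790 (iv D11707) (iv F18196)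
theorem F23626 : act 4 n13790 = n10845 := d10_2 (iv F18198) D13790 (iv D10845)
def n13791 : Q := act 5 n10843
theorem D13791 : act 5 n10843 = n13791 := rfl
theorem F23627 : act 0 n13791 = n11708 := d4_1 D13791 (iv D11708) (iv F18196)
theorem F23628 : act 1 n13791 = n10848 := d8_1 D13791 (iv D10848) (iv F18197)
theorem F23629 : act 3 n13791 = n10844 := d13_1 D13791 (iv D10844) D10843
def n13792 : Q := act 1 n10845
theorem D13792 : act 1 n10845 = n13792 := rfl
theorem F23630 : act 2 n13792 = n10849 := d5_2 D10845 D13792 (iv D10849) (iv D8422) (iv F13990)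
def n13793 : Q := act 3 n10845
theorem D13793 : act 3 n10845 = n13793 := rfl
def n13794 : Q := act 5 n10845
theorem D13794 : act 5 n10845 = n13794 := rfl
theorem F23631 : act 2 n13794 = n10846 := d11_1 D13794 (iv D10846) D10845
def n13795 : Q := act 4 n10846
theorem D13795 : act 4 n10846 = n13795 := rfl
theorem F23632 : act 1 n13795 = n10850 := d7_1 D13795 (iv D10850) (iv F18203)
def n13796 : Q := act 1 n10847
theorem D13796 : act 1 n10847 = n13796 := rfl
theorem F23633 : act 4 n13796 = n10849 := d7_2 (iv F18206) D13796 (iv D10849)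
def n13797 : Q := act 3 n10847
theorem D13797 : act 3 n10847 = n13797 := rfl
theorem F23634 : act 0 n13797 = n10855 := d2_1 D13797 (iv D10855) (iv F18205)
def n13798 : Q := act 5 n10847
theorem D13798 : act 5 n10847 = n13798 := rfl
theorem F23635 : act 0 n13798 = n10856 := d4_1 D13798 (iv D10856) (iv F18205)
theorem F23636 : act 2 n13798 = n10848 := d11_1 D13798 (iv D10848) D10847
def n13799 : Q := act 4 n10848
theorem D13799 : act 4 n10848 = n13799 := rfl
theorem F23637 : act 0 n13799 = n10857 := d3_1 D13799 (iv D10857) (iv F18207)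
theorem F23638 : act 3 n13799 = n11479 := d12_1 D13799 (iv D11479) F14808 (iv F13996) (iv F18208)
theorem F23639 : act 5 n13799 = n10850 := d14_2 D10848 D13799 (iv D10850) (iv D8423) (iv F13993)
def n13800 : Q := act 0 n10849
theorem D13800 : act 0 n10849 = n13800 := rfl
theorem F23640 : act 1 n13800 = n10858 := d0_2 D10849 D13800 (iv D10858) (iv D8429) (iv F13997)
def n13801 : Q := act 1 n10852
theorem D13801 : act 1 n10852 = n13801 := rfl
theorem F23641 : act 4 n13801 = n11118 := d7_2 (iv F18215) D13801 (iv D11118)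
def n13802 : Q := act 3 n10852
theorem D13802 : act 3 n10852 = n13802 := rfl
theorem F23642 : act 0 n13802 = n11126 := d2_1 D13802 (iv D11126) (iv F18214)
def n13803 : Q := act 5 n10852
theorem D13803 : act 5 n10852 = n13803 := rfl
theorem F23643 : act 0 n13803 = n11127 := d4_1 D13803 (iv D11127) (iv F18214)
theorem F23644 : act 2 n13803 = n10853 := d11_1 D13803 (iv D10853) D10852
def n13804 : Q := act 4 n10853
theorem D13804 : act 4 n10853 = n13804 := rfl
theorem F23645 : act 0 n13804 = n11128 := d3_1 D13804 (iv D11128) (iv F18216)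
theorem F23646 : act 3 n13804 = n11469 := d12_1 D13804 (iv D11469) F14796 (iv F14007) (iv F18217)
theorem F23647 : act 5 n13804 = n11121 := d14_2 D10853 D13804 (iv D11121) (iv D8635) (iv F14004)
def n13805 : Q := act 0 n10854
theorem D13805 : act 0 n10854 = n13805 := rfl
theorem F23648 : act 4 n13805 = n10858 := d3_2 (iv F18218) D13805 (iv D10858)
def n13806 : Q := act 3 n10854
theorem D13806 : act 3 n10854 = n13806 := rfl
theorem F23649 : act 1 n13806 = n10855 := d6_1 D13806 (iv D10855) D10854
def n13807 : Q := act 5 n10854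
theorem D13807 : act 5 n10854 = n13807 := rfl
theorem F23650 : act 1 n13807 = n10856 := d8_1 D13807 (iv D10856) D10854
theorem F23651 : act 2 n13807 = n12915 := d11_1 D13807 (iv F21858) F20804
def n13808 : Q := act 2 n10855
theorem D13808 : act 2 n10855 = n13808 := rfl
theorem F23652 : act 3 n13808 = n11127 := d15_3 D8427 D10855 D13808 F18641 F14303 (iv F13995) (iv F18208) (iv D10848) F13992
theorem F23653 : act 5 n11126 = n13808 := d13_0 F23652 (iv D11127) D11126
def n13809 : Q := act 4 n10855
theorem D13809 : act 4 n10855 = n13809 := rfl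
theorem F23654 : act 3 n13809 = n10861 := d12_1 D13809 (iv D10861) (iv D8430) (iv F14008) D10855
def n13810 : Q := act 5 n10855
theorem D13810 : act 5 n10855 = n13810 := rfl
theorem F23655 : act 2 n13810 = n11126 := d11_1 D13810 F23653 (iv D13808)
theorem F23656 : act 3 n13810 = n10856 := d13_1 D13810 (iv D10856) D10855
def n13811 : Q := act 4 n10856
theorem D13811 : act 4 n10856 = n13811 := rfl
theorem F23657 : act 2 n13811 = n10857 := d10_1 D13811 (iv D10857) (iv F18219)
theorem F23658 : act 5 n13811 = n10862 := d14_2 D10856 D13811 (iv D10862) (iv D8431) (iv F14008)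
def n13812 : Q := act 3 n10858
theorem D13812 : act 3 n10858 = n13812 := rfl
theorem F23659 : act 0 n13812 = n10859 := d2_1 D13812 (iv D10859) D10858
def n13813 : Q := act 5 n10858
theorem D13813 : act 5 n10858 = n13813 := rfl
theorem F23660 : act 0 n13813 = n10860 := d4_1 D13813 (iv D10860) D10858
def n13814 : Q := act 2 n10859
theorem D13814 : act 2 n10859 = n13814 := rfl
def n13815 : Q := act 4 n10859
theorem D13815 : act 4 n10859 = n13815 := rfl
theorem F23661 : act 1 n13815 = n10861 := d7_1 D13815 (iv D10861) (iv F18221)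
def n13816 : Q := act 4 n10860
theorem D13816 : act 4 n10860 = n13816 := rfl
theorem F23662 : act 1 n13816 = n10862 := d7_1 D13816 (iv D10862) (iv F18222)
def n13817 : Q := act 5 n10861
theorem D13817 : act 5 n10861 = n13817 := rfl
def n13818 : Q := act 3 n10862
theorem D13818 : act 3 n10862 = n13818 := rfl
def n13819 : Q := act 2 n10863
theorem D13819 : act 2 n10863 = n13819 := rfl
theorem F23663 : act 0 n13819 = n12600 := d1_1 D13819 F21312 (iv F18224)
theorem F23664 : act 5 n13819 = n12633 := d11_2 (iv F18226) D13819 (iv D12633)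
def n13820 : Q := act 4 n10863
theorem D13820 : act 4 n10863 = n13820 := rfl
theorem F23665 : act 0 n13820 = n12603 := d3_1 D13820 (iv D12603) (iv F18224)
theorem F23666 : act 1 n13820 = n10864 := d7_1 D13820 (iv D10864) (iv F18225)
def n13821 : Q := act 5 n10864
theorem D13821 : act 5 n10864 = n13821 := rfl
theorem F23667 : act 0 n13821 = n10867 := d4_1 D13821 (iv D10867) (iv F18227)
theorem F23668 : act 4 n13821 = n12639 := d14_1 D13821 (iv D12639) (iv D9895) (iv F14014) D10864
def n13822 : Q := act 0 n10865
theorem D13822 : act 0 n10865 = n13822 := rfl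
theorem F23669 : act 2 n13822 = n12584 := d1_2 (iv F18228) D13822 F21294
theorem F23670 : act 5 n13822 = n12640 := d4_2 (iv F18229) D13822 (iv D12640)
def n13823 : Q := act 1 n10868
theorem D13823 : act 1 n10868 = n13823 := rfl
theorem F23671 : act 2 n13823 = n10921 := d5_2 D10868 D13823 (iv D10921) (iv D8481) (iv F14018)
theorem F23672 : act 4 n13823 = n10870 := d7_2 (iv F18234) D13823 (iv D10870)
theorem F23673 : act 5 n12222 = n13823 := d11_0 F23671 F18327 D12222
def n13824 : Q := act 3 n10868
theorem D13824 : act 3 n10868 = n13824 := rfl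
theorem F23674 : act 0 n13824 = n10873 := d2_1 D13824 (iv D10873) (iv F18233)
theorem F23675 : act 4 n13824 = n11379 := d12_2 (iv F18234) D13824 (iv D11379) (iv D8838) (iv F14025)
def n13825 : Q := act 5 n10868
theorem D13825 : act 5 n10868 = n13825 := rfl
theorem F23676 : act 0 n13825 = n10874 := d4_1 D13825 (iv D10874) (iv F18233)
theorem F23677 : act 1 n13825 = n12222 := d8_1 D13825 F23673 (iv D13823)
theorem F23678 : act 2 n13825 = n10869 := d11_1 D13825 (iv D10869) D10868
theorem F23679 : act 4 n13825 = n11378 := d14_1 D13825 (iv D11378) (iv D8837) F14026 (iv F18234)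
def n13826 : Q := act 4 n10869
theorem D13826 : act 4 n10869 = n13826 := rfl
theorem F23680 : act 0 n13826 = n10875 := d3_1 D13826 (iv D10875) (iv F18235)
theorem F23681 : act 1 n13826 = n10922 := d7_1 D13826 (iv D10922) (iv F18236)
theorem F23682 : act 2 n13826 = n11378 := d10_1 D13826 (iv F23679) F23678
theorem F23683 : act 3 n13826 = n12000 := d12_1 D13826 (iv D12000) F15642 (iv F14023) (iv F18237)
theorem F23684 : act 5 n13826 = n10871 := d14_2 D10869 D13826 (iv D10871) (iv D8440) (iv F14019)
def n13827 : Q := act 0 n10870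
theorem D13827 : act 0 n10870 = n13827 := rfl
theorem F23685 : act 1 n13827 = n10876 := d0_2 D10870 D13827 (iv D10876) (iv D8443) (iv F14024)
theorem F23686 : act 2 n13827 = n12589 := d1_2 (iv F18238) D13827 (iv D12589)
theorem F23687 : act 3 n13827 = n11374 := d2_2 (iv F18239) D13827 F19077
theorem F23688 : act 5 n13827 = n11373 := d4_2 (iv F18240) D13827 F19076
def n13828 : Q := act 0 n10872
theorem D13828 : act 0 n10872 = n13828 := rfl
theorem F23689 : act 4 n13828 = n10876 := d3_2 (iv F18245) D13828 (iv D10876)
def n13829 : Q := act 3 n10872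
theorem D13829 : act 3 n10872 = n13829 := rfl
theorem F23690 : act 1 n13829 = n10873 := d6_1 D13829 (iv D10873) D10872
def n13830 : Q := act 5 n10872
theorem D13830 : act 5 n10872 = n13830 := rfl
theorem F23691 : act 1 n13830 = n10874 := d8_1 D13830 (iv D10874) D10872
def n13831 : Q := act 2 n10873
theorem D13831 : act 2 n10873 = n13831 := rfl
theorem F23692 : act 3 n13831 = n11844 := d15_3 D8441 D10873 D13831 F19946 F15371 (iv F14022) (iv F18237) (iv D10869) F14017
theorem F23693 : act 1 n12281 = n13831 := d6_3 F23692 F19945 D12281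
theorem F23694 : act 5 n11843 = n13831 := d13_0 F23692 (iv D11844) D11843
def n13832 : Q := act 4 n10873
theorem D13832 : act 4 n10873 = n13832 := rfl
theorem F23695 : act 0 n13832 = n11379 := d3_1 D13832 (iv F23675) F23674
theorem F23696 : act 3 n13832 = n10879 := d12_1 D13832 (iv D10879) (iv D8444) (iv F14031) D10873
def n13833 : Q := act 5 n10873
theorem D13833 : act 5 n10873 = n13833 := rfl
theorem F23697 : act 2 n13833 = n11843 := d11_1 D13833 F23694 (iv D13831)
theorem F23698 : act 3 n13833 = n10874 := d13_1 D13833 (iv D10874) D10873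
def n13834 : Q := act 4 n10874
theorem D13834 : act 4 n10874 = n13834 := rfl
theorem F23699 : act 0 n13834 = n11378 := d3_1 D13834 (iv F23679) F23676
theorem F23700 : act 2 n13834 = n10875 := d10_1 D13834 (iv D10875) (iv F18246)
theorem F23701 : act 5 n13834 = n10880 := d14_2 D10874 D13834 (iv D10880) (iv D8445) (iv F14031)
def n13835 : Q := act 3 n10876
theorem D13835 : act 3 n10876 = n13835 := rfl
theorem F23702 : act 0 n13835 = n10877 := d2_1 D13835 (iv D10877) D10876
theorem F23703 : act 1 n13835 = n11374 := d6_1 D13835 (iv F23687) F23685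
theorem F23704 : act 5 n11361 = n13835 := d8_0 F23703 (iv D11374) (iv F19065)
def n13836 : Q := act 5 n10876
theorem D13836 : act 5 n10876 = n13836 := rfl
theorem F23705 : act 0 n13836 = n10878 := d4_1 D13836 (iv D10878) D10876
theorem F23706 : act 1 n13836 = n11373 := d8_1 D13836 (iv F23688) F23685
theorem F23707 : act 3 n13836 = n11361 := d13_1 D13836 F23704 (iv D13835)
def n13837 : Q := act 2 n10877
theorem D13837 : act 2 n10877 = n13837 := rfl
theorem F23708 : act 1 n13837 = n11355 := d5_1 D13837 F19056 F14655 (iv F14034) (iv F18248)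
theorem F23709 : act 5 n13837 = n11353 := d11_2 F18249 D13837 F19053
def n13838 : Q := act 4 n10877
theorem D13838 : act 4 n10877 = n13838 := rfl
theorem F23710 : act 1 n13838 = n10879 := d7_1 D13838 (iv D10879) (iv F18248)
def n13839 : Q := act 4 n10878
theorem D13839 : act 4 n10878 = n13839 := rfl
theorem F23711 : act 1 n13839 = n10880 := d7_1 D13839 (iv D10880) (iv F18250)
def n13840 : Q := act 5 n10879
theorem D13840 : act 5 n10879 = n13840 := rfl
theorem F23712 : act 0 n13840 = n11372 := d4_1 D13840 F19075 (iv F18252)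
theorem F23713 : act 2 n13840 = n11360 := d11_1 D13840 F19064 (iv F18253)
theorem F23714 : act 4 n13840 = n11359 := d14_1 D13840 (iv D11359) F14658 (iv F14035) D10879
def n13841 : Q := act 3 n10880
theorem D13841 : act 3 n10880 = n13841 := rfl
theorem F23715 : act 0 n13841 = n11370 := d2_1 D13841 F19072 (iv F18254)
theorem F23716 : act 4 n13841 = n11358 := d12_2 D10880 D13841 (iv D11358) F14658 (iv F14038)
def n13842 : Q := act 0 n10882
theorem D13842 : act 0 n10882 = n13842 := rfl
theorem F23717 : act 1 n13842 = n10886 := d0_2 D10882 D13842 (iv D10886) (iv D8450) (iv F14041)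
theorem F23718 : act 2 n13842 = n12577 := d1_2 (iv F18259) D13842 (iv D12577)
theorem F23719 : act 4 n13842 = n12547 := d3_2 (iv F18260) D13842 (iv D12547)
def n13843 : Q := act 3 n10882
theorem D13843 : act 3 n10882 = n13843 := rfl
theorem F23720 : act 1 n13843 = n10883 := d6_1 D13843 (iv D10883) D10882
theorem F23721 : act 5 n13843 = n10904 := d15_8 (iv D11731) (iv D9123) (iv F15204) D11729 F21720 (iv D12578) (iv F18259) D13843 (iv F19757)
theorem F23722 : act 4 n12701 = n13843 := d14_5 F23721 F19718 (iv D9945) D9944 D12701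
def n13844 : Q := act 5 n10882
theorem D13844 : act 5 n10882 = n13844 := rfl
theorem F23723 : act 1 n13844 = n10884 := d8_1 D13844 (iv D10884) D10882
theorem F23724 : act 2 n13844 = n12579 := d11_1 D13844 (iv D12579) (iv F18259)
theorem F23725 : act 3 n13844 = n10904 := d13_1 D13844 (iv F23721) (iv D13843)
theorem F23726 : act 4 n12702 = n13844 := d12_0 F23725 F19718 F16605 D9946 D12702
def n13845 : Q := act 4 n10883
theorem D13845 : act 4 n10883 = n13845 := rfl
theorem F23727 : act 0 n13845 = n10890 := d3_1 D13845 (iv D10890) (iv F18261)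
theorem F23728 : act 1 n13845 = n12701 := d7_1 D13845 F23722 F23720
theorem F23729 : act 2 n13845 = n10907 := d10_1 D13845 (iv D10907) (iv F18262)
theorem F23730 : act 3 n13845 = n12550 := d12_1 D13845 (iv D12550) (iv D9815) (iv F14042) D10883
theorem F23731 : act 5 n13845 = n12697 := d14_2 F18263 D13845 (iv D12697) (iv F19719) (iv D10905)
def n13846 : Q := act 4 n10884
theorem D13846 : act 4 n10884 = n13846 := rfl
theorem F23732 : act 0 n13846 = n10892 := d3_1 D13846 (iv D10892) (iv F18264)
theorem F23733 : act 1 n13846 = n12702 := d7_1 D13846 F23726 F23723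
theorem F23734 : act 2 n13846 = n10885 := d10_1 D13846 (iv D10885) (iv F18265)
theorem F23735 : act 3 n13846 = n12698 := d12_1 D13846 (iv D12698) (iv F19717) (iv D10905) (iv F18266)
theorem F23736 : act 5 n13846 = n12551 := d14_2 D10884 D13846 (iv D12551) (iv D9816) (iv F14042)
def n13847 : Q := act 3 n10886
theorem D13847 : act 3 n10886 = n13847 := rfl
theorem F23737 : act 0 n13847 = n10887 := d2_1 D13847 (iv D10887) D10886
def n13848 : Q := act 5 n10886
theorem D13848 : act 5 n10886 = n13848 := rfl
theorem F23738 : act 0 n13848 = n10888 := d4_1 D13848 (iv D10888) D10886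
theorem F23739 : act 2 n13848 = n10894 := d11_1 D13848 (iv D10894) (iv F18271)
def n13849 : Q := act 2 n10887
theorem D13849 : act 2 n10887 = n13849 := rfl
def n13850 : Q := act 4 n10887
theorem D13850 : act 4 n10887 = n13850 := rfl
theorem F23740 : act 1 n13850 = n10890 := d7_1 D13850 (iv D10890) (iv F18273)
theorem F23741 : act 3 n13850 = n12554 := d12_1 D13850 (iv D12554) (iv D9819) (iv F14047) D10887
def n13851 : Q := act 5 n10887
theorem D13851 : act 5 n10887 = n13851 := rfl
theorem F23742 : act 1 n13851 = n10891 := d8_1 D13851 (iv D10891) (iv F18273)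
theorem F23743 : act 3 n13851 = n10888 := d13_1 D13851 (iv D10888) D10887
def n13852 : Q := act 1 n10889
theorem D13852 : act 1 n10889 = n13852 := rfl
theorem F23744 : act 3 n13852 = n10898 := d6_2 (iv F18277) D13852 F18295
theorem F23745 : act 5 n13852 = n10897 := d8_2 F18278 D13852 F18294
def n13853 : Q := act 4 n10889
theorem D13853 : act 4 n10889 = n13853 := rfl
theorem F23746 : act 0 n13853 = n10907 := d3_1 D13853 (iv D10907) (iv F18276)
theorem F23747 : act 2 n13853 = n10890 := d10_1 D13853 (iv D10890) D10889
def n13854 : Q := act 5 n10890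
theorem D13854 : act 5 n10890 = n13854 := rfl
theorem F23748 : act 0 n13854 = n12697 := d4_1 D13854 (iv F23731) F23727
theorem F23749 : act 3 n13854 = n12557 := d13_1 D13854 (iv D12557) (iv F18279)
theorem F23750 : act 4 n12695 = n13854 := d3_0 F23748 (iv D12697) (iv F21455)
def n13855 : Q := act 4 n10891
theorem D13855 : act 4 n10891 = n13855 := rfl
theorem F23751 : act 0 n13855 = n10905 := d3_1 D13855 (iv D10905) (iv F18280)
theorem F23752 : act 2 n13855 = n10899 := d10_1 D13855 (iv D10899) (iv F18281)
theorem F23753 : act 5 n13855 = n12695 := d14_2 D10891 D13855 F23750 (iv D13854) (iv D10890)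
theorem F23754 : act 3 n12696 = n13855 := d13_3 F23753 (iv D12695) D12696
def n13856 : Q := act 3 n10892
theorem D13856 : act 3 n10892 = n13856 := rfl
theorem F23755 : act 0 n13856 = n12698 := d2_1 D13856 (iv F23735) F23732
theorem F23756 : act 4 n13856 = n12696 := d12_2 D10892 D13856 F23754 (iv D13855) F18282
theorem F23757 : act 5 n13856 = n12559 := d13_2 (iv F18284) D13856 (iv D12559)
theorem F23758 : act 2 n12705 = n13856 := d15_0 (iv D13856) F18283 F14050 (iv F16560) (iv F21800) F21407 (iv F20199) F20200 (iv F21467)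
def n13857 : Q := act 2 n10893
theorem D13857 : act 2 n10893 = n13857 := rfl
theorem F23759 : act 0 n13857 = n10895 := d1_1 D13857 (iv D10895) (iv F18285)
theorem F23760 : act 5 n13857 = n11507 := d11_2 F18287 D13857 F19306
def n13858 : Q := act 3 n10895
theorem D13858 : act 3 n10895 = n13858 := rfl
theorem F23761 : act 1 n13858 = n11511 := d6_1 D13858 F19313 (iv F18291)
theorem F23762 : act 5 n13858 = n11508 := d13_2 (iv F18292) D13858 (iv D11508)
def n13859 : Q := act 3 n10896
theorem D13859 : act 3 n10896 = n13859 := rfl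
theorem F23763 : act 0 n13859 = n10897 := d2_1 D13859 (iv D10897) D10896
theorem F23764 : act 1 n13859 = n10901 := d6_1 D13859 (iv D10901) (iv F18293)
def n13860 : Q := act 2 n10897
theorem D13860 : act 2 n10897 = n13860 := rfl
def n13861 : Q := act 4 n10897
theorem D13861 : act 4 n10897 = n13861 := rfl
theorem F23765 : act 1 n13861 = n10899 := d7_1 D13861 (iv D10899) (iv F18294)
def n13862 : Q := act 4 n10898
theorem D13862 : act 4 n10898 = n13862 := rfl
theorem F23766 : act 1 n13862 = n10900 := d7_1 D13862 (iv D10900) (iv F18295)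
def n13863 : Q := act 5 n10899
theorem D13863 : act 5 n10899 = n13863 := rfl
theorem F23767 : act 0 n13863 = n10906 := d4_1 D13863 (iv D10906) (iv F18296)
theorem F23768 : act 2 n13863 = n12695 := d11_1 D13863 (iv F23753) F23752
def n13864 : Q := act 3 n10900
theorem D13864 : act 3 n10900 = n13864 := rfl
theorem F23769 : act 0 n13864 = n10908 := d2_1 D13864 (iv D10908) (iv F18297)
def n13865 : Q := act 4 n10901
theorem D13865 : act 4 n10901 = n13865 := rfl
theorem F23770 : act 0 n13865 = n10903 := d3_1 D13865 (iv D10903) (iv F18299)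
def n13866 : Q := act 5 n10903
theorem D13866 : act 5 n10903 = n13866 := rfl
theorem F23771 : act 1 n13866 = n10906 := d8_1 D13866 (iv D10906) (iv F18300)
theorem F23772 : act 2 n13866 = n12699 := d11_1 D13866 F21462 (iv F19715)
def n13867 : Q := act 4 n10906
theorem D13867 : act 4 n10906 = n13867 := rfl
theorem F23773 : act 2 n13867 = n12697 := d10_1 D13867 (iv D12697) F19720
theorem F23774 : act 5 n13867 = n10907 := d14_2 D10906 D13867 (iv D10907) (iv D8465) D8464
def n13868 : Q := act 3 n10907
theorem D13868 : act 3 n10907 = n13868 := rfl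
theorem F23775 : act 4 n13868 = n10908 := d12_2 D10907 D13868 (iv D10908) (iv D8466) (iv F14064)
def n13869 : Q := act 2 n10908
theorem D13869 : act 2 n10908 = n13869 := rfl
def n13870 : Q := act 5 n10909
theorem D13870 : act 5 n10909 = n13870 := rfl
theorem F23776 : act 1 n13870 = n10911 := d8_1 D13870 (iv D10911) (iv F18302)
theorem F23777 : act 2 n13870 = n11686 := d11_1 D13870 (iv D11686) (iv F18303)
theorem F23778 : act 3 n13870 = n10918 := d13_1 D13870 (iv D10918) (iv F18304)
theorem F23779 : act 4 n13870 = n11908 := d14_1 D13870 (iv D11908) (iv D9269) F14079 D10909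
def n13871 : Q := act 3 n10910
theorem D13871 : act 3 n10910 = n13871 := rfl
theorem F23780 : act 0 n13871 = n12792 := d2_1 D13871 (iv D12792) (iv F18305)
theorem F23781 : act 1 n13871 = n10912 := d6_1 D13871 (iv D10912) (iv F18306)
theorem F23782 : act 4 n13871 = n11907 := d12_2 D10910 D13871 (iv D11907) (iv D9269) (iv F14083)
theorem F23783 : act 5 n13871 = n10919 := d13_2 (iv F18308) D13871 (iv D10919)
def n13872 : Q := act 2 n10912
theorem D13872 : act 2 n10912 = n13872 := rfl
theorem F23784 : act 0 n13872 = n11888 := d1_1 D13872 (iv D11888) (iv F18313)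
theorem F23785 : act 4 n13872 = n11909 := d10_2 (iv F18314) D13872 (iv D11909)
theorem F23786 : act 5 n13872 = n10920 := d11_2 (iv F18315) D13872 (iv D10920)
def n13873 : Q := act 1 n10913
theorem D13873 : act 1 n10913 = n13873 := rfl
def n13874 : Q := act 3 n10913
theorem D13874 : act 3 n10913 = n13874 := rfl
theorem F23787 : act 0 n13874 = n10916 := d2_1 D13874 (iv D10916) (iv F18316)
theorem F23788 : act 2 n13874 = n12723 := d9_1 D13874 (iv D12723) F16625 F12698 (iv F10766) (iv F12508) (iv F16358) D12524 (iv F21500) (iv D12729) (iv D9967) (iv D7685) (iv F10763) D8474 D10913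
theorem F23789 : act 5 n13874 = n12733 := d13_2 F21167 D13874 F21506
def n13875 : Q := act 4 n10913
theorem D13875 : act 4 n10913 = n13875 := rfl
theorem F23790 : act 0 n13875 = n10917 := d3_1 D13875 (iv D10917) (iv F18316)
theorem F23791 : act 2 n13875 = n10914 := d10_1 D13875 (iv D10914) D10913
def n13876 : Q := act 5 n10914
theorem D13876 : act 5 n10914 = n13876 := rfl
theorem F23792 : act 0 n13876 = n10918 := d4_1 D13876 (iv D10918) (iv F18317)
def n13877 : Q := act 3 n10915
theorem D13877 : act 3 n10915 = n13877 := rfl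
theorem F23793 : act 0 n13877 = n10919 := d2_1 D13877 (iv D10919) (iv F18318)
theorem F23794 : act 1 n13877 = n12796 := d6_1 D13877 F21619 (iv F18319)
theorem F23795 : act 5 n13877 = n12792 := d13_2 (iv F18321) D13877 (iv D12792)
def n13878 : Q := act 2 n10916
theorem D13878 : act 2 n10916 = n13878 := rfl
theorem F23796 : act 0 n13878 = n12723 := d1_1 D13878 (iv F23788) F23787
theorem F23797 : act 3 n13878 = n12722 := d9_2 D10916 D13878 F21491 F16631 (iv F14092) (iv F16374) (iv F21166) (iv F21506) (iv D12733) (iv D9970) (iv D7687) (iv D5861) (iv F8059) D6503 D8476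
theorem F23798 : act 5 n13878 = n12729 := d11_2 F21169 D13878 F21500
def n13879 : Q := act 4 n10916
theorem D13879 : act 4 n10916 = n13879 := rfl
def n13880 : Q := act 3 n10917
theorem D13880 : act 3 n10917 = n13880 := rfl
def n13881 : Q := act 5 n10917
theorem D13881 : act 5 n10917 = n13881 := rfl
theorem F23799 : act 2 n13881 = n10918 := d11_1 D13881 (iv D10918) (iv F18322)
def n13882 : Q := act 2 n10919
theorem D13882 : act 2 n10919 = n13882 := rfl
def n13883 : Q := act 1 n10920
theorem D13883 : act 1 n10920 = n13883 := rfl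
def n13884 : Q := act 3 n10920
theorem D13884 : act 3 n10920 = n13884 := rfl
theorem F23800 : act 0 n13884 = n12504 := d2_1 D13884 F21212 F21209
theorem F23801 : act 2 n13884 = n11890 := d9_1 D13884 (iv D11890) (iv D9252) (iv D7106) (iv F11771) D9251 D11888 F20004 (iv D11075) (iv D8597) F10884 F8142 (iv F10767) D8480 D10920
def n13885 : Q := act 0 n10921
theorem D13885 : act 0 n10921 = n13885 := rfl
theorem F23802 : act 1 n13885 = n10929 := d0_2 D10921 D13885 (iv D10929) (iv D8487) (iv F14096)
theorem F23803 : act 3 n13885 = n12221 := d2_2 (iv F18325) D13885 F20650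
theorem F23804 : act 4 n13885 = n12589 := d3_2 (iv F18326) D13885 (iv D12589)
theorem F23805 : act 5 n13885 = n12220 := d4_2 (iv F18327) D13885 F20649
def n13886 : Q := act 4 n10923
theorem D13886 : act 4 n10923 = n13886 := rfl
theorem F23806 : act 1 n13886 = n10924 := d7_1 D13886 (iv D10924) (iv F18331)
def n13887 : Q := act 5 n10924
theorem D13887 : act 5 n10924 = n13887 := rfl
theorem F23807 : act 0 n13887 = n10934 := d4_1 D13887 (iv D10934) (iv F18333)
theorem F23808 : act 2 n13887 = n10934 := d11_1 D13887 (iv D10934) (iv F18334)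
theorem F23809 : act 4 n13887 = n12209 := d14_1 D13887 (iv D12209) (iv D9519) (iv F14107) D10924
def n13888 : Q := act 0 n10925
theorem D13888 : act 0 n10925 = n13888 := rfl
theorem F23810 : act 1 n13888 = n12589 := d0_2 D10925 D13888 (iv D12589) (iv D9848) (iv F14108)
theorem F23811 : act 4 n13888 = n10929 := d3_2 (iv F18335) D13888 (iv D10929)
def n13889 : Q := act 3 n10925
theorem D13889 : act 3 n10925 = n13889 := rfl
theorem F23812 : act 1 n13889 = n10926 := d6_1 D13889 (iv D10926) D10925
theorem F23813 : act 5 n12594 = n13889 := d8_0 F23812 (iv F18338) D12594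
def n13890 : Q := act 5 n10925
theorem D13890 : act 5 n10925 = n13890 := rfl
theorem F23814 : act 1 n13890 = n10927 := d8_1 D13890 (iv D10927) D10925
theorem F23815 : act 3 n13890 = n12594 := d13_1 D13890 F23813 (iv D13889)
def n13891 : Q := act 4 n10926
theorem D13891 : act 4 n10926 = n13891 := rfl
theorem F23816 : act 0 n13891 = n12226 := d3_1 D13891 F20657 (iv F18336)
theorem F23817 : act 2 n13891 = n12597 := d10_1 D13891 (iv D12597) (iv F18337)
theorem F23818 : act 3 n13891 = n10932 := d12_1 D13891 (iv D10932) (iv D8488) (iv F14109) D10926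
def n13892 : Q := act 4 n10927
theorem D13892 : act 4 n10927 = n13892 := rfl
theorem F23819 : act 0 n13892 = n12225 := d3_1 D13892 F20656 (iv F18339)
theorem F23820 : act 2 n13892 = n10928 := d10_1 D13892 (iv D10928) (iv F18340)
theorem F23821 : act 5 n13892 = n10933 := d14_2 D10927 D13892 (iv D10933) (iv D8489) (iv F14109)
def n13893 : Q := act 3 n10929
theorem D13893 : act 3 n10929 = n13893 := rfl
theorem F23822 : act 0 n13893 = n10930 := d2_1 D13893 (iv D10930) D10929
theorem F23823 : act 1 n13893 = n12221 := d6_1 D13893 (iv F23803) F23802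
theorem F23824 : act 5 n12205 = n13893 := d8_0 F23823 (iv D12221) (iv F20626)
def n13894 : Q := act 5 n10929
theorem D13894 : act 5 n10929 = n13894 := rfl
theorem F23825 : act 0 n13894 = n10931 := d4_1 D13894 (iv D10931) D10929
theorem F23826 : act 1 n13894 = n12220 := d8_1 D13894 (iv F23805) F23802
theorem F23827 : act 3 n13894 = n12205 := d13_1 D13894 F23824 (iv D13893)
def n13895 : Q := act 2 n10930
theorem D13895 : act 2 n10930 = n13895 := rfl
theorem F23828 : act 1 n13895 = n12199 := d5_1 D13895 F20612 F15896 (iv F14113) (iv F18344)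
theorem F23829 : act 5 n13895 = n12197 := d11_2 F18345 D13895 F20608
def n13896 : Q := act 4 n10930
theorem D13896 : act 4 n10930 = n13896 := rfl
theorem F23830 : act 1 n13896 = n10932 := d7_1 D13896 (iv D10932) (iv F18344)
def n13897 : Q := act 4 n10931
theorem D13897 : act 4 n10931 = n13897 := rfl
theorem F23831 : act 1 n13897 = n10933 := d7_1 D13897 (iv D10933) (iv F18346)
def n13898 : Q := act 5 n10932
theorem D13898 : act 5 n10932 = n13898 := rfl
theorem F23832 : act 0 n13898 = n12219 := d4_1 D13898 F20648 (iv F18348)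
theorem F23833 : act 2 n13898 = n12204 := d11_1 D13898 F20625 (iv F18349)
theorem F23834 : act 4 n13898 = n12203 := d14_1 D13898 (iv D12203) F15899 (iv F14114) D10932
def n13899 : Q := act 3 n10933
theorem D13899 : act 3 n10933 = n13899 := rfl
theorem F23835 : act 0 n13899 = n12217 := d2_1 D13899 F20645 (iv F18350)
theorem F23836 : act 4 n13899 = n12202 := d12_2 D10933 D13899 (iv D12202) F15899 (iv F14117)
def n13900 : Q := act 0 n10935
theorem D13900 : act 0 n10935 = n13900 := rfl
theorem F23837 : act 1 n13900 = n12001 := d0_2 D10935 D13900 (iv D12001) (iv D9357) (iv F14118)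
theorem F23838 : act 2 n13900 = n10939 := d1_2 (iv F18353) D13900 (iv D10939)
theorem F23839 : act 4 n13900 = n11996 := d3_2 (iv F18354) D13900 (iv D11996)
theorem F23840 : act 5 n13900 = n11028 := d4_2 F18355 D13900 F18503
def n13901 : Q := act 3 n10935
theorem D13901 : act 3 n10935 = n13901 := rfl
theorem F23841 : act 1 n13901 = n10936 := d6_1 D13901 (iv D10936) D10935
theorem F23842 : act 5 n13901 = n11031 := d13_2 F18355 D13901 (iv D11031)
def n13902 : Q := act 2 n10936
theorem D13902 : act 2 n10936 = n13902 := rfl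
theorem F23843 : act 0 n13902 = n12004 := d1_1 D13902 (iv D12004) (iv F18356)
theorem F23844 : act 3 n13902 = n11999 := d9_2 D10936 D13902 F20227 F15642 F11970 (iv F11972) (iv F15644) (iv F20233) (iv F23255) (iv D13635) (iv D10710) (iv D8312) F10524 D6515 D8492
theorem F23845 : act 5 n11998 = n13902 := d13_0 F23844 (iv D11999) D11998
def n13903 : Q := act 5 n10936
theorem D13903 : act 5 n10936 = n13903 := rfl
theorem F23846 : act 0 n13903 = n12006 := d4_1 D13903 (iv D12006) (iv F18356)
theorem F23847 : act 1 n13903 = n11031 := d8_1 D13903 (iv F23842) F23841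
theorem F23848 : act 2 n13903 = n11998 := d11_1 D13903 F23845 (iv D13902)
theorem F23849 : act 3 n13903 = n10937 := d13_1 D13903 (iv D10937) D10936
def n13904 : Q := act 2 n10940
theorem D13904 : act 2 n10940 = n13904 := rfl
theorem F23850 : act 0 n13904 = n10974 := d1_1 D13904 (iv D10974) (iv F18366)
theorem F23851 : act 4 n13904 = n10941 := d10_2 (iv F18367) D13904 (iv D10941)
def n13905 : Q := act 1 n10941
theorem D13905 : act 1 n10941 = n13905 := rfl
theorem F23852 : act 3 n13905 = n10979 := d6_2 (iv F18369) D13905 (iv D10979)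
theorem F23853 : act 5 n13905 = n10942 := d8_2 (iv F18370) D13905 (iv D10942)
def n13906 : Q := act 0 n10942
theorem D13906 : act 0 n10942 = n13906 := rfl
theorem F23854 : act 1 n13906 = n10976 := d0_2 D10942 D13906 (iv D10976) (iv D8522) (iv F14129)
def n13907 : Q := act 2 n10943
theorem D13907 : act 2 n10943 = n13907 := rfl
def n13908 : Q := act 1 n10944
theorem D13908 : act 1 n10944 = n13908 := rfl
theorem F23855 : act 3 n13908 = n10975 := d6_2 (iv F18373) D13908 (iv D10975)
theorem F23856 : act 5 n13908 = n10977 := d8_2 (iv F18374) D13908 F18438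
def n13909 : Q := act 0 n10945
theorem D13909 : act 0 n10945 = n13909 := rfl
theorem F23857 : act 1 n13909 = n10952 := d0_2 D10945 D13909 (iv D10952) (iv D8505) (iv F14134)
theorem F23858 : act 2 n13909 = n12001 := d1_2 (iv F18375) D13909 (iv D12001)
theorem F23859 : act 4 n13909 = n11861 := d3_2 (iv F18376) D13909 (iv D11861)
def n13910 : Q := act 5 n10945
theorem D13910 : act 5 n10945 = n13910 := rfl
theorem F23860 : act 1 n13910 = n10946 := d8_1 D13910 (iv D10946) D10945
theorem F23861 : act 2 n13910 = n12003 := d11_1 D13910 (iv D12003) (iv F18375)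
theorem F23862 : act 3 n13910 = n10988 := d13_1 D13910 (iv F23608) F23607
def n13911 : Q := act 4 n10946
theorem D13911 : act 4 n10946 = n13911 := rfl
theorem F23863 : act 0 n13911 = n10957 := d3_1 D13911 (iv D10957) (iv F18377)
theorem F23864 : act 2 n13911 = n10947 := d10_1 D13911 (iv D10947) (iv F18378)
theorem F23865 : act 5 n13911 = n11859 := d14_2 D10946 D13911 F19967 F15389 (iv F14135)
def n13912 : Q := act 0 n10948
theorem D13912 : act 0 n10948 = n13912 := rfl
theorem F23866 : act 1 n13912 = n11861 := d0_2 D10948 D13912 (iv D11861) (iv D9230) (iv F14139)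
theorem F23867 : act 2 n13912 = n10958 := d1_2 (iv F18384) D13912 (iv D10958)
theorem F23868 : act 4 n13912 = n10952 := d3_2 (iv F18385) D13912 (iv D10952)
def n13913 : Q := act 3 n10948
theorem D13913 : act 3 n10948 = n13913 := rfl
theorem F23869 : act 1 n13913 = n10949 := d6_1 D13913 (iv D10949) D10948
theorem F23870 : act 5 n11868 = n13913 := d8_0 F23869 (iv F18388) D11868
def n13914 : Q := act 5 n10948
theorem D13914 : act 5 n10948 = n13914 := rfl
theorem F23871 : act 1 n13914 = n10950 := d8_1 D13914 (iv D10950) D10948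
theorem F23872 : act 2 n13914 = n10960 := d11_1 D13914 (iv D10960) (iv F18384)
theorem F23873 : act 3 n13914 = n11868 := d13_1 D13914 F23870 (iv D13913)
def n13915 : Q := act 4 n10949
theorem D13915 : act 4 n10949 = n13915 := rfl
theorem F23874 : act 0 n13915 = n11863 := d3_1 D13915 (iv D11863) (iv F18386)
theorem F23875 : act 2 n13915 = n11864 := d10_1 D13915 (iv D11864) (iv F18387)
theorem F23876 : act 3 n13915 = n10955 := d12_1 D13915 (iv D10955) (iv D8506) (iv F14140) D10949
def n13916 : Q := act 4 n10950
theorem D13916 : act 4 n10950 = n13916 := rfl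
theorem F23877 : act 0 n13916 = n11859 := d3_1 D13916 F19967 (iv F18389)
theorem F23878 : act 2 n13916 = n10951 := d10_1 D13916 (iv D10951) (iv F18390)
theorem F23879 : act 5 n13916 = n10957 := d14_2 D10950 D13916 (iv D10957) (iv D8507) (iv F14140)
def n13917 : Q := act 3 n10952
theorem D13917 : act 3 n10952 = n13917 := rfl
theorem F23880 : act 0 n13917 = n10953 := d2_1 D13917 (iv D10953) D10952
def n13918 : Q := act 5 n10952
theorem D13918 : act 5 n10952 = n13918 := rfl
theorem F23881 : act 0 n13918 = n10954 := d4_1 D13918 (iv D10954) D10952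
theorem F23882 : act 2 n13918 = n10968 := d11_1 D13918 (iv D10968) (iv F18396)
def n13919 : Q := act 2 n10953
theorem D13919 : act 2 n10953 = n13919 := rfl
def n13920 : Q := act 4 n10953
theorem D13920 : act 4 n10953 = n13920 := rfl
theorem F23883 : act 1 n13920 = n10955 := d7_1 D13920 (iv D10955) (iv F18397)
def n13921 : Q := act 5 n10953
theorem D13921 : act 5 n10953 = n13921 := rfl
theorem F23884 : act 1 n13921 = n10956 := d8_1 D13921 (iv D10956) (iv F18397)
theorem F23885 : act 3 n13921 = n10954 := d13_1 D13921 (iv D10954) D10953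
theorem F23886 : act 4 n12389 = n13921 := d7_0 F23884 (iv F18403) D12389
def n13922 : Q := act 4 n10954
theorem D13922 : act 4 n10954 = n13922 := rfl
theorem F23887 : act 1 n13922 = n10957 := d7_1 D13922 (iv D10957) (iv F18398)
theorem F23888 : act 2 n13922 = n10971 := d10_1 D13922 (iv D10971) (iv F18399)
def n13923 : Q := act 5 n10955
theorem D13923 : act 5 n10955 = n13923 := rfl
theorem F23889 : act 2 n13923 = n12392 := d11_1 D13923 (iv F23605) F23603
theorem F23890 : act 4 n13923 = n12391 := d14_1 D13923 (iv D12391) F18403 (iv D10956) D10955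
def n13924 : Q := act 3 n10957
theorem D13924 : act 3 n10957 = n13924 := rfl
theorem F23891 : act 4 n13924 = n12390 := d12_2 D10957 D13924 (iv D12390) F18403 F18402
def n13925 : Q := act 3 n10958
theorem D13925 : act 3 n10958 = n13925 := rfl
theorem F23892 : act 0 n13925 = n10959 := d2_1 D13925 (iv D10959) D10958
def n13926 : Q := act 5 n10958
theorem D13926 : act 5 n10958 = n13926 := rfl
theorem F23893 : act 0 n13926 = n10960 := d4_1 D13926 (iv D10960) D10958
def n13927 : Q := act 2 n10959
theorem D13927 : act 2 n10959 = n13927 := rfl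
def n13928 : Q := act 4 n10959
theorem D13928 : act 4 n10959 = n13928 := rfl
theorem F23894 : act 1 n13928 = n10961 := d7_1 D13928 (iv D10961) (iv F18406)
theorem F23895 : act 3 n13928 = n10970 := d12_1 D13928 (iv D10970) (iv D8516) (iv F14148) D10959
def n13929 : Q := act 4 n10960
theorem D13929 : act 4 n10960 = n13929 := rfl
theorem F23896 : act 1 n13929 = n10962 := d7_1 D13929 (iv D10962) (iv F18407)
theorem F23897 : act 5 n13929 = n10971 := d14_2 D10960 D13929 (iv D10971) (iv D8517) (iv F14148)
def n13930 : Q := act 5 n10961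
theorem D13930 : act 5 n10961 = n13930 := rfl
theorem F23898 : act 0 n13930 = n11027 := d4_1 D13930 F18502 (iv F18408)
theorem F23899 : act 3 n13930 = n10972 := d13_1 D13930 (iv D10972) (iv F18409)
def n13931 : Q := act 3 n10962
theorem D13931 : act 3 n10962 = n13931 := rfl
theorem F23900 : act 0 n13931 = n11025 := d2_1 D13931 F18501 (iv F18410)
theorem F23901 : act 5 n13931 = n10973 := d13_2 (iv F18412) D13931 (iv D10973)
def n13932 : Q := act 2 n10963
theorem D13932 : act 2 n10963 = n13932 := rfl
theorem F23902 : act 4 n13932 = n10964 := d10_2 (iv F18414) D13932 (iv D10964)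
theorem F23903 : act 5 n13932 = n10974 := d11_2 (iv F18415) D13932 (iv D10974)
def n13933 : Q := act 1 n10964
theorem D13933 : act 1 n10964 = n13933 := rfl
theorem F23904 : act 2 n13933 = n11818 := d5_2 D10964 D13933 F19897 F15329 (iv F14151)
theorem F23905 : act 5 n13933 = n10965 := d8_2 (iv F18416) D13933 (iv D10965)
def n13934 : Q := act 0 n10965
theorem D13934 : act 0 n10965 = n13934 := rfl
theorem F23906 : act 2 n13934 = n11836 := d1_2 (iv F18417) D13934 (iv D11836)
theorem F23907 : act 4 n13934 = n10976 := d3_2 (iv F18418) D13934 (iv D10976)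
def n13935 : Q := act 3 n10965
theorem D13935 : act 3 n10965 = n13935 := rfl
theorem F23908 : act 1 n13935 = n10966 := d6_1 D13935 (iv D10966) D10965
def n13936 : Q := act 4 n10966
theorem D13936 : act 4 n10966 = n13936 := rfl
theorem F23909 : act 3 n13936 = n10978 := d12_1 D13936 (iv D10978) (iv D8523) (iv F14153) D10966
def n13937 : Q := act 2 n10967
theorem D13937 : act 2 n10967 = n13937 := rfl
theorem F23910 : act 0 n13937 = n10969 := d1_1 D13937 (iv D10969) (iv F18419)
theorem F23911 : act 5 n13937 = n10995 := d11_2 F18421 D13937 F18467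
def n13938 : Q := act 4 n10967
theorem D13938 : act 4 n10967 = n13938 := rfl
theorem F23912 : act 0 n13938 = n10970 := d3_1 D13938 (iv D10970) (iv F18419)
theorem F23913 : act 1 n13938 = n11030 := d7_1 D13938 (iv D11030) (iv F18420)
def n13939 : Q := act 4 n10968
theorem D13939 : act 4 n10968 = n13939 := rfl
theorem F23914 : act 0 n13939 = n10971 := d3_1 D13939 (iv D10971) (iv F18422)
theorem F23915 : act 1 n13939 = n11029 := d7_1 D13939 (iv D11029) (iv F18423)
def n13940 : Q := act 4 n10969
theorem D13940 : act 4 n10969 = n13940 := rfl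
theorem F23916 : act 1 n13940 = n10998 := d7_1 D13940 (iv D10998) (iv F18425)
theorem F23917 : act 2 n13940 = n10970 := d10_1 D13940 (iv D10970) D10969
def n13941 : Q := act 5 n10970
theorem D13941 : act 5 n10970 = n13941 := rfl
theorem F23918 : act 1 n13941 = n10972 := d8_1 D13941 (iv D10972) (iv F18427)
theorem F23919 : act 4 n13941 = n11001 := d14_1 D13941 (iv D11001) F14185 F14155 D10970
def n13942 : Q := act 3 n10971
theorem D13942 : act 3 n10971 = n13942 := rfl
theorem F23920 : act 1 n13942 = n10973 := d6_1 D13942 (iv D10973) (iv F18428)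
theorem F23921 : act 4 n13942 = n11000 := d12_2 D10971 D13942 (iv D11000) F14185 (iv F14157)
def n13943 : Q := act 2 n10973
theorem D13943 : act 2 n10973 = n13943 := rfl
theorem F23922 : act 0 n13943 = n11024 := d1_1 D13943 F18500 (iv F18432)
theorem F23923 : act 4 n13943 = n11002 := d10_2 (iv F18433) D13943 (iv D11002)
def n13944 : Q := act 1 n10974
theorem D13944 : act 1 n10974 = n13944 := rfl
theorem F23924 : act 2 n13944 = n12083 := d5_2 D10974 D13944 F20359 F15723 (iv F14162)
theorem F23925 : act 4 n13944 = n10975 := d7_2 (iv F18434) D13944 (iv D10975)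
def n13945 : Q := act 3 n10974
theorem D13945 : act 3 n10974 = n13945 := rfl
def n13946 : Q := act 0 n10975
theorem D13946 : act 0 n10975 = n13946 := rfl
theorem F23926 : act 2 n13946 = n12080 := d1_2 (iv F18435) D13946 F20353
theorem F23927 : act 5 n13946 = n10976 := d4_2 (iv F18436) D13946 (iv D10976)
def n13947 : Q := act 3 n10976
theorem D13947 : act 3 n10976 = n13947 := rfl
theorem F23928 : act 0 n13947 = n10977 := d2_1 D13947 (iv D10977) D10976
def n13948 : Q := act 2 n10977
theorem D13948 : act 2 n10977 = n13948 := rfl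
def n13949 : Q := act 4 n10977
theorem D13949 : act 4 n10977 = n13949 := rfl
theorem F23929 : act 1 n13949 = n10978 := d7_1 D13949 (iv D10978) (iv F18438)
def n13950 : Q := act 5 n10978
theorem D13950 : act 5 n10978 = n13950 := rfl
def n13951 : Q := act 0 n10979
theorem D13951 : act 0 n10979 = n13951 := rfl
def n13952 : Q := act 4 n10979
theorem D13952 : act 4 n10979 = n13952 := rfl
theorem F23930 : act 1 n13952 = n10980 := d7_1 D13952 (iv D10980) D10979
def n13953 : Q := act 3 n10980
theorem D13953 : act 3 n10980 = n13953 := rfl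
def n13954 : Q := act 5 n10980
theorem D13954 : act 5 n10980 = n13954 := rfl
theorem F23931 : act 2 n13954 = n10981 := d11_1 D13954 (iv D10981) (iv F18439)
def n13955 : Q := act 1 n10982
theorem D13955 : act 1 n10982 = n13955 := rfl
theorem F23932 : act 3 n13955 = n11048 := d6_2 (iv F18442) D13955 (iv D11048)
theorem F23933 : act 5 n13955 = n11036 := d8_2 (iv F18443) D13955 (iv D11036)
def n13956 : Q := act 4 n10982
theorem D13956 : act 4 n10982 = n13956 := rfl
theorem F23934 : act 0 n13956 = n10985 := d3_1 D13956 (iv D10985) (iv F18441)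
theorem F23935 : act 2 n13956 = n10983 := d10_1 D13956 (iv D10983) D10982
def n13957 : Q := act 5 n10983
theorem D13957 : act 5 n10983 = n13957 := rfl
theorem F23936 : act 0 n13957 = n10986 := d4_1 D13957 (iv D10986) (iv F18444)
theorem F23937 : act 4 n13957 = n11038 := d14_1 D13957 (iv D11038) (iv D8570) (iv F14168) D10983
def n13958 : Q := act 4 n10984
theorem D13958 : act 4 n10984 = n13958 := rfl
theorem F23938 : act 0 n13958 = n11049 := d3_1 D13958 (iv D11049) (iv F18445)
theorem F23939 : act 2 n13958 = n11047 := d10_1 D13958 (iv D11047) (iv F18446)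
def n13959 : Q := act 3 n10985
theorem D13959 : act 3 n10985 = n13959 := rfl
def n13960 : Q := act 5 n10985
theorem D13960 : act 5 n10985 = n13960 := rfl
theorem F23940 : act 2 n13960 = n10986 := d11_1 D13960 (iv D10986) (iv F18448)
theorem F23941 : act 4 n13960 = n11044 := d14_1 D13960 (iv D11044) (iv D8573) (iv F14169) D10985
def n13961 : Q := act 2 n10987
theorem D13961 : act 2 n10987 = n13961 := rfl
theorem F23942 : act 0 n13961 = n11492 := d1_1 D13961 F19284 (iv F18451)
theorem F23943 : act 4 n13961 = n12387 := d10_2 (iv F18453) D13961 (iv D12387)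
def n13962 : Q := act 0 n10988
theorem D13962 : act 0 n10988 = n13962 := rfl
theorem F23944 : act 2 n13962 = n11471 := d1_2 (iv F18454) D13962 F19252
def n13963 : Q := act 4 n10988
theorem D13963 : act 4 n10988 = n13963 := rfl
theorem F23945 : act 1 n13963 = n10989 := d7_1 D13963 (iv D10989) D10988
theorem F23946 : act 2 n13963 = n11472 := d10_1 D13963 (iv D11472) (iv F18454)
def n13964 : Q := act 3 n10989
theorem D13964 : act 3 n10989 = n13964 := rfl
theorem F23947 : act 0 n13964 = n12390 := d2_1 D13964 (iv D12390) (iv F18455)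
theorem F23948 : act 2 n13964 = n11688 := d15_2 (iv F18456) D13964 F19659 F15105 F11558 (iv F12329) (iv F16136) (iv D9667) (iv F14175)
theorem F23949 : act 5 n11687 = n13964 := d11_0 F23948 (iv D11688) D11687
def n13965 : Q := act 5 n10989
theorem D13965 : act 5 n10989 = n13965 := rfl
theorem F23950 : act 0 n13965 = n12391 := d4_1 D13965 (iv D12391) (iv F18455)
theorem F23951 : act 2 n13965 = n10990 := d11_1 D13965 (iv D10990) (iv F18456)
theorem F23952 : act 3 n13965 = n11687 := d13_1 D13965 F23949 (iv D13964)
def n13966 : Q := act 0 n10991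
theorem D13966 : act 0 n10991 = n13966 := rfl
theorem F23953 : act 1 n13966 = n11656 := d0_2 D10991 D13966 (iv D11656) (iv D9052) (iv F14177)
theorem F23954 : act 2 n13966 = n10999 := d1_2 (iv F18459) D13966 (iv D10999)
theorem F23955 : act 4 n13966 = n10995 := d3_2 (iv F18460) D13966 (iv D10995)
def n13967 : Q := act 3 n10991
theorem D13967 : act 3 n10991 = n13967 := rfl
theorem F23956 : act 1 n13967 = n10992 := d6_1 D13967 (iv D10992) D10991
def n13968 : Q := act 5 n10991
theorem D13968 : act 5 n10991 = n13968 := rfl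
theorem F23957 : act 1 n13968 = n10993 := d8_1 D13968 (iv D10993) D10991
theorem F23958 : act 2 n13968 = n11001 := d11_1 D13968 (iv D11001) (iv F18459)
def n13969 : Q := act 2 n10992
theorem D13969 : act 2 n10992 = n13969 := rfl
theorem F23959 : act 0 n13969 = n11659 := d1_1 D13969 (iv D11659) (iv F18461)
theorem F23960 : act 3 n13969 = n11649 := d9_2 D10992 D13969 F19590 F15045 F11510 (iv F11517) (iv F15054) (iv F19607) (iv F20539) (iv D12160) (iv D9479) (iv D7300) F9174 D6545 D8534
theorem F23961 : act 5 n11648 = n13969 := d13_0 F23960 (iv D11649) D11648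
def n13970 : Q := act 4 n10992
theorem D13970 : act 4 n10992 = n13970 := rfl
theorem F23962 : act 0 n13970 = n11660 := d3_1 D13970 (iv D11660) (iv F18461)
theorem F23963 : act 3 n13970 = n10997 := d12_1 D13970 (iv D10997) (iv D8537) (iv F14178) D10992
def n13971 : Q := act 5 n10992
theorem D13971 : act 5 n10992 = n13971 := rfl
theorem F23964 : act 0 n13971 = n11661 := d4_1 D13971 (iv D11661) (iv F18461)
theorem F23965 : act 2 n13971 = n11648 := d11_1 D13971 F23961 (iv D13969)
theorem F23966 : act 3 n13971 = n10993 := d13_1 D13971 (iv D10993) D10992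
def n13972 : Q := act 4 n10993
theorem D13972 : act 4 n10993 = n13972 := rfl
theorem F23967 : act 0 n13972 = n11662 := d3_1 D13972 (iv D11662) (iv F18462)
theorem F23968 : act 2 n13972 = n10994 := d10_1 D13972 (iv D10994) (iv F18463)
theorem F23969 : act 5 n13972 = n10998 := d14_2 D10993 D13972 (iv D10998) (iv D8538) (iv F14178)
def n13973 : Q := act 3 n10995
theorem D13973 : act 3 n10995 = n13973 := rfl
theorem F23970 : act 0 n13973 = n10996 := d2_1 D13973 (iv D10996) D10995
def n13974 : Q := act 2 n10996
theorem D13974 : act 2 n10996 = n13974 := rfl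
theorem F23971 : act 1 n13974 = n11501 := d5_1 D13974 (iv D11501) F14819 F14718 (iv F18468)
def n13975 : Q := act 4 n10996
theorem D13975 : act 4 n10996 = n13975 := rfl
theorem F23972 : act 1 n13975 = n10997 := d7_1 D13975 (iv D10997) (iv F18468)
def n13976 : Q := act 5 n10997
theorem D13976 : act 5 n10997 = n13976 := rfl
def n13977 : Q := act 3 n10998
theorem D13977 : act 3 n10998 = n13977 := rfl
theorem F23973 : act 0 n13977 = n12707 := d2_1 D13977 (iv F21806) F19108
theorem F23974 : act 4 n13977 = n12703 := d12_2 D10998 D13977 F23164 (iv D13594) F17884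
theorem F23975 : act 2 n12704 = n13977 := d15_0 (iv D13977) F18469 (iv F14684) (iv F19094) (iv F21786) F21418 (iv F21260) F21261 (iv F21466)
def n13978 : Q := act 3 n10999
theorem D13978 : act 3 n10999 = n13978 := rfl
theorem F23976 : act 0 n13978 = n11000 := d2_1 D13978 (iv D11000) D10999
theorem F23977 : act 1 n13978 = n11017 := d6_1 D13978 (iv D11017) (iv F18470)
def n13979 : Q := act 5 n10999
theorem D13979 : act 5 n10999 = n13979 := rfl
theorem F23978 : act 0 n13979 = n11001 := d4_1 D13979 (iv D11001) D10999
theorem F23979 : act 1 n13979 = n11018 := d8_1 D13979 (iv D11018) (iv F18470)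
def n13980 : Q := act 2 n11000
theorem D13980 : act 2 n11000 = n13980 := rfl
def n13981 : Q := act 5 n11000
theorem D13981 : act 5 n11000 = n13981 := rfl
theorem F23980 : act 1 n13981 = n11003 := d8_1 D13981 (iv D11003) (iv F18472)
theorem F23981 : act 3 n13981 = n11001 := d13_1 D13981 (iv D11001) D11000
def n13982 : Q := act 1 n11002
theorem D13982 : act 1 n11002 = n13982 := rfl
theorem F23982 : act 3 n13982 = n11014 := d6_2 (iv F18475) D13982 F18489
theorem F23983 : act 5 n13982 = n11013 := d8_2 F18476 D13982 F18488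
def n13983 : Q := act 4 n11003
theorem D13983 : act 4 n11003 = n13983 := rfl
theorem F23984 : act 0 n13983 = n11026 := d3_1 D13983 (iv D11026) (iv F18477)
theorem F23985 : act 2 n13983 = n11015 := d10_1 D13983 (iv D11015) (iv F18478)
def n13984 : Q := act 4 n11004
theorem D13984 : act 4 n11004 = n13984 := rfl
theorem F23986 : act 0 n13984 = n11006 := d3_1 D13984 (iv D11006) (iv F18480)
theorem F23987 : act 2 n13984 = n11005 := d10_1 D13984 (iv D11005) D11004
def n13985 : Q := act 5 n11005
theorem D13985 : act 5 n11005 = n13985 := rfl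
theorem F23988 : act 0 n13985 = n11007 := d4_1 D13985 (iv D11007) (iv F18481)
theorem F23989 : act 1 n13985 = n11038 := d8_1 D13985 (iv D11038) (iv F18482)
def n13986 : Q := act 3 n11008
theorem D13986 : act 3 n11008 = n13986 := rfl
theorem F23990 : act 1 n13986 = n11009 := d6_1 D13986 (iv D11009) D11008
def n13987 : Q := act 5 n11008
theorem D13987 : act 5 n11008 = n13987 := rfl
theorem F23991 : act 1 n13987 = n11010 := d8_1 D13987 (iv D11010) D11008
theorem F23992 : act 2 n13987 = n11014 := d11_1 D13987 (iv D11014) (iv F18485)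
def n13988 : Q := act 2 n11009
theorem D13988 : act 2 n11009 = n13988 := rfl
theorem F23993 : act 0 n13988 = n11605 := d1_1 D13988 (iv F20473) F20471
theorem F23994 : act 3 n13988 = n11600 := d9_2 D11009 D13988 F19489 F14961 (iv F12096) (iv F15794) (iv F20477) F20478 (iv D11604) (iv D9010) F11440 F8610 (iv F8126) D6556 D8549
theorem F23995 : act 5 n11599 = n13988 := d13_0 F23994 (iv D11600) D11599
def n13989 : Q := act 4 n11009
theorem D13989 : act 4 n11009 = n13989 := rfl
def n13990 : Q := act 5 n11009
theorem D13990 : act 5 n11009 = n13990 := rfl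
theorem F23996 : act 0 n13990 = n11604 := d4_1 D13990 F20474 F20471
theorem F23997 : act 2 n13990 = n11599 := d11_1 D13990 F23995 (iv D13988)
theorem F23998 : act 3 n13990 = n11010 := d13_1 D13990 (iv D11010) D11009
def n13991 : Q := act 4 n11010
theorem D13991 : act 4 n11010 = n13991 := rfl
theorem F23999 : act 2 n13991 = n11011 := d10_1 D13991 (iv D11011) (iv F18486)
def n13992 : Q := act 3 n11012
theorem D13992 : act 3 n11012 = n13992 := rfl
theorem F24000 : act 0 n13992 = n11013 := d2_1 D13992 (iv D11013) D11012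
def n13993 : Q := act 5 n11012
theorem D13993 : act 5 n11012 = n13993 := rfl
theorem F24001 : act 0 n13993 = n11014 := d4_1 D13993 (iv D11014) D11012
def n13994 : Q := act 2 n11013
theorem D13994 : act 2 n11013 = n13994 := rfl
def n13995 : Q := act 4 n11013
theorem D13995 : act 4 n11013 = n13995 := rfl
theorem F24002 : act 1 n13995 = n11015 := d7_1 D13995 (iv D11015) (iv F18488)
def n13996 : Q := act 4 n11014
theorem D13996 : act 4 n11014 = n13996 := rfl
theorem F24003 : act 1 n13996 = n11016 := d7_1 D13996 (iv D11016) (iv F18489)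
def n13997 : Q := act 5 n11015
theorem D13997 : act 5 n11015 = n13997 := rfl
def n13998 : Q := act 3 n11016
theorem D13998 : act 3 n11016 = n13998 := rfl
def n13999 : Q := act 2 n11017
theorem D13999 : act 2 n11017 = n13999 := rfl
theorem F24004 : act 0 n13999 = n11019 := d1_1 D13999 (iv D11019) (iv F18491)
def n14000 : Q := act 4 n11017
theorem D14000 : act 4 n11017 = n14000 := rfl
theorem F24005 : act 0 n14000 = n11020 := d3_1 D14000 (iv D11020) (iv F18491)
theorem F24006 : act 3 n14000 = n11029 := d12_1 D14000 (iv D11029) (iv D8562) (iv F14199) D11017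
def n14001 : Q := act 5 n11017
theorem D14001 : act 5 n11017 = n14001 := rfl
theorem F24007 : act 0 n14001 = n11021 := d4_1 D14001 (iv D11021) (iv F18491)
theorem F24008 : act 3 n14001 = n11018 := d13_1 D14001 (iv D11018) D11017
def n14002 : Q := act 4 n11018
theorem D14002 : act 4 n11018 = n14002 := rfl
theorem F24009 : act 0 n14002 = n11022 := d3_1 D14002 (iv D11022) (iv F18492)
theorem F24010 : act 2 n14002 = n11667 := d10_1 D14002 (iv F23066) F23064
theorem F24011 : act 5 n14002 = n11030 := d14_2 D11018 D14002 (iv D11030) (iv D8563) (iv F14199)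
def n14003 : Q := act 1 n11019
theorem D14003 : act 1 n11019 = n14003 := rfl
theorem F24012 : act 2 n14003 = n11023 := d5_2 D11019 D14003 (iv D11023) (iv D8558) (iv F14200)
def n14004 : Q := act 3 n11019
theorem D14004 : act 3 n11019 = n14004 := rfl
def n14005 : Q := act 4 n11019
theorem D14005 : act 4 n11019 = n14005 := rfl
theorem F24013 : act 2 n14005 = n11020 := d10_1 D14005 (iv D11020) D11019
def n14006 : Q := act 5 n11019
theorem D14006 : act 5 n11019 = n14006 := rfl
theorem F24014 : act 2 n14006 = n11021 := d11_1 D14006 (iv D11021) D11019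
def n14007 : Q := act 5 n11020
theorem D14007 : act 5 n11020 = n14007 := rfl
theorem F24015 : act 1 n14007 = n11025 := d8_1 D14007 (iv D11025) (iv F18493)
theorem F24016 : act 3 n14007 = n11033 := d13_1 D14007 (iv D11033) (iv F18494)
def n14008 : Q := act 4 n11021
theorem D14008 : act 4 n11021 = n14008 := rfl
theorem F24017 : act 1 n14008 = n11026 := d7_1 D14008 (iv D11026) (iv F18495)
def n14009 : Q := act 3 n11022
theorem D14009 : act 3 n11022 = n14009 := rfl
theorem F24018 : act 1 n14009 = n11027 := d6_1 D14009 (iv D11027) (iv F18497)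
theorem F24019 : act 5 n14009 = n11034 := d13_2 (iv F18499) D14009 (iv D11034)
def n14010 : Q := act 0 n11023
theorem D14010 : act 0 n11023 = n14010 := rfl
def n14011 : Q := act 4 n11023
theorem D14011 : act 4 n11023 = n14011 := rfl
theorem F24020 : act 1 n14011 = n11024 := d7_1 D14011 (iv D11024) D11023
def n14012 : Q := act 3 n11024
theorem D14012 : act 3 n11024 = n14012 := rfl
def n14013 : Q := act 5 n11024
theorem D14013 : act 5 n11024 = n14013 := rfl
theorem F24021 : act 2 n14013 = n11025 := d11_1 D14013 (iv D11025) (iv F18500)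
def n14014 : Q := act 4 n11025
theorem D14014 : act 4 n11025 = n14014 := rfl
theorem F24022 : act 5 n14014 = n11026 := d14_2 D11025 D14014 (iv D11026) (iv D8560) D8559
def n14015 : Q := act 3 n11026
theorem D14015 : act 3 n11026 = n14015 := rfl
theorem F24023 : act 4 n14015 = n11027 := d12_2 D11026 D14015 (iv D11027) (iv D8561) (iv F14203)
def n14016 : Q := act 2 n11027
theorem D14016 : act 2 n11027 = n14016 := rfl
theorem F24024 : act 5 n14016 = n11035 := d11_2 (iv F18502) D14016 (iv D11035)
def n14017 : Q := act 1 n11028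
theorem D14017 : act 1 n11028 = n14017 := rfl
theorem F24025 : act 0 n14017 = n12003 := d0_1 D14017 F20231 (iv F18357) F18358 (iv F18503)
theorem F24026 : act 5 n14017 = n12001 := d8_2 F23840 D14017 (iv F23837)
def n14018 : Q := act 3 n11028
theorem D14018 : act 3 n11028 = n14018 := rfl
theorem F24027 : act 0 n14018 = n11031 := d2_1 D14018 (iv D11031) (iv F18503)
theorem F24028 : act 2 n14018 = n11265 := d15_2 D11028 D14018 (iv D11265) F14498 (iv F13678) F13677 (iv F14123) F14124 (iv F14206)
def n14019 : Q := act 4 n11028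
theorem D14019 : act 4 n11028 = n14019 := rfl
theorem F24029 : act 0 n14019 = n11032 := d3_1 D14019 (iv D11032) (iv F18503)
theorem F24030 : act 2 n14019 = n11029 := d10_1 D14019 (iv D11029) D11028
def n14020 : Q := act 5 n11029
theorem D14020 : act 5 n11029 = n14020 := rfl
theorem F24031 : act 0 n14020 = n11033 := d4_1 D14020 (iv D11033) (iv F18504)
def n14021 : Q := act 3 n11030
theorem D14021 : act 3 n11030 = n14021 := rfl
theorem F24032 : act 0 n14021 = n11034 := d2_1 D14021 (iv D11034) (iv F18505)
theorem F24033 : act 2 n14021 = n12357 := d15_2 F23022 D14021 (iv D12357) (iv D9638) (iv D7426) (iv F11525) D9061 (iv F17787) D13541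
def n14022 : Q := act 2 n11031
theorem D14022 : act 2 n11031 = n14022 := rfl
theorem F24034 : act 0 n14022 = n11265 := d1_1 D14022 (iv F24028) F24027
theorem F24035 : act 3 n14022 = n11264 := d15_3 D8564 D11031 D14022 F18881 (iv F17789) F17788 (iv F18364) F18365 F14206
def n14023 : Q := act 4 n11031
theorem D14023 : act 4 n11031 = n14023 := rfl
def n14024 : Q := act 3 n11032
theorem D14024 : act 3 n11032 = n14024 := rfl
def n14025 : Q := act 2 n11034
theorem D14025 : act 2 n11034 = n14025 := rfl
theorem F24036 : act 0 n14025 = n12357 := d1_1 D14025 (iv F24033) F24032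
theorem F24037 : act 3 n14025 = n12353 := d15_3 F17784 D11034 D14025 (iv D12353) (iv D9636) (iv F15064) D11667 (iv F23025) (iv D13541)
def n14026 : Q := act 1 n11035
theorem D14026 : act 1 n11035 = n14026 := rfl
def n14027 : Q := act 3 n11035
theorem D14027 : act 3 n11035 = n14027 := rfl
def n14028 : Q := act 4 n11036
theorem D14028 : act 4 n11036 = n14028 := rfl
theorem F24038 : act 1 n14028 = n11037 := d7_1 D14028 (iv D11037) D11036
def n14029 : Q := act 3 n11037
theorem D14029 : act 3 n11037 = n14029 := rfl
theorem F24039 : act 0 n14029 = n11043 := d2_1 D14029 (iv D11043) (iv F18509)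
def n14030 : Q := act 5 n11037
theorem D14030 : act 5 n11037 = n14030 := rfl
theorem F24040 : act 0 n14030 = n11044 := d4_1 D14030 (iv D11044) (iv F18509)
theorem F24041 : act 2 n14030 = n11038 := d11_1 D14030 (iv D11038) (iv F18510)
def n14031 : Q := act 3 n11039
theorem D14031 : act 3 n11039 = n14031 := rfl
theorem F24042 : act 0 n14031 = n11040 := d2_1 D14031 (iv D11040) D11039
theorem F24043 : act 2 n14031 = n11040 := d15_2 (iv F18512) D14031 (iv D11040) F14212 (iv F12020) F12019 D7453 F12334 D8575
def n14032 : Q := act 4 n11040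
theorem D14032 : act 4 n11040 = n14032 := rfl
theorem F24044 : act 1 n14032 = n11042 := d7_1 D14032 (iv D11042) (iv F18513)
def n14033 : Q := act 3 n11041
theorem D14033 : act 3 n11041 = n14033 := rfl
theorem F24045 : act 1 n14033 = n11043 := d6_1 D14033 (iv D11043) (iv F18514)
def n14034 : Q := act 5 n11041
theorem D14034 : act 5 n11041 = n14034 := rfl
theorem F24046 : act 1 n14034 = n11044 := d8_1 D14034 (iv D11044) (iv F18514)
theorem F24047 : act 2 n14034 = n11045 := d11_1 D14034 (iv D11045) (iv F18515)
def n14035 : Q := act 3 n11042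
theorem D14035 : act 3 n11042 = n14035 := rfl
theorem F24048 : act 4 n14035 = n11043 := d12_2 D11042 D14035 (iv D11043) (iv D8573) D8572
def n14036 : Q := act 5 n11042
theorem D14036 : act 5 n11042 = n14036 := rfl
def n14037 : Q := act 2 n11043
theorem D14037 : act 2 n11043 = n14037 := rfl
def n14038 : Q := act 5 n11043
theorem D14038 : act 5 n11043 = n14038 := rfl
theorem F24049 : act 3 n14038 = n11044 := d13_1 D14038 (iv D11044) D11043
def n14039 : Q := act 2 n11046
theorem D14039 : act 2 n11046 = n14039 := rfl
theorem F24050 : act 0 n14039 = n11048 := d1_1 D14039 F18521 (iv F18518)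
def n14040 : Q := act 4 n11046
theorem D14040 : act 4 n11046 = n14040 := rfl
theorem F24051 : act 0 n14040 = n13886 := d3_1 D14040 (iv D13886) (iv F18518)
theorem F24052 : act 1 n14040 = n11047 := d7_1 D14040 (iv D11047) (iv F18519)
def n14041 : Q := act 5 n11047
theorem D14041 : act 5 n11047 = n14041 := rfl
theorem F24053 : act 0 n14041 = n11050 := d4_1 D14041 (iv D11050) (iv F18520)
def n14042 : Q := act 4 n11048
theorem D14042 : act 4 n11048 = n14042 := rfl
theorem F24054 : act 1 n14042 = n11049 := d7_1 D14042 (iv D11049) D11048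
theorem F24055 : act 2 n14042 = n13886 := d10_1 D14042 (iv D13886) (iv F18521)
def n14043 : Q := act 3 n11049
theorem D14043 : act 3 n11049 = n14043 := rfl
def n14044 : Q := act 5 n11049
theorem D14044 : act 5 n11049 = n14044 := rfl
theorem F24056 : act 2 n14044 = n11050 := d11_1 D14044 (iv D11050) (iv F18522)
def n14045 : Q := act 2 n11051
theorem D14045 : act 2 n11051 = n14045 := rfl
theorem F24057 : act 0 n14045 = n11053 := d1_1 D14045 (iv D11053) (iv F18524)
theorem F24058 : act 5 n14045 = n11094 := d11_2 F18526 D14045 F18594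
def n14046 : Q := act 4 n11051
theorem D14046 : act 4 n11051 = n14046 := rfl
theorem F24059 : act 0 n14046 = n11054 := d3_1 D14046 (iv D11054) (iv F18524)
theorem F24060 : act 1 n14046 = n11059 := d7_1 D14046 (iv D11059) (iv F18525)
def n14047 : Q := act 4 n11052
theorem D14047 : act 4 n11052 = n14047 := rfl
theorem F24061 : act 0 n14047 = n11055 := d3_1 D14047 (iv D11055) (iv F18527)
theorem F24062 : act 1 n14047 = n11061 := d7_1 D14047 (iv D11061) (iv F18528)
theorem F24063 : act 2 n14047 = n12820 := d10_1 D14047 (iv D12820) (iv F18529)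
def n14048 : Q := act 3 n11053
theorem D14048 : act 3 n11053 = n14048 := rfl
theorem F24064 : act 1 n14048 = n11098 := d6_1 D14048 F18600 (iv F18531)
theorem F24065 : act 5 n14048 = n11095 := d13_2 (iv F18532) D14048 (iv D11095)
def n14049 : Q := act 4 n11053
theorem D14049 : act 4 n11053 = n14049 := rfl
theorem F24066 : act 1 n14049 = n11101 := d7_1 D14049 (iv D11101) (iv F18531)
theorem F24067 : act 2 n14049 = n11054 := d10_1 D14049 (iv D11054) D11053
def n14050 : Q := act 5 n11054
theorem D14050 : act 5 n11054 = n14050 := rfl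
theorem F24068 : act 1 n14050 = n11056 := d8_1 D14050 (iv D11056) (iv F18533)
theorem F24069 : act 4 n14050 = n11105 := d14_1 D14050 (iv D11105) (iv D8621) F14223 D11054
def n14051 : Q := act 3 n11055
theorem D14051 : act 3 n11055 = n14051 := rfl
theorem F24070 : act 1 n14051 = n11057 := d6_1 D14051 (iv D11057) (iv F18534)
theorem F24071 : act 4 n14051 = n11104 := d12_2 D11055 D14051 (iv D11104) (iv D8621) (iv F14226)
def n14052 : Q := act 2 n11057
theorem D14052 : act 2 n11057 = n14052 := rfl
theorem F24072 : act 0 n14052 = n11075 := d1_1 D14052 (iv D11075) (iv F18539)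
theorem F24073 : act 3 n14052 = n13872 := d9_2 D11057 D14052 (iv D13872) (iv D10912) F14088 F10761 (iv F12465) D9772 D12504 F21212 F21210 F16389 F12525 (iv F10873) (iv F14230)
theorem F24074 : act 4 n14052 = n11106 := d10_2 (iv F18540) D14052 (iv D11106)
theorem F24075 : act 5 n14052 = n13884 := d11_2 F20009 D14052 F23801
def n14053 : Q := act 1 n11058
theorem D14053 : act 1 n11058 = n14053 := rfl
def n14054 : Q := act 4 n11058
theorem D14054 : act 4 n11058 = n14054 := rfl
theorem F24076 : act 0 n14054 = n11064 := d3_1 D14054 (iv D11064) (iv F18541)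
theorem F24077 : act 2 n14054 = n11059 := d10_1 D14054 (iv D11059) D11058
def n14055 : Q := act 5 n11058
theorem D14055 : act 5 n11058 = n14055 := rfl
theorem F24078 : act 0 n14055 = n11065 := d4_1 D14055 (iv D11065) (iv F18541)
theorem F24079 : act 2 n14055 = n11060 := d11_1 D14055 (iv D11060) D11058
theorem F24080 : act 3 n14055 = n11081 := d13_1 D14055 (iv F21234) F21235
def n14056 : Q := act 5 n11059
theorem D14056 : act 5 n11059 = n14056 := rfl
theorem F24081 : act 0 n14056 = n11066 := d4_1 D14056 (iv D11066) (iv F18542)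
def n14057 : Q := act 4 n11060
theorem D14057 : act 4 n11060 = n14057 := rfl
theorem F24082 : act 0 n14057 = n11067 := d3_1 D14057 (iv D11067) (iv F18543)
theorem F24083 : act 1 n14057 = n11103 := d7_1 D14057 (iv D11103) (iv F18544)
def n14058 : Q := act 3 n11061
theorem D14058 : act 3 n11061 = n14058 := rfl
theorem F24084 : act 0 n14058 = n11068 := d2_1 D14058 (iv D11068) (iv F18546)
def n14059 : Q := act 0 n11062
theorem D14059 : act 0 n11062 = n14059 := rfl
theorem F24085 : act 2 n14059 = n11069 := d1_2 (iv F18548) D14059 (iv D11069)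
theorem F24086 : act 5 n14059 = n11086 := d4_2 F18549 D14059 F18582
theorem F24087 : act 3 n12724 = n14059 := d15_7 (iv D8607) (iv D6596) F8146 D5856 D7681 D9963 D12724 F24086 F18582
def n14060 : Q := act 3 n11062
theorem D14060 : act 3 n11062 = n14060 := rfl
theorem F24088 : act 0 n14060 = n12724 := d2_1 D14060 F24087 (iv D14059)
theorem F24089 : act 1 n14060 = n11063 := d6_1 D14060 (iv D11063) D11062
theorem F24090 : act 5 n14060 = n11087 := d13_2 F18549 D14060 (iv D11087)
theorem F24091 : act 2 n14060 = n12719 := d15_2 (iv F18548) D14060 (iv D12719) (iv D9960) (iv D7679) (iv F10893) D8605 (iv F18558) (iv D11069)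
def n14061 : Q := act 4 n11062
theorem D14061 : act 4 n11062 = n14061 := rfl
theorem F24092 : act 1 n14061 = n11064 := d7_1 D14061 (iv D11064) D11062
theorem F24093 : act 2 n14061 = n11070 := d10_1 D14061 (iv D11070) (iv F18548)
def n14062 : Q := act 4 n11063
theorem D14062 : act 4 n11063 = n14062 := rfl
def n14063 : Q := act 5 n11063
theorem D14063 : act 5 n11063 = n14063 := rfl
theorem F24094 : act 0 n14063 = n11081 := d4_1 D14063 (iv F21234) F21233
theorem F24095 : act 1 n14063 = n11087 := d8_1 D14063 (iv F24090) F24089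
theorem F24096 : act 2 n14063 = n11077 := d11_1 D14063 (iv F21231) F21232
theorem F24097 : act 3 n14063 = n11065 := d13_1 D14063 (iv D11065) D11063
def n14064 : Q := act 3 n11064
theorem D14064 : act 3 n11064 = n14064 := rfl
def n14065 : Q := act 5 n11064
theorem D14065 : act 5 n11064 = n14065 := rfl
theorem F24098 : act 2 n14065 = n11066 := d11_1 D14065 (iv D11066) (iv F18550)
def n14066 : Q := act 4 n11065
theorem D14066 : act 4 n11065 = n14066 := rfl
theorem F24099 : act 1 n14066 = n11088 := d7_1 D14066 (iv D11088) (iv F18551)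
theorem F24100 : act 2 n14066 = n11067 := d10_1 D14066 (iv D11067) (iv F18552)
def n14067 : Q := act 4 n11066
theorem D14067 : act 4 n11066 = n14067 := rfl
theorem F24101 : act 1 n14067 = n11073 := d7_1 D14067 (iv D11073) (iv F18553)
theorem F24102 : act 5 n14067 = n11067 := d14_2 D11066 D14067 (iv D11067) (iv D8591) D8590
def n14068 : Q := act 3 n11067
theorem D14068 : act 3 n11067 = n14068 := rfl
theorem F24103 : act 1 n14068 = n11074 := d6_1 D14068 (iv D11074) (iv F18554)
theorem F24104 : act 4 n14068 = n11068 := d12_2 D11067 D14068 (iv D11068) (iv D8592) (iv F14236)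
def n14069 : Q := act 2 n11068
theorem D14069 : act 2 n11068 = n14069 := rfl
def n14070 : Q := act 4 n11069
theorem D14070 : act 4 n11069 = n14070 := rfl
theorem F24105 : act 0 n14070 = n11070 := d3_1 D14070 (iv D11070) D11069
theorem F24106 : act 1 n14070 = n11093 := d7_1 D14070 (iv D11093) (iv F18556)
theorem F24107 : act 3 n14070 = n13795 := d12_1 D14070 (iv D13795) F18204 (iv F14258) (iv F18557)
def n14071 : Q := act 3 n11070
theorem D14071 : act 3 n11070 = n14071 := rfl
theorem F24108 : act 0 n14071 = n13795 := d2_1 D14071 (iv F24107) F24105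
theorem F24109 : act 1 n14071 = n11071 := d6_1 D14071 (iv D11071) (iv F18559)
theorem F24110 : act 4 n14071 = n11090 := d12_2 D11070 D14071 (iv D11090) (iv D8609) (iv F14239)
def n14072 : Q := act 5 n11070
theorem D14072 : act 5 n11070 = n14072 := rfl
theorem F24111 : act 1 n14072 = n11072 := d8_1 D14072 (iv D11072) (iv F18559)
theorem F24112 : act 4 n14072 = n11089 := d14_1 D14072 (iv D11089) (iv D8608) (iv F14240) D11070
def n14073 : Q := act 3 n11073
theorem D14073 : act 3 n11073 = n14073 := rfl
theorem F24113 : act 0 n14073 = n11107 := d2_1 D14073 F18609 (iv F18566)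
theorem F24114 : act 2 n14073 = n13585 := d9_1 D14073 (iv D13585) (iv D10671) (iv D8281) F10477 (iv F8161) (iv F10911) D8622 D11106 (iv F19690) F19689 F15140 (iv F12690) (iv F14266) (iv F18567)
theorem F24115 : act 5 n14073 = n11074 := d13_2 (iv F18568) D14073 (iv D11074)
def n14074 : Q := act 2 n11074
theorem D14074 : act 2 n11074 = n14074 := rfl
theorem F24116 : act 0 n14074 = n11106 := d1_1 D14074 (iv D11106) (iv F18569)
theorem F24117 : act 3 n14074 = n13586 := d9_2 D11074 D14074 F23142 F17873 F13750 (iv F10912) (iv F14281) (iv F18609) (iv F19687) (iv D11702) (iv D9095) (iv D6983) (iv F9615) (iv F10899) (iv F14244)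
theorem F24118 : act 4 n14074 = n11075 := d10_2 (iv F18570) D14074 (iv D11075)
theorem F24119 : act 5 n14074 = n13585 := d11_2 F24115 D14074 (iv F24114)
def n14075 : Q := act 1 n11075
theorem D14075 : act 1 n11075 = n14075 := rfl
def n14076 : Q := act 3 n11076
theorem D14076 : act 3 n11076 = n14076 := rfl
theorem F24120 : act 1 n14076 = n11077 := d6_1 D14076 (iv D11077) D11076
def n14077 : Q := act 4 n11076
theorem D14077 : act 4 n11076 = n14077 := rfl
theorem F24121 : act 1 n14077 = n11078 := d7_1 D14077 (iv D11078) D11076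
def n14078 : Q := act 4 n11077
theorem D14078 : act 4 n11077 = n14078 := rfl
theorem F24122 : act 0 n14078 = n11082 := d3_1 D14078 (iv D11082) (iv F18571)
def n14079 : Q := act 3 n11078
theorem D14079 : act 3 n11078 = n14079 := rfl
theorem F24123 : act 0 n14079 = n11083 := d2_1 D14079 (iv D11083) (iv F18572)
def n14080 : Q := act 5 n11078
theorem D14080 : act 5 n11078 = n14080 := rfl
theorem F24124 : act 0 n14080 = n11084 := d4_1 D14080 (iv D11084) (iv F18572)
theorem F24125 : act 2 n14080 = n11079 := d11_1 D14080 (iv D11079) (iv F18573)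
theorem F24126 : act 4 n14080 = n13848 := d14_1 D14080 (iv D13848) F18272 F16413 D11078
def n14081 : Q := act 2 n11080
theorem D14081 : act 2 n11080 = n14081 := rfl
theorem F24127 : act 0 n14081 = n11085 := d1_1 D14081 (iv D11085) (iv F18576)
theorem F24128 : act 4 n14081 = n13857 := d10_2 (iv F18577) D14081 (iv D13857)
def n14082 : Q := act 1 n11081
theorem D14082 : act 1 n11081 = n14082 := rfl
def n14083 : Q := act 4 n11081
theorem D14083 : act 4 n11081 = n14083 := rfl
theorem F24129 : act 2 n14083 = n11082 := d10_1 D14083 (iv D11082) D11081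
def n14084 : Q := act 3 n11082
theorem D14084 : act 3 n11082 = n14084 := rfl
theorem F24130 : act 4 n14084 = n11083 := d12_2 D11082 D14084 (iv D11083) (iv D8602) D8601
def n14085 : Q := act 5 n11082
theorem D14085 : act 5 n11082 = n14085 := rfl
def n14086 : Q := act 2 n11083
theorem D14086 : act 2 n11083 = n14086 := rfl
def n14087 : Q := act 5 n11083
theorem D14087 : act 5 n11083 = n14087 := rfl
theorem F24131 : act 1 n14087 = n13856 := d8_1 D14087 F23757 F21239
theorem F24132 : act 3 n14087 = n11084 := d13_1 D14087 (iv D11084) D11083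
def n14088 : Q := act 3 n11085
theorem D14088 : act 3 n11085 = n14088 := rfl
def n14089 : Q := act 1 n11086
theorem D14089 : act 1 n11086 = n14089 := rfl
theorem F24133 : act 2 n14089 = n11091 := d5_2 D11086 D14089 (iv D11091) (iv D8612) (iv F14254)
def n14090 : Q := act 3 n11086
theorem D14090 : act 3 n11086 = n14090 := rfl
theorem F24134 : act 0 n14090 = n11087 := d2_1 D14090 (iv D11087) (iv F18582)
theorem F24135 : act 2 n14090 = n12726 := d9_1 D14090 F21496 F16628 F12697 (iv F10897) (iv F14239) (iv F18548) D14060 F24091 (iv D12719) (iv D9960) (iv D7679) (iv F10893) D8605 D11086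
theorem F24136 : act 5 n14090 = n12724 := d13_2 F24086 D14090 F24087
def n14091 : Q := act 2 n11087
theorem D14091 : act 2 n11087 = n14091 := rfl
theorem F24137 : act 0 n14091 = n12726 := d1_1 D14091 (iv F24135) F24134
theorem F24138 : act 3 n14091 = n12720 := d9_2 D11087 D14091 F21488 F16624 (iv F14257) (iv F18557) (iv F24085) (iv F24087) (iv D12724) (iv D9963) (iv D7681) (iv D5856) (iv F8146) D6596 D8607
theorem F24139 : act 5 n14091 = n12719 := d11_2 F24090 D14091 (iv F24091)
def n14092 : Q := act 4 n11087
theorem D14092 : act 4 n11087 = n14092 := rfl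
def n14093 : Q := act 3 n11088
theorem D14093 : act 3 n11088 = n14093 := rfl
def n14094 : Q := act 5 n11088
theorem D14094 : act 5 n11088 = n14094 := rfl
theorem F24140 : act 2 n14094 = n11089 := d11_1 D14094 (iv D11089) (iv F18583)
def n14095 : Q := act 2 n11090
theorem D14095 : act 2 n11090 = n14095 := rfl
theorem F24141 : act 0 n14095 = n13794 := d1_1 D14095 F23631 (iv F18586)
theorem F24142 : act 1 n14095 = n12263 := d5_1 D14095 (iv D12263) F15993 (iv F14269) (iv F18587)
theorem F24143 : act 5 n14095 = n12302 := d11_2 (iv F18588) D14095 (iv D12302)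
def n14096 : Q := act 0 n11091
theorem D14096 : act 0 n11091 = n14096 := rfl
theorem F24144 : act 1 n14096 = n11094 := d0_2 D11091 D14096 (iv D11094) (iv D8614) (iv F14270)
def n14097 : Q := act 5 n11091
theorem D14097 : act 5 n11091 = n14097 := rfl
theorem F24145 : act 1 n14097 = n11092 := d8_1 D14097 (iv D11092) D11091
theorem F24146 : act 3 n14097 = n11113 := d13_1 D14097 (iv F20788) F20787
def n14098 : Q := act 4 n11092
theorem D14098 : act 4 n11092 = n14098 := rfl
theorem F24147 : act 0 n14098 = n11101 := d3_1 D14098 (iv D11101) (iv F18589)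
theorem F24148 : act 2 n14098 = n11093 := d10_1 D14098 (iv D11093) (iv F18590)
def n14099 : Q := act 3 n11094
theorem D14099 : act 3 n11094 = n14099 := rfl
theorem F24149 : act 0 n14099 = n11095 := d2_1 D14099 (iv D11095) D11094
theorem F24150 : act 2 n14099 = n12821 := d15_2 (iv F18594) D14099 (iv D12821) (iv D10040) (iv D7746) (iv F10864) D8583 (iv F14223) D8620
def n14100 : Q := act 4 n11094
theorem D14100 : act 4 n11094 = n14100 := rfl
theorem F24151 : act 0 n14100 = n11096 := d3_1 D14100 (iv D11096) D11094
theorem F24152 : act 2 n14100 = n11103 := d10_1 D14100 (iv D11103) (iv F18594)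
def n14101 : Q := act 2 n11095
theorem D14101 : act 2 n11095 = n14101 := rfl
theorem F24153 : act 0 n14101 = n12821 := d1_1 D14101 (iv F24150) F24149
theorem F24154 : act 3 n14101 = n12818 := d15_3 (iv F14273) D11095 D14101 (iv D12818) (iv D10038) (iv F14221) D11051 (iv F18526) (iv D8620)
def n14102 : Q := act 4 n11095
theorem D14102 : act 4 n11095 = n14102 := rfl
theorem F24155 : act 1 n14102 = n11097 := d7_1 D14102 (iv D11097) (iv F18595)
def n14103 : Q := act 3 n11096
theorem D14103 : act 3 n11096 = n14103 := rfl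
theorem F24156 : act 1 n14103 = n11099 := d6_1 D14103 (iv D11099) (iv F18596)
def n14104 : Q := act 5 n11096
theorem D14104 : act 5 n11096 = n14104 := rfl
theorem F24157 : act 1 n14104 = n11100 := d8_1 D14104 (iv D11100) (iv F18596)
theorem F24158 : act 2 n14104 = n11105 := d11_1 D14104 (iv D11105) (iv F18597)
def n14105 : Q := act 3 n11097
theorem D14105 : act 3 n11097 = n14105 := rfl
theorem F24159 : act 4 n14105 = n11099 := d12_2 D11097 D14105 (iv D11099) (iv D8616) D8615
def n14106 : Q := act 5 n11097
theorem D14106 : act 5 n11097 = n14106 := rfl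
def n14107 : Q := act 4 n11098
theorem D14107 : act 4 n11098 = n14107 := rfl
theorem F24160 : act 0 n14107 = n11114 := d3_1 D14107 (iv D11114) (iv F18598)
theorem F24161 : act 2 n14107 = n11112 := d10_1 D14107 (iv D11112) (iv F18599)
def n14108 : Q := act 4 n11100
theorem D14108 : act 4 n11100 = n14108 := rfl
theorem F24162 : act 2 n14108 = n11102 := d10_1 D14108 (iv D11102) (iv F18601)
theorem F24163 : act 5 n14108 = n11101 := d14_2 D11100 D14108 (iv D11101) (iv D8617) D8616
def n14109 : Q := act 3 n11101
theorem D14109 : act 3 n11101 = n14109 := rfl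
def n14110 : Q := act 3 n11103
theorem D14110 : act 3 n11103 = n14110 := rfl
theorem F24164 : act 0 n14110 = n11104 := d2_1 D14110 (iv D11104) (iv F18606)
def n14111 : Q := act 5 n11103
theorem D14111 : act 5 n11103 = n14111 := rfl
theorem F24165 : act 0 n14111 = n11105 := d4_1 D14111 (iv D11105) (iv F18606)
def n14112 : Q := act 2 n11104
theorem D14112 : act 2 n11104 = n14112 := rfl
def n14113 : Q := act 5 n11104
theorem D14113 : act 5 n11104 = n14113 := rfl
theorem F24166 : act 1 n14113 = n11107 := d8_1 D14113 (iv D11107) (iv F18607)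
theorem F24167 : act 3 n14113 = n11105 := d13_1 D14113 (iv D11105) D11104
def n14114 : Q := act 1 n11106
theorem D14114 : act 1 n11106 = n14114 := rfl
def n14115 : Q := act 4 n11107
theorem D14115 : act 4 n11107 = n14115 := rfl
def n14116 : Q := act 1 n11109
theorem D14116 : act 1 n11109 = n14116 := rfl
theorem F24168 : act 2 n14116 = n13816 := d5_2 D11109 D14116 F23662 F18223 (iv F14283)
theorem F24169 : act 4 n14116 = n11110 := d7_2 (iv F18614) D14116 (iv D11110)
def n14117 : Q := act 0 n11110
theorem D14117 : act 0 n11110 = n14117 := rfl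
theorem F24170 : act 1 n14117 = n12261 := d0_2 D11110 D14117 F20736 F15993 (iv F14285)
theorem F24171 : act 2 n14117 = n13813 := d1_2 (iv F18615) D14117 F23660
theorem F24172 : act 3 n14117 = n12254 := d2_2 (iv F18616) D14117 (iv D12254)
theorem F24173 : act 5 n14117 = n12303 := d4_2 (iv F18617) D14117 (iv D12303)
def n14118 : Q := act 2 n11111
theorem D14118 : act 2 n11111 = n14118 := rfl
def n14119 : Q := act 4 n11111
theorem D14119 : act 4 n11111 = n14119 := rfl
theorem F24174 : act 1 n14119 = n11112 := d7_1 D14119 (iv D11112) (iv F18618)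
theorem F24175 : act 3 n14119 = n13780 := d12_1 D14119 (iv D13780) (iv D10835) (iv F14289) D11111
def n14120 : Q := act 5 n11112
theorem D14120 : act 5 n11112 = n14120 := rfl
theorem F24176 : act 0 n14120 = n11115 := d4_1 D14120 (iv D11115) (iv F18619)
theorem F24177 : act 3 n14120 = n13781 := d13_1 D14120 (iv D13781) (iv F18620)
def n14121 : Q := act 0 n11113
theorem D14121 : act 0 n11113 = n14121 := rfl
def n14122 : Q := act 4 n11113
theorem D14122 : act 4 n11113 = n14122 := rfl
theorem F24178 : act 1 n14122 = n11114 := d7_1 D14122 (iv D11114) D11113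
def n14123 : Q := act 3 n11114
theorem D14123 : act 3 n11114 = n14123 := rfl
def n14124 : Q := act 5 n11114
theorem D14124 : act 5 n11114 = n14124 := rfl
theorem F24179 : act 2 n14124 = n11115 := d11_1 D14124 (iv D11115) (iv F18621)
def n14125 : Q := act 1 n11116
theorem D14125 : act 1 n11116 = n14125 := rfl
theorem F24180 : act 2 n14125 = n11117 := d5_2 D11116 D14125 (iv D11117) (iv D8633) (iv F14294)
def n14126 : Q := act 3 n11116
theorem D14126 : act 3 n11116 = n14126 := rfl
theorem F24181 : act 0 n14126 = n11464 := d2_1 D14126 (iv D11464) (iv F18623)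
def n14127 : Q := act 0 n11117
theorem D14127 : act 0 n11117 = n14127 := rfl
theorem F24182 : act 1 n14127 = n11141 := d0_2 D11117 D14127 (iv D11141) (iv D8650) (iv F14295)
def n14128 : Q := act 0 n11118
theorem D14128 : act 0 n11118 = n14128 := rfl
theorem F24183 : act 1 n14128 = n11120 := d0_2 D11118 D14128 F18627 (iv D8636) (iv F14296)
theorem F24184 : act 3 n11150 = n14128 := d6_0 F24183 F18629 D11150
theorem F24185 : act 5 n11118 = n14128 := d8_0 F24183 (iv D11120) D11118
def n14129 : Q := act 3 n11118
theorem D14129 : act 3 n11118 = n14129 := rfl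
theorem F24186 : act 0 n14129 = n11150 := d2_1 D14129 F24184 (iv D14128)
theorem F24187 : act 1 n14129 = n11119 := d6_1 D14129 (iv D11119) D11118
theorem F24188 : act 5 n14129 = n11150 := d13_2 (iv F24185) D14129 F24184
theorem F24189 : act 2 n11210 = n14129 := d5_0 F24187 F18625 F14334 D8704 D11210
def n14130 : Q := act 4 n11119
theorem D14130 : act 4 n11119 = n14130 := rfl
theorem F24190 : act 0 n14130 = n11125 := d3_1 D14130 (iv D11125) (iv F18624)
theorem F24191 : act 2 n14130 = n11153 := d10_1 D14130 (iv D11153) (iv F18625)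
def n14131 : Q := act 4 n11120
theorem D14131 : act 4 n11120 = n14131 := rfl
theorem F24192 : act 0 n14131 = n11123 := d3_1 D14131 (iv D11123) (iv F18627)
theorem F24193 : act 2 n14131 = n11121 := d10_1 D14131 (iv D11121) (iv F18628)
def n14132 : Q := act 4 n11122
theorem D14132 : act 4 n11122 = n14132 := rfl
theorem F24194 : act 0 n14132 = n11151 := d3_1 D14132 (iv D11151) (iv F18632)
theorem F24195 : act 1 n14132 = n11125 := d7_1 D14132 (iv D11125) (iv F18633)
theorem F24196 : act 2 n14132 = n11145 := d10_1 D14132 (iv D11145) (iv F18634)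
def n14133 : Q := act 3 n11123
theorem D14133 : act 3 n11123 = n14133 := rfl
theorem F24197 : act 1 n14133 = n11126 := d6_1 D14133 (iv D11126) (iv F18636)
def n14134 : Q := act 5 n11123
theorem D14134 : act 5 n11123 = n14134 := rfl
theorem F24198 : act 1 n14134 = n11127 := d8_1 D14134 (iv D11127) (iv F18636)
theorem F24199 : act 2 n14134 = n11128 := d11_1 D14134 F18644 (iv F18637)
theorem F24200 : act 4 n14134 = n11127 := d14_1 D14134 (iv D11127) (iv D8638) F14300 D11123
def n14135 : Q := act 1 n11124
theorem D14135 : act 1 n11124 = n14135 := rfl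
theorem F24201 : act 0 n14135 = n11204 := d0_1 D14135 F18782 F14413 (iv F14334) (iv F18638)
theorem F24202 : act 2 n14135 = n11143 := d5_2 D11124 D14135 F18663 (iv F18634) F18633
theorem F24203 : act 3 n14135 = n11144 := d6_2 (iv F18639) D14135 F18665
theorem F24204 : act 5 n14135 = n11143 := d8_2 (iv F18640) D14135 F18663
def n14136 : Q := act 4 n11124
theorem D14136 : act 4 n11124 = n14136 := rfl
theorem F24205 : act 0 n14136 = n11153 := d3_1 D14136 (iv D11153) (iv F18638)
theorem F24206 : act 2 n14136 = n11125 := d10_1 D14136 (iv D11125) D11124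
def n14137 : Q := act 3 n11125
theorem D14137 : act 3 n11125 = n14137 := rfl
theorem F24207 : act 4 n14137 = n11126 := d12_2 D11125 D14137 (iv D11126) (iv D8638) D8637
def n14138 : Q := act 5 n11125
theorem D14138 : act 5 n11125 = n14138 := rfl
def n14139 : Q := act 1 n11129
theorem D14139 : act 1 n11129 = n14139 := rfl
theorem F24208 : act 2 n14139 = n11488 := d5_2 D11129 D14139 F19281 F14814 (iv F14306)
theorem F24209 : act 4 n14139 = n11131 := d7_2 (iv F18645) D14139 (iv D11131)
def n14140 : Q := act 0 n11131
theorem D14140 : act 0 n11131 = n14140 := rfl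
theorem F24210 : act 2 n14140 = n11486 := d1_2 (iv F18649) D14140 F19280
theorem F24211 : act 3 n14140 = n11141 := d2_2 (iv F18650) D14140 (iv D11141)
theorem F24212 : act 5 n14140 = n11141 := d4_2 (iv F18651) D14140 (iv D11141)
def n14141 : Q := act 1 n11132
theorem D14141 : act 1 n11132 = n14141 := rfl
theorem F24213 : act 2 n14141 = n11134 := d5_2 D11132 D14141 (iv D11134) (iv D8646) (iv F14312)
def n14142 : Q := act 3 n11132
theorem D14142 : act 3 n11132 = n14142 := rfl
def n14143 : Q := act 5 n11132
theorem D14143 : act 5 n11132 = n14143 := rfl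
theorem F24214 : act 2 n14143 = n11133 := d11_1 D14143 (iv D11133) D11132
def n14144 : Q := act 4 n11133
theorem D14144 : act 4 n11133 = n14144 := rfl
theorem F24215 : act 1 n14144 = n11137 := d7_1 D14144 (iv D11137) (iv F18652)
def n14145 : Q := act 0 n11134
theorem D14145 : act 0 n11134 = n14145 := rfl
def n14146 : Q := act 3 n11134
theorem D14146 : act 3 n11134 = n14146 := rfl
theorem F24216 : act 1 n14146 = n11135 := d6_1 D14146 (iv D11135) D11134
def n14147 : Q := act 5 n11134
theorem D14147 : act 5 n11134 = n14147 := rfl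
theorem F24217 : act 1 n14147 = n11136 := d8_1 D14147 (iv D11136) D11134
def n14148 : Q := act 1 n11138
theorem D14148 : act 1 n11138 = n14148 := rfl
theorem F24218 : act 2 n14148 = n11481 := d5_2 D11138 D14148 F19270 F14810 (iv F14315)
theorem F24219 : act 5 n14148 = n11139 := d8_2 (iv F18655) D14148 (iv D11139)
def n14149 : Q := act 0 n11139
theorem D14149 : act 0 n11139 = n14149 := rfl
theorem F24220 : act 2 n14149 = n11480 := d1_2 (iv F18656) D14149 (iv D11480)
theorem F24221 : act 4 n14149 = n11141 := d3_2 (iv F18657) D14149 (iv D11141)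
def n14150 : Q := act 3 n11139
theorem D14150 : act 3 n11139 = n14150 := rfl
theorem F24222 : act 1 n14150 = n11140 := d6_1 D14150 (iv D11140) D11139
def n14151 : Q := act 3 n11142
theorem D14151 : act 3 n11142 = n14151 := rfl
theorem F24223 : act 0 n14151 = n11143 := d2_1 D14151 (iv D11143) D11142
theorem F24224 : act 1 n14151 = n11147 := d6_1 D14151 (iv D11147) (iv F18659)
theorem F24225 : act 2 n14151 = n11204 := d9_1 D14151 (iv D11204) F14412 D11159 (iv F18710) F18711 (iv F18666) (iv F24203) F24202 (iv D11143) F14319 D8710 (iv F14458) F14459 (iv F18660)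
theorem F24226 : act 5 n14151 = n11204 := d13_2 F18662 D14151 (iv D11204)
def n14152 : Q := act 4 n11143
theorem D14152 : act 4 n11143 = n14152 := rfl
theorem F24227 : act 1 n14152 = n11145 := d7_1 D14152 (iv D11145) (iv F18663)
theorem F24228 : act 3 n14152 = n11472 := d12_1 D14152 (iv D11472) (iv D8914) (iv F14320) D11143
def n14153 : Q := act 4 n11144
theorem D14153 : act 4 n11144 = n14153 := rfl
theorem F24229 : act 0 n14153 = n11205 := d3_1 D14153 (iv D11205) (iv F18664)
theorem F24230 : act 1 n14153 = n11146 := d7_1 D14153 (iv D11146) (iv F18665)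
theorem F24231 : act 2 n14153 = n11221 := d10_1 D14153 (iv D11221) (iv F18666)
theorem F24232 : act 5 n14153 = n11427 := d14_2 D11144 D14153 F19168 F14744 (iv F14320)
def n14154 : Q := act 5 n11145
theorem D14154 : act 5 n11145 = n14154 := rfl
theorem F24233 : act 0 n14154 = n11152 := d4_1 D14154 (iv D11152) (iv F18667)
theorem F24234 : act 3 n14154 = n11473 := d13_1 D14154 (iv D11473) (iv F18668)
def n14155 : Q := act 3 n11146
theorem D14155 : act 3 n11146 = n14155 := rfl
theorem F24235 : act 0 n14155 = n11154 := d2_1 D14155 (iv D11154) (iv F18669)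
theorem F24236 : act 5 n14155 = n11428 := d13_2 (iv F18671) D14155 (iv D11428)
theorem F24237 : act 2 n14155 = n11451 := d15_2 (iv F18670) D14155 (iv D11451) (iv D8898) (iv D6820) F8489 D5177 (iv F10955) (iv F14324)
def n14156 : Q := act 4 n11147
theorem D14156 : act 4 n11147 = n14156 := rfl
theorem F24238 : act 0 n14156 = n11149 := d3_1 D14156 (iv D11149) (iv F18672)
theorem F24239 : act 2 n14156 = n11195 := d10_1 D14156 (iv D11195) (iv F18674)
theorem F24240 : act 3 n14156 = n11491 := d12_1 D14156 (iv D11491) (iv D8929) (iv F14329) D11147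
def n14157 : Q := act 1 n11148
theorem D14157 : act 1 n11148 = n14157 := rfl
theorem F24241 : act 0 n14157 = n11210 := d0_1 D14157 (iv D11210) (iv F18760) F18761 (iv F18675)
theorem F24242 : act 2 n14157 = n11150 := d5_2 D11148 D14157 (iv D11150) (iv D8657) (iv F14331)
theorem F24243 : act 3 n14157 = n11188 := d6_2 (iv F18677) D14157 (iv D11188)
theorem F24244 : act 5 n14157 = n11210 := d8_2 (iv F18676) D14157 (iv D11210)
def n14158 : Q := act 4 n11148
theorem D14158 : act 4 n11148 = n14158 := rfl
theorem F24245 : act 0 n14158 = n11195 := d3_1 D14158 (iv D11195) (iv F18675)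
theorem F24246 : act 2 n14158 = n11149 := d10_1 D14158 (iv D11149) D11148
def n14159 : Q := act 5 n11149
theorem D14159 : act 5 n11149 = n14159 := rfl
theorem F24247 : act 1 n14159 = n11152 := d8_1 D14159 (iv D11152) (iv F18678)
theorem F24248 : act 3 n14159 = n11495 := d13_1 D14159 (iv D11495) (iv F18679)
theorem F24249 : act 4 n14159 = n11213 := d14_1 D14159 (iv D11213) (iv D8705) (iv F14332) D11149
def n14160 : Q := act 4 n11150
theorem D14160 : act 4 n11150 = n14160 := rfl
theorem F24250 : act 1 n14160 = n11151 := d7_1 D14160 (iv D11151) D11150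
def n14161 : Q := act 3 n11151
theorem D14161 : act 3 n11151 = n14161 := rfl
def n14162 : Q := act 5 n11151
theorem D14162 : act 5 n11151 = n14162 := rfl
theorem F24251 : act 2 n14162 = n11152 := d11_1 D14162 (iv D11152) (iv F18680)
def n14163 : Q := act 4 n11152
theorem D14163 : act 4 n11152 = n14163 := rfl
theorem F24252 : act 1 n14163 = n11213 := d7_1 D14163 (iv F24249) F24247
theorem F24253 : act 5 n14163 = n11153 := d14_2 D11152 D14163 (iv D11153) (iv D8659) D8658
def n14164 : Q := act 3 n11153
theorem D14164 : act 3 n11153 = n14164 := rfl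
theorem F24254 : act 1 n14164 = n11212 := d6_1 D14164 (iv D11212) (iv F18682)
theorem F24255 : act 4 n14164 = n11154 := d12_2 D11153 D14164 (iv D11154) (iv D8660) (iv F14335)
def n14165 : Q := act 2 n11154
theorem D14165 : act 2 n11154 = n14165 := rfl
theorem F24256 : act 0 n14165 = n11451 := d1_1 D14165 (iv F24237) F24235
theorem F24257 : act 5 n14165 = n11452 := d11_2 (iv F18684) D14165 (iv D11452)
theorem F24258 : act 3 n14165 = n11426 := d15_1 D14165 (iv D11426) (iv D8877) F11251 D6806 D8878 D11428 (iv F24236) F24235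
def n14166 : Q := act 1 n11155
theorem D14166 : act 1 n11155 = n14166 := rfl
theorem F24259 : act 0 n14166 = n13862 := d0_1 D14166 F23766 F18297 (iv F14342) (iv F18685)
theorem F24260 : act 2 n14166 = n11176 := d5_2 D11155 D14166 (iv D11176) (iv D8679) (iv F14340)
theorem F24261 : act 4 n14166 = n11285 := d7_2 (iv F18686) D14166 (iv D11285)
def n14167 : Q := act 3 n11155
theorem D14167 : act 3 n11155 = n14167 := rfl
theorem F24262 : act 0 n14167 = n11156 := d2_1 D14167 (iv D11156) (iv F18685)
def n14168 : Q := act 2 n11156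
theorem D14168 : act 2 n11156 = n14168 := rfl
theorem F24263 : act 5 n14168 = n11464 := d11_2 F18797 D14168 F19236
theorem F24264 : act 3 n14168 = n11465 := d15_3 D8662 D11156 D14168 F19238 F14792 F11293 D8703 F14423 F14339
def n14169 : Q := act 4 n11156
theorem D14169 : act 4 n11156 = n14169 := rfl
theorem F24265 : act 1 n14169 = n13868 := d7_1 D14169 F23775 (iv F18687)
theorem F24266 : act 3 n14169 = n11288 := d12_1 D14169 (iv D11288) (iv D8765) (iv F14343) D11156
def n14170 : Q := act 4 n11159
theorem D14170 : act 4 n11159 = n14170 := rfl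
theorem F24267 : act 1 n14170 = n11161 := d7_1 D14170 (iv D11161) (iv F18696)
def n14171 : Q := act 3 n11160
theorem D14171 : act 3 n11160 = n14171 := rfl
theorem F24268 : act 1 n14171 = n11162 := d6_1 D14171 (iv D11162) (iv F18698)
def n14172 : Q := act 5 n11160
theorem D14172 : act 5 n11160 = n14172 := rfl
theorem F24269 : act 1 n14172 = n11163 := d8_1 D14172 (iv D11163) (iv F18698)
theorem F24270 : act 4 n14172 = n13667 := d14_1 D14172 F23326 (iv D11217) (iv F14430) D11160
def n14173 : Q := act 3 n11161
theorem D14173 : act 3 n11161 = n14173 := rfl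
theorem F24271 : act 0 n14173 = n11167 := d2_1 D14173 (iv D11167) (iv F18699)
theorem F24272 : act 4 n14173 = n11162 := d12_2 D11161 D14173 (iv D11162) (iv D8668) D8667
def n14174 : Q := act 5 n11161
theorem D14174 : act 5 n11161 = n14174 := rfl
theorem F24273 : act 0 n14174 = n11168 := d4_1 D14174 (iv D11168) (iv F18699)
theorem F24274 : act 2 n14174 = n11239 := d11_1 D14174 F18841 (iv F18700)
theorem F24275 : act 4 n14174 = n11236 := d14_1 D14174 (iv D11236) (iv D8724) (iv F14352) D11161
def n14175 : Q := act 2 n11162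
theorem D14175 : act 2 n11162 = n14175 := rfl
theorem F24276 : act 0 n14175 = n11169 := d1_1 D14175 (iv D11169) (iv F18701)
theorem F24277 : act 3 n14175 = n11182 := d15_1 D14175 F18740 F14381 F11000 (iv F10985) (iv F14364) (iv F18716) (iv D11170) (iv F18701)
theorem F24278 : act 5 n11181 = n14175 := d13_0 F24277 (iv D11182) D11181
def n14176 : Q := act 5 n11162
theorem D14176 : act 5 n11162 = n14176 := rfl
theorem F24279 : act 0 n14176 = n11170 := d4_1 D14176 (iv D11170) (iv F18701)
theorem F24280 : act 2 n14176 = n11181 := d11_1 D14176 F24278 (iv D14175)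
theorem F24281 : act 3 n14176 = n11163 := d13_1 D14176 (iv D11163) D11162
def n14177 : Q := act 1 n11164
theorem D14177 : act 1 n11164 = n14177 := rfl
theorem F24282 : act 0 n14177 = n11458 := d0_1 D14177 (iv D11458) F14784 (iv F14366) (iv F18705)
theorem F24283 : act 3 n14177 = n11271 := d6_2 (iv F18708) D14177 (iv D11271)
theorem F24284 : act 4 n14177 = n13603 := d7_2 (iv F18706) D14177 F23178
theorem F24285 : act 5 n14177 = n11176 := d8_2 (iv F18707) D14177 (iv D11176)
def n14178 : Q := act 4 n11165
theorem D14178 : act 4 n11165 = n14178 := rfl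
theorem F24286 : act 0 n14178 = n14170 := d3_1 D14178 (iv D14170) (iv F18709)
theorem F24287 : act 1 n14178 = n11166 := d7_1 D14178 (iv D11166) D11165
theorem F24288 : act 2 n14178 = n14170 := d10_1 D14178 (iv D14170) (iv F18710)
def n14179 : Q := act 3 n11166
theorem D14179 : act 3 n11166 = n14179 := rfl
theorem F24289 : act 0 n14179 = n11240 := d2_1 D14179 (iv D11240) (iv F18713)
theorem F24290 : act 4 n14179 = n11227 := d12_2 D11166 D14179 (iv D11227) (iv D8716) (iv F14362)
def n14180 : Q := act 5 n11166
theorem D14180 : act 5 n11166 = n14180 := rfl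
theorem F24291 : act 0 n14180 = n11239 := d4_1 D14180 F18841 (iv F18713)
theorem F24292 : act 2 n14180 = n11168 := d11_1 D14180 (iv D11168) (iv F18714)
theorem F24293 : act 4 n14180 = n11223 := d14_1 D14180 (iv D11223) (iv D8713) (iv F14363) D11166
def n14181 : Q := act 2 n11167
theorem D14181 : act 2 n11167 = n14181 := rfl
theorem F24294 : act 4 n14181 = n11169 := d10_2 (iv F18715) D14181 (iv D11169)
def n14182 : Q := act 5 n11167
theorem D14182 : act 5 n11167 = n14182 := rfl
theorem F24295 : act 3 n14182 = n11168 := d13_1 D14182 (iv D11168) D11167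
def n14183 : Q := act 1 n11169
theorem D14183 : act 1 n11169 = n14183 := rfl
def n14184 : Q := act 3 n11169
theorem D14184 : act 3 n11169 = n14184 := rfl
theorem F24296 : act 0 n14184 = n11182 := d2_1 D14184 (iv F24277) F24276
theorem F24297 : act 2 n14184 = n11175 := d9_1 D14184 F18732 F14375 (iv F14356) (iv F18703) (iv F24281) F24280 (iv D11181) (iv D8682) (iv D6656) F8251 (iv F8235) (iv F10983) D8673 D11169
theorem F24298 : act 5 n14184 = n11174 := d15_8 (iv D8682) (iv D6656) F8251 (iv F8235) (iv F10983) D8673 D11169 D14184 F18729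
def n14185 : Q := act 5 n11169
theorem D14185 : act 5 n11169 = n14185 := rfl
theorem F24299 : act 0 n14185 = n11181 := d4_1 D14185 F24278 F24276
theorem F24300 : act 2 n14185 = n11170 := d11_1 D14185 (iv D11170) D11169
theorem F24301 : act 3 n14185 = n11174 := d13_1 D14185 (iv F24298) (iv D14184)
def n14186 : Q := act 4 n11170
theorem D14186 : act 4 n11170 = n14186 := rfl
theorem F24302 : act 3 n14186 = n13670 := d12_1 D14186 (iv D13670) (iv D10738) (iv F14365) (iv F18716)
def n14187 : Q := act 2 n11172
theorem D14187 : act 2 n11172 = n14187 := rfl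
theorem F24303 : act 0 n14187 = n11693 := d1_1 D14187 (iv D11693) (iv F18722)
theorem F24304 : act 4 n14187 = n11321 := d10_2 (iv F18724) D14187 (iv D11321)
def n14188 : Q := act 5 n11172
theorem D14188 : act 5 n11172 = n14188 := rfl
theorem F24305 : act 0 n14188 = n11694 := d4_1 D14188 (iv D11694) (iv F18722)
theorem F24306 : act 1 n14188 = n11175 := d8_1 D14188 (iv D11175) (iv F18723)
theorem F24307 : act 3 n14188 = n11173 := d13_1 D14188 (iv D11173) D11172
def n14189 : Q := act 1 n11174
theorem D14189 : act 1 n11174 = n14189 := rfl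
theorem F24308 : act 4 n14189 = n11323 := d7_2 (iv F18730) D14189 (iv D11323)
def n14190 : Q := act 4 n11175
theorem D14190 : act 4 n11175 = n14190 := rfl
theorem F24309 : act 0 n14190 = n11183 := d3_1 D14190 (iv D11183) (iv F18731)
theorem F24310 : act 5 n14190 = n11326 := d14_2 D11175 D14190 (iv D11326) (iv D8797) (iv F14373)
def n14191 : Q := act 0 n11176
theorem D14191 : act 0 n11176 = n14191 := rfl
theorem F24311 : act 1 n14191 = n11184 := d0_2 D11176 D14191 (iv D11184) (iv D8684) (iv F14376)
theorem F24312 : act 2 n14191 = n13862 := d1_2 F24260 D14191 (iv F24259)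
theorem F24313 : act 4 n14191 = n13626 := d3_2 F19404 D14191 F23232
theorem F24314 : act 5 n14191 = n11458 := d4_2 F24285 D14191 (iv F24282)
def n14192 : Q := act 3 n11176
theorem D14192 : act 3 n11176 = n14192 := rfl
theorem F24315 : act 1 n14192 = n11177 := d6_1 D14192 (iv D11177) D11176
theorem F24316 : act 5 n14192 = n11271 := d13_2 F24285 D14192 (iv F24283)
def n14193 : Q := act 4 n11177
theorem D14193 : act 4 n11177 = n14193 := rfl
theorem F24317 : act 0 n14193 = n11187 := d3_1 D14193 (iv D11187) (iv F18733)
theorem F24318 : act 2 n14193 = n11250 := d10_1 D14193 (iv D11250) (iv F18734)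
def n14194 : Q := act 1 n11178
theorem D14194 : act 1 n11178 = n14194 := rfl
theorem F24319 : act 4 n14194 = n11180 := d7_2 (iv F18737) D14194 (iv D11180)
def n14195 : Q := act 3 n11178
theorem D14195 : act 3 n11178 = n14195 := rfl
theorem F24320 : act 0 n14195 = n11324 := d2_1 D14195 (iv D11324) (iv F18736)
theorem F24321 : act 2 n14195 = n11318 := d9_1 D14195 F18993 F14596 F11143 (iv F11157) (iv F14609) (iv F19003) (iv F23339) (iv F23337) (iv D11306) F14578 F11135 (iv F10999) D8680 D11178
theorem F24322 : act 5 n14195 = n11317 := d15_8 (iv F23337) (iv D11306) F14578 F11135 (iv F10999) D8680 D11178 D14195 (iv F23338)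
def n14196 : Q := act 5 n11178
theorem D14196 : act 5 n11178 = n14196 := rfl
theorem F24323 : act 0 n14196 = n11325 := d4_1 D14196 (iv D11325) (iv F18736)
theorem F24324 : act 2 n14196 = n11179 := d11_1 D14196 (iv D11179) D11178
theorem F24325 : act 3 n14196 = n11317 := d13_1 D14196 (iv F24322) (iv D14195)
def n14197 : Q := act 4 n11179
theorem D14197 : act 4 n11179 = n14197 := rfl
theorem F24326 : act 0 n14197 = n11326 := d3_1 D14197 (iv D11326) (iv F18738)
theorem F24327 : act 5 n14197 = n11183 := d14_2 D11179 D14197 (iv D11183) (iv D8683) (iv F14378)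
def n14198 : Q := act 0 n11180
theorem D14198 : act 0 n11180 = n14198 := rfl
def n14199 : Q := act 3 n11180
theorem D14199 : act 3 n11180 = n14199 := rfl
theorem F24328 : act 1 n14199 = n11181 := d6_1 D14199 (iv D11181) D11180
def n14200 : Q := act 5 n11180
theorem D14200 : act 5 n11180 = n14200 := rfl
theorem F24329 : act 1 n14200 = n11182 := d8_1 D14200 (iv D11182) D11180
theorem F24330 : act 2 n14200 = n12652 := d11_1 D14200 (iv F23318) F23316
def n14201 : Q := act 4 n11181
theorem D14201 : act 4 n11181 = n14201 := rfl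
def n14202 : Q := act 4 n11182
theorem D14202 : act 4 n11182 = n14202 := rfl
theorem F24331 : act 2 n14202 = n11183 := d10_1 D14202 (iv D11183) (iv F18740)
def n14203 : Q := act 3 n11184
theorem D14203 : act 3 n11184 = n14203 := rfl
theorem F24332 : act 0 n14203 = n11185 := d2_1 D14203 (iv D11185) D11184
theorem F24333 : act 5 n14203 = n11459 := d13_2 (iv F18743) D14203 (iv D11459)
theorem F24334 : act 2 n14203 = n11434 := d15_2 (iv F18741) D14203 (iv D11434) (iv D8884) (iv D6810) F8482 D5180 (iv F11003) D8686
theorem F24335 : act 4 n13610 = n14203 := d10_0 F24334 F19184 (iv F23191)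
def n14204 : Q := act 2 n11185
theorem D14204 : act 2 n11185 = n14204 := rfl
theorem F24336 : act 0 n14204 = n11434 := d1_1 D14204 (iv F24334) F24332
theorem F24337 : act 3 n14204 = n11430 := d9_2 D11185 D14204 (iv D11430) (iv D8880) F11259 D6824 D8903 D11459 F19229 (iv F19188) F19187 F14758 F11265 (iv F11001) (iv F14382)
theorem F24338 : act 5 n14204 = n11460 := d11_2 (iv F18745) D14204 (iv D11460)
theorem F24339 : act 4 n13601 = n14204 := d14_5 F24338 F19231 (iv D10685) (iv F17890) D13601
def n14205 : Q := act 4 n11185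
theorem D14205 : act 4 n11185 = n14205 := rfl
theorem F24340 : act 0 n14205 = n13610 := d3_1 D14205 F24335 F24332
theorem F24341 : act 1 n14205 = n11187 := d7_1 D14205 (iv D11187) (iv F18744)
theorem F24342 : act 2 n14205 = n13601 := d10_1 D14205 F24339 (iv D14204)
theorem F24343 : act 3 n14205 = n13654 := d12_1 D14205 (iv D13654) (iv D10727) (iv F14383) D11185
theorem F24344 : act 5 n14205 = n13600 := d14_2 (iv F18745) D14205 F23173 (iv F17896) (iv F14786)
def n14206 : Q := act 1 n11186
theorem D14206 : act 1 n11186 = n14206 := rfl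
theorem F24345 : act 3 n14206 = n11229 := d6_2 (iv F18747) D14206 (iv D11229)
theorem F24346 : act 5 n14206 = n11256 := d8_2 (iv F18748) D14206 F18869
def n14207 : Q := act 4 n11186
theorem D14207 : act 4 n11186 = n14207 := rfl
theorem F24347 : act 0 n14207 = n11250 := d3_1 D14207 (iv D11250) (iv F18746)
theorem F24348 : act 2 n14207 = n11187 := d10_1 D14207 (iv D11187) D11186
def n14208 : Q := act 5 n11187
theorem D14208 : act 5 n11187 = n14208 := rfl
theorem F24349 : act 1 n14208 = n13600 := d8_1 D14208 (iv F24344) F24341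
theorem F24350 : act 4 n14208 = n13602 := d14_1 D14208 F23177 (iv F18719) F18720 D11187
def n14209 : Q := act 0 n11188
theorem D14209 : act 0 n11188 = n14209 := rfl
theorem F24351 : act 1 n14209 = n11190 := d0_2 D11188 D14209 F18752 (iv D8690) (iv F14389)
theorem F24352 : act 2 n14209 = n14128 := d1_2 (iv F18749) D14209 (iv D14128)
theorem F24353 : act 3 n14209 = n11210 := d2_2 F24243 D14209 (iv F24241)
theorem F24354 : act 5 n14209 = n11188 := d15_8 F24352 (iv F24184) (iv F24242) F24243 F18749 D14129 (iv F24189) (iv F24353) D14209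
def n14210 : Q := act 4 n11188
theorem D14210 : act 4 n11188 = n14210 := rfl
theorem F24355 : act 1 n14210 = n11189 := d7_1 D14210 (iv D11189) D11188
theorem F24356 : act 2 n14210 = n13801 := d10_1 D14210 F23641 (iv F18749)
def n14211 : Q := act 3 n11189
theorem D14211 : act 3 n11189 = n14211 := rfl
theorem F24357 : act 0 n14211 = n11196 := d2_1 D14211 (iv D11196) (iv F18750)
def n14212 : Q := act 5 n11189
theorem D14212 : act 5 n11189 = n14212 := rfl
theorem F24358 : act 0 n14212 = n11197 := d4_1 D14212 (iv D11197) (iv F18750)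
theorem F24359 : act 2 n14212 = n11191 := d11_1 D14212 (iv D11191) (iv F18751)
def n14213 : Q := act 4 n11190
theorem D14213 : act 4 n11190 = n14213 := rfl
theorem F24360 : act 0 n14213 = n11194 := d3_1 D14213 (iv D11194) (iv F18752)
theorem F24361 : act 2 n14213 = n11192 := d10_1 D14213 (iv D11192) (iv F18753)
def n14214 : Q := act 4 n11191
theorem D14214 : act 4 n11191 = n14214 := rfl
theorem F24362 : act 0 n14214 = n11198 := d3_1 D14214 (iv D11198) (iv F18755)
theorem F24363 : act 1 n14214 = n13804 := d7_1 D14214 (iv D13804) (iv F18756)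
theorem F24364 : act 5 n14214 = n11192 := d14_2 D11191 D14214 (iv D11192) (iv D8689) D8688
def n14215 : Q := act 4 n11193
theorem D14215 : act 4 n11193 = n14215 := rfl
theorem F24365 : act 0 n14215 = n11211 := d3_1 D14215 (iv D11211) (iv F18760)
theorem F24366 : act 1 n14215 = n11195 := d7_1 D14215 (iv D11195) (iv F18761)
theorem F24367 : act 2 n14215 = n11206 := d10_1 D14215 (iv D11206) (iv F18762)
def n14216 : Q := act 3 n11194
theorem D14216 : act 3 n11194 = n14216 := rfl
theorem F24368 : act 1 n14216 = n11196 := d6_1 D14216 (iv D11196) (iv F18764)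
def n14217 : Q := act 5 n11194
theorem D14217 : act 5 n11194 = n14217 := rfl
theorem F24369 : act 1 n14217 = n11197 := d8_1 D14217 (iv D11197) (iv F18764)
theorem F24370 : act 2 n14217 = n11198 := d11_1 D14217 F18768 (iv F18765)
theorem F24371 : act 4 n14217 = n11197 := d14_1 D14217 (iv D11197) (iv D8692) F14397 D11194
def n14218 : Q := act 3 n11195
theorem D14218 : act 3 n11195 = n14218 := rfl
theorem F24372 : act 4 n14218 = n11196 := d12_2 D11195 D14218 (iv D11196) (iv D8692) D8691
def n14219 : Q := act 5 n11195
theorem D14219 : act 5 n11195 = n14219 := rfl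
def n14220 : Q := act 3 n11198
theorem D14220 : act 3 n11198 = n14220 := rfl
theorem F24373 : act 1 n14220 = n11202 := d6_1 D14220 F18778 (iv F18767)
theorem F24374 : act 4 n14220 = n13239 := d12_2 D11198 D14220 F22491 F17360 (iv F14400)
theorem F24375 : act 5 n14220 = n11199 := d13_2 (iv F18768) D14220 (iv D11199)
def n14221 : Q := act 2 n11199
theorem D14221 : act 2 n11199 = n14221 := rfl
theorem F24376 : act 4 n14221 = n11200 := d10_2 (iv F18770) D14221 (iv D11200)
def n14222 : Q := act 1 n11200
theorem D14222 : act 1 n11200 = n14222 := rfl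
theorem F24377 : act 2 n14222 = n11203 := d5_2 D11200 D14222 (iv D11203) (iv D8698) (iv F14402)
theorem F24378 : act 5 n14222 = n14125 := d8_2 (iv F18771) D14222 (iv D14125)
def n14223 : Q := act 3 n11200
theorem D14223 : act 3 n11200 = n14223 := rfl
theorem F24379 : act 0 n14223 = n14168 := d2_1 D14223 F24264 F19237
theorem F24380 : act 2 n14223 = n14167 := d9_1 D14223 (iv D14167) (iv D11155) (iv D8661) F10961 D6829 D8907 D11464 F19236 (iv D11216) (iv D8708) (iv D6675) (iv F11014) D8695 D11200
theorem F24381 : act 5 n14223 = n14126 := d13_2 (iv F18771) D14223 (iv D14126)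
def n14224 : Q := act 1 n11201
theorem D14224 : act 1 n11201 = n14224 := rfl
theorem F24382 : act 3 n14224 = n14147 := d6_2 (iv F18774) D14224 F24217
theorem F24383 : act 4 n14224 = n11203 := d7_2 (iv F18773) D14224 (iv D11203)
theorem F24384 : act 5 n14224 = n14146 := d8_2 F18775 D14224 F24216
def n14225 : Q := act 0 n11203
theorem D14225 : act 0 n11203 = n14225 := rfl
theorem F24385 : act 1 n14225 = n14140 := d0_2 D11203 D14225 (iv D14140) (iv D11131) (iv F14409)
theorem F24386 : act 3 n14225 = n14127 := d2_2 (iv F18780) D14225 (iv D14127)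
theorem F24387 : act 5 n14225 = n14127 := d4_2 (iv F18781) D14225 (iv D14127)
def n14226 : Q := act 4 n11204
theorem D14226 : act 4 n11204 = n14226 := rfl
theorem F24388 : act 1 n14226 = n11206 := d7_1 D14226 (iv D11206) (iv F18782)
def n14227 : Q := act 3 n11205
theorem D14227 : act 3 n11205 = n14227 := rfl
theorem F24389 : act 1 n14227 = n11207 := d6_1 D14227 (iv D11207) (iv F18783)
def n14228 : Q := act 5 n11205
theorem D14228 : act 5 n11205 = n14228 := rfl
theorem F24390 : act 0 n14228 = n11427 := d4_1 D14228 (iv F24232) F24229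
theorem F24391 : act 1 n14228 = n11208 := d8_1 D14228 (iv D11208) (iv F18783)
theorem F24392 : act 2 n14228 = n14172 := d11_1 D14228 (iv D14172) (iv F18784)
theorem F24393 : act 4 n14228 = n11429 := d14_1 D14228 F19171 (iv F18661) (iv F18662) D11205
def n14229 : Q := act 3 n11206
theorem D14229 : act 3 n11206 = n14229 := rfl
theorem F24394 : act 0 n14229 = n11212 := d2_1 D14229 (iv D11212) (iv F18785)
theorem F24395 : act 4 n14229 = n11207 := d12_2 D11206 D14229 (iv D11207) (iv D8701) D8700
def n14230 : Q := act 5 n11206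
theorem D14230 : act 5 n11206 = n14230 := rfl
theorem F24396 : act 0 n14230 = n11213 := d4_1 D14230 (iv D11213) (iv F18785)
def n14231 : Q := act 1 n11209
theorem D14231 : act 1 n11209 = n14231 := rfl
theorem F24397 : act 2 n14231 = n14177 := d5_2 D11209 D14231 (iv D14177) (iv D11164) (iv F14421)
theorem F24398 : act 4 n14231 = n11499 := d7_2 (iv F18791) D14231 (iv D11499)
theorem F24399 : act 5 n14231 = n14166 := d8_2 (iv F18792) D14231 (iv D14166)
def n14232 : Q := act 3 n11209
theorem D14232 : act 3 n11209 = n14232 := rfl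
theorem F24400 : act 0 n14232 = n11216 := d2_1 D14232 (iv D11216) (iv F18790)
theorem F24401 : act 2 n14232 = n14126 := d9_1 D14232 (iv D14126) (iv D11116) (iv D8632) F10920 D6639 D8662 D11156 D14168 F24264 F19238 F14792 F11293 D8703 D11209
theorem F24402 : act 5 n14232 = n14167 := d13_2 (iv F18792) D14232 (iv D14167)
def n14233 : Q := act 4 n11210
theorem D14233 : act 4 n11210 = n14233 := rfl
theorem F24403 : act 1 n14233 = n11211 := d7_1 D14233 (iv D11211) D11210
def n14234 : Q := act 3 n11211
theorem D14234 : act 3 n11211 = n14234 := rfl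
def n14235 : Q := act 5 n11211
theorem D14235 : act 5 n11211 = n14235 := rfl
theorem F24404 : act 2 n14235 = n11213 := d11_1 D14235 (iv D11213) (iv F18793)
def n14236 : Q := act 2 n11212
theorem D14236 : act 2 n11212 = n14236 := rfl
theorem F24405 : act 4 n14236 = n11214 := d10_2 (iv F18794) D14236 (iv D11214)
def n14237 : Q := act 5 n11212
theorem D14237 : act 5 n11212 = n14237 := rfl
theorem F24406 : act 3 n14237 = n11213 := d13_1 D14237 (iv D11213) D11212
def n14238 : Q := act 1 n11214
theorem D14238 : act 1 n11214 = n14238 := rfl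
def n14239 : Q := act 4 n11215
theorem D14239 : act 4 n11215 = n14239 := rfl
theorem F24407 : act 1 n14239 = n11453 := d7_1 D14239 (iv D11453) (iv F18795)
theorem F24408 : act 3 n14239 = n11456 := d12_1 D14239 (iv D11456) (iv D8901) (iv F14426) (iv F18796)
def n14240 : Q := act 4 n11216
theorem D14240 : act 4 n11216 = n14240 := rfl
theorem F24409 : act 3 n14240 = n11502 := d12_1 D14240 (iv D11502) (iv D8936) (iv F14427) D11216
def n14241 : Q := act 3 n11217
theorem D14241 : act 3 n11217 = n14241 := rfl
theorem F24410 : act 0 n14241 = n11219 := d2_1 D14241 (iv D11219) (iv F18798)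
theorem F24411 : act 1 n14241 = n11230 := d6_1 D14241 (iv D11230) (iv F18799)
theorem F24412 : act 2 n14241 = n12002 := d15_2 (iv F18800) D14241 (iv D12002) (iv F18375) (iv F23607) F23606 F18192 F14744 D8913
def n14242 : Q := act 3 n11218
theorem D14242 : act 3 n11218 = n14242 := rfl
theorem F24413 : act 1 n14242 = n11222 := d6_1 D14242 (iv D11222) (iv F18801)
theorem F24414 : act 4 n14242 = n11219 := d12_2 D11218 D14242 (iv D11219) (iv D8711) D8710
def n14243 : Q := act 5 n11218
theorem D14243 : act 5 n11218 = n14243 := rfl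
theorem F24415 : act 1 n14243 = n11223 := d8_1 D14243 (iv D11223) (iv F18801)
def n14244 : Q := act 2 n11219
theorem D14244 : act 2 n11219 = n14244 := rfl
theorem F24416 : act 0 n14244 = n12002 := d1_1 D14244 (iv F24412) F24410
theorem F24417 : act 3 n14244 = n12001 := d15_7 (iv F23861) F23862 F18454 (iv D8914) (iv F14433) D11219 D14244 (iv F24026) F24025
def n14245 : Q := act 5 n11219
theorem D14245 : act 5 n11219 = n14245 := rfl
theorem F24418 : act 1 n14245 = n11225 := d8_1 D14245 (iv D11225) (iv F18802)
theorem F24419 : act 3 n14245 = n11220 := d13_1 D14245 (iv D11220) D11219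
def n14246 : Q := act 4 n11220
theorem D14246 : act 4 n11220 = n14246 := rfl
theorem F24420 : act 0 n14246 = n14172 := d3_1 D14246 F24270 F23324
theorem F24421 : act 1 n14246 = n11226 := d7_1 D14246 (iv D11226) (iv F18803)
theorem F24422 : act 2 n14246 = n11427 := d10_1 D14246 F19168 (iv F18804)
theorem F24423 : act 5 n14246 = n11221 := d14_2 D11220 D14246 (iv D11221) (iv D8712) D8711
def n14247 : Q := act 3 n11221
theorem D14247 : act 3 n11221 = n14247 := rfl
theorem F24424 : act 0 n14247 = n14171 := d2_1 D14247 (iv D14171) (iv F18805)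
theorem F24425 : act 1 n14247 = n11227 := d6_1 D14247 (iv D11227) (iv F18806)
def n14248 : Q := act 2 n11222
theorem D14248 : act 2 n11222 = n14248 := rfl
theorem F24426 : act 0 n14248 = n11237 := d1_1 D14248 (iv D11237) (iv F18807)
theorem F24427 : act 4 n14248 = n11224 := d10_2 (iv F18808) D14248 (iv D11224)
def n14249 : Q := act 5 n11222
theorem D14249 : act 5 n11222 = n14249 := rfl
theorem F24428 : act 0 n14249 = n11238 := d4_1 D14249 (iv D11238) (iv F18807)
theorem F24429 : act 3 n14249 = n11223 := d13_1 D14249 (iv D11223) D11222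
def n14250 : Q := act 4 n11225
theorem D14250 : act 4 n11225 = n14250 := rfl
theorem F24430 : act 0 n14250 = n11244 := d3_1 D14250 (iv D11244) (iv F18813)
theorem F24431 : act 2 n14250 = n11266 := d10_1 D14250 (iv D11266) (iv F18814)
def n14251 : Q := act 3 n11226
theorem D14251 : act 3 n11226 = n14251 := rfl
theorem F24432 : act 0 n14251 = n11245 := d2_1 D14251 (iv D11245) (iv F18816)
theorem F24433 : act 5 n14251 = n11227 := d13_2 (iv F18818) D14251 (iv D11227)
def n14252 : Q := act 2 n11227
theorem D14252 : act 2 n11227 = n14252 := rfl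
theorem F24434 : act 0 n14252 = n11246 := d1_1 D14252 (iv D11246) (iv F18819)
theorem F24435 : act 3 n14252 = n11352 := d15_1 D14252 (iv D11352) (iv D8821) F11181 (iv F11063) (iv F14466) D11245 F18851 (iv F18819)
def n14253 : Q := act 1 n11228
theorem D14253 : act 1 n11228 = n14253 := rfl
theorem F24436 : act 0 n14253 = n11400 := d0_1 D14253 F19123 F14710 (iv F14469) (iv F18820)
theorem F24437 : act 2 n14253 = n11419 := d5_2 D11228 D14253 F19153 F14739 (iv F14447)
theorem F24438 : act 4 n14253 = n11229 := d7_2 (iv F18821) D14253 (iv D11229)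
theorem F24439 : act 5 n14253 = n11340 := d8_2 (iv F18822) D14253 F19033
def n14254 : Q := act 3 n11228
theorem D14254 : act 3 n11228 = n14254 := rfl
theorem F24440 : act 0 n14254 = n11247 := d2_1 D14254 (iv D11247) (iv F18820)
theorem F24441 : act 5 n14254 = n11342 := d13_2 (iv F18822) D14254 (iv D11342)
def n14255 : Q := act 0 n11229
theorem D14255 : act 0 n11229 = n14255 := rfl
theorem F24442 : act 1 n14255 = n11248 := d0_2 D11229 D14255 (iv D11248) (iv D8733) (iv F14450)
theorem F24443 : act 2 n14255 = n11414 := d1_2 (iv F18823) D14255 F19141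
theorem F24444 : act 4 n14255 = n11400 := d3_2 F24438 D14255 (iv F24436)
theorem F24445 : act 5 n14255 = n11255 := d4_2 (iv F18824) D14255 (iv D11255)
def n14256 : Q := act 2 n11231
theorem D14256 : act 2 n11231 = n14256 := rfl
theorem F24446 : act 4 n14256 = n11233 := d10_2 (iv F18827) D14256 (iv D11233)
def n14257 : Q := act 5 n11231
theorem D14257 : act 5 n11231 = n14257 := rfl
theorem F24447 : act 1 n14257 = n11238 := d8_1 D14257 (iv D11238) (iv F18826)
theorem F24448 : act 3 n14257 = n11232 := d13_1 D14257 (iv D11232) D11231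
def n14258 : Q := act 1 n11233
theorem D14258 : act 1 n11233 = n14258 := rfl
theorem F24449 : act 2 n14258 = n11241 := d5_2 D11233 D14258 (iv D11241) (iv D8728) (iv F14456)
def n14259 : Q := act 3 n11234
theorem D14259 : act 3 n11234 = n14259 := rfl
theorem F24450 : act 0 n14259 = n14242 := d2_1 D14259 (iv D14242) (iv F18831)
theorem F24451 : act 1 n14259 = n11235 := d6_1 D14259 (iv D11235) (iv F18832)
theorem F24452 : act 4 n14259 = n14241 := d12_2 D11234 D14259 (iv D14241) (iv D11217) (iv F14459)
def n14260 : Q := act 5 n11234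
theorem D14260 : act 5 n11234 = n14260 := rfl
theorem F24453 : act 0 n14260 = n14243 := d4_1 D14260 (iv D14243) (iv F18831)
theorem F24454 : act 1 n14260 = n11236 := d8_1 D14260 (iv D11236) (iv F18832)
theorem F24455 : act 2 n14260 = n14243 := d11_1 D14260 (iv D14243) (iv F18833)
def n14261 : Q := act 2 n11235
theorem D14261 : act 2 n11235 = n14261 := rfl
theorem F24456 : act 0 n14261 = n14256 := d1_1 D14261 (iv D14256) (iv F18834)
theorem F24457 : act 4 n14261 = n13662 := d10_2 (iv F18835) D14261 F23314
def n14262 : Q := act 5 n11235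
theorem D14262 : act 5 n11235 = n14262 := rfl
theorem F24458 : act 0 n14262 = n14257 := d4_1 D14262 (iv D14257) (iv F18834)
theorem F24459 : act 3 n14262 = n11236 := d13_1 D14262 (iv D11236) D11235
def n14263 : Q := act 1 n11237
theorem D14263 : act 1 n11237 = n14263 := rfl
theorem F24460 : act 4 n14263 = n11241 := d7_2 (iv F18838) D14263 (iv D11241)
def n14264 : Q := act 3 n11237
theorem D14264 : act 3 n11237 = n14264 := rfl
def n14265 : Q := act 5 n11237
theorem D14265 : act 5 n11237 = n14265 := rfl
theorem F24461 : act 2 n14265 = n11238 := d11_1 D14265 (iv D11238) D11237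
def n14266 : Q := act 4 n11238
theorem D14266 : act 4 n11238 = n14266 := rfl
theorem F24462 : act 5 n14266 = n11244 := d14_2 D11238 D14266 (iv D11244) (iv D8729) (iv F14462)
def n14267 : Q := act 3 n11239
theorem D14267 : act 3 n11239 = n14267 := rfl
theorem F24463 : act 1 n14267 = n14182 := d6_1 D14267 F24295 (iv F18840)
theorem F24464 : act 5 n14267 = n11240 := d13_2 (iv F18841) D14267 (iv D11240)
def n14268 : Q := act 2 n11240
theorem D14268 : act 2 n11240 = n14268 := rfl
theorem F24465 : act 4 n14268 = n11246 := d10_2 (iv F18843) D14268 (iv D11246)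
def n14269 : Q := act 0 n11241
theorem D14269 : act 0 n11241 = n14269 := rfl
def n14270 : Q := act 3 n11241
theorem D14270 : act 3 n11241 = n14270 := rfl
theorem F24466 : act 1 n14270 = n11242 := d6_1 D14270 (iv D11242) D11241
theorem F24467 : act 2 n13680 = n14270 := d5_0 F24466 F18845 F14486 D10746 D13680
theorem F24468 : act 5 n11253 = n14270 := d8_0 F24466 F18846 D11253
def n14271 : Q := act 5 n11241
theorem D14271 : act 5 n11241 = n14271 := rfl
theorem F24469 : act 1 n14271 = n11243 := d8_1 D14271 (iv D11243) D11241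
theorem F24470 : act 3 n14271 = n11253 := d13_1 D14271 F24468 (iv D14270)
def n14272 : Q := act 4 n11242
theorem D14272 : act 4 n11242 = n14272 := rfl
theorem F24471 : act 0 n14272 = n11267 := d3_1 D14272 (iv D11267) (iv F18844)
theorem F24472 : act 2 n14272 = n11254 := d10_1 D14272 (iv D11254) (iv F18845)
def n14273 : Q := act 4 n11243
theorem D14273 : act 4 n11243 = n14273 := rfl
theorem F24473 : act 0 n14273 = n11266 := d3_1 D14273 (iv D11266) (iv F18847)
theorem F24474 : act 2 n14273 = n11244 := d10_1 D14273 (iv D11244) (iv F18848)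
def n14274 : Q := act 3 n11244
theorem D14274 : act 3 n11244 = n14274 := rfl
theorem F24475 : act 1 n14274 = n14186 := d6_1 D14274 F24302 F23330
theorem F24476 : act 4 n14274 = n11245 := d12_2 D11244 D14274 (iv D11245) (iv D8730) (iv F14464)
def n14275 : Q := act 2 n11245
theorem D14275 : act 2 n11245 = n14275 := rfl
theorem F24477 : act 5 n14275 = n11246 := d11_2 (iv F18851) D14275 (iv D11246)
def n14276 : Q := act 1 n11246
theorem D14276 : act 1 n11246 = n14276 := rfl
theorem F24478 : act 2 n14276 = n14183 := d5_2 D11246 D14276 (iv D14183) (iv D11169) (iv F14468)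
def n14277 : Q := act 3 n11246
theorem D14277 : act 3 n11246 = n14277 := rfl
theorem F24479 : act 0 n14277 = n11352 := d2_1 D14277 (iv F24435) F24434
theorem F24480 : act 2 n14277 = n11342 := d15_2 D11246 D14277 (iv D11342) F14642 (iv F14444) (iv F18817) D14251 F24433 F18819
def n14278 : Q := act 2 n11247
theorem D14278 : act 2 n11247 = n14278 := rfl
theorem F24481 : act 5 n14278 = n11352 := d11_2 (iv F18853) D14278 (iv D11352)
def n14279 : Q := act 4 n11247
theorem D14279 : act 4 n11247 = n14279 := rfl
theorem F24482 : act 1 n14279 = n11411 := d7_1 D14279 (iv D11411) (iv F18852)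
theorem F24483 : act 3 n14279 = n11250 := d12_1 D14279 (iv D11250) (iv D8734) (iv F14470) D11247
def n14280 : Q := act 3 n11248
theorem D14280 : act 3 n11248 = n14280 := rfl
theorem F24484 : act 0 n14280 = n11249 := d2_1 D14280 (iv D11249) D11248
theorem F24485 : act 5 n14280 = n11268 := d13_2 (iv F18856) D14280 (iv D11268)
def n14281 : Q := act 2 n11249
theorem D14281 : act 2 n11249 = n14281 := rfl
theorem F24486 : act 5 n14281 = n11269 := d11_2 (iv F18858) D14281 (iv D11269)
def n14282 : Q := act 4 n11249
theorem D14282 : act 4 n11249 = n14282 := rfl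
theorem F24487 : act 1 n14282 = n11250 := d7_1 D14282 (iv D11250) (iv F18857)
theorem F24488 : act 3 n14282 = n11411 := d12_1 D14282 (iv D11411) F14716 (iv F14473) D11249
def n14283 : Q := act 5 n11250
theorem D14283 : act 5 n11250 = n14283 := rfl
theorem F24489 : act 4 n14283 = n11273 := d14_1 D14283 (iv D11273) (iv D8753) (iv F14475) D11250
def n14284 : Q := act 1 n11251
theorem D14284 : act 1 n11251 = n14284 := rfl
theorem F24490 : act 4 n14284 = n11253 := d7_2 (iv F18860) D14284 (iv D11253)
def n14285 : Q := act 3 n11251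
theorem D14285 : act 3 n11251 = n14285 := rfl
theorem F24491 : act 0 n14285 = n11261 := d2_1 D14285 (iv D11261) (iv F18859)
def n14286 : Q := act 5 n11251
theorem D14286 : act 5 n11251 = n14286 := rfl
theorem F24492 : act 0 n14286 = n11262 := d4_1 D14286 (iv D11262) (iv F18859)
theorem F24493 : act 2 n14286 = n11252 := d11_1 D14286 (iv D11252) D11251
def n14287 : Q := act 4 n11252
theorem D14287 : act 4 n11252 = n14287 := rfl
theorem F24494 : act 0 n14287 = n11263 := d3_1 D14287 (iv D11263) (iv F18861)
theorem F24495 : act 1 n14287 = n13678 := d7_1 D14287 F23374 F22732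
theorem F24496 : act 3 n14287 = n11309 := d12_1 D14287 (iv D11309) F14584 (iv F14483) (iv F18862)
theorem F24497 : act 5 n14287 = n11254 := d14_2 D11252 D14287 (iv D11254) (iv D8739) (iv F14481)
def n14288 : Q := act 0 n11253
theorem D14288 : act 0 n11253 = n14288 := rfl
theorem F24498 : act 1 n14288 = n11264 := d0_2 D11253 D14288 (iv D11264) (iv D8746) (iv F14484)
def n14289 : Q := act 3 n11255
theorem D14289 : act 3 n11255 = n14289 := rfl
theorem F24499 : act 0 n14289 = n11256 := d2_1 D14289 (iv D11256) D11255
theorem F24500 : act 1 n14289 = n11268 := d6_1 D14289 (iv D11268) (iv F18866)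
def n14290 : Q := act 2 n11256
theorem D14290 : act 2 n11256 = n14290 := rfl
theorem F24501 : act 1 n14290 = n11460 := d5_1 D14290 (iv D11460) (iv F18718) F18721 (iv F18869)
theorem F24502 : act 4 n13599 = n14290 := d7_0 F24501 F19231 (iv F23170)
def n14291 : Q := act 4 n11256
theorem D14291 : act 4 n11256 = n14291 := rfl
theorem F24503 : act 1 n14291 = n11257 := d7_1 D14291 (iv D11257) (iv F18869)
theorem F24504 : act 2 n14291 = n13599 := d10_1 D14291 F24502 (iv D14290)
theorem F24505 : act 3 n14291 = n11339 := d12_1 D14291 (iv D11339) (iv D8810) (iv F14489) D11256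
theorem F24506 : act 5 n13598 = n14291 := d11_0 F24504 (iv D13599) D13598
def n14292 : Q := act 5 n11257
theorem D14292 : act 5 n11257 = n14292 := rfl
theorem F24507 : act 0 n14292 = n11273 := d4_1 D14292 (iv D11273) (iv F18870)
theorem F24508 : act 1 n14292 = n13598 := d8_1 D14292 F24506 F24503
theorem F24509 : act 2 n14292 = n13602 := d11_1 D14292 F23177 (iv F18871)
theorem F24510 : act 3 n14292 = n11341 := d13_1 D14292 (iv D11341) (iv F18872)
def n14293 : Q := act 1 n11258
theorem D14293 : act 1 n11258 = n14293 := rfl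
theorem F24511 : act 2 n14293 = n11676 := d5_2 D11258 D14293 (iv D11676) (iv D9071) (iv F14491)
def n14294 : Q := act 3 n11258
theorem D14294 : act 3 n11258 = n14294 := rfl
def n14295 : Q := act 5 n11258
theorem D14295 : act 5 n11258 = n14295 := rfl
theorem F24512 : act 2 n14295 = n11259 := d11_1 D14295 (iv D11259) D11258
def n14296 : Q := act 4 n11259
theorem D14296 : act 4 n11259 = n14296 := rfl
theorem F24513 : act 1 n14296 = n11679 := d7_1 D14296 (iv D11679) (iv F18873)
theorem F24514 : act 3 n14296 = n11326 := d12_1 D14296 (iv D11326) F14609 (iv F14494) (iv F18874)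
def n14297 : Q := act 0 n11260
theorem D14297 : act 0 n11260 = n14297 := rfl
theorem F24515 : act 2 n14297 = n11336 := d1_2 (iv F18875) D14297 (iv D11336)
theorem F24516 : act 4 n14297 = n11264 := d3_2 (iv F18876) D14297 (iv D11264)
def n14298 : Q := act 3 n11260
theorem D14298 : act 3 n11260 = n14298 := rfl
theorem F24517 : act 1 n14298 = n11261 := d6_1 D14298 (iv D11261) D11260
def n14299 : Q := act 5 n11260
theorem D14299 : act 5 n11260 = n14299 := rfl
theorem F24518 : act 1 n14299 = n11262 := d8_1 D14299 (iv D11262) D11260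
theorem F24519 : act 2 n14299 = n11335 := d11_1 D14299 F19021 (iv F18875)
def n14300 : Q := act 2 n11261
theorem D14300 : act 2 n11261 = n14300 := rfl
def n14301 : Q := act 4 n11261
theorem D14301 : act 4 n11261 = n14301 := rfl
theorem F24520 : act 3 n14301 = n11266 := d12_1 D14301 (iv D11266) (iv D8747) (iv F14495) D11261
def n14302 : Q := act 5 n11261
theorem D14302 : act 5 n11261 = n14302 := rfl
theorem F24521 : act 3 n14302 = n11262 := d13_1 D14302 (iv D11262) D11261
def n14303 : Q := act 4 n11262
theorem D14303 : act 4 n11262 = n14303 := rfl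
theorem F24522 : act 2 n14303 = n11263 := d10_1 D14303 (iv D11263) (iv F18877)
theorem F24523 : act 5 n14303 = n11267 := d14_2 D11262 D14303 (iv D11267) (iv D8748) (iv F14495)
def n14304 : Q := act 4 n11265
theorem D14304 : act 4 n11265 = n14304 := rfl
theorem F24524 : act 1 n14304 = n11266 := d7_1 D14304 (iv D11266) (iv F18882)
def n14305 : Q := act 5 n11266
theorem D14305 : act 5 n11266 = n14305 := rfl
def n14306 : Q := act 3 n11267
theorem D14306 : act 3 n11267 = n14306 := rfl
def n14307 : Q := act 2 n11268
theorem D14307 : act 2 n11268 = n14307 := rfl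
theorem F24525 : act 0 n14307 = n11269 := d1_1 D14307 (iv D11269) (iv F18884)
theorem F24526 : act 3 n14307 = n13869 := d15_1 D14307 (iv D13869) (iv D10908) F14065 (iv F11071) (iv F14472) D11249 F18858 (iv F18884)
def n14308 : Q := act 4 n11268
theorem D14308 : act 4 n11268 = n14308 := rfl
theorem F24527 : act 0 n14308 = n11270 := d3_1 D14308 (iv D11270) (iv F18884)
theorem F24528 : act 3 n14308 = n11343 := d12_1 D14308 (iv D11343) (iv D8814) (iv F14503) D11268
def n14309 : Q := act 1 n11269
theorem D14309 : act 1 n11269 = n14309 := rfl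
theorem F24529 : act 2 n14309 = n11271 := d5_2 D11269 D14309 (iv D11271) (iv D8752) (iv F14504)
def n14310 : Q := act 3 n11269
theorem D14310 : act 3 n11269 = n14310 := rfl
theorem F24530 : act 0 n14310 = n13869 := d2_1 D14310 (iv F24526) F24525
theorem F24531 : act 2 n14310 = n13864 := d15_2 D11269 D14310 (iv D13864) F18298 (iv F14477) (iv F18854) D14280 F24485 F18884
def n14311 : Q := act 4 n11269
theorem D14311 : act 4 n11269 = n14311 := rfl
theorem F24532 : act 2 n14311 = n11270 := d10_1 D14311 (iv D11270) D11269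
def n14312 : Q := act 5 n11270
theorem D14312 : act 5 n11270 = n14312 := rfl
theorem F24533 : act 1 n14312 = n11273 := d8_1 D14312 (iv D11273) (iv F18885)
theorem F24534 : act 3 n14312 = n11346 := d13_1 D14312 (iv D11346) (iv F18886)
def n14313 : Q := act 0 n11271
theorem D14313 : act 0 n11271 = n14313 := rfl
theorem F24535 : act 1 n14313 = n11459 := d0_2 D11271 D14313 F19227 (iv F18718) F18717
theorem F24536 : act 3 n14313 = n11458 := d2_2 F24283 D14313 (iv F24282)
theorem F24537 : act 4 n13613 = n14313 := d12_0 F24536 F19226 F17900 (iv F17926) (iv F23195)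
def n14314 : Q := act 4 n11271
theorem D14314 : act 4 n11271 = n14314 := rfl
theorem F24538 : act 0 n14314 = n13613 := d3_1 D14314 F24537 (iv D14313)
theorem F24539 : act 1 n14314 = n11272 := d7_1 D14314 (iv D11272) D11271
theorem F24540 : act 3 n14314 = n13621 := d12_1 D14314 F23219 (iv F23180) (iv F24284) F24283
theorem F24541 : act 5 n13611 = n14314 := d4_0 F24538 (iv D13613) D13611
def n14315 : Q := act 5 n11272
theorem D14315 : act 5 n11272 = n14315 := rfl
theorem F24542 : act 0 n14315 = n13602 := d4_1 D14315 F23177 (iv F18887)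
theorem F24543 : act 1 n14315 = n13611 := d8_1 D14315 F24541 F24539
theorem F24544 : act 2 n14315 = n11273 := d11_1 D14315 (iv D11273) (iv F18888)
theorem F24545 : act 3 n14315 = n13646 := d13_1 D14315 (iv D13646) F18889
def n14316 : Q := act 1 n11274
theorem D14316 : act 1 n11274 = n14316 := rfl
theorem F24546 : act 0 n14316 = n14231 := d0_1 D14316 (iv D14231) F18790 (iv F14510) (iv F18891)
theorem F24547 : act 2 n14316 = n11458 := d5_2 D11274 D14316 (iv D11458) (iv D8903) (iv F14507)
theorem F24548 : act 4 n14316 = n11403 := d7_2 (iv F18892) D14316 (iv D11403)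
theorem F24549 : act 5 n14316 = n13862 := d8_2 (iv F18893) D14316 F23766
def n14317 : Q := act 3 n11274
theorem D14317 : act 3 n11274 = n14317 := rfl
theorem F24550 : act 0 n14317 = n11275 := d2_1 D14317 (iv D11275) (iv F18891)
theorem F24551 : act 5 n14317 = n13864 := d13_2 (iv F18893) D14317 (iv D13864)
def n14318 : Q := act 2 n11275
theorem D14318 : act 2 n11275 = n14318 := rfl
theorem F24552 : act 5 n14318 = n13869 := d11_2 (iv F18895) D14318 (iv D13869)
def n14319 : Q := act 4 n11275
theorem D14319 : act 4 n11275 = n14319 := rfl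
theorem F24553 : act 1 n14319 = n14240 := d7_1 D14319 (iv D14240) (iv F18894)
theorem F24554 : act 3 n14319 = n11412 := d12_1 D14319 (iv D11412) (iv D8866) (iv F14511) D11275
def n14320 : Q := act 5 n11276
theorem D14320 : act 5 n11276 = n14320 := rfl
theorem F24555 : act 0 n14320 = n11280 := d4_1 D14320 (iv D11280) (iv F18896)
theorem F24556 : act 1 n14320 = n11718 := d8_1 D14320 (iv D11718) (iv F18897)
theorem F24557 : act 2 n14320 = n11277 := d11_1 D14320 (iv D11277) D11276
theorem F24558 : act 3 n14320 = n11287 := d13_1 D14320 F18927 (iv F18899)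
theorem F24559 : act 4 n14320 = n12888 := d14_1 D14320 (iv D12888) (iv D10096) F15159 (iv F18898)
def n14321 : Q := act 3 n11278
theorem D14321 : act 3 n11278 = n14321 := rfl
theorem F24560 : act 0 n14321 = n11724 := d2_1 D14321 (iv D11724) (iv F18904)
theorem F24561 : act 1 n14321 = n11279 := d6_1 D14321 (iv D11279) D11278
theorem F24562 : act 4 n14321 = n11722 := d12_2 (iv F18906) D14321 (iv D11722) (iv D9116) D9115
def n14322 : Q := act 5 n11278
theorem D14322 : act 5 n11278 = n14322 := rfl
theorem F24563 : act 0 n14322 = n11725 := d4_1 D14322 (iv D11725) (iv F18904)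
theorem F24564 : act 1 n14322 = n11280 := d8_1 D14322 (iv D11280) D11278
theorem F24565 : act 2 n14322 = n11284 := d11_1 D14322 (iv D11284) (iv F18905)
theorem F24566 : act 4 n14322 = n11764 := d14_1 D14322 (iv D11764) (iv D9151) (iv F15187) (iv F18906)
def n14323 : Q := act 4 n11279
theorem D14323 : act 4 n11279 = n14323 := rfl
theorem F24567 : act 0 n14323 = n11714 := d3_1 D14323 F19714 (iv F18907)
theorem F24568 : act 1 n14323 = n11722 := d7_1 D14323 (iv F24562) F24561
theorem F24569 : act 2 n14323 = n13865 := d10_1 D14323 (iv D13865) (iv F18908)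
theorem F24570 : act 3 n14323 = n11713 := d12_1 D14323 (iv D11713) F15155 (iv F14520) D11279
def n14324 : Q := act 5 n11279
theorem D14324 : act 5 n11279 = n14324 := rfl
theorem F24571 : act 0 n14324 = n11287 := d4_1 D14324 F18927 (iv F18907)
theorem F24572 : act 2 n14324 = n11286 := d11_1 D14324 F18926 (iv F18908)
theorem F24573 : act 3 n14324 = n11280 := d13_1 D14324 (iv D11280) D11279
def n14325 : Q := act 4 n11280
theorem D14325 : act 4 n11280 = n14325 := rfl
theorem F24574 : act 0 n14325 = n12888 := d3_1 D14325 (iv F24559) F24555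
theorem F24575 : act 1 n14325 = n11764 := d7_1 D14325 (iv F24566) F24564
theorem F24576 : act 2 n14325 = n11281 := d10_1 D14325 (iv D11281) (iv F18909)
theorem F24577 : act 5 n14325 = n11760 := d14_2 D11280 D14325 (iv D11760) F15254 (iv F14520)
theorem F24578 : act 3 n12348 = n14325 := d15_7 F16815 D10097 (iv F21782) (iv D12340) F16096 D9632 D12348 F24577 F19800
def n14326 : Q := act 3 n11282
theorem D14326 : act 3 n11282 = n14326 := rfl
theorem F24579 : act 0 n14326 = n11283 := d2_1 D14326 (iv D11283) D11282
theorem F24580 : act 1 n14326 = n11298 := d6_1 D14326 F18948 (iv F18914)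
theorem F24581 : act 4 n14326 = n11753 := d12_2 (iv F18916) D14326 (iv D11753) (iv D9142) (iv F15191)
theorem F24582 : act 5 n11293 = n14326 := d8_0 F24580 (iv D11298) (iv F18935)
def n14327 : Q := act 5 n11282
theorem D14327 : act 5 n11282 = n14327 := rfl
theorem F24583 : act 0 n14327 = n11284 := d4_1 D14327 (iv D11284) D11282
theorem F24584 : act 1 n14327 = n11297 := d8_1 D14327 (iv F18946) (iv F18914)
theorem F24585 : act 2 n14327 = n11725 := d11_1 D14327 (iv D11725) (iv F18915)
theorem F24586 : act 3 n14327 = n11293 := d13_1 D14327 F24582 (iv D14326)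
theorem F24587 : act 4 n14327 = n11771 := d14_1 D14327 (iv D11771) (iv D9156) (iv F15192) (iv F18916)
def n14328 : Q := act 2 n11283
theorem D14328 : act 2 n11283 = n14328 := rfl
theorem F24588 : act 1 n14328 = n11291 := d5_1 D14328 F18931 F14541 (iv F14525) (iv F18917)
theorem F24589 : act 4 n14328 = n11756 := d10_2 (iv F18918) D14328 (iv D11756)
theorem F24590 : act 5 n14328 = n11289 := d11_2 F18919 D14328 F18929
def n14329 : Q := act 3 n11285
theorem D14329 : act 3 n11285 = n14329 := rfl
theorem F24591 : act 0 n14329 = n13852 := d2_1 D14329 F23744 (iv F18923)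
theorem F24592 : act 1 n14329 = n11286 := d6_1 D14329 (iv D11286) D11285
theorem F24593 : act 5 n14329 = n13859 := d13_2 (iv F18924) D14329 (iv D13859)
def n14330 : Q := act 4 n11286
theorem D14330 : act 4 n11286 = n14330 := rfl
theorem F24594 : act 0 n14330 = n11288 := d3_1 D14330 (iv D11288) (iv F18925)
def n14331 : Q := act 1 n11287
theorem D14331 : act 1 n11287 = n14331 := rfl
theorem F24595 : act 2 n14331 = n13843 := d5_2 D11287 D14331 F23720 F18262 (iv F14538)
theorem F24596 : act 3 n14331 = n11718 := d6_2 F24558 D14331 (iv F24556)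
theorem F24597 : act 5 n14331 = n11717 := d8_2 (iv F18927) D14331 F19727
theorem F24598 : act 0 n11732 = n14331 := d4_3 F24597 F19726 D11732
def n14332 : Q := act 4 n11287
theorem D14332 : act 4 n11287 = n14332 := rfl
theorem F24599 : act 2 n14332 = n11288 := d10_1 D14332 (iv D11288) D11287
def n14333 : Q := act 5 n11288
theorem D14333 : act 5 n11288 = n14333 := rfl
theorem F24600 : act 1 n14333 = n13867 := d8_1 D14333 F23774 (iv F18928)
theorem F24601 : act 4 n14333 = n13866 := d14_1 D14333 (iv D13866) (iv D10903) (iv F14539) D11288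
def n14334 : Q := act 0 n11289
theorem D14334 : act 0 n11289 = n14334 := rfl
theorem F24602 : act 2 n14334 = n11293 := d1_2 (iv F18929) D14334 (iv D11293)
theorem F24603 : act 4 n14334 = n11578 := d3_2 (iv F18930) D14334 (iv D11578)
def n14335 : Q := act 3 n11289
theorem D14335 : act 3 n11289 = n14335 := rfl
theorem F24604 : act 1 n14335 = n11290 := d6_1 D14335 (iv D11290) D11289
def n14336 : Q := act 4 n11290
theorem D14336 : act 4 n11290 = n14336 := rfl
theorem F24605 : act 3 n14336 = n11582 := d12_1 D14336 (iv D11582) (iv D8990) (iv F14540) D11290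
def n14337 : Q := act 4 n11291
theorem D14337 : act 4 n11291 = n14337 := rfl
theorem F24606 : act 1 n14337 = n11756 := d7_1 D14337 (iv F24589) F24588
theorem F24607 : act 2 n14337 = n11292 := d10_1 D14337 (iv D11292) (iv F18931)
theorem F24608 : act 5 n14337 = n11584 := d14_2 D11291 D14337 (iv D11584) (iv D8991) (iv F14540)
def n14338 : Q := act 3 n11294
theorem D14338 : act 3 n11294 = n14338 := rfl
theorem F24609 : act 0 n14338 = n11295 := d2_1 D14338 (iv D11295) D11294
theorem F24610 : act 1 n14338 = n11585 := d6_1 D14338 (iv D11585) (iv F18937)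
theorem F24611 : act 5 n11596 = n14338 := d8_0 F24610 (iv F19457) (iv F19479)
theorem F24612 : act 4 n14338 = n12731 := d14_1 F24611 (iv D12731) (iv D9968) (iv F16632) (iv F19480)
def n14339 : Q := act 5 n11294
theorem D14339 : act 5 n11294 = n14339 := rfl
theorem F24613 : act 0 n14339 = n11296 := d4_1 D14339 (iv D11296) D11294
theorem F24614 : act 1 n14339 = n11586 := d8_1 D14339 (iv D11586) (iv F18937)
theorem F24615 : act 3 n14339 = n11596 := d13_1 D14339 F24611 (iv D14338)
theorem F24616 : act 4 n12732 = n14339 := d12_0 F24615 F19480 F16631 D9969 D12732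
def n14340 : Q := act 2 n11295
theorem D14340 : act 2 n11295 = n14340 := rfl
theorem F24617 : act 1 n14340 = n11594 := d5_1 D14340 F19475 F14942 (iv F14550) (iv F18939)
theorem F24618 : act 4 n14340 = n12736 := d10_2 F18940 D14340 F21507
theorem F24619 : act 5 n14340 = n11592 := d11_2 F18941 D14340 F19473
def n14341 : Q := act 2 n11297
theorem D14341 : act 2 n11297 = n14341 := rfl
theorem F24620 : act 0 n14341 = n11299 := d1_1 D14341 (iv D11299) (iv F18945)
theorem F24621 : act 1 n14341 = n11730 := d5_1 D14341 F19756 (iv F19746) (iv F24585) F24584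
theorem F24622 : act 5 n14341 = n11728 := d11_2 F18946 D14341 F19752
theorem F24623 : act 4 n12897 = n14341 := d14_5 F24622 (iv D11728) F15202 D10103 D12897
def n14342 : Q := act 4 n11297
theorem D14342 : act 4 n11297 = n14342 := rfl
theorem F24624 : act 0 n14342 = n11300 := d3_1 D14342 (iv D11300) (iv F18945)
theorem F24625 : act 1 n14342 = n11771 := d7_1 D14342 (iv F24587) F24584
theorem F24626 : act 2 n14342 = n12897 := d10_1 D14342 F24623 (iv D14341)
theorem F24627 : act 3 n14342 = n12731 := d12_1 D14342 (iv F24612) (iv D14338) F18938 D11297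
theorem F24628 : act 5 n14342 = n11769 := d14_2 F18946 D14342 (iv D11769) F15265 (iv F15622)
def n14343 : Q := act 4 n11298
theorem D14343 : act 4 n11298 = n14343 := rfl
theorem F24629 : act 0 n14343 = n11301 := d3_1 D14343 (iv D11301) (iv F18947)
theorem F24630 : act 1 n14343 = n11753 := d7_1 D14343 (iv F24581) F24580
theorem F24631 : act 3 n14343 = n11752 := d12_1 D14343 (iv D11752) F15235 (iv F15622) (iv F18948)
theorem F24632 : act 5 n14343 = n12732 := d14_2 D11298 D14343 F24616 (iv D14339) F18938
def n14344 : Q := act 3 n11299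
theorem D14344 : act 3 n11299 = n14344 := rfl
theorem F24633 : act 1 n14344 = n11992 := d6_1 D14344 F20218 (iv F18949)
theorem F24634 : act 5 n14344 = n11990 := d13_2 (iv F18950) D14344 (iv D11990)
def n14345 : Q := act 4 n11302
theorem D14345 : act 4 n11302 = n14345 := rfl
theorem F24635 : act 0 n14345 = n11304 := d3_1 D14345 (iv D11304) D11302
theorem F24636 : act 1 n14345 = n11308 := d7_1 D14345 (iv D11308) (iv F18959)
theorem F24637 : act 2 n14345 = n13671 := d10_1 D14345 (iv D13671) (iv F18960)
def n14346 : Q := act 4 n11303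
theorem D14346 : act 4 n11303 = n14346 := rfl
theorem F24638 : act 0 n14346 = n11347 := d3_1 D14346 (iv D11347) (iv F18963)
theorem F24639 : act 1 n14346 = n11305 := d7_1 D14346 (iv D11305) (iv F18964)
theorem F24640 : act 2 n14346 = n11405 := d10_1 D14346 (iv D11405) F18966
theorem F24641 : act 3 n14346 = n14187 := d12_1 D14346 F24304 (iv F23335) (iv D11304) D11303
def n14347 : Q := act 5 n11304
theorem D14347 : act 5 n11304 = n14347 := rfl
theorem F24642 : act 1 n14347 = n11307 := d8_1 D14347 (iv D11307) (iv F18967)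
theorem F24643 : act 2 n14347 = n13673 := d11_1 D14347 (iv D13673) (iv F18968)
def n14348 : Q := act 3 n11305
theorem D14348 : act 3 n11305 = n14348 := rfl
theorem F24644 : act 0 n14348 = n11315 := d2_1 D14348 (iv D11315) (iv F18969)
theorem F24645 : act 1 n14348 = n14187 := d6_1 D14348 (iv F24641) F24639
theorem F24646 : act 4 n14348 = n11306 := d12_2 D11305 D14348 (iv D11306) (iv D8781) D8780
theorem F24647 : act 2 n14189 = n14348 := d10_3 F24646 F23337 (iv F24308)
def n14349 : Q := act 5 n11305
theorem D14349 : act 5 n11305 = n14349 := rfl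
theorem F24648 : act 0 n14349 = n11316 := d4_1 D14349 (iv D11316) (iv F18969)
theorem F24649 : act 2 n14349 = n11350 := d11_1 D14349 F19050 (iv F18970)
theorem F24650 : act 4 n14349 = n11349 := d14_1 D14349 (iv D11349) (iv D8818) F14576 D11305
def n14350 : Q := act 5 n11306
theorem D14350 : act 5 n11306 = n14350 := rfl
theorem F24651 : act 0 n14350 = n11318 := d4_1 D14350 (iv D11318) (iv F18971)
theorem F24652 : act 2 n14350 = n11324 := d11_1 D14350 F23341 (iv F23337)
theorem F24653 : act 3 n14350 = n11307 := d13_1 D14350 (iv D11307) D11306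
def n14351 : Q := act 4 n11307
theorem D14351 : act 4 n11307 = n14351 := rfl
theorem F24654 : act 0 n14351 = n11312 := d3_1 D14351 F18985 (iv F18972)
theorem F24655 : act 2 n14351 = n11309 := d10_1 D14351 (iv D11309) (iv F18973)
theorem F24656 : act 5 n14351 = n11308 := d14_2 D11307 D14351 (iv D11308) (iv D8782) D8781
def n14352 : Q := act 3 n11308
theorem D14352 : act 3 n11308 = n14352 := rfl
theorem F24657 : act 0 n14352 = n11311 := d2_1 D14352 (iv D11311) (iv F18974)
theorem F24658 : act 4 n14352 = n11348 := d12_2 D11308 D14352 (iv D11348) (iv D8818) (iv F14581)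
def n14353 : Q := act 3 n11310
theorem D14353 : act 3 n11310 = n14353 := rfl
theorem F24659 : act 0 n14353 = n11348 := d2_1 D14353 (iv D11348) (iv F18979)
theorem F24660 : act 1 n14353 = n11315 := d6_1 D14353 (iv D11315) (iv F18980)
theorem F24661 : act 4 n14353 = n11311 := d12_2 D11310 D14353 (iv D11311) (iv D8786) D8785
def n14354 : Q := act 5 n11310
theorem D14354 : act 5 n11310 = n14354 := rfl
theorem F24662 : act 0 n14354 = n11349 := d4_1 D14354 (iv D11349) (iv F18979)
theorem F24663 : act 1 n14354 = n11316 := d8_1 D14354 (iv D11316) (iv F18980)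
theorem F24664 : act 2 n14354 = n11341 := d11_1 D14354 (iv D11341) (iv F18981)
theorem F24665 : act 4 n14354 = n11316 := d14_1 D14354 (iv D11316) (iv D8788) (iv F14590) D11310
def n14355 : Q := act 2 n11311
theorem D14355 : act 2 n11311 = n14355 := rfl
def n14356 : Q := act 5 n11311
theorem D14356 : act 5 n11311 = n14356 := rfl
theorem F24666 : act 1 n14356 = n11318 := d8_1 D14356 (iv D11318) (iv F18982)
theorem F24667 : act 3 n14356 = n11312 := d13_1 D14356 (iv D11312) D11311
def n14357 : Q := act 4 n11313
theorem D14357 : act 4 n11313 = n14357 := rfl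
theorem F24668 : act 0 n14357 = n11398 := d3_1 D14357 (iv D11398) (iv F18986)
theorem F24669 : act 1 n14357 = n11314 := d7_1 D14357 (iv D11314) D11313
theorem F24670 : act 2 n14357 = n11339 := d10_1 D14357 (iv D11339) (iv F18987)
def n14358 : Q := act 3 n11314
theorem D14358 : act 3 n11314 = n14358 := rfl
theorem F24671 : act 0 n14358 = n11351 := d2_1 D14358 (iv D11351) (iv F18990)
theorem F24672 : act 4 n14358 = n11342 := d12_2 D11314 D14358 (iv D11342) (iv D8813) (iv F14594)
def n14359 : Q := act 5 n11314
theorem D14359 : act 5 n11314 = n14359 := rfl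
theorem F24673 : act 0 n14359 = n11350 := d4_1 D14359 F19050 (iv F18990)
theorem F24674 : act 2 n14359 = n11316 := d11_1 D14359 (iv D11316) (iv F18991)
theorem F24675 : act 4 n14359 = n11341 := d14_1 D14359 (iv D11341) (iv D8812) (iv F14595) D11314
def n14360 : Q := act 2 n11315
theorem D14360 : act 2 n11315 = n14360 := rfl
theorem F24676 : act 0 n14360 = n14189 := d1_1 D14360 F24647 F24644
theorem F24677 : act 4 n14360 = n11317 := d10_2 (iv F18992) D14360 (iv D11317)
theorem F24678 : act 1 n14198 = n14360 := d0_0 F24676 (iv D14189) F18729 D11180 D14198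
def n14361 : Q := act 5 n11315
theorem D14361 : act 5 n11315 = n14361 := rfl
theorem F24679 : act 3 n14361 = n11316 := d13_1 D14361 (iv D11316) D11315
def n14362 : Q := act 1 n11317
theorem D14362 : act 1 n11317 = n14362 := rfl
theorem F24680 : act 0 n14362 = n14194 := d0_1 D14362 (iv D14194) F18736 D11323 F23338
theorem F24681 : act 4 n14362 = n14198 := d7_2 F24677 D14362 F24678
def n14363 : Q := act 4 n11318
theorem D14363 : act 4 n11318 = n14363 := rfl
def n14364 : Q := act 2 n11319
theorem D14364 : act 2 n11319 = n14364 := rfl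
theorem F24682 : act 0 n14364 = n11321 := d1_1 D14364 (iv D11321) (iv F18994)
theorem F24683 : act 4 n14364 = n11693 := d10_2 (iv F18996) D14364 (iv D11693)
theorem F24684 : act 3 n14364 = n14345 := d15_1 D14364 F24637 F23333 F19011 F14616 (iv F14607) (iv F19002) (iv D11322) (iv F18994)
theorem F24685 : act 1 n14352 = n14364 := d6_3 F24684 F24636 D14352
def n14365 : Q := act 5 n11319
theorem D14365 : act 5 n11319 = n14365 := rfl
theorem F24686 : act 0 n14365 = n11322 := d4_1 D14365 (iv D11322) (iv F18994)
theorem F24687 : act 1 n14365 = n12060 := d8_1 D14365 (iv D12060) (iv F18995)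
theorem F24688 : act 3 n14365 = n11320 := d13_1 D14365 (iv D11320) D11319
def n14366 : Q := act 5 n11321
theorem D14366 : act 5 n11321 = n14366 := rfl
theorem F24689 : act 1 n14366 = n14350 := d8_1 D14366 (iv D14350) (iv F23336)
theorem F24690 : act 2 n14366 = n11322 := d11_1 D14366 (iv D11322) D11321
theorem F24691 : act 3 n14366 = n14347 := d13_1 D14366 (iv D14347) F23335
def n14367 : Q := act 4 n11322
theorem D14367 : act 4 n11322 = n14367 := rfl
theorem F24692 : act 1 n14367 = n11326 := d7_1 D14367 (iv D11326) (iv F19001)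
theorem F24693 : act 3 n14367 = n11679 := d12_1 D14367 (iv D11679) F15087 (iv F14608) (iv F19002)
def n14368 : Q := act 4 n11324
theorem D14368 : act 4 n11324 = n14368 := rfl
def n14369 : Q := act 4 n11325
theorem D14369 : act 4 n11325 = n14369 := rfl
theorem F24694 : act 1 n14369 = n14368 := d7_1 D14369 (iv D14368) (iv F23340)
theorem F24695 : act 2 n14369 = n11326 := d10_1 D14369 (iv D11326) (iv F19003)
def n14370 : Q := act 2 n11330
theorem D14370 : act 2 n11330 = n14370 := rfl
theorem F24696 : act 0 n14370 = n14347 := d1_1 D14370 F24643 F23347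
theorem F24697 : act 1 n14370 = n14351 := d5_1 D14370 F24655 F18977 (iv F23365) F23364
theorem F24698 : act 4 n14370 = n14347 := d10_2 F23350 D14370 F24643
theorem F24699 : act 5 n14370 = n14345 := d11_2 (iv F23334) D14370 F24637
def n14371 : Q := act 3 n11332
theorem D14371 : act 3 n11332 = n14371 := rfl
theorem F24700 : act 0 n14371 = n11333 := d2_1 D14371 (iv D11333) D11332
theorem F24701 : act 4 n14371 = n12884 := d12_2 (iv F19013) D14371 (iv D12884) (iv F19508) F19507
theorem F24702 : act 5 n14371 = n13697 := d13_2 (iv F23392) D14371 F23430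
def n14372 : Q := act 0 n11335
theorem D14372 : act 0 n11335 = n14372 := rfl
theorem F24703 : act 1 n14372 = n12884 := d0_2 D11335 D14372 F21763 F16812 (iv F14625)
theorem F24704 : act 3 n14372 = n11646 := d2_2 (iv F19020) D14372 (iv D11646)
theorem F24705 : act 5 n14372 = n11336 := d4_2 (iv F19021) D14372 (iv D11336)
def n14373 : Q := act 3 n11336
theorem D14373 : act 3 n11336 = n14373 := rfl
theorem F24706 : act 0 n14373 = n11337 := d2_1 D14373 (iv D11337) D11336
theorem F24707 : act 1 n14373 = n12885 := d6_1 D14373 (iv F22740) F22739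
theorem F24708 : act 4 n14373 = n11666 := d12_2 (iv F19022) D14373 (iv F23023) F23024 F17789
theorem F24709 : act 5 n14373 = n11646 := d13_2 F24705 D14373 (iv F24704)
theorem F24710 : act 2 n12355 = n14373 := d11_3 F24709 F19586 (iv F20880)
def n14374 : Q := act 4 n11338
theorem D14374 : act 4 n11338 = n14374 := rfl
theorem F24711 : act 0 n14374 = n11339 := d3_1 D14374 (iv D11339) (iv F19027)
theorem F24712 : act 1 n14374 = n11343 := d7_1 D14374 (iv D11343) (iv F19028)
theorem F24713 : act 2 n14374 = n11398 := d10_1 D14374 (iv D11398) (iv F19029)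
def n14375 : Q := act 5 n11339
theorem D14375 : act 5 n11339 = n14375 := rfl
theorem F24714 : act 1 n14375 = n11341 := d8_1 D14375 (iv D11341) (iv F19031)
theorem F24715 : act 3 n14375 = n13598 := d13_1 D14375 F24506 F24505
def n14376 : Q := act 3 n11340
theorem D14376 : act 3 n11340 = n14376 := rfl
theorem F24716 : act 0 n14376 = n11399 := d2_1 D14376 (iv D11399) (iv F19032)
theorem F24717 : act 1 n14376 = n11342 := d6_1 D14376 (iv D11342) (iv F19033)
def n14377 : Q := act 5 n11343
theorem D14377 : act 5 n11343 = n14377 := rfl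
theorem F24718 : act 0 n14377 = n11346 := d4_1 D14377 (iv D11346) (iv F19037)
theorem F24719 : act 2 n14377 = n11390 := d11_1 D14377 (iv D11390) (iv F19038)
theorem F24720 : act 4 n14377 = n11402 := d14_1 D14377 (iv D11402) (iv D8856) (iv F14644) D11343
def n14378 : Q := act 4 n11344
theorem D14378 : act 4 n11344 = n14378 := rfl
theorem F24721 : act 0 n14378 = n11405 := d3_1 D14378 (iv D11405) (iv F19039)
theorem F24722 : act 1 n14378 = n11345 := d7_1 D14378 (iv D11345) D11344
theorem F24723 : act 2 n14378 = n11347 := d10_1 D14378 (iv D11347) (iv F19040)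
def n14379 : Q := act 3 n11345
theorem D14379 : act 3 n11345 = n14379 := rfl
theorem F24724 : act 0 n14379 = n11389 := d2_1 D14379 (iv D11389) (iv F19043)
theorem F24725 : act 4 n14379 = n11382 := d12_2 D11345 D14379 (iv D11382) (iv D8840) (iv F14648)
def n14380 : Q := act 5 n11345
theorem D14380 : act 5 n11345 = n14380 := rfl
theorem F24726 : act 0 n14380 = n11390 := d4_1 D14380 (iv D11390) (iv F19043)
theorem F24727 : act 2 n14380 = n11346 := d11_1 D14380 (iv D11346) (iv F19044)
theorem F24728 : act 4 n14380 = n11407 := d14_1 D14380 (iv D11407) (iv D8861) (iv F14647) D11345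
def n14381 : Q := act 5 n11347
theorem D14381 : act 5 n11347 = n14381 := rfl
theorem F24729 : act 1 n14381 = n11349 := d8_1 D14381 (iv D11349) (iv F19047)
def n14382 : Q := act 5 n11348
theorem D14382 : act 5 n11348 = n14382 := rfl
theorem F24730 : act 2 n14382 = n13639 := d11_1 D14382 (iv F23268) (iv F23272)
theorem F24731 : act 3 n14382 = n11349 := d13_1 D14382 (iv D11349) D11348
def n14383 : Q := act 3 n11350
theorem D14383 : act 3 n11350 = n14383 := rfl
theorem F24732 : act 1 n14383 = n11409 := d6_1 D14383 F19136 (iv F19049)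
theorem F24733 : act 5 n14383 = n11351 := d13_2 (iv F19050) D14383 (iv D11351)
def n14384 : Q := act 2 n11351
theorem D14384 : act 2 n11351 = n14384 := rfl
theorem F24734 : act 4 n14384 = n11352 := d10_2 (iv F19052) D14384 (iv D11352)
def n14385 : Q := act 1 n11352
theorem D14385 : act 1 n11352 = n14385 := rfl
theorem F24735 : act 2 n14385 = n11410 := d5_2 D11352 D14385 (iv D11410) (iv D8864) (iv F14652)
def n14386 : Q := act 0 n11353
theorem D14386 : act 0 n11353 = n14386 := rfl
theorem F24736 : act 1 n14386 = n14334 := d0_2 D11353 D14386 (iv D14334) (iv D11289) (iv F14653)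
theorem F24737 : act 2 n14386 = n11361 := d1_2 (iv F19053) D14386 (iv D11361)
def n14387 : Q := act 3 n11353
theorem D14387 : act 3 n11353 = n14387 := rfl
theorem F24738 : act 1 n14387 = n11354 := d6_1 D14387 (iv D11354) D11353
def n14388 : Q := act 2 n11354
theorem D14388 : act 2 n11354 = n14388 := rfl
theorem F24739 : act 0 n14388 = n11511 := d1_1 D14388 F19312 (iv F19054)
theorem F24740 : act 3 n14388 = n11505 := d9_2 D11354 D14388 F19301 F14824 F11318 (iv F14542) (iv F18931) (iv F19309) (iv D11509) (iv D8940) (iv D6854) (iv D5200) (iv F8419) D6761 D8822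
theorem F24741 : act 5 n11504 = n14388 := d13_0 F24740 (iv D11505) D11504
def n14389 : Q := act 4 n11354
theorem D14389 : act 4 n11354 = n14389 := rfl
theorem F24742 : act 0 n14389 = n14336 := d3_1 D14389 (iv D14336) (iv F19054)
def n14390 : Q := act 5 n11354
theorem D14390 : act 5 n11354 = n14390 := rfl
theorem F24743 : act 0 n14390 = n11509 := d4_1 D14390 (iv F19310) (iv F19054)
theorem F24744 : act 2 n14390 = n11504 := d11_1 D14390 F24741 (iv D14388)
theorem F24745 : act 3 n14390 = n11355 := d13_1 D14390 (iv D11355) D11354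
def n14391 : Q := act 4 n11355
theorem D14391 : act 4 n11355 = n14391 := rfl
theorem F24746 : act 0 n14391 = n14337 := d3_1 D14391 (iv D14337) (iv F19055)
theorem F24747 : act 2 n14391 = n11356 := d10_1 D14391 (iv D11356) (iv F19056)
def n14392 : Q := act 0 n11357
theorem D14392 : act 0 n11357 = n14392 := rfl
theorem F24748 : act 1 n14392 = n11366 := d0_2 D11357 D14392 (iv D11366) (iv D8830) (iv F14657)
theorem F24749 : act 4 n14392 = n11361 := d3_2 (iv F19059) D14392 (iv D11361)
def n14393 : Q := act 3 n11357
theorem D14393 : act 3 n11357 = n14393 := rfl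
theorem F24750 : act 1 n14393 = n11358 := d6_1 D14393 (iv D11358) D11357
def n14394 : Q := act 5 n11357
theorem D14394 : act 5 n11357 = n14394 := rfl
theorem F24751 : act 1 n14394 = n11359 := d8_1 D14394 (iv D11359) D11357
def n14395 : Q := act 2 n11358
theorem D14395 : act 2 n11358 = n14395 := rfl
theorem F24752 : act 0 n14395 = n11369 := d1_1 D14395 (iv D11369) (iv F19060)
theorem F24753 : act 3 n14395 = n11364 := d9_2 D11358 D14395 F19066 F14662 F11193 (iv F11196) (iv F14665) (iv F19073) (iv F22395) (iv D13190) (iv D10344) (iv D8006) F10064 D6763 D8824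
theorem F24754 : act 5 n11363 = n14395 := d13_0 F24753 (iv D11364) D11363
def n14396 : Q := act 5 n11358
theorem D14396 : act 5 n11358 = n14396 := rfl
theorem F24755 : act 0 n14396 = n11371 := d4_1 D14396 (iv D11371) (iv F19060)
theorem F24756 : act 2 n14396 = n11363 := d11_1 D14396 F24754 (iv D14395)
theorem F24757 : act 3 n14396 = n11359 := d13_1 D14396 (iv D11359) D11358
def n14397 : Q := act 0 n11362
theorem D14397 : act 0 n11362 = n14397 := rfl
def n14398 : Q := act 3 n11362
theorem D14398 : act 3 n11362 = n14398 := rfl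
theorem F24758 : act 1 n14398 = n11363 := d6_1 D14398 (iv D11363) D11362
def n14399 : Q := act 5 n11362
theorem D14399 : act 5 n11362 = n14399 := rfl
theorem F24759 : act 1 n14399 = n11364 := d8_1 D14399 (iv D11364) D11362
def n14400 : Q := act 4 n11363
theorem D14400 : act 4 n11363 = n14400 := rfl
def n14401 : Q := act 4 n11364
theorem D14401 : act 4 n11364 = n14401 := rfl
theorem F24760 : act 2 n14401 = n11365 := d10_1 D14401 (iv D11365) (iv F19066)
def n14402 : Q := act 3 n11366
theorem D14402 : act 3 n11366 = n14402 := rfl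
theorem F24761 : act 0 n14402 = n11367 := d2_1 D14402 (iv D11367) D11366
def n14403 : Q := act 5 n11366
theorem D14403 : act 5 n11366 = n14403 := rfl
theorem F24762 : act 0 n14403 = n11368 := d4_1 D14403 (iv D11368) D11366
theorem F24763 : act 2 n14403 = n14339 := d11_1 D14403 (iv D14339) (iv F19067)
def n14404 : Q := act 2 n11367
theorem D14404 : act 2 n11367 = n14404 := rfl
def n14405 : Q := act 4 n11367
theorem D14405 : act 4 n11367 = n14405 := rfl
theorem F24764 : act 1 n14405 = n11370 := d7_1 D14405 (iv D11370) (iv F19069)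
theorem F24765 : act 3 n14405 = n11376 := d12_1 D14405 (iv D11376) (iv D8835) (iv F14664) D11367
def n14406 : Q := act 5 n11367
theorem D14406 : act 5 n11367 = n14406 := rfl
theorem F24766 : act 1 n14406 = n11371 := d8_1 D14406 (iv D11371) (iv F19069)
theorem F24767 : act 3 n14406 = n11368 := d13_1 D14406 (iv D11368) D11367
def n14407 : Q := act 1 n11369
theorem D14407 : act 1 n11369 = n14407 := rfl
def n14408 : Q := act 4 n11369
theorem D14408 : act 4 n11369 = n14408 := rfl
theorem F24768 : act 2 n14408 = n11370 := d10_1 D14408 (iv D11370) D11369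
def n14409 : Q := act 5 n11370
theorem D14409 : act 5 n11370 = n14409 := rfl
theorem F24769 : act 3 n14409 = n11378 := d13_1 D14409 (iv D11378) (iv F19072)
def n14410 : Q := act 4 n11371
theorem D14410 : act 4 n11371 = n14410 := rfl
def n14411 : Q := act 3 n11372
theorem D14411 : act 3 n11372 = n14411 := rfl
theorem F24770 : act 5 n14411 = n11379 := d13_2 (iv F19075) D14411 (iv D11379)
def n14412 : Q := act 2 n11373
theorem D14412 : act 2 n11373 = n14412 := rfl
theorem F24771 : act 0 n14412 = n11375 := d1_1 D14412 (iv D11375) (iv F19076)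
theorem F24772 : act 5 n14412 = n12589 := d11_2 F23688 D14412 (iv F23686)
def n14413 : Q := act 4 n11373
theorem D14413 : act 4 n11373 = n14413 := rfl
theorem F24773 : act 0 n14413 = n11376 := d3_1 D14413 (iv D11376) (iv F19076)
def n14414 : Q := act 4 n11374
theorem D14414 : act 4 n11374 = n14414 := rfl
theorem F24774 : act 0 n14414 = n11377 := d3_1 D14414 (iv D11377) (iv F19077)
theorem F24775 : act 2 n14414 = n14343 := d10_1 D14414 (iv D14343) (iv F19078)
def n14415 : Q := act 3 n11375
theorem D14415 : act 3 n11375 = n14415 := rfl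
theorem F24776 : act 1 n14415 = n12580 := d6_1 D14415 F21284 (iv F19079)
theorem F24777 : act 5 n14415 = n12590 := d13_2 (iv F19080) D14415 (iv D12590)
def n14416 : Q := act 4 n11375
theorem D14416 : act 4 n11375 = n14416 := rfl
theorem F24778 : act 1 n14416 = n12225 := d7_1 D14416 F20656 (iv F19079)
theorem F24779 : act 2 n14416 = n11376 := d10_1 D14416 (iv D11376) D11375
theorem F24780 : act 5 n14416 = n12223 := d14_2 (iv F19080) D14416 (iv D12223) (iv F18327) F18326
def n14417 : Q := act 5 n11376
theorem D14417 : act 5 n11376 = n14417 := rfl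
theorem F24781 : act 1 n14417 = n11378 := d8_1 D14417 (iv D11378) (iv F19081)
theorem F24782 : act 2 n14417 = n12223 := d11_1 D14417 (iv F24780) F24779
theorem F24783 : act 4 n14417 = n12222 := d14_1 D14417 F23673 F23672 F18240 D11376
def n14418 : Q := act 3 n11377
theorem D14418 : act 3 n11377 = n14418 := rfl
theorem F24784 : act 1 n14418 = n11379 := d6_1 D14418 (iv D11379) (iv F19082)
def n14419 : Q := act 2 n11379
theorem D14419 : act 2 n11379 = n14419 := rfl
def n14420 : Q := act 5 n11386
theorem D14420 : act 5 n11386 = n14420 := rfl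
theorem F24785 : act 0 n14420 = n11407 := d4_1 D14420 (iv D11407) (iv F19099)
theorem F24786 : act 1 n14420 = n11390 := d8_1 D14420 (iv D11390) (iv F19100)
theorem F24787 : act 2 n14420 = n11402 := d11_1 D14420 (iv D11402) (iv F19101)
theorem F24788 : act 4 n14420 = n11390 := d14_1 D14420 (iv D11390) (iv D8846) (iv F14688) D11386
def n14421 : Q := act 2 n11389
theorem D14421 : act 2 n11389 = n14421 := rfl
theorem F24789 : act 4 n14421 = n11391 := d10_2 (iv F19106) D14421 (iv D11391)
def n14422 : Q := act 5 n11389
theorem D14422 : act 5 n11389 = n14422 := rfl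
theorem F24790 : act 3 n14422 = n11390 := d13_1 D14422 (iv D11390) D11389
def n14423 : Q := act 1 n11391
theorem D14423 : act 1 n11391 = n14423 := rfl
def n14424 : Q := act 1 n11393
theorem D14424 : act 1 n11393 = n14424 := rfl
theorem F24791 : act 2 n14424 = n11396 := d5_2 D11393 D14424 (iv D11396) (iv D8852) (iv F14695)
theorem F24792 : act 4 n14424 = n11394 := d7_2 (iv F19109) D14424 (iv D11394)
theorem F24793 : act 5 n14424 = n13550 := d8_2 F19609 D14424 F23060
def n14425 : Q := act 0 n11394
theorem D14425 : act 0 n11394 = n14425 := rfl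
theorem F24794 : act 1 n14425 = n13937 := d0_2 D11394 D14425 F23910 F18425 (iv F14697)
theorem F24795 : act 2 n14425 = n11397 := d1_2 (iv F19110) D14425 (iv D11397)
theorem F24796 : act 5 n14425 = n13528 := d4_2 (iv F19111) D14425 (iv D13528)
def n14426 : Q := act 3 n11394
theorem D14426 : act 3 n11394 = n14426 := rfl
theorem F24797 : act 1 n14426 = n11395 := d6_1 D14426 (iv D11395) D11394
theorem F24798 : act 5 n14426 = n13529 := d13_2 (iv F19111) D14426 (iv D13529)
def n14427 : Q := act 0 n11396
theorem D14427 : act 0 n11396 = n14427 := rfl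
theorem F24799 : act 1 n14427 = n13541 := d0_2 D11396 D14427 (iv D13541) (iv D10630) (iv F14699)
theorem F24800 : act 3 n14427 = n13549 := d2_2 (iv F19115) D14427 F23056
theorem F24801 : act 4 n14427 = n11397 := d3_2 (iv F19116) D14427 (iv D11397)
theorem F24802 : act 5 n14427 = n13548 := d4_2 (iv F19117) D14427 F23053
def n14428 : Q := act 3 n11398
theorem D14428 : act 3 n11398 = n14428 := rfl
theorem F24803 : act 1 n14428 = n11401 := d6_1 D14428 (iv D11401) (iv F19121)
theorem F24804 : act 4 n14428 = n11399 := d12_2 D11398 D14428 (iv D11399) (iv D8855) D8854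
theorem F24805 : act 2 n14428 = n11399 := d15_2 F24713 D14428 (iv D11399) F14707 D10680 D13598 (iv F24715) (iv D14375) (iv F24711)
def n14429 : Q := act 5 n11398
theorem D14429 : act 5 n11398 = n14429 := rfl
theorem F24806 : act 1 n14429 = n11402 := d8_1 D14429 (iv D11402) (iv F19121)
def n14430 : Q := act 3 n11403
theorem D14430 : act 3 n11403 = n14430 := rfl
theorem F24807 : act 1 n14430 = n11404 := d6_1 D14430 (iv D11404) D11403
theorem F24808 : act 5 n14430 = n13588 := d13_2 (iv F19129) D14430 (iv D13588)
def n14431 : Q := act 4 n11404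
theorem D14431 : act 4 n11404 = n14431 := rfl
theorem F24809 : act 0 n14431 = n11412 := d3_1 D14431 (iv D11412) (iv F19130)
theorem F24810 : act 2 n14431 = n13530 := d10_1 D14431 (iv D13530) (iv F19131)
def n14432 : Q := act 1 n11408
theorem D14432 : act 1 n11408 = n14432 := rfl
theorem F24811 : act 0 n14432 = n11410 := d0_1 D14432 (iv D11410) (iv F16557) (iv F21404) F21793
theorem F24812 : act 4 n14432 = n11410 := d7_2 (iv F19135) D14432 (iv D11410)
def n14433 : Q := act 4 n11409
theorem D14433 : act 4 n11409 = n14433 := rfl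
theorem F24813 : act 5 n14433 = n11411 := d14_2 D11409 D14433 (iv D11411) (iv D8865) (iv F14715)
def n14434 : Q := act 5 n11412
theorem D14434 : act 5 n11412 = n14434 := rfl
theorem F24814 : act 2 n14434 = n13976 := d11_1 D14434 (iv D13976) (iv F19137)
theorem F24815 : act 4 n14434 = n13595 := d14_1 D14434 (iv D13595) (iv D10678) (iv F14717) D11412
def n14435 : Q := act 2 n11413
theorem D14435 : act 2 n11413 = n14435 := rfl
theorem F24816 : act 0 n14435 = n11417 := d1_1 D14435 (iv D11417) (iv F19138)
theorem F24817 : act 4 n14435 = n13732 := d10_2 (iv F19140) D14435 (iv D13732)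
def n14436 : Q := act 5 n11413
theorem D14436 : act 5 n11413 = n14436 := rfl
theorem F24818 : act 0 n14436 = n11418 := d4_1 D14436 (iv D11418) (iv F19138)
theorem F24819 : act 1 n14436 = n11431 := d8_1 D14436 (iv D11431) (iv F19139)
theorem F24820 : act 3 n14436 = n11414 := d13_1 D14436 (iv D11414) D11413
def n14437 : Q := act 2 n11415
theorem D14437 : act 2 n11415 = n14437 := rfl
theorem F24821 : act 0 n14437 = n13732 := d1_1 D14437 (iv D13732) (iv F19144)
theorem F24822 : act 4 n14437 = n11417 := d10_2 (iv F19146) D14437 (iv D11417)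
def n14438 : Q := act 5 n11415
theorem D14438 : act 5 n11415 = n14438 := rfl
theorem F24823 : act 0 n14438 = n13733 := d4_1 D14438 (iv D13733) (iv F19144)
theorem F24824 : act 1 n14438 = n11422 := d8_1 D14438 (iv D11422) (iv F19145)
theorem F24825 : act 3 n14438 = n11416 := d13_1 D14438 (iv D11416) D11415
def n14439 : Q := act 1 n11417
theorem D14439 : act 1 n11417 = n14439 := rfl
theorem F24826 : act 2 n14439 = n11423 := d5_2 D11417 D14439 (iv D11423) (iv D8874) (iv F14724)
theorem F24827 : act 5 n11487 = n14439 := d11_0 F24826 F19162 D11487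
def n14440 : Q := act 3 n11417
theorem D14440 : act 3 n11417 = n14440 := rfl
def n14441 : Q := act 5 n11417
theorem D14441 : act 5 n11417 = n14441 := rfl
theorem F24828 : act 1 n14441 = n11487 := d8_1 D14441 F24827 (iv D14439)
theorem F24829 : act 2 n14441 = n11418 := d11_1 D14441 (iv D11418) D11417
def n14442 : Q := act 4 n11418
theorem D14442 : act 4 n11418 = n14442 := rfl
theorem F24830 : act 1 n14442 = n11424 := d7_1 D14442 (iv D11424) (iv F19150)
def n14443 : Q := act 3 n11419
theorem D14443 : act 3 n11419 = n14443 := rfl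
theorem F24831 : act 0 n14443 = n13599 := d2_1 D14443 F23171 (iv F19152)
theorem F24832 : act 1 n14443 = n11425 := d6_1 D14443 (iv D11425) (iv F19153)
theorem F24833 : act 5 n14443 = n11420 := d13_2 (iv F19154) D14443 (iv D11420)
def n14444 : Q := act 2 n11420
theorem D14444 : act 2 n11420 = n14444 := rfl
theorem F24834 : act 0 n14444 = n13598 := d1_1 D14444 (iv D13598) (iv F19155)
def n14445 : Q := act 1 n11421
theorem D14445 : act 1 n11421 = n14445 := rfl
theorem F24835 : act 4 n14445 = n11423 := d7_2 (iv F19158) D14445 (iv D11423)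
def n14446 : Q := act 3 n11421
theorem D14446 : act 3 n11421 = n14446 := rfl
theorem F24836 : act 0 n14446 = n11441 := d2_1 D14446 (iv D11441) (iv F19157)
theorem F24837 : act 4 n14446 = n11489 := d12_2 (iv F19158) D14446 (iv D11489) (iv D8928) (iv F14733)
def n14447 : Q := act 5 n11421
theorem D14447 : act 5 n11421 = n14447 := rfl
theorem F24838 : act 0 n14447 = n11440 := d4_1 D14447 (iv F19202) (iv F19157)
theorem F24839 : act 2 n14447 = n11422 := d11_1 D14447 (iv D11422) D11421
theorem F24840 : act 4 n14447 = n11444 := d14_1 D14447 F19213 (iv D8927) F14734 (iv F19158)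
def n14448 : Q := act 4 n11422
theorem D14448 : act 4 n11422 = n14448 := rfl
theorem F24841 : act 0 n14448 = n11433 := d3_1 D14448 F19182 (iv F19159)
theorem F24842 : act 2 n14448 = n11444 := d10_1 D14448 (iv F24840) F24839
theorem F24843 : act 5 n14448 = n11424 := d14_2 D11422 D14448 (iv D11424) (iv D8875) (iv F14729)
def n14449 : Q := act 0 n11423
theorem D14449 : act 0 n11423 = n14449 := rfl
theorem F24844 : act 1 n14449 = n11444 := d0_2 D11423 D14449 (iv D11444) (iv D8893) (iv F14732)
theorem F24845 : act 3 n14449 = n11486 := d2_2 (iv F19161) D14449 F19280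
theorem F24846 : act 5 n14449 = n11485 := d4_2 (iv F19162) D14449 F19277
def n14450 : Q := act 3 n11424
theorem D14450 : act 3 n11424 = n14450 := rfl
theorem F24847 : act 0 n14450 = n11448 := d2_1 D14450 (iv D11448) (iv F19163)
theorem F24848 : act 4 n14450 = n11425 := d12_2 D11424 D14450 (iv D11425) (iv D8876) (iv F14737)
def n14451 : Q := act 2 n11425
theorem D14451 : act 2 n11425 = n14451 := rfl
theorem F24849 : act 0 n14451 = n11449 := d1_1 D14451 (iv D11449) (iv F19165)
theorem F24850 : act 3 n14451 = n11452 := d9_2 D11425 D14451 (iv D11452) (iv D8899) (iv D6821) (iv D5177) (iv F8489) D6820 D8898 D11451 (iv F24237) (iv D14155) F18670 F14326 (iv F14739)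
theorem F24851 : act 5 n14451 = n11426 := d11_2 (iv F19166) D14451 (iv D11426)
def n14452 : Q := act 1 n11426
theorem D14452 : act 1 n11426 = n14452 := rfl
def n14453 : Q := act 3 n11427
theorem D14453 : act 3 n11427 = n14453 := rfl
theorem F24852 : act 1 n14453 = n11428 := d6_1 D14453 (iv D11428) D11427
def n14454 : Q := act 2 n11428
theorem D14454 : act 2 n11428 = n14454 := rfl
theorem F24853 : act 0 n14454 = n11452 := d1_1 D14454 (iv D11452) (iv F19169)
theorem F24854 : act 3 n14454 = n11449 := d9_2 D11428 D14454 (iv D11449) (iv D8897) F11276 (iv F10954) (iv F14337) D11154 D14165 F24258 (iv D11426) (iv D8877) F11251 D6806 D8878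
theorem F24855 : act 5 n14454 = n11451 := d11_2 F24236 D14454 (iv F24237)
def n14455 : Q := act 1 n11430
theorem D14455 : act 1 n11430 = n14455 := rfl
theorem F24856 : act 4 n14455 = n13733 := d7_2 (iv F19173) D14455 F23500
def n14456 : Q := act 5 n11430
theorem D14456 : act 5 n11430 = n14456 := rfl
theorem F24857 : act 0 n14456 = n11435 := d4_1 D14456 (iv D11435) (iv F19172)
theorem F24858 : act 2 n14456 = n11431 := d11_1 D14456 (iv D11431) D11430
theorem F24859 : act 3 n14456 = n11460 := d13_1 D14456 (iv F24338) F24337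
theorem F24860 : act 4 n14456 = n11431 := d14_1 D14456 (iv D11431) F14746 F18096 (iv F19173)
def n14457 : Q := act 3 n11433
theorem D14457 : act 3 n11433 = n14457 := rfl
theorem F24861 : act 1 n14457 = n11434 := d6_1 D14457 (iv D11434) D11433
theorem F24862 : act 4 n14457 = n11442 := d12_2 (iv F19182) D14457 (iv D11442) (iv D8891) (iv F14767)
theorem F24863 : act 5 n14457 = n11448 := d13_2 F19183 D14457 (iv D11448)
def n14458 : Q := act 2 n11436
theorem D14458 : act 2 n11436 = n14458 := rfl
theorem F24864 : act 0 n14458 = n13721 := d1_1 D14458 (iv D13721) (iv F19190)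
theorem F24865 : act 4 n14458 = n13720 := d10_2 (iv F19192) D14458 (iv D13720)
def n14459 : Q := act 5 n11436
theorem D14459 : act 5 n11436 = n14459 := rfl
theorem F24866 : act 0 n14459 = n13722 := d4_1 D14459 (iv D13722) (iv F19190)
theorem F24867 : act 1 n14459 = n11439 := d8_1 D14459 (iv D11439) (iv F19191)
theorem F24868 : act 3 n14459 = n11437 := d13_1 D14459 (iv D11437) D11436
def n14460 : Q := act 1 n11438
theorem D14460 : act 1 n11438 = n14460 := rfl
theorem F24869 : act 4 n14460 = n11917 := d7_2 (iv F19197) D14460 F20071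
def n14461 : Q := act 3 n11438
theorem D14461 : act 3 n11438 = n14461 := rfl
theorem F24870 : act 0 n14461 = n13730 := d2_1 D14461 (iv D13730) (iv F19196)
theorem F24871 : act 4 n14461 = n12300 := d12_2 (iv F19197) D14461 (iv D12300) (iv D9595) D9594
def n14462 : Q := act 5 n11438
theorem D14462 : act 5 n11438 = n14462 := rfl
theorem F24872 : act 0 n14462 = n13731 := d4_1 D14462 (iv D13731) (iv F19196)
theorem F24873 : act 2 n14462 = n11439 := d11_1 D14462 (iv D11439) D11438
def n14463 : Q := act 4 n11439
theorem D14463 : act 4 n11439 = n14463 := rfl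
theorem F24874 : act 0 n14463 = n12309 := d3_1 D14463 F20813 (iv F19198)
theorem F24875 : act 5 n14463 = n12306 := d14_2 D11439 D14463 (iv D12306) F16059 (iv F14763)
def n14464 : Q := act 3 n11440
theorem D14464 : act 3 n11440 = n14464 := rfl
theorem F24876 : act 1 n14464 = n11441 := d6_1 D14464 (iv D11441) D11440
theorem F24877 : act 5 n14464 = n11441 := d13_2 F19202 D14464 (iv D11441)
theorem F24878 : act 2 n14464 = n13730 := d15_2 (iv F19200) D14464 (iv D13730) (iv D10791) (iv D8376) (iv F11246) D8872 D11422 F19159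
def n14465 : Q := act 2 n11441
theorem D14465 : act 2 n11441 = n14465 := rfl
theorem F24879 : act 5 n14465 = n13730 := d11_2 F24877 D14465 (iv F24878)
theorem F24880 : act 3 n14465 = n13731 := d15_3 D8889 D11441 D14465 F23499 F18092 (iv F14731) (iv F19160) (iv D11422) F14728
def n14466 : Q := act 4 n11441
theorem D14466 : act 4 n11441 = n14466 := rfl
theorem F24881 : act 0 n14466 = n11489 := d3_1 D14466 (iv F24837) F24836
theorem F24882 : act 3 n14466 = n11447 := d12_1 D14466 (iv D11447) (iv D8894) (iv F14766) D11441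
def n14467 : Q := act 2 n11442
theorem D14467 : act 2 n11442 = n14467 := rfl
theorem F24883 : act 5 n14467 = n11443 := d11_2 (iv F19204) D14467 (iv D11443)
def n14468 : Q := act 1 n11443
theorem D14468 : act 1 n11443 = n14468 := rfl
theorem F24884 : act 2 n14468 = n13608 := d5_2 D11443 D14468 (iv D13608) (iv D10690) (iv F14770)
theorem F24885 : act 4 n14468 = n11450 := d7_2 (iv F19205) D14468 (iv D11450)
def n14469 : Q := act 3 n11443
theorem D14469 : act 3 n11443 = n14469 := rfl
def n14470 : Q := act 3 n11444
theorem D14470 : act 3 n11444 = n14470 := rfl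
theorem F24886 : act 0 n14470 = n11445 := d2_1 D14470 (iv D11445) D11444
theorem F24887 : act 1 n14470 = n11486 := d6_1 D14470 (iv F24845) F24844
theorem F24888 : act 5 n14470 = n11470 := d13_2 (iv F19213) D14470 F19250
def n14471 : Q := act 2 n11445
theorem D14471 : act 2 n11445 = n14471 := rfl
theorem F24889 : act 1 n14471 = n11465 := d5_1 D14471 F19238 F14791 (iv F14773) (iv F19206)
theorem F24890 : act 5 n14471 = n11463 := d11_2 F19207 D14471 F19235
def n14472 : Q := act 4 n11445
theorem D14472 : act 4 n11445 = n14472 := rfl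
theorem F24891 : act 1 n14472 = n11447 := d7_1 D14472 (iv D11447) (iv F19206)
def n14473 : Q := act 5 n11447
theorem D14473 : act 5 n11447 = n14473 := rfl
theorem F24892 : act 0 n14473 = n11484 := d4_1 D14473 F19276 (iv F19214)
theorem F24893 : act 2 n14473 = n11469 := d11_1 D14473 F19248 (iv F19215)
theorem F24894 : act 4 n14473 = n11468 := d14_1 D14473 (iv D11468) F14794 (iv F14774) D11447
def n14474 : Q := act 2 n11448
theorem D14474 : act 2 n11448 = n14474 := rfl
theorem F24895 : act 4 n14474 = n11449 := d10_2 (iv F19217) D14474 (iv D11449)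
def n14475 : Q := act 1 n11449
theorem D14475 : act 1 n11449 = n14475 := rfl
theorem F24896 : act 2 n14475 = n13613 := d5_2 D11449 D14475 F23194 F17914 (iv F14778)
theorem F24897 : act 5 n14475 = n11450 := d8_2 (iv F19218) D14475 (iv D11450)
def n14476 : Q := act 0 n11450
theorem D14476 : act 0 n11450 = n14476 := rfl
theorem F24898 : act 2 n14476 = n13611 := d1_2 (iv F19219) D14476 (iv D13611)
def n14477 : Q := act 3 n11450
theorem D14477 : act 3 n11450 = n14477 := rfl
theorem F24899 : act 1 n14477 = n11451 := d6_1 D14477 (iv D11451) D11450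
def n14478 : Q := act 4 n11451
theorem D14478 : act 4 n11451 = n14478 := rfl
def n14479 : Q := act 1 n11452
theorem D14479 : act 1 n11452 = n14479 := rfl
def n14480 : Q := act 4 n11452
theorem D14480 : act 4 n11452 = n14480 := rfl
theorem F24900 : act 2 n14480 = n11453 := d10_1 D14480 (iv D11453) D11452
def n14481 : Q := act 5 n11453
theorem D14481 : act 5 n11453 = n14481 := rfl
theorem F24901 : act 3 n14481 = n11457 := d13_1 D14481 (iv D11457) (iv F19220)
def n14482 : Q := act 2 n11454
theorem D14482 : act 2 n11454 = n14482 := rfl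
theorem F24902 : act 0 n14482 = n11455 := d1_1 D14482 (iv D11455) (iv F19221)
theorem F24903 : act 3 n14482 = n11501 := d9_2 D11454 D14482 (iv D11501) (iv D8936) (iv D6851) (iv D5198) (iv F8511) D6847 D8930 D11493 (iv F23154) (iv D13590) F17878 F13758 (iv F14780)
theorem F24904 : act 5 n14482 = n11490 := d11_2 (iv F19222) D14482 (iv D11490)
def n14483 : Q := act 4 n11454
theorem D14483 : act 4 n11454 = n14483 := rfl
theorem F24905 : act 0 n14483 = n11456 := d3_1 D14483 (iv D11456) (iv F19221)
def n14484 : Q := act 3 n11455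
theorem D14484 : act 3 n11455 = n14484 := rfl
theorem F24906 : act 0 n14484 = n11501 := d2_1 D14484 (iv F24903) F24902
theorem F24907 : act 2 n14484 = n11500 := d9_1 D14484 (iv D11500) (iv D8935) (iv D6850) (iv F11309) D8929 D11490 (iv F23157) (iv D13591) (iv D10676) F13754 F10486 (iv F11280) D8901 D11455
theorem F24908 : act 5 n14484 = n11493 := d13_2 (iv F19223) D14484 (iv D11493)
def n14485 : Q := act 4 n11455
theorem D14485 : act 4 n11455 = n14485 := rfl
theorem F24909 : act 2 n14485 = n11456 := d10_1 D14485 (iv D11456) D11455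
def n14486 : Q := act 5 n11456
theorem D14486 : act 5 n11456 = n14486 := rfl
theorem F24910 : act 1 n14486 = n11457 := d8_1 D14486 (iv D11457) (iv F19224)
theorem F24911 : act 4 n14486 = n11495 := d14_1 D14486 (iv D11495) (iv D8931) (iv F14783) D11456
def n14487 : Q := act 1 n11461
theorem D14487 : act 1 n11461 = n14487 := rfl
theorem F24912 : act 2 n14487 = n11467 := d5_2 D11461 D14487 (iv D11467) (iv D8909) (iv F14787)
theorem F24913 : act 4 n14487 = n11463 := d7_2 (iv F19232) D14487 (iv D11463)
theorem F24914 : act 0 n11482 = n14487 := d1_3 F24912 F19244 D11482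
theorem F24915 : act 3 n11478 = n14487 := d9_0 F24912 (iv F19243) (iv D8909) (iv D6831) (iv F10471) (iv F10908) (iv F14274) D11099 (iv F19273) F19274 F14810 F11307 (iv F11305) (iv F14808) (iv F19264)
theorem F24916 : act 5 n14487 = n11477 := d13_2 D11478 F24915 (iv D11477)
def n14488 : Q := act 3 n11461
theorem D14488 : act 3 n11461 = n14488 := rfl
theorem F24917 : act 1 n14488 = n11478 := d6_1 D14488 F24915 (iv D14487)
theorem F24918 : act 5 n11476 = n14488 := d8_0 F24917 (iv D11478) D11476
def n14489 : Q := act 5 n11461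
theorem D14489 : act 5 n11461 = n14489 := rfl
theorem F24919 : act 1 n14489 = n11477 := d8_1 D14489 (iv F24916) (iv D14487)
theorem F24920 : act 2 n14489 = n11462 := d11_1 D14489 (iv D11462) D11461
theorem F24921 : act 3 n14489 = n11476 := d13_1 D14489 F24918 (iv D14488)
def n14490 : Q := act 4 n11462
theorem D14490 : act 4 n11462 = n14490 := rfl
theorem F24922 : act 0 n14490 = n14220 := d3_1 D14490 F24374 F22489
theorem F24923 : act 1 n14490 = n11469 := d7_1 D14490 (iv D11469) (iv F19233)
theorem F24924 : act 3 n14490 = n14214 := d12_1 D14490 (iv D14214) F18757 F18213 (iv F19234)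
theorem F24925 : act 5 n14490 = n11466 := d14_2 D11462 D14490 (iv D11466) (iv D8908) (iv F14788)
def n14491 : Q := act 0 n11463
theorem D14491 : act 0 n11463 = n14491 := rfl
theorem F24926 : act 2 n14491 = n11470 := d1_2 (iv F19235) D14491 (iv D11470)
theorem F24927 : act 4 n14491 = n11482 := d3_2 F24913 D14491 F24914
def n14492 : Q := act 3 n11463
theorem D14492 : act 3 n11463 = n14492 := rfl
theorem F24928 : act 1 n14492 = n11464 := d6_1 D14492 (iv D11464) D11463
def n14493 : Q := act 4 n11464
theorem D14493 : act 4 n11464 = n14493 := rfl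
theorem F24929 : act 2 n14493 = n14240 := d10_1 D14493 (iv D14240) (iv F19236)
def n14494 : Q := act 4 n11465
theorem D14494 : act 4 n11465 = n14494 := rfl
theorem F24930 : act 0 n14494 = n14221 := d3_1 D14494 F24376 (iv F19237)
theorem F24931 : act 2 n14494 = n11466 := d10_1 D14494 (iv D11466) (iv F19238)
def n14495 : Q := act 5 n11467
theorem D14495 : act 5 n11467 = n14495 := rfl
theorem F24932 : act 0 n14495 = n11483 := d4_1 D14495 (iv D11483) (iv F19244)
theorem F24933 : act 1 n14495 = n11468 := d8_1 D14495 (iv D11468) D11467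
theorem F24934 : act 2 n14495 = n11477 := d11_1 D14495 (iv F24916) F24912
theorem F24935 : act 3 n14495 = n11468 := d13_1 D14495 (iv D11468) F19243
def n14496 : Q := act 4 n11471
theorem D14496 : act 4 n11471 = n14496 := rfl
theorem F24936 : act 0 n14496 = n11472 := d3_1 D14496 (iv D11472) (iv F19252)
theorem F24937 : act 1 n14496 = n11491 := d7_1 D14496 (iv D11491) (iv F19253)
def n14497 : Q := act 5 n11472
theorem D14497 : act 5 n11472 = n14497 := rfl
theorem F24938 : act 1 n14497 = n11473 := d8_1 D14497 (iv D11473) (iv F19254)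
def n14498 : Q := act 1 n11474
theorem D14498 : act 1 n11474 = n14498 := rfl
theorem F24939 : act 2 n14498 = n11476 := d5_2 D11474 D14498 (iv D11476) (iv D8918) (iv F14802)
theorem F24940 : act 4 n14498 = n14089 := d7_2 (iv F19257) D14498 (iv D14089)
theorem F24941 : act 3 n11956 = n14498 := d15_1 D11956 F24939 (iv F24921) F24920 F19234 (iv F17868) (iv F23136) (iv D13583) F17863
def n14499 : Q := act 3 n11474
theorem D14499 : act 3 n11474 = n14499 := rfl
theorem F24942 : act 0 n14499 = n14093 := d2_1 D14499 (iv D14093) (iv F19256)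
theorem F24943 : act 1 n14499 = n11956 := d6_1 D14499 F24941 (iv D14498)
theorem F24944 : act 2 n11960 = n14499 := d5_0 F24943 (iv D11956) F15562 D9316 D11960
theorem F24945 : act 4 n11958 = n14499 := d7_0 F24943 F20153 D11958
def n14500 : Q := act 5 n11474
theorem D14500 : act 5 n11474 = n14500 := rfl
theorem F24946 : act 0 n14500 = n14094 := d4_1 D14500 (iv D14094) (iv F19256)
theorem F24947 : act 2 n14500 = n11475 := d11_1 D14500 (iv D11475) D11474
def n14501 : Q := act 4 n11475
theorem D14501 : act 4 n11475 = n14501 := rfl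
theorem F24948 : act 0 n14501 = n14072 := d3_1 D14501 F24112 (iv F19258)
theorem F24949 : act 1 n14501 = n11479 := d7_1 D14501 (iv D11479) (iv F19259)
theorem F24950 : act 5 n14501 = n14070 := d14_2 D11475 D14501 (iv D14070) F18558 (iv F14803)
def n14502 : Q := act 0 n11476
theorem D14502 : act 0 n11476 = n14502 := rfl
theorem F24951 : act 1 n14502 = n14100 := d0_2 D11476 D14502 F24151 F18596 (iv F14805)
theorem F24952 : act 4 n14502 = n14096 := d3_2 (iv F19261) D14502 (iv D14096)
def n14503 : Q := act 4 n11477
theorem D14503 : act 4 n11477 = n14503 := rfl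
theorem F24953 : act 0 n14503 = n14105 := d3_1 D14503 F24159 (iv F19262)
theorem F24954 : act 3 n14503 = n12293 := d12_1 D14503 (iv D12293) F16034 (iv F14806) D11477
def n14504 : Q := act 4 n11478
theorem D14504 : act 4 n11478 = n14504 := rfl
theorem F24955 : act 0 n14504 = n14108 := d3_1 D14504 (iv D14108) (iv F19263)
theorem F24956 : act 2 n14504 = n11479 := d10_1 D14504 (iv D11479) (iv F19264)
theorem F24957 : act 5 n14504 = n14098 := d14_2 D11478 D14504 (iv D14098) (iv D11092) (iv F14806)
def n14505 : Q := act 5 n11480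
theorem D14505 : act 5 n11480 = n14505 := rfl
theorem F24958 : act 0 n14505 = n11481 := d4_1 D14505 (iv D11481) D11480
theorem F24959 : act 1 n14505 = n11483 := d8_1 D14505 (iv D11483) (iv F19267)
theorem F24960 : act 3 n14505 = n11481 := d13_1 D14505 (iv D11481) F19269
def n14506 : Q := act 4 n11481
theorem D14506 : act 4 n11481 = n14506 := rfl
theorem F24961 : act 1 n14506 = n11484 := d7_1 D14506 (iv D11484) (iv F19270)
theorem F24962 : act 5 n14506 = n11488 := d14_2 D11481 D14506 (iv D11488) (iv D8926) (iv F14809)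
def n14507 : Q := act 1 n11482
theorem D14507 : act 1 n11482 = n14507 := rfl
theorem F24963 : act 3 n14507 = n14104 := d6_2 (iv F19271) D14507 F24157
theorem F24964 : act 5 n14507 = n14103 := d8_2 F19272 D14507 F24156
def n14508 : Q := act 4 n11483
theorem D14508 : act 4 n11483 = n14508 := rfl
theorem F24965 : act 2 n14508 = n14105 := d10_1 D14508 F24159 (iv F19273)
def n14509 : Q := act 3 n11484
theorem D14509 : act 3 n11484 = n14509 := rfl
theorem F24966 : act 5 n14509 = n11489 := d13_2 (iv F19276) D14509 (iv D11489)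
def n14510 : Q := act 2 n11485
theorem D14510 : act 2 n11485 = n14510 := rfl
theorem F24967 : act 0 n14510 = n11487 := d1_1 D14510 (iv D11487) (iv F19277)
theorem F24968 : act 4 n14510 = n11487 := d10_2 (iv F19279) D14510 (iv D11487)
theorem F24969 : act 3 n14510 = n11487 := d15_1 D14510 (iv D11487) (iv D8925) (iv F14318) (iv F18650) F18649 (iv F19161) F19162 (iv F19277)
def n14511 : Q := act 4 n11486
theorem D14511 : act 4 n11486 = n14511 := rfl
theorem F24970 : act 0 n14511 = n11488 := d3_1 D14511 (iv D11488) (iv F19280)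
def n14512 : Q := act 3 n11488
theorem D14512 : act 3 n11488 = n14512 := rfl
theorem F24971 : act 1 n14512 = n11489 := d6_1 D14512 (iv D11489) (iv F19281)
def n14513 : Q := act 2 n11489
theorem D14513 : act 2 n11489 = n14513 := rfl
def n14514 : Q := act 1 n11490
theorem D14514 : act 1 n11490 = n14514 := rfl
def n14515 : Q := act 4 n11490
theorem D14515 : act 4 n11490 = n14515 := rfl
theorem F24972 : act 0 n14515 = n11494 := d3_1 D14515 (iv D11494) (iv F19282)
theorem F24973 : act 2 n14515 = n11491 := d10_1 D14515 (iv D11491) D11490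
def n14516 : Q := act 5 n11491
theorem D14516 : act 5 n11491 = n14516 := rfl
theorem F24974 : act 0 n14516 = n11495 := d4_1 D14516 (iv D11495) (iv F19283)
def n14517 : Q := act 3 n11492
theorem D14517 : act 3 n11492 = n14517 := rfl
theorem F24975 : act 1 n14517 = n11493 := d6_1 D14517 (iv D11493) D11492
def n14518 : Q := act 4 n11492
theorem D14518 : act 4 n11492 = n14518 := rfl
theorem F24976 : act 0 n14518 = n12387 := d3_1 D14518 (iv F23943) F23942
theorem F24977 : act 1 n14518 = n11494 := d7_1 D14518 (iv D11494) D11492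
theorem F24978 : act 2 n14518 = n11496 := d10_1 D14518 (iv D11496) (iv F19284)
def n14519 : Q := act 4 n11493
theorem D14519 : act 4 n11493 = n14519 := rfl
def n14520 : Q := act 3 n11494
theorem D14520 : act 3 n11494 = n14520 := rfl
def n14521 : Q := act 5 n11494
theorem D14521 : act 5 n11494 = n14521 := rfl
theorem F24979 : act 2 n14521 = n11495 := d11_1 D14521 (iv D11495) (iv F19285)
def n14522 : Q := act 5 n11496
theorem D14522 : act 5 n11496 = n14522 := rfl
theorem F24980 : act 0 n14522 = n12388 := d4_1 D14522 (iv D12388) (iv F19287)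
theorem F24981 : act 1 n14522 = n11498 := d8_1 D14522 (iv D11498) (iv F19288)
theorem F24982 : act 3 n14522 = n12386 := d13_1 D14522 (iv D12386) (iv F19289)
def n14523 : Q := act 2 n11497
theorem D14523 : act 2 n11497 = n14523 := rfl
theorem F24983 : act 0 n14523 = n11954 := d1_1 D14523 F20150 (iv F19290)
theorem F24984 : act 4 n14523 = n11952 := d10_2 (iv F19292) D14523 (iv D11952)
def n14524 : Q := act 5 n11497
theorem D14524 : act 5 n11497 = n14524 := rfl
theorem F24985 : act 0 n14524 = n11955 := d4_1 D14524 (iv D11955) (iv F19290)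
theorem F24986 : act 1 n14524 = n12386 := d8_1 D14524 (iv D12386) (iv F19291)
theorem F24987 : act 3 n14524 = n11498 := d13_1 D14524 (iv D11498) D11497
theorem F24988 : act 4 n14524 = n12299 := d14_1 D14524 (iv D12299) (iv D9593) (iv F15555) (iv F19292)
def n14525 : Q := act 3 n11499
theorem D14525 : act 3 n11499 = n14525 := rfl
theorem F24989 : act 0 n14525 = n14430 := d2_1 D14525 (iv D14430) (iv F19294)
theorem F24990 : act 1 n14525 = n11500 := d6_1 D14525 (iv D11500) D11499
def n14526 : Q := act 4 n11500
theorem D14526 : act 4 n11500 = n14526 := rfl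
theorem F24991 : act 0 n14526 = n11502 := d3_1 D14526 (iv D11502) (iv F19295)
def n14527 : Q := act 4 n11501
theorem D14527 : act 4 n11501 = n14527 := rfl
theorem F24992 : act 2 n14527 = n11502 := d10_1 D14527 (iv D11502) D11501
def n14528 : Q := act 5 n11502
theorem D14528 : act 5 n11502 = n14528 := rfl
theorem F24993 : act 1 n14528 = n14434 := d8_1 D14528 (iv D14434) (iv F19296)
def n14529 : Q := act 0 n11503
theorem D14529 : act 0 n11503 = n14529 := rfl
theorem F24994 : act 1 n14529 = n11507 := d0_2 D11503 D14529 (iv D11507) (iv D8939) (iv F14820)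
theorem F24995 : act 2 n14529 = n11517 := d1_2 (iv F19297) D14529 (iv D11517)
theorem F24996 : act 4 n14529 = n13492 := d3_2 (iv F19298) D14529 (iv D13492)
def n14530 : Q := act 3 n11503
theorem D14530 : act 3 n11503 = n14530 := rfl
theorem F24997 : act 1 n14530 = n11504 := d6_1 D14530 (iv D11504) D11503
def n14531 : Q := act 5 n11503
theorem D14531 : act 5 n11503 = n14531 := rfl
theorem F24998 : act 1 n14531 = n11505 := d8_1 D14531 (iv D11505) D11503
theorem F24999 : act 2 n14531 = n11519 := d11_1 D14531 (iv D11519) (iv F19297)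
def n14532 : Q := act 4 n11504
theorem D14532 : act 4 n11504 = n14532 := rfl
theorem F25000 : act 0 n14532 = n11510 := d3_1 D14532 (iv D11510) (iv F19299)
theorem F25001 : act 3 n14532 = n13495 := d12_1 D14532 (iv D13495) (iv D10591) (iv F14821) D11504
def n14533 : Q := act 4 n11505
theorem D14533 : act 4 n11505 = n14533 := rfl
theorem F25002 : act 0 n14533 = n11512 := d3_1 D14533 (iv D11512) (iv F19300)
theorem F25003 : act 2 n14533 = n11506 := d10_1 D14533 (iv D11506) (iv F19301)
theorem F25004 : act 5 n14533 = n13496 := d14_2 D11505 D14533 (iv D13496) (iv D10592) (iv F14821)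
def n14534 : Q := act 3 n11507
theorem D14534 : act 3 n11507 = n14534 := rfl
theorem F25005 : act 0 n14534 = n11508 := d2_1 D14534 (iv D11508) D11507
def n14535 : Q := act 2 n11508
theorem D14535 : act 2 n11508 = n14535 := rfl
def n14536 : Q := act 4 n11508
theorem D14536 : act 4 n11508 = n14536 := rfl
theorem F25006 : act 1 n14536 = n11510 := d7_1 D14536 (iv D11510) (iv F19308)
theorem F25007 : act 3 n14536 = n13499 := d12_1 D14536 (iv D13499) (iv D10595) (iv F14826) D11508
def n14537 : Q := act 1 n11509
theorem D14537 : act 1 n11509 = n14537 := rfl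
theorem F25008 : act 3 n14537 = n14328 := d6_2 (iv F19309) D14537 F24588
theorem F25009 : act 5 n14537 = n14335 := d8_2 F19310 D14537 F24604
def n14538 : Q := act 4 n11509
theorem D14538 : act 4 n11509 = n14538 := rfl
theorem F25010 : act 2 n14538 = n11510 := d10_1 D14538 (iv D11510) D11509
def n14539 : Q := act 5 n11510
theorem D14539 : act 5 n11510 = n14539 := rfl
theorem F25011 : act 3 n14539 = n13502 := d13_1 D14539 (iv D13502) (iv F19311)
def n14540 : Q := act 4 n11511
theorem D14540 : act 4 n11511 = n14540 := rfl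
theorem F25012 : act 2 n14540 = n14336 := d10_1 D14540 (iv D14336) (iv F19312)
def n14541 : Q := act 3 n11512
theorem D14541 : act 3 n11512 = n14541 := rfl
theorem F25013 : act 1 n14541 = n14088 := d6_1 D14541 (iv D14088) (iv F19314)
theorem F25014 : act 5 n14541 = n13504 := d13_2 (iv F19316) D14541 (iv D13504)
def n14542 : Q := act 0 n11513
theorem D14542 : act 0 n11513 = n14542 := rfl
theorem F25015 : act 1 n14542 = n11526 := d0_2 D11513 D14542 (iv D11526) (iv D8952) (iv F14832)
theorem F25016 : act 2 n14542 = n13492 := d1_2 (iv F19317) D14542 (iv D13492)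
theorem F25017 : act 4 n14542 = n11517 := d3_2 (iv F19318) D14542 (iv D11517)
def n14543 : Q := act 3 n11513
theorem D14543 : act 3 n11513 = n14543 := rfl
theorem F25018 : act 1 n14543 = n11514 := d6_1 D14543 (iv D11514) D11513
def n14544 : Q := act 5 n11513
theorem D14544 : act 5 n11513 = n14544 := rfl
theorem F25019 : act 1 n14544 = n11515 := d8_1 D14544 (iv D11515) D11513
theorem F25020 : act 2 n14544 = n13494 := d11_1 D14544 (iv D13494) (iv F19317)
def n14545 : Q := act 2 n11514
theorem D14545 : act 2 n11514 = n14545 := rfl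
theorem F25021 : act 0 n14545 = n11528 := d1_1 D14545 (iv D11528) (iv F19319)
theorem F25022 : act 3 n14545 = n11524 := d9_2 D11514 D14545 F19339 F14849 F11342 (iv F11346) (iv F14852) (iv F19351) F19350 (iv D10518) (iv D8149) (iv D6245) (iv F8525) D6858 D8944
theorem F25023 : act 5 n11523 = n14545 := d13_0 F25022 (iv D11524) D11523
def n14546 : Q := act 4 n11514
theorem D14546 : act 4 n11514 = n14546 := rfl
theorem F25024 : act 0 n14546 = n11529 := d3_1 D14546 (iv D11529) (iv F19319)
theorem F25025 : act 3 n14546 = n11520 := d12_1 D14546 (iv D11520) (iv D8947) (iv F14833) D11514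
def n14547 : Q := act 5 n11514
theorem D14547 : act 5 n11514 = n14547 := rfl
theorem F25026 : act 0 n14547 = n11530 := d4_1 D14547 (iv D11530) (iv F19319)
theorem F25027 : act 2 n14547 = n11523 := d11_1 D14547 F25023 (iv D14545)
theorem F25028 : act 3 n14547 = n11515 := d13_1 D14547 (iv D11515) D11514
def n14548 : Q := act 4 n11515
theorem D14548 : act 4 n11515 = n14548 := rfl
theorem F25029 : act 0 n14548 = n11531 := d3_1 D14548 (iv D11531) (iv F19320)
theorem F25030 : act 2 n14548 = n11516 := d10_1 D14548 (iv D11516) (iv F19321)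
theorem F25031 : act 5 n14548 = n11521 := d14_2 D11515 D14548 (iv D11521) (iv D8948) (iv F14833)
def n14549 : Q := act 3 n11517
theorem D14549 : act 3 n11517 = n14549 := rfl
theorem F25032 : act 0 n14549 = n11518 := d2_1 D14549 (iv D11518) D11517
theorem F25033 : act 1 n14549 = n11532 := d6_1 D14549 (iv D11532) (iv F19326)
theorem F25034 : act 5 n11556 = n14549 := d4_0 F25032 (iv F19328) D11556
def n14550 : Q := act 5 n11517
theorem D14550 : act 5 n11517 = n14550 := rfl
theorem F25035 : act 0 n14550 = n11519 := d4_1 D14550 (iv D11519) D11517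
theorem F25036 : act 1 n14550 = n11533 := d8_1 D14550 (iv D11533) (iv F19326)
theorem F25037 : act 3 n14550 = n11556 := d13_1 D14550 F25034 (iv D14549)
def n14551 : Q := act 2 n11518
theorem D14551 : act 2 n11518 = n14551 := rfl
theorem F25038 : act 1 n14551 = n11553 := d5_1 D14551 F19392 F14891 (iv F14838) (iv F19327)
theorem F25039 : act 5 n14551 = n11550 := d11_2 F19328 D14551 F19389
def n14552 : Q := act 4 n11518
theorem D14552 : act 4 n11518 = n14552 := rfl
theorem F25040 : act 1 n14552 = n11520 := d7_1 D14552 (iv D11520) (iv F19327)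
def n14553 : Q := act 4 n11519
theorem D14553 : act 4 n11519 = n14553 := rfl
theorem F25041 : act 1 n14553 = n11521 := d7_1 D14553 (iv D11521) (iv F19329)
def n14554 : Q := act 5 n11520
theorem D14554 : act 5 n11520 = n14554 := rfl
theorem F25042 : act 0 n14554 = n11539 := d4_1 D14554 (iv D11539) (iv F19331)
theorem F25043 : act 2 n14554 = n11560 := d11_1 D14554 F19400 (iv F19332)
theorem F25044 : act 4 n14554 = n11559 := d14_1 D14554 (iv D11559) (iv D8976) F14839 D11520
def n14555 : Q := act 3 n11521
theorem D14555 : act 3 n11521 = n14555 := rfl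
theorem F25045 : act 0 n14555 = n11541 := d2_1 D14555 (iv D11541) (iv F19333)
theorem F25046 : act 4 n14555 = n11558 := d12_2 D11521 D14555 (iv D11558) (iv D8976) (iv F14842)
def n14556 : Q := act 0 n11522
theorem D14556 : act 0 n11522 = n14556 := rfl
theorem F25047 : act 1 n14556 = n13399 := d0_2 D11522 D14556 (iv D13399) (iv D10517) (iv F14845)
theorem F25048 : act 2 n14556 = n13398 := d1_2 (iv F19335) D14556 (iv D13398)
theorem F25049 : act 4 n14556 = n13398 := d3_2 (iv F19336) D14556 (iv D13398)
def n14557 : Q := act 3 n11522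
theorem D14557 : act 3 n11522 = n14557 := rfl
theorem F25050 : act 1 n14557 = n11523 := d6_1 D14557 (iv D11523) D11522
def n14558 : Q := act 3 n11526
theorem D14558 : act 3 n11526 = n14558 := rfl
theorem F25051 : act 0 n14558 = n11527 := d2_1 D14558 (iv D11527) D11526
def n14559 : Q := act 2 n11527
theorem D14559 : act 2 n11527 = n14559 := rfl
def n14560 : Q := act 4 n11527
theorem D14560 : act 4 n11527 = n14560 := rfl
theorem F25052 : act 1 n14560 = n11529 := d7_1 D14560 (iv D11529) (iv F19346)
theorem F25053 : act 3 n14560 = n11535 := d12_1 D14560 (iv D11535) (iv D8957) (iv F14851) D11527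
def n14561 : Q := act 1 n11528
theorem D14561 : act 1 n11528 = n14561 := rfl
theorem F25054 : act 3 n14561 = n13401 := d6_2 (iv F19347) D14561 F22786
theorem F25055 : act 5 n14561 = n13400 := d8_2 F19348 D14561 F22785
def n14562 : Q := act 4 n11528
theorem D14562 : act 4 n11528 = n14562 := rfl
theorem F25056 : act 2 n14562 = n11529 := d10_1 D14562 (iv D11529) D11528
def n14563 : Q := act 5 n11529
theorem D14563 : act 5 n11529 = n14563 := rfl
theorem F25057 : act 3 n14563 = n11539 := d13_1 D14563 (iv D11539) (iv F19349)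
def n14564 : Q := act 4 n11530
theorem D14564 : act 4 n11530 = n14564 := rfl
theorem F25058 : act 2 n14564 = n13402 := d10_1 D14564 (iv D13402) (iv F19350)
def n14565 : Q := act 3 n11531
theorem D14565 : act 3 n11531 = n14565 := rfl
theorem F25059 : act 1 n14565 = n12522 := d6_1 D14565 (iv D12522) (iv F19352)
theorem F25060 : act 5 n14565 = n11541 := d13_2 (iv F19354) D14565 (iv D11541)
def n14566 : Q := act 2 n11532
theorem D14566 : act 2 n11532 = n14566 := rfl
theorem F25061 : act 0 n14566 = n11534 := d1_1 D14566 (iv D11534) (iv F19355)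
theorem F25062 : act 3 n14566 = n12592 := d15_1 D14566 (iv D12592) (iv D9853) F12585 (iv F11358) (iv F14859) (iv F19360) (iv D11536) (iv F19355)
def n14567 : Q := act 4 n11532
theorem D14567 : act 4 n11532 = n14567 := rfl
theorem F25063 : act 0 n14567 = n11535 := d3_1 D14567 (iv D11535) (iv F19355)
def n14568 : Q := act 5 n11532
theorem D14568 : act 5 n11532 = n14568 := rfl
theorem F25064 : act 0 n14568 = n11536 := d4_1 D14568 (iv D11536) (iv F19355)
theorem F25065 : act 1 n14568 = n11556 := d8_1 D14568 F25034 F25033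
theorem F25066 : act 3 n14568 = n11533 := d13_1 D14568 (iv D11533) D11532
def n14569 : Q := act 4 n11533
theorem D14569 : act 4 n11533 = n14569 := rfl
theorem F25067 : act 0 n14569 = n11537 := d3_1 D14569 (iv D11537) (iv F19356)
theorem F25068 : act 2 n14569 = n11544 := d10_1 D14569 (iv D11544) (iv F19357)
theorem F25069 : act 5 n14569 = n12519 := d14_2 D11533 D14569 F21163 F20269 F19345
def n14570 : Q := act 4 n11534
theorem D14570 : act 4 n11534 = n14570 := rfl
theorem F25070 : act 2 n14570 = n11535 := d10_1 D14570 (iv D11535) D11534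
def n14571 : Q := act 5 n11535
theorem D14571 : act 5 n11535 = n14571 := rfl
theorem F25071 : act 1 n14571 = n11539 := d8_1 D14571 (iv D11539) (iv F19358)
def n14572 : Q := act 4 n11536
theorem D14572 : act 4 n11536 = n14572 := rfl
theorem F25072 : act 1 n14572 = n11540 := d7_1 D14572 (iv D11540) (iv F19359)
def n14573 : Q := act 3 n11537
theorem D14573 : act 3 n11537 = n14573 := rfl
theorem F25073 : act 1 n14573 = n11541 := d6_1 D14573 (iv D11541) (iv F19361)
theorem F25074 : act 5 n14573 = n12522 := d13_2 (iv F19363) D14573 (iv D12522)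
def n14574 : Q := act 5 n11538
theorem D14574 : act 5 n11538 = n14574 := rfl
theorem F25075 : act 0 n14574 = n11560 := d4_1 D14574 F19400 (iv F19364)
theorem F25076 : act 2 n14574 = n11539 := d11_1 D14574 (iv D11539) (iv F19365)
theorem F25077 : act 4 n14574 = n11547 := d14_1 D14574 (iv D11547) (iv D8969) F14862 D11538
def n14575 : Q := act 4 n11539
theorem D14575 : act 4 n11539 = n14575 := rfl
theorem F25078 : act 0 n14575 = n11559 := d3_1 D14575 (iv F25044) F25042
theorem F25079 : act 2 n14575 = n11547 := d10_1 D14575 (iv F25077) F25076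
theorem F25080 : act 5 n14575 = n11540 := d14_2 D11539 D14575 (iv D11540) (iv D8961) D8960
def n14576 : Q := act 3 n11540
theorem D14576 : act 3 n11540 = n14576 := rfl
theorem F25081 : act 0 n14576 = n11558 := d2_1 D14576 (iv D11558) (iv F19366)
theorem F25082 : act 4 n14576 = n11541 := d12_2 D11540 D14576 (iv D11541) (iv D8962) (iv F14865)
def n14577 : Q := act 2 n11541
theorem D14577 : act 2 n11541 = n14577 := rfl
def n14578 : Q := act 1 n11542
theorem D14578 : act 1 n11542 = n14578 := rfl
theorem F25083 : act 0 n14578 = n12579 := d0_1 D14578 F21282 F16459 (iv F14873) (iv F19368)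
theorem F25084 : act 5 n14578 = n12577 := d8_2 (iv F19369) D14578 F21279
def n14579 : Q := act 3 n11542
theorem D14579 : act 3 n11542 = n14579 := rfl
theorem F25085 : act 0 n14579 = n11545 := d2_1 D14579 (iv D11545) (iv F19368)
theorem F25086 : act 5 n14579 = n12591 := d13_2 (iv F19369) D14579 (iv D12591)
def n14580 : Q := act 4 n11542
theorem D14580 : act 4 n11542 = n14580 := rfl
theorem F25087 : act 0 n14580 = n11546 := d3_1 D14580 (iv D11546) (iv F19368)
theorem F25088 : act 2 n14580 = n11543 := d10_1 D14580 (iv D11543) D11542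
theorem F25089 : act 5 n14580 = n12513 := d14_2 (iv F19369) D14580 (iv D12513) F16337 (iv F16474)
def n14581 : Q := act 2 n11545
theorem D14581 : act 2 n11545 = n14581 := rfl
theorem F25090 : act 5 n14581 = n12592 := d11_2 (iv F19379) D14581 (iv D12592)
def n14582 : Q := act 4 n11545
theorem D14582 : act 4 n11545 = n14582 := rfl
theorem F25091 : act 1 n14582 = n12597 := d7_1 D14582 (iv D12597) (iv F19378)
def n14583 : Q := act 3 n11546
theorem D14583 : act 3 n11546 = n14583 := rfl
theorem F25092 : act 1 n14583 = n12598 := d6_1 D14583 (iv D12598) (iv F19380)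
theorem F25093 : act 5 n14583 = n12516 := d13_2 (iv F19382) D14583 (iv D12516)
def n14584 : Q := act 1 n11548
theorem D14584 : act 1 n11548 = n14584 := rfl
theorem F25094 : act 4 n14584 = n14293 := d7_2 (iv F19386) D14584 (iv D14293)
def n14585 : Q := act 5 n11548
theorem D14585 : act 5 n11548 = n14585 := rfl
theorem F25095 : act 0 n14585 = n11553 := d4_1 D14585 (iv D11553) (iv F19385)
theorem F25096 : act 2 n14585 = n11549 := d11_1 D14585 (iv D11549) D11548
theorem F25097 : act 3 n14585 = n11564 := d13_1 D14585 (iv F23304) F23305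
def n14586 : Q := act 4 n11549
theorem D14586 : act 4 n11549 = n14586 := rfl
theorem F25098 : act 0 n14586 = n11555 := d3_1 D14586 (iv D11555) (iv F19387)
theorem F25099 : act 3 n14586 = n14190 := d12_1 D14586 (iv D14190) F18732 (iv F14887) (iv F19388)
theorem F25100 : act 5 n14586 = n14296 := d14_2 D11549 D14586 (iv D14296) (iv D11259) (iv F14884)
def n14587 : Q := act 0 n11550
theorem D14587 : act 0 n11550 = n14587 := rfl
theorem F25101 : act 2 n14587 = n11556 := d1_2 (iv F19389) D14587 (iv D11556)
def n14588 : Q := act 3 n11550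
theorem D14588 : act 3 n11550 = n14588 := rfl
theorem F25102 : act 1 n14588 = n11551 := d6_1 D14588 (iv D11551) D11550
def n14589 : Q := act 4 n11550
theorem D14589 : act 4 n11550 = n14589 := rfl
theorem F25103 : act 1 n14589 = n11552 := d7_1 D14589 (iv D11552) D11550
theorem F25104 : act 2 n14589 = n11557 := d10_1 D14589 (iv D11557) (iv F19389)
def n14590 : Q := act 4 n11551
theorem D14590 : act 4 n11551 = n14590 := rfl
def n14591 : Q := act 5 n11551
theorem D14591 : act 5 n11551 = n14591 := rfl
theorem F25105 : act 0 n14591 = n11564 := d4_1 D14591 (iv F23304) F23303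
theorem F25106 : act 2 n14591 = n11563 := d11_1 D14591 (iv F23301) F23302
theorem F25107 : act 3 n14591 = n11553 := d13_1 D14591 (iv D11553) D11551
def n14592 : Q := act 3 n11552
theorem D14592 : act 3 n11552 = n14592 := rfl
theorem F25108 : act 0 n14592 = n14294 := d2_1 D14592 (iv D14294) (iv F19390)
theorem F25109 : act 2 n14592 = n14302 := d15_2 (iv F19391) D14592 F24521 F18877 F14497 (iv F14493) (iv F18874) (iv D11259) (iv F14888)
theorem F25110 : act 5 n14300 = n14592 := d11_0 F25109 (iv D14302) D14300
def n14593 : Q := act 5 n11552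
theorem D14593 : act 5 n11552 = n14593 := rfl
theorem F25111 : act 0 n14593 = n14295 := d4_1 D14593 (iv D14295) (iv F19390)
theorem F25112 : act 2 n14593 = n11554 := d11_1 D14593 (iv D11554) (iv F19391)
theorem F25113 : act 3 n14593 = n14300 := d13_1 D14593 F25110 (iv D14592)
def n14594 : Q := act 4 n11553
theorem D14594 : act 4 n11553 = n14594 := rfl
theorem F25114 : act 2 n14594 = n11555 := d10_1 D14594 (iv D11555) (iv F19392)
def n14595 : Q := act 4 n11554
theorem D14595 : act 4 n11554 = n14595 := rfl
theorem F25115 : act 0 n14595 = n14296 := d3_1 D14595 (iv D14296) (iv F19393)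
theorem F25116 : act 1 n14595 = n11560 := d7_1 D14595 (iv D11560) (iv F19394)
theorem F25117 : act 3 n14595 = n14197 := d12_1 D14595 (iv D14197) F18739 (iv F18695) (iv F19395)
theorem F25118 : act 5 n14595 = n11555 := d14_2 D11554 D14595 (iv D11555) (iv D8974) D8973
def n14596 : Q := act 4 n11556
theorem D14596 : act 4 n11556 = n14596 := rfl
theorem F25119 : act 0 n14596 = n11557 := d3_1 D14596 (iv D11557) D11556
def n14597 : Q := act 3 n11557
theorem D14597 : act 3 n11557 = n14597 := rfl
theorem F25120 : act 1 n14597 = n11558 := d6_1 D14597 (iv D11558) (iv F19398)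
def n14598 : Q := act 5 n11557
theorem D14598 : act 5 n11557 = n14598 := rfl
theorem F25121 : act 1 n14598 = n11559 := d8_1 D14598 (iv D11559) (iv F19398)
def n14599 : Q := act 2 n11558
theorem D14599 : act 2 n11558 = n14599 := rfl
def n14600 : Q := act 5 n11558
theorem D14600 : act 5 n11558 = n14600 := rfl
theorem F25122 : act 3 n14600 = n11559 := d13_1 D14600 (iv D11559) D11558
def n14601 : Q := act 3 n11560
theorem D14601 : act 3 n11560 = n14601 := rfl
theorem F25123 : act 1 n14601 = n14197 := d6_1 D14601 (iv F25117) F25116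
theorem F25124 : act 4 n14601 = n13666 := d12_2 D11560 D14601 F23323 F18258 (iv F14894)
theorem F25125 : act 5 n14601 = n11561 := d13_2 (iv F19400) D14601 (iv D11561)
def n14602 : Q := act 3 n11562
theorem D14602 : act 3 n11562 = n14602 := rfl
theorem F25126 : act 1 n14602 = n11563 := d6_1 D14602 (iv D11563) D11562
def n14603 : Q := act 4 n11563
theorem D14603 : act 4 n11563 = n14603 := rfl
theorem F25127 : act 0 n14603 = n11565 := d3_1 D14603 (iv D11565) (iv F19405)
theorem F25128 : act 3 n14603 = n14193 := d12_1 D14603 (iv D14193) (iv D11177) (iv F14898) D11563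
def n14604 : Q := act 1 n11564
theorem D14604 : act 1 n11564 = n14604 := rfl
def n14605 : Q := act 4 n11564
theorem D14605 : act 4 n11564 = n14605 := rfl
theorem F25129 : act 2 n14605 = n11565 := d10_1 D14605 (iv D11565) D11564
def n14606 : Q := act 5 n11565
theorem D14606 : act 5 n11565 = n14606 := rfl
theorem F25130 : act 3 n14606 = n14208 := d13_1 D14606 (iv D14208) (iv F19406)
def n14607 : Q := act 0 n11566
theorem D14607 : act 0 n11566 = n14607 := rfl
theorem F25131 : act 1 n14607 = n13194 := d0_2 D11566 D14607 (iv D13194) (iv D10348) (iv F14899)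
theorem F25132 : act 2 n14607 = n14397 := d1_2 (iv F19407) D14607 (iv D14397)
theorem F25133 : act 4 n14607 = n14397 := d3_2 (iv F19408) D14607 (iv D14397)
def n14608 : Q := act 3 n11566
theorem D14608 : act 3 n11566 = n14608 := rfl
theorem F25134 : act 1 n14608 = n11567 := d6_1 D14608 (iv D11567) D11566
theorem F25135 : act 5 n13209 = n14608 := d8_0 F25134 (iv F19411) D13209
def n14609 : Q := act 5 n11566
theorem D14609 : act 5 n11566 = n14609 := rfl
theorem F25136 : act 1 n14609 = n11568 := d8_1 D14609 (iv D11568) D11566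
theorem F25137 : act 2 n14609 = n14399 := d11_1 D14609 (iv D14399) (iv F19407)
theorem F25138 : act 3 n14609 = n13209 := d13_1 D14609 F25135 (iv D14608)
def n14610 : Q := act 4 n11567
theorem D14610 : act 4 n11567 = n14610 := rfl
theorem F25139 : act 0 n14610 = n13197 := d3_1 D14610 (iv D13197) (iv F19409)
theorem F25140 : act 2 n14610 = n13212 := d10_1 D14610 (iv D13212) (iv F19410)
theorem F25141 : act 3 n14610 = n14400 := d12_1 D14610 (iv D14400) (iv D11363) (iv F14900) D11567
def n14611 : Q := act 4 n11568
theorem D14611 : act 4 n11568 = n14611 := rfl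
theorem F25142 : act 0 n14611 = n13198 := d3_1 D14611 (iv D13198) (iv F19412)
theorem F25143 : act 2 n14611 = n11569 := d10_1 D14611 (iv D11569) (iv F19413)
theorem F25144 : act 5 n14611 = n14401 := d14_2 D11568 D14611 (iv D14401) (iv D11364) (iv F14900)
def n14612 : Q := act 1 n11570
theorem D14612 : act 1 n11570 = n14612 := rfl
theorem F25145 : act 2 n14612 = n12763 := d5_2 D11570 D14612 (iv D12763) (iv D9994) (iv F14905)
theorem F25146 : act 3 n14612 = n13196 := d6_2 (iv F19420) D14612 F22408
theorem F25147 : act 5 n14612 = n13195 := d8_2 F19421 D14612 F22407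
def n14613 : Q := act 4 n11570
theorem D14613 : act 4 n11570 = n14613 := rfl
theorem F25148 : act 0 n14613 = n13210 := d3_1 D14613 (iv D13210) (iv F19419)
theorem F25149 : act 2 n14613 = n11571 := d10_1 D14613 (iv D11571) D11570
def n14614 : Q := act 5 n11571
theorem D14614 : act 5 n11571 = n14614 := rfl
theorem F25150 : act 0 n14614 = n13211 := d4_1 D14614 (iv D13211) (iv F19422)
theorem F25151 : act 1 n14614 = n12762 := d8_1 D14614 (iv D12762) (iv F19423)
theorem F25152 : act 3 n14614 = n11573 := d13_1 D14614 (iv D11573) (iv F19424)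
def n14615 : Q := act 4 n11572
theorem D14615 : act 4 n11572 = n14615 := rfl
theorem F25153 : act 0 n14615 = n13212 := d3_1 D14615 (iv D13212) (iv F19425)
theorem F25154 : act 1 n14615 = n12766 := d7_1 D14615 (iv D12766) (iv F19426)
theorem F25155 : act 2 n14615 = n13197 := d10_1 D14615 (iv D13197) (iv F19427)
theorem F25156 : act 3 n14615 = n12689 := d12_1 D14615 (iv D12689) F16585 (iv F14909) (iv F19428)
def n14616 : Q := act 0 n11574
theorem D14616 : act 0 n11574 = n14616 := rfl
theorem F25157 : act 1 n14616 = n11578 := d0_2 D11574 D14616 (iv D11578) (iv D8989) (iv F14913)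
theorem F25158 : act 2 n14616 = n14392 := d1_2 (iv F19433) D14616 (iv D14392)
theorem F25159 : act 4 n14616 = n14386 := d3_2 (iv F19434) D14616 (iv D14386)
def n14617 : Q := act 3 n11574
theorem D14617 : act 3 n11574 = n14617 := rfl
theorem F25160 : act 1 n14617 = n11575 := d6_1 D14617 (iv D11575) D11574
theorem F25161 : act 5 n13064 = n14617 := d8_0 F25160 (iv F19437) D13064
def n14618 : Q := act 5 n11574
theorem D14618 : act 5 n11574 = n14618 := rfl
theorem F25162 : act 1 n14618 = n11576 := d8_1 D14618 (iv D11576) D11574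
theorem F25163 : act 2 n14618 = n14394 := d11_1 D14618 (iv D14394) (iv F19433)
theorem F25164 : act 3 n14618 = n13064 := d13_1 D14618 F25161 (iv D14617)
def n14619 : Q := act 4 n11575
theorem D14619 : act 4 n11575 = n14619 := rfl
theorem F25165 : act 0 n14619 = n11582 := d3_1 D14619 (iv D11582) (iv F19435)
theorem F25166 : act 2 n14619 = n13065 := d10_1 D14619 (iv D13065) (iv F19436)
theorem F25167 : act 3 n14619 = n14389 := d12_1 D14619 (iv D14389) (iv D11354) (iv F14914) D11575
def n14620 : Q := act 4 n11576
theorem D14620 : act 4 n11576 = n14620 := rfl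
theorem F25168 : act 0 n14620 = n11584 := d3_1 D14620 (iv D11584) (iv F19438)
theorem F25169 : act 2 n14620 = n11577 := d10_1 D14620 (iv D11577) (iv F19439)
theorem F25170 : act 5 n14620 = n14391 := d14_2 D11576 D14620 (iv D14391) (iv D11355) (iv F14914)
def n14621 : Q := act 3 n11578
theorem D14621 : act 3 n11578 = n14621 := rfl
theorem F25171 : act 0 n14621 = n11579 := d2_1 D14621 (iv D11579) D11578
def n14622 : Q := act 5 n11578
theorem D14622 : act 5 n11578 = n14622 := rfl
theorem F25172 : act 0 n14622 = n11580 := d4_1 D14622 (iv D11580) D11578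
theorem F25173 : act 2 n14622 = n11586 := d11_1 D14622 (iv D11586) (iv F19445)
def n14623 : Q := act 2 n11579
theorem D14623 : act 2 n11579 = n14623 := rfl
def n14624 : Q := act 4 n11579
theorem D14624 : act 4 n11579 = n14624 := rfl
theorem F25174 : act 1 n14624 = n11582 := d7_1 D14624 (iv D11582) (iv F19446)
def n14625 : Q := act 5 n11579
theorem D14625 : act 5 n11579 = n14625 := rfl
theorem F25175 : act 1 n14625 = n11583 := d8_1 D14625 (iv D11583) (iv F19446)
theorem F25176 : act 3 n14625 = n11580 := d13_1 D14625 (iv D11580) D11579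
def n14626 : Q := act 4 n11580
theorem D14626 : act 4 n11580 = n14626 := rfl
theorem F25177 : act 1 n14626 = n11584 := d7_1 D14626 (iv D11584) (iv F19447)
theorem F25178 : act 2 n14626 = n11589 := d10_1 D14626 (iv D11589) (iv F19448)
theorem F25179 : act 5 n14626 = n11756 := d14_2 D11580 D14626 (iv F24589) F24590 F18930
def n14627 : Q := act 1 n11581
theorem D14627 : act 1 n11581 = n14627 := rfl
theorem F25180 : act 3 n14627 = n13050 := d6_2 (iv F19450) D14627 F22150
theorem F25181 : act 5 n14627 = n13049 := d8_2 F19451 D14627 F22149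
def n14628 : Q := act 4 n11581
theorem D14628 : act 4 n11581 = n14628 := rfl
theorem F25182 : act 0 n14628 = n13065 := d3_1 D14628 (iv D13065) (iv F19449)
theorem F25183 : act 2 n14628 = n11582 := d10_1 D14628 (iv D11582) D11581
def n14629 : Q := act 5 n11582
theorem D14629 : act 5 n11582 = n14629 := rfl
def n14630 : Q := act 4 n11583
theorem D14630 : act 4 n11583 = n14630 := rfl
theorem F25184 : act 0 n14630 = n13062 := d3_1 D14630 F22178 (iv F19452)
theorem F25185 : act 2 n14630 = n13051 := d10_1 D14630 F22153 (iv F19453)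
def n14631 : Q := act 3 n11584
theorem D14631 : act 3 n11584 = n14631 := rfl
def n14632 : Q := act 2 n11585
theorem D14632 : act 2 n11585 = n14632 := rfl
theorem F25186 : act 0 n14632 = n11587 := d1_1 D14632 (iv D11587) (iv F19456)
theorem F25187 : act 5 n14632 = n12746 := d11_2 F19457 D14632 F21528
theorem F25188 : act 1 n12318 = n14632 := d0_0 F25186 F19460 (iv F21518) (iv F23045) F23044
theorem F25189 : act 3 n14632 = n12321 := d6_2 (iv F20825) F25188 F20830
theorem F25190 : act 4 n14632 = n12315 := d7_2 D12318 F25188 F20822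
def n14633 : Q := act 4 n11585
theorem D14633 : act 4 n11585 = n14633 := rfl
theorem F25191 : act 0 n14633 = n11588 := d3_1 D14633 (iv D11588) (iv F19456)
theorem F25192 : act 1 n14633 = n12731 := d7_1 D14633 (iv F24612) F24610
theorem F25193 : act 2 n14633 = n12315 := d10_1 D14633 (iv F25190) (iv D14632)
theorem F25194 : act 3 n14633 = n11771 := d12_1 D14633 (iv F24587) F24586 F18936 D11585
theorem F25195 : act 5 n14633 = n11770 := d14_2 F19457 D14633 F19823 (iv F15630) D9988
def n14634 : Q := act 4 n11586
theorem D14634 : act 4 n11586 = n14634 := rfl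
theorem F25196 : act 0 n14634 = n11589 := d3_1 D14634 (iv D11589) (iv F19458)
theorem F25197 : act 1 n14634 = n12732 := d7_1 D14634 F24616 F24614
theorem F25198 : act 3 n14634 = n11754 := d12_1 D14634 F19793 F15634 D9988 (iv F19459)
theorem F25199 : act 5 n14634 = n11753 := d14_2 D11586 D14634 (iv F24581) (iv F24582) F18936
def n14635 : Q := act 3 n11587
theorem D14635 : act 3 n11587 = n14635 := rfl
theorem F25200 : act 0 n14635 = n12321 := d2_1 D14635 (iv F25189) F25186
theorem F25201 : act 1 n14635 = n12754 := d6_1 D14635 F21540 (iv F19460)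
theorem F25202 : act 5 n14635 = n12749 := d13_2 (iv F19461) D14635 (iv D12749)
theorem F25203 : act 4 n11882 = n14635 := d3_0 F25200 (iv D12321) (iv F19993)
theorem F25204 : act 2 n14635 = n11883 := d10_1 F25203 (iv D11883) D11882
def n14636 : Q := act 4 n11587
theorem D14636 : act 4 n11587 = n14636 := rfl
theorem F25205 : act 0 n14636 = n12315 := d3_1 D14636 (iv F25190) F25186
theorem F25206 : act 1 n14636 = n12755 := d7_1 D14636 (iv D12755) (iv F19460)
theorem F25207 : act 2 n14636 = n11588 := d10_1 D14636 (iv D11588) D11587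
theorem F25208 : act 3 n14636 = n12314 := d12_1 D14636 F20821 (iv F19994) F25203 (iv D14635)
theorem F25209 : act 5 n14636 = n11995 := d14_2 (iv F19461) D14636 (iv D11995) F15636 D9981
def n14637 : Q := act 1 n11590
theorem D14637 : act 1 n11590 = n14637 := rfl
theorem F25210 : act 2 n14637 = n12739 := d5_2 D11590 D14637 F21513 F16641 (iv F14935)
theorem F25211 : act 4 n14637 = n12718 := d7_2 (iv F19469) D14637 (iv D12718)
def n14638 : Q := act 3 n11590
theorem D14638 : act 3 n11590 = n14638 := rfl
theorem F25212 : act 0 n14638 = n11593 := d2_1 D14638 (iv D11593) (iv F19468)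
theorem F25213 : act 2 n14638 = n13184 := d15_2 D11590 D14638 (iv D13184) F17283 F13252 (iv F11426) (iv F14943) (iv D9001) (iv F14934)
theorem F25214 : act 5 n13370 = n14638 := d11_0 F25213 F22386 D13370
def n14639 : Q := act 5 n11590
theorem D14639 : act 5 n11590 = n14639 := rfl
theorem F25215 : act 0 n14639 = n11594 := d4_1 D14639 (iv D11594) (iv F19468)
theorem F25216 : act 2 n14639 = n11591 := d11_1 D14639 (iv D11591) D11590
theorem F25217 : act 3 n14639 = n13370 := d13_1 D14639 F25214 (iv D14638)
def n14640 : Q := act 4 n11591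
theorem D14640 : act 4 n11591 = n14640 := rfl
theorem F25218 : act 0 n14640 = n11595 := d3_1 D14640 (iv D11595) (iv F19470)
theorem F25219 : act 1 n14640 = n12744 := d7_1 D14640 (iv D12744) (iv F19471)
theorem F25220 : act 3 n14640 = n12711 := d12_1 D14640 (iv D12711) F16613 (iv F14940) (iv F19472)
theorem F25221 : act 5 n14640 = n12721 := d14_2 D11591 D14640 (iv D12721) (iv D9961) (iv F14936)
def n14641 : Q := act 0 n11592
theorem D14641 : act 0 n11592 = n14641 := rfl
theorem F25222 : act 2 n14641 = n11596 := d1_2 (iv F19473) D14641 (iv D11596)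
theorem F25223 : act 4 n14641 = n12722 := d3_2 (iv F19474) D14641 (iv D12722)
def n14642 : Q := act 3 n11592
theorem D14642 : act 3 n11592 = n14642 := rfl
theorem F25224 : act 1 n14642 = n11593 := d6_1 D14642 (iv D11593) D11592
def n14643 : Q := act 2 n11593
theorem D14643 : act 2 n11593 = n14643 := rfl
theorem F25225 : act 0 n14643 = n13184 := d1_1 D14643 (iv F25213) F25212
theorem F25226 : act 3 n14643 = n13183 := d9_2 D11593 D14643 F22383 F17290 (iv F14939) (iv F19472) (iv F25216) F25217 (iv D13370) (iv D10490) (iv D8124) (iv D6223) (iv F8588) D6903 D9000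
theorem F25227 : act 5 n13369 = n14643 := d13_0 F25226 F22384 D13369
def n14644 : Q := act 4 n11593
theorem D14644 : act 4 n11593 = n14644 := rfl
theorem F25228 : act 3 n14644 = n12725 := d12_1 D14644 (iv D12725) (iv D9963) (iv F14941) D11593
def n14645 : Q := act 5 n11593
theorem D14645 : act 5 n11593 = n14645 := rfl
theorem F25229 : act 0 n14645 = n13370 := d4_1 D14645 F25214 F25212
theorem F25230 : act 2 n14645 = n13369 := d11_1 D14645 F25227 (iv D14643)
theorem F25231 : act 3 n14645 = n11594 := d13_1 D14645 (iv D11594) D11593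
def n14646 : Q := act 4 n11594
theorem D14646 : act 4 n11594 = n14646 := rfl
theorem F25232 : act 1 n14646 = n12736 := d7_1 D14646 (iv F24618) F24617
theorem F25233 : act 2 n14646 = n11595 := d10_1 D14646 (iv D11595) (iv F19475)
theorem F25234 : act 5 n14646 = n12727 := d14_2 D11594 D14646 (iv D12727) (iv D9964) (iv F14941)
def n14647 : Q := act 3 n11597
theorem D14647 : act 3 n11597 = n14647 := rfl
theorem F25235 : act 0 n14647 = n12846 := d2_1 D14647 (iv D12846) (iv F19481)
theorem F25236 : act 1 n14647 = n11599 := d6_1 D14647 (iv D11599) (iv F19482)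
theorem F25237 : act 4 n14647 = n12896 := d12_2 D11597 D14647 (iv D12896) (iv D10103) F14952
def n14648 : Q := act 5 n11597
theorem D14648 : act 5 n11597 = n14648 := rfl
theorem F25238 : act 0 n14648 = n12845 := d4_1 D14648 F21683 (iv F19481)
theorem F25239 : act 1 n14648 = n11600 := d8_1 D14648 (iv D11600) (iv F19482)
theorem F25240 : act 2 n14648 = n11616 := d11_1 D14648 (iv D11616) (iv F19483)
theorem F25241 : act 4 n14648 = n12842 := d14_1 D14648 (iv D12842) (iv D10058) (iv F14951) D11597
def n14649 : Q := act 3 n11598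
theorem D14649 : act 3 n11598 = n14649 := rfl
theorem F25242 : act 0 n14649 = n11602 := d2_1 D14649 (iv D11602) (iv F19484)
theorem F25243 : act 1 n14649 = n12896 := d6_1 D14649 (iv D12896) (iv F19485)
theorem F25244 : act 4 n14649 = n11599 := d12_2 D11598 D14649 (iv D11599) (iv D9006) D9005
def n14650 : Q := act 5 n11598
theorem D14650 : act 5 n11598 = n14650 := rfl
theorem F25245 : act 0 n14650 = n11603 := d4_1 D14650 (iv D11603) (iv F19484)
theorem F25246 : act 1 n14650 = n12897 := d8_1 D14650 (iv D12897) (iv F19485)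
theorem F25247 : act 2 n14650 = n11733 := d11_1 D14650 F19761 (iv F19486)
theorem F25248 : act 4 n14650 = n11730 := d14_1 D14650 (iv D11730) (iv D9122) (iv F14956) D11598
def n14651 : Q := act 3 n11601
theorem D14651 : act 3 n11601 = n14651 := rfl
theorem F25249 : act 0 n14651 = n11734 := d2_1 D14651 (iv D11734) (iv F19491)
theorem F25250 : act 1 n14651 = n12887 := d6_1 D14651 (iv D12887) (iv F19492)
theorem F25251 : act 4 n14651 = n11720 := d12_2 D11601 D14651 (iv D11720) (iv D9111) (iv F14965)
def n14652 : Q := act 5 n11601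
theorem D14652 : act 5 n11601 = n14652 := rfl
theorem F25252 : act 0 n14652 = n11733 := d4_1 D14652 F19761 (iv F19491)
theorem F25253 : act 1 n14652 = n12888 := d8_1 D14652 (iv D12888) (iv F19492)
theorem F25254 : act 2 n14652 = n11603 := d11_1 D14652 (iv D11603) (iv F19493)
theorem F25255 : act 4 n14652 = n11718 := d14_1 D14652 (iv D11718) (iv D9108) (iv F14966) D11601
def n14653 : Q := act 2 n11602
theorem D14653 : act 2 n11602 = n14653 := rfl
theorem F25256 : act 4 n14653 = n11604 := d10_2 (iv F19495) D14653 (iv D11604)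
def n14654 : Q := act 5 n11602
theorem D14654 : act 5 n11602 = n14654 := rfl
theorem F25257 : act 1 n14654 = n12865 := d8_1 D14654 F21726 (iv F19494)
theorem F25258 : act 3 n14654 = n11603 := d13_1 D14654 (iv D11603) D11602
def n14655 : Q := act 4 n11605
theorem D14655 : act 4 n11605 = n14655 := rfl
theorem F25259 : act 1 n14655 = n12872 := d7_1 D14655 F21738 (iv F19498)
theorem F25260 : act 3 n14655 = n12862 := d12_1 D14655 (iv D12862) F16796 (iv F14971) (iv F19499)
def n14656 : Q := act 0 n11606
theorem D14656 : act 0 n11606 = n14656 := rfl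
theorem F25261 : act 1 n14656 = n11871 := d0_2 D11606 D14656 F19979 F15400 (iv F14972)
theorem F25262 : act 2 n14656 = n11608 := d1_2 (iv F19500) D14656 (iv D11608)
theorem F25263 : act 4 n14656 = n12878 := d3_2 (iv F19501) D14656 (iv D12878)
theorem F25264 : act 5 n14656 = n11609 := d4_2 (iv F19502) D14656 (iv D11609)
def n14657 : Q := act 3 n11606
theorem D14657 : act 3 n11606 = n14657 := rfl
theorem F25265 : act 1 n14657 = n11607 := d6_1 D14657 (iv D11607) D11606
theorem F25266 : act 5 n14657 = n11610 := d13_2 (iv F19502) D14657 (iv D11610)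
def n14658 : Q := act 4 n11607
theorem D14658 : act 4 n11607 = n14658 := rfl
theorem F25267 : act 0 n14658 = n11750 := d3_1 D14658 (iv D11750) (iv F19503)
theorem F25268 : act 2 n14658 = n11745 := d10_1 D14658 (iv D11745) (iv F19504)
theorem F25269 : act 3 n14658 = n12882 := d12_1 D14658 (iv D12882) (iv D10090) (iv F14973) D11607
def n14659 : Q := act 3 n11609
theorem D14659 : act 3 n11609 = n14659 := rfl
theorem F25270 : act 0 n14659 = n11610 := d2_1 D14659 (iv D11610) D11609
theorem F25271 : act 1 n14659 = n11882 := d6_1 D14659 F19994 (iv F19510)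
theorem F25272 : act 4 n14659 = n12754 := d12_2 F23028 D14659 F21540 D12755 (iv F23039)
def n14660 : Q := act 2 n11610
theorem D14660 : act 2 n11610 = n14660 := rfl
theorem F25273 : act 1 n14660 = n12372 := d5_1 D14660 (iv D12372) F19516 (iv D11611) (iv F19512)
def n14661 : Q := act 4 n11610
theorem D14661 : act 4 n11610 = n14661 := rfl
theorem F25274 : act 0 n14661 = n12754 := d3_1 D14661 (iv F25272) F25270
theorem F25275 : act 1 n14661 = n11612 := d7_1 D14661 (iv D11612) (iv F19512)
theorem F25276 : act 3 n14661 = n12742 := d12_1 D14661 F23038 (iv D13543) F17792 D11610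
theorem F25277 : act 5 n12741 = n14661 := d13_0 F25276 (iv D12742) D12741
theorem F25278 : act 2 n12764 = n14661 := d15_2 D9994 D12764 F25276 F21519 F16646 (iv F16668) (iv F21553) (iv D12760) F16665
theorem F25279 : act 4 n14660 = n12764 := d10_0 F25278 (iv D14661) D14660
def n14662 : Q := act 4 n11611
theorem D14662 : act 4 n11611 = n14662 := rfl
theorem F25280 : act 0 n14662 = n11740 := d3_1 D14662 (iv D11740) (iv F19513)
theorem F25281 : act 1 n14662 = n12373 := d7_1 D14662 (iv D12373) F19516
theorem F25282 : act 2 n14662 = n11612 := d10_1 D14662 (iv D11612) D11611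
def n14663 : Q := act 5 n11612
theorem D14663 : act 5 n11612 = n14663 := rfl
theorem F25283 : act 0 n14663 = n12322 := d4_1 D14663 (iv D12322) (iv F19517)
theorem F25284 : act 1 n14663 = n12741 := d8_1 D14663 F25277 F25275
theorem F25285 : act 3 n14663 = n12739 := d13_1 D14663 F23047 F23046
def n14664 : Q := act 3 n11613
theorem D14664 : act 3 n11613 = n14664 := rfl
theorem F25286 : act 0 n14664 = n11615 := d2_1 D14664 (iv D11615) (iv F19518)
theorem F25287 : act 1 n14664 = n11624 := d6_1 D14664 (iv D11624) (iv F19519)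
def n14665 : Q := act 5 n11613
theorem D14665 : act 5 n11613 = n14665 := rfl
theorem F25288 : act 0 n14665 = n11616 := d4_1 D14665 (iv D11616) (iv F19518)
theorem F25289 : act 1 n14665 = n11625 := d8_1 D14665 (iv D11625) (iv F19519)
theorem F25290 : act 2 n14665 = n12845 := d11_1 D14665 F21683 (iv F19520)
theorem F25291 : act 4 n14665 = n12826 := d14_1 D14665 (iv D12826) (iv D10047) F14984 D11613
def n14666 : Q := act 3 n11614
theorem D14666 : act 3 n11614 = n14666 := rfl
theorem F25292 : act 1 n14666 = n11618 := d6_1 D14666 (iv D11618) (iv F19521)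
theorem F25293 : act 4 n14666 = n11615 := d12_2 D11614 D14666 (iv D11615) (iv D9019) D9018
def n14667 : Q := act 5 n11614
theorem D14667 : act 5 n11614 = n14667 := rfl
theorem F25294 : act 1 n14667 = n11619 := d8_1 D14667 (iv D11619) (iv F19521)
theorem F25295 : act 2 n14667 = n11908 := d11_1 D14667 (iv D11908) (iv F19522)
theorem F25296 : act 4 n14667 = n11686 := d14_1 D14667 (iv D11686) (iv D9080) F14987 D11614
def n14668 : Q := act 2 n11615
theorem D14668 : act 2 n11615 = n14668 := rfl
def n14669 : Q := act 5 n11615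
theorem D14669 : act 5 n11615 = n14669 := rfl
theorem F25297 : act 1 n14669 = n11621 := d8_1 D14669 (iv D11621) (iv F19523)
theorem F25298 : act 3 n14669 = n11616 := d13_1 D14669 (iv D11616) D11615
def n14670 : Q := act 4 n11616
theorem D14670 : act 4 n11616 = n14670 := rfl
theorem F25299 : act 0 n14670 = n12826 := d3_1 D14670 (iv F25291) F25288
theorem F25300 : act 1 n14670 = n11622 := d7_1 D14670 (iv D11622) (iv F19524)
theorem F25301 : act 2 n14670 = n12842 := d10_1 D14670 (iv F25241) F25240
theorem F25302 : act 5 n14670 = n11617 := d14_2 D11616 D14670 (iv D11617) (iv D9020) D9019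
def n14671 : Q := act 3 n11617
theorem D14671 : act 3 n11617 = n14671 := rfl
theorem F25303 : act 0 n14671 = n12825 := d2_1 D14671 (iv D12825) (iv F19525)
theorem F25304 : act 1 n14671 = n11623 := d6_1 D14671 (iv D11623) (iv F19526)
theorem F25305 : act 4 n14671 = n11685 := d12_2 D11617 D14671 (iv D11685) (iv D9080) (iv F14992)
def n14672 : Q := act 2 n11618
theorem D14672 : act 2 n11618 = n14672 := rfl
theorem F25306 : act 0 n14672 = n11632 := d1_1 D14672 (iv D11632) (iv F19528)
theorem F25307 : act 4 n14672 = n11620 := d10_2 (iv F19529) D14672 (iv D11620)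
theorem F25308 : act 3 n14672 = n11813 := d15_1 D14672 F19891 F15322 (iv F15319) (iv F19559) F19558 (iv F19562) (iv D11633) (iv F19528)
theorem F25309 : act 5 n11812 = n14672 := d13_0 F25308 (iv D11813) D11812
def n14673 : Q := act 5 n11618
theorem D14673 : act 5 n11618 = n14673 := rfl
theorem F25310 : act 0 n14673 = n11633 := d4_1 D14673 (iv D11633) (iv F19528)
theorem F25311 : act 2 n14673 = n11812 := d11_1 D14673 F25309 (iv D14672)
theorem F25312 : act 3 n14673 = n11619 := d13_1 D14673 (iv D11619) D11618
def n14674 : Q := act 1 n11620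
theorem D14674 : act 1 n11620 = n14674 := rfl
theorem F25313 : act 3 n14674 = n11653 := d6_2 (iv F19534) D14674 F19597
theorem F25314 : act 5 n14674 = n11652 := d8_2 F19535 D14674 F19596
def n14675 : Q := act 4 n11621
theorem D14675 : act 4 n11621 = n14675 := rfl
theorem F25315 : act 0 n14675 = n11637 := d3_1 D14675 (iv D11637) (iv F19536)
theorem F25316 : act 2 n14675 = n11654 := d10_1 D14675 (iv D11654) (iv F19537)
def n14676 : Q := act 3 n11622
theorem D14676 : act 3 n11622 = n14676 := rfl
theorem F25317 : act 0 n14676 = n11638 := d2_1 D14676 (iv D11638) (iv F19539)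
theorem F25318 : act 5 n14676 = n11623 := d13_2 (iv F19541) D14676 (iv D11623)
theorem F25319 : act 2 n14676 = n12377 := d15_2 (iv F19540) D14676 (iv D12377) (iv D9654) (iv D7438) F9318 (iv F8643) (iv F11488) (iv F15000)
def n14677 : Q := act 2 n11623
theorem D14677 : act 2 n11623 = n14677 := rfl
theorem F25320 : act 0 n14677 = n11639 := d1_1 D14677 (iv D11639) (iv F19542)
theorem F25321 : act 4 n14677 = n11687 := d10_2 (iv F19543) D14677 (iv D11687)
theorem F25322 : act 5 n14677 = n12377 := d11_2 F25318 D14677 (iv F25319)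
theorem F25323 : act 3 n14677 = n12367 := d15_1 D14677 (iv D12367) (iv D9646) F12317 (iv F11487) (iv F15026) D11638 F19574 (iv F19542)
def n14678 : Q := act 2 n11624
theorem D14678 : act 2 n11624 = n14678 := rfl
theorem F25324 : act 0 n14678 = n11628 := d1_1 D14678 (iv D11628) (iv F19544)
def n14679 : Q := act 5 n11624
theorem D14679 : act 5 n11624 = n14679 := rfl
theorem F25325 : act 0 n14679 = n11629 := d4_1 D14679 (iv D11629) (iv F19544)
theorem F25326 : act 3 n14679 = n11625 := d13_1 D14679 (iv D11625) D11624
def n14680 : Q := act 2 n11626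
theorem D14680 : act 2 n11626 = n14680 := rfl
theorem F25327 : act 4 n14680 = n11628 := d10_2 (iv F19549) D14680 (iv D11628)
def n14681 : Q := act 5 n11626
theorem D14681 : act 5 n11626 = n14681 := rfl
theorem F25328 : act 1 n14681 = n11633 := d8_1 D14681 (iv D11633) (iv F19548)
theorem F25329 : act 3 n14681 = n11627 := d13_1 D14681 (iv D11627) D11626
def n14682 : Q := act 1 n11628
theorem D14682 : act 1 n11628 = n14682 := rfl
theorem F25330 : act 2 n14682 = n11636 := d5_2 D11628 D14682 (iv D11636) (iv D9035) (iv F15007)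
theorem F25331 : act 5 n12270 = n14682 := d11_0 F25330 F19571 D12270
def n14683 : Q := act 3 n11628
theorem D14683 : act 3 n11628 = n14683 := rfl
def n14684 : Q := act 5 n11628
theorem D14684 : act 5 n11628 = n14684 := rfl
theorem F25332 : act 1 n14684 = n12270 := d8_1 D14684 F25331 (iv D14682)
theorem F25333 : act 2 n14684 = n11629 := d11_1 D14684 (iv D11629) D11628
def n14685 : Q := act 4 n11629
theorem D14685 : act 4 n11629 = n14685 := rfl
theorem F25334 : act 1 n14685 = n11637 := d7_1 D14685 (iv D11637) (iv F19552)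
theorem F25335 : act 3 n14685 = n12839 := d12_1 D14685 (iv D12839) F16770 (iv F15010) (iv F19553)
def n14686 : Q := act 5 n11630
theorem D14686 : act 5 n11630 = n14686 := rfl
theorem F25336 : act 0 n14686 = n11903 := d4_1 D14686 (iv D11903) (iv F19554)
theorem F25337 : act 1 n14686 = n11631 := d8_1 D14686 (iv D11631) (iv F19555)
theorem F25338 : act 3 n14686 = n11810 := d13_1 D14686 (iv D11810) (iv F19556)
theorem F25339 : act 4 n14686 = n11682 := d14_1 D14686 (iv D11682) (iv D9075) (iv F15013) D11630
def n14687 : Q := act 1 n11632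
theorem D14687 : act 1 n11632 = n14687 := rfl
theorem F25340 : act 4 n14687 = n11636 := d7_2 (iv F19561) D14687 (iv D11636)
def n14688 : Q := act 3 n11632
theorem D14688 : act 3 n11632 = n14688 := rfl
theorem F25341 : act 0 n14688 = n11813 := d2_1 D14688 (iv F25308) F25306
theorem F25342 : act 2 n14688 = n11792 := d9_1 D14688 F19862 F15285 (iv F15107) (iv F19531) (iv F25312) F25311 (iv D11812) (iv D9188) (iv D7055) (iv F11699) (iv F15016) F15015 D9032 D11632
theorem F25343 : act 4 n14688 = n11857 := d12_2 (iv F19561) D14688 F19965 (iv D9570) (iv F15021)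
theorem F25344 : act 5 n14688 = n11791 := d15_8 (iv D9188) (iv D7055) (iv F11699) (iv F15016) F15015 D9032 D11632 D14688 F19859
def n14689 : Q := act 5 n11632
theorem D14689 : act 5 n11632 = n14689 := rfl
theorem F25345 : act 0 n14689 = n11812 := d4_1 D14689 F25309 F25306
theorem F25346 : act 2 n14689 = n11633 := d11_1 D14689 (iv D11633) D11632
theorem F25347 : act 3 n14689 = n11791 := d13_1 D14689 (iv F25344) (iv D14688)
theorem F25348 : act 4 n14689 = n11858 := d14_1 D14689 F19966 (iv D9569) F15022 (iv F19561)
def n14690 : Q := act 4 n11633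
theorem D14690 : act 4 n11633 = n14690 := rfl
theorem F25349 : act 2 n14690 = n11858 := d10_1 D14690 (iv F25348) F25346
theorem F25350 : act 5 n14690 = n11637 := d14_2 D11633 D14690 (iv D11637) (iv D9036) (iv F15017)
def n14691 : Q := act 3 n11634
theorem D14691 : act 3 n11634 = n14691 := rfl
theorem F25351 : act 0 n14691 = n11688 := d2_1 D14691 F19659 (iv F19563)
theorem F25352 : act 1 n14691 = n12835 := d6_1 D14691 F21674 (iv F19564)
theorem F25353 : act 2 n14691 = n12390 := d9_1 D14691 (iv D12390) (iv D9666) (iv D7447) F9321 (iv F8705) (iv F11557) D9081 D11687 (iv F23952) F23951 F18458 F15560 (iv F15095) (iv F19565)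
theorem F25354 : act 5 n14691 = n11635 := d13_2 (iv F19566) D14691 (iv D11635)
def n14692 : Q := act 2 n11635
theorem D14692 : act 2 n11635 = n14692 := rfl
theorem F25355 : act 0 n14692 = n11687 := d1_1 D14692 (iv D11687) (iv F19567)
theorem F25356 : act 3 n14692 = n12391 := d9_2 D11635 D14692 F20922 F16136 F12329 (iv F11558) (iv F15105) (iv F19659) (iv F23948) (iv D13964) F18456 F14176 F11872 (iv F11551) (iv F15020)
theorem F25357 : act 4 n14692 = n11639 := d10_2 (iv F19569) D14692 (iv D11639)
theorem F25358 : act 5 n14692 = n12390 := d11_2 F25354 D14692 (iv F25353)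
def n14693 : Q := act 0 n11636
theorem D14693 : act 0 n11636 = n14693 := rfl
theorem F25359 : act 3 n14693 = n12269 := d2_2 (iv F19570) D14693 F20749
theorem F25360 : act 5 n14693 = n12268 := d4_2 (iv F19571) D14693 F20748
def n14694 : Q := act 3 n11637
theorem D14694 : act 3 n11637 = n14694 := rfl
theorem F25361 : act 1 n14694 = n12839 := d6_1 D14694 (iv F25335) F25334
theorem F25362 : act 4 n14694 = n11638 := d12_2 D11637 D14694 (iv D11638) (iv D9037) (iv F15024)
def n14695 : Q := act 2 n11638
theorem D14695 : act 2 n11638 = n14695 := rfl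
theorem F25363 : act 0 n14695 = n12377 := d1_1 D14695 (iv F25319) F25317
theorem F25364 : act 3 n14695 = n11869 := d9_2 D11638 D14695 F19976 F15396 F11756 (iv F11469) (iv F14999) D11623 D14677 F25323 (iv D12367) (iv D9646) F12317 (iv F11487) (iv F15026)
theorem F25365 : act 5 n14695 = n11639 := d11_2 (iv F19574) D14695 (iv D11639)
def n14696 : Q := act 1 n11639
theorem D14696 : act 1 n11639 = n14696 := rfl
theorem F25366 : act 2 n14696 = n12836 := d5_2 D11639 D14696 (iv D12836) (iv D10055) (iv F15028)
def n14697 : Q := act 3 n11639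
theorem D14697 : act 3 n11639 = n14697 := rfl
theorem F25367 : act 0 n14697 = n12367 := d2_1 D14697 (iv F25323) F25320
theorem F25368 : act 2 n14697 = n11870 := d9_1 D14697 F19978 F15404 (iv F15002) (iv F19540) D14676 F25319 (iv D12377) (iv D9654) (iv D7438) F9318 (iv F8643) (iv F11485) D9038 D11639
theorem F25369 : act 5 n14697 = n11869 := d13_2 F25365 D14697 (iv F25364)
def n14698 : Q := act 1 n11640
theorem D14698 : act 1 n11640 = n14698 := rfl
theorem F25370 : act 2 n14698 = n12852 := d5_2 D11640 D14698 (iv D12852) (iv D10067) (iv F15030)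
theorem F25371 : act 4 n14698 = n12831 := d7_2 (iv F19576) D14698 (iv D12831)
def n14699 : Q := act 3 n11640
theorem D14699 : act 3 n11640 = n14699 := rfl
theorem F25372 : act 0 n14699 = n11643 := d2_1 D14699 (iv D11643) (iv F19575)
def n14700 : Q := act 5 n11640
theorem D14700 : act 5 n11640 = n14700 := rfl
theorem F25373 : act 0 n14700 = n11644 := d4_1 D14700 (iv D11644) (iv F19575)
theorem F25374 : act 2 n14700 = n11641 := d11_1 D14700 (iv D11641) D11640
def n14701 : Q := act 0 n11642
theorem D14701 : act 0 n11642 = n14701 := rfl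
theorem F25375 : act 2 n14701 = n11645 := d1_2 (iv F19580) D14701 (iv D11645)
theorem F25376 : act 4 n14701 = n11668 := d3_2 (iv F19581) D14701 F19619
def n14702 : Q := act 3 n11642
theorem D14702 : act 3 n11642 = n14702 := rfl
theorem F25377 : act 1 n14702 = n11643 := d6_1 D14702 (iv D11643) D11642
def n14703 : Q := act 2 n11643
theorem D14703 : act 2 n11643 = n14703 := rfl
def n14704 : Q := act 4 n11643
theorem D14704 : act 4 n11643 = n14704 := rfl
theorem F25378 : act 3 n14704 = n12840 := d12_1 D14704 (iv D12840) (iv D10057) (iv F15035) D11643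
def n14705 : Q := act 5 n11643
theorem D14705 : act 5 n11643 = n14705 := rfl
theorem F25379 : act 3 n14705 = n11644 := d13_1 D14705 (iv D11644) D11643
def n14706 : Q := act 0 n11647
theorem D14706 : act 0 n11647 = n14706 := rfl
theorem F25380 : act 2 n14706 = n11651 := d1_2 (iv F19588) D14706 (iv D11651)
theorem F25381 : act 4 n14706 = n12234 := d3_2 (iv F19589) D14706 (iv D12234)
def n14707 : Q := act 3 n11647
theorem D14707 : act 3 n11647 = n14707 := rfl
theorem F25382 : act 1 n14707 = n11648 := d6_1 D14707 (iv D11648) D11647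
def n14708 : Q := act 5 n11647
theorem D14708 : act 5 n11647 = n14708 := rfl
theorem F25383 : act 1 n14708 = n11649 := d8_1 D14708 (iv D11649) D11647
theorem F25384 : act 2 n14708 = n11653 := d11_1 D14708 (iv D11653) (iv F19588)
def n14709 : Q := act 4 n11648
theorem D14709 : act 4 n11648 = n14709 := rfl
theorem F25385 : act 3 n14709 = n12237 := d12_1 D14709 (iv D12237) (iv D9538) (iv F15043) D11648
def n14710 : Q := act 4 n11649
theorem D14710 : act 4 n11649 = n14710 := rfl
theorem F25386 : act 2 n14710 = n11650 := d10_1 D14710 (iv D11650) (iv F19590)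
theorem F25387 : act 5 n14710 = n12239 := d14_2 D11649 D14710 (iv D12239) (iv D9539) (iv F15043)
def n14711 : Q := act 3 n11651
theorem D14711 : act 3 n11651 = n14711 := rfl
theorem F25388 : act 0 n14711 = n11652 := d2_1 D14711 (iv D11652) D11651
theorem F25389 : act 1 n14711 = n12268 := d6_1 D14711 (iv D12268) (iv F19594)
def n14712 : Q := act 5 n11651
theorem D14712 : act 5 n11651 = n14712 := rfl
theorem F25390 : act 0 n14712 = n11653 := d4_1 D14712 (iv D11653) D11651
theorem F25391 : act 1 n14712 = n12269 := d8_1 D14712 (iv D12269) (iv F19594)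
def n14713 : Q := act 2 n11652
theorem D14713 : act 2 n11652 = n14713 := rfl
def n14714 : Q := act 4 n11652
theorem D14714 : act 4 n11652 = n14714 := rfl
theorem F25392 : act 1 n14714 = n11654 := d7_1 D14714 (iv D11654) (iv F19596)
theorem F25393 : act 3 n14714 = n12083 := d12_1 D14714 (iv D12083) F15719 (iv F15046) D11652
def n14715 : Q := act 4 n11653
theorem D14715 : act 4 n11653 = n14715 := rfl
theorem F25394 : act 1 n14715 = n11655 := d7_1 D14715 (iv D11655) (iv F19597)
theorem F25395 : act 5 n14715 = n12082 := d14_2 D11653 D14715 (iv D12082) (iv F15717) (iv F15046)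
def n14716 : Q := act 5 n11654
theorem D14716 : act 5 n11654 = n14716 := rfl
theorem F25396 : act 0 n14716 = n11858 := d4_1 D14716 F19966 (iv F19598)
theorem F25397 : act 3 n14716 = n11820 := d13_1 D14716 F19903 (iv F19599)
theorem F25398 : act 4 n14716 = n11812 := d14_1 D14716 F25309 F25307 (iv F19535) D11654
def n14717 : Q := act 3 n11655
theorem D14717 : act 3 n11655 = n14717 := rfl
theorem F25399 : act 0 n14717 = n11857 := d2_1 D14717 F19965 (iv F19600)
theorem F25400 : act 4 n14717 = n11813 := d12_2 D11655 D14717 (iv F25308) F25307 F19534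
theorem F25401 : act 5 n14717 = n11821 := d13_2 (iv F19602) D14717 F19906
theorem F25402 : act 2 n11814 = n14717 := d11_3 F25401 F19905 (iv F19892)
def n14718 : Q := act 4 n11657
theorem D14718 : act 4 n11657 = n14718 := rfl
theorem F25403 : act 1 n14718 = n11660 := d7_1 D14718 (iv D11660) (iv F19604)
theorem F25404 : act 5 n14718 = n12623 := d14_2 (iv F23442) D14718 (iv D12623) F18044 (iv F23439)
def n14719 : Q := act 1 n11659
theorem D14719 : act 1 n11659 = n14719 := rfl
def n14720 : Q := act 4 n11659
theorem D14720 : act 4 n11659 = n14720 := rfl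
theorem F25405 : act 2 n14720 = n11660 := d10_1 D14720 (iv D11660) D11659
def n14721 : Q := act 5 n11660
theorem D14721 : act 5 n11660 = n14721 := rfl
theorem F25406 : act 1 n14721 = n12623 := d8_1 D14721 (iv F25404) F25403
theorem F25407 : act 4 n14721 = n12621 := d14_1 D14721 (iv F23448) F23447 (iv D11661) D11660
def n14722 : Q := act 3 n11662
theorem D14722 : act 3 n11662 = n14722 := rfl
theorem F25408 : act 1 n14722 = n12615 := d6_1 D14722 (iv F23062) F23060
theorem F25409 : act 4 n14722 = n12568 := d12_2 D11662 D14722 (iv F23446) F23447 F19607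
theorem F25410 : act 5 n14722 = n12707 := d13_2 (iv F19609) D14722 (iv F21806)
theorem F25411 : act 2 n14722 = n12569 := d15_2 (iv F19608) D14722 F21260 (iv F21418) F21786 F19094 F14684 (iv F18466) F18464
def n14723 : Q := act 1 n11668
theorem D14723 : act 1 n11668 = n14723 := rfl
theorem F25412 : act 0 n14723 = n12831 := d0_1 D14723 (iv D12831) F16767 (iv F15069) (iv F19619)
theorem F25413 : act 2 n14723 = n12854 := d5_2 D11668 D14723 F21696 F16809 (iv F15068)
def n14724 : Q := act 3 n11668
theorem D14724 : act 3 n11668 = n14724 := rfl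
theorem F25414 : act 0 n14724 = n11669 := d2_1 D14724 (iv D11669) (iv F19619)
theorem F25415 : act 2 n14724 = n11744 := d9_1 D14724 (iv D11744) F15223 F11731 (iv F11505) (iv F13493) (iv F17532) D13358 F22710 (iv D12368) (iv D9647) (iv D7432) (iv F11527) D9062 D11668
theorem F25416 : act 5 n14724 = n12372 := d13_2 F22705 D14724 F22706
def n14725 : Q := act 2 n11669
theorem D14725 : act 2 n11669 = n14725 := rfl
theorem F25417 : act 0 n14725 = n11744 := d1_1 D14725 (iv F25415) F25414
theorem F25418 : act 1 n14725 = n11746 := d5_1 D14725 (iv F22632) F22631 F17473 (iv F19620)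
theorem F25419 : act 3 n14725 = n11743 := d9_2 D11669 D14725 F19771 F15367 (iv F15041) (iv F17571) (iv F22704) (iv F22706) (iv D12372) (iv D9650) (iv D7434) (iv D5653) (iv F8676) D6955 D9063
theorem F25420 : act 5 n14725 = n12368 := d11_2 F22709 D14725 (iv F22710)
def n14726 : Q := act 4 n11669
theorem D14726 : act 4 n11669 = n14726 := rfl
theorem F25421 : act 1 n14726 = n12840 := d7_1 D14726 (iv D12840) (iv F19620)
def n14727 : Q := act 1 n11672
theorem D14727 : act 1 n11672 = n14727 := rfl
theorem F25422 : act 2 n14727 = n14572 := d5_2 D11672 D14727 F25072 F19367 (iv F15077)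
theorem F25423 : act 3 n14727 = n12869 := d6_2 (iv F19627) D14727 F21736
theorem F25424 : act 4 n14727 = n11986 := d7_2 (iv F19626) D14727 (iv D11986)
theorem F25425 : act 5 n14727 = n12868 := d8_2 F19628 D14727 F21735
def n14728 : Q := act 4 n11673
theorem D14728 : act 4 n11673 = n14728 := rfl
theorem F25426 : act 0 n14728 = n11679 := d3_1 D14728 (iv D11679) (iv F19629)
theorem F25427 : act 1 n14728 = n14574 := d7_1 D14728 F25077 (iv F19630)
theorem F25428 : act 2 n14728 = n12870 := d10_1 D14728 (iv D12870) (iv F19631)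
theorem F25429 : act 5 n14728 = n11989 := d14_2 D11673 D14728 (iv D11989) (iv D9341) (iv F15078)
def n14729 : Q := act 1 n11674
theorem D14729 : act 1 n11674 = n14729 := rfl
theorem F25430 : act 2 n14729 = n14584 := d5_2 D11674 D14729 (iv D14584) (iv D11548) (iv F15082)
theorem F25431 : act 4 n14729 = n11676 := d7_2 (iv F19634) D14729 (iv D11676)
def n14730 : Q := act 3 n11674
theorem D14730 : act 3 n11674 = n14730 := rfl
theorem F25432 : act 0 n14730 = n11987 := d2_1 D14730 (iv D11987) (iv F19633)
theorem F25433 : act 2 n14730 = n11992 := d9_1 D14730 F20218 F15620 F11930 (iv F11926) (iv F15614) (iv F20210) F20211 (iv D10075) (iv D7778) F11922 (iv D7180) (iv F11539) D9069 D11674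
theorem F25434 : act 5 n14730 = n11991 := d15_8 (iv D10075) (iv D7778) F11922 (iv D7180) (iv F11539) D9069 D11674 D14730 F20215
def n14731 : Q := act 5 n11674
theorem D14731 : act 5 n11674 = n14731 := rfl
theorem F25435 : act 0 n14731 = n11988 := d4_1 D14731 (iv D11988) (iv F19633)
theorem F25436 : act 2 n14731 = n11675 := d11_1 D14731 (iv D11675) D11674
theorem F25437 : act 3 n14731 = n11991 := d13_1 D14731 (iv F25434) (iv D14730)
def n14732 : Q := act 4 n11675
theorem D14732 : act 4 n11675 = n14732 := rfl
theorem F25438 : act 0 n14732 = n11989 := d3_1 D14732 (iv D11989) (iv F19635)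
theorem F25439 : act 1 n14732 = n14586 := d7_1 D14732 (iv D14586) (iv F19636)
theorem F25440 : act 5 n14732 = n11679 := d14_2 D11675 D14732 (iv D11679) (iv D9072) (iv F15083)
def n14733 : Q := act 0 n11676
theorem D14733 : act 0 n11676 = n14733 := rfl
def n14734 : Q := act 3 n11676
theorem D14734 : act 3 n11676 = n14734 := rfl
theorem F25441 : act 1 n14734 = n11677 := d6_1 D14734 (iv D11677) D11676
theorem F25442 : act 5 n12847 = n14734 := d8_0 F25441 F19640 D12847
def n14735 : Q := act 5 n11676
theorem D14735 : act 5 n11676 = n14735 := rfl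
theorem F25443 : act 1 n14735 = n11678 := d8_1 D14735 (iv D11678) D11676
theorem F25444 : act 3 n14735 = n12847 := d13_1 D14735 F25442 (iv D14734)
def n14736 : Q := act 4 n11677
theorem D14736 : act 4 n11677 = n14736 := rfl
theorem F25445 : act 0 n14736 = n12871 := d3_1 D14736 (iv D12871) (iv F19638)
theorem F25446 : act 2 n14736 = n12848 := d10_1 D14736 (iv D12848) (iv F19639)
def n14737 : Q := act 4 n11678
theorem D14737 : act 4 n11678 = n14737 := rfl
theorem F25447 : act 0 n14737 = n12870 := d3_1 D14737 (iv D12870) (iv F19641)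
theorem F25448 : act 2 n14737 = n11679 := d10_1 D14737 (iv D11679) (iv F19642)
def n14738 : Q := act 5 n11680
theorem D14738 : act 5 n11680 = n14738 := rfl
theorem F25449 : act 0 n14738 = n11682 := d4_1 D14738 (iv D11682) (iv F19644)
theorem F25450 : act 1 n14738 = n11683 := d8_1 D14738 (iv D11683) (iv F19645)
theorem F25451 : act 3 n14738 = n12331 := d13_1 D14738 (iv D12331) (iv F19646)
theorem F25452 : act 4 n14738 = n11903 := d14_1 D14738 (iv D11903) (iv D9264) (iv F15090) D11680
def n14739 : Q := act 3 n11681
theorem D14739 : act 3 n11681 = n14739 := rfl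
theorem F25453 : act 1 n14739 = n12832 := d6_1 D14739 (iv D12832) (iv F19647)
def n14740 : Q := act 5 n11681
theorem D14740 : act 5 n11681 = n14740 := rfl
theorem F25454 : act 1 n14740 = n12833 := d8_1 D14740 (iv D12833) (iv F19647)
theorem F25455 : act 2 n14740 = n11682 := d11_1 D14740 (iv D11682) (iv F19648)
def n14741 : Q := act 3 n11684
theorem D14741 : act 3 n11684 = n14741 := rfl
theorem F25456 : act 0 n14741 = n11685 := d2_1 D14741 (iv D11685) (iv F19655)
theorem F25457 : act 1 n14741 = n12827 := d6_1 D14741 (iv D12827) (iv F19656)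
theorem F25458 : act 4 n14741 = n12825 := d12_2 D11684 D14741 (iv D12825) (iv D10047) (iv F15103)
def n14742 : Q := act 5 n11684
theorem D14742 : act 5 n11684 = n14742 := rfl
theorem F25459 : act 0 n14742 = n11686 := d4_1 D14742 (iv D11686) (iv F19655)
theorem F25460 : act 1 n14742 = n12828 := d8_1 D14742 (iv D12828) (iv F19656)
def n14743 : Q := act 2 n11685
theorem D14743 : act 2 n11685 = n14743 := rfl
def n14744 : Q := act 5 n11685
theorem D14744 : act 5 n11685 = n14744 := rfl
theorem F25461 : act 1 n14744 = n11688 := d8_1 D14744 (iv D11688) (iv F19657)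
theorem F25462 : act 3 n14744 = n11686 := d13_1 D14744 (iv D11686) D11685
def n14745 : Q := act 1 n11687
theorem D14745 : act 1 n11687 = n14745 := rfl
def n14746 : Q := act 4 n11688
theorem D14746 : act 4 n11688 = n14746 := rfl
def n14747 : Q := act 1 n11689
theorem D14747 : act 1 n11689 = n14747 := rfl
theorem F25463 : act 2 n14747 = n11692 := d5_2 D11689 D14747 (iv D11692) (iv D9087) (iv F15110)
theorem F25464 : act 4 n14747 = n12063 := d7_2 (iv F19661) D14747 (iv D12063)
theorem F25465 : act 5 n14747 = n12343 := d8_2 (iv F19662) D14747 F21780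
def n14748 : Q := act 3 n11689
theorem D14748 : act 3 n11689 = n14748 := rfl
theorem F25466 : act 0 n14748 = n11976 := d2_1 D14748 (iv D11976) (iv F19660)
theorem F25467 : act 5 n14748 = n12891 := d13_2 (iv F19662) D14748 (iv D12891)
theorem F25468 : act 2 n14748 = n12906 := d15_2 D11689 D14748 (iv D12906) (iv D10113) (iv D7811) (iv F11888) (iv F15578) (iv D9328) (iv F15109)
def n14749 : Q := act 1 n11690
theorem D14749 : act 1 n11690 = n14749 := rfl
theorem F25469 : act 2 n14749 = n12063 := d5_2 D11690 D14749 (iv D12063) (iv D9408) (iv F15114)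
theorem F25470 : act 4 n14749 = n11692 := d7_2 (iv F19664) D14749 (iv D11692)
theorem F25471 : act 3 n14380 = n14749 := d12_5 F25470 F19669 (iv F19674) F21796 (iv F24728)
theorem F25472 : act 5 n14379 = n14749 := d14_0 F25470 F19670 (iv F21779) (iv F20867) (iv F24725)
theorem F25473 : act 0 n14749 = n14422 := d4_1 F25472 (iv D14422) (iv F24724)
def n14750 : Q := act 3 n11690
theorem D14750 : act 3 n11690 = n14750 := rfl
theorem F25474 : act 0 n14750 = n11696 := d2_1 D14750 (iv D11696) (iv F19663)
theorem F25475 : act 1 n14750 = n14380 := d6_1 D14750 F25471 (iv D14749)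
theorem F25476 : act 4 n14750 = n11696 := d12_2 (iv F19664) D14750 (iv D11696) F15126 (iv F15120)
theorem F25477 : act 5 n14750 = n14378 := d15_8 (iv F24640) F24641 (iv D14187) (iv D11172) F14371 D9085 D11690 D14750 F24721
theorem F25478 : act 2 n14381 = n14750 := d11_3 F25477 F24723 D14381
def n14751 : Q := act 5 n11690
theorem D14751 : act 5 n11690 = n14751 := rfl
theorem F25479 : act 0 n14751 = n11697 := d4_1 D14751 (iv D11697) (iv F19663)
theorem F25480 : act 1 n14751 = n14379 := d8_1 D14751 F25472 (iv D14749)
theorem F25481 : act 2 n14751 = n11691 := d11_1 D14751 (iv D11691) D11690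
theorem F25482 : act 3 n14751 = n14378 := d13_1 D14751 (iv F25477) (iv D14750)
theorem F25483 : act 4 n14751 = n12894 := d14_1 D14751 (iv D12894) F16820 (iv F15121) (iv F19664)
def n14752 : Q := act 0 n11692
theorem D14752 : act 0 n11692 = n14752 := rfl
theorem F25484 : act 1 n14752 = n11698 := d0_2 D11692 D14752 (iv D11698) (iv D9092) (iv F15119)
theorem F25485 : act 3 n14752 = n11698 := d2_2 (iv F19669) D14752 (iv D11698)
theorem F25486 : act 4 n14752 = n14422 := d3_2 F25470 D14752 (iv F25473)
theorem F25487 : act 5 n14752 = n12895 := d4_2 (iv F19670) D14752 (iv D12895)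
def n14753 : Q := act 5 n11693
theorem D14753 : act 5 n11693 = n14753 := rfl
theorem F25488 : act 1 n14753 = n14382 := d8_1 D14753 (iv D14382) (iv F23273)
theorem F25489 : act 2 n14753 = n11694 := d11_1 D14753 (iv D11694) D11693
theorem F25490 : act 3 n14753 = n14381 := d13_1 D14753 (iv D14381) F23274
def n14754 : Q := act 4 n11694
theorem D14754 : act 4 n11694 = n14754 := rfl
theorem F25491 : act 1 n14754 = n12062 := d7_1 D14754 (iv D12062) (iv F19671)
theorem F25492 : act 3 n14754 = n11989 := d12_1 D14754 (iv D11989) F15614 (iv F15125) (iv F19672)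
def n14755 : Q := act 0 n11695
theorem D14755 : act 0 n11695 = n14755 := rfl
theorem F25493 : act 1 n14755 = n14422 := d0_2 D11695 D14755 (iv F25473) (iv D14749) F19663
theorem F25494 : act 2 n14755 = n11980 := d1_2 (iv F19673) D14755 (iv D11980)
theorem F25495 : act 3 n14755 = n14420 := d2_2 (iv F21796) D14755 F24785
theorem F25496 : act 4 n14755 = n11698 := d3_2 (iv F19674) D14755 (iv D11698)
theorem F25497 : act 5 n14755 = n12672 := d4_2 F19675 D14755 F21414
def n14756 : Q := act 2 n11696
theorem D14756 : act 2 n11696 = n14756 := rfl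
theorem F25498 : act 0 n14756 = n14381 := d1_1 D14756 F25478 F25474
theorem F25499 : act 1 n14756 = n14349 := d5_1 D14756 F24649 F19049 (iv F19134) F21797
theorem F25500 : act 4 n14756 = n14381 := d10_2 F25476 D14756 F25478
theorem F25501 : act 5 n14756 = n14346 := d11_2 (iv F21798) D14756 F24640
def n14757 : Q := act 1 n11699
theorem D14757 : act 1 n11699 = n14757 := rfl
theorem F25502 : act 2 n14757 = n11700 := d5_2 D11699 D14757 (iv D11700) (iv D9094) (iv F15133)
theorem F25503 : act 5 n14757 = n12123 := d8_2 (iv F19682) D14757 F20448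
def n14758 : Q := act 3 n11699
theorem D14758 : act 3 n11699 = n14758 := rfl
theorem F25504 : act 0 n14758 = n11959 := d2_1 D14758 (iv D11959) (iv F19681)
theorem F25505 : act 5 n14758 = n12906 := d13_2 (iv F19682) D14758 (iv D12906)
theorem F25506 : act 2 n14758 = n12891 := d15_2 D11699 D14758 (iv D12891) (iv D10099) (iv D7798) (iv F11852) D9298 F15531 (iv F15132)
def n14759 : Q := act 0 n11700
theorem D14759 : act 0 n11700 = n14759 := rfl
theorem F25507 : act 1 n14759 = n11704 := d0_2 D11700 D14759 (iv D11704) (iv D9097) (iv F15135)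
theorem F25508 : act 3 n14759 = n12122 := d2_2 (iv F19683) D14759 F20446
theorem F25509 : act 5 n14759 = n12121 := d4_2 (iv F19684) D14759 F20444
def n14760 : Q := act 0 n11701
theorem D14760 : act 0 n11701 = n14760 := rfl
theorem F25510 : act 2 n14760 = n11970 := d1_2 (iv F19685) D14760 (iv D11970)
theorem F25511 : act 4 n14760 = n11704 := d3_2 (iv F19686) D14760 (iv D11704)
def n14761 : Q := act 3 n11701
theorem D14761 : act 3 n11701 = n14761 := rfl
theorem F25512 : act 1 n14761 = n11702 := d6_1 D14761 (iv D11702) D11701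
theorem F25513 : act 5 n14114 = n14761 := d8_0 F25512 (iv F19688) D14114
def n14762 : Q := act 5 n11701
theorem D14762 : act 5 n11701 = n14762 := rfl
theorem F25514 : act 1 n14762 = n11703 := d8_1 D14762 (iv D11703) D11701
theorem F25515 : act 2 n14762 = n11972 := d11_1 D14762 (iv D11972) (iv F19685)
theorem F25516 : act 3 n14762 = n14114 := d13_1 D14762 F25513 (iv D14761)
theorem F25517 : act 4 n14762 = n12917 := d14_1 D14762 F21861 F16843 (iv F15143) (iv F19686)
def n14763 : Q := act 4 n11702
theorem D14763 : act 4 n11702 = n14763 := rfl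
theorem F25518 : act 0 n14763 = n12127 := d3_1 D14763 (iv F23140) F23139
theorem F25519 : act 2 n14763 = n14115 := d10_1 D14763 (iv D14115) (iv F19687)
theorem F25520 : act 3 n14763 = n11706 := d12_1 D14763 (iv D11706) (iv D9098) (iv F15138) D11702
def n14764 : Q := act 3 n11704
theorem D14764 : act 3 n11704 = n14764 := rfl
theorem F25521 : act 0 n14764 = n11705 := d2_1 D14764 (iv D11705) D11704
theorem F25522 : act 1 n14764 = n12122 := d6_1 D14764 (iv F25508) F25507
theorem F25523 : act 5 n14764 = n12115 := d13_2 (iv F19693) D14764 F20434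
def n14765 : Q := act 2 n11705
theorem D14765 : act 2 n11705 = n14765 := rfl
theorem F25524 : act 1 n14765 = n12113 := d5_1 D14765 F20429 F15766 (iv F15145) (iv F19694)
theorem F25525 : act 5 n14765 = n12111 := d11_2 (iv F19695) D14765 F20426
def n14766 : Q := act 4 n11705
theorem D14766 : act 4 n11705 = n14766 := rfl
theorem F25526 : act 1 n14766 = n11706 := d7_1 D14766 (iv D11706) (iv F19694)
def n14767 : Q := act 1 n11707
theorem D14767 : act 1 n11707 = n14767 := rfl
theorem F25527 : act 2 n14767 = n11709 := d5_2 D11707 D14767 (iv D11709) (iv D9102) (iv F15149)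
def n14768 : Q := act 3 n11707
theorem D14768 : act 3 n11707 = n14768 := rfl
def n14769 : Q := act 5 n11707
theorem D14769 : act 5 n11707 = n14769 := rfl
theorem F25528 : act 2 n14769 = n11708 := d11_1 D14769 (iv D11708) D11707
def n14770 : Q := act 4 n11708
theorem D14770 : act 4 n11708 = n14770 := rfl
theorem F25529 : act 1 n14770 = n11712 := d7_1 D14770 (iv D11712) (iv F19698)
theorem F25530 : act 3 n14770 = n14072 := d12_1 D14770 F24112 F18585 F16620 (iv F19699)
theorem F25531 : act 5 n14770 = n14071 := d14_2 D11708 D14770 F24110 F18588 F16048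
def n14771 : Q := act 0 n11709
theorem D14771 : act 0 n11709 = n14771 := rfl
def n14772 : Q := act 3 n11709
theorem D14772 : act 3 n11709 = n14772 := rfl
theorem F25532 : act 1 n14772 = n11710 := d6_1 D14772 (iv D11710) D11709
theorem F25533 : act 4 n14772 = n12385 := d12_2 (iv F20742) D14772 F20918 (iv D12266) (iv F20741)
theorem F25534 : act 2 n11933 = n14772 := d10_3 F25533 F20917 (iv F20101)
theorem F25535 : act 5 n11919 = n14772 := d14_0 F25533 (iv D12385) (iv D9660) (iv F15491) (iv F20077)
def n14773 : Q := act 5 n11709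
theorem D14773 : act 5 n11709 = n14773 := rfl
theorem F25536 : act 1 n14773 = n11711 := d8_1 D14773 (iv D11711) D11709
theorem F25537 : act 3 n14773 = n11919 := d13_1 D14773 F25535 (iv D14772)
def n14774 : Q := act 5 n11713
theorem D14774 : act 5 n11713 = n14774 := rfl
theorem F25538 : act 0 n14774 = n11715 := d4_1 D14774 (iv D11715) (iv F19710)
theorem F25539 : act 1 n14774 = n11723 := d8_1 D14774 (iv D11723) (iv F19711)
theorem F25540 : act 2 n14774 = n11784 := d11_1 D14774 (iv D11784) (iv F19712)
theorem F25541 : act 4 n14774 = n11762 := d14_1 D14774 (iv D11762) (iv D9150) F15154 D11713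
def n14775 : Q := act 4 n11715
theorem D14775 : act 4 n11715 = n14775 := rfl
theorem F25542 : act 0 n14775 = n11762 := d3_1 D14775 (iv F25541) F25538
theorem F25543 : act 1 n14775 = n11719 := d7_1 D14775 (iv D11719) (iv F19721)
theorem F25544 : act 2 n14775 = n11789 := d10_1 D14775 (iv D11789) (iv F19722)
theorem F25545 : act 5 n14775 = n11716 := d14_2 D11715 D14775 (iv D11716) (iv D9107) D9106
def n14776 : Q := act 3 n11716
theorem D14776 : act 3 n11716 = n14776 := rfl
theorem F25546 : act 0 n14776 = n11761 := d2_1 D14776 (iv D11761) (iv F19723)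
theorem F25547 : act 1 n14776 = n11720 := d6_1 D14776 (iv D11720) (iv F19724)
theorem F25548 : act 4 n14776 = n12887 := d12_2 D11716 D14776 (iv D12887) (iv D10096) (iv F15165)
def n14777 : Q := act 3 n11719
theorem D14777 : act 3 n11719 = n14777 := rfl
theorem F25549 : act 0 n14777 = n11737 := d2_1 D14777 (iv D11737) (iv F19732)
theorem F25550 : act 5 n14777 = n11720 := d13_2 (iv F19734) D14777 (iv D11720)
def n14778 : Q := act 2 n11720
theorem D14778 : act 2 n11720 = n14778 := rfl
theorem F25551 : act 0 n14778 = n11738 := d1_1 D14778 (iv D11738) (iv F19735)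
theorem F25552 : act 3 n14778 = n12048 := d15_1 D14778 (iv D12048) (iv D9396) F11993 (iv F11625) (iv F15209) D11737 F19765 (iv F19735)
def n14779 : Q := act 3 n11721
theorem D14779 : act 3 n11721 = n14779 := rfl
theorem F25553 : act 0 n14779 = n11739 := d2_1 D14779 (iv D11739) (iv F19736)
theorem F25554 : act 1 n14779 = n12374 := d6_1 D14779 (iv D12374) (iv F19737)
theorem F25555 : act 5 n14779 = n12035 := d13_2 (iv F19739) D14779 (iv D12035)
def n14780 : Q := act 2 n11722
theorem D14780 : act 2 n11722 = n14780 := rfl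
theorem F25556 : act 0 n14780 = n11726 := d1_1 D14780 (iv D11726) (iv F19740)
def n14781 : Q := act 5 n11722
theorem D14781 : act 5 n11722 = n14781 := rfl
theorem F25557 : act 0 n14781 = n11727 := d4_1 D14781 (iv D11727) (iv F19740)
theorem F25558 : act 3 n14781 = n11723 := d13_1 D14781 (iv D11723) D11722
def n14782 : Q := act 2 n11724
theorem D14782 : act 2 n11724 = n14782 := rfl
theorem F25559 : act 4 n14782 = n11726 := d10_2 (iv F19745) D14782 (iv D11726)
def n14783 : Q := act 5 n11724
theorem D14783 : act 5 n11724 = n14783 := rfl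
theorem F25560 : act 1 n14783 = n11732 := d8_1 D14783 (iv D11732) (iv F19744)
theorem F25561 : act 3 n14783 = n11725 := d13_1 D14783 (iv D11725) D11724
def n14784 : Q := act 1 n11726
theorem D14784 : act 1 n11726 = n14784 := rfl
theorem F25562 : act 2 n14784 = n11735 := d5_2 D11726 D14784 (iv D11735) (iv D9126) (iv F15195)
def n14785 : Q := act 3 n11726
theorem D14785 : act 3 n11726 = n14785 := rfl
def n14786 : Q := act 5 n11726
theorem D14786 : act 5 n11726 = n14786 := rfl
theorem F25563 : act 2 n14786 = n11727 := d11_1 D14786 (iv D11727) D11726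
def n14787 : Q := act 4 n11727
theorem D14787 : act 4 n11727 = n14787 := rfl
theorem F25564 : act 1 n14787 = n11736 := d7_1 D14787 (iv D11736) (iv F19748)
theorem F25565 : act 3 n14787 = n11777 := d12_1 D14787 (iv D11777) F15269 (iv F15198) (iv F19749)
def n14788 : Q := act 3 n11728
theorem D14788 : act 3 n11728 = n14788 := rfl
theorem F25566 : act 0 n14788 = n11990 := d2_1 D14788 (iv D11990) (iv F19750)
theorem F25567 : act 1 n14788 = n11729 := d6_1 D14788 (iv D11729) (iv F19751)
theorem F25568 : act 4 n14788 = n12841 := d12_2 D11728 D14788 (iv D12841) (iv D10058) (iv F15201)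
theorem F25569 : act 2 n14788 = n14415 := d15_2 (iv F19752) D14788 (iv D14415) (iv D11375) (iv D8835) F11197 D8775 (iv F14562) D9345
def n14789 : Q := act 5 n11729
theorem D14789 : act 5 n11729 = n14789 := rfl
theorem F25570 : act 0 n14789 = n12858 := d4_1 D14789 (iv D12858) (iv F19753)
theorem F25571 : act 3 n14789 = n11730 := d13_1 D14789 (iv D11730) D11729
def n14790 : Q := act 1 n11731
theorem D14790 : act 1 n11731 = n14790 := rfl
theorem F25572 : act 0 n14790 = n13851 := d0_1 D14790 F23742 F18280 D10904 (iv F19757)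
theorem F25573 : act 4 n14790 = n11735 := d7_2 (iv F19758) D14790 (iv D11735)
theorem F25574 : act 3 n13848 = n14790 := d2_0 F25572 F23743 (iv F23738)
theorem F25575 : act 5 n13847 = n14790 := d4_0 F25572 (iv D13851) (iv F23737)
def n14791 : Q := act 3 n11731
theorem D14791 : act 3 n11731 = n14791 := rfl
theorem F25576 : act 0 n14791 = n13844 := d2_1 D14791 F23725 (iv F19757)
theorem F25577 : act 1 n14791 = n13848 := d6_1 D14791 F25574 (iv D14790)
theorem F25578 : act 5 n14791 = n13842 := d15_8 F18259 D12578 (iv F21720) (iv D11729) F15204 D9123 D11731 D14791 (iv D13842)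
theorem F25579 : act 2 n14578 = n14791 := d15_0 (iv D14791) (iv D11731) (iv D9123) (iv F15204) D11729 F21720 (iv D12578) D12579 (iv F25083)
def n14792 : Q := act 5 n11731
theorem D14792 : act 5 n11731 = n14792 := rfl
theorem F25580 : act 0 n14792 = n13843 := d4_1 D14792 F23721 (iv F19757)
theorem F25581 : act 1 n14792 = n13847 := d8_1 D14792 F25575 (iv D14790)
theorem F25582 : act 2 n14792 = n11732 := d11_1 D14792 (iv D11732) D11731
theorem F25583 : act 3 n14792 = n13842 := d13_1 D14792 (iv F25578) (iv D14791)
def n14793 : Q := act 4 n11732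
theorem D14793 : act 4 n11732 = n14793 := rfl
theorem F25584 : act 5 n14793 = n11736 := d14_2 D11732 D14793 (iv D11736) (iv D9127) (iv F15205)
def n14794 : Q := act 3 n11733
theorem D14794 : act 3 n11733 = n14794 := rfl
theorem F25585 : act 1 n14794 = n11773 := d6_1 D14794 F19830 (iv F19760)
theorem F25586 : act 5 n14794 = n11734 := d13_2 (iv F19761) D14794 (iv D11734)
def n14795 : Q := act 2 n11734
theorem D14795 : act 2 n11734 = n14795 := rfl
theorem F25587 : act 1 n14795 = n12353 := d5_1 D14795 (iv D12353) F19828 (iv D11772) (iv F19762)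
theorem F25588 : act 4 n14795 = n11738 := d10_2 (iv F19763) D14795 (iv D11738)
def n14796 : Q := act 0 n11735
theorem D14796 : act 0 n11735 = n14796 := rfl
theorem F25589 : act 1 n14796 = n13855 := d0_2 D11735 D14796 F23751 (iv F19716) F16603
theorem F25590 : act 4 n14796 = n13851 := d3_2 F25573 D14796 (iv F25572)
def n14797 : Q := act 3 n11736
theorem D14797 : act 3 n11736 = n14797 := rfl
theorem F25591 : act 1 n14797 = n11777 := d6_1 D14797 (iv F25565) F25564
theorem F25592 : act 4 n14797 = n11737 := d12_2 D11736 D14797 (iv D11737) (iv D9128) (iv F15207)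
def n14798 : Q := act 2 n11737
theorem D14798 : act 2 n11737 = n14798 := rfl
theorem F25593 : act 5 n14798 = n11738 := d11_2 (iv F19765) D14798 (iv D11738)
def n14799 : Q := act 1 n11738
theorem D14799 : act 1 n11738 = n14799 := rfl
theorem F25594 : act 2 n14799 = n11774 := d5_2 D11738 D14799 (iv D11774) (iv D9159) (iv F15211)
theorem F25595 : act 4 n14799 = n12353 := d7_2 F25588 D14799 (iv F25587)
theorem F25596 : act 0 n12358 = n14799 := d3_3 F25595 F20876 D12358
def n14800 : Q := act 3 n11738
theorem D14800 : act 3 n11738 = n14800 := rfl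
theorem F25597 : act 0 n14800 = n12048 := d2_1 D14800 (iv F25552) F25551
theorem F25598 : act 2 n14800 = n12035 := d15_2 D11738 D14800 (iv D12035) F15678 (iv F15175) (iv F19733) D14777 F25550 F19735
def n14801 : Q := act 2 n11739
theorem D14801 : act 2 n11739 = n14801 := rfl
theorem F25599 : act 5 n14801 = n12048 := d11_2 (iv F19766) D14801 (iv D12048)
def n14802 : Q := act 4 n11739
theorem D14802 : act 4 n11739 = n14802 := rfl
theorem F25600 : act 3 n14802 = n11740 := d12_1 D14802 (iv D11740) (iv D9131) (iv F15212) D11739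
def n14803 : Q := act 5 n11740
theorem D14803 : act 5 n11740 = n14803 := rfl
theorem F25601 : act 2 n14803 = n12322 := d11_1 D14803 (iv D12322) (iv F19767)
theorem F25602 : act 4 n14803 = n11751 := d14_1 D14803 (iv D11751) (iv D9140) (iv F15214) D11740
def n14804 : Q := act 1 n11741
theorem D14804 : act 1 n11741 = n14804 := rfl
theorem F25603 : act 2 n14804 = n11828 := d5_2 D11741 D14804 (iv D11828) (iv D9202) (iv F15217)
theorem F25604 : act 4 n14804 = n11767 := d7_2 (iv F19769) D14804 (iv D11767)
def n14805 : Q := act 3 n11741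
theorem D14805 : act 3 n11741 = n14805 := rfl
theorem F25605 : act 0 n14805 = n11742 := d2_1 D14805 (iv D11742) (iv F19768)
def n14806 : Q := act 2 n11742
theorem D14806 : act 2 n11742 = n14806 := rfl
def n14807 : Q := act 4 n11742
theorem D14807 : act 4 n11742 = n14807 := rfl
theorem F25606 : act 3 n14807 = n11781 := d12_1 D14807 (iv D11781) (iv D9162) (iv F15222) D11742
def n14808 : Q := act 4 n11744
theorem D14808 : act 4 n11744 = n14808 := rfl
theorem F25607 : act 1 n14808 = n11745 := d7_1 D14808 (iv D11745) (iv F19774)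
theorem F25608 : act 3 n14808 = n12032 := d12_1 D14808 (iv D12032) (iv D9382) (iv F15224) D11744
def n14809 : Q := act 5 n11745
theorem D14809 : act 5 n11745 = n14809 := rfl
theorem F25609 : act 0 n14809 = n11751 := d4_1 D14809 (iv D11751) (iv F19776)
theorem F25610 : act 3 n14809 = n12034 := d13_1 D14809 (iv D12034) (iv F19777)
def n14810 : Q := act 4 n11746
theorem D14810 : act 4 n11746 = n14810 := rfl
theorem F25611 : act 0 n14810 = n11748 := d3_1 D14810 (iv D11748) (iv F19778)
theorem F25612 : act 3 n14810 = n12037 := d12_1 D14810 (iv D12037) (iv D9386) (iv F15228) D11746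
def n14811 : Q := act 4 n11747
theorem D14811 : act 4 n11747 = n14811 := rfl
theorem F25613 : act 2 n14811 = n11748 := d10_1 D14811 (iv D11748) D11747
def n14812 : Q := act 5 n11748
theorem D14812 : act 5 n11748 = n14812 := rfl
theorem F25614 : act 1 n14812 = n11751 := d8_1 D14812 (iv D11751) (iv F19779)
theorem F25615 : act 3 n14812 = n12042 := d13_1 D14812 (iv F20293) (iv F19780)
def n14813 : Q := act 4 n11749
theorem D14813 : act 4 n11749 = n14813 := rfl
theorem F25616 : act 1 n14813 = n11750 := d7_1 D14813 (iv D11750) D11749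
def n14814 : Q := act 3 n11750
theorem D14814 : act 3 n11750 = n14814 := rfl
theorem F25617 : act 0 n14814 = n12882 := d2_1 D14814 (iv F25269) F25267
theorem F25618 : act 4 n14814 = n12323 := d12_2 D11750 D14814 (iv D12323) (iv D9614) (iv F15231)
def n14815 : Q := act 5 n11750
theorem D14815 : act 5 n11750 = n14815 := rfl
theorem F25619 : act 2 n14815 = n11751 := d11_1 D14815 (iv D11751) (iv F19783)
theorem F25620 : act 4 n14815 = n12322 := d14_1 D14815 (iv D12322) (iv D9613) (iv F15230) D11750
def n14816 : Q := act 2 n11753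
theorem D14816 : act 2 n11753 = n14816 := rfl
theorem F25621 : act 0 n14816 = n11756 := d1_1 D14816 (iv D11756) (iv F19789)
def n14817 : Q := act 1 n11755
theorem D14817 : act 1 n11755 = n14817 := rfl
theorem F25622 : act 2 n14817 = n12797 := d5_2 D11755 D14817 (iv D12797) (iv D10022) (iv F15243)
theorem F25623 : act 4 n14817 = n12810 := d7_2 (iv F19795) D14817 (iv D12810)
def n14818 : Q := act 3 n11756
theorem D14818 : act 3 n11756 = n14818 := rfl
def n14819 : Q := act 0 n11757
theorem D14819 : act 0 n11757 = n14819 := rfl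
theorem F25624 : act 2 n14819 = n11759 := d1_2 (iv F19796) D14819 (iv D11759)
theorem F25625 : act 4 n14819 = n12813 := d3_2 (iv F19797) D14819 (iv D12813)
def n14820 : Q := act 3 n11757
theorem D14820 : act 3 n11757 = n14820 := rfl
theorem F25626 : act 1 n14820 = n11758 := d6_1 D14820 (iv D11758) D11757
def n14821 : Q := act 4 n11758
theorem D14821 : act 4 n11758 = n14821 := rfl
theorem F25627 : act 3 n14821 = n12815 := d12_1 D14821 (iv D12815) (iv D10034) (iv F15249) D11758
def n14822 : Q := act 3 n11760
theorem D14822 : act 3 n11760 = n14822 := rfl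
theorem F25628 : act 0 n14822 = n12887 := d2_1 D14822 (iv D12887) (iv F19800)
theorem F25629 : act 1 n14822 = n11763 := d6_1 D14822 (iv D11763) (iv F19801)
theorem F25630 : act 4 n14822 = n11761 := d12_2 D11760 D14822 (iv D11761) (iv D9150) D9149
theorem F25631 : act 5 n14822 = n12348 := d13_2 F24577 D14822 F24578
theorem F25632 : act 2 n12326 = n14822 := d11_3 F25631 (iv D12348) (iv F20837)
def n14823 : Q := act 2 n11761
theorem D14823 : act 2 n11761 = n14823 := rfl
theorem F25633 : act 1 n14823 = n11827 := d5_1 D14823 (iv D11827) F19811 (iv D11765) (iv F19803)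
theorem F25634 : act 4 n14823 = n12326 := d10_2 F25630 D14823 F25632
def n14824 : Q := act 5 n11761
theorem D14824 : act 5 n11761 = n14824 := rfl
theorem F25635 : act 1 n14824 = n11766 := d8_1 D14824 (iv D11766) (iv F19803)
theorem F25636 : act 3 n14824 = n11762 := d13_1 D14824 (iv D11762) D11761
def n14825 : Q := act 5 n11763
theorem D14825 : act 5 n11763 = n14825 := rfl
theorem F25637 : act 0 n14825 = n11773 := d4_1 D14825 (iv D11773) (iv F19805)
theorem F25638 : act 1 n14825 = n12348 := d8_1 D14825 (iv F25631) F25629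
theorem F25639 : act 2 n14825 = n12325 := d11_1 D14825 (iv D12325) (iv F19813)
theorem F25640 : act 3 n14825 = n11764 := d13_1 D14825 (iv D11764) D11763
def n14826 : Q := act 4 n11766
theorem D14826 : act 4 n11766 = n14826 := rfl
theorem F25641 : act 0 n14826 = n11777 := d3_1 D14826 (iv D11777) (iv F19814)
def n14827 : Q := act 0 n11767
theorem D14827 : act 0 n11767 = n14827 := rfl
theorem F25642 : act 1 n14827 = n11778 := d0_2 D11767 D14827 (iv D11778) (iv D9161) (iv F15261)
def n14828 : Q := act 3 n11767
theorem D14828 : act 3 n11767 = n14828 := rfl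
theorem F25643 : act 1 n14828 = n11768 := d6_1 D14828 (iv D11768) D11767
def n14829 : Q := act 4 n11768
theorem D14829 : act 4 n11768 = n14829 := rfl
theorem F25644 : act 0 n14829 = n11781 := d3_1 D14829 (iv D11781) (iv F19816)
def n14830 : Q := act 2 n11770
theorem D14830 : act 2 n11770 = n14830 := rfl
theorem F25645 : act 0 n14830 = n11995 := d1_1 D14830 F20224 (iv F19821)
theorem F25646 : act 1 n14830 = n12319 := d5_1 D14830 (iv F20954) F21826 F21502 (iv F19822)
theorem F25647 : act 3 n14830 = n12316 := d9_2 D11770 D14830 F20824 (iv F20835) (iv F25639) F25640 F19808 (iv F19463) (iv F25207) F25208 F20820 F19829 (iv D11772) (iv D9157) (iv F15267)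
theorem F25648 : act 4 n14830 = n11993 := d10_2 (iv F19823) D14830 (iv D11993)
theorem F25649 : act 5 n14830 = n12315 := d11_2 F25195 D14830 (iv F25193)
def n14831 : Q := act 5 n11772
theorem D14831 : act 5 n11772 = n14831 := rfl
theorem F25650 : act 0 n14831 = n12325 := d4_1 D14831 (iv D12325) (iv F19826)
theorem F25651 : act 1 n14831 = n12354 := d8_1 D14831 (iv D12354) F19828
theorem F25652 : act 2 n14831 = n11773 := d11_1 D14831 (iv D11773) D11772
theorem F25653 : act 3 n14831 = n12324 := d13_1 D14831 (iv D12324) F19829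
def n14832 : Q := act 4 n11773
theorem D14832 : act 4 n11773 = n14832 := rfl
theorem F25654 : act 5 n14832 = n11777 := d14_2 D11773 D14832 (iv D11777) (iv D9160) (iv F15268)
def n14833 : Q := act 5 n11774
theorem D14833 : act 5 n11774 = n14833 := rfl
theorem F25655 : act 0 n14833 = n12360 := d4_1 D14833 (iv D12360) (iv F19831)
theorem F25656 : act 1 n14833 = n11776 := d8_1 D14833 (iv D11776) D11774
theorem F25657 : act 3 n14833 = n12370 := d13_1 D14833 (iv D12370) F19833
def n14834 : Q := act 4 n11776
theorem D14834 : act 4 n11776 = n14834 := rfl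
theorem F25658 : act 2 n14834 = n11777 := d10_1 D14834 (iv D11777) (iv F19838)
def n14835 : Q := act 3 n11778
theorem D14835 : act 3 n11778 = n14835 := rfl
theorem F25659 : act 0 n14835 = n11779 := d2_1 D14835 (iv D11779) D11778
def n14836 : Q := act 2 n11779
theorem D14836 : act 2 n11779 = n14836 := rfl
def n14837 : Q := act 4 n11779
theorem D14837 : act 4 n11779 = n14837 := rfl
theorem F25660 : act 1 n14837 = n11781 := d7_1 D14837 (iv D11781) (iv F19840)
def n14838 : Q := act 1 n11780
theorem D14838 : act 1 n11780 = n14838 := rfl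
def n14839 : Q := act 4 n11780
theorem D14839 : act 4 n11780 = n14839 := rfl
theorem F25661 : act 2 n14839 = n11781 := d10_1 D14839 (iv D11781) D11780
def n14840 : Q := act 5 n11781
theorem D14840 : act 5 n11781 = n14840 := rfl
def n14841 : Q := act 3 n11782
theorem D14841 : act 3 n11782 = n14841 := rfl
theorem F25662 : act 0 n14841 = n11785 := d2_1 D14841 (iv D11785) (iv F19841)
theorem F25663 : act 1 n14841 = n11797 := d6_1 D14841 (iv D11797) (iv F19842)
theorem F25664 : act 4 n14841 = n11783 := d12_2 D11782 D14841 (iv D11783) (iv D9165) D9164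
def n14842 : Q := act 5 n11782
theorem D14842 : act 5 n11782 = n14842 := rfl
theorem F25665 : act 0 n14842 = n11786 := d4_1 D14842 (iv D11786) (iv F19841)
theorem F25666 : act 1 n14842 = n11798 := d8_1 D14842 (iv D11798) (iv F19842)
theorem F25667 : act 2 n14842 = n11939 := d11_1 D14842 (iv D11939) (iv F19843)
theorem F25668 : act 4 n14842 = n11924 := d14_1 D14842 (iv D11924) (iv D9284) (iv F15274) D11782
def n14843 : Q := act 2 n11783
theorem D14843 : act 2 n11783 = n14843 := rfl
theorem F25669 : act 0 n14843 = n11787 := d1_1 D14843 (iv D11787) (iv F19844)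
def n14844 : Q := act 5 n11783
theorem D14844 : act 5 n11783 = n14844 := rfl
theorem F25670 : act 0 n14844 = n11788 := d4_1 D14844 (iv D11788) (iv F19844)
theorem F25671 : act 1 n14844 = n11800 := d8_1 D14844 (iv D11800) (iv F19845)
theorem F25672 : act 3 n14844 = n11784 := d13_1 D14844 (iv D11784) D11783
def n14845 : Q := act 2 n11785
theorem D14845 : act 2 n11785 = n14845 := rfl
theorem F25673 : act 4 n14845 = n11787 := d10_2 (iv F19849) D14845 (iv D11787)
def n14846 : Q := act 5 n11785
theorem D14846 : act 5 n11785 = n14846 := rfl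
theorem F25674 : act 1 n14846 = n11792 := d8_1 D14846 (iv D11792) (iv F19848)
theorem F25675 : act 3 n14846 = n11786 := d13_1 D14846 (iv D11786) D11785
def n14847 : Q := act 1 n11787
theorem D14847 : act 1 n11787 = n14847 := rfl
theorem F25676 : act 2 n14847 = n11793 := d5_2 D11787 D14847 (iv D11793) (iv D9172) (iv F15279)
theorem F25677 : act 5 n11854 = n14847 := d11_0 F25676 F19864 D11854
def n14848 : Q := act 3 n11787
theorem D14848 : act 3 n11787 = n14848 := rfl
def n14849 : Q := act 5 n11787
theorem D14849 : act 5 n11787 = n14849 := rfl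
theorem F25678 : act 1 n14849 = n11854 := d8_1 D14849 F25677 (iv D14847)
theorem F25679 : act 2 n14849 = n11788 := d11_1 D14849 (iv D11788) D11787
def n14850 : Q := act 4 n11788
theorem D14850 : act 4 n11788 = n14850 := rfl
theorem F25680 : act 1 n14850 = n11794 := d7_1 D14850 (iv D11794) (iv F19853)
def n14851 : Q := act 3 n11789
theorem D14851 : act 3 n11789 = n14851 := rfl
theorem F25681 : act 1 n14851 = n11795 := d6_1 D14851 (iv D11795) (iv F19855)
theorem F25682 : act 5 n14851 = n11790 := d13_2 (iv F19856) D14851 (iv D11790)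
def n14852 : Q := act 2 n11790
theorem D14852 : act 2 n11790 = n14852 := rfl
theorem F25683 : act 4 n14852 = n11925 := d10_2 (iv F19858) D14852 (iv D11925)
def n14853 : Q := act 1 n11791
theorem D14853 : act 1 n11791 = n14853 := rfl
theorem F25684 : act 4 n14853 = n11793 := d7_2 (iv F19860) D14853 (iv D11793)
def n14854 : Q := act 4 n11792
theorem D14854 : act 4 n11792 = n14854 := rfl
theorem F25685 : act 0 n14854 = n11814 := d3_1 D14854 (iv D11814) (iv F19861)
theorem F25686 : act 2 n14854 = n11857 := d10_1 D14854 (iv F25343) F25342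
theorem F25687 : act 3 n14854 = n11930 := d12_1 D14854 (iv D11930) F15500 (iv F15286) (iv F19862)
theorem F25688 : act 5 n14854 = n11794 := d14_2 D11792 D14854 (iv D11794) (iv D9173) (iv F15283)
def n14855 : Q := act 0 n11793
theorem D14855 : act 0 n11793 = n14855 := rfl
theorem F25689 : act 1 n14855 = n11817 := d0_2 D11793 D14855 (iv D11817) (iv D9192) (iv F15287)
theorem F25690 : act 3 n14855 = n11853 := d2_2 (iv F19863) D14855 F19960
theorem F25691 : act 5 n14855 = n11852 := d4_2 (iv F19864) D14855 F19959
def n14856 : Q := act 3 n11794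
theorem D14856 : act 3 n11794 = n14856 := rfl
theorem F25692 : act 0 n14856 = n11822 := d2_1 D14856 (iv D11822) (iv F19865)
theorem F25693 : act 4 n14856 = n11795 := d12_2 D11794 D14856 (iv D11795) (iv D9174) (iv F15292)
theorem F25694 : act 5 n14856 = n11930 := d13_2 F25688 D14856 (iv F25687)
theorem F25695 : act 2 n14856 = n12352 := d15_2 (iv F19866) D14856 (iv D12352) F16101 (iv F15051) (iv F19601) D14717 F25401 F19904
def n14857 : Q := act 2 n11795
theorem D14857 : act 2 n11795 = n14857 := rfl
theorem F25696 : act 0 n14857 = n11823 := d1_1 D14857 (iv D11823) (iv F19867)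
theorem F25697 : act 3 n14857 = n11827 := d9_2 D11795 D14857 (iv D11827) (iv D9200) (iv D7063) (iv D5366) (iv F8836) D7061 D9197 D11825 F19911 F16111 F15302 (iv D9176) (iv F15294)
theorem F25698 : act 4 n14857 = n12352 := d10_2 F25693 D14857 (iv F25695)
theorem F25699 : act 5 n14857 = n11796 := d11_2 (iv F19868) D14857 (iv D11796)
def n14858 : Q := act 1 n11796
theorem D14858 : act 1 n11796 = n14858 := rfl
theorem F25700 : act 4 n14858 = n11927 := d7_2 (iv F19870) D14858 (iv D11927)
def n14859 : Q := act 3 n11796
theorem D14859 : act 3 n11796 = n14859 := rfl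
theorem F25701 : act 0 n14859 = n11825 := d2_1 D14859 (iv D11825) (iv F19869)
theorem F25702 : act 2 n14859 = n11826 := d9_1 D14859 (iv D11826) (iv D9198) (iv D7062) (iv F11704) D9196 D11823 F19909 F16110 F12315 F11687 (iv D7046) (iv F11682) D9175 D11796
theorem F25703 : act 5 n14859 = n11827 := d13_2 F25699 D14859 (iv F25697)
theorem F25704 : act 4 n12351 = n14859 := d14_5 F25703 F19915 (iv F16082) D9634 D12351
def n14860 : Q := act 2 n11797
theorem D14860 : act 2 n11797 = n14860 := rfl
theorem F25705 : act 0 n14860 = n11804 := d1_1 D14860 (iv D11804) (iv F19871)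
theorem F25706 : act 4 n14860 = n11799 := d10_2 (iv F19872) D14860 (iv D11799)
def n14861 : Q := act 5 n11797
theorem D14861 : act 5 n11797 = n14861 := rfl
theorem F25707 : act 0 n14861 = n11805 := d4_1 D14861 (iv D11805) (iv F19871)
theorem F25708 : act 3 n14861 = n11798 := d13_1 D14861 (iv D11798) D11797
def n14862 : Q := act 1 n11799
theorem D14862 : act 1 n11799 = n14862 := rfl
def n14863 : Q := act 3 n11799
theorem D14863 : act 3 n11799 = n14863 := rfl
theorem F25709 : act 0 n14863 = n11807 := d2_1 D14863 (iv D11807) (iv F19874)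
theorem F25710 : act 2 n14863 = n11835 := d15_2 D11799 D14863 F19924 F15352 F11717 (iv F11694) (iv F15315) (iv D9185) (iv F15304)
theorem F25711 : act 5 n11833 = n14863 := d11_0 F25710 (iv D11835) D11833
def n14864 : Q := act 5 n11799
theorem D14864 : act 5 n11799 = n14864 := rfl
theorem F25712 : act 0 n14864 = n11808 := d4_1 D14864 (iv D11808) (iv F19874)
theorem F25713 : act 2 n14864 = n11800 := d11_1 D14864 (iv D11800) D11799
theorem F25714 : act 3 n14864 = n11833 := d13_1 D14864 F25711 (iv D14863)
def n14865 : Q := act 4 n11800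
theorem D14865 : act 4 n11800 = n14865 := rfl
theorem F25715 : act 0 n14865 = n11809 := d3_1 D14865 (iv D11809) (iv F19875)
def n14866 : Q := act 3 n11801
theorem D14866 : act 3 n11801 = n14866 := rfl
theorem F25716 : act 0 n14866 = n11944 := d2_1 D14866 (iv D11944) (iv F19877)
theorem F25717 : act 1 n14866 = n11802 := d6_1 D14866 (iv D11802) (iv F19878)
def n14867 : Q := act 5 n11801
theorem D14867 : act 5 n11801 = n14867 := rfl
theorem F25718 : act 0 n14867 = n11945 := d4_1 D14867 (iv D11945) (iv F19877)
theorem F25719 : act 1 n14867 = n11803 := d8_1 D14867 (iv D11803) (iv F19878)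
theorem F25720 : act 2 n14867 = n11810 := d11_1 D14867 (iv D11810) (iv F19879)
theorem F25721 : act 4 n14867 = n11914 := d14_1 D14867 (iv D11914) (iv D9274) (iv F15309) D11801
def n14868 : Q := act 2 n11802
theorem D14868 : act 2 n11802 = n14868 := rfl
def n14869 : Q := act 5 n11802
theorem D14869 : act 5 n11802 = n14869 := rfl
theorem F25722 : act 3 n14869 = n11803 := d13_1 D14869 (iv D11803) D11802
def n14870 : Q := act 1 n11804
theorem D14870 : act 1 n11804 = n14870 := rfl
theorem F25723 : act 2 n14870 = n11811 := d5_2 D11804 D14870 (iv D11811) (iv D9188) (iv F15311)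
theorem F25724 : act 4 n14870 = n11806 := d7_2 (iv F19881) D14870 (iv D11806)
def n14871 : Q := act 3 n11804
theorem D14871 : act 3 n11804 = n14871 := rfl
def n14872 : Q := act 5 n11804
theorem D14872 : act 5 n11804 = n14872 := rfl
theorem F25725 : act 2 n14872 = n11805 := d11_1 D14872 (iv D11805) D11804
def n14873 : Q := act 4 n11805
theorem D14873 : act 4 n11805 = n14873 := rfl
theorem F25726 : act 1 n14873 = n11814 := d7_1 D14873 (iv D11814) (iv F19882)
theorem F25727 : act 5 n14873 = n11809 := d14_2 D11805 D14873 (iv D11809) (iv D9185) (iv F15312)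
def n14874 : Q := act 0 n11806
theorem D14874 : act 0 n11806 = n14874 := rfl
theorem F25728 : act 2 n14874 = n11817 := d1_2 (iv F19884) D14874 (iv D11817)
def n14875 : Q := act 3 n11806
theorem D14875 : act 3 n11806 = n14875 := rfl
theorem F25729 : act 1 n14875 = n11807 := d6_1 D14875 (iv D11807) D11806
def n14876 : Q := act 5 n11806
theorem D14876 : act 5 n11806 = n14876 := rfl
theorem F25730 : act 1 n14876 = n11808 := d8_1 D14876 (iv D11808) D11806
theorem F25731 : act 2 n14876 = n11819 := d11_1 D14876 (iv D11819) (iv F19884)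
def n14877 : Q := act 2 n11807
theorem D14877 : act 2 n11807 = n14877 := rfl
theorem F25732 : act 0 n14877 = n11835 := d1_1 D14877 (iv F25710) F25709
theorem F25733 : act 3 n14877 = n11830 := d9_2 D11807 D14877 F19918 F15348 (iv F15306) (iv F19876) (iv F25713) F25714 (iv D11833) (iv D9205) (iv D7067) (iv D5369) (iv F8828) D7051 D9184
theorem F25734 : act 5 n11829 = n14877 := d13_0 F25733 (iv D11830) D11829
def n14878 : Q := act 4 n11807
theorem D14878 : act 4 n11807 = n14878 := rfl
def n14879 : Q := act 5 n11807
theorem D14879 : act 5 n11807 = n14879 := rfl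
theorem F25735 : act 0 n14879 = n11833 := d4_1 D14879 F25711 F25709
theorem F25736 : act 2 n14879 = n11829 := d11_1 D14879 F25734 (iv D14877)
theorem F25737 : act 3 n14879 = n11808 := d13_1 D14879 (iv D11808) D11807
def n14880 : Q := act 4 n11808
theorem D14880 : act 4 n11808 = n14880 := rfl
theorem F25738 : act 2 n14880 = n11809 := d10_1 D14880 (iv D11809) (iv F19885)
def n14881 : Q := act 0 n11811
theorem D14881 : act 0 n11811 = n14881 := rfl
theorem F25739 : act 4 n14881 = n11817 := d3_2 (iv F19890) D14881 (iv D11817)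
def n14882 : Q := act 3 n11811
theorem D14882 : act 3 n11811 = n14882 := rfl
theorem F25740 : act 1 n14882 = n11812 := d6_1 D14882 (iv D11812) D11811
def n14883 : Q := act 5 n11811
theorem D14883 : act 5 n11811 = n14883 := rfl
theorem F25741 : act 1 n14883 = n11813 := d8_1 D14883 (iv D11813) D11811
def n14884 : Q := act 3 n11814
theorem D14884 : act 3 n11814 = n14884 := rfl
theorem F25742 : act 0 n14884 = n11930 := d2_1 D14884 (iv F25687) F25685
theorem F25743 : act 2 n14884 = n12284 := d9_1 D14884 (iv D12284) (iv D9580) (iv D7381) (iv F12252) (iv F15384) (iv F19866) D14856 F25695 (iv D12352) F16101 (iv F15051) (iv F19601) D14717 (iv F25402)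
theorem F25744 : act 4 n14884 = n11815 := d12_2 D11814 D14884 (iv D11815) (iv D9190) (iv F15322)
theorem F25745 : act 5 n14884 = n11822 := d13_2 (iv F19892) D14884 (iv D11822)
def n14885 : Q := act 2 n11815
theorem D14885 : act 2 n11815 = n14885 := rfl
theorem F25746 : act 0 n14885 = n11929 := d1_1 D14885 F20094 (iv F19893)
theorem F25747 : act 3 n14885 = n11934 := d9_2 D11815 D14885 (iv D11934) (iv D9290) (iv D7136) (iv D5429) (iv F8954) D7134 D9287 D11928 F20092 F16038 (iv F15477) F15478 (iv F15324)
theorem F25748 : act 4 n14885 = n12284 := d10_2 F25744 D14885 (iv F25743)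
theorem F25749 : act 5 n14885 = n11816 := d11_2 (iv F19894) D14885 (iv D11816)
def n14886 : Q := act 1 n11816
theorem D14886 : act 1 n11816 = n14886 := rfl
theorem F25750 : act 4 n14886 = n11824 := d7_2 (iv F19896) D14886 (iv D11824)
def n14887 : Q := act 3 n11816
theorem D14887 : act 3 n11816 = n14887 := rfl
theorem F25751 : act 0 n14887 = n11928 := d2_1 D14887 (iv D11928) (iv F19895)
theorem F25752 : act 2 n14887 = n11935 := d9_1 D14887 F20105 F15505 F11836 (iv F11833) (iv F15500) (iv F20094) F20095 F16037 F12264 F11817 (iv D7126) (iv F11702) D9191 D11816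
theorem F25753 : act 5 n14887 = n11934 := d13_2 F25749 D14887 (iv F25747)
theorem F25754 : act 4 n12289 = n14887 := d14_5 F25753 F20103 F15972 D9584 D12289
def n14888 : Q := act 3 n11817
theorem D14888 : act 3 n11817 = n14888 := rfl
theorem F25755 : act 0 n14888 = n11818 := d2_1 D14888 (iv D11818) D11817
theorem F25756 : act 1 n14888 = n11853 := d6_1 D14888 (iv F25690) F25689
theorem F25757 : act 5 n11836 = n14888 := d8_0 F25756 (iv D11853) (iv F19925)
def n14889 : Q := act 5 n11817
theorem D14889 : act 5 n11817 = n14889 := rfl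
theorem F25758 : act 0 n14889 = n11819 := d4_1 D14889 (iv D11819) D11817
theorem F25759 : act 1 n14889 = n11852 := d8_1 D14889 (iv F25691) F25689
theorem F25760 : act 3 n14889 = n11836 := d13_1 D14889 F25757 (iv D14888)
def n14890 : Q := act 4 n11818
theorem D14890 : act 4 n11818 = n14890 := rfl
theorem F25761 : act 1 n14890 = n11820 := d7_1 D14890 (iv D11820) (iv F19897)
theorem F25762 : act 5 n14890 = n12083 := d14_2 F19898 D14890 (iv D12083) (iv D9421) (iv F15356)
def n14891 : Q := act 4 n11819
theorem D14891 : act 4 n11819 = n14891 := rfl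
theorem F25763 : act 1 n14891 = n11821 := d7_1 D14891 (iv D11821) (iv F19899)
theorem F25764 : act 3 n14891 = n12082 := d12_1 D14891 (iv D12082) (iv D9420) (iv F15356) (iv F19900)
def n14892 : Q := act 2 n11822
theorem D14892 : act 2 n11822 = n14892 := rfl
theorem F25765 : act 0 n14892 = n12352 := d1_1 D14892 (iv F25695) F25692
theorem F25766 : act 4 n14892 = n11823 := d10_2 (iv F19907) D14892 (iv D11823)
theorem F25767 : act 5 n14892 = n12284 := d11_2 F25745 D14892 (iv F25743)
theorem F25768 : act 3 n14892 = n12273 := d15_1 D14892 (iv D12273) (iv D9571) (iv F16005) (iv F19965) (iv F25686) F25687 (iv F25694) F25692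
def n14893 : Q := act 1 n11823
theorem D14893 : act 1 n11823 = n14893 := rfl
theorem F25769 : act 3 n14893 = n12364 := d6_2 (iv F19909) D14893 F20889
theorem F25770 : act 5 n14893 = n11824 := d8_2 (iv F19908) D14893 (iv D11824)
def n14894 : Q := act 0 n11824
theorem D14894 : act 0 n11824 = n14894 := rfl
def n14895 : Q := act 3 n11824
theorem D14895 : act 3 n11824 = n14895 := rfl
theorem F25771 : act 1 n14895 = n11825 := d6_1 D14895 (iv D11825) D11824
theorem F25772 : act 5 n14895 = n12364 := d13_2 F25770 D14895 (iv F25769)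
def n14896 : Q := act 4 n11825
theorem D14896 : act 4 n11825 = n14896 := rfl
theorem F25773 : act 0 n14896 = n12351 := d3_1 D14896 F25704 F25701
theorem F25774 : act 2 n14896 = n12365 := d10_1 D14896 (iv D12365) (iv F19911)
theorem F25775 : act 3 n14896 = n12289 := d12_1 D14896 F25754 (iv D14887) F19896 D11825
theorem F25776 : act 5 n14896 = n12277 := d14_2 (iv F19910) D14896 (iv D12277) F16017 D9643
def n14897 : Q := act 4 n11826
theorem D14897 : act 4 n11826 = n14897 := rfl
theorem F25777 : act 0 n14897 = n12365 := d3_1 D14897 (iv D12365) (iv F19912)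
theorem F25778 : act 2 n14897 = n12351 := d10_1 D14897 F25704 F25702
theorem F25779 : act 3 n14897 = n11864 := d12_1 D14897 (iv D11864) (iv D9232) (iv F15336) D11826
theorem F25780 : act 5 n14897 = n12327 := d14_2 (iv F19913) D14897 (iv D12327) (iv D9619) (iv F15341)
def n14898 : Q := act 0 n11828
theorem D14898 : act 0 n11828 = n14898 := rfl
theorem F25781 : act 1 n14898 = n11831 := d0_2 D11828 D14898 (iv D11831) (iv D9204) (iv F15346)
theorem F25782 : act 5 n12055 = n14898 := d8_0 F25781 F19920 D12055
def n14899 : Q := act 3 n11828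
theorem D14899 : act 3 n11828 = n14899 := rfl
theorem F25783 : act 1 n14899 = n11829 := d6_1 D14899 (iv D11829) D11828
def n14900 : Q := act 5 n11828
theorem D14900 : act 5 n11828 = n14900 := rfl
theorem F25784 : act 0 n14900 = n12055 := d4_1 D14900 F25782 (iv D14898)
theorem F25785 : act 1 n14900 = n11830 := d8_1 D14900 (iv D11830) D11828
def n14901 : Q := act 4 n11829
theorem D14901 : act 4 n11829 = n14901 := rfl
theorem F25786 : act 0 n14901 = n11834 := d3_1 D14901 (iv D11834) (iv F19916)
def n14902 : Q := act 4 n11832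
theorem D14902 : act 4 n11832 = n14902 := rfl
theorem F25787 : act 1 n14902 = n11834 := d7_1 D14902 (iv D11834) (iv F19921)
def n14903 : Q := act 1 n11833
theorem D14903 : act 1 n11833 = n14903 := rfl
def n14904 : Q := act 4 n11833
theorem D14904 : act 4 n11833 = n14904 := rfl
theorem F25788 : act 2 n14904 = n11834 := d10_1 D14904 (iv D11834) D11833
def n14905 : Q := act 5 n11834
theorem D14905 : act 5 n11834 = n14905 := rfl
def n14906 : Q := act 4 n11835
theorem D14906 : act 4 n11835 = n14906 := rfl
theorem F25789 : act 1 n14906 = n12058 := d7_1 D14906 (iv D12058) (iv F19923)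
def n14907 : Q := act 3 n11837
theorem D14907 : act 3 n11837 = n14907 := rfl
theorem F25790 : act 1 n14907 = n11838 := d6_1 D14907 (iv D11838) D11837
theorem F25791 : act 5 n14907 = n11840 := d13_2 (iv F19929) D14907 (iv D11840)
def n14908 : Q := act 4 n11838
theorem D14908 : act 4 n11838 = n14908 := rfl
theorem F25792 : act 0 n14908 = n11864 := d3_1 D14908 (iv D11864) (iv F19930)
theorem F25793 : act 2 n14908 = n11863 := d10_1 D14908 (iv D11863) (iv F19931)
theorem F25794 : act 3 n14908 = n12365 := d12_1 D14908 (iv D12365) F16111 (iv F15360) D11838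
theorem F25795 : act 5 n14908 = n12366 := d14_2 (iv F19932) D14908 F20891 F16112 (iv F15365)
def n14909 : Q := act 3 n11839
theorem D14909 : act 3 n11839 = n14909 := rfl
theorem F25796 : act 0 n14909 = n11840 := d2_1 D14909 (iv D11840) D11839
theorem F25797 : act 1 n14909 = n11865 := d6_1 D14909 (iv D11865) (iv F19933)
theorem F25798 : act 4 n14909 = n12371 := d12_2 (iv F19935) D14909 (iv D12371) (iv D9649) (iv F15367)
def n14910 : Q := act 2 n11840
theorem D14910 : act 2 n11840 = n14910 := rfl
theorem F25799 : act 4 n14910 = n12375 := d10_2 (iv F19937) D14910 (iv D12375)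
def n14911 : Q := act 1 n11841
theorem D14911 : act 1 n11841 = n14911 := rfl
theorem F25800 : act 3 n14911 = n11860 := d6_2 (iv F19939) D14911 (iv D11860)
theorem F25801 : act 4 n14911 = n12376 := d7_2 (iv F19940) D14911 (iv D12376)
theorem F25802 : act 5 n14911 = n11862 := d8_2 (iv F19941) D14911 F19971
def n14912 : Q := act 0 n11842
theorem D14912 : act 0 n11842 = n14912 := rfl
theorem F25803 : act 2 n14912 = n11851 := d1_2 (iv F19942) D14912 (iv D11851)
theorem F25804 : act 4 n14912 = n11846 := d3_2 (iv F19943) D14912 (iv D11846)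
theorem F25805 : act 5 n14912 = n12278 := d4_2 F19944 D14912 F20768
def n14913 : Q := act 3 n11842
theorem D14913 : act 3 n11842 = n14913 := rfl
theorem F25806 : act 1 n14913 = n11843 := d6_1 D14913 (iv D11843) D11842
theorem F25807 : act 5 n14913 = n12281 := d13_2 F19944 D14913 (iv D12281)
def n14914 : Q := act 4 n11843
theorem D14914 : act 4 n11843 = n14914 := rfl
theorem F25808 : act 3 n14914 = n11849 := d12_1 D14914 (iv D11849) (iv D9218) (iv F15369) D11843
def n14915 : Q := act 4 n11844
theorem D14915 : act 4 n11844 = n14915 := rfl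
theorem F25809 : act 1 n14915 = n12282 := d7_1 D14915 (iv D12282) (iv F19945)
theorem F25810 : act 2 n14915 = n11845 := d10_1 D14915 (iv D11845) (iv F19946)
theorem F25811 : act 5 n14915 = n11850 := d14_2 D11844 D14915 (iv D11850) (iv D9219) (iv F15369)
def n14916 : Q := act 3 n11846
theorem D14916 : act 3 n11846 = n14916 := rfl
theorem F25812 : act 0 n14916 = n11847 := d2_1 D14916 (iv D11847) D11846
def n14917 : Q := act 5 n11846
theorem D14917 : act 5 n11846 = n14917 := rfl
theorem F25813 : act 0 n14917 = n11848 := d4_1 D14917 (iv D11848) D11846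
theorem F25814 : act 2 n14917 = n11853 := d11_1 D14917 (iv D11853) (iv F19950)
def n14918 : Q := act 2 n11847
theorem D14918 : act 2 n11847 = n14918 := rfl
def n14919 : Q := act 4 n11847
theorem D14919 : act 4 n11847 = n14919 := rfl
theorem F25815 : act 1 n14919 = n11849 := d7_1 D14919 (iv D11849) (iv F19951)
def n14920 : Q := act 4 n11848
theorem D14920 : act 4 n11848 = n14920 := rfl
theorem F25816 : act 1 n14920 = n11850 := d7_1 D14920 (iv D11850) (iv F19952)
theorem F25817 : act 2 n14920 = n11856 := d10_1 D14920 (iv D11856) (iv F19953)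
theorem F25818 : act 5 n14920 = n12282 := d14_2 D11848 D14920 (iv D12282) F19944 F19943
def n14921 : Q := act 5 n11849
theorem D14921 : act 5 n11849 = n14921 := rfl
def n14922 : Q := act 3 n11850
theorem D14922 : act 3 n11850 = n14922 := rfl
def n14923 : Q := act 2 n11852
theorem D14923 : act 2 n11852 = n14923 := rfl
theorem F25819 : act 0 n14923 = n11854 := d1_1 D14923 (iv D11854) (iv F19959)
def n14924 : Q := act 4 n11852
theorem D14924 : act 4 n11852 = n14924 := rfl
theorem F25820 : act 0 n14924 = n11855 := d3_1 D14924 (iv D11855) (iv F19959)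
theorem F25821 : act 3 n14924 = n12280 := d12_1 D14924 (iv D12280) (iv F19956) F19957 D11852
def n14925 : Q := act 4 n11853
theorem D14925 : act 4 n11853 = n14925 := rfl
theorem F25822 : act 0 n14925 = n11856 := d3_1 D14925 (iv D11856) (iv F19960)
theorem F25823 : act 5 n14925 = n12279 := d14_2 D11853 D14925 (iv D12279) (iv F19958) F19957
def n14926 : Q := act 3 n11854
theorem D14926 : act 3 n11854 = n14926 := rfl
def n14927 : Q := act 4 n11854
theorem D14927 : act 4 n11854 = n14927 := rfl
theorem F25824 : act 2 n14927 = n11855 := d10_1 D14927 (iv D11855) D11854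
theorem F25825 : act 3 n14518 = n14927 := d15_1 (iv F24978) F25824 F19962 (iv F20744) (iv F20918) F20917 (iv F20921) (iv D12388) (iv F19287)
theorem F25826 : act 1 n14927 = n14520 := d6_1 F25825 (iv D14520) (iv F24977)
theorem F25827 : act 4 n14926 = n14517 := d12_4 D14518 F25825 (iv D14927) D14926 (iv D14517)
theorem F25828 : act 1 n14519 = n14926 := d7_3 F25827 F24975 D14519
theorem F25829 : act 3 n14849 = n14519 := d6_0 F25828 (iv D14926) (iv F25678)
theorem F25830 : act 4 n14520 = n14849 := d12_0 F25829 (iv D14519) (iv D11493) D11494 D14520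
theorem F25831 : act 5 n14519 = n14848 := d13_2 D14849 F25829 (iv D14848)
theorem F25832 : act 2 n14850 = n14520 := d10_3 F25830 F25679 D14850
def n14928 : Q := act 5 n11855
theorem D14928 : act 5 n11855 = n14928 := rfl
theorem F25833 : act 1 n14928 = n11857 := d8_1 D14928 (iv D11857) (iv F19961)
theorem F25834 : act 3 n14928 = n12272 := d13_1 D14928 F20753 (iv F19962)
def n14929 : Q := act 3 n11856
theorem D14929 : act 3 n11856 = n14929 := rfl
theorem F25835 : act 1 n14929 = n11858 := d6_1 D14929 (iv D11858) (iv F19963)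
theorem F25836 : act 5 n14929 = n12271 := d13_2 (iv F19964) D14929 F20751
def n14930 : Q := act 1 n11859
theorem D14930 : act 1 n11859 = n14930 := rfl
theorem F25837 : act 2 n14930 = n12012 := d5_2 D11859 D14930 F20241 F15648 (iv F15387)
theorem F25838 : act 4 n14930 = n11860 := d7_2 (iv F19967) D14930 (iv D11860)
def n14931 : Q := act 3 n11859
theorem D14931 : act 3 n11859 = n14931 := rfl
theorem F25839 : act 4 n14931 = n12377 := d12_2 (iv F19967) D14931 (iv D12377) (iv F19940) F19939
def n14932 : Q := act 0 n11860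
theorem D14932 : act 0 n11860 = n14932 := rfl
theorem F25840 : act 2 n14932 = n12009 := d1_2 (iv F19968) D14932 F20237
theorem F25841 : act 5 n14932 = n11861 := d4_2 (iv F19969) D14932 (iv D11861)
def n14933 : Q := act 3 n11861
theorem D14933 : act 3 n11861 = n14933 := rfl
theorem F25842 : act 0 n14933 = n11862 := d2_1 D14933 (iv D11862) D11861
def n14934 : Q := act 2 n11862
theorem D14934 : act 2 n11862 = n14934 := rfl
def n14935 : Q := act 4 n11862
theorem D14935 : act 4 n11862 = n14935 := rfl
theorem F25843 : act 1 n14935 = n11863 := d7_1 D14935 (iv D11863) (iv F19971)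
def n14936 : Q := act 5 n11863
theorem D14936 : act 5 n11863 = n14936 := rfl
theorem F25844 : act 2 n14936 = n12366 := d11_1 D14936 (iv F25795) F25793
theorem F25845 : act 4 n14936 = n12367 := d14_1 D14936 F20892 (iv F19940) F19941 D11863
def n14937 : Q := act 5 n11864
theorem D14937 : act 5 n11864 = n14937 := rfl
theorem F25846 : act 0 n14937 = n12366 := d4_1 D14937 (iv F25795) F25792
theorem F25847 : act 3 n14937 = n12327 := d13_1 D14937 (iv F25780) F25779
theorem F25848 : act 4 n14937 = n11870 := d14_1 D14937 (iv D11870) (iv D9236) (iv F15391) D11864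
def n14938 : Q := act 4 n11865
theorem D14938 : act 4 n11865 = n14938 := rfl
theorem F25849 : act 0 n14938 = n11867 := d3_1 D14938 (iv D11867) (iv F19972)
theorem F25850 : act 1 n14938 = n12371 := d7_1 D14938 (iv F25798) F25797
theorem F25851 : act 3 n14938 = n11872 := d12_1 D14938 (iv D11872) (iv D9237) (iv F15393) D11865
def n14939 : Q := act 1 n11866
theorem D14939 : act 1 n11866 = n14939 := rfl
theorem F25852 : act 2 n14939 = n11868 := d5_2 D11866 D14939 (iv D11868) (iv D9235) (iv F15394)
def n14940 : Q := act 4 n11866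
theorem D14940 : act 4 n11866 = n14940 := rfl
theorem F25853 : act 2 n14940 = n11867 := d10_1 D14940 (iv D11867) D11866
def n14941 : Q := act 5 n11867
theorem D14941 : act 5 n11867 = n14941 := rfl
theorem F25854 : act 1 n14941 = n11870 := d8_1 D14941 (iv D11870) (iv F19973)
theorem F25855 : act 3 n14941 = n11874 := d13_1 D14941 (iv D11874) (iv F19974)
def n14942 : Q := act 0 n11868
theorem D14942 : act 0 n11868 = n14942 := rfl
def n14943 : Q := act 4 n11868
theorem D14943 : act 4 n11868 = n14943 := rfl
theorem F25856 : act 1 n14943 = n11869 := d7_1 D14943 (iv D11869) D11868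
def n14944 : Q := act 4 n11871
theorem D14944 : act 4 n11871 = n14944 := rfl
theorem F25857 : act 0 n14944 = n11873 := d3_1 D14944 (iv D11873) (iv F19979)
theorem F25858 : act 1 n14944 = n12878 := d7_1 D14944 (iv F25263) F25261
theorem F25859 : act 2 n14944 = n11872 := d10_1 D14944 (iv D11872) D11871
def n14945 : Q := act 5 n11872
theorem D14945 : act 5 n11872 = n14945 := rfl
theorem F25860 : act 0 n14945 = n11874 := d4_1 D14945 (iv D11874) (iv F19981)
theorem F25861 : act 1 n14945 = n12355 := d8_1 D14945 F20880 (iv F19982)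
theorem F25862 : act 4 n14945 = n12324 := d14_1 D14945 (iv D12324) F16077 (iv F15399) D11872
def n14946 : Q := act 3 n11873
theorem D14946 : act 3 n11873 = n14946 := rfl
theorem F25863 : act 1 n14946 = n12323 := d6_1 D14946 (iv D12323) (iv F19983)
def n14947 : Q := act 5 n11873
theorem D14947 : act 5 n11873 = n14947 := rfl
theorem F25864 : act 1 n14947 = n12320 := d8_1 D14947 F20829 (iv F19983)
theorem F25865 : act 2 n14947 = n11874 := d11_1 D14947 (iv D11874) (iv F19984)
theorem F25866 : act 4 n14947 = n12316 := d14_1 D14947 (iv D12316) F16066 (iv F15401) D11873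
def n14948 : Q := act 0 n11875
theorem D14948 : act 0 n11875 = n14948 := rfl
def n14949 : Q := act 4 n11875
theorem D14949 : act 4 n11875 = n14949 := rfl
theorem F25867 : act 1 n14949 = n11876 := d7_1 D14949 (iv D11876) D11875
def n14950 : Q := act 3 n11876
theorem D14950 : act 3 n11876 = n14950 := rfl
theorem F25868 : act 2 n14950 = n14600 := d15_2 (iv F19987) D14950 F25122 F19399 F14894 (iv F16587) (iv F21443) (iv D12688) F16581
theorem F25869 : act 5 n14599 = n14950 := d11_0 F25868 (iv D14600) D14599
def n14951 : Q := act 5 n11876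
theorem D14951 : act 5 n11876 = n14951 := rfl
theorem F25870 : act 2 n14951 = n11877 := d11_1 D14951 (iv D11877) (iv F19987)
theorem F25871 : act 3 n14951 = n14599 := d13_1 D14951 F25869 (iv D14950)
def n14952 : Q := act 4 n11877
theorem D14952 : act 4 n11877 = n14952 := rfl
theorem F25872 : act 5 n14952 = n11878 := d14_2 D11877 D14952 (iv D11878) (iv D9243) D9242
def n14953 : Q := act 4 n11879
theorem D14953 : act 4 n11879 = n14953 := rfl
theorem F25873 : act 1 n14953 = n11881 := d7_1 D14953 (iv D11881) D11879
def n14954 : Q := act 4 n11880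
theorem D14954 : act 4 n11880 = n14954 := rfl
theorem F25874 : act 0 n14954 = n11883 := d3_1 D14954 (iv D11883) (iv F19989)
theorem F25875 : act 2 n14954 = n12321 := d10_1 D14954 (iv D12321) (iv F19990)
def n14955 : Q := act 3 n11881
theorem D14955 : act 3 n11881 = n14955 := rfl
theorem F25876 : act 0 n14955 = n11884 := d2_1 D14955 (iv D11884) (iv F19991)
def n14956 : Q := act 3 n11883
theorem D14956 : act 3 n11883 = n14956 := rfl
theorem F25877 : act 4 n14956 = n11884 := d12_2 D11883 D14956 (iv D11884) (iv D9247) D9246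
def n14957 : Q := act 5 n11883
theorem D14957 : act 5 n11883 = n14957 := rfl
theorem F25878 : act 2 n14957 = n12749 := d11_1 D14957 (iv F25202) F25204
def n14958 : Q := act 2 n11884
theorem D14958 : act 2 n11884 = n14958 := rfl
def n14959 : Q := act 2 n11887
theorem D14959 : act 2 n11887 = n14959 := rfl
theorem F25879 : act 0 n14959 = n11909 := d1_1 D14959 (iv D11909) (iv F20001)
theorem F25880 : act 3 n14959 = n12126 := d9_2 D11887 D14959 F20453 F16760 F12797 (iv F11802) (iv F15459) (iv F20053) F20052 (iv D10125) (iv D7821) (iv D5966) (iv F9683) (iv F11797) (iv F15414)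
theorem F25881 : act 4 n14959 = n11888 := d10_2 (iv F20003) D14959 (iv D11888)
theorem F25882 : act 5 n14959 = n12119 := d11_2 F21216 D14959 (iv F21214)
def n14960 : Q := act 1 n11888
theorem D14960 : act 1 n11888 = n14960 := rfl
theorem F25883 : act 2 n14960 = n12803 := d5_2 D11888 D14960 (iv D12803) (iv D10026) (iv F15415)
theorem F25884 : act 3 n14960 = n14075 := d6_2 (iv F20004) D14960 (iv D14075)
def n14961 : Q := act 0 n11889
theorem D14961 : act 0 n11889 = n14961 := rfl
theorem F25885 : act 1 n14961 = n12498 := d0_2 D11889 D14961 F21114 F16312 (iv F15416)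
theorem F25886 : act 2 n14961 = n11901 := d1_2 (iv F20005) D14961 (iv D11901)
theorem F25887 : act 4 n14961 = n11891 := d3_2 (iv F20006) D14961 (iv D11891)
theorem F25888 : act 5 n14961 = n14047 := d4_2 (iv F20007) D14961 F24061
def n14962 : Q := act 3 n11889
theorem D14962 : act 3 n11889 = n14962 := rfl
theorem F25889 : act 1 n14962 = n11890 := d6_1 D14962 (iv D11890) D11889
theorem F25890 : act 5 n14962 = n14051 := d13_2 (iv F20007) D14962 (iv D14051)
def n14963 : Q := act 4 n11890
theorem D14963 : act 4 n11890 = n14963 := rfl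
theorem F25891 : act 0 n14963 = n12192 := d3_1 D14963 F20597 (iv F20008)
theorem F25892 : act 3 n14963 = n11893 := d12_1 D14963 (iv D11893) (iv D9254) (iv F15417) D11890
theorem F25893 : act 5 n14963 = n14115 := d14_2 (iv F20009) D14963 (iv D14115) (iv D11107) (iv F18540)
def n14964 : Q := act 3 n11891
theorem D14964 : act 3 n11891 = n14964 := rfl
theorem F25894 : act 0 n14964 = n11892 := d2_1 D14964 (iv D11892) D11891
theorem F25895 : act 1 n14964 = n12190 := d6_1 D14964 F20594 (iv F20010)
theorem F25896 : act 5 n14964 = n12186 := d13_2 (iv F20012) D14964 (iv D12186)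
def n14965 : Q := act 2 n11892
theorem D14965 : act 2 n11892 = n14965 := rfl
theorem F25897 : act 1 n14965 = n12185 := d5_1 D14965 (iv D12185) F15876 (iv F15422) (iv F20013)
theorem F25898 : act 5 n14965 = n12187 := d11_2 (iv F20014) D14965 (iv D12187)
def n14966 : Q := act 4 n11892
theorem D14966 : act 4 n11892 = n14966 := rfl
theorem F25899 : act 1 n14966 = n11893 := d7_1 D14966 (iv D11893) (iv F20013)
def n14967 : Q := act 5 n11893
theorem D14967 : act 5 n11893 = n14967 := rfl
theorem F25900 : act 0 n14967 = n12193 := d4_1 D14967 (iv D12193) (iv F20015)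
theorem F25901 : act 2 n14967 = n12174 := d11_1 D14967 F20571 (iv F20016)
theorem F25902 : act 3 n14967 = n14115 := d13_1 D14967 (iv F25893) F25892
theorem F25903 : act 4 n14967 = n12189 := d14_1 D14967 (iv D12189) (iv D9504) (iv F15423) D11893
def n14968 : Q := act 1 n11894
theorem D14968 : act 1 n11894 = n14968 := rfl
theorem F25904 : act 2 n14968 = n12810 := d5_2 D11894 D14968 (iv D12810) (iv D10031) (iv F15425)
theorem F25905 : act 4 n14968 = n12797 := d7_2 (iv F20018) D14968 (iv D12797)
def n14969 : Q := act 5 n11894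
theorem D14969 : act 5 n11894 = n14969 := rfl
theorem F25906 : act 0 n14969 = n11898 := d4_1 D14969 (iv D11898) (iv F20017)
theorem F25907 : act 2 n14969 = n11895 := d11_1 D14969 (iv D11895) D11894
def n14970 : Q := act 4 n11895
theorem D14970 : act 4 n11895 = n14970 := rfl
theorem F25908 : act 0 n14970 = n11899 := d3_1 D14970 (iv D11899) (iv F20019)
theorem F25909 : act 1 n14970 = n12812 := d7_1 D14970 (iv D12812) (iv F20020)
theorem F25910 : act 3 n14970 = n12771 := d12_1 D14970 (iv D12771) F16681 (iv F15429) (iv F20021)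
theorem F25911 : act 5 n14970 = n12772 := d14_2 D11895 D14970 F21572 F16684 (iv F15426)
def n14971 : Q := act 0 n11896
theorem D14971 : act 0 n11896 = n14971 := rfl
theorem F25912 : act 2 n14971 = n11900 := d1_2 (iv F20022) D14971 (iv D11900)
theorem F25913 : act 4 n14971 = n12806 := d3_2 (iv F20023) D14971 (iv D12806)
theorem F25914 : act 5 n14971 = n12818 := d4_2 F20024 D14971 F21651
def n14972 : Q := act 3 n11896
theorem D14972 : act 3 n11896 = n14972 := rfl
theorem F25915 : act 1 n14972 = n11897 := d6_1 D14972 (iv D11897) D11896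
theorem F25916 : act 5 n14972 = n12821 := d13_2 F20024 D14972 (iv D12821)
def n14973 : Q := act 4 n11897
theorem D14973 : act 4 n11897 = n14973 := rfl
theorem F25917 : act 3 n14973 = n12809 := d12_1 D14973 (iv D12809) (iv D10029) (iv F15430) D11897
def n14974 : Q := act 5 n11897
theorem D14974 : act 5 n11897 = n14974 := rfl
theorem F25918 : act 1 n14974 = n12821 := d8_1 D14974 (iv F25916) F25915
theorem F25919 : act 3 n14974 = n11898 := d13_1 D14974 (iv D11898) D11897
def n14975 : Q := act 4 n11898
theorem D14975 : act 4 n11898 = n14975 := rfl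
theorem F25920 : act 1 n14975 = n12822 := d7_1 D14975 (iv D12822) (iv F20025)
theorem F25921 : act 2 n14975 = n11899 := d10_1 D14975 (iv D11899) (iv F20026)
theorem F25922 : act 5 n14975 = n12784 := d14_2 D11898 D14975 F21597 F16707 (iv F15430)
def n14976 : Q := act 3 n11902
theorem D14976 : act 3 n11902 = n14976 := rfl
theorem F25923 : act 1 n14976 = n12799 := d6_1 D14976 (iv D12799) (iv F20036)
def n14977 : Q := act 5 n11902
theorem D14977 : act 5 n11902 = n14977 := rfl
theorem F25924 : act 1 n14977 = n12800 := d8_1 D14977 (iv D12800) (iv F20036)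
theorem F25925 : act 2 n14977 = n11903 := d11_1 D14977 (iv D11903) (iv F20037)
def n14978 : Q := act 2 n11904
theorem D14978 : act 2 n11904 = n14978 := rfl
theorem F25926 : act 0 n14978 = n12177 := d1_1 D14978 (iv D12177) (iv F20040)
theorem F25927 : act 1 n14978 = n12187 := d5_1 D14978 (iv D12187) F15880 (iv F15454) (iv F20041)
theorem F25928 : act 5 n14978 = n12185 := d11_2 (iv F20042) D14978 (iv D12185)
def n14979 : Q := act 4 n11904
theorem D14979 : act 4 n11904 = n14979 := rfl
theorem F25929 : act 0 n14979 = n12178 := d3_1 D14979 (iv D12178) (iv F20040)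
theorem F25930 : act 1 n14979 = n11905 := d7_1 D14979 (iv D11905) (iv F20041)
theorem F25931 : act 3 n14979 = n12394 := d12_1 D14979 (iv D12394) (iv D9668) (iv F15451) D11904
def n14980 : Q := act 5 n11905
theorem D14980 : act 5 n11905 = n14980 := rfl
theorem F25932 : act 0 n14980 = n11911 := d4_1 D14980 (iv D11911) (iv F20043)
theorem F25933 : act 2 n14980 = n12189 := d11_1 D14980 (iv D12189) (iv F20044)
theorem F25934 : act 3 n14980 = n12173 := d13_1 D14980 F20569 (iv F20045)
theorem F25935 : act 4 n14980 = n12174 := d14_1 D14980 F20571 F15863 (iv F15455) D11905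
def n14981 : Q := act 3 n11906
theorem D14981 : act 3 n11906 = n14981 := rfl
theorem F25936 : act 0 n14981 = n11907 := d2_1 D14981 (iv D11907) (iv F20046)
theorem F25937 : act 1 n14981 = n12793 := d6_1 D14981 (iv D12793) (iv F20047)
theorem F25938 : act 4 n14981 = n12792 := d12_2 D11906 D14981 (iv D12792) (iv D10018) (iv F15457)
def n14982 : Q := act 5 n11906
theorem D14982 : act 5 n11906 = n14982 := rfl
theorem F25939 : act 0 n14982 = n11908 := d4_1 D14982 (iv D11908) (iv F20046)
theorem F25940 : act 1 n14982 = n12794 := d8_1 D14982 (iv D12794) (iv F20047)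
def n14983 : Q := act 2 n11907
theorem D14983 : act 2 n11907 = n14983 := rfl
def n14984 : Q := act 5 n11907
theorem D14984 : act 5 n11907 = n14984 := rfl
theorem F25941 : act 1 n14984 = n11910 := d8_1 D14984 (iv D11910) (iv F20048)
theorem F25942 : act 3 n14984 = n11908 := d13_1 D14984 (iv D11908) D11907
def n14985 : Q := act 1 n11909
theorem D14985 : act 1 n11909 = n14985 := rfl
theorem F25943 : act 3 n14985 = n12917 := d6_2 (iv F20050) D14985 (iv D12917)
theorem F25944 : act 5 n14985 = n12919 := d8_2 F20051 D14985 F21863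
def n14986 : Q := act 1 n11912
theorem D14986 : act 1 n11912 = n14986 := rfl
theorem F25945 : act 0 n14986 = n12297 := d0_1 D14986 (iv D12297) F16039 (iv F15474) (iv F20058)
theorem F25946 : act 2 n14986 = n11918 := d5_2 D11912 D14986 (iv D11918) (iv D9279) (iv F15464)
theorem F25947 : act 4 n14986 = n12911 := d7_2 (iv F20059) D14986 (iv D12911)
theorem F25948 : act 5 n14986 = n12328 := d8_2 (iv F20060) D14986 (iv D12328)
theorem F25949 : act 3 n13720 = n14986 := d15_1 D13720 F25946 F20073 F16141 F12337 (iv F13904) (iv F18076) (iv D10784) (iv F18069)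
def n14987 : Q := act 3 n11912
theorem D14987 : act 3 n11912 = n14987 := rfl
theorem F25950 : act 0 n14987 = n11917 := d2_1 D14987 (iv D11917) (iv F20058)
theorem F25951 : act 1 n14987 = n13720 := d6_1 D14987 F25949 (iv D14986)
theorem F25952 : act 2 n14987 = n11917 := d9_1 D14987 (iv D11917) (iv D9277) (iv D7125) F8937 D5641 D7414 D9622 (iv F20842) (iv D12329) (iv D9620) (iv D7413) (iv F11808) D9273 D11912
theorem F25953 : act 5 n14987 = n12329 := d13_2 (iv F20060) D14987 (iv D12329)
def n14988 : Q := act 2 n11913
theorem D14988 : act 2 n11913 = n14988 := rfl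
theorem F25954 : act 0 n14988 = n12907 := d1_1 D14988 (iv D12907) (iv F20061)
def n14989 : Q := act 5 n11913
theorem D14989 : act 5 n11913 = n14989 := rfl
theorem F25955 : act 0 n14989 = n12908 := d4_1 D14989 (iv D12908) (iv F20061)
theorem F25956 : act 3 n14989 = n11914 := d13_1 D14989 (iv D11914) D11913
def n14990 : Q := act 3 n11915
theorem D14990 : act 3 n11915 = n14990 := rfl
theorem F25957 : act 0 n14990 = n12912 := d2_1 D14990 (iv D12912) (iv F20064)
theorem F25958 : act 1 n14990 = n12300 := d6_1 D14990 (iv D12300) (iv F20065)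
def n14991 : Q := act 5 n11915
theorem D14991 : act 5 n11915 = n14991 := rfl
theorem F25959 : act 0 n14991 = n12913 := d4_1 D14991 (iv D12913) (iv F20064)
theorem F25960 : act 1 n14991 = n12301 := d8_1 D14991 (iv D12301) (iv F20065)
theorem F25961 : act 2 n14991 = n11916 := d11_1 D14991 (iv D11916) D11915
theorem F25962 : act 4 n14991 = n12334 := d14_1 D14991 (iv D12334) (iv D9623) (iv F15475) (iv F20066)
def n14992 : Q := act 0 n11918
theorem D14992 : act 0 n11918 = n14992 := rfl
theorem F25963 : act 1 n14992 = n11920 := d0_2 D11918 D14992 (iv D11920) (iv D9282) (iv F15480)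
theorem F25964 : act 2 n14992 = n12297 := d1_2 F25946 D14992 (iv F25945)
theorem F25965 : act 3 n14992 = n12395 := d2_2 (iv F20073) D14992 (iv D12395)
theorem F25966 : act 4 n14992 = n12914 := d3_2 (iv F20074) D14992 (iv D12914)
theorem F25967 : act 5 n14992 = n12378 := d4_2 (iv F20075) D14992 (iv D12378)
def n14993 : Q := act 0 n11919
theorem D14993 : act 0 n11919 = n14993 := rfl
theorem F25968 : act 1 n14993 = n12914 := d0_2 D11919 D14993 (iv D12914) (iv D10120) (iv F15484)
theorem F25969 : act 2 n14993 = n11931 := d1_2 (iv F20076) D14993 (iv D11931)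
theorem F25970 : act 4 n14993 = n11920 := d3_2 (iv F20077) D14993 (iv D11920)
def n14994 : Q := act 3 n11920
theorem D14994 : act 3 n11920 = n14994 := rfl
theorem F25971 : act 0 n14994 = n11921 := d2_1 D14994 (iv D11921) D11920
theorem F25972 : act 1 n14994 = n12395 := d6_1 D14994 (iv F25965) F25963
theorem F25973 : act 5 n14994 = n12381 := d13_2 (iv F20079) D14994 (iv D12381)
theorem F25974 : act 2 n14994 = n13955 := d15_2 (iv F20078) D14994 F23932 F18521 (iv D10923) F14103 F11865 (iv F11841) D9292
def n14995 : Q := act 2 n11921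
theorem D14995 : act 2 n11921 = n14995 := rfl
theorem F25975 : act 0 n14995 = n13955 := d1_1 D14995 (iv F25974) F25971
theorem F25976 : act 1 n14995 = n12393 := d5_1 D14995 (iv D12393) F16138 (iv F15494) (iv F20080)
theorem F25977 : act 3 n14995 = n14039 := d9_2 D11921 D14995 (iv D14039) (iv D11046) (iv F15550) F15551 (iv F16124) D12381 F20907 F20632 (iv D12207) (iv D9518) F12181 (iv F11840) (iv F15490)
theorem F25978 : act 5 n14995 = n12383 := d11_2 (iv F20081) D14995 (iv D12383)
def n14996 : Q := act 4 n11921
theorem D14996 : act 4 n11921 = n14996 := rfl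
theorem F25979 : act 1 n14996 = n11922 := d7_1 D14996 (iv D11922) (iv F20080)
def n14997 : Q := act 2 n11923
theorem D14997 : act 2 n11923 = n14997 := rfl
theorem F25980 : act 0 n14997 = n11925 := d1_1 D14997 (iv D11925) (iv F20084)
theorem F25981 : act 3 n14997 = n14212 := d9_2 D11923 D14997 F24359 F18757 F18212 F15148 (iv F15499) (iv F20091) F20090 (iv D11196) F14398 F11010 (iv F13602) F13603 (iv F15496)
theorem F25982 : act 5 n14211 = n14997 := d13_0 F25981 (iv D14212) D14211
def n14998 : Q := act 5 n11923
theorem D14998 : act 5 n11923 = n14998 := rfl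
theorem F25983 : act 0 n14998 = n11926 := d4_1 D14998 (iv D11926) (iv F20084)
theorem F25984 : act 2 n14998 = n14211 := d11_1 D14998 F25982 (iv D14997)
theorem F25985 : act 3 n14998 = n11924 := d13_1 D14998 (iv D11924) D11923
def n14999 : Q := act 1 n11925
theorem D14999 : act 1 n11925 = n14999 := rfl
theorem F25986 : act 2 n14999 = n11927 := d5_2 D11925 D14999 (iv D11927) (iv D9287) (iv F15497)
theorem F25987 : act 3 n14999 = n14217 := d6_2 (iv F20087) D14999 F24369
theorem F25988 : act 5 n14999 = n14216 := d8_2 F20088 D14999 F24368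
def n15000 : Q := act 4 n11926
theorem D15000 : act 4 n11926 = n15000 := rfl
theorem F25989 : act 1 n15000 = n11930 := d7_1 D15000 (iv D11930) (iv F20089)
theorem F25990 : act 2 n15000 = n14218 := d10_1 D15000 F24372 (iv F20090)
def n15001 : Q := act 0 n11927
theorem D15001 : act 0 n11927 = n15001 := rfl
def n15002 : Q := act 3 n11927
theorem D15002 : act 3 n11927 = n15002 := rfl
theorem F25991 : act 1 n15002 = n11928 := d6_1 D15002 (iv D11928) D11927
theorem F25992 : act 5 n12296 = n15002 := d8_0 F25991 (iv F20093) (iv F20794)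
def n15003 : Q := act 5 n11927
theorem D15003 : act 5 n11927 = n15003 := rfl
theorem F25993 : act 1 n15003 = n11929 := d8_1 D15003 (iv D11929) D11927
theorem F25994 : act 2 n15003 = n14216 := d11_1 D15003 (iv F25988) F25986
theorem F25995 : act 3 n15003 = n12296 := d13_1 D15003 F25992 (iv D15002)
def n15004 : Q := act 4 n11928
theorem D15004 : act 4 n11928 = n15004 := rfl
theorem F25996 : act 0 n15004 = n12289 := d3_1 D15004 F25754 F25751
theorem F25997 : act 2 n15004 = n12290 := d10_1 D15004 F20782 (iv F20092)
theorem F25998 : act 3 n15004 = n12351 := d12_1 D15004 F25704 (iv D14859) F19870 D11928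
theorem F25999 : act 5 n15004 = n12248 := d14_2 F20093 D15004 (iv D12248) F15957 D9590
def n15005 : Q := act 4 n11929
theorem D15005 : act 4 n11929 = n15005 := rfl
theorem F26000 : act 0 n15005 = n12284 := d3_1 D15005 (iv F25748) F25746
theorem F26001 : act 2 n15005 = n11930 := d10_1 D15005 (iv D11930) (iv F20094)
theorem F26002 : act 3 n15005 = n12244 := d12_1 D15005 F20695 F15954 D9590 (iv F20095)
theorem F26003 : act 5 n15005 = n12352 := d14_2 D11929 D15005 (iv F25698) F25699 F19870
def n15006 : Q := act 3 n11931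
theorem D15006 : act 3 n11931 = n15006 := rfl
theorem F26004 : act 0 n15006 = n11932 := d2_1 D15006 (iv D11932) D11931
theorem F26005 : act 1 n15006 = n12291 := d6_1 D15006 F20785 (iv F20096)
theorem F26006 : act 4 n15006 = n12251 := d12_2 (iv F20097) D15006 (iv D12251) F15967 (iv F15508)
def n15007 : Q := act 5 n11931
theorem D15007 : act 5 n11931 = n15007 := rfl
theorem F26007 : act 0 n15007 = n11933 := d4_1 D15007 (iv D11933) D11931
theorem F26008 : act 1 n15007 = n12299 := d8_1 D15007 (iv D12299) (iv F20096)
theorem F26009 : act 4 n15007 = n12386 := d14_1 D15007 (iv D12386) (iv D9663) (iv F15509) (iv F20097)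
def n15008 : Q := act 2 n11932
theorem D15008 : act 2 n11932 = n15008 := rfl
theorem F26010 : act 4 n15008 = n12252 := d10_2 (iv F20099) D15008 (iv D12252)
def n15009 : Q := act 5 n11932
theorem D15009 : act 5 n11932 = n15009 := rfl
theorem F26011 : act 1 n15009 = n11935 := d8_1 D15009 (iv D11935) (iv F20098)
theorem F26012 : act 3 n15009 = n11933 := d13_1 D15009 (iv D11933) D11932
def n15010 : Q := act 1 n11934
theorem D15010 : act 1 n11934 = n15010 := rfl
theorem F26013 : act 4 n15010 = n12253 := d7_2 (iv F20103) D15010 (iv D12253)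
def n15011 : Q := act 4 n11935
theorem D15011 : act 4 n11935 = n15011 := rfl
theorem F26014 : act 0 n15011 = n12290 := d3_1 D15011 F20782 (iv F20104)
theorem F26015 : act 2 n15011 = n12289 := d10_1 D15011 F25754 F25752
theorem F26016 : act 3 n15011 = n12392 := d12_1 D15011 (iv D12392) F16136 (iv F15506) (iv F20105)
theorem F26017 : act 5 n15011 = n12250 := d14_2 D11935 D15011 (iv D12250) F15964 (iv F15503)
def n15012 : Q := act 2 n11938
theorem D15012 : act 2 n11938 = n15012 := rfl
theorem F26018 : act 0 n15012 = n12823 := d1_1 D15012 (iv D12823) (iv F20116)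
theorem F26019 : act 4 n15012 = n11940 := d10_2 (iv F20118) D15012 (iv D11940)
def n15013 : Q := act 5 n11938
theorem D15013 : act 5 n11938 = n15013 := rfl
theorem F26020 : act 0 n15013 = n12824 := d4_1 D15013 (iv D12824) (iv F20116)
theorem F26021 : act 1 n15013 = n11942 := d8_1 D15013 (iv D11942) (iv F20117)
theorem F26022 : act 3 n15013 = n11939 := d13_1 D15013 (iv D11939) D11938
theorem F26023 : act 4 n15013 = n11957 := d14_1 D15013 (iv D11957) F15563 (iv F15531) (iv F20118)
def n15014 : Q := act 1 n11940
theorem D15014 : act 1 n11940 = n15014 := rfl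
theorem F26024 : act 2 n15014 = n11943 := d5_2 D11940 D15014 (iv D11943) (iv D9301) (iv F15530)
theorem F26025 : act 5 n15014 = n11958 := d8_2 (iv F20123) D15014 (iv D11958)
def n15015 : Q := act 3 n11940
theorem D15015 : act 3 n11940 = n15015 := rfl
theorem F26026 : act 0 n15015 = n12906 := d2_1 D15015 (iv D12906) (iv F20122)
theorem F26027 : act 2 n15015 = n11976 := d9_1 D15015 (iv D11976) (iv D9327) (iv D7166) (iv F11578) D9093 D11699 D14758 F25506 (iv D12891) (iv D10099) (iv D7798) (iv F11852) D9298 D11940
theorem F26028 : act 5 n15015 = n11959 := d13_2 (iv F20123) D15015 (iv D11959)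
def n15016 : Q := act 1 n11941
theorem D15016 : act 1 n11941 = n15016 := rfl
theorem F26029 : act 4 n15016 = n11943 := d7_2 (iv F20125) D15016 (iv D11943)
def n15017 : Q := act 3 n11941
theorem D15017 : act 3 n11941 = n15017 := rfl
theorem F26030 : act 0 n15017 = n11949 := d2_1 D15017 (iv D11949) (iv F20124)
theorem F26031 : act 4 n15017 = n11949 := d12_2 (iv F20125) D15017 (iv D11949) F15543 (iv F15537)
def n15018 : Q := act 5 n11941
theorem D15018 : act 5 n11941 = n15018 := rfl
theorem F26032 : act 0 n15018 = n11950 := d4_1 D15018 (iv D11950) (iv F20124)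
theorem F26033 : act 2 n15018 = n11942 := d11_1 D15018 (iv D11942) D11941
theorem F26034 : act 4 n15018 = n11962 := d14_1 D15018 (iv D11962) F15566 (iv F15538) (iv F20125)
def n15019 : Q := act 0 n11943
theorem D15019 : act 0 n11943 = n15019 := rfl
theorem F26035 : act 1 n15019 = n11951 := d0_2 D11943 D15019 (iv D11951) (iv D9307) (iv F15536)
theorem F26036 : act 3 n15019 = n11951 := d2_2 (iv F20129) D15019 (iv D11951)
theorem F26037 : act 5 n15019 = n11963 := d4_2 (iv F20130) D15019 (iv D11963)
def n15020 : Q := act 2 n11944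
theorem D15020 : act 2 n11944 = n15020 := rfl
def n15021 : Q := act 5 n11944
theorem D15021 : act 5 n11944 = n15021 := rfl
theorem F26038 : act 1 n15021 = n11947 := d8_1 D15021 (iv D11947) (iv F20131)
theorem F26039 : act 3 n15021 = n11945 := d13_1 D15021 (iv D11945) D11944
def n15022 : Q := act 1 n11946
theorem D15022 : act 1 n11946 = n15022 := rfl
def n15023 : Q := act 3 n11946
theorem D15023 : act 3 n11946 = n15023 := rfl
def n15024 : Q := act 5 n11946
theorem D15024 : act 5 n11946 = n15024 := rfl
theorem F26040 : act 2 n15024 = n11947 := d11_1 D15024 (iv D11947) D11946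
def n15025 : Q := act 4 n11947
theorem D15025 : act 4 n11947 = n15025 := rfl
theorem F26041 : act 3 n15025 = n12910 := d12_1 D15025 (iv D12910) F16835 (iv F15542) (iv F20135)
def n15026 : Q := act 0 n11948
theorem D15026 : act 0 n11948 = n15026 := rfl
theorem F26042 : act 2 n15026 = n12918 := d1_2 (iv F20136) D15026 (iv D12918)
theorem F26043 : act 4 n15026 = n11951 := d3_2 (iv F20137) D15026 (iv D11951)
def n15027 : Q := act 3 n11948
theorem D15027 : act 3 n11948 = n15027 := rfl
theorem F26044 : act 1 n15027 = n11949 := d6_1 D15027 (iv D11949) D11948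
def n15028 : Q := act 5 n11948
theorem D15028 : act 5 n11948 = n15028 := rfl
theorem F26045 : act 1 n15028 = n11950 := d8_1 D15028 (iv D11950) D11948
theorem F26046 : act 2 n15028 = n12917 := d11_1 D15028 F21861 (iv F20136)
theorem F26047 : act 4 n15028 = n11972 := d14_1 D15028 (iv D11972) F15573 (iv F15548) (iv F20137)
def n15029 : Q := act 2 n11949
theorem D15029 : act 2 n11949 = n15029 := rfl
def n15030 : Q := act 5 n11949
theorem D15030 : act 5 n11949 = n15030 := rfl
theorem F26048 : act 3 n15030 = n11950 := d13_1 D15030 (iv D11950) D11949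
def n15031 : Q := act 1 n11952
theorem D15031 : act 1 n11952 = n15031 := rfl
theorem F26049 : act 0 n15031 = n12328 := d0_1 D15031 (iv D12328) F16086 (iv F15556) (iv F20142)
theorem F26050 : act 2 n15031 = n12378 := d5_2 D11952 D15031 F20898 F16124 (iv F15554)
theorem F26051 : act 3 n15031 = n12307 := d6_2 (iv F20143) D15031 (iv D12307)
theorem F26052 : act 5 n15031 = n12297 := d8_2 (iv F20144) D15031 (iv D12297)
def n15032 : Q := act 4 n11953
theorem D15032 : act 4 n11953 = n15032 := rfl
theorem F26053 : act 0 n15032 = n12308 := d3_1 D15032 (iv D12308) (iv F20145)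
theorem F26054 : act 1 n15032 = n12332 := d7_1 D15032 (iv D12332) (iv F20146)
theorem F26055 : act 2 n15032 = n12306 := d10_1 D15032 (iv D12306) (iv F20147)
def n15033 : Q := act 3 n11954
theorem D15033 : act 3 n11954 = n15033 := rfl
theorem F26056 : act 1 n15033 = n12333 := d6_1 D15033 (iv D12333) (iv F20149)
def n15034 : Q := act 5 n11954
theorem D15034 : act 5 n11954 = n15034 := rfl
theorem F26057 : act 1 n15034 = n12334 := d8_1 D15034 (iv D12334) (iv F20149)
theorem F26058 : act 2 n15034 = n11955 := d11_1 D15034 (iv D11955) (iv F20150)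
theorem F26059 : act 4 n15034 = n12301 := d14_1 D15034 (iv D12301) (iv D9595) (iv F15557) D11954
def n15035 : Q := act 5 n11956
theorem D15035 : act 5 n11956 = n15035 := rfl
theorem F26060 : act 2 n15035 = n11957 := d11_1 D15035 (iv D11957) D11956
def n15036 : Q := act 0 n11958
theorem D15036 : act 0 n11958 = n15036 := rfl
theorem F26061 : act 2 n15036 = n11963 := d1_2 (iv F20156) D15036 (iv D11963)
theorem F26062 : act 4 n15036 = n14093 := d3_2 (iv F24945) D15036 (iv F24942)
theorem F26063 : act 3 n14092 = n15036 := d12_5 F26062 (iv D14093) (iv D11088) D11087 D14092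
def n15037 : Q := act 3 n11958
theorem D15037 : act 3 n11958 = n15037 := rfl
theorem F26064 : act 0 n15037 = n14092 := d2_1 D15037 F26063 (iv D15036)
theorem F26065 : act 1 n15037 = n11959 := d6_1 D15037 (iv D11959) D11958
theorem F26066 : act 4 n15037 = n14090 := d12_2 (iv F24945) D15037 (iv D14090) (iv F19257) D14499
def n15038 : Q := act 2 n11959
theorem D15038 : act 2 n11959 = n15038 := rfl
theorem F26067 : act 0 n15038 = n12891 := d1_1 D15038 (iv F25506) F25504
theorem F26068 : act 3 n15038 = n11977 := d9_2 D11959 D15038 F20176 F15578 F11888 D7811 D10113 D12906 (iv F25468) (iv D14748) (iv D11689) (iv D9084) F11563 D7156 D9315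
theorem F26069 : act 5 n15038 = n11976 := d11_2 F26028 D15038 (iv F26027)
theorem F26070 : act 1 n12457 = n15038 := d6_3 F26068 F20175 D12457
def n15039 : Q := act 4 n11959
theorem D15039 : act 4 n11959 = n15039 := rfl
theorem F26071 : act 1 n15039 = n14090 := d7_1 D15039 (iv F26066) F26065
theorem F26072 : act 3 n15039 = n14089 := d12_1 D15039 (iv F24940) (iv F24941) F20153 D11959
theorem F26073 : act 0 n14082 = n15039 := d0_5 F26071 F24134 (iv F24095) F24094 D14082
theorem F26074 : act 4 n14758 = n14082 := d3_0 F26073 (iv D15039) (iv F25504)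
theorem F26075 : act 1 n14083 = n14758 := d7_3 F26074 (iv D14082) D14083
theorem F26076 : act 3 n14757 = n14083 := d6_0 F26075 (iv D14758) D14757
theorem E13 : n14084 = n12437 := (c15_4 (iv F25502) F26076 F24129 D14084 (iv D12437) (iv D9702) (iv F15777) D12121 (iv F25509) (iv D14759))
theorem F26077 : act 3 n12437 = n11082 := (sb E13 (iv D14084))
theorem F26078 : act 4 n12437 = n11083 := (sb E13 F24130)
theorem E14 : n14079 = n12441 := (c3_2 F26078 (iv F24123) (iv D12441) (iv F21003))
theorem F26079 : act 0 n12441 = n11083 := (sb E14 F24123)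
theorem F26080 : act 3 n12441 = n11078 := (sb E14 (iv D14079))
theorem E15 : n14086 = n12438 := (c10_2 F26078 D14086 (iv D12438) D12437)
theorem F26081 : act 2 n12438 = n11083 := (sb E15 (iv D14086))
theorem E16 : n14078 = n12440 := (c12_5 D12441 F26080 (iv D11078) D11077 D14078 (iv D12440))
theorem F26082 : act 0 n12440 = n11082 := (sb E16 F24122)
theorem F26083 : act 4 n12440 = n11077 := (sb E16 (iv D14078))
def n15040 : Q := act 0 n11960
theorem D15040 : act 0 n11960 = n15040 := rfl
theorem F26084 : act 1 n15040 = n11970 := d0_2 D11960 D15040 (iv D11970) (iv D9323) (iv F15565)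
theorem F26085 : act 2 n15040 = n14093 := d1_2 (iv F24944) D15040 (iv F24942)
theorem F26086 : act 4 n15040 = n11963 := d3_2 (iv F20157) D15040 (iv D11963)
def n15041 : Q := act 3 n11960
theorem D15041 : act 3 n11960 = n15041 := rfl
theorem F26087 : act 1 n15041 = n11961 := d6_1 D15041 (iv D11961) D11960
theorem F26088 : act 4 n15041 = n11971 := d12_2 (iv F20157) D15041 (iv D11971) F15573 (iv F15569)
theorem F26089 : act 2 n15041 = n11965 := d15_4 D11474 D14499 (iv F24944) D15041 F20165 (iv F16619) (iv F18585) (iv D11089) (iv F14801)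
theorem F26090 : act 5 n15041 = n11964 := d15_8 F21986 F16974 F13298 D8916 D11474 D14499 (iv F24944) D15041 (iv F21985)
def n15042 : Q := act 5 n11960
theorem D15042 : act 5 n11960 = n15042 := rfl
theorem F26091 : act 1 n15042 = n11962 := d8_1 D15042 (iv D11962) D11960
theorem F26092 : act 3 n15042 = n11964 := d13_1 D15042 (iv F26090) (iv D15041)
def n15043 : Q := act 2 n11961
theorem D15043 : act 2 n11961 = n15043 := rfl
theorem F26093 : act 0 n15043 = n11973 := d1_1 D15043 (iv D11973) (iv F20158)
theorem F26094 : act 1 n15043 = n11968 := d5_1 D15043 F20166 (iv F20164) (iv F26089) F26087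
theorem F26095 : act 3 n15043 = n11968 := d9_2 D11961 D15043 F20166 F15572 F11881 (iv F11883) (iv F15574) (iv F20170) (iv F22467) (iv D13232) F17342 F13314 F10125 D7157 D9316
theorem F26096 : act 4 n15043 = n11973 := d10_2 (iv F20159) D15043 (iv D11973)
theorem F26097 : act 5 n11967 = n15043 := d13_0 F26095 (iv D11968) D11967
theorem E17 : n11967 = n11966 := ((c8_4 F26097 F26094 (iv D11968) D11966)).symm
theorem F26098 : act 0 n11966 = n13232 := (sb E17 (iv F22466))
theorem F26099 : act 3 n11966 = n9321 := (sb E17 (iv D11967))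
theorem F26100 : act 5 n11966 = n15043 := (sb E17 F26097)
def n15044 : Q := act 5 n11961
theorem D15044 : act 5 n11961 = n15044 := rfl
theorem F26101 : act 0 n15044 = n11974 := d4_1 D15044 (iv D11974) (iv F20158)
theorem F26102 : act 1 n15044 = n11964 := d8_1 D15044 (iv F26090) F26087
theorem F26103 : act 2 n15044 = n11966 := d11_1 D15044 F26100 (iv D15043)
theorem F26104 : act 3 n15044 = n11962 := d13_1 D15044 (iv D11962) D11961
def n15045 : Q := act 4 n11965
theorem D15045 : act 4 n11965 = n15045 := rfl
theorem F26105 : act 1 n15045 = n11969 := d7_1 D15045 (iv D11969) (iv F20164)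
theorem F26106 : act 2 n15045 = n11971 := d10_1 D15045 (iv F26088) F26089
def n15046 : Q := act 4 n11968
theorem D15046 : act 4 n11968 = n15046 := rfl
theorem F26107 : act 1 n15046 = n11973 := d7_1 D15046 (iv F26096) F26094
theorem F26108 : act 2 n15046 = n11969 := d10_1 D15046 (iv D11969) (iv F20166)
def n15047 : Q := act 3 n11970
theorem D15047 : act 3 n11970 = n15047 := rfl
theorem F26109 : act 0 n15047 = n11971 := d2_1 D15047 (iv D11971) D11970
def n15048 : Q := act 5 n11970
theorem D15048 : act 5 n11970 = n15048 := rfl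
theorem F26110 : act 0 n15048 = n11972 := d4_1 D15048 (iv D11972) D11970
def n15049 : Q := act 5 n11971
theorem D15049 : act 5 n11971 = n15049 := rfl
theorem F26111 : act 1 n15049 = n11974 := d8_1 D15049 (iv D11974) (iv F20168)
theorem F26112 : act 3 n15049 = n11972 := d13_1 D15049 (iv D11972) D11971
def n15050 : Q := act 4 n11974
theorem D15050 : act 4 n11974 = n15050 := rfl
def n15051 : Q := act 0 n11975
theorem D15051 : act 0 n11975 = n15051 := rfl
theorem F26113 : act 2 n15051 = n11979 := d1_2 (iv F20171) D15051 (iv D11979)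
theorem F26114 : act 4 n15051 = n12067 := d3_2 (iv F20172) D15051 (iv D12067)
theorem F26115 : act 5 n15051 = n12454 := d4_2 F20173 D15051 F21029
def n15052 : Q := act 3 n11975
theorem D15052 : act 3 n11975 = n15052 := rfl
theorem F26116 : act 1 n15052 = n11976 := d6_1 D15052 (iv D11976) D11975
theorem F26117 : act 5 n15052 = n12457 := d13_2 F20173 D15052 (iv D12457)
def n15053 : Q := act 4 n11976
theorem D15053 : act 4 n11976 = n15053 := rfl
theorem F26118 : act 3 n15053 = n12071 := d12_1 D15053 (iv D12071) (iv D9411) (iv F15575) D11976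
def n15054 : Q := act 4 n11977
theorem D15054 : act 4 n11977 = n15054 := rfl
theorem F26119 : act 0 n15054 = n12340 := d3_1 D15054 F21783 (iv F20174)
theorem F26120 : act 1 n15054 = n12458 := d7_1 D15054 (iv D12458) (iv F20175)
theorem F26121 : act 2 n15054 = n11978 := d10_1 D15054 (iv D11978) (iv F20176)
theorem F26122 : act 5 n15054 = n12073 := d14_2 D11977 D15054 (iv D12073) (iv D9412) (iv F15575)
theorem F26123 : act 3 n12339 = n15054 := d15_1 (iv F20861) F26121 F20179 (iv F19802) D14822 (iv F25632) F20836 (iv D9633) D9631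
def n15055 : Q := act 2 n11981
theorem D15055 : act 2 n11981 = n15055 := rfl
theorem F26124 : act 0 n15055 = n11983 := d1_1 D15055 (iv D11983) (iv F20189)
theorem F26125 : act 1 n15055 = n12437 := d5_1 D15055 (iv D12437) (iv F20413) F20414 (iv F20190)
theorem F26126 : act 5 n15055 = n12445 := d11_2 F20191 D15055 F21009
theorem F26127 : act 4 n12559 = n15055 := d14_5 F26126 F21010 D12696 (iv F23756) F23757
theorem F26128 : act 3 n15055 = n12558 := d12_1 F26127 (iv D12558) F16417 D9823 D12559
def n15056 : Q := act 4 n11981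
theorem D15056 : act 4 n11981 = n15056 := rfl
theorem F26129 : act 0 n15056 = n11984 := d3_1 D15056 (iv D11984) (iv F20189)
theorem F26130 : act 1 n15056 = n12456 := d7_1 D15056 (iv D12456) (iv F20190)
theorem F26131 : act 2 n15056 = n12559 := d10_1 D15056 F26127 (iv D15055)
theorem F26132 : act 3 n15056 = n12674 := d12_1 D15056 (iv D12674) (iv F20186) F20187 D11981
theorem F26133 : act 5 n15056 = n12705 := d14_2 F20191 D15056 (iv D12705) (iv D9948) (iv F16204)
def n15057 : Q := act 4 n11982
theorem D15057 : act 4 n11982 = n15057 := rfl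
theorem F26134 : act 0 n15057 = n11985 := d3_1 D15057 (iv D11985) (iv F20192)
theorem F26135 : act 1 n15057 = n12455 := d7_1 D15057 (iv D12455) (iv F20193)
theorem F26136 : act 2 n15057 = n12902 := d10_1 D15057 F21836 (iv F20194)
theorem F26137 : act 3 n15057 = n12704 := d12_1 D15057 (iv D12704) (iv D9947) (iv F16204) (iv F20195)
theorem F26138 : act 5 n15057 = n12673 := d14_2 D11982 D15057 (iv D12673) (iv F20188) F20187
def n15058 : Q := act 3 n11983
theorem D15058 : act 3 n11983 = n15058 := rfl
theorem F26139 : act 0 n15058 = n12558 := d2_1 D15058 (iv F26128) F26124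
theorem F26140 : act 1 n15058 = n12412 := d6_1 D15058 F20965 (iv F20196)
theorem F26141 : act 5 n15058 = n12446 := d13_2 (iv F20197) D15058 (iv D12446)
theorem F26142 : act 4 n12525 = n15058 := d3_0 F26139 (iv D12558) (iv F21170)
theorem F26143 : act 2 n15058 = n12526 := d10_1 F26142 (iv D12526) D12525
def n15059 : Q := act 4 n11983
theorem D15059 : act 4 n11983 = n15059 := rfl
theorem F26144 : act 0 n15059 = n12559 := d3_1 D15059 F26127 F26124
theorem F26145 : act 1 n15059 = n12448 := d7_1 D15059 (iv D12448) (iv F20196)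
theorem F26146 : act 2 n15059 = n11984 := d10_1 D15059 (iv D11984) D11983
theorem F26147 : act 3 n15059 = n12551 := d12_1 D15059 (iv D12551) (iv F21171) F26142 (iv D15058)
theorem F26148 : act 5 n15059 = n12698 := d14_2 (iv F20197) D15059 (iv D12698) (iv D9942) (iv F16198)
def n15060 : Q := act 0 n11986
theorem D15060 : act 0 n11986 = n15060 := rfl
theorem F26149 : act 2 n15060 = n14568 := d1_2 (iv F20205) D15060 F25064
theorem F26150 : act 5 n15060 = n14566 := d4_2 F20206 D15060 F25061
theorem F26151 : act 3 n14581 = n15060 := d13_3 F26150 F25062 (iv F25090)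
def n15061 : Q := act 3 n11986
theorem D15061 : act 3 n11986 = n15061 := rfl
theorem F26152 : act 0 n15061 = n14581 := d2_1 D15061 F26151 (iv D15060)
theorem F26153 : act 1 n15061 = n11987 := d6_1 D15061 (iv D11987) D11986
theorem F26154 : act 2 n15061 = n14579 := d9_1 D15061 (iv D14579) (iv D11542) (iv D8964) (iv F14856) D11532 D14566 F25062 (iv D12592) (iv D9853) F12585 (iv F11358) (iv F14859) (iv F19360) (iv F20205)
theorem F26155 : act 5 n15061 = n12863 := d13_2 F20206 D15061 F21707
def n15062 : Q := act 4 n11987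
theorem D15062 : act 4 n11987 = n15062 := rfl
theorem F26156 : act 2 n15062 = n12864 := d10_1 D15062 (iv D12864) (iv F20207)
theorem F26157 : act 3 n15062 = n12871 := d12_1 D15062 (iv D12871) (iv F19627) F19626 D11987
theorem F26158 : act 5 n15062 = n12871 := d14_2 F20208 D15062 (iv D12871) (iv D10081) (iv F16797)
def n15063 : Q := act 4 n11988
theorem D15063 : act 4 n11988 = n15063 := rfl
theorem F26159 : act 1 n15063 = n14570 := d7_1 D15063 (iv D14570) (iv F20209)
theorem F26160 : act 2 n15063 = n11989 := d10_1 D15063 (iv D11989) (iv F20210)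
theorem F26161 : act 3 n15063 = n12870 := d12_1 D15063 (iv D12870) (iv D10080) (iv F16797) (iv F20211)
theorem F26162 : act 5 n15063 = n12870 := d14_2 D11988 D15063 (iv D12870) F19628 F19626
def n15064 : Q := act 2 n11990
theorem D15064 : act 2 n11990 = n15064 := rfl
theorem F26163 : act 0 n15064 = n14415 := d1_1 D15064 (iv F25569) F25566
theorem F26164 : act 4 n15064 = n12843 := d10_2 (iv F20214) D15064 (iv D12843)
theorem F26165 : act 3 n15064 = n14412 := d15_3 (iv F15615) D11990 D15064 (iv D14412) (iv D11373) F14668 D11297 (iv F18946) (iv D9345)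
def n15065 : Q := act 1 n11991
theorem D15065 : act 1 n11991 = n15065 := rfl
theorem F26166 : act 4 n15065 = n12847 := d7_2 (iv F20216) D15065 (iv D12847)
def n15066 : Q := act 4 n11992
theorem D15066 : act 4 n11992 = n15066 := rfl
theorem F26167 : act 0 n15066 = n12864 := d3_1 D15066 (iv D12864) (iv F20217)
theorem F26168 : act 3 n15066 = n12901 := d12_1 D15066 (iv D12901) F16827 (iv F15621) (iv F20218)
theorem F26169 : act 5 n15066 = n12848 := d14_2 D11992 D15066 (iv D12848) (iv D10063) (iv F15618)
def n15067 : Q := act 1 n11993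
theorem D15067 : act 1 n11993 = n15067 := rfl
theorem F26170 : act 0 n15067 = n12740 := d0_1 D15067 F21514 F16642 (iv F15635) (iv F20219)
theorem F26171 : act 2 n15067 = n12728 := d5_2 D11993 D15067 (iv D12728) (iv D9967) (iv F15629)
theorem F26172 : act 4 n15067 = n12319 := d7_2 F25648 D15067 (iv F25646)
theorem F26173 : act 5 n15067 = n12738 := d8_2 (iv F20220) D15067 F21511
theorem F26174 : act 3 n13822 = n15067 := d13_3 F26173 F21512 (iv F23670)
def n15068 : Q := act 3 n11993
theorem D15068 : act 3 n11993 = n15068 := rfl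
theorem F26175 : act 0 n15068 = n11994 := d2_1 D15068 (iv D11994) (iv F20219)
theorem F26176 : act 1 n15068 = n13822 := d6_1 D15068 F26174 (iv D15067)
theorem F26177 : act 2 n15068 = n12816 := d9_1 D15068 F21647 F16739 F12774 (iv F11957) F11958 (iv F12712) D9980 D12747 F21531 (iv D10031) (iv D7739) (iv F11952) D9348 D11993
theorem F26178 : act 5 n15068 = n12745 := d13_2 (iv F20220) D15068 (iv D12745)
def n15069 : Q := act 2 n11994
theorem D15069 : act 2 n11994 = n15069 := rfl
theorem F26179 : act 0 n15069 = n12816 := d1_1 D15069 (iv F26177) F26175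
theorem F26180 : act 1 n15069 = n13819 := d5_1 D15069 (iv D13819) F18225 (iv F16655) (iv F20221)
theorem F26181 : act 3 n15069 = n12811 := d9_2 D11994 D15069 F21634 F16735 (iv F15633) F15634 (iv F16648) D12745 F21526 (iv D10034) (iv D7741) (iv D5899) (iv F9045) D7196 D9350
theorem F26182 : act 5 n15069 = n12747 := d11_2 (iv F20222) D15069 (iv D12747)
def n15070 : Q := act 4 n11994
theorem D15070 : act 4 n11994 = n15070 := rfl
theorem F26183 : act 1 n15070 = n12752 := d7_1 D15070 (iv D12752) (iv F20221)
def n15071 : Q := act 3 n11995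
theorem D15071 : act 3 n11995 = n15071 := rfl
theorem F26184 : act 0 n15071 = n12316 := d2_1 D15071 (iv F25647) F25645
theorem F26185 : act 1 n15071 = n12756 := d6_1 D15071 (iv D12756) (iv F20223)
theorem F26186 : act 2 n15071 = n12324 := d9_1 D15071 (iv F25653) F25652 F19830 (iv F19825) (iv F25194) F25193 (iv D12315) F16065 D9616 (iv F19813) (iv D11763) F15257 (iv F15638) (iv F20224)
theorem F26187 : act 5 n15071 = n12314 := d13_2 F25209 D15071 (iv F25208)
def n15072 : Q := act 0 n11997
theorem D15072 : act 0 n11997 = n15072 := rfl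
theorem F26188 : act 4 n15072 = n12651 := d3_2 (iv F20226) D15072 (iv D12651)
def n15073 : Q := act 3 n11997
theorem D15073 : act 3 n11997 = n15073 := rfl
theorem F26189 : act 1 n15073 = n11998 := d6_1 D15073 (iv D11998) D11997
def n15074 : Q := act 5 n11997
theorem D15074 : act 5 n11997 = n15074 := rfl
theorem F26190 : act 1 n15074 = n11999 := d8_1 D15074 (iv D11999) D11997
def n15075 : Q := act 4 n11998
theorem D15075 : act 4 n11998 = n15075 := rfl
theorem F26191 : act 3 n15075 = n12654 := d12_1 D15075 (iv D12654) (iv D9907) (iv F15641) D11998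
def n15076 : Q := act 4 n11999
theorem D15076 : act 4 n11999 = n15076 := rfl
theorem F26192 : act 2 n15076 = n12000 := d10_1 D15076 (iv D12000) (iv F20227)
theorem F26193 : act 5 n15076 = n12655 := d14_2 D11999 D15076 (iv D12655) (iv D9908) (iv F15641)
def n15077 : Q := act 4 n12002
theorem D15077 : act 4 n12002 = n15077 := rfl
theorem F26194 : act 1 n15077 = n12005 := d7_1 D15077 (iv D12005) (iv F20230)
theorem F26195 : act 2 n15077 = n14259 := d10_1 D15077 F24452 F24412
theorem F26196 : act 3 n15077 = n12011 := d12_1 D15077 (iv D12011) (iv D9362) (iv F15643) D12002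
def n15078 : Q := act 5 n12002
theorem D15078 : act 5 n12002 = n15078 := rfl
theorem F26197 : act 1 n15078 = n12006 := d8_1 D15078 (iv D12006) (iv F20230)
theorem F26198 : act 3 n15078 = n12003 := d13_1 D15078 (iv D12003) D12002
def n15079 : Q := act 4 n12003
theorem D15079 : act 4 n12003 = n15079 := rfl
theorem F26199 : act 1 n15079 = n12007 := d7_1 D15079 (iv D12007) (iv F20231)
theorem F26200 : act 5 n15079 = n12012 := d14_2 D12003 D15079 (iv D12012) (iv D9363) (iv F15643)
def n15080 : Q := act 4 n12004
theorem D15080 : act 4 n12004 = n15080 := rfl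
theorem F26201 : act 1 n15080 = n14261 := d7_1 D15080 F24457 F23313
theorem F26202 : act 2 n15080 = n12005 := d10_1 D15080 (iv D12005) D12004
def n15081 : Q := act 5 n12005
theorem D15081 : act 5 n12005 = n15081 := rfl
theorem F26203 : act 3 n15081 = n12013 := d13_1 D15081 (iv D12013) (iv F20232)
def n15082 : Q := act 4 n12006
theorem D15082 : act 4 n12006 = n15082 := rfl
def n15083 : Q := act 3 n12007
theorem D15083 : act 3 n12007 = n15083 := rfl
theorem F26204 : act 5 n15083 = n12014 := d13_2 (iv F20235) D15083 (iv D12014)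
def n15084 : Q := act 2 n12008
theorem D15084 : act 2 n12008 = n15084 := rfl
theorem F26205 : act 0 n15084 = n12010 := d1_1 D15084 (iv D12010) (iv F20236)
theorem F26206 : act 5 n15084 = n14556 := d11_2 F22783 D15084 F25048
def n15085 : Q := act 4 n12008
theorem D15085 : act 4 n12008 = n15085 := rfl
theorem F26207 : act 0 n15085 = n12011 := d3_1 D15085 (iv D12011) (iv F20236)
def n15086 : Q := act 4 n12009
theorem D15086 : act 4 n12009 = n15086 := rfl
theorem F26208 : act 0 n15086 = n12012 := d3_1 D15086 (iv D12012) (iv F20237)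
def n15087 : Q := act 3 n12010
theorem D15087 : act 3 n12010 = n15087 := rfl
theorem F26209 : act 1 n15087 = n14545 := d6_1 D15087 F25022 (iv F20238)
theorem F26210 : act 5 n15087 = n14557 := d13_2 (iv F20239) D15087 (iv D14557)
def n15088 : Q := act 4 n12010
theorem D15088 : act 4 n12010 = n15088 := rfl
theorem F26211 : act 1 n15088 = n12013 := d7_1 D15088 F20243 (iv F20238)
theorem F26212 : act 2 n15088 = n12011 := d10_1 D15088 (iv D12011) D12010
theorem F26213 : act 5 n15088 = n12011 := d14_2 (iv F20239) D15088 (iv D12011) (iv F17603) (iv F19336)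
def n15089 : Q := act 3 n12012
theorem D15089 : act 3 n12012 = n15089 := rfl
theorem F26214 : act 1 n15089 = n12014 := d6_1 D15089 (iv D12014) (iv F20241)
theorem F26215 : act 4 n15089 = n14557 := d12_2 D12012 D15089 (iv D14557) F19336 F17602
def n15090 : Q := act 2 n12014
theorem D15090 : act 2 n12014 = n15090 := rfl
theorem F26216 : act 0 n15090 = n14564 := d1_1 D15090 F25058 F22787
theorem F26217 : act 4 n15090 = n14547 := d10_2 (iv F20244) D15090 F25027
def n15091 : Q := act 4 n12016
theorem D15091 : act 4 n12016 = n15091 := rfl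
theorem F26218 : act 1 n15091 = n12017 := d7_1 D15091 (iv D12017) (iv F20250)
def n15092 : Q := act 3 n12017
theorem D15092 : act 3 n12017 = n15092 := rfl
theorem F26219 : act 0 n15092 = n12026 := d2_1 D15092 (iv D12026) (iv F20252)
theorem F26220 : act 4 n15092 = n12046 := d12_2 D12017 D15092 (iv D12046) (iv D9393) (iv F15654)
def n15093 : Q := act 2 n12018
theorem D15093 : act 2 n12018 = n15093 := rfl
theorem F26221 : act 0 n15093 = n12020 := d1_1 D15093 (iv D12020) (iv F20254)
theorem F26222 : act 4 n15093 = n12020 := d10_2 (iv F20256) D15093 (iv D12020)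
theorem F26223 : act 3 n15093 = n14559 := d15_1 D15093 (iv D14559) (iv D11527) F14850 (iv F11983) (iv F15659) (iv F20260) (iv D12021) (iv F20254)
def n15094 : Q := act 5 n12018
theorem D15094 : act 5 n12018 = n15094 := rfl
theorem F26224 : act 0 n15094 = n12021 := d4_1 D15094 (iv D12021) (iv F20254)
theorem F26225 : act 1 n15094 = n12024 := d8_1 D15094 (iv D12024) (iv F20255)
theorem F26226 : act 3 n15094 = n12019 := d13_1 D15094 (iv D12019) D12018
def n15095 : Q := act 1 n12020
theorem D15095 : act 1 n12020 = n15095 := rfl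
theorem F26227 : act 2 n15095 = n12022 := d5_2 D12020 D15095 (iv D12022) (iv D9374) (iv F15657)
theorem F26228 : act 5 n12031 = n15095 := d11_0 F26227 F20262 D12031
def n15096 : Q := act 3 n12020
theorem D15096 : act 3 n12020 = n15096 := rfl
theorem F26229 : act 0 n15096 = n14559 := d2_1 D15096 (iv F26223) F26221
theorem F26230 : act 2 n15096 = n14558 := d15_2 D12020 D15096 (iv D14558) F19344 (iv F15670) (iv F20258) (iv F26226) (iv D15094) F20254
def n15097 : Q := act 5 n12020
theorem D15097 : act 5 n12020 = n15097 := rfl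
theorem F26231 : act 1 n15097 = n12031 := d8_1 D15097 F26228 (iv D15095)
theorem F26232 : act 2 n15097 = n12021 := d11_1 D15097 (iv D12021) D12020
def n15098 : Q := act 4 n12021
theorem D15098 : act 4 n12021 = n15098 := rfl
theorem F26233 : act 1 n15098 = n12025 := d7_1 D15098 (iv D12025) (iv F20259)
def n15099 : Q := act 0 n12022
theorem D15099 : act 0 n12022 = n15099 := rfl
theorem F26234 : act 1 n15099 = n12038 := d0_2 D12022 D15099 F20284 F15683 (iv F15660)
theorem F26235 : act 3 n15099 = n12030 := d2_2 (iv F20261) D15099 F20274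
theorem F26236 : act 5 n15099 = n12029 := d4_2 (iv F20262) D15099 F20272
def n15100 : Q := act 4 n12022
theorem D15100 : act 4 n12022 = n15100 := rfl
theorem F26237 : act 1 n15100 = n12023 := d7_1 D15100 (iv D12023) D12022
def n15101 : Q := act 3 n12023
theorem D15101 : act 3 n12023 = n15101 := rfl
theorem F26238 : act 0 n15101 = n12047 := d2_1 D15101 (iv D12047) (iv F20263)
theorem F26239 : act 4 n15101 = n12035 := d12_2 D12023 D15101 (iv D12035) (iv D9385) (iv F15661)
def n15102 : Q := act 5 n12023
theorem D15102 : act 5 n12023 = n15102 := rfl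
theorem F26240 : act 0 n15102 = n12040 := d4_1 D15102 (iv F20289) (iv F20263)
theorem F26241 : act 2 n15102 = n12024 := d11_1 D15102 (iv D12024) (iv F20264)
theorem F26242 : act 4 n15102 = n12034 := d14_1 D15102 (iv D12034) (iv D9384) F15662 D12023
def n15103 : Q := act 4 n12024
theorem D15103 : act 4 n12024 = n15103 := rfl
theorem F26243 : act 0 n15103 = n12045 := d3_1 D15103 (iv D12045) (iv F20265)
theorem F26244 : act 2 n15103 = n12034 := d10_1 D15103 (iv F26242) F26241
theorem F26245 : act 5 n15103 = n12025 := d14_2 D12024 D15103 (iv D12025) (iv D9376) D9375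
def n15104 : Q := act 3 n12025
theorem D15104 : act 3 n12025 = n15104 := rfl
theorem F26246 : act 0 n15104 = n12046 := d2_1 D15104 (iv D12046) (iv F20266)
theorem F26247 : act 4 n15104 = n12026 := d12_2 D12025 D15104 (iv D12026) (iv D9377) (iv F15665)
def n15105 : Q := act 2 n12026
theorem D15105 : act 2 n12026 = n15105 := rfl
def n15106 : Q := act 1 n12027
theorem D15106 : act 1 n12027 = n15106 := rfl
theorem F26248 : act 0 n15106 = n14544 := d0_1 D15106 F25019 F19320 (iv F15671) (iv F20268)
theorem F26249 : act 5 n15106 = n14542 := d8_2 (iv F20269) D15106 F25015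
def n15107 : Q := act 3 n12027
theorem D15107 : act 3 n12027 = n15107 := rfl
theorem F26250 : act 0 n15107 = n12028 := d2_1 D15107 (iv D12028) (iv F20268)
theorem F26251 : act 5 n15107 = n14558 := d13_2 (iv F20269) D15107 (iv D14558)
def n15108 : Q := act 2 n12028
theorem D15108 : act 2 n12028 = n15108 := rfl
theorem F26252 : act 5 n15108 = n14559 := d11_2 (iv F20271) D15108 (iv D14559)
def n15109 : Q := act 4 n12028
theorem D15109 : act 4 n12028 = n15109 := rfl
theorem F26253 : act 1 n15109 = n14564 := d7_1 D15109 (iv D14564) (iv F20270)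
def n15110 : Q := act 2 n12029
theorem D15110 : act 2 n12029 = n15110 := rfl
theorem F26254 : act 0 n15110 = n12031 := d1_1 D15110 (iv D12031) (iv F20272)
def n15111 : Q := act 4 n12029
theorem D15111 : act 4 n12029 = n15111 := rfl
theorem F26255 : act 0 n15111 = n12032 := d3_1 D15111 (iv D12032) (iv F20272)
theorem F26256 : act 1 n15111 = n12037 := d7_1 D15111 (iv D12037) (iv F20273)
def n15112 : Q := act 4 n12030
theorem D15112 : act 4 n12030 = n15112 := rfl
theorem F26257 : act 0 n15112 = n12033 := d3_1 D15112 (iv D12033) (iv F20274)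
theorem F26258 : act 1 n15112 = n12039 := d7_1 D15112 (iv D12039) (iv F20275)
theorem F26259 : act 2 n15112 = n12370 := d10_1 D15112 (iv F22974) F22973
theorem F26260 : act 5 n15112 = n12369 := d14_2 D12030 D15112 (iv D12369) (iv F19773) F19772
def n15113 : Q := act 3 n12031
theorem D15113 : act 3 n12031 = n15113 := rfl
def n15114 : Q := act 4 n12031
theorem D15114 : act 4 n12031 = n15114 := rfl
theorem F26261 : act 2 n15114 = n12032 := d10_1 D15114 (iv D12032) D12031
def n15115 : Q := act 5 n12032
theorem D15115 : act 5 n12032 = n15115 := rfl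
theorem F26262 : act 1 n15115 = n12034 := d8_1 D15115 (iv D12034) (iv F20276)
def n15116 : Q := act 3 n12033
theorem D15116 : act 3 n12033 = n15116 := rfl
theorem F26263 : act 1 n15116 = n12035 := d6_1 D15116 (iv D12035) (iv F20277)
theorem F26264 : act 5 n15116 = n12374 := d13_2 (iv F20279) D15116 (iv D12374)
def n15117 : Q := act 1 n12036
theorem D15117 : act 1 n12036 = n15117 := rfl
def n15118 : Q := act 4 n12036
theorem D15118 : act 4 n12036 = n15118 := rfl
theorem F26265 : act 0 n15118 = n12042 := d3_1 D15118 (iv D12042) (iv F20282)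
theorem F26266 : act 2 n15118 = n12037 := d10_1 D15118 (iv D12037) D12036
theorem F26267 : act 5 n12037 = n15118 := d4_0 F26265 (iv F20293) (iv F20283)
def n15119 : Q := act 5 n12036
theorem D15119 : act 5 n12036 = n15119 := rfl
theorem F26268 : act 0 n15119 = n12043 := d4_1 D15119 (iv D12043) (iv F20282)
theorem F26269 : act 2 n15119 = n12038 := d11_1 D15119 (iv D12038) D12036
theorem F26270 : act 3 n15119 = n12052 := d13_1 D15119 (iv F22073) F22074
theorem F26271 : act 4 n15119 = n12038 := d14_1 D15119 (iv D12038) D12037 F26267 (iv D15118)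
def n15120 : Q := act 3 n12039
theorem D15120 : act 3 n12039 = n15120 := rfl
theorem F26272 : act 0 n15120 = n12044 := d2_1 D15120 (iv D12044) (iv F20286)
theorem F26273 : act 4 n15120 = n12052 := d12_2 D12039 D15120 (iv F26270) F26271 F20285
theorem F26274 : act 2 n12053 = n15120 := d10_3 F26273 (iv D12052) D12053
theorem F26275 : act 3 n13297 = n12053 := d15_1 D13297 F26274 (iv D15120) F20287 (iv F16913) F16912 D10289 D13118 F22289
theorem F26276 : act 1 n13221 = n13297 := d6_3 F26275 (iv F22081) (iv F22441)
theorem F26277 : act 4 n12054 = n13297 := d12_0 F26275 (iv D12053) (iv D9400) D9401 D12054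
theorem F26278 : act 2 n13296 = n12054 := d10_3 F26277 (iv D13297) (iv F22603)
theorem F26279 : act 1 n13220 = n13298 := d5_3 F26278 F20308 (iv F22439) (iv D13298) (iv F22602)
theorem F26280 : act 5 n13217 = n13296 := d11_0 F26278 F20309 D13217
theorem E18 : n13304 = n13291 := (c15_10 F22598 D13296 F26278 (iv D12054) F15692 (iv F13407) (iv F17461) (iv F22621) (iv D13312) (iv F22610))
theorem F26281 : act 0 n13291 = n10442 := (sb E18 F22610)
theorem F26282 : act 3 n13291 = n10437 := (sb E18 (iv D13304))
theorem E19 : n13302 = n13293 := (c6_2 F26282 (iv F22608) (iv D13293) (iv F22597))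
theorem F26283 : act 1 n13293 = n10437 := (sb E19 F22608)
theorem F26284 : act 4 n13293 = n10435 := (sb E19 (iv D13302))
theorem E20 : n13303 = n13290 := (c12_5 D13291 F26282 (iv D10437) D10436 D13303 (iv D13290))
theorem E21 : n10441 = n10440 := (((F22593).symm.trans (sb E20 F22609))).symm
theorem F26285 : act 4 n13290 = n10436 := (sb E20 (iv D13303))
theorem E22 : n13307 = n13253 := ((D13307).symm.trans (sb E21 (iv F22528)))
theorem E23 : n13308 = n8086 := ((((iv D10440)).symm.trans (sb E21 (iv F22618)))).symm
theorem E24 : n13309 = n13287 := ((((iv F22590)).symm.trans (sb E21 D13309))).symm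
theorem F26286 : act 1 n13253 = n10440 := (sb E22 (iv D13307))
theorem F26287 : act 4 n8086 = n10440 := (sb E23 (iv D13308))
theorem F26288 : act 4 n13287 = n10442 := (sb E24 F22619)
theorem E26 : n13311 = n13289 := (c10_2 F26288 D13311 (iv D13289) (iv F22589))
theorem F26289 : act 2 n13289 = n10442 := (sb E26 (iv D13311))
theorem F26290 : act 3 n13217 = n13295 := d15_7 F26289 (iv D10442) F13405 (iv F12935) (iv F13293) D10367 D13217 F22601 (iv F22592)
theorem F26291 : act 1 n13299 = n13217 := d6_3 F26290 F22600 (iv F22605)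
theorem F26292 : act 2 n13218 = n13299 := d5_0 F26291 (iv D13217) F17324 D10368 D13218
theorem F26293 : act 5 n13298 = n13218 := d11_0 F26292 (iv D13299) D13298
theorem F26294 : act 3 n12941 = n13218 := d15_1 D12941 F26292 F22605 F17447 (iv F16855) (iv F16890) D12943 F21917 F16892
theorem F26295 : act 1 n13219 = n12941 := d6_3 F26294 (iv D13218) D13219
theorem E27 : n13301 = n13292 := (c7_2 F26285 (iv F22607) (iv D13292) (iv F22594))
theorem F26296 : act 1 n13292 = n10436 := (sb E27 F22607)
theorem F26297 : act 3 n13292 = n10435 := (sb E27 (iv D13301))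
theorem F26298 : act 4 n13300 = n13220 := d7_0 F26279 F22604 D13300
theorem F26299 : act 2 n13221 = n13300 := d10_3 F26298 F22439 D13221
def n15121 : Q := act 3 n12040
theorem D15121 : act 3 n12040 = n15121 := rfl
theorem F26300 : act 1 n15121 = n12041 := d6_1 D15121 (iv D12041) D12040
theorem F26301 : act 5 n15121 = n12047 := d13_2 F20289 D15121 (iv D12047)
def n15122 : Q := act 4 n12041
theorem D15122 : act 4 n12041 = n15122 := rfl
theorem F26302 : act 0 n15122 = n13159 := d3_1 D15122 F22337 F22072
theorem F26303 : act 2 n15122 = n13157 := d10_1 D15122 F22334 F22071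
def n15123 : Q := act 5 n12041
theorem D15123 : act 5 n12041 = n15123 := rfl
theorem F26304 : act 0 n15123 = n12052 := d4_1 D15123 (iv F22073) F22072
theorem F26305 : act 1 n15123 = n12047 := d8_1 D15123 (iv F26301) F26300
theorem F26306 : act 2 n15123 = n12050 := d11_1 D15123 (iv F22070) F22071
theorem F26307 : act 3 n15123 = n12043 := d13_1 D15123 (iv D12043) D12041
theorem F26308 : act 4 n12044 = n15123 := d12_0 F26307 F20296 F15684 D9391 D12044
def n15124 : Q := act 2 n12044
theorem D15124 : act 2 n12044 = n15124 := rfl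
theorem F26309 : act 0 n15124 = n12053 := d1_1 D15124 F26274 F26272
theorem F26310 : act 4 n15124 = n12050 := d10_2 (iv F26308) D15124 (iv F26306)
def n15125 : Q := act 3 n12045
theorem D15125 : act 3 n12045 = n15125 := rfl
theorem F26311 : act 1 n15125 = n12046 := d6_1 D15125 (iv D12046) (iv F20298)
theorem F26312 : act 5 n15125 = n12046 := d13_2 (iv F20300) D15125 (iv D12046)
def n15126 : Q := act 2 n12046
theorem D15126 : act 2 n12046 = n15126 := rfl
def n15127 : Q := act 2 n12047
theorem D15127 : act 2 n12047 = n15127 := rfl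
theorem F26313 : act 4 n15127 = n12048 := d10_2 (iv F20301) D15127 (iv D12048)
def n15128 : Q := act 1 n12048
theorem D15128 : act 1 n12048 = n15128 := rfl
def n15129 : Q := act 3 n12049
theorem D15129 : act 3 n12049 = n15129 := rfl
theorem F26314 : act 0 n15129 = n13167 := d2_1 D15129 F22354 (iv F20302)
theorem F26315 : act 1 n15129 = n12050 := d6_1 D15129 (iv D12050) D12049
theorem F26316 : act 5 n15129 = n13163 := d13_2 (iv F20303) D15129 (iv D13163)
def n15130 : Q := act 4 n12049
theorem D15130 : act 4 n12049 = n15130 := rfl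
theorem F26317 : act 0 n15130 = n13037 := d3_1 D15130 F22127 (iv F20302)
theorem F26318 : act 1 n15130 = n12051 := d7_1 D15130 (iv D12051) D12049
theorem F26319 : act 5 n15130 = n13032 := d14_2 (iv F20303) D15130 (iv D13032) F17073 D10324
def n15131 : Q := act 3 n12051
theorem D15131 : act 3 n12051 = n15131 := rfl
theorem F26320 : act 0 n15131 = n12054 := d2_1 D15131 (iv D12054) (iv F20305)
theorem F26321 : act 5 n15131 = n13216 := d13_2 (iv F20307) D15131 (iv D13216)
def n15132 : Q := act 1 n12052
theorem D15132 : act 1 n12052 = n15132 := rfl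
def n15133 : Q := act 5 n12053
theorem D15133 : act 5 n12053 = n15133 := rfl
theorem F26322 : act 1 n15133 = n13162 := d8_1 D15133 F22345 F22081
theorem F26323 : act 4 n15133 = n13160 := d14_1 D15133 (iv D13160) F17247 F17039 D12053
def n15134 : Q := act 3 n12055
theorem D15134 : act 3 n12055 = n15134 := rfl
theorem F26324 : act 1 n15134 = n12056 := d6_1 D15134 (iv D12056) D12055
def n15135 : Q := act 4 n12056
theorem D15135 : act 4 n12056 = n15135 := rfl
theorem F26325 : act 0 n15135 = n12058 := d3_1 D15135 (iv D12058) (iv F20310)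
def n15136 : Q := act 1 n12057
theorem D15136 : act 1 n12057 = n15136 := rfl
def n15137 : Q := act 4 n12057
theorem D15137 : act 4 n12057 = n15137 := rfl
theorem F26326 : act 2 n15137 = n12058 := d10_1 D15137 (iv D12058) D12057
def n15138 : Q := act 5 n12058
theorem D15138 : act 5 n12058 = n15138 := rfl
def n15139 : Q := act 1 n12059
theorem D15139 : act 1 n12059 = n15139 := rfl
theorem F26327 : act 2 n15139 = n14352 := d5_2 D12059 D15139 F24685 (iv D14364) F18995
theorem F26328 : act 4 n15139 = n12061 := d7_2 (iv F20311) D15139 (iv D12061)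
theorem F26329 : act 0 n14355 = n15139 := d1_3 F26327 F24657 D14355
def n15140 : Q := act 3 n12059
theorem D15140 : act 3 n12059 = n15140 := rfl
def n15141 : Q := act 5 n12059
theorem D15141 : act 5 n12059 = n15141 := rfl
theorem F26330 : act 2 n15141 = n12060 := d11_1 D15141 (iv D12060) D12059
def n15142 : Q := act 4 n12060
theorem D15142 : act 4 n12060 = n15142 := rfl
theorem F26331 : act 0 n15142 = n14601 := d3_1 D15142 F25124 F23321
theorem F26332 : act 3 n15142 = n14574 := d12_1 D15142 F25077 F19384 F18691 (iv F20312)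
theorem F26333 : act 5 n15142 = n12062 := d14_2 D12060 D15142 (iv D12062) (iv D9407) (iv F15695)
def n15143 : Q := act 0 n12061
theorem D15143 : act 0 n12061 = n15143 := rfl
theorem F26334 : act 2 n15143 = n14353 := d1_2 F23272 D15143 F24659
theorem F26335 : act 4 n15143 = n14355 := d3_2 F26328 D15143 F26329
def n15144 : Q := act 0 n12063
theorem D15144 : act 0 n12063 = n15144 := rfl
theorem F26336 : act 1 n15144 = n12067 := d0_2 D12063 D15144 (iv D12067) (iv D9410) (iv F15698)
theorem F26337 : act 2 n15144 = n14422 := d1_2 F25469 D15144 (iv F25473)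
theorem F26338 : act 5 n14421 = n15144 := d11_0 F26337 (iv D14422) D14421
def n15145 : Q := act 3 n12063
theorem D15145 : act 3 n12063 = n15145 := rfl
theorem F26339 : act 1 n15145 = n12064 := d6_1 D15145 (iv D12064) D12063
theorem F26340 : act 2 n14479 = n15145 := d5_0 F26339 F20316 F18795 D11452 D14479
theorem F26341 : act 5 n14238 = n15145 := d8_0 F26339 (iv F20317) D14238
def n15146 : Q := act 5 n12063
theorem D15146 : act 5 n12063 = n15146 := rfl
theorem F26342 : act 0 n15146 = n14421 := d4_1 D15146 F26338 (iv D15144)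
theorem F26343 : act 1 n15146 = n12065 := d8_1 D15146 (iv D12065) D12063
theorem F26344 : act 2 n15146 = n14379 := d11_1 D15146 F25472 F25469
theorem F26345 : act 3 n15146 = n14238 := d13_1 D15146 F26341 (iv D15145)
theorem F26346 : act 4 n15146 = n12344 := d14_1 D15146 (iv D12344) D12343 (iv F25465) F25464
def n15147 : Q := act 4 n12064
theorem D15147 : act 4 n12064 = n15147 := rfl
theorem F26347 : act 0 n15147 = n12071 := d3_1 D15147 (iv D12071) (iv F20315)
theorem F26348 : act 2 n15147 = n14239 := d10_1 D15147 (iv D14239) (iv F20316)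
def n15148 : Q := act 4 n12065
theorem D15148 : act 4 n12065 = n15148 := rfl
theorem F26349 : act 0 n15148 = n12073 := d3_1 D15148 (iv D12073) (iv F20318)
theorem F26350 : act 1 n15148 = n12344 := d7_1 D15148 (iv F26346) F26343
theorem F26351 : act 2 n15148 = n12066 := d10_1 D15148 (iv D12066) (iv F20319)
theorem F26352 : act 5 n15148 = n12340 := d14_2 D12065 D15148 F21783 (iv F19662) F19661
theorem F26353 : act 3 n12341 = n15148 := d13_3 F26352 (iv D12340) D12341
def n15149 : Q := act 3 n12067
theorem D15149 : act 3 n12067 = n15149 := rfl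
theorem F26354 : act 0 n15149 = n12068 := d2_1 D15149 (iv D12068) D12067
def n15150 : Q := act 5 n12067
theorem D15150 : act 5 n12067 = n15150 := rfl
theorem F26355 : act 0 n15150 = n12069 := d4_1 D15150 (iv D12069) D12067
theorem F26356 : act 1 n15150 = n14421 := d8_1 D15150 F26338 F26336
theorem F26357 : act 2 n15150 = n12075 := d11_1 D15150 (iv D12075) (iv F20325)
theorem F26358 : act 4 n14423 = n15150 := d7_0 F26356 F24789 D14423
def n15151 : Q := act 2 n12068
theorem D15151 : act 2 n12068 = n15151 := rfl
def n15152 : Q := act 4 n12068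
theorem D15152 : act 4 n12068 = n15152 := rfl
theorem F26359 : act 1 n15152 = n12071 := d7_1 D15152 (iv D12071) (iv F20326)
def n15153 : Q := act 5 n12068
theorem D15153 : act 5 n12068 = n15153 := rfl
theorem F26360 : act 1 n15153 = n12072 := d8_1 D15153 (iv D12072) (iv F20326)
theorem F26361 : act 3 n15153 = n12069 := d13_1 D15153 (iv D12069) D12068
def n15154 : Q := act 4 n12069
theorem D15154 : act 4 n12069 = n15154 := rfl
theorem F26362 : act 0 n15154 = n14423 := d3_1 D15154 F26358 F26355
theorem F26363 : act 1 n15154 = n12073 := d7_1 D15154 (iv D12073) (iv F20327)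
theorem F26364 : act 2 n15154 = n12078 := d10_1 D15154 (iv D12078) (iv F20328)
theorem F26365 : act 5 n15154 = n12458 := d14_2 D12069 D15154 (iv D12458) F20173 F20172
def n15155 : Q := act 1 n12070
theorem D15155 : act 1 n12070 = n15155 := rfl
theorem F26366 : act 0 n15155 = n14453 := d0_1 D15155 F24852 F19169 (iv F18795) (iv F20329)
theorem F26367 : act 3 n15155 = n14228 := d6_2 (iv F20330) D15155 F24391
theorem F26368 : act 5 n15155 = n14227 := d8_2 F20331 D15155 F24389
def n15156 : Q := act 4 n12070
theorem D15156 : act 4 n12070 = n15156 := rfl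
theorem F26369 : act 0 n15156 = n14239 := d3_1 D15156 (iv D14239) (iv F20329)
theorem F26370 : act 2 n15156 = n12071 := d10_1 D15156 (iv D12071) D12070
theorem F26371 : act 3 n15156 = n14483 := d12_1 D15156 (iv D14483) (iv D11454) (iv F18789) (iv F20330)
def n15157 : Q := act 5 n12071
theorem D15157 : act 5 n12071 = n15157 := rfl
def n15158 : Q := act 4 n12072
theorem D15158 : act 4 n12072 = n15158 := rfl
theorem F26372 : act 0 n15158 = n14236 := d3_1 D15158 F24405 (iv F20332)
theorem F26373 : act 2 n15158 = n14229 := d10_1 D15158 F24395 (iv F20333)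
def n15159 : Q := act 3 n12073
theorem D15159 : act 3 n12073 = n15159 := rfl
theorem F26374 : act 0 n15159 = n12341 := d2_1 D15159 F26353 F26349
theorem F26375 : act 5 n15159 = n12339 := d13_2 F26122 D15159 F26123
theorem F26376 : act 2 n12347 = n15159 := d15_0 (iv D15159) F20335 (iv F18912) (iv F24576) (iv F24578) (iv D12348) (iv D9632) D9633 (iv F20873)
def n15160 : Q := act 2 n12074
theorem D15160 : act 2 n12074 = n15160 := rfl
theorem F26377 : act 0 n15160 = n12076 := d1_1 D15160 (iv D12076) (iv F20336)
theorem F26378 : act 5 n15160 = n12214 := d11_2 F20338 D15160 F20642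
def n15161 : Q := act 4 n12074
theorem D15161 : act 4 n12074 = n15161 := rfl
theorem F26379 : act 0 n15161 = n12077 := d3_1 D15161 (iv D12077) (iv F20336)
theorem F26380 : act 1 n15161 = n12674 := d7_1 D15161 (iv D12674) (iv F20337)
theorem F26381 : act 3 n15161 = n12456 := d12_1 D15161 (iv D12456) (iv F20182) F20183 D12074
theorem F26382 : act 5 n15161 = n12609 := d14_2 F20338 D15161 F21327 F16491 (iv F16489)
def n15162 : Q := act 4 n12075
theorem D15162 : act 4 n12075 = n15162 := rfl
theorem F26383 : act 0 n15162 = n12078 := d3_1 D15162 (iv D12078) (iv F20339)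
theorem F26384 : act 1 n15162 = n12673 := d7_1 D15162 (iv D12673) (iv F20340)
theorem F26385 : act 2 n15162 = n14423 := d10_1 D15162 F26358 F26357
theorem F26386 : act 3 n15162 = n12611 := d12_1 D15162 (iv D12611) (iv D9869) (iv F16489) (iv F20341)
theorem F26387 : act 5 n15162 = n12455 := d14_2 D12075 D15162 (iv D12455) (iv F20184) F20183
def n15163 : Q := act 3 n12076
theorem D15163 : act 3 n12076 = n15163 := rfl
theorem F26388 : act 1 n15163 = n12218 := d6_1 D15163 F20646 (iv F20342)
theorem F26389 : act 5 n15163 = n12215 := d13_2 (iv F20343) D15163 (iv D12215)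
def n15164 : Q := act 4 n12076
theorem D15164 : act 4 n12076 = n15164 := rfl
theorem F26390 : act 1 n15164 = n12219 := d7_1 D15164 (iv D12219) (iv F20342)
theorem F26391 : act 2 n15164 = n12077 := d10_1 D15164 (iv D12077) D12076
theorem F26392 : act 5 n15164 = n12224 := d14_2 (iv F20343) D15164 (iv D12224) (iv D9528) (iv F15916)
def n15165 : Q := act 2 n12079
theorem D15165 : act 2 n12079 = n15165 := rfl
theorem F26393 : act 0 n15165 = n12081 := d1_1 D15165 (iv D12081) (iv F20350)
theorem F26394 : act 5 n15165 = n12234 := d11_2 F20352 D15165 F20675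
def n15166 : Q := act 4 n12079
theorem D15166 : act 4 n12079 = n15166 := rfl
theorem F26395 : act 0 n15166 = n12082 := d3_1 D15166 (iv D12082) (iv F20350)
theorem F26396 : act 1 n15166 = n12280 := d7_1 D15166 (iv D12280) (iv F20351)
def n15167 : Q := act 4 n12080
theorem D15167 : act 4 n12080 = n15167 := rfl
theorem F26397 : act 0 n15167 = n12083 := d3_1 D15167 (iv D12083) (iv F20353)
theorem F26398 : act 1 n15167 = n12279 := d7_1 D15167 (iv D12279) (iv F20354)
def n15168 : Q := act 3 n12081
theorem D15168 : act 3 n12081 = n15168 := rfl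
theorem F26399 : act 1 n15168 = n12238 := d6_1 D15168 F20680 (iv F20356)
theorem F26400 : act 5 n15168 = n12235 := d13_2 (iv F20357) D15168 (iv D12235)
def n15169 : Q := act 4 n12081
theorem D15169 : act 4 n12081 = n15169 := rfl
theorem F26401 : act 1 n15169 = n12239 := d7_1 D15169 (iv D12239) (iv F20356)
theorem F26402 : act 2 n15169 = n12082 := d10_1 D15169 (iv D12082) D12081
def n15170 : Q := act 0 n12084
theorem D15170 : act 0 n12084 = n15170 := rfl
theorem F26403 : act 1 n15170 = n12445 := d0_2 D12084 D15170 (iv D12445) (iv D9709) (iv F15728)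
theorem F26404 : act 2 n15170 = n12092 := d1_2 (iv F20360) D15170 (iv D12092)
theorem F26405 : act 4 n15170 = n12690 := d3_2 (iv F20361) D15170 (iv D12690)
theorem F26406 : act 5 n15170 = n12437 := d4_2 F20362 D15170 F21003
theorem F26407 : act 3 n14085 = n15170 := d13_3 F26406 F26077 D14085
def n15171 : Q := act 3 n12084
theorem D15171 : act 3 n12084 = n15171 := rfl
theorem F26408 : act 0 n15171 = n14085 := d2_1 D15171 F26407 (iv D15170)
theorem F26409 : act 1 n15171 = n12085 := d6_1 D15171 (iv D12085) D12084
theorem F26410 : act 5 n15171 = n12440 := d13_2 F20362 D15171 (iv D12440)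
def n15172 : Q := act 2 n12085
theorem D15172 : act 2 n12085 = n15172 := rfl
theorem F26411 : act 0 n15172 = n12414 := d1_1 D15172 F20967 (iv F20363)
theorem F26412 : act 3 n15172 = n12113 := d9_2 D12085 D15172 F20429 F15767 F12069 (iv F12371) (iv F16199) (iv F20965) (iv D12412) (iv D9683) (iv D7460) (iv D5670) (iv F9109) D7259 D9425
theorem F26413 : act 5 n12112 = n15172 := d13_0 F26412 (iv D12113) D12112
def n15173 : Q := act 4 n12085
theorem D15173 : act 4 n12085 = n15173 := rfl
theorem F26414 : act 0 n15173 = n12447 := d3_1 D15173 (iv D12447) (iv F20363)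
theorem F26415 : act 3 n15173 = n12693 := d12_1 D15173 (iv D12693) (iv D9937) (iv F15729) D12085
def n15174 : Q := act 5 n12085
theorem D15174 : act 5 n12085 = n15174 := rfl
theorem F26416 : act 0 n15174 = n12412 := d4_1 D15174 (iv F20966) (iv F20363)
theorem F26417 : act 1 n15174 = n12440 := d8_1 D15174 (iv F26410) F26409
theorem F26418 : act 2 n15174 = n12112 := d11_1 D15174 F26413 (iv D15172)
theorem F26419 : act 3 n15174 = n12086 := d13_1 D15174 (iv D12086) D12085
theorem F26420 : act 4 n14076 = n15174 := d7_0 F26417 F26083 (iv F24120)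
def n15175 : Q := act 4 n12086
theorem D15175 : act 4 n12086 = n15175 := rfl
theorem F26421 : act 0 n15175 = n12448 := d3_1 D15175 (iv D12448) (iv F20364)
theorem F26422 : act 1 n15175 = n12441 := d7_1 D15175 (iv D12441) (iv F20365)
theorem F26423 : act 2 n15175 = n12087 := d10_1 D15175 (iv D12087) (iv F20366)
theorem F26424 : act 3 n15175 = n14077 := d12_1 D15175 (iv D14077) D14076 F26420 F26419
theorem F26425 : act 5 n15175 = n12694 := d14_2 D12086 D15175 (iv D12694) (iv D9938) (iv F15729)
def n15176 : Q := act 0 n12088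
theorem D15176 : act 0 n12088 = n15176 := rfl
theorem F26426 : act 1 n15176 = n12097 := d0_2 D12088 D15176 (iv D12097) (iv D9433) (iv F15733)
theorem F26427 : act 2 n15176 = n12690 := d1_2 (iv F20371) D15176 (iv D12690)
theorem F26428 : act 4 n15176 = n12092 := d3_2 (iv F20372) D15176 (iv D12092)
def n15177 : Q := act 3 n12088
theorem D15177 : act 3 n12088 = n15177 := rfl
theorem F26429 : act 1 n15177 = n12089 := d6_1 D15177 (iv D12089) D12088
theorem F26430 : act 4 n15177 = n12443 := d12_2 (iv F20372) D15177 (iv D12443) (iv D9706) (iv F15738)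
def n15178 : Q := act 5 n12088
theorem D15178 : act 5 n12088 = n15178 := rfl
theorem F26431 : act 1 n15178 = n12090 := d8_1 D15178 (iv D12090) D12088
theorem F26432 : act 2 n15178 = n12692 := d11_1 D15178 (iv D12692) (iv F20371)
theorem F26433 : act 4 n15178 = n12442 := d14_1 D15178 (iv D12442) (iv D9705) (iv F15739) (iv F20372)
def n15179 : Q := act 2 n12089
theorem D15179 : act 2 n12089 = n15179 := rfl
theorem F26434 : act 0 n15179 = n12100 := d1_1 D15179 (iv D12100) (iv F20373)
theorem F26435 : act 3 n15179 = n12095 := d9_2 D12089 D15179 F20390 F15747 F12051 (iv F12055) (iv F15750) (iv F20405) F20404 (iv D10966) (iv D8514) (iv D6532) (iv F9112) D7261 D9427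
theorem F26436 : act 4 n15179 = n12444 := d10_2 (iv F20374) D15179 (iv D12444)
theorem F26437 : act 5 n12094 = n15179 := d13_0 F26435 (iv D12095) D12094
def n15180 : Q := act 5 n12089
theorem D15180 : act 5 n12089 = n15180 := rfl
theorem F26438 : act 0 n15180 = n12102 := d4_1 D15180 (iv D12102) (iv F20373)
theorem F26439 : act 2 n15180 = n12094 := d11_1 D15180 F26437 (iv D15179)
theorem F26440 : act 3 n15180 = n12090 := d13_1 D15180 (iv D12090) D12089
def n15181 : Q := act 0 n12093
theorem D15181 : act 0 n12093 = n15181 := rfl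
theorem F26441 : act 1 n15181 = n13934 := d0_2 D12093 D15181 (iv D13934) (iv D10965) (iv F15743)
theorem F26442 : act 2 n15181 = n12681 := d1_2 (iv F20386) D15181 (iv D12681)
theorem F26443 : act 4 n15181 = n13906 := d3_2 (iv F20387) D15181 (iv D13906)
def n15182 : Q := act 3 n12093
theorem D15182 : act 3 n12093 = n15182 := rfl
theorem F26444 : act 1 n15182 = n12094 := d6_1 D15182 (iv D12094) D12093
def n15183 : Q := act 5 n12093
theorem D15183 : act 5 n12093 = n15183 := rfl
theorem F26445 : act 1 n15183 = n12095 := d8_1 D15183 (iv D12095) D12093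
theorem F26446 : act 2 n15183 = n12683 := d11_1 D15183 (iv D12683) (iv F20386)
def n15184 : Q := act 4 n12094
theorem D15184 : act 4 n12094 = n15184 := rfl
theorem F26447 : act 0 n15184 = n13936 := d3_1 D15184 (iv D13936) (iv F20388)
theorem F26448 : act 3 n15184 = n13575 := d12_1 D15184 F23120 F17856 (iv F15744) D12094
def n15185 : Q := act 4 n12095
theorem D15185 : act 4 n12095 = n15185 := rfl
theorem F26449 : act 0 n15185 = n13932 := d3_1 D15185 F23902 (iv F20389)
theorem F26450 : act 2 n15185 = n12096 := d10_1 D15185 (iv D12096) (iv F20390)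
theorem F26451 : act 5 n15185 = n13904 := d14_2 D12095 D15185 F23851 F18370 (iv F15744)
def n15186 : Q := act 3 n12097
theorem D15186 : act 3 n12097 = n15186 := rfl
theorem F26452 : act 0 n15186 = n12098 := d2_1 D15186 (iv D12098) D12097
def n15187 : Q := act 5 n12097
theorem D15187 : act 5 n12097 = n15187 := rfl
theorem F26453 : act 0 n15187 = n12099 := d4_1 D15187 (iv D12099) D12097
theorem F26454 : act 2 n15187 = n12450 := d11_1 D15187 (iv D12450) (iv F20395)
def n15188 : Q := act 2 n12098
theorem D15188 : act 2 n12098 = n15188 := rfl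
def n15189 : Q := act 4 n12098
theorem D15189 : act 4 n12098 = n15189 := rfl
theorem F26455 : act 1 n15189 = n12101 := d7_1 D15189 (iv D12101) (iv F20397)
theorem F26456 : act 3 n15189 = n12107 := d12_1 D15189 (iv D12107) (iv D9438) (iv F15749) D12098
def n15190 : Q := act 5 n12098
theorem D15190 : act 5 n12098 = n15190 := rfl
theorem F26457 : act 1 n15190 = n12102 := d8_1 D15190 (iv D12102) (iv F20397)
theorem F26458 : act 3 n15190 = n12099 := d13_1 D15190 (iv D12099) D12098
def n15191 : Q := act 4 n12099
theorem D15191 : act 4 n12099 = n15191 := rfl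
theorem F26459 : act 1 n15191 = n12103 := d7_1 D15191 (iv D12103) (iv F20398)
theorem F26460 : act 2 n15191 = n12453 := d10_1 D15191 (iv D12453) (iv F20399)
theorem F26461 : act 5 n15191 = n12108 := d14_2 D12099 D15191 (iv D12108) (iv D9439) (iv F15749)
def n15192 : Q := act 1 n12100
theorem D15192 : act 1 n12100 = n15192 := rfl
theorem F26462 : act 3 n15192 = n13933 := d6_2 (iv F20400) D15192 (iv D13933)
theorem F26463 : act 5 n15192 = n13935 := d8_2 F20401 D15192 F23908
def n15193 : Q := act 4 n12100
theorem D15193 : act 4 n12100 = n15193 := rfl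
theorem F26464 : act 0 n15193 = n12444 := d3_1 D15193 (iv F26436) F26434
theorem F26465 : act 2 n15193 = n12101 := d10_1 D15193 (iv D12101) D12100
def n15194 : Q := act 5 n12101
theorem D15194 : act 5 n12101 = n15194 := rfl
theorem F26466 : act 0 n15194 = n12436 := d4_1 D15194 F21002 (iv F20402)
theorem F26467 : act 3 n15194 = n12109 := d13_1 D15194 (iv D12109) (iv F20403)
def n15195 : Q := act 4 n12102
theorem D15195 : act 4 n12102 = n15195 := rfl
theorem F26468 : act 2 n15195 = n13936 := d10_1 D15195 (iv D13936) (iv F20404)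
def n15196 : Q := act 3 n12103
theorem D15196 : act 3 n12103 = n15196 := rfl
theorem F26469 : act 0 n15196 = n12434 := d2_1 D15196 F21000 (iv F20406)
theorem F26470 : act 5 n15196 = n12110 := d13_2 (iv F20408) D15196 (iv D12110)
def n15197 : Q := act 2 n12104
theorem D15197 : act 2 n12104 = n15197 := rfl
theorem F26471 : act 0 n15197 = n12106 := d1_1 D15197 (iv D12106) (iv F20409)
theorem F26472 : act 5 n15197 = n12410 := d11_2 F20411 D15197 F20963
def n15198 : Q := act 4 n12104
theorem D15198 : act 4 n12104 = n15198 := rfl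
theorem F26473 : act 0 n15198 = n12107 := d3_1 D15198 (iv D12107) (iv F20409)
theorem F26474 : act 1 n15198 = n12439 := d7_1 D15198 (iv D12439) (iv F20410)
def n15199 : Q := act 4 n12105
theorem D15199 : act 4 n12105 = n15199 := rfl
theorem F26475 : act 0 n15199 = n12108 := d3_1 D15199 (iv D12108) (iv F20412)
theorem F26476 : act 1 n15199 = n12438 := d7_1 D15199 (iv D12438) (iv F20413)
theorem F26477 : act 2 n15199 = n12456 := d10_1 D15199 (iv D12456) (iv F20414)
def n15200 : Q := act 3 n12106
theorem D15200 : act 3 n12106 = n15200 := rfl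
theorem F26478 : act 1 n15200 = n12414 := d6_1 D15200 F20968 (iv F20416)
theorem F26479 : act 5 n15200 = n12411 := d13_2 (iv F20417) D15200 (iv D12411)
def n15201 : Q := act 4 n12106
theorem D15201 : act 4 n12106 = n15201 := rfl
theorem F26480 : act 1 n15201 = n12415 := d7_1 D15201 (iv D12415) (iv F20416)
theorem F26481 : act 2 n15201 = n12107 := d10_1 D15201 (iv D12107) D12106
def n15202 : Q := act 5 n12107
theorem D15202 : act 5 n12107 = n15202 := rfl
theorem F26482 : act 1 n15202 = n12109 := d8_1 D15202 (iv D12109) (iv F20418)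
theorem F26483 : act 4 n15202 = n12418 := d14_1 D15202 (iv D12418) F16168 F15756 D12107
def n15203 : Q := act 3 n12108
theorem D15203 : act 3 n12108 = n15203 := rfl
theorem F26484 : act 1 n15203 = n12110 := d6_1 D15203 (iv D12110) (iv F20419)
theorem F26485 : act 4 n15203 = n12417 := d12_2 D12108 D15203 (iv D12417) F16168 (iv F15759)
def n15204 : Q := act 2 n12110
theorem D15204 : act 2 n12110 = n15204 := rfl
theorem F26486 : act 0 n15204 = n12433 := d1_1 D15204 F20999 (iv F20424)
theorem F26487 : act 4 n15204 = n12419 := d10_2 (iv F20425) D15204 (iv D12419)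
def n15205 : Q := act 0 n12111
theorem D15205 : act 0 n12111 = n15205 := rfl
theorem F26488 : act 1 n15205 = n12410 := d0_2 D12111 D15205 (iv D12410) (iv D9682) (iv F15764)
theorem F26489 : act 2 n15205 = n12115 := d1_2 (iv F20426) D15205 (iv D12115)
def n15206 : Q := act 3 n12111
theorem D15206 : act 3 n12111 = n15206 := rfl
theorem F26490 : act 1 n15206 = n12112 := d6_1 D15206 (iv D12112) D12111
theorem F26491 : act 2 n15206 = n14092 := d15_2 (iv F20426) D15206 F26063 F26061 F20163 (iv F19692) D14764 F25523 (iv D12115)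
theorem F26492 : act 4 n14091 = n15206 := d10_0 F26491 (iv D14092) D14091
def n15207 : Q := act 4 n12112
theorem D15207 : act 4 n12112 = n15207 := rfl
theorem F26493 : act 0 n15207 = n12413 := d3_1 D15207 (iv D12413) (iv F20427)
theorem F26494 : act 1 n15207 = n14091 := d7_1 D15207 F26492 F26490
theorem F26495 : act 2 n15207 = n14076 := d10_1 D15207 F26420 F26418
def n15208 : Q := act 4 n12113
theorem D15208 : act 4 n12113 = n15208 := rfl
theorem F26496 : act 0 n15208 = n12415 := d3_1 D15208 (iv D12415) (iv F20428)
theorem F26497 : act 2 n15208 = n12114 := d10_1 D15208 (iv D12114) (iv F20429)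
def n15209 : Q := act 3 n12116
theorem D15209 : act 3 n12116 = n15209 := rfl
theorem F26498 : act 0 n15209 = n12117 := d2_1 D15209 (iv D12117) D12116
def n15210 : Q := act 5 n12116
theorem D15210 : act 5 n12116 = n15210 := rfl
theorem F26499 : act 0 n15210 = n12118 := d4_1 D15210 (iv D12118) D12116
theorem F26500 : act 2 n15210 = n12427 := d11_1 D15210 (iv D12427) (iv F20435)
def n15211 : Q := act 2 n12117
theorem D15211 : act 2 n12117 = n15211 := rfl
def n15212 : Q := act 4 n12117
theorem D15212 : act 4 n12117 = n15212 := rfl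
theorem F26501 : act 1 n15212 = n12119 := d7_1 D15212 (iv D12119) (iv F20437)
theorem F26502 : act 3 n15212 = n12124 := d12_1 D15212 (iv D12124) (iv D9451) (iv F15772) D12117
def n15213 : Q := act 4 n12118
theorem D15213 : act 4 n12118 = n15213 := rfl
theorem F26503 : act 1 n15213 = n12120 := d7_1 D15213 (iv D12120) (iv F20438)
theorem F26504 : act 2 n15213 = n12431 := d10_1 D15213 (iv D12431) (iv F20439)
theorem F26505 : act 5 n15213 = n12125 := d14_2 D12118 D15213 (iv D12125) (iv D9452) (iv F15772)
def n15214 : Q := act 3 n12120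
theorem D15214 : act 3 n12120 = n15214 := rfl
theorem F26506 : act 2 n15214 = n12192 := d9_1 D15214 (iv D12192) F15885 F12157 (iv F12106) (iv F15770) (iv F19697) (iv F25520) F25519 (iv F25902) F25901 (iv D12174) F15856 (iv F15775) (iv F20442)
theorem F26507 : act 4 n15214 = n12504 := d12_2 D12120 D15214 F21212 (iv D12544) F16386
theorem F26508 : act 5 n15214 = n12127 := d13_2 (iv F20443) D15214 (iv D12127)
def n15215 : Q := act 2 n12121
theorem D15215 : act 2 n12121 = n15215 := rfl
theorem F26509 : act 0 n15215 = n12123 := d1_1 D15215 (iv D12123) (iv F20444)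
def n15216 : Q := act 4 n12121
theorem D15216 : act 4 n12121 = n15216 := rfl
theorem F26510 : act 0 n15216 = n12124 := d3_1 D15216 (iv D12124) (iv F20444)
theorem F26511 : act 1 n15216 = n12918 := d7_1 D15216 F21862 (iv F20445)
def n15217 : Q := act 4 n12122
theorem D15217 : act 4 n12122 = n15217 := rfl
theorem F26512 : act 0 n15217 = n12125 := d3_1 D15217 (iv D12125) (iv F20446)
theorem F26513 : act 2 n15217 = n12439 := d10_1 D15217 (iv D12439) (iv F20447)
def n15218 : Q := act 3 n12123
theorem D15218 : act 3 n12123 = n15218 := rfl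
theorem F26514 : act 1 n15218 = n12906 := d6_1 D15218 (iv D12906) (iv F20448)
theorem F26515 : act 5 n15218 = n14083 := d13_2 F25503 D15218 (iv F26076)
theorem F26516 : act 2 n15218 = n14085 := d15_2 D12123 D15218 F26407 F26404 F20384 (iv F20447) (iv F25508) F25509 F20444
def n15219 : Q := act 4 n12123
theorem D15219 : act 4 n12123 = n15219 := rfl
theorem F26517 : act 1 n15219 = n12823 := d7_1 D15219 F21659 (iv F20448)
theorem F26518 : act 2 n15219 = n12124 := d10_1 D15219 (iv D12124) D12123
def n15220 : Q := act 5 n12124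
theorem D15220 : act 5 n12124 = n15220 := rfl
theorem F26519 : act 1 n15220 = n12126 := d8_1 D15220 (iv D12126) (iv F20449)
def n15221 : Q := act 3 n12125
theorem D15221 : act 3 n12125 = n15221 := rfl
theorem F26520 : act 1 n15221 = n12127 := d6_1 D15221 (iv D12127) (iv F20450)
def n15222 : Q := act 2 n12127
theorem D15222 : act 2 n12127 = n15222 := rfl
theorem F26521 : act 0 n15222 = n14115 := d1_1 D15222 (iv F25519) F25518
theorem F26522 : act 4 n15222 = n14073 := d10_2 F23140 D15222 F24114
theorem F26523 : act 5 n15222 = n12192 := d11_2 F26508 D15222 (iv F26506)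
theorem F26524 : act 3 n15222 = n12193 := d15_3 (iv F15783) D12127 D15222 F20598 F15886 (iv F15806) (iv F16381) F16382 F15769
def n15223 : Q := act 4 n12129
theorem D15223 : act 4 n12129 = n15223 := rfl
theorem F26525 : act 0 n15223 = n12136 := d3_1 D15223 (iv D12136) (iv F20459)
theorem F26526 : act 1 n15223 = n12485 := d7_1 D15223 (iv D12485) (iv F20460)
theorem F26527 : act 2 n15223 = n12462 := d10_1 D15223 (iv D12462) (iv F20461)
theorem F26528 : act 3 n15223 = n13989 := d12_1 D15223 (iv D13989) (iv D11009) (iv F15785) D12129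
def n15224 : Q := act 4 n12130
theorem D15224 : act 4 n12130 = n15224 := rfl
theorem F26529 : act 0 n15224 = n12137 := d3_1 D15224 (iv D12137) (iv F20463)
theorem F26530 : act 1 n15224 = n12484 := d7_1 D15224 (iv D12484) (iv F20464)
theorem F26531 : act 2 n15224 = n12131 := d10_1 D15224 (iv D12131) (iv F20465)
theorem F26532 : act 5 n15224 = n13991 := d14_2 D12130 D15224 (iv D13991) (iv D11010) (iv F15785)
def n15225 : Q := act 4 n12132
theorem D15225 : act 4 n12132 = n15225 := rfl
theorem F26533 : act 0 n15225 = n13989 := d3_1 D15225 (iv D13989) (iv F20471)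
theorem F26534 : act 1 n15225 = n12469 := d7_1 D15225 F21059 (iv F20472)
theorem F26535 : act 2 n15225 = n14655 := d10_1 D15225 (iv D14655) (iv F20473)
theorem F26536 : act 3 n15225 = n12136 := d12_1 D15225 (iv D12136) (iv D9459) (iv F15791) D12132
def n15226 : Q := act 4 n12133
theorem D15226 : act 4 n12133 = n15226 := rfl
theorem F26537 : act 0 n15226 = n13991 := d3_1 D15226 (iv D13991) (iv F20475)
theorem F26538 : act 1 n15226 = n12196 := d7_1 D15226 F20607 (iv F20476)
theorem F26539 : act 2 n15226 = n12134 := d10_1 D15226 (iv D12134) (iv F20477)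
theorem F26540 : act 5 n15226 = n12137 := d14_2 D12133 D15226 (iv D12137) (iv D9460) (iv F15791)
def n15227 : Q := act 4 n12135
theorem D15227 : act 4 n12135 = n15227 := rfl
theorem F26541 : act 0 n15227 = n12462 := d3_1 D15227 (iv D12462) (iv F20482)
theorem F26542 : act 1 n15227 = n12459 := d7_1 D15227 (iv D12459) (iv F20483)
theorem F26543 : act 2 n15227 = n12136 := d10_1 D15227 (iv D12136) D12135
theorem F26544 : act 5 n15227 = n15091 := d14_2 (iv F20485) D15227 (iv D15091) (iv D12016) (iv F16224)
def n15228 : Q := act 5 n12136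
theorem D15228 : act 5 n12136 = n15228 := rfl
theorem F26545 : act 1 n15228 = n12468 := d8_1 D15228 F21057 (iv F20486)
theorem F26546 : act 2 n15228 = n15091 := d11_1 D15228 (iv F26544) F26543
theorem F26547 : act 4 n15228 = n12465 := d14_1 D15228 (iv D12465) F16248 F15796 D12136
def n15229 : Q := act 3 n12137
theorem D15229 : act 3 n12137 = n15229 := rfl
theorem F26548 : act 1 n15229 = n12195 := d6_1 D15229 (iv D12195) (iv F20487)
theorem F26549 : act 4 n15229 = n12464 := d12_2 D12137 D15229 (iv D12464) F16248 (iv F15799)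
def n15230 : Q := act 3 n12138
theorem D15230 : act 3 n12138 = n15230 := rfl
theorem F26550 : act 0 n15230 = n12139 := d2_1 D15230 (iv D12139) D12138
theorem F26551 : act 1 n15230 = n12148 := d6_1 D15230 (iv D12148) (iv F20489)
theorem F26552 : act 2 n15230 = n12190 := d9_1 D15230 F20594 (iv D9762) (iv D7520) (iv F12424) D9748 (iv F20498) F20499 F15871 (iv D7529) F9423 (iv F9415) (iv F12427) (iv F16285) (iv F20490)
theorem F26553 : act 5 n15230 = n12180 := d13_2 F20492 D15230 F20581
def n15231 : Q := act 4 n12139
theorem D15231 : act 4 n12139 = n15231 := rfl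
theorem F26554 : act 1 n15231 = n12141 := d7_1 D15231 (iv D12141) (iv F20493)
theorem F26555 : act 2 n15231 = n12191 := d10_1 D15231 (iv D12191) (iv F20494)
theorem F26556 : act 3 n15231 = n13995 := d12_1 D15231 (iv D13995) (iv D11013) (iv F15808) D12139
def n15232 : Q := act 4 n12140
theorem D15232 : act 4 n12140 = n15232 := rfl
theorem F26557 : act 0 n15232 = n12486 := d3_1 D15232 (iv D12486) (iv F20496)
theorem F26558 : act 1 n15232 = n12142 := d7_1 D15232 (iv D12142) (iv F20497)
theorem F26559 : act 2 n15232 = n12484 := d10_1 D15232 (iv D12484) (iv F20498)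
theorem F26560 : act 5 n15232 = n13996 := d14_2 D12140 D15232 (iv D13996) (iv D11014) (iv F15808)
def n15233 : Q := act 5 n12141
theorem D15233 : act 5 n12141 = n15233 := rfl
theorem F26561 : act 0 n15233 = n12156 := d4_1 D15233 (iv D12156) (iv F20500)
theorem F26562 : act 2 n15233 = n12184 := d11_1 D15233 F20587 (iv F20501)
theorem F26563 : act 3 n15233 = n13997 := d13_1 D15233 (iv D13997) (iv F20502)
theorem F26564 : act 4 n15233 = n12183 := d14_1 D15233 (iv D12183) (iv D9498) F15811 D12141
def n15234 : Q := act 3 n12142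
theorem D15234 : act 3 n12142 = n15234 := rfl
theorem F26565 : act 0 n15234 = n12158 := d2_1 D15234 (iv D12158) (iv F20503)
theorem F26566 : act 4 n15234 = n12182 := d12_2 D12142 D15234 (iv D12182) (iv D9498) (iv F15814)
theorem F26567 : act 5 n15234 = n13998 := d13_2 (iv F20505) D15234 (iv D13998)
def n15235 : Q := act 3 n12143
theorem D15235 : act 3 n12143 = n15235 := rfl
theorem F26568 : act 0 n15235 = n12144 := d2_1 D15235 (iv D12144) D12143
theorem F26569 : act 1 n15235 = n13992 := d6_1 D15235 (iv D13992) (iv F20506)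
theorem F26570 : act 5 n14010 = n15235 := d4_0 F26568 (iv F20510) D14010
def n15236 : Q := act 5 n12143
theorem D15236 : act 5 n12143 = n15236 := rfl
theorem F26571 : act 0 n15236 = n12145 := d4_1 D15236 (iv D12145) D12143
theorem F26572 : act 1 n15236 = n13993 := d8_1 D15236 (iv D13993) (iv F20506)
theorem F26573 : act 2 n15236 = n12168 := d11_1 D15236 (iv D12168) (iv F20507)
theorem F26574 : act 3 n15236 = n14010 := d13_1 D15236 F26570 (iv D15235)
def n15237 : Q := act 2 n12144
theorem D15237 : act 2 n12144 = n15237 := rfl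
theorem F26575 : act 1 n15237 = n14006 := d5_1 D15237 F24014 F18495 (iv F15821) (iv F20509)
theorem F26576 : act 5 n15237 = n14003 := d11_2 F20510 D15237 F24012
def n15238 : Q := act 4 n12144
theorem D15238 : act 4 n12144 = n15238 := rfl
theorem F26577 : act 1 n15238 = n12146 := d7_1 D15238 (iv D12146) (iv F20509)
theorem F26578 : act 3 n15238 = n12151 := d12_1 D15238 (iv D12151) (iv D9473) (iv F15819) D12144
def n15239 : Q := act 4 n12145
theorem D15239 : act 4 n12145 = n15239 := rfl
theorem F26579 : act 1 n15239 = n12147 := d7_1 D15239 (iv D12147) (iv F20511)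
theorem F26580 : act 2 n15239 = n12171 := d10_1 D15239 (iv D12171) (iv F20512)
theorem F26581 : act 5 n15239 = n12153 := d14_2 D12145 D15239 (iv D12153) (iv D9474) (iv F15819)
def n15240 : Q := act 5 n12146
theorem D15240 : act 5 n12146 = n15240 := rfl
theorem F26582 : act 0 n15240 = n13997 := d4_1 D15240 (iv D13997) (iv F20514)
theorem F26583 : act 2 n15240 = n14014 := d11_1 D15240 F24022 (iv F20515)
theorem F26584 : act 3 n15240 = n12156 := d13_1 D15240 (iv D12156) (iv F20516)
theorem F26585 : act 4 n15240 = n14013 := d14_1 D15240 (iv D14013) (iv D11024) F15822 D12146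
def n15241 : Q := act 3 n12147
theorem D15241 : act 3 n12147 = n15241 := rfl
theorem F26586 : act 0 n15241 = n13998 := d2_1 D15241 (iv D13998) (iv F20517)
theorem F26587 : act 4 n15241 = n14012 := d12_2 D12147 D15241 (iv D14012) (iv D11024) (iv F15825)
theorem F26588 : act 5 n15241 = n12158 := d13_2 (iv F20519) D15241 (iv D12158)
def n15242 : Q := act 2 n12148
theorem D15242 : act 2 n12148 = n15242 := rfl
theorem F26589 : act 0 n15242 = n12150 := d1_1 D15242 (iv D12150) (iv F20520)
theorem F26590 : act 3 n15242 = n12185 := d15_1 D15242 (iv D12185) (iv D9501) F12147 (iv F12135) (iv F15833) (iv F20526) (iv D12152) (iv F20520)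
def n15243 : Q := act 4 n12148
theorem D15243 : act 4 n12148 = n15243 := rfl
theorem F26591 : act 0 n15243 = n12151 := d3_1 D15243 (iv D12151) (iv F20520)
def n15244 : Q := act 5 n12148
theorem D15244 : act 5 n12148 = n15244 := rfl
theorem F26592 : act 0 n15244 = n12152 := d4_1 D15244 (iv D12152) (iv F20520)
theorem F26593 : act 1 n15244 = n12180 := d8_1 D15244 (iv F26553) F26551
theorem F26594 : act 3 n15244 = n12149 := d13_1 D15244 (iv D12149) D12148
def n15245 : Q := act 4 n12149
theorem D15245 : act 4 n12149 = n15245 := rfl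
theorem F26595 : act 0 n15245 = n12153 := d3_1 D15245 (iv D12153) (iv F20521)
theorem F26596 : act 1 n15245 = n12486 := d7_1 D15245 (iv D12486) (iv F20522)
theorem F26597 : act 2 n15245 = n12175 := d10_1 D15245 (iv D12175) (iv F20523)
def n15246 : Q := act 1 n12150
theorem D15246 : act 1 n12150 = n15246 := rfl
theorem F26598 : act 2 n15246 = n12154 := d5_2 D12150 D15246 (iv D12154) (iv D9475) (iv F15831)
theorem F26599 : act 0 n12185 = n15246 := d1_3 F26598 F20529 D12185
theorem F26600 : act 5 n12177 = n15246 := d11_0 F26598 F20531 D12177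
theorem F26601 : act 3 n12150 = n15246 := d15_1 D12150 F26598 F20530 F15867 (iv F15860) (iv F20523) (iv F26594) (iv D15244) F20520
def n15247 : Q := act 4 n12150
theorem D15247 : act 4 n12150 = n15247 := rfl
theorem F26602 : act 2 n15247 = n12151 := d10_1 D15247 (iv D12151) D12150
def n15248 : Q := act 5 n12150
theorem D15248 : act 5 n12150 = n15248 := rfl
theorem F26603 : act 1 n15248 = n12177 := d8_1 D15248 F26600 (iv D15246)
theorem F26604 : act 2 n15248 = n12152 := d11_1 D15248 (iv D12152) D12150
theorem F26605 : act 3 n15248 = n12177 := d13_1 D15248 F26600 (iv F26601)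
def n15249 : Q := act 5 n12151
theorem D15249 : act 5 n12151 = n15249 := rfl
theorem F26606 : act 1 n15249 = n12156 := d8_1 D15249 (iv D12156) (iv F20524)
def n15250 : Q := act 4 n12152
theorem D15250 : act 4 n12152 = n15250 := rfl
theorem F26607 : act 1 n15250 = n12157 := d7_1 D15250 (iv D12157) (iv F20525)
def n15251 : Q := act 3 n12153
theorem D15251 : act 3 n12153 = n15251 := rfl
theorem F26608 : act 1 n15251 = n12158 := d6_1 D15251 (iv D12158) (iv F20527)
def n15252 : Q := act 4 n12154
theorem D15252 : act 4 n12154 = n15252 := rfl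
theorem F26609 : act 0 n15252 = n12176 := d3_1 D15252 F20575 (iv F20529)
theorem F26610 : act 1 n15252 = n12155 := d7_1 D15252 (iv D12155) D12154
theorem F26611 : act 3 n15252 = n12175 := d12_1 D15252 (iv D12175) F15860 (iv F15868) (iv F20530)
def n15253 : Q := act 5 n12155
theorem D15253 : act 5 n12155 = n15253 := rfl
theorem F26612 : act 0 n15253 = n12184 := d4_1 D15253 F20587 (iv F20532)
theorem F26613 : act 2 n15253 = n12156 := d11_1 D15253 (iv D12156) (iv F20533)
theorem F26614 : act 3 n15253 = n12194 := d13_1 D15253 (iv D12194) (iv F20534)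
theorem F26615 : act 4 n15253 = n12179 := d14_1 D15253 (iv D12179) (iv D9496) F15836 D12155
def n15254 : Q := act 4 n12156
theorem D15254 : act 4 n12156 = n15254 := rfl
theorem F26616 : act 0 n15254 = n12183 := d3_1 D15254 (iv F26564) F26561
theorem F26617 : act 2 n15254 = n12179 := d10_1 D15254 (iv F26615) F26613
theorem F26618 : act 5 n15254 = n12157 := d14_2 D12156 D15254 (iv D12157) (iv D9477) D9476
def n15255 : Q := act 3 n12157
theorem D15255 : act 3 n12157 = n15255 := rfl
theorem F26619 : act 0 n15255 = n12182 := d2_1 D15255 (iv D12182) (iv F20535)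
theorem F26620 : act 4 n15255 = n12158 := d12_2 D12157 D15255 (iv D12158) (iv D9478) (iv F15839)
def n15256 : Q := act 2 n12158
theorem D15256 : act 2 n12158 = n15256 := rfl
def n15257 : Q := act 0 n12159
theorem D15257 : act 0 n12159 = n15257 := rfl
theorem F26621 : act 1 n15257 = n14706 := d0_2 D12159 D15257 (iv D14706) (iv D11647) (iv F15841)
theorem F26622 : act 2 n15257 = n12163 := d1_2 (iv F20537) D15257 (iv D12163)
def n15258 : Q := act 3 n12159
theorem D15258 : act 3 n12159 = n15258 := rfl
theorem F26623 : act 1 n15258 = n12160 := d6_1 D15258 (iv D12160) D12159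
theorem F26624 : act 2 n15258 = n13698 := d15_4 F20547 (iv D12164) (iv F20537) D15258 (iv D13698) (iv F23086) F23087 D13985 F23988
theorem F26625 : act 4 n13700 = n15258 := d10_0 F26624 F23433 D13700
theorem F26626 : act 5 n14719 = n15258 := d8_0 F26623 (iv F20540) D14719
def n15259 : Q := act 5 n12159
theorem D15259 : act 5 n12159 = n15259 := rfl
theorem F26627 : act 1 n15259 = n12161 := d8_1 D15259 (iv D12161) D12159
theorem F26628 : act 2 n15259 = n12165 := d11_1 D15259 (iv D12165) (iv F20537)
theorem F26629 : act 3 n15259 = n14719 := d13_1 D15259 F26626 (iv D15258)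
def n15260 : Q := act 4 n12160
theorem D15260 : act 4 n12160 = n15260 := rfl
theorem F26630 : act 0 n15260 = n14709 := d3_1 D15260 (iv D14709) (iv F20538)
theorem F26631 : act 1 n15260 = n13700 := d7_1 D15260 F26625 F26623
theorem F26632 : act 2 n15260 = n13704 := d10_1 D15260 F23447 (iv F20539)
def n15261 : Q := act 4 n12161
theorem D15261 : act 4 n12161 = n15261 := rfl
theorem F26633 : act 0 n15261 = n14710 := d3_1 D15261 (iv D14710) (iv F20541)
theorem F26634 : act 2 n15261 = n12162 := d10_1 D15261 (iv D12162) (iv F20542)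
def n15262 : Q := act 3 n12163
theorem D15262 : act 3 n12163 = n15262 := rfl
theorem F26635 : act 0 n15262 = n12164 := d2_1 D15262 (iv D12164) D12163
theorem F26636 : act 2 n13985 = n15262 := d1_0 F26635 (iv F20547) (iv F23988)
theorem F26637 : act 5 n13984 = n15262 := d4_0 F26635 (iv F20548) (iv F23986)
def n15263 : Q := act 5 n12163
theorem D15263 : act 5 n12163 = n15263 := rfl
theorem F26638 : act 0 n15263 = n12165 := d4_1 D15263 (iv D12165) D12163
theorem F26639 : act 3 n15263 = n13984 := d13_1 D15263 F26637 (iv D15262)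
def n15264 : Q := act 4 n12164
theorem D15264 : act 4 n12164 = n15264 := rfl
theorem F26640 : act 1 n15264 = n12166 := d7_1 D15264 (iv D12166) (iv F20546)
theorem F26641 : act 2 n15264 = n12403 := d10_1 D15264 F20946 F20547
theorem F26642 : act 3 n15264 = n14116 := d12_1 D15264 F24169 F18616 F15973 D12164
theorem F26643 : act 5 n15264 = n12396 := d14_2 F20548 D15264 (iv D12396) F16142 D11006
def n15265 : Q := act 4 n12165
theorem D15265 : act 4 n12165 = n15265 := rfl
theorem F26644 : act 1 n15265 = n12167 := d7_1 D15265 (iv D12167) (iv F20549)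
theorem F26645 : act 3 n15265 = n12379 := d12_1 D15265 (iv D12379) F16119 D11006 (iv F20550)
def n15266 : Q := act 4 n12168
theorem D15266 : act 4 n12168 = n15266 := rfl
theorem F26646 : act 0 n15266 = n12171 := d3_1 D15266 (iv D12171) (iv F20557)
theorem F26647 : act 1 n15266 = n12194 := d7_1 D15266 F20602 (iv F20558)
theorem F26648 : act 5 n15266 = n12175 := d14_2 D12168 D15266 (iv D12175) (iv D9491) (iv F15847)
def n15267 : Q := act 1 n12169
theorem D15267 : act 1 n12169 = n15267 := rfl
theorem F26649 : act 0 n15267 = n14028 := d0_1 D15267 F24038 F18509 (iv F18514) (iv F20560)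
theorem F26650 : act 2 n15267 = n12172 := d5_2 D12169 D15267 (iv D12172) (iv D9488) (iv F15850)
theorem F26651 : act 4 n15267 = n12383 := d7_2 (iv F20561) D15267 F20911
def n15268 : Q := act 3 n12169
theorem D15268 : act 3 n12169 = n15268 := rfl
theorem F26652 : act 0 n15268 = n14033 := d2_1 D15268 (iv D14033) (iv F20560)
def n15269 : Q := act 5 n12169
theorem D15269 : act 5 n12169 = n15269 := rfl
theorem F26653 : act 0 n15269 = n14034 := d4_1 D15269 (iv D14034) (iv F20560)
theorem F26654 : act 2 n15269 = n12170 := d11_1 D15269 (iv D12170) D12169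
def n15270 : Q := act 4 n12170
theorem D15270 : act 4 n12170 = n15270 := rfl
theorem F26655 : act 0 n15270 = n12400 := d3_1 D15270 F20940 (iv F20562)
theorem F26656 : act 1 n15270 = n12173 := d7_1 D15270 (iv D12173) (iv F20563)
theorem F26657 : act 5 n15270 = n12394 := d14_2 D12170 D15270 (iv D12394) F16139 (iv F15851)
def n15271 : Q := act 3 n12171
theorem D15271 : act 3 n12171 = n15271 := rfl
theorem F26658 : act 1 n15271 = n12174 := d6_1 D15271 (iv D12174) (iv F20565)
theorem F26659 : act 5 n15271 = n12176 := d13_2 (iv F20566) D15271 (iv D12176)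
def n15272 : Q := act 0 n12172
theorem D15272 : act 0 n12172 = n15272 := rfl
theorem F26660 : act 1 n15272 = n13984 := d0_2 D12172 D15272 F23986 (iv F20107) F20106
theorem F26661 : act 2 n15272 = n14028 := d1_2 F26650 D15272 (iv F26649)
theorem F26662 : act 4 n15272 = n12381 := d3_2 (iv F20567) D15272 F20905
def n15273 : Q := act 2 n12176
theorem D15273 : act 2 n12176 = n15273 := rfl
theorem F26663 : act 4 n15273 = n12185 := d10_2 (iv F20575) D15273 (iv D12185)
def n15274 : Q := act 4 n12177
theorem D15274 : act 4 n12177 = n15274 := rfl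
theorem F26664 : act 2 n15274 = n12178 := d10_1 D15274 (iv D12178) D12177
def n15275 : Q := act 5 n12178
theorem D15275 : act 5 n12178 = n15275 := rfl
theorem F26665 : act 1 n15275 = n12179 := d8_1 D15275 (iv D12179) (iv F20576)
theorem F26666 : act 3 n15275 = n12400 := d13_1 D15275 (iv D12400) (iv F20577)
def n15276 : Q := act 4 n12180
theorem D15276 : act 4 n12180 = n15276 := rfl
theorem F26667 : act 0 n15276 = n12181 := d3_1 D15276 (iv D12181) D12180
theorem F26668 : act 2 n15276 = n12502 := d10_1 D15276 (iv D12502) (iv F20580)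
def n15277 : Q := act 3 n12181
theorem D15277 : act 3 n12181 = n15277 := rfl
theorem F26669 : act 1 n15277 = n12182 := d6_1 D15277 (iv D12182) (iv F20582)
def n15278 : Q := act 5 n12181
theorem D15278 : act 5 n12181 = n15278 := rfl
theorem F26670 : act 1 n15278 = n12183 := d8_1 D15278 (iv D12183) (iv F20582)
theorem F26671 : act 2 n15278 = n12503 := d11_1 D15278 (iv D12503) (iv F20583)
def n15279 : Q := act 2 n12182
theorem D15279 : act 2 n12182 = n15279 := rfl
theorem F26672 : act 3 n15279 = n13954 := d15_3 (iv F15872) D12182 D15279 F23931 F18440 (iv F16149) (iv F20579) (iv D12179) F15869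
theorem F26673 : act 5 n13953 = n15279 := d13_0 F26672 (iv D13954) D13953
def n15280 : Q := act 5 n12182
theorem D15280 : act 5 n12182 = n15280 := rfl
theorem F26674 : act 2 n15280 = n13953 := d11_1 D15280 F26673 (iv D15279)
theorem F26675 : act 3 n15280 = n12183 := d13_1 D15280 (iv D12183) D12182
def n15281 : Q := act 2 n12186
theorem D15281 : act 2 n12186 = n15281 := rfl
theorem F26676 : act 0 n15281 = n12187 := d1_1 D15281 (iv D12187) (iv F20588)
theorem F26677 : act 3 n15281 = n12187 := d15_1 D15281 (iv D12187) (iv D9503) F12152 (iv F11793) (iv F15419) D11892 F20014 (iv F20588)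
def n15282 : Q := act 4 n12186
theorem D15282 : act 4 n12186 = n15282 := rfl
theorem F26678 : act 0 n15282 = n12188 := d3_1 D15282 (iv D12188) (iv F20588)
theorem F26679 : act 1 n15282 = n12502 := d7_1 D15282 (iv D12502) (iv F20589)
theorem F26680 : act 3 n15282 = n14046 := d12_1 D15282 (iv D14046) (iv D11051) (iv F15879) D12186
def n15283 : Q := act 4 n12187
theorem D15283 : act 4 n12187 = n15283 := rfl
theorem F26681 : act 2 n15283 = n12188 := d10_1 D15283 (iv D12188) D12187
def n15284 : Q := act 5 n12188
theorem D15284 : act 5 n12188 = n15284 := rfl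
theorem F26682 : act 1 n15284 = n12189 := d8_1 D15284 (iv D12189) (iv F20590)
theorem F26683 : act 3 n15284 = n14050 := d13_1 D15284 (iv D14050) (iv F20591)
def n15285 : Q := act 4 n12190
theorem D15285 : act 4 n12190 = n15285 := rfl
theorem F26684 : act 0 n15285 = n12191 := d3_1 D15285 (iv D12191) D12190
def n15286 : Q := act 3 n12191
theorem D15286 : act 3 n12191 = n15286 := rfl
theorem F26685 : act 1 n15286 = n12192 := d6_1 D15286 (iv D12192) (iv F20596)
theorem F26686 : act 4 n15286 = n12499 := d12_2 D12191 D15286 (iv D12499) (iv D9765) (iv F15883)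
def n15287 : Q := act 5 n12191
theorem D15287 : act 5 n12191 = n15287 := rfl
theorem F26687 : act 1 n15287 = n12193 := d8_1 D15287 (iv D12193) (iv F20596)
theorem F26688 : act 4 n15287 = n12503 := d14_1 D15287 (iv D12503) (iv D9770) (iv F15884) D12191
def n15288 : Q := act 2 n12195
theorem D15288 : act 2 n12195 = n15288 := rfl
theorem F26689 : act 0 n15288 = n12480 := d1_1 D15288 F21080 (iv F20603)
theorem F26690 : act 4 n15288 = n12466 := d10_2 (iv F20604) D15288 (iv D12466)
theorem F26691 : act 3 n15288 = n14014 := d15_1 D15288 (iv F26583) F26584 (iv F26613) F26614 F20601 (iv F21081) (iv D12481) (iv F20603)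
theorem F26692 : act 5 n14015 = n15288 := d13_0 F26691 F24022 D14015
def n15289 : Q := act 5 n12195
theorem D15289 : act 5 n12195 = n15289 := rfl
theorem F26693 : act 0 n15289 = n12481 := d4_1 D15289 (iv D12481) (iv F20603)
theorem F26694 : act 2 n15289 = n14015 := d11_1 D15289 F26692 (iv D15288)
theorem F26695 : act 3 n15289 = n12196 := d13_1 D15289 (iv D12196) D12195
theorem F26696 : act 4 n15289 = n14016 := d14_1 D15289 F24024 F21054 (iv D12467) (iv F20604)
def n15290 : Q := act 0 n12197
theorem D15290 : act 0 n12197 = n15290 := rfl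
theorem F26697 : act 1 n15290 = n12562 := d0_2 D12197 D15290 (iv D12562) (iv D9826) (iv F15893)
theorem F26698 : act 2 n15290 = n12205 := d1_2 (iv F20608) D15290 (iv D12205)
theorem F26699 : act 4 n15290 = n12656 := d3_2 (iv F20609) D15290 (iv D12656)
def n15291 : Q := act 3 n12197
theorem D15291 : act 3 n12197 = n15291 := rfl
theorem F26700 : act 1 n15291 = n12198 := d6_1 D15291 (iv D12198) D12197
def n15292 : Q := act 2 n12198
theorem D15292 : act 2 n12198 = n15292 := rfl
theorem F26701 : act 0 n15292 = n12238 := d1_1 D15292 F20679 (iv F20610)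
theorem F26702 : act 3 n15292 = n12232 := d9_2 D12198 D15292 F20670 F15939 F12207 D7575 D9825 (iv F20677) (iv D12236) (iv D9538) (iv D7350) (iv D5594) (iv F9203) D7329 D9511
theorem F26703 : act 5 n12231 = n15292 := d13_0 F26702 (iv D12232) D12231
def n15293 : Q := act 4 n12198
theorem D15293 : act 4 n12198 = n15293 := rfl
theorem F26704 : act 0 n15293 = n12564 := d3_1 D15293 (iv D12564) (iv F20610)
theorem F26705 : act 3 n15293 = n12659 := d12_1 D15293 (iv D12659) (iv D9911) (iv F15894) D12198
def n15294 : Q := act 5 n12198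
theorem D15294 : act 5 n12198 = n15294 := rfl
theorem F26706 : act 0 n15294 = n12236 := d4_1 D15294 (iv F20678) (iv F20610)
theorem F26707 : act 2 n15294 = n12231 := d11_1 D15294 F26703 (iv D15292)
theorem F26708 : act 3 n15294 = n12199 := d13_1 D15294 (iv D12199) D12198
def n15295 : Q := act 4 n12199
theorem D15295 : act 4 n12199 = n15295 := rfl
theorem F26709 : act 0 n15295 = n12560 := d3_1 D15295 F21240 (iv F20611)
theorem F26710 : act 2 n15295 = n12200 := d10_1 D15295 (iv D12200) (iv F20612)
theorem F26711 : act 5 n15295 = n12660 := d14_2 D12199 D15295 (iv D12660) (iv D9912) (iv F15894)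
def n15296 : Q := act 0 n12201
theorem D15296 : act 0 n12201 = n15296 := rfl
theorem F26712 : act 1 n15296 = n12214 := d0_2 D12201 D15296 (iv D12214) (iv D9522) (iv F15898)
theorem F26713 : act 2 n15296 = n12656 := d1_2 (iv F20617) D15296 (iv D12656)
theorem F26714 : act 4 n15296 = n12205 := d3_2 (iv F20618) D15296 (iv D12205)
def n15297 : Q := act 3 n12201
theorem D15297 : act 3 n12201 = n15297 := rfl
theorem F26715 : act 1 n15297 = n12202 := d6_1 D15297 (iv D12202) D12201
def n15298 : Q := act 5 n12201
theorem D15298 : act 5 n12201 = n15298 := rfl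
theorem F26716 : act 1 n15298 = n12203 := d8_1 D15298 (iv D12203) D12201
theorem F26717 : act 2 n15298 = n12658 := d11_1 D15298 (iv D12658) (iv F20617)
def n15299 : Q := act 2 n12202
theorem D15299 : act 2 n12202 = n15299 := rfl
theorem F26718 : act 0 n15299 = n12216 := d1_1 D15299 (iv D12216) (iv F20619)
theorem F26719 : act 3 n15299 = n12212 := d9_2 D12202 D15299 F20639 F15914 F12187 (iv F12191) (iv F15917) (iv F20646) (iv F23209) (iv D13618) (iv D10698) (iv D8302) F10507 D7331 D9513
theorem F26720 : act 5 n12211 = n15299 := d13_0 F26719 (iv D12212) D12211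
def n15300 : Q := act 5 n12202
theorem D15300 : act 5 n12202 = n15300 := rfl
theorem F26721 : act 0 n15300 = n12218 := d4_1 D15300 (iv D12218) (iv F20619)
theorem F26722 : act 2 n15300 = n12211 := d11_1 D15300 F26720 (iv D15299)
theorem F26723 : act 3 n15300 = n12203 := d13_1 D15300 (iv D12203) D12202
def n15301 : Q := act 2 n12206
theorem D15301 : act 2 n12206 = n15301 := rfl
theorem F26724 : act 0 n15301 = n12207 := d1_1 D15301 (iv D12207) (iv F20627)
theorem F26725 : act 1 n15301 = n14031 := d5_1 D15301 F24043 F18513 (iv F15928) (iv F20628)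
theorem F26726 : act 3 n15301 = n12383 := d9_2 D12206 D15301 (iv D12383) (iv D9659) F12325 (iv F11865) (iv F14103) D10923 (iv F18521) (iv F23932) (iv F25974) (iv D14994) F20078 F15508 (iv F15906)
theorem F26727 : act 5 n15301 = n14039 := d11_2 (iv F20629) D15301 (iv D14039)
def n15302 : Q := act 4 n12206
theorem D15302 : act 4 n12206 = n15302 := rfl
theorem F26728 : act 0 n15302 = n12208 := d3_1 D15302 (iv D12208) (iv F20627)
theorem F26729 : act 1 n15302 = n12227 := d7_1 D15302 (iv D12227) (iv F20628)
theorem F26730 : act 3 n15302 = n12634 := d12_1 D15302 (iv D12634) (iv D9889) (iv F15907) D12206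
def n15303 : Q := act 4 n12207
theorem D15303 : act 4 n12207 = n15303 := rfl
theorem F26731 : act 1 n15303 = n12228 := d7_1 D15303 (iv D12228) (iv F20630)
theorem F26732 : act 2 n15303 = n12208 := d10_1 D15303 (iv D12208) D12207
def n15304 : Q := act 5 n12208
theorem D15304 : act 5 n12208 = n15304 := rfl
theorem F26733 : act 1 n15304 = n12209 := d8_1 D15304 (iv D12209) (iv F20633)
theorem F26734 : act 3 n15304 = n12637 := d13_1 D15304 (iv D12637) (iv F20634)
def n15305 : Q := act 0 n12210
theorem D15305 : act 0 n12210 = n15305 := rfl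
theorem F26735 : act 2 n15305 = n12651 := d1_2 (iv F20638) D15305 (iv D12651)
def n15306 : Q := act 3 n12210
theorem D15306 : act 3 n12210 = n15306 := rfl
theorem F26736 : act 1 n15306 = n12211 := d6_1 D15306 (iv D12211) D12210
def n15307 : Q := act 5 n12210
theorem D15307 : act 5 n12210 = n15307 := rfl
theorem F26737 : act 1 n15307 = n12212 := d8_1 D15307 (iv D12212) D12210
theorem F26738 : act 2 n15307 = n12653 := d11_1 D15307 (iv D12653) (iv F20638)
def n15308 : Q := act 4 n12211
theorem D15308 : act 4 n12211 = n15308 := rfl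
theorem F26739 : act 3 n15308 = n12649 := d12_1 D15308 F21386 (iv F18163) F18162 D12211
def n15309 : Q := act 4 n12212
theorem D15309 : act 4 n12212 = n15309 := rfl
theorem F26740 : act 2 n15309 = n12213 := d10_1 D15309 (iv D12213) (iv F20639)
def n15310 : Q := act 3 n12214
theorem D15310 : act 3 n12214 = n15310 := rfl
theorem F26741 : act 0 n15310 = n12215 := d2_1 D15310 (iv D12215) D12214
def n15311 : Q := act 2 n12215
theorem D15311 : act 2 n12215 = n15311 := rfl
def n15312 : Q := act 4 n12215
theorem D15312 : act 4 n12215 = n15312 := rfl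
theorem F26742 : act 1 n15312 = n12217 := d7_1 D15312 (iv D12217) (iv F20644)
theorem F26743 : act 3 n15312 = n12223 := d12_1 D15312 (iv D12223) (iv D9527) (iv F15916) D12215
def n15313 : Q := act 1 n12216
theorem D15313 : act 1 n12216 = n15313 := rfl
def n15314 : Q := act 4 n12216
theorem D15314 : act 4 n12216 = n15314 := rfl
theorem F26744 : act 2 n15314 = n12217 := d10_1 D15314 (iv D12217) D12216
def n15315 : Q := act 5 n12217
theorem D15315 : act 5 n12217 = n15315 := rfl
theorem F26745 : act 3 n15315 = n12225 := d13_1 D15315 (iv D12225) (iv F20645)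
def n15316 : Q := act 4 n12218
theorem D15316 : act 4 n12218 = n15316 := rfl
def n15317 : Q := act 3 n12219
theorem D15317 : act 3 n12219 = n15317 := rfl
theorem F26746 : act 5 n15317 = n12226 := d13_2 (iv F20648) D15317 (iv D12226)
def n15318 : Q := act 2 n12220
theorem D15318 : act 2 n12220 = n15318 := rfl
theorem F26747 : act 0 n15318 = n12222 := d1_1 D15318 (iv D12222) (iv F20649)
def n15319 : Q := act 4 n12220
theorem D15319 : act 4 n12220 = n15319 := rfl
theorem F26748 : act 0 n15319 = n12223 := d3_1 D15319 (iv D12223) (iv F20649)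
def n15320 : Q := act 4 n12221
theorem D15320 : act 4 n12221 = n15320 := rfl
theorem F26749 : act 0 n15320 = n12224 := d3_1 D15320 (iv D12224) (iv F20650)
theorem F26750 : act 2 n15320 = n12609 := d10_1 D15320 F21327 (iv F20651)
def n15321 : Q := act 3 n12222
theorem D15321 : act 3 n12222 = n15321 := rfl
def n15322 : Q := act 3 n12224
theorem D15322 : act 3 n12224 = n15322 := rfl
theorem F26751 : act 1 n15322 = n12226 := d6_1 D15322 (iv D12226) (iv F20653)
theorem F26752 : act 4 n15322 = n12590 := d12_2 D12224 D15322 (iv D12590) (iv F18326) F18325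
def n15323 : Q := act 2 n12226
theorem D15323 : act 2 n12226 = n15323 := rfl
theorem F26753 : act 0 n15323 = n12597 := d1_1 D15323 (iv F23817) F23816
theorem F26754 : act 4 n15323 = n12582 := d10_2 (iv F20657) D15323 F21289
def n15324 : Q := act 5 n12227
theorem D15324 : act 5 n12227 = n15324 := rfl
theorem F26755 : act 0 n15324 = n12229 := d4_1 D15324 (iv D12229) (iv F20658)
theorem F26756 : act 2 n15324 = n14036 := d11_1 D15324 (iv D14036) (iv F20659)
theorem F26757 : act 3 n15324 = n12639 := d13_1 D15324 (iv D12639) (iv F20660)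
theorem F26758 : act 4 n15324 = n14041 := d14_1 D15324 (iv D14041) (iv D11047) (iv F15927) D12227
def n15325 : Q := act 3 n12228
theorem D15325 : act 3 n12228 = n15325 := rfl
theorem F26759 : act 0 n15325 = n14035 := d2_1 D15325 (iv D14035) (iv F20661)
theorem F26760 : act 4 n15325 = n14029 := d12_2 D12228 D15325 (iv D14029) (iv D11037) (iv F15931)
def n15326 : Q := act 5 n12228
theorem D15326 : act 5 n12228 = n15326 := rfl
theorem F26761 : act 0 n15326 = n14036 := d4_1 D15326 (iv D14036) (iv F20661)
theorem F26762 : act 2 n15326 = n12229 := d11_1 D15326 (iv D12229) (iv F20662)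
theorem F26763 : act 4 n15326 = n14044 := d14_1 D15326 (iv D14044) (iv D11049) (iv F15930) D12228
def n15327 : Q := act 0 n12230
theorem D15327 : act 0 n12230 = n15327 := rfl
theorem F26764 : act 1 n15327 = n12234 := d0_2 D12230 D15327 (iv D12234) (iv D9537) (iv F15935)
theorem F26765 : act 2 n15327 = n12254 := d1_2 (iv F20666) D15327 (iv D12254)
theorem F26766 : act 4 n15327 = n15257 := d3_2 (iv F20667) D15327 (iv D15257)
def n15328 : Q := act 3 n12230
theorem D15328 : act 3 n12230 = n15328 := rfl
theorem F26767 : act 1 n15328 = n12231 := d6_1 D15328 (iv D12231) D12230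
def n15329 : Q := act 5 n12230
theorem D15329 : act 5 n12230 = n15329 := rfl
theorem F26768 : act 1 n15329 = n12232 := d8_1 D15329 (iv D12232) D12230
theorem F26769 : act 2 n15329 = n12255 := d11_1 D15329 (iv D12255) (iv F20666)
def n15330 : Q := act 4 n12231
theorem D15330 : act 4 n12231 = n15330 := rfl
theorem F26770 : act 0 n15330 = n12237 := d3_1 D15330 (iv D12237) (iv F20668)
theorem F26771 : act 3 n15330 = n15260 := d12_1 D15330 (iv D15260) (iv D12160) (iv F15936) D12231
def n15331 : Q := act 4 n12232
theorem D15331 : act 4 n12232 = n15331 := rfl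
theorem F26772 : act 0 n15331 = n12239 := d3_1 D15331 (iv D12239) (iv F20669)
theorem F26773 : act 2 n15331 = n12233 := d10_1 D15331 (iv D12233) (iv F20670)
theorem F26774 : act 5 n15331 = n15261 := d14_2 D12232 D15331 (iv D15261) (iv D12161) (iv F15936)
def n15332 : Q := act 3 n12234
theorem D15332 : act 3 n12234 = n15332 := rfl
theorem F26775 : act 0 n15332 = n12235 := d2_1 D15332 (iv D12235) D12234
def n15333 : Q := act 2 n12235
theorem D15333 : act 2 n12235 = n15333 := rfl
def n15334 : Q := act 4 n12235
theorem D15334 : act 4 n12235 = n15334 := rfl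
theorem F26776 : act 1 n15334 = n12237 := d7_1 D15334 (iv D12237) (iv F20676)
def n15335 : Q := act 1 n12236
theorem D15335 : act 1 n12236 = n15335 := rfl
theorem F26777 : act 3 n15335 = n12561 := d6_2 (iv F20677) D15335 (iv D12561)
theorem F26778 : act 5 n15335 = n12563 := d8_2 F20678 D15335 F21246
def n15336 : Q := act 4 n12236
theorem D15336 : act 4 n12236 = n15336 := rfl
theorem F26779 : act 2 n15336 = n12237 := d10_1 D15336 (iv D12237) D12236
def n15337 : Q := act 5 n12237
theorem D15337 : act 5 n12237 = n15337 := rfl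
def n15338 : Q := act 4 n12238
theorem D15338 : act 4 n12238 = n15338 := rfl
theorem F26780 : act 2 n15338 = n12564 := d10_1 D15338 (iv D12564) (iv F20679)
def n15339 : Q := act 3 n12239
theorem D15339 : act 3 n12239 = n15339 := rfl
def n15340 : Q := act 2 n12240
theorem D15340 : act 2 n12240 = n15340 := rfl
theorem F26781 : act 0 n15340 = n12528 := d1_1 D15340 F21178 (iv F20682)
theorem F26782 : act 4 n15340 = n12241 := d10_2 (iv F20684) D15340 (iv D12241)
theorem F26783 : act 5 n15340 = n12345 := d11_2 (iv F20685) D15340 F20871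
def n15341 : Q := act 1 n12241
theorem D15341 : act 1 n12241 = n15341 := rfl
theorem F26784 : act 0 n15341 = n13873 := d0_1 D15341 (iv D13873) F18316 (iv F16360) (iv F20686)
theorem F26785 : act 2 n15341 = n12245 := d5_2 D12241 D15341 (iv D12245) (iv D9545) (iv F15944)
theorem F26786 : act 3 n15341 = n12555 := d6_2 (iv F20688) D15341 (iv D12555)
theorem F26787 : act 5 n15341 = n12242 := d8_2 (iv F20687) D15341 (iv D12242)
def n15342 : Q := act 0 n12242
theorem D15342 : act 0 n12242 = n15342 := rfl
theorem F26788 : act 1 n15342 = n12523 := d0_2 D12242 D15342 (iv D12523) (iv D9791) (iv F15946)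
theorem F26789 : act 2 n15342 = n12246 := d1_2 (iv F20689) D15342 (iv D12246)
theorem F26790 : act 4 n15342 = n12339 := d3_2 (iv F20690) D15342 (iv D12339)
theorem F26791 : act 5 n15342 = n13873 := d4_2 F26787 D15342 (iv F26784)
def n15343 : Q := act 3 n12242
theorem D15343 : act 3 n12242 = n15343 := rfl
theorem F26792 : act 1 n15343 = n12243 := d6_1 D15343 (iv D12243) D12242
theorem F26793 : act 4 n15343 = n12891 := d12_2 (iv F20690) D15343 (iv D12891) (iv F21783) (iv D12340)
theorem F26794 : act 5 n15343 = n12555 := d13_2 F26787 D15343 (iv F26786)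
theorem F26795 : act 2 n14082 = n15343 := d10_3 F26793 (iv F25506) F26074
def n15344 : Q := act 4 n12243
theorem D15344 : act 4 n12243 = n15344 := rfl
theorem F26796 : act 0 n15344 = n12526 := d3_1 D15344 (iv D12526) (iv F20691)
theorem F26797 : act 1 n15344 = n12891 := d7_1 D15344 (iv F26793) F26792
theorem F26798 : act 2 n15344 = n12558 := d10_1 D15344 (iv D12558) (iv F20693)
theorem F26799 : act 3 n15344 = n12343 := d12_1 D15344 (iv D12343) (iv D9628) (iv F15947) D12243
def n15345 : Q := act 1 n12244
theorem D15345 : act 1 n12244 = n15345 := rfl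
theorem F26800 : act 4 n15345 = n12245 := d7_2 (iv F20695) D15345 (iv D12245)
theorem F26801 : act 5 n15345 = n12350 := d8_2 (iv F20696) D15345 F20875
def n15346 : Q := act 0 n12245
theorem D15346 : act 0 n12245 = n15346 := rfl
theorem F26802 : act 1 n15346 = n12285 := d0_2 D12245 D15346 (iv D12285) (iv D9581) (iv F15952)
theorem F26803 : act 2 n15346 = n13873 := d1_2 F26785 D15346 (iv F26784)
theorem F26804 : act 3 n15346 = n12295 := d2_2 (iv F20697) D15346 (iv D12295)
theorem F26805 : act 5 n15346 = n12246 := d4_2 (iv F20698) D15346 (iv D12246)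
def n15347 : Q := act 3 n12246
theorem D15347 : act 3 n12246 = n15347 := rfl
theorem F26806 : act 0 n15347 = n12247 := d2_1 D15347 (iv D12247) D12246
theorem F26807 : act 1 n15347 = n12286 := d6_1 D15347 (iv D12286) (iv F20699)
theorem F26808 : act 5 n15347 = n12295 := d13_2 F26805 D15347 (iv F26804)
theorem F26809 : act 2 n14121 = n15347 := d1_0 F26806 (iv F20703) D14121
def n15348 : Q := act 4 n12247
theorem D15348 : act 4 n12247 = n15348 := rfl
theorem F26810 : act 1 n15348 = n12248 := d7_1 D15348 (iv D12248) (iv F20701)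
theorem F26811 : act 2 n15348 = n14122 := d10_1 D15348 (iv D14122) F20703
theorem F26812 : act 3 n15348 = n12349 := d12_1 D15348 (iv D12349) (iv D9632) (iv F15955) D12247
def n15349 : Q := act 2 n12249
theorem D15349 : act 2 n12249 = n15349 := rfl
theorem F26813 : act 0 n15349 = n14118 := d1_1 D15349 (iv D14118) (iv F20707)
theorem F26814 : act 1 n15349 = n12287 := d5_1 D15349 (iv D12287) F16027 (iv F15963) (iv F20708)
theorem F26815 : act 5 n15349 = n12252 := d11_2 (iv F20709) D15349 (iv D12252)
theorem F26816 : act 3 n15349 = n14968 := d15_1 D15349 F25904 F21631 (iv D12633) (iv D9889) (iv F15966) D12251 F20714 (iv F20707)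
def n15350 : Q := act 4 n12249
theorem D15350 : act 4 n12249 = n15350 := rfl
theorem F26817 : act 0 n15350 = n14119 := d3_1 D15350 (iv D14119) (iv F20707)
theorem F26818 : act 1 n15350 = n12250 := d7_1 D15350 (iv D12250) (iv F20708)
def n15351 : Q := act 2 n12251
theorem D15351 : act 2 n12251 = n15351 := rfl
theorem F26819 : act 0 n15351 = n12252 := d1_1 D15351 (iv D12252) (iv F20712)
theorem F26820 : act 1 n15351 = n14101 := d5_1 D15351 (iv D14101) F18595 (iv F16031) (iv F20713)
theorem F26821 : act 5 n15351 = n14118 := d11_2 (iv F20714) D15351 (iv D14118)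
def n15352 : Q := act 1 n12252
theorem D15352 : act 1 n12252 = n15352 := rfl
theorem F26822 : act 0 n15352 = n14974 := d0_1 D15352 F25918 (iv F24153) (iv F26820) F26819
theorem F26823 : act 2 n15352 = n12253 := d5_2 D12252 D15352 (iv D12253) (iv D9552) (iv F15969)
theorem F26824 : act 5 n15352 = n12287 := d8_2 F26815 D15352 (iv F26814)
theorem F26825 : act 3 n14969 = n15352 := d13_3 F26824 F20779 D14969
def n15353 : Q := act 3 n12252
theorem D15353 : act 3 n12252 = n15353 := rfl
theorem F26826 : act 1 n15353 = n14969 := d6_1 D15353 F26825 (iv D15352)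
theorem F26827 : act 5 n15353 = n14968 := d13_2 F26815 D15353 (iv F26816)
def n15354 : Q := act 0 n12253
theorem D15354 : act 0 n12253 = n15354 := rfl
theorem F26828 : act 1 n15354 = n12295 := d0_2 D12253 D15354 (iv D12295) (iv D9589) (iv F15970)
theorem F26829 : act 2 n15354 = n14974 := d1_2 F26823 D15354 (iv F26822)
theorem F26830 : act 3 n15354 = n12285 := d2_2 (iv F20715) D15354 (iv D12285)
theorem F26831 : act 5 n15354 = n12286 := d4_2 (iv F20716) D15354 F20776
def n15355 : Q := act 5 n12254
theorem D15355 : act 5 n12254 = n15355 := rfl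
theorem F26832 : act 0 n15355 = n12255 := d4_1 D15355 (iv D12255) D12254
theorem F26833 : act 1 n15355 = n12262 := d8_1 D15355 (iv D12262) (iv F20717)
theorem F26834 : act 3 n15355 = n12303 := d13_1 D15355 (iv F24173) F24172
def n15356 : Q := act 4 n12255
theorem D15356 : act 4 n12255 = n15356 := rfl
theorem F26835 : act 1 n15356 = n12256 := d7_1 D15356 (iv D12256) (iv F20719)
theorem F26836 : act 5 n15356 = n15265 := d14_2 D12255 D15356 (iv D15265) (iv D12165) (iv F15973)
def n15357 : Q := act 3 n12257
theorem D15357 : act 3 n12257 = n15357 := rfl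
theorem F26837 : act 0 n15357 = n12258 := d2_1 D15357 (iv D12258) D12257
theorem F26838 : act 1 n15357 = n15262 := d6_1 D15357 (iv D15262) (iv F20724)
theorem F26839 : act 5 n15272 = n15357 := d8_0 F26838 (iv F26637) (iv F26660)
def n15358 : Q := act 5 n12257
theorem D15358 : act 5 n12257 = n15358 := rfl
theorem F26840 : act 0 n15358 = n12259 := d4_1 D15358 (iv D12259) D12257
theorem F26841 : act 1 n15358 = n15263 := d8_1 D15358 (iv D15263) (iv F20724)
theorem F26842 : act 2 n15358 = n12269 := d11_1 D15358 (iv D12269) (iv F20725)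
theorem F26843 : act 3 n15358 = n15272 := d13_1 D15358 F26839 (iv D15357)
def n15359 : Q := act 2 n12258
theorem D15359 : act 2 n12258 = n15359 := rfl
theorem F26844 : act 1 n15359 = n15269 := d5_1 D15359 F26654 F20563 (iv F15983) (iv F20727)
theorem F26845 : act 5 n15359 = n15267 := d11_2 F20728 D15359 F26650
def n15360 : Q := act 4 n12258
theorem D15360 : act 4 n12258 = n15360 := rfl
theorem F26846 : act 1 n15360 = n12260 := d7_1 D15360 (iv D12260) (iv F20727)
theorem F26847 : act 3 n15360 = n12264 := d12_1 D15360 (iv D12264) (iv D9561) (iv F15981) D12258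
theorem F26848 : act 5 n15360 = n14996 := d14_2 F20728 D15360 (iv D14996) F20081 (iv F20567)
def n15361 : Q := act 2 n12261
theorem D15361 : act 2 n12261 = n15361 := rfl
theorem F26849 : act 0 n15361 = n12263 := d1_1 D15361 (iv D12263) (iv F20736)
def n15362 : Q := act 4 n12261
theorem D15362 : act 4 n12261 = n15362 := rfl
theorem F26850 : act 0 n15362 = n12264 := d3_1 D15362 (iv D12264) (iv F20736)
def n15363 : Q := act 5 n12261
theorem D15363 : act 5 n12261 = n15363 := rfl
theorem F26851 : act 0 n15363 = n12265 := d4_1 D15363 (iv D12265) (iv F20736)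
theorem F26852 : act 1 n15363 = n12303 := d8_1 D15363 (iv F24173) F24170
theorem F26853 : act 3 n15363 = n12262 := d13_1 D15363 (iv D12262) D12261
theorem F26854 : act 4 n14771 = n15363 := d3_0 F26851 (iv F20742) D14771
def n15364 : Q := act 4 n12262
theorem D15364 : act 4 n12262 = n15364 := rfl
theorem F26855 : act 0 n15364 = n12266 := d3_1 D15364 (iv D12266) (iv F20737)
theorem F26856 : act 2 n15364 = n12280 := d10_1 D15364 (iv D12280) (iv F20738)
def n15365 : Q := act 3 n12263
theorem D15365 : act 3 n12263 = n15365 := rfl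
def n15366 : Q := act 4 n12263
theorem D15366 : act 4 n12263 = n15366 := rfl
theorem F26857 : act 2 n15366 = n12264 := d10_1 D15366 (iv D12264) D12263
def n15367 : Q := act 5 n12263
theorem D15367 : act 5 n12263 = n15367 := rfl
theorem F26858 : act 1 n15367 = n12302 := d8_1 D15367 (iv F24143) F24142
theorem F26859 : act 2 n15367 = n12265 := d11_1 D15367 (iv D12265) D12263
theorem F26860 : act 4 n14767 = n15367 := d10_0 F26859 (iv F20742) (iv F25527)
def n15368 : Q := act 5 n12264
theorem D15368 : act 5 n12264 = n15368 := rfl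
theorem F26861 : act 1 n15368 = n12267 := d8_1 D15368 (iv D12267) (iv F20739)
theorem F26862 : act 3 n15368 = n14996 := d13_1 D15368 (iv F26848) F26847
theorem F26863 : act 4 n15368 = n14773 := d14_1 D15368 (iv D14773) F20742 (iv D12265) D12264
def n15369 : Q := act 2 n12268
theorem D15369 : act 2 n12268 = n15369 := rfl
theorem F26864 : act 0 n15369 = n12270 := d1_1 D15369 (iv D12270) (iv F20748)
def n15370 : Q := act 4 n12268
theorem D15370 : act 4 n12268 = n15370 := rfl
theorem F26865 : act 0 n15370 = n12271 := d3_1 D15370 (iv D12271) (iv F20748)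
theorem F26866 : act 3 n15370 = n12279 := d12_1 D15370 (iv D12279) (iv D9575) (iv F16001) D12268
def n15371 : Q := act 4 n12269
theorem D15371 : act 4 n12269 = n15371 := rfl
theorem F26867 : act 0 n15371 = n12272 := d3_1 D15371 (iv D12272) (iv F20749)
theorem F26868 : act 5 n15371 = n12280 := d14_2 D12269 D15371 (iv D12280) (iv D9576) (iv F16001)
def n15372 : Q := act 3 n12270
theorem D15372 : act 3 n12270 = n15372 := rfl
def n15373 : Q := act 4 n12270
theorem D15373 : act 4 n12270 = n15373 := rfl
theorem F26869 : act 2 n15373 = n12271 := d10_1 D15373 (iv D12271) D12270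
def n15374 : Q := act 1 n12273
theorem D15374 : act 1 n12273 = n15374 := rfl
theorem F26870 : act 2 n15374 = n12542 := d5_2 D12273 D15374 F21204 F16394 (iv F16008)
theorem F26871 : act 4 n15374 = n12274 := d7_2 (iv F20755) D15374 (iv D12274)
theorem F26872 : act 5 n15374 = n12283 := d8_2 (iv F20756) D15374 (iv D12283)
def n15375 : Q := act 0 n12274
theorem D15375 : act 0 n12274 = n15375 := rfl
theorem F26873 : act 1 n15375 = n12347 := d0_2 D12274 D15375 F20873 F16100 (iv F16011)
theorem F26874 : act 2 n15375 = n12539 := d1_2 (iv F20757) D15375 F21201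
theorem F26875 : act 3 n15375 = n12363 := d2_2 (iv F20758) D15375 (iv D12363)
theorem F26876 : act 5 n15375 = n12275 := d4_2 (iv F20759) D15375 (iv D12275)
def n15376 : Q := act 3 n12275
theorem D15376 : act 3 n12275 = n15376 := rfl
theorem F26877 : act 0 n15376 = n12276 := d2_1 D15376 (iv D12276) D12275
theorem F26878 : act 1 n15376 = n12346 := d6_1 D15376 (iv D12346) (iv F20760)
theorem F26879 : act 5 n15376 = n12363 := d13_2 F26876 D15376 (iv F26875)
def n15377 : Q := act 2 n12276
theorem D15377 : act 2 n12276 = n15377 := rfl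
theorem F26880 : act 1 n15377 = n12359 := d5_1 D15377 F20883 F16106 (iv F16018) (iv F20763)
theorem F26881 : act 5 n15377 = n12356 := d11_2 (iv F20764) D15377 F20881
def n15378 : Q := act 4 n12276
theorem D15378 : act 4 n12276 = n15378 := rfl
theorem F26882 : act 1 n15378 = n12277 := d7_1 D15378 (iv D12277) (iv F20763)
theorem F26883 : act 3 n15378 = n12288 := d12_1 D15378 (iv D12288) (iv D9583) (iv F16015) D12276
def n15379 : Q := act 1 n12278
theorem D15379 : act 1 n12278 = n15379 := rfl
def n15380 : Q := act 3 n12278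
theorem D15380 : act 3 n12278 = n15380 := rfl
theorem F26884 : act 0 n15380 = n12281 := d2_1 D15380 (iv D12281) (iv F20768)
def n15381 : Q := act 4 n12278
theorem D15381 : act 4 n12278 = n15381 := rfl
theorem F26885 : act 0 n15381 = n12282 := d3_1 D15381 (iv D12282) (iv F20768)
theorem F26886 : act 2 n15381 = n12279 := d10_1 D15381 (iv D12279) D12278
def n15382 : Q := act 2 n12281
theorem D15382 : act 2 n12281 = n15382 := rfl
def n15383 : Q := act 4 n12281
theorem D15383 : act 4 n12281 = n15383 := rfl
def n15384 : Q := act 3 n12282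
theorem D15384 : act 3 n12282 = n15384 := rfl
def n15385 : Q := act 0 n12283
theorem D15385 : act 0 n12283 = n15385 := rfl
theorem F26887 : act 2 n15385 = n12546 := d1_2 (iv F20772) D15385 F21217
theorem F26888 : act 4 n15385 = n12285 := d3_2 (iv F20773) D15385 (iv D12285)
def n15386 : Q := act 3 n12283
theorem D15386 : act 3 n12283 = n15386 := rfl
theorem F26889 : act 1 n15386 = n12284 := d6_1 D15386 (iv D12284) D12283
def n15387 : Q := act 4 n12286
theorem D15387 : act 4 n12286 = n15387 := rfl
theorem F26890 : act 0 n15387 = n12288 := d3_1 D15387 (iv D12288) (iv F20776)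
theorem F26891 : act 2 n15387 = n14973 := d10_1 D15387 (iv D14973) (iv F20777)
def n15388 : Q := act 4 n12287
theorem D15388 : act 4 n12287 = n15388 := rfl
theorem F26892 : act 0 n15388 = n14973 := d3_1 D15388 (iv D14973) (iv F20778)
theorem F26893 : act 2 n15388 = n12288 := d10_1 D15388 (iv D12288) D12287
def n15389 : Q := act 5 n12288
theorem D15389 : act 5 n12288 = n15389 := rfl
theorem F26894 : act 1 n15389 = n12289 := d8_1 D15389 (iv D12289) (iv F20780)
def n15390 : Q := act 5 n12291
theorem D15390 : act 5 n12291 = n15390 := rfl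
theorem F26895 : act 0 n15390 = n12294 := d4_1 D15390 (iv D12294) (iv F20783)
theorem F26896 : act 2 n15390 = n14106 := d11_1 D15390 (iv D14106) (iv F20784)
theorem F26897 : act 3 n15390 = n12299 := d13_1 D15390 (iv D12299) (iv F20785)
theorem F26898 : act 4 n15390 = n14120 := d14_1 D15390 (iv D14120) (iv D11112) (iv F16030) D12291
def n15391 : Q := act 0 n12292
theorem D15391 : act 0 n12292 = n15391 := rfl
theorem F26899 : act 1 n15391 = n14099 := d0_2 D12292 D15391 F24149 F18595 (iv F16032)
theorem F26900 : act 2 n15391 = n12295 := d1_2 (iv F20786) D15391 (iv D12295)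
theorem F26901 : act 3 n15391 = n14096 := d2_2 (iv F20787) D15391 (iv D14096)
theorem F26902 : act 5 n15391 = n14121 := d4_2 (iv F20788) D15391 (iv D14121)
def n15392 : Q := act 4 n12292
theorem D15392 : act 4 n12292 = n15392 := rfl
theorem F26903 : act 1 n15392 = n12293 := d7_1 D15392 (iv D12293) D12292
theorem F26904 : act 2 n15392 = n12296 := d10_1 D15392 (iv D12296) (iv F20786)
def n15393 : Q := act 5 n12293
theorem D15393 : act 5 n12293 = n15393 := rfl
theorem F26905 : act 0 n15393 = n14106 := d4_1 D15393 (iv D14106) (iv F20789)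
theorem F26906 : act 2 n15393 = n12294 := d11_1 D15393 (iv D12294) (iv F20790)
theorem F26907 : act 4 n15393 = n14124 := d14_1 D15393 (iv D14124) (iv D11114) (iv F16033) D12293
def n15394 : Q := act 4 n12295
theorem D15394 : act 4 n12295 = n15394 := rfl
theorem F26908 : act 0 n15394 = n12296 := d3_1 D15394 (iv D12296) D12295
def n15395 : Q := act 4 n12297
theorem D15395 : act 4 n12297 = n15395 := rfl
theorem F26909 : act 0 n15395 = n12911 := d3_1 D15395 (iv F25947) F25945
theorem F26910 : act 1 n15395 = n12298 := d7_1 D15395 (iv D12298) D12297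
theorem F26911 : act 2 n15395 = n12914 := d10_1 D15395 (iv F25966) F25964
def n15396 : Q := act 3 n12298
theorem D15396 : act 3 n12298 = n15396 := rfl
theorem F26912 : act 0 n15396 = n12300 := d2_1 D15396 (iv D12300) (iv F20796)
theorem F26913 : act 4 n15396 = n13730 := d12_2 D12298 D15396 (iv D13730) F18090 (iv F16040)
def n15397 : Q := act 5 n12298
theorem D15397 : act 5 n12298 = n15397 := rfl
theorem F26914 : act 0 n15397 = n12301 := d4_1 D15397 (iv D12301) (iv F20796)
theorem F26915 : act 2 n15397 = n12299 := d11_1 D15397 (iv D12299) (iv F20797)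
def n15398 : Q := act 2 n12300
theorem D15398 : act 2 n12300 = n15398 := rfl
def n15399 : Q := act 5 n12300
theorem D15399 : act 5 n12300 = n15399 := rfl
theorem F26916 : act 3 n15399 = n12301 := d13_1 D15399 (iv D12301) D12300
def n15400 : Q := act 3 n12302
theorem D15400 : act 3 n12302 = n15400 := rfl
theorem F26917 : act 0 n15400 = n13793 := d2_1 D15400 (iv D13793) (iv F20800)
def n15401 : Q := act 4 n12303
theorem D15401 : act 4 n12303 = n15401 := rfl
theorem F26918 : act 0 n15401 = n12304 := d3_1 D15401 (iv D12304) D12303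
theorem F26919 : act 1 n15401 = n14771 := d7_1 D15401 F26854 F26852
theorem F26920 : act 2 n15401 = n13805 := d10_1 D15401 F23648 (iv F20802)
def n15402 : Q := act 2 n12305
theorem D15402 : act 2 n12305 = n15402 := rfl
theorem F26921 : act 0 n15402 = n12307 := d1_1 D15402 F20809 (iv F20805)
theorem F26922 : act 1 n15402 = n12329 := d5_1 D15402 F20842 (iv F20146) F20147 (iv F20806)
theorem F26923 : act 3 n15402 = n12328 := d9_2 D12305 D15402 F20840 F16119 (iv D8546) (iv D6554) (iv F10594) D8367 D10783 (iv F20795) (iv F25964) F25965 F20927 F16152 (iv F16056)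
theorem F26924 : act 5 n15402 = n13720 := d11_2 (iv F20807) D15402 (iv D13720)
def n15403 : Q := act 4 n12305
theorem D15403 : act 4 n12305 = n15403 := rfl
theorem F26925 : act 0 n15403 = n13723 := d3_1 D15403 (iv D13723) (iv F20805)
theorem F26926 : act 1 n15403 = n12306 := d7_1 D15403 (iv D12306) (iv F20806)
def n15404 : Q := act 4 n12307
theorem D15404 : act 4 n12307 = n15404 := rfl
theorem F26927 : act 1 n15404 = n12308 := d7_1 D15404 (iv D12308) D12307
theorem F26928 : act 2 n15404 = n13723 := d10_1 D15404 (iv D13723) (iv F20809)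
def n15405 : Q := act 3 n12308
theorem D15405 : act 3 n12308 = n15405 := rfl
def n15406 : Q := act 5 n12308
theorem D15406 : act 5 n12308 = n15406 := rfl
theorem F26929 : act 2 n15406 = n12309 := d11_1 D15406 (iv D12309) (iv F20811)
theorem F26930 : act 4 n15406 = n13731 := d14_1 D15406 (iv D13731) F18090 (iv F16060) D12308
def n15407 : Q := act 0 n12310
theorem D15407 : act 0 n12310 = n15407 := rfl
theorem F26931 : act 1 n15407 = n12735 := d0_2 D12310 D15407 F21817 (iv D12406) F16160
theorem F26932 : act 2 n15407 = n12534 := d1_2 (iv F20814) D15407 (iv D12534)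
theorem F26933 : act 4 n15407 = n15205 := d3_2 (iv F20815) D15407 (iv D15205)
theorem F26934 : act 3 n12727 = n15407 := d6_0 F26931 (iv D12735) (iv F21497)
def n15408 : Q := act 3 n12310
theorem D15408 : act 3 n12310 = n15408 := rfl
theorem F26935 : act 0 n15408 = n12727 := d2_1 D15408 F26934 (iv D15407)
theorem F26936 : act 1 n15408 = n12311 := d6_1 D15408 (iv D12311) D12310
theorem F26937 : act 4 n15408 = n12720 := d12_2 (iv F20815) D15408 (iv F24138) F26492 (iv D15206)
theorem F26938 : act 2 n12721 = n15408 := d10_3 F26937 F21488 D12721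
def n15409 : Q := act 5 n12310
theorem D15409 : act 5 n12310 = n15409 := rfl
theorem F26939 : act 1 n15409 = n12312 := d8_1 D15409 (iv D12312) D12310
theorem F26940 : act 2 n15409 = n12536 := d11_1 D15409 (iv D12536) (iv F20814)
def n15410 : Q := act 4 n12311
theorem D15410 : act 4 n12311 = n15410 := rfl
theorem F26941 : act 0 n15410 = n12728 := d3_1 D15410 F21827 F20953
theorem F26942 : act 1 n15410 = n12720 := d7_1 D15410 (iv F26937) F26936
theorem F26943 : act 2 n15410 = n12740 := d10_1 D15410 (iv F23052) F23050
theorem F26944 : act 3 n15410 = n15207 := d12_1 D15410 (iv D15207) (iv D12112) (iv F16062) D12311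
theorem F26945 : act 5 n12718 = n15410 := d11_0 F26943 (iv D12740) (iv F21485)
def n15411 : Q := act 4 n12312
theorem D15411 : act 4 n12312 = n15411 := rfl
theorem F26946 : act 2 n15411 = n12313 := d10_1 D15411 (iv D12313) (iv F20816)
theorem F26947 : act 5 n15411 = n15208 := d14_2 D12312 D15411 (iv D15208) (iv D12113) (iv F16062)
def n15412 : Q := act 1 n12317
theorem D15412 : act 1 n12317 = n15412 := rfl
theorem F26948 : act 2 n15412 = n12731 := d5_2 D12317 D15412 (iv F25192) F25193 F20822
theorem F26949 : act 5 n15412 = n12730 := d8_2 (iv F20955) D15412 (iv F21826)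
theorem F26950 : act 0 n12736 = n15412 := d4_3 F26949 F21501 D12736
def n15413 : Q := act 4 n12317
theorem D15413 : act 4 n12317 = n15413 := rfl
theorem F26951 : act 2 n15413 = n12318 := d10_1 D15413 (iv D12318) D12317
def n15414 : Q := act 5 n12318
theorem D15414 : act 5 n12318 = n15414 := rfl
theorem F26952 : act 0 n15414 = n12739 := d4_1 D15414 F23047 F23044
theorem F26953 : act 1 n15414 = n12746 := d8_1 D15414 (iv F25187) (iv F25188)
theorem F26954 : act 3 n15414 = n12322 := d13_1 D15414 (iv D12322) (iv F20825)
theorem F26955 : act 4 n15414 = n12738 := d14_1 D15414 (iv F26173) F26172 (iv D12319) D12318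
def n15415 : Q := act 3 n12320
theorem D15415 : act 3 n12320 = n15415 := rfl
theorem F26956 : act 0 n15415 = n12883 := d2_1 D15415 F21749 (iv F20827)
theorem F26957 : act 4 n15415 = n13822 := d12_2 D12320 D15415 F26174 F26172 F20826
theorem F26958 : act 5 n15415 = n12323 := d13_2 (iv F20829) D15415 (iv D12323)
theorem F26959 : act 2 n15415 = n12860 := d15_2 (iv F20828) D15415 (iv D12860) (iv D10073) (iv D7776) F9707 D5937 D7790 (iv F16068)
def n15416 : Q := act 5 n12321
theorem D15416 : act 5 n12321 = n15416 := rfl
theorem F26960 : act 0 n15416 = n12749 := d4_1 D15416 (iv F25202) F25200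
theorem F26961 : act 1 n15416 = n12322 := d8_1 D15416 (iv D12322) (iv F20830)
theorem F26962 : act 3 n15416 = n12746 := d13_1 D15416 (iv F25187) F25189
def n15417 : Q := act 2 n12323
theorem D15417 : act 2 n12323 = n15417 := rfl
theorem F26963 : act 0 n15417 = n12881 := d1_1 D15417 (iv D12881) (iv F20831)
theorem F26964 : act 3 n15417 = n12861 := d9_2 D12323 D15417 F21705 F16796 F12828 (iv F12841) (iv F16811) (iv F21749) (iv F21750) F21723 (iv D12855) (iv D10069) F12824 (iv F12291) (iv F16075)
theorem F26965 : act 5 n15417 = n12860 := d11_2 F26958 D15417 (iv F26959)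
def n15418 : Q := act 4 n12325
theorem D15418 : act 4 n12325 = n15418 := rfl
theorem F26966 : act 1 n15418 = n12327 := d7_1 D15418 (iv D12327) (iv F20834)
def n15419 : Q := act 0 n12326
theorem D15419 : act 0 n12326 = n15419 := rfl
theorem F26967 : act 1 n15419 = n12363 := d0_2 D12326 D15419 (iv D12363) (iv D9642) (iv F16080)
theorem F26968 : act 2 n15419 = n12887 := d1_2 (iv F25632) D15419 (iv F25628)
theorem F26969 : act 3 n15419 = n12347 := d2_2 (iv F20836) D15419 F20873
theorem F26970 : act 5 n15419 = n12346 := d4_2 (iv F20837) D15419 F20872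
def n15420 : Q := act 4 n12328
theorem D15420 : act 4 n12328 = n15420 := rfl
theorem F26971 : act 1 n15420 = n12330 := d7_1 D15420 (iv D12330) D12328
theorem F26972 : act 2 n15420 = n12379 := d10_1 D15420 (iv D12379) (iv F20840)
def n15421 : Q := act 4 n12329
theorem D15421 : act 4 n12329 = n15421 := rfl
theorem F26973 : act 0 n15421 = n12332 := d3_1 D15421 (iv D12332) (iv F20841)
theorem F26974 : act 2 n15421 = n12332 := d10_1 D15421 (iv D12332) (iv F20842)
def n15422 : Q := act 3 n12330
theorem D15422 : act 3 n12330 = n15422 := rfl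
theorem F26975 : act 0 n15422 = n12333 := d2_1 D15422 (iv D12333) (iv F20843)
def n15423 : Q := act 5 n12330
theorem D15423 : act 5 n12330 = n15423 := rfl
theorem F26976 : act 0 n15423 = n12334 := d4_1 D15423 (iv D12334) (iv F20843)
theorem F26977 : act 2 n15423 = n12331 := d11_1 D15423 (iv D12331) (iv F20844)
theorem F26978 : act 4 n15423 = n12913 := d14_1 D15423 (iv D12913) (iv F20059) F20060 D12330
def n15424 : Q := act 3 n12332
theorem D15424 : act 3 n12332 = n15424 := rfl
theorem F26979 : act 4 n15424 = n12333 := d12_2 D12332 D15424 (iv D12333) (iv D9623) D9622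
def n15425 : Q := act 5 n12332
theorem D15425 : act 5 n12332 = n15425 := rfl
def n15426 : Q := act 2 n12333
theorem D15426 : act 2 n12333 = n15426 := rfl
def n15427 : Q := act 5 n12333
theorem D15427 : act 5 n12333 = n15427 := rfl
theorem F26980 : act 3 n15427 = n12334 := d13_1 D15427 (iv D12334) D12333
def n15428 : Q := act 0 n12335
theorem D15428 : act 0 n12335 = n15428 := rfl
theorem F26981 : act 1 n15428 = n12339 := d0_2 D12335 D15428 (iv D12339) (iv D9627) (iv F16091)
theorem F26982 : act 2 n15428 = n12529 := d1_2 (iv F20849) D15428 (iv D12529)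
theorem F26983 : act 4 n15428 = n12523 := d3_2 (iv F20850) D15428 (iv D12523)
theorem F26984 : act 3 n12458 = n15428 := d12_5 F26983 (iv F21506) (iv F21822) (iv D12457) D12458
def n15429 : Q := act 3 n12335
theorem D15429 : act 3 n12335 = n15429 := rfl
theorem F26985 : act 0 n15429 = n12458 := d2_1 D15429 F26984 (iv D15428)
theorem F26986 : act 1 n15429 = n12336 := d6_1 D15429 (iv D12336) D12335
theorem F26987 : act 2 n12455 = n15429 := d5_0 F26986 F20852 (iv F21835) (iv F26136) F26135
theorem F26988 : act 5 n14423 = n15429 := d8_0 F26986 (iv F20853) D14423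
theorem F26989 : act 4 n15429 = n12454 := d14_1 F26988 (iv F26115) F26114 D15150 (iv F26358)
def n15430 : Q := act 5 n12335
theorem D15430 : act 5 n12335 = n15430 := rfl
theorem F26990 : act 1 n15430 = n12337 := d8_1 D15430 (iv D12337) D12335
theorem F26991 : act 2 n15430 = n12531 := d11_1 D15430 (iv D12531) (iv F20849)
theorem F26992 : act 3 n15430 = n14423 := d13_1 D15430 F26988 (iv D15429)
theorem F26993 : act 4 n15430 = n13881 := d14_1 D15430 (iv D13881) (iv D10917) F16359 (iv F20850)
def n15431 : Q := act 4 n12336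
theorem D15431 : act 4 n12336 = n15431 := rfl
theorem F26994 : act 0 n15431 = n12343 := d3_1 D15431 (iv D12343) (iv F20851)
theorem F26995 : act 1 n15431 = n12454 := d7_1 D15431 (iv F26989) F26986
theorem F26996 : act 2 n15431 = n12895 := d10_1 D15431 F21810 (iv F20852)
theorem F26997 : act 3 n15431 = n12526 := d12_1 D15431 (iv D12526) (iv D9792) (iv F16092) D12336
def n15432 : Q := act 4 n12337
theorem D15432 : act 4 n12337 = n15432 := rfl
theorem F26998 : act 0 n15432 = n12345 := d3_1 D15432 (iv D12345) (iv F20854)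
theorem F26999 : act 1 n15432 = n13881 := d7_1 D15432 (iv F26993) F26990
theorem F27000 : act 2 n15432 = n12338 := d10_1 D15432 (iv D12338) (iv F20855)
theorem F27001 : act 5 n15432 = n12528 := d14_2 D12337 D15432 (iv D12528) (iv D9793) (iv F16092)
def n15433 : Q := act 4 n12341
theorem D15433 : act 4 n12341 = n15433 := rfl
theorem F27002 : act 1 n15433 = n12345 := d7_1 D15433 (iv D12345) (iv F20863)
theorem F27003 : act 2 n15433 = n12350 := d10_1 D15433 (iv D12350) (iv F20864)
theorem F27004 : act 3 n15433 = n14236 := d12_1 D15433 F24405 (iv F20320) D15148 (iv F26353)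
def n15434 : Q := act 3 n12345
theorem D15434 : act 3 n12345 = n15434 := rfl
theorem F27005 : act 1 n15434 = n14236 := d6_1 D15434 (iv F27004) F27002
theorem F27006 : act 4 n15434 = n14238 := d12_2 D12345 D15434 (iv F26345) F26346 F20870
def n15435 : Q := act 2 n12346
theorem D15435 : act 2 n12346 = n15435 := rfl
theorem F27007 : act 0 n15435 = n12348 := d1_1 D15435 (iv D12348) (iv F20872)
theorem F27008 : act 3 n15435 = n12888 := d9_2 D12346 D15435 F21765 (iv F20323) (iv F26351) (iv F26353) F20864 (iv F20836) F25632 (iv D14822) F19802 (iv F20179) (iv F26121) (iv F26123) F20861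
theorem F27009 : act 5 n15435 = n12887 := d11_2 F26970 D15435 (iv F26968)
def n15436 : Q := act 4 n12346
theorem D15436 : act 4 n12346 = n15436 := rfl
theorem F27010 : act 0 n15436 = n12349 := d3_1 D15436 (iv D12349) (iv F20872)
def n15437 : Q := act 4 n12347
theorem D15437 : act 4 n12347 = n15437 := rfl
theorem F27011 : act 0 n15437 = n12350 := d3_1 D15437 (iv D12350) (iv F20873)
def n15438 : Q := act 4 n12348
theorem D15438 : act 4 n12348 = n15438 := rfl
theorem F27012 : act 2 n15438 = n12349 := d10_1 D15438 (iv D12349) D12348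
def n15439 : Q := act 5 n12349
theorem D15439 : act 5 n12349 = n15439 := rfl
theorem F27013 : act 1 n15439 = n12351 := d8_1 D15439 (iv D12351) (iv F20874)
def n15440 : Q := act 3 n12350
theorem D15440 : act 3 n12350 = n15440 := rfl
theorem F27014 : act 1 n15440 = n12352 := d6_1 D15440 (iv D12352) (iv F20875)
def n15441 : Q := act 5 n12353
theorem D15441 : act 5 n12353 = n15441 := rfl
theorem F27015 : act 0 n15441 = n12359 := d4_1 D15441 (iv D12359) (iv F20876)
theorem F27016 : act 2 n15441 = n12354 := d11_1 D15441 (iv D12354) D12353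
def n15442 : Q := act 4 n12354
theorem D15442 : act 4 n12354 = n15442 := rfl
theorem F27017 : act 0 n15442 = n12361 := d3_1 D15442 (iv D12361) (iv F20877)
def n15443 : Q := act 3 n12355
theorem D15443 : act 3 n12355 = n15443 := rfl
theorem F27018 : act 0 n15443 = n12362 := d2_1 D15443 (iv D12362) (iv F20879)
theorem F27019 : act 5 n15443 = n12371 := d13_2 (iv F20880) D15443 (iv D12371)
def n15444 : Q := act 0 n12356
theorem D15444 : act 0 n12356 = n15444 := rfl
theorem F27020 : act 2 n15444 = n12363 := d1_2 (iv F20881) D15444 (iv D12363)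
def n15445 : Q := act 3 n12356
theorem D15445 : act 3 n12356 = n15445 := rfl
theorem F27021 : act 1 n15445 = n12357 := d6_1 D15445 (iv D12357) D12356
def n15446 : Q := act 4 n12356
theorem D15446 : act 4 n12356 = n15446 := rfl
theorem F27022 : act 1 n15446 = n12358 := d7_1 D15446 (iv D12358) D12356
theorem F27023 : act 2 n15446 = n12364 := d10_1 D15446 (iv D12364) (iv F20881)
def n15447 : Q := act 4 n12357
theorem D15447 : act 4 n12357 = n15447 := rfl
def n15448 : Q := act 5 n12357
theorem D15448 : act 5 n12357 = n15448 := rfl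
theorem F27024 : act 3 n15448 = n12359 := d13_1 D15448 (iv D12359) D12357
def n15449 : Q := act 3 n12358
theorem D15449 : act 3 n12358 = n15449 := rfl
def n15450 : Q := act 5 n12358
theorem D15450 : act 5 n12358 = n15450 := rfl
theorem F27025 : act 2 n15450 = n12360 := d11_1 D15450 (iv D12360) (iv F20882)
def n15451 : Q := act 4 n12359
theorem D15451 : act 4 n12359 = n15451 := rfl
theorem F27026 : act 2 n15451 = n12361 := d10_1 D15451 (iv D12361) (iv F20883)
def n15452 : Q := act 4 n12360
theorem D15452 : act 4 n12360 = n15452 := rfl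
theorem F27027 : act 1 n15452 = n12365 := d7_1 D15452 (iv D12365) (iv F20884)
theorem F27028 : act 5 n15452 = n12361 := d14_2 D12360 D15452 (iv D12361) (iv D9640) D9639
def n15453 : Q := act 3 n12361
theorem D15453 : act 3 n12361 = n15453 := rfl
theorem F27029 : act 1 n15453 = n12366 := d6_1 D15453 (iv D12366) (iv F20886)
theorem F27030 : act 4 n15453 = n12362 := d12_2 D12361 D15453 (iv D12362) (iv D9641) (iv F16107)
def n15454 : Q := act 2 n12362
theorem D15454 : act 2 n12362 = n15454 := rfl
theorem F27031 : act 5 n15454 = n12375 := d11_2 (iv F20888) D15454 (iv D12375)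
def n15455 : Q := act 4 n12363
theorem D15455 : act 4 n12363 = n15455 := rfl
theorem F27032 : act 0 n15455 = n12364 := d3_1 D15455 (iv D12364) D12363
def n15456 : Q := act 1 n12367
theorem D15456 : act 1 n12367 = n15456 := rfl
theorem F27033 : act 5 n15456 = n12376 := d8_2 (iv F20892) D15456 (iv D12376)
def n15457 : Q := act 4 n12368
theorem D15457 : act 4 n12368 = n15457 := rfl
theorem F27034 : act 0 n15457 = n12373 := d3_1 D15457 (iv D12373) (iv F20893)
def n15458 : Q := act 3 n12369
theorem D15458 : act 3 n12369 = n15458 := rfl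
theorem F27035 : act 0 n15458 = n12374 := d2_1 D15458 (iv D12374) (iv F20894)
def n15459 : Q := act 2 n12371
theorem D15459 : act 2 n12371 = n15459 := rfl
theorem F27036 : act 0 n15459 = n12375 := d1_1 D15459 (iv D12375) (iv F20897)
def n15460 : Q := act 4 n12372
theorem D15460 : act 4 n12372 = n15460 := rfl
theorem F27037 : act 1 n15460 = n12764 := d7_1 D15460 (iv F25279) F25273
theorem F27038 : act 2 n15460 = n12373 := d10_1 D15460 (iv D12373) D12372
theorem F27039 : act 3 n12763 = n15460 := d6_0 F27037 (iv D12764) D12763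
def n15461 : Q := act 3 n12373
theorem D15461 : act 3 n12373 = n15461 := rfl
theorem F27040 : act 4 n15461 = n12374 := d12_2 D12373 D15461 (iv D12374) (iv D9651) D9650
theorem F27041 : act 2 n15461 = n13199 := d15_6 (iv F22409) (iv F25146) F25145 F27039 F27038 D15461 (iv D13199) D13200 F22412
theorem F27042 : act 0 n13201 = n15461 := d1_3 F27041 F22411 D13201
theorem F27043 : act 3 n15457 = n13201 := d2_0 F27042 (iv D15461) (iv F27034)
theorem F27044 : act 4 n15458 = n13201 := d3_0 F27042 F27040 (iv F27035)
theorem F27045 : act 2 n13202 = n15458 := d10_3 F27044 (iv D13201) D13202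
def n15462 : Q := act 5 n12373
theorem D15462 : act 5 n12373 = n15462 := rfl
def n15463 : Q := act 2 n12374
theorem D15463 : act 2 n12374 = n15463 := rfl
theorem F27046 : act 0 n15463 = n13202 := d1_1 D15463 F27045 F27035
theorem F27047 : act 4 n15463 = n13199 := d10_2 F27040 D15463 (iv F27041)
def n15464 : Q := act 1 n12375
theorem D15464 : act 1 n12375 = n15464 := rfl
theorem F27048 : act 2 n15464 = n12376 := d5_2 D12375 D15464 (iv D12376) (iv D9654) (iv F16118)
def n15465 : Q := act 3 n12375
theorem D15465 : act 3 n12375 = n15465 := rfl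
def n15466 : Q := act 0 n12376
theorem D15466 : act 0 n12376 = n15466 := rfl
def n15467 : Q := act 3 n12376
theorem D15467 : act 3 n12376 = n15467 := rfl
theorem F27049 : act 1 n15467 = n12377 := d6_1 D15467 (iv D12377) D12376
def n15468 : Q := act 4 n12378
theorem D15468 : act 4 n12378 = n15468 := rfl
theorem F27050 : act 0 n15468 = n12379 := d3_1 D15468 (iv D12379) D12378
theorem F27051 : act 1 n15468 = n12382 := d7_1 D15468 (iv D12382) (iv F20898)
def n15469 : Q := act 5 n12379
theorem D15469 : act 5 n12379 = n15469 := rfl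
theorem F27052 : act 1 n15469 = n12380 := d8_1 D15469 (iv D12380) (iv F20900)
theorem F27053 : act 3 n15469 = n15356 := d13_1 D15469 F26836 F26645
theorem F27054 : act 4 n15469 = n12916 := d14_1 D15469 (iv D12916) (iv F20074) F20075 D12379
def n15470 : Q := act 3 n12382
theorem D15470 : act 3 n12382 = n15470 := rfl
theorem F27055 : act 0 n15470 = n12384 := d2_1 D15470 (iv D12384) (iv F20908)
theorem F27056 : act 4 n15470 = n15358 := d12_2 D12382 D15470 F26843 F26662 (iv D12381)
theorem F27057 : act 5 n15470 = n15364 := d15_8 F20744 (iv F19962) (iv F25824) (iv F25825) F24978 F19289 (iv F20909) D15470 F26855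
theorem F27058 : act 2 n15371 = n15470 := d15_0 (iv D15470) F20909 (iv F19289) (iv F24978) F25825 F25824 F19962 (iv F20753) (iv F26867)
def n15471 : Q := act 5 n12382
theorem D15471 : act 5 n12382 = n15471 := rfl
theorem F27059 : act 0 n15471 = n12385 := d4_1 D15471 (iv D12385) (iv F20908)
theorem F27060 : act 2 n15471 = n12386 := d11_1 D15471 (iv D12386) (iv F20909)
theorem F27061 : act 3 n15471 = n15364 := d13_1 D15471 (iv F27057) (iv D15470)
def n15472 : Q := act 1 n12387
theorem D15472 : act 1 n12387 = n15472 := rfl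
theorem F27062 : act 2 n15472 = n12389 := d5_2 D12387 D15472 (iv D12389) (iv D9666) (iv F16134)
def n15473 : Q := act 3 n12387
theorem D15473 : act 3 n12387 = n15473 := rfl
theorem F27063 : act 0 n15473 = n14927 := d2_1 D15473 (iv F25825) F24976
theorem F27064 : act 2 n15473 = n14924 := d15_2 D12387 D15473 F25821 (iv F26856) (iv F27061) F27060 (iv F24982) (iv D14522) F19287
theorem F27065 : act 4 n14923 = n15473 := d10_0 F27064 (iv D14924) D14923
def n15474 : Q := act 5 n12387
theorem D15474 : act 5 n12387 = n15474 := rfl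
theorem F27066 : act 2 n15474 = n12388 := d11_1 D15474 (iv D12388) D12387
def n15475 : Q := act 4 n12388
theorem D15475 : act 4 n12388 = n15475 := rfl
theorem F27067 : act 1 n15475 = n12392 := d7_1 D15475 (iv D12392) (iv F20920)
def n15476 : Q := act 0 n12389
theorem D15476 : act 0 n12389 = n15476 := rfl
def n15477 : Q := act 3 n12389
theorem D15477 : act 3 n12389 = n15477 := rfl
theorem F27068 : act 1 n15477 = n12390 := d6_1 D15477 (iv D12390) D12389
def n15478 : Q := act 5 n12389
theorem D15478 : act 5 n12389 = n15478 := rfl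
theorem F27069 : act 1 n15478 = n12391 := d8_1 D15478 (iv D12391) D12389
def n15479 : Q := act 3 n12393
theorem D15479 : act 3 n12393 = n15479 := rfl
theorem F27070 : act 0 n15479 = n12398 := d2_1 D15479 (iv D12398) (iv F20923)
theorem F27071 : act 1 n15479 = n14039 := d6_1 D15479 (iv F25977) F25976
theorem F27072 : act 2 n15479 = n12398 := d9_1 D15479 (iv D12398) (iv D9673) (iv D7453) (iv F12019) F12020 (iv F14212) D11040 (iv F24043) (iv D14031) F18512 F15514 F15511 D9668 D12393
theorem F27073 : act 5 n15479 = n14031 := d13_2 (iv F20924) D15479 (iv D14031)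
def n15480 : Q := act 4 n12393
theorem D15480 : act 4 n12393 = n15480 := rfl
theorem F27074 : act 0 n15480 = n12399 := d3_1 D15480 (iv D12399) (iv F20923)
theorem F27075 : act 2 n15480 = n12394 := d10_1 D15480 (iv D12394) D12393
def n15481 : Q := act 4 n12395
theorem D15481 : act 4 n12395 = n15481 := rfl
theorem F27076 : act 0 n15481 = n12396 := d3_1 D15481 (iv D12396) D12395
theorem F27077 : act 2 n15481 = n12401 := d10_1 D15481 (iv D12401) (iv F20927)
def n15482 : Q := act 3 n12396
theorem D15482 : act 3 n12396 = n15482 := rfl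
theorem F27078 : act 1 n15482 = n12397 := d6_1 D15482 (iv D12397) (iv F20929)
theorem F27079 : act 4 n15482 = n12915 := d12_2 D12396 D15482 (iv D12915) (iv F20074) F20073
theorem F27080 : act 5 n15482 = n14116 := d13_2 F26643 D15482 (iv F26642)
def n15483 : Q := act 4 n12398
theorem D15483 : act 4 n12398 = n15483 := rfl
theorem F27081 : act 1 n15483 = n13958 := d7_1 D15483 (iv D13958) (iv F20935)
def n15484 : Q := act 3 n12399
theorem D15484 : act 3 n12399 = n15484 := rfl
theorem F27082 : act 1 n15484 = n13959 := d6_1 D15484 (iv D13959) (iv F20937)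
def n15485 : Q := act 5 n12399
theorem D15485 : act 5 n12399 = n15485 := rfl
theorem F27083 : act 1 n15485 = n13960 := d8_1 D15485 (iv D13960) (iv F20937)
theorem F27084 : act 2 n15485 = n12400 := d11_1 D15485 (iv D12400) (iv F20938)
theorem F27085 : act 4 n15485 = n14034 := d14_1 D15485 (iv D14034) (iv D11041) (iv F16146) D12399
def n15486 : Q := act 3 n12401
theorem D15486 : act 3 n12401 = n15486 := rfl
theorem F27086 : act 0 n15486 = n12402 := d2_1 D15486 (iv D12402) (iv F20941)
theorem F27087 : act 1 n15486 = n13705 := d6_1 D15486 F23451 (iv F20942)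
theorem F27088 : act 4 n15486 = n13701 := d12_2 D12401 D15486 F23437 F18038 (iv F16152)
def n15487 : Q := act 5 n12401
theorem D15487 : act 5 n12401 = n15487 := rfl
theorem F27089 : act 0 n15487 = n12403 := d4_1 D15487 (iv D12403) (iv F20941)
theorem F27090 : act 1 n15487 = n13957 := d8_1 D15487 (iv D13957) (iv F20942)
theorem F27091 : act 4 n15487 = n13985 := d14_1 D15487 (iv D13985) (iv D11005) (iv F16153) D12401
def n15488 : Q := act 2 n12402
theorem D15488 : act 2 n12402 = n15488 := rfl
theorem F27092 : act 4 n15488 = n13907 := d10_2 (iv F20944) D15488 (iv D13907)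
def n15489 : Q := act 5 n12402
theorem D15489 : act 5 n12402 = n15489 := rfl
theorem F27093 : act 1 n15489 = n12405 := d8_1 D15489 (iv D12405) (iv F20943)
theorem F27094 : act 3 n15489 = n12403 := d13_1 D15489 (iv D12403) D12402
def n15490 : Q := act 1 n12404
theorem D15490 : act 1 n12404 = n15490 := rfl
theorem F27095 : act 4 n15490 = n13908 := d7_2 (iv F20948) D15490 (iv D13908)
def n15491 : Q := act 3 n12404
theorem D15491 : act 3 n12404 = n15491 := rfl
theorem F27096 : act 0 n15491 = n13953 := d2_1 D15491 (iv D13953) (iv F20947)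
theorem F27097 : act 4 n15491 = n13945 := d12_2 (iv F20948) D15491 (iv D13945) F18434 (iv F18373)
def n15492 : Q := act 5 n12404
theorem D15492 : act 5 n12404 = n15492 := rfl
theorem F27098 : act 0 n15492 = n13954 := d4_1 D15492 (iv D13954) (iv F20947)
theorem F27099 : act 2 n15492 = n12405 := d11_1 D15492 (iv D12405) D12404
theorem F27100 : act 4 n15492 = n13950 := d14_1 D15492 (iv D13950) (iv D10978) (iv F18374) (iv F20948)
def n15493 : Q := act 4 n12405
theorem D15493 : act 4 n12405 = n15493 := rfl
theorem F27101 : act 0 n15493 = n13574 := d3_1 D15493 F23117 (iv F20949)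
theorem F27102 : act 2 n15493 = n13950 := d10_1 D15493 (iv F27100) F27099
theorem F27103 : act 3 n15493 = n13539 := d12_1 D15493 F23020 F17832 (iv F16159) (iv F20950)
theorem F27104 : act 5 n15493 = n13538 := d14_2 D12405 D15493 F23016 F17834 (iv F16156)
def n15494 : Q := act 5 n12406
theorem D15494 : act 5 n12406 = n15494 := rfl
theorem F27105 : act 1 n15494 = n12408 := d8_1 D15494 (iv D12408) D12406
theorem F27106 : act 2 n15494 = n12418 := d11_1 D15494 (iv D12418) (iv F20951)
theorem F27107 : act 3 n15494 = n15412 := d13_1 D15494 F26949 F21825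
def n15495 : Q := act 4 n12408
theorem D15495 : act 4 n12408 = n15495 := rfl
theorem F27108 : act 0 n15495 = n15411 := d3_1 D15495 (iv D15411) (iv F20956)
theorem F27109 : act 2 n15495 = n12409 := d10_1 D15495 (iv D12409) (iv F20957)
theorem F27110 : act 5 n15495 = n12415 := d14_2 D12408 D15495 (iv D12415) (iv D9684) (iv F16161)
def n15496 : Q := act 2 n12411
theorem D15496 : act 2 n12411 = n15496 := rfl
theorem F27111 : act 0 n15496 = n12457 := d1_1 D15496 (iv F21821) F21820
theorem F27112 : act 1 n15496 = n12526 := d5_1 D15496 (iv F26143) F26140 (iv D12412) (iv F20964)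
theorem F27113 : act 4 n15496 = n12524 := d10_2 (iv F21823) D15496 (iv F21500)
theorem F27114 : act 3 n15496 = n12454 := d15_3 (iv F16165) D12411 D15496 (iv D12454) (iv D9719) (iv F15754) D12104 (iv F20411) (iv D9690)
def n15497 : Q := act 4 n12412
theorem D15497 : act 4 n12412 = n15497 := rfl
theorem F27115 : act 0 n15497 = n14076 := d3_1 D15497 F26420 F26416
theorem F27116 : act 1 n15497 = n12525 := d7_1 D15497 F26142 F26140
theorem F27117 : act 2 n15497 = n12413 := d10_1 D15497 (iv D12413) D12412
theorem F27118 : act 3 n12549 = n15497 := d15_1 (iv F21226) F27117 F21828 (iv F26171) (iv F26174) F23669 (iv D12584) (iv F21146) F21144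
theorem F27119 : act 5 n15497 = n12548 := d13_2 D12549 F27118 (iv D12548)
def n15498 : Q := act 5 n12413
theorem D15498 : act 5 n12413 = n15498 := rfl
theorem F27120 : act 1 n15498 = n13878 := d8_1 D15498 F23798 F21824
theorem F27121 : act 2 n15498 = n12548 := d11_1 D15498 (iv F27119) F27117
def n15499 : Q := act 4 n12414
theorem D15499 : act 4 n12414 = n15499 := rfl
theorem F27122 : act 2 n15499 = n12447 := d10_1 D15499 (iv D12447) (iv F20967)
def n15500 : Q := act 3 n12415
theorem D15500 : act 3 n12415 = n15500 := rfl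
def n15501 : Q := act 3 n12416
theorem D15501 : act 3 n12416 = n15501 := rfl
theorem F27123 : act 0 n15501 = n12417 := d2_1 D15501 (iv D12417) D12416
theorem F27124 : act 1 n15501 = n12426 := d6_1 D15501 (iv D12426) (iv F20970)
def n15502 : Q := act 5 n12416
theorem D15502 : act 5 n12416 = n15502 := rfl
theorem F27125 : act 0 n15502 = n12418 := d4_1 D15502 (iv D12418) D12416
theorem F27126 : act 1 n15502 = n12427 := d8_1 D15502 (iv D12427) (iv F20970)
def n15503 : Q := act 4 n12420
theorem D15503 : act 4 n12420 = n15503 := rfl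
theorem F27127 : act 0 n15503 = n12435 := d3_1 D15503 (iv D12435) (iv F20977)
theorem F27128 : act 2 n15503 = n12424 := d10_1 D15503 (iv D12424) (iv F20978)
def n15504 : Q := act 5 n12424
theorem D15504 : act 5 n12424 = n15504 := rfl
theorem F27129 : act 0 n15504 = n13540 := d4_1 D15504 (iv D13540) (iv F20984)
theorem F27130 : act 3 n15504 = n13532 := d13_1 D15504 (iv D13532) (iv F20985)
def n15505 : Q := act 3 n12425
theorem D15505 : act 3 n12425 = n15505 := rfl
theorem F27131 : act 0 n15505 = n12432 := d2_1 D15505 F20997 (iv F20986)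
theorem F27132 : act 5 n15505 = n13533 := d13_2 (iv F20988) D15505 (iv D13533)
theorem F27133 : act 2 n15505 = n14027 := d15_2 (iv F20987) D15505 (iv D14027) (iv D11035) (iv D8568) F10858 (iv F10409) (iv F13668) (iv F16180)
def n15506 : Q := act 2 n12426
theorem D15506 : act 2 n12426 = n15506 := rfl
theorem F27134 : act 0 n15506 = n12428 := d1_1 D15506 (iv D12428) (iv F20989)
def n15507 : Q := act 4 n12426
theorem D15507 : act 4 n12426 = n15507 := rfl
theorem F27135 : act 0 n15507 = n12429 := d3_1 D15507 (iv D12429) (iv F20989)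
theorem F27136 : act 3 n15507 = n12438 := d12_1 D15507 (iv D12438) (iv D9702) (iv F16183) D12426
def n15508 : Q := act 5 n12426
theorem D15508 : act 5 n12426 = n15508 := rfl
theorem F27137 : act 0 n15508 = n12430 := d4_1 D15508 (iv D12430) (iv F20989)
theorem F27138 : act 3 n15508 = n12427 := d13_1 D15508 (iv D12427) D12426
def n15509 : Q := act 4 n12427
theorem D15509 : act 4 n12427 = n15509 := rfl
theorem F27139 : act 0 n15509 = n12431 := d3_1 D15509 (iv D12431) (iv F20990)
theorem F27140 : act 5 n15509 = n12439 := d14_2 D12427 D15509 (iv D12439) (iv D9703) (iv F16183)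
def n15510 : Q := act 1 n12428
theorem D15510 : act 1 n12428 = n15510 := rfl
theorem F27141 : act 2 n15510 = n12432 := d5_2 D12428 D15510 (iv D12432) (iv D9698) (iv F16184)
theorem F27142 : act 0 n14027 = n15510 := d1_3 F27141 (iv F27131) F27133
theorem F27143 : act 5 n13536 = n15510 := d11_0 F27141 F20998 D13536
theorem F27144 : act 3 n12482 = n15510 := d15_1 (iv F21083) F27141 F20997 F17775 F13667 (iv F14204) D11027 F18502 (iv F18408)
theorem F27145 : act 4 n15510 = n12483 := d12_2 D12482 F27144 (iv D12483) (iv D9747) (iv F16277)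
def n15511 : Q := act 3 n12428
theorem D15511 : act 3 n12428 = n15511 := rfl
theorem F27146 : act 1 n15511 = n12482 := d6_1 D15511 F27144 (iv D15510)
theorem F27147 : act 4 n12477 = n15511 := d7_0 F27146 (iv D12482) (iv F21073)
def n15512 : Q := act 4 n12428
theorem D15512 : act 4 n12428 = n15512 := rfl
theorem F27148 : act 1 n15512 = n12483 := d7_1 D15512 (iv F27145) (iv D15510)
theorem F27149 : act 2 n15512 = n12429 := d10_1 D15512 (iv D12429) D12428
theorem F27150 : act 3 n15512 = n12478 := d12_1 D15512 (iv D12478) (iv F21074) F27147 (iv D15511)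
theorem F27151 : act 5 n12489 = n15512 := d13_0 F27150 F21077 D12489
def n15513 : Q := act 5 n12428
theorem D15513 : act 5 n12428 = n15513 := rfl
theorem F27152 : act 1 n15513 = n13536 := d8_1 D15513 F27143 (iv D15510)
theorem F27153 : act 2 n15513 = n12430 := d11_1 D15513 (iv D12430) D12428
def n15514 : Q := act 5 n12429
theorem D15514 : act 5 n12429 = n15514 := rfl
theorem F27154 : act 1 n15514 = n12434 := d8_1 D15514 (iv D12434) (iv F20991)
theorem F27155 : act 2 n15514 = n12489 := d11_1 D15514 F27151 F27149
theorem F27156 : act 3 n15514 = n12442 := d13_1 D15514 (iv D12442) (iv F20992)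
def n15515 : Q := act 4 n12430
theorem D15515 : act 4 n12430 = n15515 := rfl
theorem F27157 : act 1 n15515 = n12435 := d7_1 D15515 (iv D12435) (iv F20993)
def n15516 : Q := act 3 n12431
theorem D15516 : act 3 n12431 = n15516 := rfl
theorem F27158 : act 1 n15516 = n12436 := d6_1 D15516 (iv D12436) (iv F20995)
theorem F27159 : act 5 n15516 = n12443 := d13_2 (iv F20996) D15516 (iv D12443)
def n15517 : Q := act 4 n12432
theorem D15517 : act 4 n12432 = n15517 := rfl
theorem F27160 : act 1 n15517 = n12433 := d7_1 D15517 (iv D12433) D12432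
theorem F27161 : act 2 n15517 = n12483 := d10_1 D15517 (iv F27145) F27141
theorem F27162 : act 3 n15517 = n12433 := d12_1 D15517 (iv D12433) F16186 (iv F17776) (iv F20997)
theorem F27163 : act 5 n12492 = n15517 := d11_0 F27161 F21084 D12492
def n15518 : Q := act 5 n12433
theorem D15518 : act 5 n12433 = n15518 := rfl
theorem F27164 : act 1 n15518 = n12492 := d8_1 D15518 F27163 F27160
theorem F27165 : act 2 n15518 = n12434 := d11_1 D15518 (iv D12434) (iv F20999)
theorem F27166 : act 3 n15518 = n12492 := d13_1 D15518 F27163 F27162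
theorem F27167 : act 4 n15518 = n13540 := d14_1 D15518 (iv D13540) F17783 F16187 D12433
def n15519 : Q := act 4 n12434
theorem D15519 : act 4 n12434 = n15519 := rfl
theorem F27168 : act 2 n15519 = n13540 := d10_1 D15519 (iv F27167) F27165
theorem F27169 : act 5 n15519 = n12435 := d14_2 D12434 D15519 (iv D12435) (iv D9700) D9699
def n15520 : Q := act 3 n12435
theorem D15520 : act 3 n12435 = n15520 := rfl
theorem F27170 : act 4 n15520 = n12436 := d12_2 D12435 D15520 (iv D12436) (iv D9701) (iv F16190)
def n15521 : Q := act 2 n12436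
theorem D15521 : act 2 n12436 = n15521 := rfl
theorem F27171 : act 5 n15521 = n12444 := d11_2 (iv F21002) D15521 (iv D12444)
def n15522 : Q := act 5 n12438
theorem D15522 : act 5 n12438 = n15522 := rfl
theorem F27172 : act 0 n15522 = n12442 := d4_1 D15522 (iv D12442) (iv F21004)
theorem F27173 : act 2 n15522 = n14087 := d11_1 D15522 (iv D14087) (iv F26081)
def n15523 : Q := act 3 n12439
theorem D15523 : act 3 n12439 = n15523 := rfl
theorem F27174 : act 0 n15523 = n12443 := d2_1 D15523 (iv D12443) (iv F21005)
def n15524 : Q := act 2 n12440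
theorem D15524 : act 2 n12440 = n15524 := rfl
theorem F27175 : act 0 n15524 = n14083 := d1_1 D15524 F24129 (iv F26082)
theorem F27176 : act 1 n15524 = n14092 := d5_1 D15524 (iv F26491) F26490 (iv F26418) F26417
theorem F27177 : act 4 n15524 = n14063 := d10_2 (iv F26083) D15524 F24096
def n15525 : Q := act 5 n12441
theorem D15525 : act 5 n12441 = n15525 := rfl
theorem F27178 : act 0 n15525 = n14087 := d4_1 D15525 (iv D14087) (iv F26079)
theorem F27179 : act 1 n15525 = n12694 := d8_1 D15525 (iv F26425) F26422
theorem F27180 : act 2 n15525 = n12442 := d11_1 D15525 (iv D12442) (iv F21006)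
theorem F27181 : act 3 n15525 = n14080 := d13_1 D15525 (iv D14080) (iv F26080)
theorem F27182 : act 4 n15525 = n12692 := d14_1 D15525 (iv D12692) (iv F20361) (iv F20362) D12441
def n15526 : Q := act 2 n12443
theorem D15526 : act 2 n12443 = n15526 := rfl
def n15527 : Q := act 1 n12444
theorem D15527 : act 1 n12444 = n15527 := rfl
def n15528 : Q := act 3 n12444
theorem D15528 : act 3 n12444 = n15528 := rfl
theorem F27183 : act 2 n15528 = n13998 := d15_2 D12444 D15528 (iv D13998) F18490 (iv F16173) (iv F20422) (iv F26467) (iv D15194) F20402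
def n15529 : Q := act 3 n12445
theorem D15529 : act 3 n12445 = n15529 := rfl
theorem F27184 : act 0 n15529 = n12446 := d2_1 D15529 (iv D12446) D12445
theorem F27185 : act 1 n15529 = n14085 := d6_1 D15529 F26407 F26403
theorem F27186 : act 4 n15529 = n12557 := d12_2 (iv F21010) D15529 (iv F23749) (iv F23750) (iv D12695)
theorem F27187 : act 5 n15529 = n12558 := d13_2 F26126 D15529 (iv F26128)
def n15530 : Q := act 2 n12446
theorem D15530 : act 2 n12446 = n15530 := rfl
theorem F27188 : act 5 n15530 = n12526 := d11_2 F26141 D15530 (iv F26143)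
def n15531 : Q := act 4 n12446
theorem D15531 : act 4 n12446 = n15531 := rfl
theorem F27189 : act 0 n15531 = n12557 := d3_1 D15531 (iv F27186) F27184
theorem F27190 : act 1 n15531 = n12447 := d7_1 D15531 (iv D12447) (iv F21011)
theorem F27191 : act 3 n15531 = n12697 := d12_1 D15531 (iv D12697) (iv D9941) (iv F16198) D12446
theorem F27192 : act 5 n15531 = n12550 := d14_2 F26141 D15531 (iv D12550) F21172 F26142
def n15532 : Q := act 5 n12447
theorem D15532 : act 5 n12447 = n15532 := rfl
theorem F27193 : act 1 n15532 = n12550 := d8_1 D15532 (iv F27192) F27190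
theorem F27194 : act 3 n15532 = n12701 := d13_1 D15532 (iv D12701) (iv F21012)
theorem F27195 : act 4 n15532 = n12548 := d14_1 D15532 (iv F27119) (iv D15497) (iv F20966) D12447
def n15533 : Q := act 3 n12448
theorem D15533 : act 3 n12448 = n15533 := rfl
theorem F27196 : act 0 n15533 = n14077 := d2_1 D15533 (iv F26424) F26421
theorem F27197 : act 1 n15533 = n12551 := d6_1 D15533 (iv F26147) F26145
theorem F27198 : act 4 n15533 = n12549 := d12_2 D12448 D15533 F27118 (iv D15497) F20965
theorem F27199 : act 5 n15533 = n12702 := d13_2 (iv F21014) D15533 (iv D12702)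
theorem F27200 : act 2 n12586 = n15533 := d10_3 F27198 F21226 D12586
def n15534 : Q := act 2 n12449
theorem D15534 : act 2 n12449 = n15534 := rfl
theorem F27201 : act 0 n15534 = n12451 := d1_1 D15534 (iv D12451) (iv F21015)
theorem F27202 : act 5 n15534 = n12712 := d11_2 F21017 D15534 F21476
def n15535 : Q := act 4 n12449
theorem D15535 : act 4 n12449 = n15535 := rfl
theorem F27203 : act 0 n15535 = n12452 := d3_1 D15535 (iv D12452) (iv F21015)
theorem F27204 : act 1 n15535 = n12704 := d7_1 D15535 (iv D12704) (iv F21016)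
theorem F27205 : act 3 n15535 = n12455 := d12_1 D15535 (iv D12455) (iv D9719) (iv F16206) D12449
theorem F27206 : act 5 n15535 = n12611 := d14_2 F21017 D15535 (iv D12611) (iv F21278) F21277
def n15536 : Q := act 4 n12450
theorem D15536 : act 4 n12450 = n15536 := rfl
theorem F27207 : act 0 n15536 = n12453 := d3_1 D15536 (iv D12453) (iv F21018)
theorem F27208 : act 1 n15536 = n12705 := d7_1 D15536 (iv D12705) (iv F21019)
theorem F27209 : act 3 n15536 = n12609 := d12_1 D15536 F21327 (iv F21276) F21277 (iv F21020)
theorem F27210 : act 5 n15536 = n12456 := d14_2 D12450 D15536 (iv D12456) (iv D9720) (iv F16206)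
def n15537 : Q := act 3 n12451
theorem D15537 : act 3 n12451 = n15537 := rfl
theorem F27211 : act 1 n15537 = n12716 := d6_1 D15537 F21483 (iv F21021)
theorem F27212 : act 5 n15537 = n12713 := d13_2 (iv F21022) D15537 (iv D12713)
def n15538 : Q := act 4 n12451
theorem D15538 : act 4 n12451 = n15538 := rfl
theorem F27213 : act 1 n15538 = n12717 := d7_1 D15538 (iv D12717) (iv F21021)
theorem F27214 : act 2 n15538 = n12452 := d10_1 D15538 (iv D12452) D12451
theorem F27215 : act 5 n15538 = n12613 := d14_2 (iv F21022) D15538 (iv D12613) (iv F21274) F21273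
def n15539 : Q := act 3 n12459
theorem D15539 : act 3 n12459 = n15539 := rfl
theorem F27216 : act 0 n15539 = n12463 := d2_1 D15539 (iv D12463) (iv F21033)
theorem F27217 : act 5 n15539 = n15092 := d13_2 (iv F21035) D15539 (iv D15092)
def n15540 : Q := act 3 n12460
theorem D15540 : act 3 n12460 = n15540 := rfl
theorem F27218 : act 0 n15540 = n12464 := d2_1 D15540 (iv D12464) (iv F21036)
theorem F27219 : act 1 n15540 = n12473 := d6_1 D15540 (iv D12473) (iv F21037)
def n15541 : Q := act 5 n12460
theorem D15541 : act 5 n12460 = n15541 := rfl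
theorem F27220 : act 0 n15541 = n12465 := d4_1 D15541 (iv D12465) (iv F21036)
theorem F27221 : act 1 n15541 = n12474 := d8_1 D15541 (iv D12474) (iv F21037)
theorem F27222 : act 2 n15541 = n12461 := d11_1 D15541 (iv D12461) (iv F21038)
def n15542 : Q := act 4 n12461
theorem D15542 : act 4 n12461 = n15542 := rfl
theorem F27223 : act 0 n15542 = n15091 := d3_1 D15542 (iv D15091) (iv F21039)
theorem F27224 : act 1 n15542 = n12518 := d7_1 D15542 F21161 (iv F21040)
theorem F27225 : act 5 n15542 = n12462 := d14_2 D12461 D15542 (iv D12462) (iv D9730) D9729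
def n15543 : Q := act 3 n12462
theorem D15543 : act 3 n12462 = n15543 := rfl
theorem F27226 : act 1 n15543 = n12517 := d6_1 D15543 (iv D12517) (iv F21042)
theorem F27227 : act 4 n15543 = n12463 := d12_2 D12462 D15543 (iv D12463) (iv D9731) (iv F16243)
def n15544 : Q := act 2 n12463
theorem D15544 : act 2 n12463 = n15544 := rfl
theorem F27228 : act 5 n15544 = n15105 := d11_2 (iv F21044) D15544 (iv D15105)
def n15545 : Q := act 2 n12464
theorem D15545 : act 2 n12464 = n15545 := rfl
def n15546 : Q := act 5 n12464
theorem D15546 : act 5 n12464 = n15546 := rfl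
theorem F27229 : act 1 n15546 = n12467 := d8_1 D15546 (iv D12467) (iv F21045)
theorem F27230 : act 3 n15546 = n12465 := d13_1 D15546 (iv D12465) D12464
theorem F27231 : act 4 n14026 = n15546 := d7_0 F27229 (iv F21054) D14026
def n15547 : Q := act 1 n12466
theorem D15547 : act 1 n12466 = n15547 := rfl
theorem F27232 : act 3 n15547 = n12472 := d6_2 (iv F21049) D15547 F21065
theorem F27233 : act 5 n15547 = n12471 := d8_2 F21050 D15547 F21063
def n15548 : Q := act 3 n12468
theorem D15548 : act 3 n12468 = n15548 := rfl
theorem F27234 : act 0 n15548 = n12483 := d2_1 D15548 (iv D12483) (iv F21055)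
theorem F27235 : act 4 n15548 = n14027 := d12_2 D12468 D15548 (iv D14027) F21054 F21053
theorem F27236 : act 5 n15548 = n12469 := d13_2 (iv F21057) D15548 (iv D12469)
def n15549 : Q := act 2 n12469
theorem D15549 : act 2 n12469 = n15549 := rfl
theorem F27237 : act 0 n15549 = n12492 := d1_1 D15549 (iv D12492) (iv F21058)
theorem F27238 : act 4 n15549 = n12500 := d10_2 (iv F21059) D15549 (iv D12500)
def n15550 : Q := act 3 n12470
theorem D15550 : act 3 n12470 = n15550 := rfl
theorem F27239 : act 0 n15550 = n12471 := d2_1 D15550 (iv D12471) D12470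
theorem F27240 : act 1 n15550 = n13925 := d6_1 D15550 (iv D13925) (iv F21060)
theorem F27241 : act 4 n15550 = n14021 := d12_2 (iv F21062) D15550 (iv D14021) (iv D11030) (iv F18364)
theorem F27242 : act 2 n15447 = n15550 := d10_3 F27241 F24033 D15447
def n15551 : Q := act 5 n12470
theorem D15551 : act 5 n12470 = n15551 := rfl
theorem F27243 : act 0 n15551 = n12472 := d4_1 D15551 (iv D12472) D12470
theorem F27244 : act 1 n15551 = n13926 := d8_1 D15551 (iv D13926) (iv F21060)
theorem F27245 : act 2 n15551 = n13404 := d11_1 D15551 (iv F22794) (iv F21061)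
theorem F27246 : act 4 n15551 = n14020 := d14_1 D15551 (iv D14020) (iv D11029) (iv F18365) (iv F21062)
def n15552 : Q := act 2 n12471
theorem D15552 : act 2 n12471 = n15552 := rfl
theorem F27247 : act 0 n15552 = n15447 := d1_1 D15552 F27242 F27239
theorem F27248 : act 4 n15552 = n14025 := d10_2 (iv F21064) D15552 (iv D14025)
def n15553 : Q := act 2 n12473
theorem D15553 : act 2 n12473 = n15553 := rfl
theorem F27249 : act 0 n15553 = n12475 := d1_1 D15553 (iv D12475) (iv F21068)
theorem F27250 : act 3 n15553 = n13498 := d15_1 D15553 (iv D13498) (iv D10595) F13620 (iv F12437) (iv F16272) (iv F21074) (iv D12477) (iv F21068)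
def n15554 : Q := act 4 n12473
theorem D15554 : act 4 n12473 = n15554 := rfl
theorem F27251 : act 0 n15554 = n12476 := d3_1 D15554 (iv D12476) (iv F21068)
theorem F27252 : act 3 n15554 = n12484 := d12_1 D15554 (iv D12484) (iv D9748) (iv F16269) D12473
def n15555 : Q := act 5 n12473
theorem D15555 : act 5 n12473 = n15555 := rfl
theorem F27253 : act 0 n15555 = n12477 := d4_1 D15555 (iv D12477) (iv F21068)
theorem F27254 : act 3 n15555 = n12474 := d13_1 D15555 (iv D12474) D12473
def n15556 : Q := act 4 n12474
theorem D15556 : act 4 n12474 = n15556 := rfl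
theorem F27255 : act 0 n15556 = n12478 := d3_1 D15556 (iv D12478) (iv F21069)
theorem F27256 : act 2 n15556 = n12495 := d10_1 D15556 (iv D12495) (iv F21070)
theorem F27257 : act 5 n15556 = n12485 := d14_2 D12474 D15556 (iv D12485) (iv D9749) (iv F16269)
def n15557 : Q := act 1 n12475
theorem D15557 : act 1 n12475 = n15557 := rfl
theorem F27258 : act 2 n15557 = n12479 := d5_2 D12475 D15557 (iv D12479) (iv D9744) (iv F16270)
theorem F27259 : act 5 n13927 = n15557 := d11_0 F27258 F21079 D13927
def n15558 : Q := act 3 n12475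
theorem D15558 : act 3 n12475 = n15558 := rfl
theorem F27260 : act 0 n15558 = n13498 := d2_1 D15558 (iv F27250) F27249
theorem F27261 : act 2 n15558 = n13497 := d15_2 D12475 D15558 (iv D13497) F17727 (iv F16295) (iv F21070) (iv F27254) (iv D15555) F21068
def n15559 : Q := act 4 n12475
theorem D15559 : act 4 n12475 = n15559 := rfl
theorem F27262 : act 2 n15559 = n12476 := d10_1 D15559 (iv D12476) D12475
def n15560 : Q := act 5 n12475
theorem D15560 : act 5 n12475 = n15560 := rfl
theorem F27263 : act 1 n15560 = n13927 := d8_1 D15560 F27259 (iv D15557)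
theorem F27264 : act 2 n15560 = n12477 := d11_1 D15560 (iv D12477) D12475
def n15561 : Q := act 5 n12476
theorem D15561 : act 5 n12476 = n15561 := rfl
theorem F27265 : act 1 n15561 = n12481 := d8_1 D15561 (iv D12481) (iv F21071)
theorem F27266 : act 3 n15561 = n12487 := d13_1 D15561 (iv D12487) (iv F21072)
def n15562 : Q := act 0 n12479
theorem D15562 : act 0 n12479 = n15562 := rfl
theorem F27267 : act 3 n15562 = n13926 := d2_2 (iv F21078) D15562 F23893
theorem F27268 : act 5 n15562 = n13925 := d4_2 (iv F21079) D15562 F23892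
def n15563 : Q := act 4 n12479
theorem D15563 : act 4 n12479 = n15563 := rfl
theorem F27269 : act 1 n15563 = n12480 := d7_1 D15563 (iv D12480) D12479
def n15564 : Q := act 3 n12480
theorem D15564 : act 3 n12480 = n15564 := rfl
theorem F27270 : act 0 n15564 = n14014 := d2_1 D15564 (iv F26691) F26689
theorem F27271 : act 2 n15564 = n13997 := d9_1 D15564 (iv F26563) F26562 F20586 (iv F20606) (iv F26695) F26694 (iv D14015) (iv F20515) F20516 (iv F20533) F20534 F15888 (iv F16275) (iv F21080)
theorem F27272 : act 4 n15564 = n13931 := d12_2 D12480 D15564 (iv D13931) (iv D10962) (iv F16273)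
theorem F27273 : act 5 n15564 = n13983 := d15_8 (iv F20515) F20516 (iv F20533) F20534 F15888 (iv F16275) (iv F21080) D15564 F23984
def n15565 : Q := act 5 n12480
theorem D15565 : act 5 n12480 = n15565 := rfl
theorem F27274 : act 0 n15565 = n14015 := d4_1 D15565 F26692 F26689
theorem F27275 : act 2 n15565 = n12481 := d11_1 D15565 (iv D12481) (iv F21080)
theorem F27276 : act 3 n15565 = n13983 := d13_1 D15565 (iv F27273) (iv D15564)
theorem F27277 : act 4 n15565 = n13930 := d14_1 D15565 (iv D13930) (iv D10961) F16274 D12480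
def n15566 : Q := act 4 n12481
theorem D15566 : act 4 n12481 = n15566 := rfl
theorem F27278 : act 0 n15566 = n14016 := d3_1 D15566 (iv F26696) F26693
theorem F27279 : act 2 n15566 = n13930 := d10_1 D15566 (iv F27277) F27275
theorem F27280 : act 5 n15566 = n12482 := d14_2 D12481 D15566 (iv D12482) (iv D9746) D9745
theorem F27281 : act 3 n13536 = n15566 := d13_3 F27280 F27144 (iv F27143)
def n15567 : Q := act 5 n12484
theorem D15567 : act 5 n12484 = n15567 := rfl
theorem F27282 : act 0 n15567 = n12487 := d4_1 D15567 (iv D12487) (iv F21085)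
theorem F27283 : act 1 n15567 = n13991 := d8_1 D15567 (iv F26532) F26530
theorem F27284 : act 2 n15567 = n13996 := d11_1 D15567 (iv F26560) F26559
theorem F27285 : act 4 n15567 = n13987 := d14_1 D15567 (iv D13987) (iv F20456) (iv F20458) D12484
def n15568 : Q := act 3 n12485
theorem D15568 : act 3 n12485 = n15568 := rfl
theorem F27286 : act 0 n15568 = n12489 := d2_1 D15568 (iv D12489) (iv F21086)
theorem F27287 : act 1 n15568 = n13989 := d6_1 D15568 (iv F26528) F26526
theorem F27288 : act 4 n15568 = n13986 := d12_2 D12485 D15568 (iv D13986) (iv F20456) (iv F20457)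
def n15569 : Q := act 3 n12486
theorem D15569 : act 3 n12486 = n15569 := rfl
def n15570 : Q := act 5 n12486
theorem D15570 : act 5 n12486 = n15570 := rfl
theorem F27289 : act 0 n15570 = n13996 := d4_1 D15570 (iv F26560) F26557
theorem F27290 : act 2 n15570 = n12487 := d11_1 D15570 (iv D12487) (iv F21088)
theorem F27291 : act 4 n15570 = n13993 := d14_1 D15570 (iv D13993) (iv F20491) (iv F20492) D12486
def n15571 : Q := act 4 n12487
theorem D15571 : act 4 n12487 = n15571 := rfl
theorem F27292 : act 0 n15571 = n13987 := d3_1 D15571 (iv F27285) F27282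
theorem F27293 : act 1 n15571 = n12490 := d7_1 D15571 (iv D12490) (iv F21089)
theorem F27294 : act 2 n15571 = n13993 := d10_1 D15571 (iv F27291) F27290
theorem F27295 : act 5 n15571 = n12488 := d14_2 D12487 D15571 (iv D12488) (iv D9752) D9751
def n15572 : Q := act 3 n12488
theorem D15572 : act 3 n12488 = n15572 := rfl
theorem F27296 : act 0 n15572 = n13986 := d2_1 D15572 (iv D13986) (iv F21090)
theorem F27297 : act 1 n15572 = n12491 := d6_1 D15572 (iv D12491) (iv F21091)
theorem F27298 : act 4 n15572 = n12489 := d12_2 D12488 D15572 (iv D12489) (iv D9753) (iv F16285)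
def n15573 : Q := act 3 n12490
theorem D15573 : act 3 n12490 = n15573 := rfl
theorem F27299 : act 0 n15573 = n12501 := d2_1 D15573 F21123 (iv F21094)
theorem F27300 : act 2 n15573 = n13534 := d9_1 D15573 (iv D13534) F17772 F13720 (iv F12024) F12025 (iv F12460) D9767 D12500 F21119 F17849 F13733 (iv F14216) (iv F16316) (iv F21095)
theorem F27301 : act 4 n15573 = n13536 := d12_2 D12490 D15573 F27281 (iv D15566) F21081
theorem F27302 : act 5 n15573 = n12491 := d13_2 (iv F21096) D15573 (iv D12491)
def n15574 : Q := act 2 n12491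
theorem D15574 : act 2 n12491 = n15574 := rfl
theorem F27303 : act 0 n15574 = n12500 := d1_1 D15574 (iv D12500) (iv F21097)
theorem F27304 : act 3 n15574 = n13535 := d9_2 D12491 D15574 F23010 F17832 (iv F15725) F15726 (iv F16317) (iv F21123) F21122 (iv D10660) F13732 F10458 (iv F10861) (iv F12459) (iv F16289)
theorem F27305 : act 4 n15574 = n12492 := d10_2 (iv F21098) D15574 (iv D12492)
theorem F27306 : act 5 n15574 = n13534 := d11_2 F27302 D15574 (iv F27300)
theorem F27307 : act 1 n13540 = n15574 := d8_3 F27306 F23006 D13540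
def n15575 : Q := act 1 n12493
theorem D15575 : act 1 n12493 = n15575 := rfl
theorem F27308 : act 0 n15575 = n13494 := d0_1 D15575 F22937 F17723 (iv F16296) (iv F21099)
theorem F27309 : act 2 n15575 = n15106 := d5_2 D12493 D15575 (iv D15106) (iv D12027) (iv F16291)
theorem F27310 : act 5 n15575 = n13492 := d8_2 (iv F21100) D15575 F22934
theorem F27311 : act 3 n13517 = n15575 := d2_0 F27308 F22938 D13517
def n15576 : Q := act 3 n12493
theorem D15576 : act 3 n12493 = n15576 := rfl
theorem F27312 : act 0 n15576 = n12496 := d2_1 D15576 (iv D12496) (iv F21099)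
theorem F27313 : act 1 n15576 = n13517 := d6_1 D15576 F27311 (iv D15575)
theorem F27314 : act 5 n15576 = n13497 := d13_2 (iv F21100) D15576 (iv D13497)
def n15577 : Q := act 4 n12493
theorem D15577 : act 4 n12493 = n15577 := rfl
theorem F27315 : act 0 n15577 = n12497 := d3_1 D15577 (iv D12497) (iv F21099)
theorem F27316 : act 2 n15577 = n12494 := d10_1 D15577 (iv D12494) D12493
theorem F27317 : act 5 n15577 = n14081 := d14_2 (iv F21100) D15577 F24128 F23760 F19307
def n15578 : Q := act 2 n12496
theorem D15578 : act 2 n12496 = n15578 := rfl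
theorem F27318 : act 1 n15578 = n13505 := d5_1 D15578 (iv D13505) F17736 (iv F17733) (iv F21109)
theorem F27319 : act 5 n15578 = n13498 := d11_2 (iv F21110) D15578 (iv D13498)
def n15579 : Q := act 4 n12496
theorem D15579 : act 4 n12496 = n15579 := rfl
theorem F27320 : act 1 n15579 = n13503 := d7_1 D15579 (iv D13503) (iv F21109)
def n15580 : Q := act 3 n12497
theorem D15580 : act 3 n12497 = n15580 := rfl
theorem F27321 : act 1 n15580 = n13504 := d6_1 D15580 (iv D13504) (iv F21111)
theorem F27322 : act 5 n15580 = n14088 := d13_2 (iv F21113) D15580 (iv D14088)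
def n15581 : Q := act 3 n12498
theorem D15581 : act 3 n12498 = n15581 := rfl
theorem F27323 : act 0 n15581 = n12499 := d2_1 D15581 (iv D12499) (iv F21114)
theorem F27324 : act 5 n15581 = n14058 := d13_2 (iv F21116) D15581 (iv D14058)
def n15582 : Q := act 2 n12499
theorem D15582 : act 2 n12499 = n15582 := rfl
theorem F27325 : act 5 n15582 = n14069 := d11_2 (iv F21118) D15582 (iv D14069)
def n15583 : Q := act 4 n12501
theorem D15583 : act 4 n12501 = n15583 := rfl
theorem F27326 : act 0 n15583 = n13536 := d3_1 D15583 (iv F27301) F27299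
theorem F27327 : act 1 n15583 = n14653 := d7_1 D15583 F25256 (iv F21121)
theorem F27328 : act 2 n15583 = n13533 := d10_1 D15583 F23004 (iv F21122)
theorem F27329 : act 3 n15583 = n14016 := d12_1 D15583 (iv F26696) F26695 F20607 (iv F21123)
theorem F27330 : act 5 n15583 = n14027 := d14_2 D12501 D15583 (iv F27235) F27236 F21059
def n15584 : Q := act 5 n12502
theorem D15584 : act 5 n12502 = n15584 := rfl
theorem F27331 : act 0 n15584 = n12503 := d4_1 D15584 (iv D12503) (iv F21126)
theorem F27332 : act 3 n15584 = n14056 := d13_1 D15584 (iv D14056) (iv F21127)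
def n15585 : Q := act 1 n12504
theorem D15585 : act 1 n12504 = n15585 := rfl
theorem F27333 : act 5 n15585 = n14075 := d8_2 (iv F21130) D15585 (iv D14075)
def n15586 : Q := act 1 n12505
theorem D15586 : act 1 n12505 = n15586 := rfl
theorem F27334 : act 3 n15586 = n12600 := d6_2 (iv F21132) D15586 (iv D12600)
theorem F27335 : act 5 n15586 = n12635 := d8_2 F21640 D15586 (iv F21638)
def n15587 : Q := act 4 n12505
theorem D15587 : act 4 n12505 = n15587 := rfl
theorem F27336 : act 0 n15587 = n12509 := d3_1 D15587 (iv D12509) (iv F21131)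
theorem F27337 : act 2 n15587 = n12506 := d10_1 D15587 (iv D12506) D12505
def n15588 : Q := act 5 n12506
theorem D15588 : act 5 n12506 = n15588 := rfl
theorem F27338 : act 0 n15588 = n12510 := d4_1 D15588 (iv D12510) (iv F21133)
theorem F27339 : act 3 n15588 = n12507 := d13_1 D15588 F21137 (iv F21134)
theorem F27340 : act 4 n15588 = n13026 := d14_1 D15588 F22096 F19799 F16744 D12506
def n15589 : Q := act 4 n12508
theorem D15589 : act 4 n12508 = n15589 := rfl
theorem F27341 : act 0 n15589 = n12601 := d3_1 D15589 (iv D12601) (iv F21138)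
theorem F27342 : act 2 n15589 = n12599 := d10_1 D15589 (iv D12599) (iv F21139)
def n15590 : Q := act 3 n12509
theorem D15590 : act 3 n12509 = n15590 := rfl
def n15591 : Q := act 5 n12509
theorem D15591 : act 5 n12509 = n15591 := rfl
theorem F27343 : act 1 n15591 = n12789 := d8_1 D15591 (iv F21650) F21648
theorem F27344 : act 2 n15591 = n12510 := d11_1 D15591 (iv D12510) (iv F21140)
theorem F27345 : act 4 n15591 = n13009 := d14_1 D15591 F22065 F19797 (iv F16737) D12509
def n15592 : Q := act 4 n12511
theorem D15592 : act 4 n12511 = n15592 := rfl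
theorem F27346 : act 0 n15592 = n12586 := d3_1 D15592 (iv D12586) (iv F21144)
theorem F27347 : act 1 n15592 = n12513 := d7_1 D15592 (iv D12513) D12511
theorem F27348 : act 2 n15592 = n14077 := d10_1 D15592 (iv D14077) (iv F21145)
theorem F27349 : act 3 n15105 = n15592 := d15_1 D15105 F27348 (iv F26424) F26423 F20369 (iv F21034) D15539 F27217 F26219
def n15593 : Q := act 4 n12512
theorem D15593 : act 4 n12512 = n15593 := rfl
theorem F27350 : act 0 n15593 = n12515 := d3_1 D15593 (iv D12515) (iv F21148)
theorem F27351 : act 1 n15593 = n12644 := d7_1 D15593 (iv D12644) (iv F21149)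
def n15594 : Q := act 3 n12513
theorem D15594 : act 3 n12513 = n15594 := rfl
theorem F27352 : act 0 n15594 = n12516 := d2_1 D15594 (iv D12516) (iv F21151)
theorem F27353 : act 1 n15594 = n15105 := d6_1 D15594 F27349 F27347
def n15595 : Q := act 4 n12514
theorem D15595 : act 4 n12514 = n15595 := rfl
theorem F27354 : act 1 n15595 = n12636 := d7_1 D15595 (iv D12636) (iv F21153)
theorem F27355 : act 2 n15595 = n12515 := d10_1 D15595 (iv D12515) D12514
def n15596 : Q := act 3 n12515
theorem D15596 : act 3 n12515 = n15596 := rfl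
theorem F27356 : act 1 n15596 = n12607 := d6_1 D15596 (iv D12607) (iv F21155)
theorem F27357 : act 4 n15596 = n12516 := d12_2 D12515 D15596 (iv D12516) (iv D9784) D9783
def n15597 : Q := act 5 n12515
theorem D15597 : act 5 n12515 = n15597 := rfl
theorem F27358 : act 1 n15597 = n12606 := d8_1 D15597 F21324 (iv F21155)
theorem F27359 : act 4 n15597 = n12602 := d14_1 D15597 (iv D12602) (iv D9860) (iv F16345) D12515
def n15598 : Q := act 2 n12516
theorem D15598 : act 2 n12516 = n15598 := rfl
def n15599 : Q := act 2 n12517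
theorem D15599 : act 2 n12517 = n15599 := rfl
theorem F27360 : act 0 n15599 = n12520 := d1_1 D15599 (iv D12520) (iv F21157)
theorem F27361 : act 4 n15599 = n12520 := d10_2 (iv F21158) D15599 (iv D12520)
def n15600 : Q := act 5 n12517
theorem D15600 : act 5 n12517 = n15600 := rfl
theorem F27362 : act 0 n15600 = n12521 := d4_1 D15600 (iv D12521) (iv F21157)
theorem F27363 : act 3 n15600 = n12518 := d13_1 D15600 (iv D12518) D12517
def n15601 : Q := act 1 n12519
theorem D15601 : act 1 n12519 = n15601 := rfl
theorem F27364 : act 4 n15601 = n15106 := d7_2 (iv F21163) D15601 (iv D15106)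
def n15602 : Q := act 3 n12519
theorem D15602 : act 3 n12519 = n15602 := rfl
theorem F27365 : act 0 n15602 = n12522 := d2_1 D15602 (iv D12522) (iv F21162)
def n15603 : Q := act 1 n12520
theorem D15603 : act 1 n12520 = n15603 := rfl
def n15604 : Q := act 3 n12520
theorem D15604 : act 3 n12520 = n15604 := rfl
def n15605 : Q := act 5 n12520
theorem D15605 : act 5 n12520 = n15605 := rfl
theorem F27366 : act 2 n15605 = n12521 := d11_1 D15605 (iv D12521) D12520
def n15606 : Q := act 4 n12521
theorem D15606 : act 4 n12521 = n15606 := rfl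
theorem F27367 : act 1 n15606 = n15104 := d7_1 D15606 F26247 (iv F21164)
theorem F27368 : act 3 n15606 = n15098 := d12_1 D15606 (iv D15098) F20260 (iv F16356) (iv F21165)
def n15607 : Q := act 2 n12522
theorem D15607 : act 2 n12522 = n15607 := rfl
def n15608 : Q := act 4 n12522
theorem D15608 : act 4 n12522 = n15608 := rfl
theorem F27369 : act 3 n15608 = n15109 := d12_1 D15608 (iv D15109) (iv D12028) (iv F16357) D12522
def n15609 : Q := act 4 n12527
theorem D15609 : act 4 n12527 = n15609 := rfl
theorem F27370 : act 0 n15609 = n12556 := d3_1 D15609 (iv D12556) (iv F21173)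
theorem F27371 : act 1 n15609 = n13879 := d7_1 D15609 (iv D13879) (iv F21174)
theorem F27372 : act 2 n15609 = n12550 := d10_1 D15609 (iv D12550) (iv F21175)
def n15610 : Q := act 3 n12528
theorem D15610 : act 3 n12528 = n15610 := rfl
theorem F27373 : act 1 n15610 = n13880 := d6_1 D15610 (iv D13880) (iv F21177)
def n15611 : Q := act 3 n12529
theorem D15611 : act 3 n12529 = n15611 := rfl
theorem F27374 : act 0 n15611 = n12530 := d2_1 D15611 (iv D12530) D12529
theorem F27375 : act 1 n15611 = n12538 := d6_1 D15611 (iv D12538) (iv F21179)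
theorem F27376 : act 4 n15611 = n13877 := d12_2 (iv F21180) D15611 (iv D13877) (iv D10915) (iv F16374)
def n15612 : Q := act 5 n12529
theorem D15612 : act 5 n12529 = n15612 := rfl
theorem F27377 : act 0 n15612 = n12531 := d4_1 D15612 (iv D12531) D12529
theorem F27378 : act 1 n15612 = n12539 := d8_1 D15612 (iv D12539) (iv F21179)
theorem F27379 : act 4 n15612 = n13876 := d14_1 D15612 (iv D13876) (iv D10914) (iv F16375) (iv F21180)
def n15613 : Q := act 2 n12530
theorem D15613 : act 2 n12530 = n15613 := rfl
theorem F27380 : act 4 n15613 = n13882 := d10_2 (iv F21182) D15613 (iv D13882)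
theorem F27381 : act 3 n15613 = n12613 := d15_5 F26987 (iv D15429) F20849 D12530 D15613 F21330 (iv F20348) F20349 (iv F21030)
def n15614 : Q := act 5 n12530
theorem D15614 : act 5 n12530 = n15614 := rfl
theorem F27382 : act 1 n15614 = n12533 := d8_1 D15614 (iv D12533) (iv F21181)
theorem F27383 : act 3 n15614 = n12531 := d13_1 D15614 (iv D12531) D12530
theorem F27384 : act 4 n15614 = n14984 := d14_1 D15614 (iv D14984) (iv F23782) F23783 (iv F21182)
def n15615 : Q := act 1 n12532
theorem D15615 : act 1 n12532 = n15615 := rfl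
theorem F27385 : act 3 n15615 = n12536 := d6_2 (iv F21186) D15615 F21196
theorem F27386 : act 4 n15615 = n13883 := d7_2 (iv F21187) D15615 (iv D13883)
theorem F27387 : act 5 n15615 = n12535 := d8_2 F21188 D15615 F21195
def n15616 : Q := act 3 n12534
theorem D15616 : act 3 n12534 = n15616 := rfl
theorem F27388 : act 0 n15616 = n12535 := d2_1 D15616 (iv D12535) D12534
theorem F27389 : act 1 n15616 = n15209 := d6_1 D15616 (iv D15209) (iv F21193)
def n15617 : Q := act 5 n12534
theorem D15617 : act 5 n12534 = n15617 := rfl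
theorem F27390 : act 0 n15617 = n12536 := d4_1 D15617 (iv D12536) D12534
theorem F27391 : act 1 n15617 = n15210 := d8_1 D15617 (iv D15210) (iv F21193)
def n15618 : Q := act 2 n12535
theorem D15618 : act 2 n12535 = n15618 := rfl
theorem F27392 : act 3 n15618 = n12717 := d15_5 F26938 (iv D15408) F20814 D12535 D15618 F21484 (iv F19477) F19478 (iv F21489)
def n15619 : Q := act 4 n12536
theorem D15619 : act 4 n12536 = n15619 := rfl
theorem F27393 : act 1 n15619 = n12537 := d7_1 D15619 (iv D12537) (iv F21196)
theorem F27394 : act 5 n15619 = n14766 := d14_2 D12536 D15619 (iv D14766) F19695 (iv F16376)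
def n15620 : Q := act 3 n12537
theorem D15620 : act 3 n12537 = n15620 := rfl
theorem F27395 : act 0 n15620 = n15214 := d2_1 D15620 (iv D15214) (iv F21197)
theorem F27396 : act 2 n15620 = n14963 := d9_1 D15620 F25892 F20016 (iv D9493) F12137 (iv F12083) (iv F15783) D12127 D15222 F26524 F20598 F15886 (iv F15806) (iv F16381) (iv F21198)
theorem F27397 : act 4 n15620 = n13884 := d12_2 D12537 D15620 (iv D13884) (iv F21187) F21186
theorem F27398 : act 5 n15620 = n14763 := d13_2 (iv F21199) D15620 F25520
def n15621 : Q := act 2 n12538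
theorem D15621 : act 2 n12538 = n15621 := rfl
theorem F27399 : act 0 n15621 = n12540 := d1_1 D15621 (iv D12540) (iv F21200)
def n15622 : Q := act 5 n12538
theorem D15622 : act 5 n12538 = n15622 := rfl
theorem F27400 : act 0 n15622 = n12541 := d4_1 D15622 (iv D12541) (iv F21200)
theorem F27401 : act 3 n15622 = n12539 := d13_1 D15622 (iv D12539) D12538
def n15623 : Q := act 4 n12539
theorem D15623 : act 4 n12539 = n15623 := rfl
theorem F27402 : act 0 n15623 = n12542 := d3_1 D15623 (iv D12542) (iv F21201)
theorem F27403 : act 1 n15623 = n13876 := d7_1 D15623 (iv F27379) F27378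
theorem F27404 : act 5 n15623 = n12546 := d14_2 D12539 D15623 (iv D12546) (iv D9812) (iv F16383)
theorem F27405 : act 3 n13420 = n15623 := d13_3 F27404 F21219 D13420
def n15624 : Q := act 1 n12540
theorem D15624 : act 1 n12540 = n15624 := rfl
theorem F27406 : act 2 n15624 = n12543 := d5_2 D12540 D15624 (iv D12543) (iv D9807) (iv F16384)
theorem F27407 : act 5 n15211 = n15624 := d11_0 F27406 F21208 D15211
def n15625 : Q := act 3 n12540
theorem D15625 : act 3 n12540 = n15625 := rfl
def n15626 : Q := act 5 n12540
theorem D15626 : act 5 n12540 = n15626 := rfl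
theorem F27408 : act 1 n15626 = n15211 := d8_1 D15626 F27407 (iv D15624)
theorem F27409 : act 2 n15626 = n12541 := d11_1 D15626 (iv D12541) D12540
def n15627 : Q := act 0 n12543
theorem D15627 : act 0 n12543 = n15627 := rfl
theorem F27410 : act 3 n15627 = n15210 := d2_2 (iv F21207) D15627 F26499
theorem F27411 : act 5 n15627 = n15209 := d4_2 (iv F21208) D15627 F26498
def n15628 : Q := act 4 n12543
theorem D15628 : act 4 n12543 = n15628 := rfl
theorem F27412 : act 1 n15628 = n12544 := d7_1 D15628 (iv D12544) D12543
theorem F27413 : act 3 n15585 = n15628 := d6_0 F27412 (iv F21212) D15585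
theorem F27414 : act 5 n14960 = n15628 := d8_0 F27412 (iv F21211) D14960
def n15629 : Q := act 3 n12547
theorem D15629 : act 3 n12547 = n15629 := rfl
theorem F27415 : act 0 n15629 = n12548 := d2_1 D15629 (iv D12548) D12547
theorem F27416 : act 1 n15629 = n12552 := d6_1 D15629 (iv D12552) (iv F21220)
theorem F27417 : act 5 n15629 = n14076 := d13_2 F21222 D15629 (iv D14076)
def n15630 : Q := act 4 n12552
theorem D15630 : act 4 n12552 = n15630 := rfl
theorem F27418 : act 0 n15630 = n12554 := d3_1 D15630 (iv D12554) (iv F21230)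
theorem F27419 : act 2 n15630 = n14062 := d10_1 D15630 (iv D14062) (iv F21232)
def n15631 : Q := act 1 n12553
theorem D15631 : act 1 n12553 = n15631 := rfl
theorem F27420 : act 2 n15631 = n12555 := d5_2 D12553 D15631 (iv D12555) (iv D9820) (iv F16414)
theorem F27421 : act 3 n15631 = n14053 := d6_2 (iv F21235) D15631 (iv D14053)
theorem F27422 : act 5 n15631 = n14082 := d8_2 (iv F21234) D15631 (iv D14082)
def n15632 : Q := act 4 n12553
theorem D15632 : act 4 n12553 = n15632 := rfl
theorem F27423 : act 0 n15632 = n14062 := d3_1 D15632 (iv D14062) (iv F21233)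
theorem F27424 : act 2 n15632 = n12554 := d10_1 D15632 (iv D12554) D12553
def n15633 : Q := act 5 n12554
theorem D15633 : act 5 n12554 = n15633 := rfl
theorem F27425 : act 1 n15633 = n12557 := d8_1 D15633 (iv D12557) (iv F21236)
theorem F27426 : act 4 n15633 = n14085 := d14_1 D15633 (iv D14085) (iv D11082) (iv F16415) D12554
def n15634 : Q := act 0 n12555
theorem D15634 : act 0 n12555 = n15634 := rfl
theorem F27427 : act 1 n15634 = n13874 := d0_2 D12555 D15634 F23787 (iv F21174) F21173
theorem F27428 : act 3 n15634 = n13873 := d2_2 F26786 D15634 (iv F26784)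
def n15635 : Q := act 4 n12555
theorem D15635 : act 4 n12555 = n15635 := rfl
theorem F27429 : act 1 n15635 = n12556 := d7_1 D15635 (iv D12556) D12555
def n15636 : Q := act 3 n12556
theorem D15636 : act 3 n12556 = n15636 := rfl
def n15637 : Q := act 5 n12556
theorem D15637 : act 5 n12556 = n15637 := rfl
theorem F27430 : act 2 n15637 = n12557 := d11_1 D15637 (iv D12557) (iv F21237)
def n15638 : Q := act 1 n12560
theorem D15638 : act 1 n12560 = n15638 := rfl
theorem F27431 : act 2 n15638 = n12565 := d5_2 D12560 D15638 (iv D12565) (iv D9828) (iv F16420)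
theorem F27432 : act 4 n15638 = n12561 := d7_2 (iv F21240) D15638 (iv D12561)
theorem F27433 : act 5 n15638 = n12666 := d8_2 (iv F21241) D15638 F21406
theorem F27434 : act 3 n12560 = n15638 := d13_3 F27433 F21800 (iv F21241)
theorem E28 : n15336 = n15335 := ((c12_4 (iv F21240) F27434 F27432 (iv F26777) (iv D15336) F20677)).symm
theorem F27435 : act 2 n15335 = n12237 := (sb E28 F26779)
theorem F27436 : act 4 n15335 = n12236 := (sb E28 (iv D15336))
theorem E29 : n15334 = n15333 := (c5_2 F27435 (iv F26776) (iv D15333) F20676 D12236 D15335)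
theorem F27437 : act 1 n15333 = n12237 := (sb E29 F26776)
theorem F27438 : act 4 n15333 = n12235 := (sb E29 (iv D15334))
theorem F27439 : act 2 n15337 = n12563 := d11_3 (iv F26778) F27435 D15337
def n15639 : Q := act 0 n12561
theorem D15639 : act 0 n12561 = n15639 := rfl
theorem F27440 : act 2 n15639 = n12566 := d1_2 (iv F21242) D15639 (iv D12566)
theorem F27441 : act 5 n15639 = n12562 := d4_2 (iv F21243) D15639 (iv D12562)
def n15640 : Q := act 3 n12562
theorem D15640 : act 3 n12562 = n15640 := rfl
theorem F27442 : act 0 n15640 = n12563 := d2_1 D15640 (iv D12563) D12562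
def n15641 : Q := act 4 n12563
theorem D15641 : act 4 n12563 = n15641 := rfl
theorem F27443 : act 1 n15641 = n12564 := d7_1 D15641 (iv D12564) (iv F21246)
theorem F27444 : act 3 n15641 = n12664 := d12_1 D15641 (iv D12664) (iv D9915) (iv F16425) D12563
theorem F27445 : act 5 n15641 = n12564 := d14_2 F26778 D15641 (iv D12564) F20678 (iv F27436)
def n15642 : Q := act 0 n12565
theorem D15642 : act 0 n12565 = n15642 := rfl
theorem F27446 : act 1 n15642 = n12609 := d0_2 D12565 D15642 (iv D12609) (iv D9867) (iv F16426)
theorem F27447 : act 3 n15642 = n12705 := d2_2 (iv F21248) D15642 F21467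
theorem F27448 : act 4 n15642 = n12566 := d3_2 (iv F21249) D15642 (iv D12566)
theorem F27449 : act 5 n15642 = n12674 := d4_2 (iv F21250) D15642 F21416
def n15643 : Q := act 2 n12567
theorem D15643 : act 2 n12567 = n15643 := rfl
theorem F27450 : act 0 n15643 = n12568 := d1_1 D15643 (iv D12568) (iv F21254)
theorem F27451 : act 5 n15643 = n12620 := d11_2 (iv F21256) D15643 F21342
def n15644 : Q := act 4 n12567
theorem D15644 : act 4 n12567 = n15644 := rfl
theorem F27452 : act 0 n15644 = n12569 := d3_1 D15644 (iv D12569) (iv F21254)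
theorem F27453 : act 1 n15644 = n12611 := d7_1 D15644 (iv D12611) (iv F21255)
theorem F27454 : act 3 n15644 = n12673 := d12_1 D15644 (iv D12673) (iv D9921) (iv F16433) D12567
theorem F27455 : act 5 n15644 = n12704 := d14_2 (iv F21256) D15644 (iv D12704) F21352 (iv D12626)
def n15645 : Q := act 2 n12570
theorem D15645 : act 2 n12570 = n15645 := rfl
theorem F27456 : act 0 n15645 = n12571 := d1_1 D15645 (iv D12571) (iv F21262)
theorem F27457 : act 5 n15645 = n12573 := d11_2 (iv F21264) D15645 (iv D12573)
def n15646 : Q := act 4 n12570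
theorem D15646 : act 4 n12570 = n15646 := rfl
theorem F27458 : act 0 n15646 = n12572 := d3_1 D15646 (iv D12572) (iv F21262)
theorem F27459 : act 1 n15646 = n12614 := d7_1 D15646 (iv D12614) (iv F21263)
theorem F27460 : act 3 n15646 = n12721 := d12_1 D15646 (iv D12721) F16624 (iv F16442) D12570
theorem F27461 : act 5 n15646 = n12711 := d14_2 (iv F21264) D15646 (iv D12711) (iv D9953) (iv F16452)
def n15647 : Q := act 3 n12571
theorem D15647 : act 3 n12571 = n15647 := rfl
theorem F27462 : act 1 n15647 = n12612 := d6_1 D15647 (iv D12612) (iv F21265)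
theorem F27463 : act 5 n15647 = n12575 := d13_2 (iv F21266) D15647 (iv D12575)
theorem F27464 : act 2 n15647 = n13793 := d15_2 D12571 D15647 (iv D13793) (iv D10845) (iv D8418) (iv F12565) D9836 (iv F21264) F21262
def n15648 : Q := act 4 n12571
theorem D15648 : act 4 n12571 = n15648 := rfl
theorem F27465 : act 1 n15648 = n12613 := d7_1 D15648 (iv D12613) (iv F21265)
theorem F27466 : act 2 n15648 = n12572 := d10_1 D15648 (iv D12572) D12571
theorem F27467 : act 5 n15648 = n12717 := d14_2 (iv F21266) D15648 (iv D12717) (iv D9956) (iv F16453)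
def n15649 : Q := act 1 n12573
theorem D15649 : act 1 n12573 = n15649 := rfl
theorem F27468 : act 2 n15649 = n12617 := d5_2 D12573 D15649 (iv D12617) (iv D9876) (iv F16451)
theorem F27469 : act 4 n15649 = n12708 := d7_2 (iv F21271) D15649 (iv D12708)
def n15650 : Q := act 3 n12573
theorem D15650 : act 3 n12573 = n15650 := rfl
theorem F27470 : act 0 n15650 = n12575 := d2_1 D15650 (iv D12575) (iv F21270)
def n15651 : Q := act 0 n12574
theorem D15651 : act 0 n12574 = n15651 := rfl
theorem F27471 : act 2 n15651 = n12576 := d1_2 (iv F21272) D15651 (iv D12576)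
theorem F27472 : act 4 n15651 = n12712 := d3_2 (iv F21273) D15651 (iv D12712)
theorem F27473 : act 5 n15651 = n12610 := d4_2 (iv F21274) D15651 F21328
def n15652 : Q := act 3 n12574
theorem D15652 : act 3 n12574 = n15652 := rfl
theorem F27474 : act 1 n15652 = n12575 := d6_1 D15652 (iv D12575) D12574
theorem F27475 : act 5 n15652 = n12612 := d13_2 (iv F21274) D15652 (iv D12612)
def n15653 : Q := act 2 n12575
theorem D15653 : act 2 n12575 = n15653 := rfl
theorem F27476 : act 5 n15653 = n13793 := d11_2 F27463 D15653 (iv F27464)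
theorem F27477 : act 3 n15653 = n13794 := d15_3 D9837 D12575 D15653 F23631 F18204 (iv F16441) D12570 F21264 F16450
def n15654 : Q := act 4 n12575
theorem D15654 : act 4 n12575 = n15654 := rfl
theorem F27478 : act 3 n15654 = n12715 := d12_1 D15654 (iv D12715) (iv D9955) (iv F16453) D12575
def n15655 : Q := act 5 n12578
theorem D15655 : act 5 n12578 = n15655 := rfl
theorem F27479 : act 1 n15655 = n12582 := d8_1 D15655 (iv D12582) (iv F21281)
theorem F27480 : act 2 n15655 = n14789 := d11_1 D15655 (iv D14789) F21720
theorem F27481 : act 3 n15655 = n12579 := d13_1 D15655 (iv D12579) D12578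
def n15656 : Q := act 4 n12579
theorem D15656 : act 4 n12579 = n15656 := rfl
theorem F27482 : act 1 n15656 = n12583 := d7_1 D15656 (iv D12583) (iv F21282)
theorem F27483 : act 2 n15656 = n12702 := d10_1 D15656 F23726 F23724
theorem F27484 : act 5 n15656 = n12586 := d14_2 D12579 D15656 (iv D12586) (iv D9845) (iv F16457)
def n15657 : Q := act 4 n12580
theorem D15657 : act 4 n12580 = n15657 := rfl
theorem F27485 : act 0 n15657 = n12595 := d3_1 D15657 (iv D12595) (iv F21283)
theorem F27486 : act 2 n15657 = n12581 := d10_1 D15657 (iv D12581) D12580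
def n15658 : Q := act 5 n12581
theorem D15658 : act 5 n12581 = n15658 := rfl
theorem F27487 : act 0 n15658 = n12596 := d4_1 D15658 (iv D12596) (iv F21286)
theorem F27488 : act 3 n15658 = n12587 := d13_1 D15658 (iv D12587) (iv F21287)
def n15659 : Q := act 3 n12583
theorem D15659 : act 3 n12583 = n15659 := rfl
theorem F27489 : act 0 n15659 = n12598 := d2_1 D15659 (iv D12598) (iv F21291)
theorem F27490 : act 5 n15659 = n12588 := d13_2 (iv F21293) D15659 (iv D12588)
def n15660 : Q := act 3 n12586
theorem D15660 : act 3 n12586 = n15660 := rfl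
theorem F27491 : act 0 n15660 = n15105 := d2_1 D15660 F27349 F27346
theorem F27492 : act 1 n15660 = n12588 := d6_1 D15660 (iv D12588) (iv F21298)
theorem F27493 : act 4 n15660 = n12645 := d12_2 D12586 D15660 (iv D12645) (iv D9900) (iv F16467)
theorem F27494 : act 2 n15660 = n15092 := d15_4 (iv F21013) D15533 (iv F27200) D15660 (iv D15092) F20253 (iv F16595) (iv F20370) F20367
theorem E30 : n15126 = n12645 := (c10_4 (iv F27493) F27494 F26220 D15126)
theorem F27495 : act 2 n12645 = n12046 := (sb E30 (iv D15126))
def n15661 : Q := act 2 n12588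
theorem D15661 : act 2 n12588 = n15661 := rfl
theorem F27496 : act 0 n15661 = n12608 := d1_1 D15661 (iv D12608) (iv F21302)
theorem F27497 : act 4 n15661 = n12647 := d10_2 (iv F21303) D15661 (iv D12647)
def n15662 : Q := act 3 n12589
theorem D15662 : act 3 n12589 = n15662 := rfl
theorem F27498 : act 0 n15662 = n12590 := d2_1 D15662 (iv D12590) D12589
theorem F27499 : act 2 n15662 = n14344 := d9_1 D15662 (iv D14344) (iv D11299) (iv D8775) (iv F11197) D8835 D11375 D14415 (iv F25569) (iv D14788) F19752 (iv F18948) (iv F19078) (iv F23687) F23686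
theorem F27500 : act 5 n15662 = n15064 := d13_2 F24772 D15662 F26165
def n15663 : Q := act 2 n12590
theorem D15663 : act 2 n12590 = n15663 := rfl
theorem F27501 : act 0 n15663 = n14344 := d1_1 D15663 (iv F27499) F27498
theorem F27502 : act 1 n15663 = n14789 := d5_1 D15663 (iv F27480) F27479 F21289 (iv F21304)
theorem F27503 : act 3 n15663 = n14341 := d9_2 D12590 D15663 (iv D14341) (iv D11297) (iv F14668) D11373 D14412 (iv F26165) (iv D15064) (iv D11990) F15615 (iv F14564) (iv F14671) (iv F18239) F18238
theorem F27504 : act 5 n15663 = n14788 := d11_2 F24777 D15663 F25569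
def n15664 : Q := act 1 n12592
theorem D15664 : act 1 n12592 = n15664 := rfl
theorem F27505 : act 0 n15664 = n15065 := d0_1 D15664 (iv D15065) F20215 D12863 F21710
theorem F27506 : act 2 n15664 = n12594 := d5_2 D12592 D15664 (iv D12594) (iv D9854) (iv F16475)
def n15665 : Q := act 5 n12593
theorem D15665 : act 5 n12593 = n15665 := rfl
theorem F27507 : act 1 n15665 = n12596 := d8_1 D15665 (iv D12596) (iv F21306)
theorem F27508 : act 3 n15665 = n12602 := d13_1 D15665 (iv D12602) (iv F21307)
def n15666 : Q := act 0 n12594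
theorem D15666 : act 0 n12594 = n15666 := rfl
theorem F27509 : act 1 n15666 = n15064 := d0_2 D12594 D15666 F26163 F24776 F21283
theorem F27510 : act 2 n15666 = n15065 := d1_2 F27506 D15666 (iv F27505)
def n15667 : Q := act 4 n12594
theorem D15667 : act 4 n12594 = n15667 := rfl
theorem F27511 : act 1 n15667 = n12595 := d7_1 D15667 (iv D12595) D12594
def n15668 : Q := act 3 n12595
theorem D15668 : act 3 n12595 = n15668 := rfl
def n15669 : Q := act 5 n12595
theorem D15669 : act 5 n12595 = n15669 := rfl
theorem F27512 : act 2 n15669 = n12596 := d11_1 D15669 (iv D12596) (iv F21308)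
def n15670 : Q := act 4 n12596
theorem D15670 : act 4 n12596 = n15670 := rfl
theorem F27513 : act 5 n15670 = n12597 := d14_2 D12596 D15670 (iv D12597) (iv D9856) D9855
theorem F27514 : act 3 n12608 = n15670 := d15_7 (iv D15323) (iv D12226) F15925 F12195 (iv F12598) D9865 D12608 F27513 (iv F26753)
def n15671 : Q := act 3 n12597
theorem D15671 : act 3 n12597 = n15671 := rfl
theorem F27515 : act 4 n15671 = n12598 := d12_2 D12597 D15671 (iv D12598) (iv D9857) (iv F16477)
theorem F27516 : act 5 n15671 = n12608 := d13_2 F27513 D15671 F27514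
theorem F27517 : act 2 n15671 = n12598 := d15_2 F23817 D15671 (iv D12598) F16478 (iv F15919) (iv F20647) D15317 F26746 (iv F23816)
def n15672 : Q := act 5 n12599
theorem D15672 : act 5 n12599 = n15672 := rfl
theorem F27518 : act 0 n15672 = n12602 := d4_1 D15672 (iv D12602) (iv F21311)
theorem F27519 : act 1 n15672 = n15417 := d8_1 D15672 F26965 F21715
def n15673 : Q := act 4 n12600
theorem D15673 : act 4 n12600 = n15673 := rfl
theorem F27520 : act 1 n15673 = n12601 := d7_1 D15673 (iv D12601) D12600
theorem F27521 : act 2 n15673 = n12603 := d10_1 D15673 (iv D12603) (iv F21312)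
def n15674 : Q := act 3 n12601
theorem D15674 : act 3 n12601 = n15674 := rfl
def n15675 : Q := act 5 n12601
theorem D15675 : act 5 n12601 = n15675 := rfl
theorem F27522 : act 2 n15675 = n12602 := d11_1 D15675 (iv D12602) (iv F21314)
def n15676 : Q := act 3 n12603
theorem D15676 : act 3 n12603 = n15676 := rfl
theorem F27523 : act 1 n15676 = n12604 := d6_1 D15676 (iv D12604) (iv F21316)
theorem F27524 : act 4 n15676 = n12638 := d12_2 D12603 D15676 (iv D12638) (iv D9892) (iv F16482)
def n15677 : Q := act 5 n12603
theorem D15677 : act 5 n12603 = n15677 := rfl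
theorem F27525 : act 1 n15677 = n12605 := d8_1 D15677 (iv D12605) (iv F21316)
theorem F27526 : act 4 n15677 = n12637 := d14_1 D15677 (iv D12637) (iv D9891) (iv F16483) D12603
def n15678 : Q := act 5 n12604
theorem D15678 : act 5 n12604 = n15678 := rfl
theorem F27527 : act 0 n15678 = n12648 := d4_1 D15678 F21385 (iv F21317)
theorem F27528 : act 3 n15678 = n12605 := d13_1 D15678 (iv D12605) D12604
def n15679 : Q := act 3 n12606
theorem D15679 : act 3 n12606 = n15679 := rfl
theorem F27529 : act 0 n15679 = n12647 := d2_1 D15679 F21383 (iv F21322)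
theorem F27530 : act 2 n15679 = n12607 := d9_1 D15679 (iv D12607) F16487 (iv F15912) F15911 F12201 (iv F12645) D9901 D12647 F21383 F16538 (iv F15934) (iv F20636) F20637 (iv F21323)
theorem F27531 : act 4 n15679 = n12608 := d12_2 D12606 D15679 F27514 (iv D15670) F21309
theorem F27532 : act 5 n15679 = n12607 := d13_2 (iv F21324) D15679 (iv D12607)
def n15680 : Q := act 1 n12608
theorem D15680 : act 1 n12608 = n15680 := rfl
def n15681 : Q := act 1 n12610
theorem D15681 : act 1 n12610 = n15681 := rfl
def n15682 : Q := act 3 n12610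
theorem D15682 : act 3 n12610 = n15682 := rfl
theorem F27533 : act 0 n15682 = n12612 := d2_1 D15682 (iv D12612) (iv F21328)
def n15683 : Q := act 4 n12610
theorem D15683 : act 4 n12610 = n15683 := rfl
theorem F27534 : act 0 n15683 = n12613 := d3_1 D15683 (iv D12613) (iv F21328)
theorem F27535 : act 2 n15683 = n12611 := d10_1 D15683 (iv D12611) D12610
def n15684 : Q := act 2 n12612
theorem D15684 : act 2 n12612 = n15684 := rfl
def n15685 : Q := act 4 n12612
theorem D15685 : act 4 n12612 = n15685 := rfl
theorem F27536 : act 3 n15685 = n13882 := d12_1 D15685 (iv F27380) F27381 (iv D12613) D12612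
def n15686 : Q := act 5 n12614
theorem D15686 : act 5 n12614 = n15686 := rfl
theorem F27537 : act 0 n15686 = n12616 := d4_1 D15686 (iv D12616) (iv F21331)
theorem F27538 : act 1 n15686 = n12711 := d8_1 D15686 (iv F27461) F27459
theorem F27539 : act 3 n15686 = n12744 := d13_1 D15686 F21523 (iv F21332)
theorem F27540 : act 4 n15686 = n12619 := d14_1 D15686 (iv D12619) (iv D9877) (iv F16495) D12614
def n15687 : Q := act 5 n12615
theorem D15687 : act 5 n12615 = n15687 := rfl
theorem F27541 : act 1 n15687 = n12707 := d8_1 D15687 (iv F25410) F25408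
theorem F27542 : act 2 n15687 = n12616 := d11_1 D15687 (iv D12616) (iv F21333)
theorem F27543 : act 3 n15687 = n14424 := d13_1 D15687 F24793 F23062
theorem F27544 : act 4 n15687 = n12625 := d14_1 D15687 (iv D12625) (iv D9880) (iv F16496) D12615
def n15688 : Q := act 0 n12617
theorem D15688 : act 0 n12617 = n15688 := rfl
theorem F27545 : act 1 n15688 = n12620 := d0_2 D12617 D15688 (iv D12620) (iv D9878) (iv F16503)
def n15689 : Q := act 4 n12617
theorem D15689 : act 4 n12617 = n15689 := rfl
theorem F27546 : act 1 n15689 = n12618 := d7_1 D15689 (iv D12618) D12617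
theorem F27547 : act 2 n15689 = n12708 := d10_1 D15689 (iv F27469) F27468
def n15690 : Q := act 3 n12618
theorem D15690 : act 3 n12618 = n15690 := rfl
theorem F27548 : act 0 n15690 = n12624 := d2_1 D15690 (iv D12624) (iv F21337)
def n15691 : Q := act 5 n12618
theorem D15691 : act 5 n12618 = n15691 := rfl
theorem F27549 : act 0 n15691 = n12625 := d4_1 D15691 (iv D12625) (iv F21337)
theorem F27550 : act 2 n15691 = n12619 := d11_1 D15691 (iv D12619) (iv F21338)
def n15692 : Q := act 3 n12620
theorem D15692 : act 3 n12620 = n15692 := rfl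
theorem F27551 : act 0 n15692 = n12621 := d2_1 D15692 (iv D12621) D12620
def n15693 : Q := act 4 n12620
theorem D15693 : act 4 n12620 = n15693 := rfl
theorem F27552 : act 0 n15693 = n12622 := d3_1 D15693 (iv D12622) D12620
theorem F27553 : act 2 n15693 = n12626 := d10_1 D15693 (iv D12626) (iv F21342)
theorem F27554 : act 5 n12703 = n15693 := d11_0 F27553 (iv F21352) D12703
def n15694 : Q := act 2 n12621
theorem D15694 : act 2 n12621 = n15694 := rfl
theorem F27555 : act 5 n15694 = n15260 := d11_2 F23448 D15694 F26632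
def n15695 : Q := act 3 n12622
theorem D15695 : act 3 n12622 = n15695 := rfl
theorem F27556 : act 1 n15695 = n12624 := d6_1 D15695 (iv D12624) (iv F21344)
theorem F27557 : act 5 n15695 = n12706 := d13_2 F21346 D15695 (iv D12706)
def n15696 : Q := act 3 n12623
theorem D15696 : act 3 n12623 = n15696 := rfl
theorem F27558 : act 4 n15696 = n12624 := d12_2 D12623 D15696 (iv D12624) (iv D9880) D9879
def n15697 : Q := act 2 n12624
theorem D15697 : act 2 n12624 = n15697 := rfl
def n15698 : Q := act 5 n12624
theorem D15698 : act 5 n12624 = n15698 := rfl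
theorem F27559 : act 1 n15698 = n12706 := d8_1 D15698 (iv F27557) F27556
theorem F27560 : act 3 n15698 = n12625 := d13_1 D15698 (iv D12625) D12624
theorem F27561 : act 4 n14426 = n15698 := d12_0 F27560 (iv F27544) F27543 F24792 D14426
def n15699 : Q := act 2 n12627
theorem D15699 : act 2 n12627 = n15699 := rfl
theorem F27562 : act 0 n15699 = n12631 := d1_1 D15699 (iv D12631) (iv F21353)
theorem F27563 : act 4 n15699 = n13372 := d10_2 (iv F21355) D15699 (iv D13372)
def n15700 : Q := act 5 n12627
theorem D15700 : act 5 n12627 = n15700 := rfl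
theorem F27564 : act 0 n15700 = n12632 := d4_1 D15700 (iv D12632) (iv F21353)
theorem F27565 : act 1 n15700 = n13272 := d8_1 D15700 (iv D13272) (iv F21354)
theorem F27566 : act 3 n15700 = n12628 := d13_1 D15700 (iv D12628) D12627
def n15701 : Q := act 2 n12629
theorem D15701 : act 2 n12629 = n15701 := rfl
theorem F27567 : act 0 n15701 = n13372 := d1_1 D15701 (iv D13372) (iv F21360)
theorem F27568 : act 4 n15701 = n12631 := d10_2 (iv F21362) D15701 (iv D12631)
def n15702 : Q := act 5 n12629
theorem D15702 : act 5 n12629 = n15702 := rfl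
theorem F27569 : act 0 n15702 = n13373 := d4_1 D15702 (iv D13373) (iv F21360)
theorem F27570 : act 1 n15702 = n12688 := d8_1 D15702 (iv D12688) (iv F21361)
theorem F27571 : act 3 n15702 = n12630 := d13_1 D15702 (iv D12630) D12629
def n15703 : Q := act 1 n12631
theorem D15703 : act 1 n12631 = n15703 := rfl
theorem F27572 : act 2 n15703 = n12686 := d5_2 D12631 D15703 (iv D12686) (iv D9932) (iv F16523)
theorem F27573 : act 5 n14918 = n15703 := d11_0 F27572 F21439 D14918
def n15704 : Q := act 3 n12631
theorem D15704 : act 3 n12631 = n15704 := rfl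
def n15705 : Q := act 5 n12631
theorem D15705 : act 5 n12631 = n15705 := rfl
theorem F27574 : act 1 n15705 = n14918 := d8_1 D15705 F27573 (iv D15703)
theorem F27575 : act 2 n15705 = n12632 := d11_1 D15705 (iv D12632) D12631
def n15706 : Q := act 4 n12632
theorem D15706 : act 4 n12632 = n15706 := rfl
theorem F27576 : act 1 n15706 = n12689 := d7_1 D15706 (iv D12689) (iv F21367)
theorem F27577 : act 3 n15706 = n12766 := d12_1 D15706 (iv D12766) F16673 (iv F16526) (iv F21368)
def n15707 : Q := act 4 n12633
theorem D15707 : act 4 n12633 = n15707 := rfl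
theorem F27578 : act 0 n15707 = n12636 := d3_1 D15707 (iv D12636) (iv F21369)
theorem F27579 : act 2 n15707 = n12634 := d10_1 D15707 (iv D12634) D12633
def n15708 : Q := act 5 n12634
theorem D15708 : act 5 n12634 = n15708 := rfl
theorem F27580 : act 0 n15708 = n12637 := d4_1 D15708 (iv D12637) (iv F21370)
theorem F27581 : act 1 n15708 = n12639 := d8_1 D15708 (iv D12639) (iv F21371)
def n15709 : Q := act 2 n12635
theorem D15709 : act 2 n12635 = n15709 := rfl
theorem F27582 : act 0 n15709 = n14968 := d1_1 D15709 F25904 (iv F21632)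
theorem F27583 : act 1 n15709 = n14971 := d5_1 D15709 F25912 F20030 (iv F21639) F21638
theorem F27584 : act 3 n15709 = n14118 := d15_3 D9890 D12635 D15709 (iv D14118) (iv D11111) F14288 D10863 F18226 F16527
def n15710 : Q := act 4 n12635
theorem D15710 : act 4 n12635 = n15710 := rfl
theorem F27585 : act 0 n15710 = n14817 := d3_1 D15710 F25623 (iv F21632)
theorem F27586 : act 1 n15710 = n14819 := d7_1 D15710 F25625 F21638
def n15711 : Q := act 3 n12636
theorem D15711 : act 3 n12636 = n15711 := rfl
def n15712 : Q := act 5 n12636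
theorem D15712 : act 5 n12636 = n15712 := rfl
theorem F27587 : act 2 n15712 = n12637 := d11_1 D15712 (iv D12637) (iv F21372)
def n15713 : Q := act 2 n12638
theorem D15713 : act 2 n12638 = n15713 := rfl
def n15714 : Q := act 4 n12640
theorem D15714 : act 4 n12640 = n15714 := rfl
theorem F27588 : act 0 n15714 = n12641 := d3_1 D15714 (iv D12641) D12640
theorem F27589 : act 2 n15714 = n12644 := d10_1 D15714 (iv D12644) (iv F21376)
theorem F27590 : act 3 n15714 = n14815 := d12_1 D15714 F25620 (iv F26954) F26955 F21512
theorem F27591 : act 5 n15714 = n14814 := d14_2 F23670 D15714 F25618 (iv F26958) F26957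
def n15715 : Q := act 3 n12641
theorem D15715 : act 3 n12641 = n15715 := rfl
theorem F27592 : act 0 n15715 = n14815 := d2_1 D15715 (iv F27590) F27588
theorem F27593 : act 1 n15715 = n12642 := d6_1 D15715 (iv D12642) (iv F21377)
theorem F27594 : act 4 n15715 = n14663 := d12_2 D12641 D15715 F25285 (iv D12739) F16639
theorem F27595 : act 5 n15715 = n14658 := d13_2 (iv F21758) D15715 F25269
theorem F27596 : act 2 n15715 = n14809 := d15_6 (iv F15687) D12046 (iv F27495) (iv D12645) (iv F21378) D15715 F25610 (iv D12034) F15676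
def n15716 : Q := act 2 n12642
theorem D15716 : act 2 n12642 = n15716 := rfl
def n15717 : Q := act 5 n12642
theorem D15717 : act 5 n12642 = n15717 := rfl
theorem F27597 : act 1 n15717 = n14658 := d8_1 D15717 (iv F27595) F27593
theorem F27598 : act 3 n15717 = n12643 := d13_1 D15717 (iv D12643) D12642
theorem F27599 : act 4 n15717 = n14657 := d14_1 D15717 F25266 D14661 (iv F25277) F21517
def n15718 : Q := act 3 n12644
theorem D15718 : act 3 n12644 = n15718 := rfl
theorem F27600 : act 0 n15718 = n12645 := d2_1 D15718 (iv D12645) (iv F21380)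
theorem F27601 : act 4 n15718 = n15105 := d12_2 D12644 D15718 F27349 (iv D15592) (iv F21147)
theorem F27602 : act 2 n15718 = n15104 := d15_2 F27589 D15718 (iv D15104) F20267 (iv F19777) (iv F25268) F25269 (iv F21758) (iv F27588)
def n15719 : Q := act 5 n12644
theorem D15719 : act 5 n12644 = n15719 := rfl
theorem F27603 : act 0 n15719 = n12646 := d4_1 D15719 (iv D12646) (iv F21380)
theorem F27604 : act 2 n15719 = n14814 := d11_1 D15719 (iv F27591) F27589
theorem F27605 : act 4 n15719 = n15417 := d14_1 D15719 F26965 (iv F21717) F21296 D12644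
def n15720 : Q := act 5 n12645
theorem D15720 : act 5 n12645 = n15720 := rfl
theorem F27606 : act 1 n15720 = n12647 := d8_1 D15720 (iv F21384) (iv F21381)
theorem F27607 : act 2 n15720 = n15125 := d11_1 D15720 F26312 (iv F27495)
theorem F27608 : act 3 n15720 = n12646 := d13_1 D15720 (iv D12646) D12645
def n15721 : Q := act 2 n12648
theorem D15721 : act 2 n12648 = n15721 := rfl
theorem F27609 : act 5 n15721 = n12649 := d11_2 (iv F21385) D15721 (iv D12649)
def n15722 : Q := act 1 n12649
theorem D15722 : act 1 n12649 = n15722 := rfl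
theorem F27610 : act 4 n15722 = n12650 := d7_2 (iv F21386) D15722 (iv D12650)
def n15723 : Q := act 0 n12650
theorem D15723 : act 0 n12650 = n15723 := rfl
def n15724 : Q := act 3 n12651
theorem D15724 : act 3 n12651 = n15724 := rfl
theorem F27611 : act 0 n15724 = n12652 := d2_1 D15724 (iv D12652) D12651
def n15725 : Q := act 5 n12651
theorem D15725 : act 5 n12651 = n15725 := rfl
theorem F27612 : act 0 n15725 = n12653 := d4_1 D15725 (iv D12653) D12651
def n15726 : Q := act 4 n12652
theorem D15726 : act 4 n12652 = n15726 := rfl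
theorem F27613 : act 1 n15726 = n12654 := d7_1 D15726 (iv D12654) (iv F21387)
def n15727 : Q := act 4 n12653
theorem D15727 : act 4 n12653 = n15727 := rfl
theorem F27614 : act 1 n15727 = n12655 := d7_1 D15727 (iv D12655) (iv F21388)
def n15728 : Q := act 5 n12654
theorem D15728 : act 5 n12654 = n15728 := rfl
theorem F27615 : act 2 n15728 = n14601 := d11_1 D15728 F25125 (iv F21389)
def n15729 : Q := act 3 n12655
theorem D15729 : act 3 n12655 = n15729 := rfl
def n15730 : Q := act 3 n12656
theorem D15730 : act 3 n12656 = n15730 := rfl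
theorem F27616 : act 0 n15730 = n12657 := d2_1 D15730 (iv D12657) D12656
theorem F27617 : act 1 n15730 = n12661 := d6_1 D15730 (iv D12661) (iv F21391)
theorem F27618 : act 5 n14432 = n15730 := d8_0 F27617 F21792 D14432
def n15731 : Q := act 5 n12656
theorem D15731 : act 5 n12656 = n15731 := rfl
theorem F27619 : act 0 n15731 = n12658 := d4_1 D15731 (iv D12658) D12656
theorem F27620 : act 1 n15731 = n12662 := d8_1 D15731 (iv D12662) (iv F21391)
theorem F27621 : act 3 n15731 = n14432 := d13_1 D15731 F27618 (iv D15730)
def n15732 : Q := act 2 n12657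
theorem D15732 : act 2 n12657 = n15732 := rfl
theorem F27622 : act 1 n15732 = n14278 := d5_1 D15732 (iv D14278) F18852 (iv F16544) (iv F21392)
theorem F27623 : act 5 n15732 = n14385 := d11_2 F21393 D15732 F24735
def n15733 : Q := act 4 n12657
theorem D15733 : act 4 n12657 = n15733 := rfl
theorem F27624 : act 1 n15733 = n12659 := d7_1 D15733 (iv D12659) (iv F21392)
def n15734 : Q := act 4 n12658
theorem D15734 : act 4 n12658 = n15734 := rfl
theorem F27625 : act 1 n15734 = n12660 := d7_1 D15734 (iv D12660) (iv F21394)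
def n15735 : Q := act 5 n12659
theorem D15735 : act 5 n12659 = n15735 := rfl
theorem F27626 : act 0 n15735 = n12664 := d4_1 D15735 F21801 (iv F21396)
theorem F27627 : act 2 n15735 = n14433 := d11_1 D15735 F24813 (iv F21397)
theorem F27628 : act 4 n15735 = n12661 := d14_1 D15735 F21792 F19135 F16545 D12659
def n15736 : Q := act 3 n12660
theorem D15736 : act 3 n12660 = n15736 := rfl
theorem F27629 : act 0 n15736 = n12666 := d2_1 D15736 F21800 (iv F21398)
theorem F27630 : act 2 n15736 = n12674 := d9_1 D15736 (iv F26132) F26131 (iv D12559) F16419 D9824 D12560 F27434 F27431 F21248 (iv F21460) (iv F23735) F23734 F18269 (iv F21399)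
theorem F27631 : act 4 n15736 = n12662 := d12_2 D12660 D15736 (iv F21805) F19135 (iv F16548)
def n15737 : Q := act 1 n12663
theorem D15737 : act 1 n12663 = n15737 := rfl
theorem F27632 : act 2 n15737 = n12667 := d5_2 D12663 D15737 (iv D12667) (iv D9917) (iv F16551)
theorem F27633 : act 3 n15737 = n14429 := d6_2 (iv F21804) D15737 F24806
theorem F27634 : act 5 n15737 = n14428 := d8_2 F21802 D15737 F24803
def n15738 : Q := act 4 n12663
theorem D15738 : act 4 n12663 = n15738 := rfl
theorem F27635 : act 0 n15738 = n14433 := d3_1 D15738 (iv D14433) (iv F21803)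
theorem F27636 : act 2 n15738 = n12664 := d10_1 D15738 (iv D12664) D12663
theorem F27637 : act 5 n15738 = n12668 := d14_2 F21802 D15738 (iv D12668) (iv F16556) (iv F19126)
def n15739 : Q := act 0 n12667
theorem D15739 : act 0 n12667 = n15739 := rfl
theorem F27638 : act 1 n15739 = n14254 := d0_2 D12667 D15739 F24440 F18852 (iv F16554)
theorem F27639 : act 3 n15739 = n14253 := d2_2 (iv F21408) D15739 F24436
theorem F27640 : act 5 n15739 = n14376 := d4_2 (iv F21409) D15739 F24716
def n15740 : Q := act 4 n12667
theorem D15740 : act 4 n12667 = n15740 := rfl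
theorem F27641 : act 1 n15740 = n12668 := d7_1 D15740 (iv D12668) D12667
def n15741 : Q := act 3 n12668
theorem D15741 : act 3 n12668 = n15741 := rfl
theorem F27642 : act 0 n15741 = n14282 := d2_1 D15741 F24488 (iv F21410)
theorem F27643 : act 4 n15741 = n14280 := d12_2 D12668 D15741 (iv D14280) F18855 (iv F16555)
def n15742 : Q := act 0 n12677
theorem D15742 : act 0 n12677 = n15742 := rfl
theorem F27644 : act 1 n15742 = n14912 := d0_2 D12677 D15742 (iv D14912) (iv D11842) (iv F16565)
theorem F27645 : act 2 n15742 = n13906 := d1_2 (iv F21420) D15742 (iv D13906)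
theorem F27646 : act 4 n15742 = n12681 := d3_2 (iv F21421) D15742 (iv D12681)
theorem F27647 : act 5 n15379 = n15742 := d8_0 F27644 F25805 D15379
def n15743 : Q := act 3 n12677
theorem D15743 : act 3 n12677 = n15743 := rfl
theorem F27648 : act 1 n15743 = n12678 := d6_1 D15743 (iv D12678) D12677
def n15744 : Q := act 5 n12677
theorem D15744 : act 5 n12677 = n15744 := rfl
theorem F27649 : act 0 n15744 = n15379 := d4_1 D15744 F27647 (iv D15742)
theorem F27650 : act 1 n15744 = n12679 := d8_1 D15744 (iv D12679) D12677
theorem F27651 : act 2 n15744 = n13905 := d11_1 D15744 F23853 (iv F21420)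
def n15745 : Q := act 2 n12678
theorem D15745 : act 2 n12678 = n15745 := rfl
theorem F27652 : act 0 n15745 = n13833 := d1_1 D15745 F23697 (iv F21422)
theorem F27653 : act 3 n15745 = n13825 := d9_2 D12678 D15745 F23678 F18237 F14022 (iv F15371) (iv F19946) (iv F23692) (iv D13831) (iv D10873) (iv D8441) (iv D6474) (iv F9580) D7653 D9926
theorem F27654 : act 1 n15321 = n15745 := d6_3 F27653 F23677 D15321
theorem F27655 : act 5 n13824 = n15745 := d13_0 F27653 (iv D13825) D13824
def n15746 : Q := act 4 n12678
theorem D15746 : act 4 n12678 = n15746 := rfl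
theorem F27656 : act 0 n15746 = n14914 := d3_1 D15746 (iv D14914) (iv F21422)
theorem F27657 : act 3 n15746 = n12684 := d12_1 D15746 (iv D12684) (iv D9929) (iv F16566) D12678
def n15747 : Q := act 5 n12678
theorem D15747 : act 5 n12678 = n15747 := rfl
theorem F27658 : act 0 n15747 = n13831 := d4_1 D15747 (iv F23694) (iv F21422)
theorem F27659 : act 2 n15747 = n13824 := d11_1 D15747 F27655 (iv D15745)
theorem F27660 : act 3 n15747 = n12679 := d13_1 D15747 (iv D12679) D12678
theorem F27661 : act 4 n14419 = n15747 := d10_0 F27659 F23675 D14419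
def n15748 : Q := act 4 n12679
theorem D15748 : act 4 n12679 = n15748 := rfl
theorem F27662 : act 0 n15748 = n14915 := d3_1 D15748 (iv D14915) (iv F21423)
theorem F27663 : act 2 n15748 = n12680 := d10_1 D15748 (iv D12680) (iv F21424)
theorem F27664 : act 5 n15748 = n12685 := d14_2 D12679 D15748 (iv D12685) (iv D9930) (iv F16566)
def n15749 : Q := act 3 n12681
theorem D15749 : act 3 n12681 = n15749 := rfl
theorem F27665 : act 0 n15749 = n12682 := d2_1 D15749 (iv D12682) D12681
theorem F27666 : act 1 n15749 = n14916 := d6_1 D15749 (iv D14916) (iv F21429)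
theorem F27667 : act 5 n14948 = n15749 := d4_0 F27665 (iv F21431) D14948
def n15750 : Q := act 5 n12681
theorem D15750 : act 5 n12681 = n15750 := rfl
theorem F27668 : act 0 n15750 = n12683 := d4_1 D15750 (iv D12683) D12681
theorem F27669 : act 1 n15750 = n14917 := d8_1 D15750 (iv D14917) (iv F21429)
theorem F27670 : act 3 n15750 = n14948 := d13_1 D15750 F27667 (iv D15749)
def n15751 : Q := act 2 n12682
theorem D15751 : act 2 n12682 = n15751 := rfl
theorem F27671 : act 1 n15751 = n13279 := d5_1 D15751 F22577 F17430 (iv F16571) (iv F21430)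
theorem F27672 : act 5 n15751 = n13277 := d11_2 F21431 D15751 F22576
def n15752 : Q := act 4 n12682
theorem D15752 : act 4 n12682 = n15752 := rfl
theorem F27673 : act 1 n15752 = n12684 := d7_1 D15752 (iv D12684) (iv F21430)
def n15753 : Q := act 4 n12683
theorem D15753 : act 4 n12683 = n15753 := rfl
theorem F27674 : act 1 n15753 = n12685 := d7_1 D15753 (iv D12685) (iv F21432)
def n15754 : Q := act 5 n12684
theorem D15754 : act 5 n12684 = n15754 := rfl
theorem F27675 : act 0 n15754 = n14921 := d4_1 D15754 (iv D14921) (iv F21434)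
theorem F27676 : act 2 n15754 = n14952 := d11_1 D15754 F25872 (iv F21435)
theorem F27677 : act 4 n15754 = n14951 := d14_1 D15754 (iv D14951) (iv D11876) F16572 D12684
def n15755 : Q := act 3 n12685
theorem D15755 : act 3 n12685 = n15755 := rfl
theorem F27678 : act 0 n15755 = n14922 := d2_1 D15755 (iv D14922) (iv F21436)
theorem F27679 : act 4 n15755 = n14950 := d12_2 D12685 D15755 (iv D14950) (iv D11876) (iv F16575)
def n15756 : Q := act 0 n12686
theorem D15756 : act 0 n12686 = n15756 := rfl
theorem F27680 : act 1 n15756 = n14948 := d0_2 D12686 D15756 (iv D14948) (iv D11875) (iv F16578)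
theorem F27681 : act 3 n15756 = n14917 := d2_2 (iv F21438) D15756 F25813
theorem F27682 : act 5 n15756 = n14916 := d4_2 (iv F21439) D15756 F25812
def n15757 : Q := act 4 n12686
theorem D15757 : act 4 n12686 = n15757 := rfl
theorem F27683 : act 1 n15757 = n12687 := d7_1 D15757 (iv D12687) D12686
def n15758 : Q := act 3 n12687
theorem D15758 : act 3 n12687 = n15758 := rfl
theorem F27684 : act 0 n15758 = n14950 := d2_1 D15758 (iv D14950) (iv F21440)
theorem F27685 : act 4 n15758 = n14922 := d12_2 D12687 D15758 (iv D14922) (iv D11850) (iv F16579)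
def n15759 : Q := act 5 n12687
theorem D15759 : act 5 n12687 = n15759 := rfl
theorem F27686 : act 0 n15759 = n14951 := d4_1 D15759 (iv D14951) (iv F21440)
theorem F27687 : act 2 n15759 = n12688 := d11_1 D15759 (iv D12688) (iv F21441)
theorem F27688 : act 4 n15759 = n14921 := d14_1 D15759 (iv D14921) (iv D11849) F16580 D12687
def n15760 : Q := act 4 n12688
theorem D15760 : act 4 n12688 = n15760 := rfl
theorem F27689 : act 0 n15760 = n14952 := d3_1 D15760 (iv D14952) (iv F21442)
theorem F27690 : act 2 n15760 = n14921 := d10_1 D15760 (iv F27688) F27687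
theorem F27691 : act 5 n15760 = n12689 := d14_2 D12688 D15760 (iv D12689) (iv D9934) D9933
def n15761 : Q := act 3 n12690
theorem D15761 : act 3 n12690 = n15761 := rfl
theorem F27692 : act 0 n15761 = n12691 := d2_1 D15761 (iv D12691) D12690
theorem F27693 : act 1 n15761 = n12695 := d6_1 D15761 (iv D12695) (iv F21446)
theorem F27694 : act 5 n14796 = n15761 := d8_0 F27693 (iv F23753) (iv F25589)
def n15762 : Q := act 5 n12690
theorem D15762 : act 5 n12690 = n15762 := rfl
theorem F27695 : act 0 n15762 = n12692 := d4_1 D15762 (iv D12692) D12690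
theorem F27696 : act 1 n15762 = n12696 := d8_1 D15762 (iv D12696) (iv F21446)
theorem F27697 : act 3 n15762 = n14796 := d13_1 D15762 F27694 (iv D15761)
theorem F27698 : act 4 n15762 = n14087 := d14_1 D15762 (iv D14087) (iv F26078) (iv F26406) F26405
def n15763 : Q := act 2 n12691
theorem D15763 : act 2 n12691 = n15763 := rfl
theorem F27699 : act 1 n15763 = n14786 := d5_1 D15763 F25563 F19748 (iv F16589) (iv F21447)
theorem F27700 : act 5 n15763 = n14784 := d11_2 F21448 D15763 F25562
def n15764 : Q := act 4 n12691
theorem D15764 : act 4 n12691 = n15764 := rfl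
theorem F27701 : act 1 n15764 = n12693 := d7_1 D15764 (iv D12693) (iv F21447)
def n15765 : Q := act 5 n12693
theorem D15765 : act 5 n12693 = n15765 := rfl
theorem F27702 : act 0 n15765 = n12701 := d4_1 D15765 (iv D12701) (iv F21451)
theorem F27703 : act 2 n15765 = n14793 := d11_1 D15765 F25584 (iv F21452)
theorem F27704 : act 4 n15765 = n14792 := d14_1 D15765 (iv D14792) F19758 F16590 D12693
def n15766 : Q := act 3 n12694
theorem D15766 : act 3 n12694 = n15766 := rfl
theorem F27705 : act 0 n15766 = n12702 := d2_1 D15766 (iv D12702) (iv F21453)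
theorem F27706 : act 1 n15766 = n14080 := d6_1 D15766 (iv F27181) F27179
theorem F27707 : act 4 n15766 = n14791 := d12_2 D12694 D15766 (iv D14791) F19758 (iv F16593)
theorem F27708 : act 5 n15766 = n14077 := d13_2 F26425 D15766 (iv F26424)
def n15767 : Q := act 0 n12699
theorem D15767 : act 0 n12699 = n15767 := rfl
theorem F27709 : act 1 n15767 = n14781 := d0_2 D12699 D15767 F25557 F19748 (iv F16600)
theorem F27710 : act 3 n15767 = n14774 := d2_2 (iv F21461) D15767 F25538
theorem F27711 : act 5 n15767 = n14323 := d4_2 (iv F21462) D15767 F24567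
def n15768 : Q := act 4 n12699
theorem D15768 : act 4 n12699 = n15768 := rfl
theorem F27712 : act 1 n15768 = n12700 := d7_1 D15768 (iv D12700) D12699
theorem F27713 : act 2 n15768 = n14333 := d10_1 D15768 F24601 F23772
theorem F27714 : act 5 n15768 = n14332 := d14_2 (iv F21462) D15768 (iv D14332) F18927 (iv F19714)
def n15769 : Q := act 3 n12700
theorem D15769 : act 3 n12700 = n15769 := rfl
theorem F27715 : act 0 n15769 = n14797 := d2_1 D15769 (iv D14797) (iv F21463)
theorem F27716 : act 4 n15769 = n14777 := d12_2 D12700 D15769 (iv D14777) (iv D11719) (iv F16601)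
def n15770 : Q := act 5 n12700
theorem D15770 : act 5 n12700 = n15770 := rfl
theorem F27717 : act 0 n15770 = n14793 := d4_1 D15770 F25584 (iv F21463)
theorem F27718 : act 1 n15770 = n14332 := d8_1 D15770 (iv F27714) F27712
theorem F27719 : act 2 n15770 = n12701 := d11_1 D15770 (iv D12701) (iv F21464)
theorem F27720 : act 4 n15770 = n14331 := d14_1 D15770 F24597 F19728 F16602 D12700
def n15771 : Q := act 1 n12703
theorem D15771 : act 1 n12703 = n15771 := rfl
def n15772 : Q := act 0 n12708
theorem D15772 : act 0 n12708 = n15772 := rfl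
theorem F27721 : act 1 n15772 = n12712 := d0_2 D12708 D15772 (iv D12712) (iv D9954) (iv F16611)
def n15773 : Q := act 3 n12708
theorem D15773 : act 3 n12708 = n15773 := rfl
theorem F27722 : act 1 n15773 = n12709 := d6_1 D15773 (iv D12709) D12708
theorem F27723 : act 2 n14903 = n15773 := d5_0 F27722 F21470 F19921 D11833 D14903
theorem F27724 : act 5 n15136 = n15773 := d8_0 F27722 (iv F21471) D15136
def n15774 : Q := act 5 n12708
theorem D15774 : act 5 n12708 = n15774 := rfl
theorem F27725 : act 1 n15774 = n12710 := d8_1 D15774 (iv D12710) D12708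
theorem F27726 : act 3 n15774 = n15136 := d13_1 D15774 F27724 (iv D15773)
def n15775 : Q := act 4 n12709
theorem D15775 : act 4 n12709 = n15775 := rfl
theorem F27727 : act 0 n15775 = n12715 := d3_1 D15775 (iv D12715) (iv F21469)
theorem F27728 : act 2 n15775 = n14902 := d10_1 D15775 (iv D14902) (iv F21470)
def n15776 : Q := act 4 n12710
theorem D15776 : act 4 n12710 = n15776 := rfl
theorem F27729 : act 0 n15776 = n12717 := d3_1 D15776 (iv D12717) (iv F21472)
theorem F27730 : act 2 n15776 = n12711 := d10_1 D15776 (iv D12711) (iv F21473)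
def n15777 : Q := act 3 n12712
theorem D15777 : act 3 n12712 = n15777 := rfl
theorem F27731 : act 0 n15777 = n12713 := d2_1 D15777 (iv D12713) D12712
def n15778 : Q := act 2 n12713
theorem D15778 : act 2 n12713 = n15778 := rfl
def n15779 : Q := act 4 n12713
theorem D15779 : act 4 n12713 = n15779 := rfl
theorem F27732 : act 1 n15779 = n12715 := d7_1 D15779 (iv D12715) (iv F21477)
def n15780 : Q := act 1 n12714
theorem D15780 : act 1 n12714 = n15780 := rfl
theorem F27733 : act 0 n15780 = n14899 := d0_1 D15780 F25783 F19916 (iv F19921) (iv F21478)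
theorem F27734 : act 3 n15780 = n14898 := d6_2 (iv F21479) D15780 F25781
theorem F27735 : act 5 n15780 = n15134 := d8_2 F21480 D15780 F26324
def n15781 : Q := act 4 n12714
theorem D15781 : act 4 n12714 = n15781 := rfl
theorem F27736 : act 0 n15781 = n14902 := d3_1 D15781 (iv D14902) (iv F21478)
theorem F27737 : act 2 n15781 = n12715 := d10_1 D15781 (iv D12715) D12714
def n15782 : Q := act 5 n12715
theorem D15782 : act 5 n12715 = n15782 := rfl
def n15783 : Q := act 4 n12716
theorem D15783 : act 4 n12716 = n15783 := rfl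
theorem F27738 : act 0 n15783 = n15137 := d3_1 D15783 (iv D15137) (iv F21481)
theorem F27739 : act 2 n15783 = n15135 := d10_1 D15783 (iv D15135) (iv F21482)
def n15784 : Q := act 0 n12718
theorem D15784 : act 0 n12718 = n15784 := rfl
theorem F27740 : act 1 n15784 = n12722 := d0_2 D12718 D15784 (iv D12722) (iv D9962) (iv F16621)
theorem F27741 : act 2 n15784 = n12738 := d1_2 (iv F21485) D15784 (iv D12738)
theorem F27742 : act 5 n15784 = n12728 := d4_2 (iv F26945) D15784 (iv F26941)
theorem F27743 : act 3 n15498 = n15784 := d13_3 F27742 (iv F21828) D15498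
def n15785 : Q := act 3 n12718
theorem D15785 : act 3 n12718 = n15785 := rfl
theorem F27744 : act 0 n15785 = n15498 := d2_1 D15785 F27743 (iv D15784)
theorem F27745 : act 1 n15785 = n12719 := d6_1 D15785 (iv D12719) D12718
theorem F27746 : act 2 n15785 = n15629 := d9_1 D15785 (iv D15629) F21221 D12584 (iv F23669) F26174 F26171 (iv F21828) (iv F27117) (iv F27118) F21226 F16467 (iv F16534) (iv F16639) (iv F21485)
theorem F27747 : act 5 n15785 = n15207 := d13_2 (iv F26945) D15785 (iv F26944)
def n15786 : Q := act 4 n12719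
theorem D15786 : act 4 n12719 = n15786 := rfl
theorem F27748 : act 0 n15786 = n12725 := d3_1 D15786 (iv D12725) (iv F21486)
def n15787 : Q := act 4 n12723
theorem D15787 : act 4 n12723 = n15787 := rfl
theorem F27749 : act 1 n15787 = n12725 := d7_1 D15787 (iv D12725) (iv F21493)
def n15788 : Q := act 1 n12724
theorem D15788 : act 1 n12724 = n15788 := rfl
theorem F27750 : act 0 n15788 = n15631 := d0_1 D15788 (iv D15631) F21233 (iv F24089) F24088
theorem F27751 : act 2 n15788 = n15634 := d5_2 D12724 D15788 F27427 F23788 F21493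
theorem F27752 : act 5 n15788 = n15039 := d8_2 F24136 D15788 F26071
def n15789 : Q := act 4 n12724
theorem D15789 : act 4 n12724 = n15789 := rfl
theorem F27753 : act 2 n15789 = n12725 := d10_1 D15789 (iv D12725) D12724
def n15790 : Q := act 5 n12725
theorem D15790 : act 5 n12725 = n15790 := rfl
def n15791 : Q := act 4 n12726
theorem D15791 : act 4 n12726 = n15791 := rfl
theorem F27754 : act 0 n15791 = n15206 := d3_1 D15791 (iv F26492) F24137
theorem F27755 : act 1 n15791 = n12734 := d7_1 D15791 (iv D12734) (iv F21495)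
theorem F27756 : act 2 n15791 = n15037 := d10_1 D15791 F26066 F24135
theorem F27757 : act 3 n15791 = n15205 := d12_1 D15791 (iv F26933) (iv F26934) (iv D12727) (iv F21496)
def n15792 : Q := act 2 n12732
theorem D15792 : act 2 n12732 = n15792 := rfl
theorem F27758 : act 0 n15792 = n12737 := d1_1 D15792 (iv D12737) (iv F21504)
theorem F27759 : act 4 n15792 = n14403 := d10_2 (iv F24616) D15792 F24763
theorem F27760 : act 5 n15792 = n14414 := d11_2 F24632 D15792 F24775
def n15793 : Q := act 1 n12733
theorem D15793 : act 1 n12733 = n15793 := rfl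
theorem F27761 : act 0 n15793 = n15343 := d0_1 D15793 F26792 F20691 (iv F21168) (iv F21505)
theorem F27762 : act 2 n15793 = n15039 := d5_2 D12733 D15793 F26071 F24135 F21495
theorem F27763 : act 3 n15793 = n15342 := d6_2 (iv F21506) D15793 F26788
theorem F27764 : act 4 n15793 = n15038 := d7_2 F21822 D15793 (iv F26070)
theorem F27765 : act 5 n15793 = n15634 := d8_2 F23789 D15793 F27427
def n15794 : Q := act 5 n12734
theorem D15794 : act 5 n12734 = n15794 := rfl
theorem F27766 : act 0 n15794 = n15200 := d4_1 D15794 F26479 (iv F21820)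
theorem F27767 : act 2 n15794 = n15052 := d11_1 D15794 F26117 (iv F21821)
theorem F27768 : act 3 n15794 = n15197 := d13_1 D15794 F26472 F21819
def n15795 : Q := act 5 n12735
theorem D15795 : act 5 n12735 = n15795 := rfl
theorem F27769 : act 0 n15795 = n15494 := d4_1 D15795 (iv D15494) (iv F21817)
theorem F27770 : act 2 n15795 = n15502 := d11_1 D15795 (iv D15502) F21816
theorem F27771 : act 3 n15795 = n12736 := d13_1 D15795 (iv D12736) D12735
def n15796 : Q := act 3 n12737
theorem D15796 : act 3 n12737 = n15796 := rfl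
theorem F27772 : act 1 n15796 = n14411 := d6_1 D15796 (iv D14411) (iv F21508)
theorem F27773 : act 5 n15796 = n14418 := d13_2 (iv F21510) D15796 (iv D14418)
def n15797 : Q := act 2 n12741
theorem D15797 : act 2 n12741 = n15797 := rfl
theorem F27774 : act 0 n15797 = n12753 := d1_1 D15797 (iv D12753) (iv F21516)
theorem F27775 : act 4 n15797 = n15716 := d10_2 (iv F21517) D15797 (iv D15716)
theorem F27776 : act 5 n15797 = n12764 := d11_2 (iv F25277) D15797 F25278
theorem F27777 : act 3 n15797 = n12765 := d15_1 D15797 F21558 F16673 F12731 (iv F12718) (iv F16657) (iv F21540) (iv D12754) (iv F21516)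
def n15798 : Q := act 4 n12745
theorem D15798 : act 4 n12745 = n15798 := rfl
theorem F27778 : act 0 n15798 = n12748 := d3_1 D15798 (iv D12748) (iv F21524)
theorem F27779 : act 1 n15798 = n15714 := d7_1 D15798 (iv D15714) (iv F21525)
theorem F27780 : act 2 n15798 = n12815 := d10_1 D15798 (iv D12815) (iv F21526)
def n15799 : Q := act 4 n12747
theorem D15799 : act 4 n12747 = n15799 := rfl
theorem F27781 : act 0 n15799 = n12815 := d3_1 D15799 (iv D12815) (iv F21529)
theorem F27782 : act 1 n15799 = n15707 := d7_1 D15799 (iv D15707) (iv F21530)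
theorem F27783 : act 2 n15799 = n12748 := d10_1 D15799 (iv D12748) D12747
def n15800 : Q := act 3 n12748
theorem D15800 : act 3 n12748 = n15800 := rfl
theorem F27784 : act 1 n15800 = n12750 := d6_1 D15800 (iv D12750) (iv F21532)
theorem F27785 : act 4 n15800 = n12749 := d12_2 D12748 D15800 (iv D12749) (iv D9981) D9980
def n15801 : Q := act 5 n12748
theorem D15801 : act 5 n12748 = n15801 := rfl
theorem F27786 : act 1 n15801 = n12751 := d8_1 D15801 (iv D12751) (iv F21532)
def n15802 : Q := act 2 n12750
theorem D15802 : act 2 n12750 = n15802 := rfl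
theorem F27787 : act 0 n15802 = n15716 := d1_1 D15802 (iv D15716) (iv F21534)
theorem F27788 : act 4 n15802 = n12753 := d10_2 (iv F21535) D15802 (iv D12753)
def n15803 : Q := act 5 n12750
theorem D15803 : act 5 n12750 = n15803 := rfl
theorem F27789 : act 0 n15803 = n15717 := d4_1 D15803 (iv D15717) (iv F21534)
theorem F27790 : act 3 n15803 = n12751 := d13_1 D15803 (iv D12751) D12750
def n15804 : Q := act 4 n12751
theorem D15804 : act 4 n12751 = n15804 := rfl
theorem F27791 : act 0 n15804 = n12879 := d3_1 D15804 F21759 (iv F21536)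
theorem F27792 : act 2 n15804 = n13821 := d10_1 D15804 F23668 (iv F21537)
theorem F27793 : act 5 n15804 = n12752 := d14_2 D12751 D15804 (iv D12752) (iv D9983) D9982
theorem F27794 : act 3 n12878 = n15804 := d2_0 F27791 (iv D12879) D12878
def n15805 : Q := act 3 n12752
theorem D15805 : act 3 n12752 = n15805 := rfl
theorem F27795 : act 0 n15805 = n12880 := d2_1 D15805 F21762 (iv F21538)
theorem F27796 : act 4 n15805 = n12756 := d12_2 D12752 D15805 (iv D12756) (iv D9986) (iv F16656)
theorem F27797 : act 5 n15805 = n12878 := d13_2 F27793 D15805 F27794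
theorem F27798 : act 2 n15805 = n12885 := d15_6 D12886 (iv F23428) F23427 F23127 (iv F21539) D15805 (iv F22740) F22742 F21763
def n15806 : Q := act 1 n12753
theorem D15806 : act 1 n12753 = n15806 := rfl
def n15807 : Q := act 3 n12753
theorem D15807 : act 3 n12753 = n15807 := rfl
theorem F27799 : act 0 n15807 = n12765 := d2_1 D15807 (iv F27777) F27774
theorem F27800 : act 2 n15807 = n12760 := d9_1 D15807 F21553 F16668 (iv F16646) (iv F21519) (iv F25276) (iv F25278) (iv D12764) (iv D9994) (iv D7708) F9643 (iv F9633) (iv F12715) D9984 D12753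
theorem F27801 : act 5 n15807 = n12759 := d15_8 (iv D9994) (iv D7708) F9643 (iv F9633) (iv F12715) D9984 D12753 D15807 F21550
def n15808 : Q := act 5 n12753
theorem D15808 : act 5 n12753 = n15808 := rfl
theorem F27802 : act 0 n15808 = n12764 := d4_1 D15808 (iv F27776) F27774
theorem F27803 : act 2 n15808 = n12754 := d11_1 D15808 (iv D12754) D12753
theorem F27804 : act 3 n15808 = n12759 := d13_1 D15808 (iv F27801) (iv D15807)
def n15809 : Q := act 2 n12757
theorem D15809 : act 2 n12757 = n15809 := rfl
theorem F27805 : act 0 n15809 = n13206 := d1_1 D15809 (iv D13206) (iv F21543)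
theorem F27806 : act 4 n15809 = n13352 := d10_2 (iv F21545) D15809 (iv D13352)
def n15810 : Q := act 5 n12757
theorem D15810 : act 5 n12757 = n15810 := rfl
theorem F27807 : act 0 n15810 = n13208 := d4_1 D15810 (iv D13208) (iv F21543)
theorem F27808 : act 1 n15810 = n12760 := d8_1 D15810 (iv D12760) (iv F21544)
theorem F27809 : act 3 n15810 = n12758 := d13_1 D15810 (iv D12758) D12757
def n15811 : Q := act 1 n12759
theorem D15811 : act 1 n12759 = n15811 := rfl
theorem F27810 : act 4 n15811 = n13562 := d7_2 (iv F21551) D15811 (iv D13562)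
def n15812 : Q := act 4 n12760
theorem D15812 : act 4 n12760 = n15812 := rfl
theorem F27811 : act 0 n15812 = n12766 := d3_1 D15812 (iv D12766) (iv F21552)
theorem F27812 : act 5 n15812 = n13565 := d14_2 D12760 D15812 (iv D13565) (iv D10649) (iv F16666)
def n15813 : Q := act 1 n12761
theorem D15813 : act 1 n12761 = n15813 := rfl
theorem F27813 : act 4 n15813 = n12763 := d7_2 (iv F21555) D15813 (iv D12763)
def n15814 : Q := act 4 n12762
theorem D15814 : act 4 n12762 = n15814 := rfl
theorem F27814 : act 0 n15814 = n13565 := d3_1 D15814 (iv D13565) (iv F21556)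
theorem F27815 : act 5 n15814 = n12766 := d14_2 D12762 D15814 (iv D12766) (iv D9995) (iv F16670)
def n15815 : Q := act 0 n12763
theorem D15815 : act 0 n12763 = n15815 := rfl
def n15816 : Q := act 5 n12763
theorem D15816 : act 5 n12763 = n15816 := rfl
theorem F27816 : act 1 n15816 = n12765 := d8_1 D15816 (iv D12765) D12763
theorem F27817 : act 2 n15816 = n13195 := d11_1 D15816 (iv F25147) F25145
def n15817 : Q := act 4 n12765
theorem D15817 : act 4 n12765 = n15817 := rfl
theorem F27818 : act 2 n15817 = n12766 := d10_1 D15817 (iv D12766) (iv F21558)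
def n15818 : Q := act 5 n12767
theorem D15818 : act 5 n12767 = n15818 := rfl
theorem F27819 : act 0 n15818 = n12957 := d4_1 D15818 (iv D12957) (iv F21559)
theorem F27820 : act 1 n15818 = n12769 := d8_1 D15818 (iv D12769) (iv F21560)
theorem F27821 : act 3 n15818 = n13507 := d13_1 D15818 (iv D13507) (iv F21561)
def n15819 : Q := act 2 n12768
theorem D15819 : act 2 n12768 = n15819 := rfl
theorem F27822 : act 0 n15819 = n12780 := d1_1 D15819 (iv D12780) (iv F21562)
theorem F27823 : act 4 n15819 = n13505 := d10_2 (iv F21564) D15819 (iv D13505)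
theorem F27824 : act 3 n15819 = n12805 := d15_1 D15819 F21627 F16730 F12769 (iv F12745) (iv F16700) (iv F21592) (iv D12781) (iv F21562)
theorem F27825 : act 5 n12804 = n15819 := d13_0 F27824 (iv D12805) D12804
def n15820 : Q := act 5 n12768
theorem D15820 : act 5 n12768 = n15820 := rfl
theorem F27826 : act 0 n15820 = n12781 := d4_1 D15820 (iv D12781) (iv F21562)
theorem F27827 : act 1 n15820 = n13507 := d8_1 D15820 (iv D13507) (iv F21563)
theorem F27828 : act 2 n15820 = n12804 := d11_1 D15820 F27825 (iv D15819)
theorem F27829 : act 3 n15820 = n12769 := d13_1 D15820 (iv D12769) D12768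
def n15821 : Q := act 4 n12769
theorem D15821 : act 4 n12769 = n15821 := rfl
theorem F27830 : act 0 n15821 = n12782 := d3_1 D15821 (iv D12782) (iv F21565)
theorem F27831 : act 2 n15821 = n12771 := d10_1 D15821 (iv D12771) (iv F21566)
theorem F27832 : act 5 n15821 = n12770 := d14_2 D12769 D15821 (iv D12770) (iv D9998) D9997
def n15822 : Q := act 3 n12770
theorem D15822 : act 3 n12770 = n15822 := rfl
theorem F27833 : act 0 n15822 = n12783 := d2_1 D15822 (iv D12783) (iv F21567)
def n15823 : Q := act 2 n12772
theorem D15823 : act 2 n12772 = n15823 := rfl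
theorem F27834 : act 0 n15823 = n12784 := d1_1 D15823 (iv D12784) (iv F21571)
theorem F27835 : act 4 n15823 = n12773 := d10_2 (iv F21572) D15823 (iv D12773)
def n15824 : Q := act 1 n12773
theorem D15824 : act 1 n12773 = n15824 := rfl
theorem F27836 : act 5 n15824 = n12797 := d8_2 (iv F21574) D15824 (iv D12797)
def n15825 : Q := act 5 n12774
theorem D15825 : act 5 n12774 = n15825 := rfl
theorem F27837 : act 0 n15825 = n12776 := d4_1 D15825 (iv D12776) (iv F21575)
theorem F27838 : act 1 n15825 = n12957 := d8_1 D15825 (iv D12957) (iv F21576)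
theorem F27839 : act 2 n15825 = n12788 := d11_1 D15825 (iv D12788) (iv F21577)
theorem F27840 : act 3 n15825 = n13515 := d13_1 D15825 (iv D13515) (iv F21578)
theorem F27841 : act 4 n15825 = n12968 := d14_1 D15825 (iv D12968) (iv D10170) (iv F16687) D12774
def n15826 : Q := act 2 n12775
theorem D15826 : act 2 n12775 = n15826 := rfl
theorem F27842 : act 0 n15826 = n13513 := d1_1 D15826 F22964 (iv F21579)
theorem F27843 : act 4 n15826 = n13509 := d10_2 (iv F21581) D15826 (iv D13509)
def n15827 : Q := act 5 n12775
theorem D15827 : act 5 n12775 = n15827 := rfl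
theorem F27844 : act 0 n15827 = n13515 := d4_1 D15827 (iv D13515) (iv F21579)
theorem F27845 : act 1 n15827 = n12781 := d8_1 D15827 (iv D12781) (iv F21580)
theorem F27846 : act 3 n15827 = n12776 := d13_1 D15827 (iv D12776) D12775
def n15828 : Q := act 2 n12777
theorem D15828 : act 2 n12777 = n15828 := rfl
theorem F27847 : act 0 n15828 = n13505 := d1_1 D15828 (iv D13505) (iv F21585)
theorem F27848 : act 4 n15828 = n12780 := d10_2 (iv F21587) D15828 (iv D12780)
def n15829 : Q := act 5 n12777
theorem D15829 : act 5 n12777 = n15829 := rfl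
theorem F27849 : act 0 n15829 = n13500 := d4_1 D15829 F22946 (iv F21585)
theorem F27850 : act 1 n15829 = n13510 := d8_1 D15829 (iv D13510) (iv F21586)
theorem F27851 : act 3 n15829 = n12778 := d13_1 D15829 (iv D12778) D12777
def n15830 : Q := act 4 n12778
theorem D15830 : act 4 n12778 = n15830 := rfl
theorem F27852 : act 0 n15830 = n13506 := d3_1 D15830 (iv D13506) (iv F21588)
theorem F27853 : act 1 n15830 = n12965 := d7_1 D15830 F21962 (iv F21589)
theorem F27854 : act 2 n15830 = n15130 := d10_1 D15830 (iv D15130) (iv F21590)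
theorem F27855 : act 5 n15830 = n12779 := d14_2 D12778 D15830 (iv D12779) (iv D10006) D10005
def n15831 : Q := act 3 n12779
theorem D15831 : act 3 n12779 = n15831 := rfl
theorem F27856 : act 1 n15831 = n12964 := d6_1 D15831 (iv D12964) (iv F21591)
theorem F27857 : act 4 n15831 = n12783 := d12_2 D12779 D15831 (iv D12783) (iv D10009) (iv F16699)
def n15832 : Q := act 1 n12780
theorem D15832 : act 1 n12780 = n15832 := rfl
def n15833 : Q := act 3 n12780
theorem D15833 : act 3 n12780 = n15833 := rfl
theorem F27858 : act 0 n15833 = n12805 := d2_1 D15833 (iv F27824) F27822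
theorem F27859 : act 2 n15833 = n12796 := d9_1 D15833 F21619 F16724 (iv F16681) (iv F21566) (iv F27829) F27828 (iv D12804) (iv D10026) (iv D7735) F9663 (iv F9648) (iv F12741) D10007 D12780
theorem F27860 : act 5 n15833 = n12795 := d15_8 (iv D10026) (iv D7735) F9663 (iv F9648) (iv F12741) D10007 D12780 D15833 F21617
theorem F27861 : act 4 n15621 = n15833 := d10_0 F27859 (iv F21620) D15621
def n15834 : Q := act 5 n12780
theorem D15834 : act 5 n12780 = n15834 := rfl
theorem F27862 : act 0 n15834 = n12804 := d4_1 D15834 F27825 F27822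
theorem F27863 : act 2 n15834 = n12781 := d11_1 D15834 (iv D12781) D12780
theorem F27864 : act 3 n15834 = n12795 := d13_1 D15834 (iv F27860) (iv D15833)
def n15835 : Q := act 4 n12781
theorem D15835 : act 4 n12781 = n15835 := rfl
def n15836 : Q := act 3 n12782
theorem D15836 : act 3 n12782 = n15836 := rfl
theorem F27865 : act 1 n15836 = n13025 := d6_1 D15836 F22093 (iv F21593)
theorem F27866 : act 5 n15836 = n12783 := d13_2 (iv F21595) D15836 (iv D12783)
def n15837 : Q := act 2 n12783
theorem D15837 : act 2 n12783 = n15837 := rfl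
def n15838 : Q := act 1 n12784
theorem D15838 : act 1 n12784 = n15838 := rfl
theorem F27867 : act 2 n15838 = n12790 := d5_2 D12784 D15838 (iv D12790) (iv D10016) (iv F16705)
theorem F27868 : act 4 n15838 = n12785 := d7_2 (iv F21597) D15838 (iv D12785)
theorem F27869 : act 5 n15838 = n12822 := d8_2 F25922 D15838 (iv F25920)
def n15839 : Q := act 3 n12784
theorem D15839 : act 3 n12784 = n15839 := rfl
def n15840 : Q := act 0 n12785
theorem D15840 : act 0 n12785 = n15840 := rfl
theorem F27870 : act 2 n15840 = n12791 := d1_2 (iv F21598) D15840 (iv D12791)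
theorem F27871 : act 5 n15840 = n12806 := d4_2 (iv F21599) D15840 (iv D12806)
def n15841 : Q := act 3 n12785
theorem D15841 : act 3 n12785 = n15841 := rfl
theorem F27872 : act 1 n15841 = n12786 := d6_1 D15841 (iv D12786) D12785
theorem F27873 : act 5 n15841 = n12807 := d13_2 (iv F21599) D15841 (iv D12807)
def n15842 : Q := act 4 n12786
theorem D15842 : act 4 n12786 = n15842 := rfl
def n15843 : Q := act 2 n12787
theorem D15843 : act 2 n12787 = n15843 := rfl
theorem F27874 : act 0 n15843 = n12789 := d1_1 D15843 (iv D12789) (iv F21601)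
theorem F27875 : act 4 n15843 = n13008 := d10_2 (iv F21603) D15843 (iv D13008)
def n15844 : Q := act 3 n12789
theorem D15844 : act 3 n12789 = n15844 := rfl
def n15845 : Q := act 0 n12790
theorem D15845 : act 0 n12790 = n15845 := rfl
theorem F27876 : act 1 n15845 = n15588 := d0_2 D12790 D15845 F27338 F21141 (iv F16714)
theorem F27877 : act 3 n15845 = n12820 := d2_2 (iv F21608) D15845 F21655
theorem F27878 : act 4 n15845 = n12791 := d3_2 (iv F21609) D15845 (iv D12791)
theorem F27879 : act 5 n15845 = n12819 := d4_2 (iv F21610) D15845 F21652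
def n15846 : Q := act 2 n12792
theorem D15846 : act 2 n12792 = n15846 := rfl
def n15847 : Q := act 2 n12793
theorem D15847 : act 2 n12793 = n15847 := rfl
theorem F27880 : act 0 n15847 = n12801 := d1_1 D15847 (iv D12801) (iv F21614)
theorem F27881 : act 4 n15847 = n12795 := d10_2 (iv F21615) D15847 (iv D12795)
def n15848 : Q := act 5 n12793
theorem D15848 : act 5 n12793 = n15848 := rfl
theorem F27882 : act 0 n15848 = n12802 := d4_1 D15848 (iv D12802) (iv F21614)
theorem F27883 : act 3 n15848 = n12794 := d13_1 D15848 (iv D12794) D12793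
theorem F27884 : act 4 n15848 = n15622 := d14_1 D15848 (iv D15622) F21620 (iv D12796) (iv F21615)
def n15849 : Q := act 1 n12795
theorem D15849 : act 1 n12795 = n15849 := rfl
def n15850 : Q := act 0 n12797
theorem D15850 : act 0 n12797 = n15850 := rfl
theorem F27885 : act 1 n15850 = n12806 := d0_2 D12797 D15850 (iv D12806) (iv D10028) (iv F16726)
theorem F27886 : act 2 n15850 = n15710 := d1_2 F25622 D15850 F27585
theorem F27887 : act 4 n15850 = n15709 := d3_2 F25905 D15850 F27582
def n15851 : Q := act 3 n12797
theorem D15851 : act 3 n12797 = n15851 := rfl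
theorem F27888 : act 1 n15851 = n12798 := d6_1 D15851 (iv D12798) D12797
def n15852 : Q := act 4 n12798
theorem D15852 : act 4 n12798 = n15852 := rfl
theorem F27889 : act 0 n15852 = n12809 := d3_1 D15852 (iv D12809) (iv F21621)
theorem F27890 : act 3 n15852 = n15388 := d12_1 D15852 (iv D15388) F20779 F20018 D12798
def n15853 : Q := act 2 n12799
theorem D15853 : act 2 n12799 = n15853 := rfl
def n15854 : Q := act 5 n12799
theorem D15854 : act 5 n12799 = n15854 := rfl
theorem F27891 : act 3 n15854 = n12800 := d13_1 D15854 (iv D12800) D12799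
def n15855 : Q := act 1 n12801
theorem D15855 : act 1 n12801 = n15855 := rfl
theorem F27892 : act 4 n15855 = n12803 := d7_2 (iv F21623) D15855 (iv D12803)
def n15856 : Q := act 3 n12801
theorem D15856 : act 3 n12801 = n15856 := rfl
def n15857 : Q := act 5 n12801
theorem D15857 : act 5 n12801 = n15857 := rfl
theorem F27893 : act 2 n15857 = n12802 := d11_1 D15857 (iv D12802) D12801
theorem F27894 : act 4 n15857 = n15626 := d14_1 D15857 (iv D15626) F21628 (iv D12805) (iv F21623)
def n15858 : Q := act 0 n12803
theorem D15858 : act 0 n12803 = n15858 := rfl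
def n15859 : Q := act 3 n12803
theorem D15859 : act 3 n12803 = n15859 := rfl
theorem F27895 : act 1 n15859 = n12804 := d6_1 D15859 (iv D12804) D12803
def n15860 : Q := act 5 n12803
theorem D15860 : act 5 n12803 = n15860 := rfl
theorem F27896 : act 1 n15860 = n12805 := d8_1 D15860 (iv D12805) D12803
theorem F27897 : act 2 n15860 = n15628 := d11_1 D15860 (iv F27414) F25883
theorem F27898 : act 4 n15624 = n15860 := d10_0 F27897 (iv D15628) (iv F27406)
def n15861 : Q := act 4 n12804
theorem D15861 : act 4 n12804 = n15861 := rfl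
def n15862 : Q := act 3 n12806
theorem D15862 : act 3 n12806 = n15862 := rfl
theorem F27899 : act 0 n15862 = n12807 := d2_1 D15862 (iv D12807) D12806
def n15863 : Q := act 2 n12807
theorem D15863 : act 2 n12807 = n15863 := rfl
def n15864 : Q := act 4 n12807
theorem D15864 : act 4 n12807 = n15864 := rfl
theorem F27900 : act 1 n15864 = n12809 := d7_1 D15864 (iv D12809) (iv F21630)
def n15865 : Q := act 1 n12808
theorem D15865 : act 1 n12808 = n15865 := rfl
def n15866 : Q := act 4 n12808
theorem D15866 : act 4 n12808 = n15866 := rfl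
theorem F27901 : act 2 n15866 = n12809 := d10_1 D15866 (iv D12809) D12808
def n15867 : Q := act 5 n12809
theorem D15867 : act 5 n12809 = n15867 := rfl
def n15868 : Q := act 5 n12810
theorem D15868 : act 5 n12810 = n15868 := rfl
theorem F27902 : act 0 n15868 = n15586 := d4_1 D15868 F27335 F21632
theorem F27903 : act 1 n15868 = n12811 := d8_1 D15868 (iv D12811) D12810
theorem F27904 : act 2 n15868 = n15353 := d11_1 D15868 F26827 F25904
theorem F27905 : act 3 n15868 = n13819 := d13_1 D15868 F23664 (iv F21631)
def n15869 : Q := act 4 n12811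
theorem D15869 : act 4 n12811 = n15869 := rfl
theorem F27906 : act 0 n15869 = n12817 := d3_1 D15869 (iv D12817) (iv F21633)
theorem F27907 : act 2 n15869 = n12812 := d10_1 D15869 (iv D12812) (iv F21634)
theorem F27908 : act 5 n15869 = n15843 := d14_2 D12811 D15869 F27875 F22063 F19795
def n15870 : Q := act 4 n12814
theorem D15870 : act 4 n12814 = n15870 := rfl
theorem F27909 : act 0 n15870 = n15595 := d3_1 D15870 (iv D15595) (iv F21642)
theorem F27910 : act 1 n15870 = n12815 := d7_1 D15870 (iv D12815) (iv F21643)
theorem F27911 : act 2 n15870 = n15593 := d10_1 D15870 (iv D15593) (iv F21644)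
def n15871 : Q := act 5 n12815
theorem D15871 : act 5 n12815 = n15871 := rfl
def n15872 : Q := act 4 n12816
theorem D15872 : act 4 n12816 = n15872 := rfl
theorem F27912 : act 1 n15872 = n15589 := d7_1 D15872 (iv D15589) (iv F21646)
def n15873 : Q := act 3 n12817
theorem D15873 : act 3 n12817 = n15873 := rfl
theorem F27913 : act 1 n15873 = n15590 := d6_1 D15873 (iv D15590) (iv F21648)
theorem F27914 : act 5 n15873 = n15844 := d13_2 (iv F21650) D15873 (iv D15844)
def n15874 : Q := act 1 n12818
theorem D15874 : act 1 n12818 = n15874 := rfl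
theorem F27915 : act 0 n15874 = n15353 := d0_1 D15874 F26826 F25906 F20025 (iv F21651)
theorem F27916 : act 2 n15874 = n15586 := d5_2 D12818 D15874 (iv D15586) (iv D12505) (iv F16746)
theorem F27917 : act 3 n15874 = n15351 := d6_2 F24154 D15874 F26820
theorem F27918 : act 5 n15874 = n15709 := d8_2 F25914 D15874 F27583
def n15875 : Q := act 4 n12818
theorem D15875 : act 4 n12818 = n15875 := rfl
theorem F27919 : act 0 n15875 = n12822 := d3_1 D15875 (iv D12822) (iv F21651)
theorem F27920 : act 2 n15875 = n12819 := d10_1 D15875 (iv D12819) D12818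
def n15876 : Q := act 4 n12821
theorem D15876 : act 4 n12821 = n15876 := rfl
def n15877 : Q := act 3 n12822
theorem D15877 : act 3 n12822 = n15877 := rfl
def n15878 : Q := act 3 n12823
theorem D15878 : act 3 n12823 = n15878 := rfl
def n15879 : Q := act 5 n12823
theorem D15879 : act 5 n12823 = n15879 := rfl
theorem F27921 : act 2 n15879 = n12824 := d11_1 D15879 (iv D12824) D12823
def n15880 : Q := act 2 n12825
theorem D15880 : act 2 n12825 = n15880 := rfl
def n15881 : Q := act 5 n12825
theorem D15881 : act 5 n12825 = n15881 := rfl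
theorem F27922 : act 1 n15881 = n12830 := d8_1 D15881 (iv D12830) (iv F21662)
theorem F27923 : act 3 n15881 = n12826 := d13_1 D15881 (iv D12826) D12825
def n15882 : Q := act 2 n12827
theorem D15882 : act 2 n12827 = n15882 := rfl
theorem F27924 : act 0 n15882 = n12834 := d1_1 D15882 (iv D12834) (iv F21665)
theorem F27925 : act 4 n15882 = n12829 := d10_2 (iv F21666) D15882 (iv D12829)
def n15883 : Q := act 5 n12827
theorem D15883 : act 5 n12827 = n15883 := rfl
theorem F27926 : act 0 n15883 = n12835 := d4_1 D15883 (iv D12835) (iv F21665)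
theorem F27927 : act 3 n15883 = n12828 := d13_1 D15883 (iv D12828) D12827
def n15884 : Q := act 1 n12829
theorem D15884 : act 1 n12829 = n15884 := rfl
def n15885 : Q := act 4 n12830
theorem D15885 : act 4 n12830 = n15885 := rfl
theorem F27928 : act 0 n15885 = n12839 := d3_1 D15885 (iv D12839) (iv F21669)
def n15886 : Q := act 2 n12832
theorem D15886 : act 2 n12832 = n15886 := rfl
def n15887 : Q := act 5 n12832
theorem D15887 : act 5 n12832 = n15887 := rfl
theorem F27929 : act 3 n15887 = n12833 := d13_1 D15887 (iv D12833) D12832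
def n15888 : Q := act 1 n12834
theorem D15888 : act 1 n12834 = n15888 := rfl
theorem F27930 : act 4 n15888 = n12836 := d7_2 (iv F21673) D15888 (iv D12836)
def n15889 : Q := act 3 n12834
theorem D15889 : act 3 n12834 = n15889 := rfl
def n15890 : Q := act 5 n12834
theorem D15890 : act 5 n12834 = n15890 := rfl
theorem F27931 : act 2 n15890 = n12835 := d11_1 D15890 (iv D12835) D12834
def n15891 : Q := act 4 n12835
theorem D15891 : act 4 n12835 = n15891 := rfl
theorem F27932 : act 5 n15891 = n12839 := d14_2 D12835 D15891 (iv D12839) (iv D10056) (iv F16769)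
def n15892 : Q := act 0 n12836
theorem D15892 : act 0 n12836 = n15892 := rfl
def n15893 : Q := act 3 n12836
theorem D15893 : act 3 n12836 = n15893 := rfl
theorem F27933 : act 1 n15893 = n12837 := d6_1 D15893 (iv D12837) D12836
def n15894 : Q := act 5 n12836
theorem D15894 : act 5 n12836 = n15894 := rfl
theorem F27934 : act 1 n15894 = n12838 := d8_1 D15894 (iv D12838) D12836
def n15895 : Q := act 4 n12837
theorem D15895 : act 4 n12837 = n15895 := rfl
def n15896 : Q := act 4 n12838
theorem D15896 : act 4 n12838 = n15896 := rfl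
theorem F27935 : act 2 n15896 = n12839 := d10_1 D15896 (iv D12839) (iv F21675)
def n15897 : Q := act 5 n12840
theorem D15897 : act 5 n12840 = n15897 := rfl
def n15898 : Q := act 2 n12841
theorem D15898 : act 2 n12841 = n15898 := rfl
theorem F27936 : act 0 n15898 = n12843 := d1_1 D15898 (iv D12843) (iv F21676)
theorem F27937 : act 1 n15898 = n15657 := d5_1 D15898 F27486 F21722 (iv D12855) (iv F21677)
theorem F27938 : act 4 n15898 = n14415 := d10_2 F25568 D15898 (iv F25569)
def n15899 : Q := act 5 n12841
theorem D15899 : act 5 n12841 = n15899 := rfl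
theorem F27939 : act 0 n15899 = n12844 := d4_1 D15899 (iv D12844) (iv F21676)
theorem F27940 : act 1 n15899 = n12856 := d8_1 D15899 (iv D12856) (iv F21677)
theorem F27941 : act 3 n15899 = n12842 := d13_1 D15899 (iv D12842) D12841
def n15900 : Q := act 1 n12843
theorem D15900 : act 1 n12843 = n15900 := rfl
theorem F27942 : act 0 n15900 = n15667 := d0_1 D15900 F27511 (iv F27485) (iv F27937) F27936
theorem F27943 : act 2 n15900 = n12847 := d5_2 D12843 D15900 (iv D12847) (iv D10062) (iv F16773)
theorem F27944 : act 4 n15900 = n15666 := d7_2 F26164 D15900 F27509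
def n15901 : Q := act 3 n12843
theorem D15901 : act 3 n12843 = n15901 := rfl
def n15902 : Q := act 5 n12843
theorem D15902 : act 5 n12843 = n15902 := rfl
theorem F27945 : act 2 n15902 = n12844 := d11_1 D15902 (iv D12844) D12843
def n15903 : Q := act 4 n12844
theorem D15903 : act 4 n12844 = n15903 := rfl
theorem F27946 : act 1 n15903 = n12848 := d7_1 D15903 (iv D12848) (iv F21680)
def n15904 : Q := act 3 n12845
theorem D15904 : act 3 n12845 = n15904 := rfl
theorem F27947 : act 1 n15904 = n12849 := d6_1 D15904 (iv D12849) (iv F21682)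
theorem F27948 : act 5 n15904 = n12846 := d13_2 (iv F21683) D15904 (iv D12846)
def n15905 : Q := act 2 n12846
theorem D15905 : act 2 n12846 = n15905 := rfl
theorem F27949 : act 1 n15905 = n15503 := d5_1 D15905 F27128 F21732 (iv D12850) (iv F21684)
theorem F27950 : act 4 n15905 = n12898 := d10_2 (iv F21685) D15905 (iv D12898)
def n15906 : Q := act 0 n12847
theorem D15906 : act 0 n12847 = n15906 := rfl
theorem F27951 : act 1 n15906 = n12867 := d0_2 D12847 D15906 (iv D12867) (iv D10079) (iv F16776)
theorem F27952 : act 2 n15906 = n15667 := d1_2 F27943 D15906 (iv F27942)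
theorem F27953 : act 4 n15906 = n15664 := d3_2 F26166 D15906 F27505
def n15907 : Q := act 3 n12848
theorem D15907 : act 3 n12848 = n15907 := rfl
theorem F27954 : act 0 n15907 = n12872 := d2_1 D15907 (iv D12872) (iv F21686)
theorem F27955 : act 4 n15907 = n12849 := d12_2 D12848 D15907 (iv D12849) (iv D10064) (iv F16778)
theorem F27956 : act 5 n15907 = n12901 := d13_2 F26169 D15907 (iv F26168)
def n15908 : Q := act 2 n12849
theorem D15908 : act 2 n12849 = n15908 := rfl
theorem F27957 : act 0 n15908 = n12873 := d1_1 D15908 (iv D12873) (iv F21687)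
theorem F27958 : act 3 n15908 = n12877 := d9_2 D12849 D15908 (iv D12877) (iv D10087) (iv D7786) (iv D5934) (iv F9712) D7784 D10084 F21125 (iv F23099) (iv F23101) (iv D12851) (iv D10066) (iv F16780)
theorem F27959 : act 5 n15908 = n12850 := d11_2 (iv F21688) D15908 (iv D12850)
theorem F27960 : act 1 n15504 = n15908 := d8_3 F27959 (iv F21732) D15504
def n15909 : Q := act 5 n12855
theorem D15909 : act 5 n12855 = n15909 := rfl
theorem F27961 : act 0 n15909 = n12861 := d4_1 D15909 (iv D12861) (iv F21698)
theorem F27962 : act 1 n15909 = n15658 := d8_1 D15909 (iv D15658) F21722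
theorem F27963 : act 2 n15909 = n12856 := d11_1 D15909 (iv D12856) D12855
theorem F27964 : act 3 n15909 = n12881 := d13_1 D15909 F21753 F21723
def n15910 : Q := act 4 n12856
theorem D15910 : act 4 n12856 = n15910 := rfl
theorem F27965 : act 0 n15910 = n12862 := d3_1 D15910 (iv D12862) (iv F21699)
def n15911 : Q := act 5 n12857
theorem D15911 : act 5 n12857 = n15911 := rfl
theorem F27966 : act 0 n15911 = n15655 := d4_1 D15911 (iv D15655) F21719
theorem F27967 : act 1 n15911 = n14579 := d8_1 D15911 F25086 (iv F21711)
theorem F27968 : act 2 n15911 = n12858 := d11_1 D15911 (iv D12858) D12857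
theorem F27969 : act 3 n15911 = n14578 := d13_1 D15911 F25084 (iv F21718)
def n15912 : Q := act 4 n12858
theorem D15912 : act 4 n12858 = n15912 := rfl
theorem F27970 : act 1 n15912 = n12864 := d7_1 D15912 (iv D12864) (iv F21702)
theorem F27971 : act 5 n15912 = n12862 := d14_2 D12858 D15912 (iv D12862) (iv D10074) (iv F16793)
def n15913 : Q := act 5 n12859
theorem D15913 : act 5 n12859 = n15913 := rfl
theorem F27972 : act 0 n15913 = n15665 := d4_1 D15913 (iv D15665) F21713
theorem F27973 : act 1 n15913 = n12861 := d8_1 D15913 (iv D12861) D12859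
theorem F27974 : act 2 n15913 = n12869 := d11_1 D15913 (iv D12869) (iv F21704)
theorem F27975 : act 3 n15913 = n15672 := d13_1 D15913 (iv D15672) F21714
def n15914 : Q := act 4 n12861
theorem D15914 : act 4 n12861 = n15914 := rfl
theorem F27976 : act 2 n15914 = n12862 := d10_1 D15914 (iv D12862) (iv F21705)
def n15915 : Q := act 3 n12864
theorem D15915 : act 3 n12864 = n15915 := rfl
theorem F27977 : act 0 n15915 = n12901 := d2_1 D15915 (iv F26168) F26167
theorem F27978 : act 4 n15915 = n12865 := d12_2 D12864 D15915 (iv D12865) (iv D10077) (iv F16798)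
theorem F27979 : act 5 n15915 = n12872 := d13_2 (iv F21724) D15915 (iv D12872)
def n15916 : Q := act 2 n12865
theorem D15916 : act 2 n12865 = n15916 := rfl
theorem F27980 : act 0 n15916 = n12900 := d1_1 D15916 F21833 (iv F21725)
theorem F27981 : act 3 n15916 = n12904 := d9_2 D12865 D15916 (iv D12904) (iv D10109) (iv D7806) (iv D5950) (iv F9727) D7804 D10106 F21731 (iv F19089) F21773 F21772 F16822 (iv F16800)
theorem F27982 : act 5 n15916 = n12866 := d11_2 (iv F21726) D15916 (iv D12866)
theorem F27983 : act 1 n15505 = n15916 := d8_3 F27982 (iv F23003) (iv F27132)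
def n15917 : Q := act 3 n12867
theorem D15917 : act 3 n12867 = n15917 := rfl
theorem F27984 : act 0 n15917 = n12868 := d2_1 D15917 (iv D12868) D12867
def n15918 : Q := act 5 n12867
theorem D15918 : act 5 n12867 = n15918 := rfl
theorem F27985 : act 0 n15918 = n12869 := d4_1 D15918 (iv D12869) D12867
theorem F27986 : act 2 n15918 = n15665 := d11_1 D15918 (iv D15665) (iv F21733)
def n15919 : Q := act 2 n12868
theorem D15919 : act 2 n12868 = n15919 := rfl
theorem F27987 : act 1 n15919 = n14575 := d5_1 D15919 F25079 (iv F19630) F19631 (iv F21735)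
theorem F27988 : act 5 n15919 = n14572 := d11_2 F25425 D15919 (iv F25422)
theorem F27989 : act 4 n14571 = n15919 := d14_5 F27988 (iv D14572) (iv D11536) D11535 D14571
def n15920 : Q := act 4 n12868
theorem D15920 : act 4 n12868 = n15920 := rfl
theorem F27990 : act 1 n15920 = n12870 := d7_1 D15920 (iv D12870) (iv F21735)
theorem F27991 : act 2 n15920 = n14571 := d10_1 D15920 F27989 (iv D15919)
theorem F27992 : act 3 n15920 = n14570 := d12_1 D15920 (iv D14570) (iv F21707) F21708 D12868
theorem F27993 : act 5 n15920 = n14570 := d14_2 F25425 D15920 (iv D14570) F20206 (iv F25424)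
def n15921 : Q := act 4 n12869
theorem D15921 : act 4 n12869 = n15921 := rfl
theorem F27994 : act 1 n15921 = n12871 := d7_1 D15921 (iv D12871) (iv F21736)
def n15922 : Q := act 2 n12872
theorem D15922 : act 2 n12872 = n15922 := rfl
theorem F27995 : act 1 n15922 = n15549 := d5_1 D15922 (iv D15549) (iv F26534) F26535 F25259
theorem F27996 : act 4 n15922 = n12873 := d10_2 (iv F21738) D15922 (iv D12873)
def n15923 : Q := act 2 n12884
theorem D15923 : act 2 n12884 = n15923 := rfl
theorem F27997 : act 0 n15923 = n12886 := d1_1 D15923 (iv D12886) (iv F21763)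
theorem F27998 : act 3 n15923 = n13580 := d15_1 D15923 F23129 F17862 (iv F18230) (iv F21762) F21748 (iv F17558) F17560 (iv F21763)
def n15924 : Q := act 2 n12896
theorem D15924 : act 2 n12896 = n15924 := rfl
theorem F27999 : act 0 n15924 = n12898 := d1_1 D15924 (iv D12898) (iv F21811)
theorem F28000 : act 3 n15924 = n15502 := d9_2 D12896 D15924 (iv F27770) F27771 F21507 (iv F18954) F18953 (iv F21831) F21830 (iv D12417) (iv F20951) (iv F21825) F21502 (iv F19820) F19819
theorem F28001 : act 1 n15508 = n15924 := d6_3 F28000 F27126 (iv F27138)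
theorem F28002 : act 5 n15501 = n15924 := d13_0 F28000 (iv D15502) D15501
def n15925 : Q := act 5 n12896
theorem D15925 : act 5 n12896 = n15925 := rfl
theorem F28003 : act 0 n15925 = n12899 := d4_1 D15925 (iv D12899) (iv F21811)
theorem F28004 : act 2 n15925 = n15501 := d11_1 D15925 F28002 (iv D15924)
theorem F28005 : act 3 n15925 = n12897 := d13_1 D15925 (iv D12897) D12896
def n15926 : Q := act 4 n12899
theorem D15926 : act 4 n12899 = n15926 := rfl
theorem F28006 : act 1 n15926 = n12901 := d7_1 D15926 (iv D12901) (iv F21829)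
theorem F28007 : act 2 n15926 = n15203 := d10_1 D15926 F26485 (iv F21830)
def n15927 : Q := act 4 n12900
theorem D15927 : act 4 n12900 = n15927 := rfl
theorem F28008 : act 1 n15927 = n15204 := d7_1 D15927 F26487 (iv F21832)
theorem F28009 : act 2 n15927 = n12901 := d10_1 D15927 (iv D12901) (iv F21833)
def n15928 : Q := act 4 n12906
theorem D15928 : act 4 n12906 = n15928 := rfl
def n15929 : Q := act 1 n12907
theorem D15929 : act 1 n12907 = n15929 := rfl
theorem F28010 : act 2 n15929 = n12909 := d5_2 D12907 D15929 (iv D12909) (iv D10116) (iv F16832)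
def n15930 : Q := act 3 n12907
theorem D15930 : act 3 n12907 = n15930 := rfl
def n15931 : Q := act 5 n12907
theorem D15931 : act 5 n12907 = n15931 := rfl
theorem F28011 : act 2 n15931 = n12908 := d11_1 D15931 (iv D12908) D12907
def n15932 : Q := act 4 n12908
theorem D15932 : act 4 n12908 = n15932 := rfl
theorem F28012 : act 1 n15932 = n12910 := d7_1 D15932 (iv D12910) (iv F21853)
def n15933 : Q := act 0 n12909
theorem D15933 : act 0 n12909 = n15933 := rfl
def n15934 : Q := act 3 n12911
theorem D15934 : act 3 n12911 = n15934 := rfl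
theorem F28013 : act 1 n15934 = n12912 := d6_1 D15934 (iv D12912) D12911
def n15935 : Q := act 5 n12911
theorem D15935 : act 5 n12911 = n15935 := rfl
theorem F28014 : act 1 n15935 = n12913 := d8_1 D15935 (iv D12913) D12911
theorem F28015 : act 2 n15935 = n12916 := d11_1 D15935 (iv D12916) (iv F21855)
def n15936 : Q := act 2 n12912
theorem D15936 : act 2 n12912 = n15936 := rfl
def n15937 : Q := act 4 n12912
theorem D15937 : act 4 n12912 = n15937 := rfl
def n15938 : Q := act 5 n12912
theorem D15938 : act 5 n12912 = n15938 := rfl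
theorem F28016 : act 3 n15938 = n12913 := d13_1 D15938 (iv D12913) D12912
def n15939 : Q := act 3 n12914
theorem D15939 : act 3 n12914 = n15939 := rfl
theorem F28017 : act 0 n15939 = n12915 := d2_1 D15939 (iv D12915) D12914
theorem F28018 : act 5 n15401 = n15939 := d4_0 F28017 (iv F21858) (iv F26918)
def n15940 : Q := act 5 n12914
theorem D15940 : act 5 n12914 = n15940 := rfl
theorem F28019 : act 0 n15940 = n12916 := d4_1 D15940 (iv D12916) D12914
theorem F28020 : act 3 n15940 = n15401 := d13_1 D15940 F28018 (iv D15939)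
def n15941 : Q := act 0 n12917
theorem D15941 : act 0 n12917 = n15941 := rfl
theorem F28021 : act 5 n15941 = n12918 := d4_2 (iv F21861) D15941 (iv D12918)
def n15942 : Q := act 3 n12918
theorem D15942 : act 3 n12918 = n15942 := rfl
theorem F28022 : act 0 n15942 = n12919 := d2_1 D15942 (iv D12919) D12918
theorem F28023 : act 4 n15942 = n15616 := d12_2 (iv F21862) D15942 (iv D15616) F21194 F20434
def n15943 : Q := act 2 n12919
theorem D15943 : act 2 n12919 = n15943 := rfl
theorem F28024 : act 4 n15943 = n15618 := d10_2 (iv F21864) D15943 (iv D15618)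
theorem F28025 : act 3 n15783 = n15943 := d12_5 F28024 F27392 (iv D12717) (iv F21483) D15783
def n15944 : Q := act 5 n12920
theorem D15944 : act 5 n12920 = n15944 := rfl
theorem F28026 : act 0 n15944 = n12921 := d4_1 D15944 (iv D12921) (iv F21865)
theorem F28027 : act 1 n15944 = n12935 := d8_1 D15944 (iv D12935) (iv F21866)
theorem F28028 : act 3 n15944 = n13288 := d13_1 D15944 (iv D13288) (iv F21867)
theorem F28029 : act 4 n15944 = n13116 := d14_1 D15944 (iv D13116) (iv D10288) (iv F16847) D12920
def n15945 : Q := act 2 n12922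
theorem D15945 : act 2 n12922 = n15945 := rfl
theorem F28030 : act 0 n15945 = n13117 := d1_1 D15945 (iv D13117) (iv F21870)
theorem F28031 : act 5 n15945 = n13297 := d11_2 (iv F21872) D15945 (iv D13297)
theorem F28032 : act 3 n15945 = n15133 := d15_7 (iv D15124) (iv D12044) F15686 (iv F12924) (iv F16852) D12922 D15945 (iv D15133) (iv F26309)
def n15946 : Q := act 1 n12923
theorem D15946 : act 1 n12923 = n15946 := rfl
theorem F28033 : act 3 n15946 = n13300 := d6_2 (iv F21875) D15946 (iv D13300)
theorem F28034 : act 4 n15946 = n13219 := d7_2 F21913 D15946 F26295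
theorem F28035 : act 5 n15946 = n13300 := d8_2 (iv F21874) D15946 (iv D13300)
def n15947 : Q := act 1 n12924
theorem D15947 : act 1 n12924 = n15947 := rfl
theorem F28036 : act 2 n15947 = n13285 := d5_2 D12924 D15947 (iv D13285) (iv D10423) (iv F16859)
def n15948 : Q := act 3 n12924
theorem D15948 : act 3 n12924 = n15948 := rfl
theorem F28037 : act 0 n15948 = n12928 := d2_1 D15948 (iv D12928) (iv F21876)
theorem F28038 : act 2 n15948 = n12953 := d15_2 D12924 D15948 F21934 F16905 F12919 (iv F12886) (iv F16867) (iv D10136) (iv F16858)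
theorem F28039 : act 5 n12951 = n15948 := d11_0 F28038 (iv D12953) D12951
def n15949 : Q := act 4 n12924
theorem D15949 : act 4 n12924 = n15949 := rfl
theorem F28040 : act 0 n15949 = n12929 := d3_1 D15949 (iv D12929) (iv F21876)
theorem F28041 : act 2 n15949 = n12925 := d10_1 D15949 (iv D12925) D12924
def n15950 : Q := act 5 n12924
theorem D15950 : act 5 n12924 = n15950 := rfl
theorem F28042 : act 0 n15950 = n12927 := d4_1 D15950 (iv F21884) (iv F21876)
theorem F28043 : act 2 n15950 = n12926 := d11_1 D15950 (iv D12926) D12924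
theorem F28044 : act 3 n15950 = n12951 := d13_1 D15950 F28039 (iv D15948)
def n15951 : Q := act 5 n12925
theorem D15951 : act 5 n12925 = n15951 := rfl
theorem F28045 : act 0 n15951 = n12930 := d4_1 D15951 (iv D12930) (iv F21877)
theorem F28046 : act 1 n15951 = n13288 := d8_1 D15951 (iv D13288) (iv F21878)
theorem F28047 : act 3 n15951 = n12935 := d13_1 D15951 (iv D12935) (iv F21879)
def n15952 : Q := act 4 n12926
theorem D15952 : act 4 n12926 = n15952 := rfl
theorem F28048 : act 0 n15952 = n12931 := d3_1 D15952 (iv D12931) (iv F21880)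
theorem F28049 : act 1 n15952 = n13289 := d7_1 D15952 (iv D13289) (iv F21881)
theorem F28050 : act 3 n15952 = n13122 := d12_1 D15952 (iv D13122) F17220 (iv F16863) (iv F21882)
def n15953 : Q := act 3 n12927
theorem D15953 : act 3 n12927 = n15953 := rfl
theorem F28051 : act 0 n15953 = n12951 := d2_1 D15953 (iv F28044) F28042
theorem F28052 : act 1 n15953 = n12928 := d6_1 D15953 (iv D12928) D12927
theorem F28053 : act 2 n15953 = n12947 := d9_1 D15953 (iv D12947) (iv D10150) (iv D7842) (iv F12882) D10132 D12924 D15948 F28038 F21934 F16905 F12919 (iv F12886) (iv F16867) (iv F21883)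
theorem F28054 : act 5 n15953 = n12928 := d13_2 F21884 D15953 (iv D12928)
def n15954 : Q := act 4 n12927
theorem D15954 : act 4 n12927 = n15954 := rfl
theorem F28055 : act 1 n15954 = n12929 := d7_1 D15954 (iv D12929) D12927
theorem F28056 : act 2 n15954 = n12931 := d10_1 D15954 (iv D12931) (iv F21883)
def n15955 : Q := act 2 n12928
theorem D15955 : act 2 n12928 = n15955 := rfl
theorem F28057 : act 0 n15955 = n12953 := d1_1 D15955 (iv F28038) F28037
theorem F28058 : act 3 n15955 = n12948 := d9_2 D12928 D15955 F21925 F16899 (iv F16862) (iv F21882) (iv F28043) F28044 (iv D12951) (iv D10153) (iv D7844) (iv D5983) (iv F9752) D7829 D10134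
theorem F28059 : act 5 n15955 = n12947 := d11_2 F28054 D15955 (iv F28053)
def n15956 : Q := act 4 n12928
theorem D15956 : act 4 n12928 = n15956 := rfl
def n15957 : Q := act 3 n12929
theorem D15957 : act 3 n12929 = n15957 := rfl
def n15958 : Q := act 5 n12929
theorem D15958 : act 5 n12929 = n15958 := rfl
theorem F28060 : act 2 n15958 = n12930 := d11_1 D15958 (iv D12930) (iv F21885)
def n15959 : Q := act 4 n12930
theorem D15959 : act 4 n12930 = n15959 := rfl
theorem F28061 : act 1 n15959 = n12933 := d7_1 D15959 F21895 (iv F21886)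
theorem F28062 : act 3 n15959 = n13133 := d12_1 D15959 (iv D13133) F17226 (iv F16883) (iv F21887)
theorem F28063 : act 5 n15959 = n12931 := d14_2 D12930 D15959 (iv D12931) (iv D10136) D10135
def n15960 : Q := act 2 n12932
theorem D15960 : act 2 n12932 = n15960 := rfl
theorem F28064 : act 0 n15960 = n13298 := d1_1 D15960 (iv D13298) (iv F21890)
theorem F28065 : act 4 n15960 = n12934 := d10_2 (iv F21892) D15960 (iv D12934)
def n15961 : Q := act 5 n12932
theorem D15961 : act 5 n12932 = n15961 := rfl
theorem F28066 : act 0 n15961 = n13299 := d4_1 D15961 (iv D13299) (iv F21890)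
theorem F28067 : act 1 n15961 = n13133 := d8_1 D15961 F22306 (iv F21891)
theorem F28068 : act 3 n15961 = n12933 := d13_1 D15961 (iv D12933) D12932
theorem F28069 : act 4 n15961 = n12943 := d14_1 D15961 F21917 F16894 (iv F16874) (iv F21892)
def n15962 : Q := act 1 n12934
theorem D15962 : act 1 n12934 = n15962 := rfl
theorem F28070 : act 2 n15962 = n13136 := d5_2 D12934 D15962 F22308 F17227 (iv F16873)
theorem F28071 : act 3 n15962 = n12945 := d6_2 (iv F21897) D15962 (iv D12945)
theorem F28072 : act 5 n15962 = n12945 := d8_2 (iv F21898) D15962 (iv D12945)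
def n15963 : Q := act 3 n12936
theorem D15963 : act 3 n12936 = n15963 := rfl
theorem F28073 : act 1 n15963 = n12937 := d6_1 D15963 (iv D12937) (iv F21902)
theorem F28074 : act 4 n15963 = n13081 := d12_2 D12936 D15963 (iv D13081) (iv D10264) (iv F16878)
def n15964 : Q := act 5 n12936
theorem D15964 : act 5 n12936 = n15964 := rfl
theorem F28075 : act 1 n15964 = n12938 := d8_1 D15964 (iv D12938) (iv F21902)
theorem F28076 : act 2 n15964 = n12940 := d11_1 D15964 (iv D12940) (iv F21903)
theorem F28077 : act 4 n15964 = n13127 := d14_1 D15964 (iv D13127) (iv D10297) (iv F16879) D12936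
def n15965 : Q := act 2 n12937
theorem D15965 : act 2 n12937 = n15965 := rfl
theorem F28078 : act 0 n15965 = n13087 := d1_1 D15965 (iv D13087) (iv F21904)
theorem F28079 : act 4 n15965 = n13083 := d10_2 (iv F21905) D15965 (iv D13083)
def n15966 : Q := act 5 n12937
theorem D15966 : act 5 n12937 = n15966 := rfl
theorem F28080 : act 0 n15966 = n13088 := d4_1 D15966 (iv D13088) (iv F21904)
theorem F28081 : act 3 n15966 = n12938 := d13_1 D15966 (iv D12938) D12937
def n15967 : Q := act 2 n12939
theorem D15967 : act 2 n12939 = n15967 := rfl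
theorem F28082 : act 1 n15967 = n13150 := d5_1 D15967 (iv F22436) F26295 (iv D12941) (iv F21909)
theorem F28083 : act 4 n15967 = n15945 := d10_2 (iv F21910) D15967 (iv D15945)
theorem F28084 : act 3 n13148 = n15967 := d12_5 F28083 F28032 F26323 F22339 (iv F22318)
theorem F28085 : act 5 n13147 = n15967 := d14_0 F28083 F28031 (iv F26277) F20309 (iv F22316)
theorem F28086 : act 2 n13081 = n15963 := d15_2 F22113 D13081 (iv D15963) F21903 D12939 D15967 (iv F28084) (iv D13148) (iv F22111)
theorem F28087 : act 1 n15965 = n13083 := d5_3 F28086 F28073 D15965 (iv D13083) (iv F22220)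
def n15968 : Q := act 5 n12939
theorem D15968 : act 5 n12939 = n15968 := rfl
theorem F28088 : act 1 n15968 = n12942 := d8_1 D15968 (iv D12942) (iv F21909)
theorem F28089 : act 2 n15968 = n13147 := d11_1 D15968 F28085 (iv D15967)
theorem F28090 : act 3 n15968 = n12940 := d13_1 D15968 (iv D12940) D12939
theorem F28091 : act 4 n15968 = n13217 := d14_1 D15968 F26280 F22603 (iv F21872) (iv F21910)
def n15969 : Q := act 5 n12941
theorem D15969 : act 5 n12941 = n15969 := rfl
theorem F28092 : act 1 n15969 = n13149 := d8_1 D15969 (iv F22437) F26295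
theorem F28093 : act 2 n15969 = n12942 := d11_1 D15969 (iv D12942) D12941
theorem F28094 : act 3 n15969 = n13298 := d13_1 D15969 F26293 (iv F26294)
theorem F28095 : act 4 n15969 = n13218 := d14_1 D15969 (iv F26293) F22604 (iv F21874) (iv F21913)
def n15970 : Q := act 2 n12943
theorem D15970 : act 2 n12943 = n15970 := rfl
theorem F28096 : act 0 n15970 = n15969 := d1_1 D15970 F28093 (iv F21915)
theorem F28097 : act 3 n15970 = n15960 := d9_2 D12943 D15970 (iv D15960) (iv D12932) F16869 F12892 (iv F12906) D10145 D12941 F26294 F26292 F22605 F17447 (iv F16855) (iv F16890)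
theorem F28098 : act 5 n15970 = n12944 := d11_2 (iv F21917) D15970 (iv D12944)
def n15971 : Q := act 1 n12944
theorem D15971 : act 1 n12944 = n15971 := rfl
theorem F28099 : act 2 n15971 = n13130 := d5_2 D12944 D15971 (iv D13130) (iv D10300) (iv F16893)
theorem F28100 : act 4 n15971 = n12945 := d7_2 (iv F21919) D15971 (iv D12945)
def n15972 : Q := act 3 n12944
theorem D15972 : act 3 n12944 = n15972 := rfl
theorem F28101 : act 0 n15972 = n13218 := d2_1 D15972 (iv F26294) (iv F21918)
theorem F28102 : act 2 n15972 = n15961 := d9_1 D15972 F28068 F21894 F16871 (iv F16886) (iv F21914) (iv F28093) F28094 (iv D13298) (iv D10432) F13401 (iv F12877) (iv F12909) D10148 D12944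
theorem F28103 : act 4 n15972 = n15970 := d12_2 (iv F21919) D15972 F28097 F28065 F21897
theorem F28104 : act 5 n15972 = n15960 := d13_2 F28098 D15972 (iv F28097)
def n15973 : Q := act 0 n12945
theorem D15973 : act 0 n12945 = n15973 := rfl
theorem F28105 : act 2 n15973 = n13134 := d1_2 (iv F21920) D15973 (iv D13134)
def n15974 : Q := act 0 n12946
theorem D15974 : act 0 n12946 = n15974 := rfl
theorem F28106 : act 1 n15974 = n12949 := d0_2 D12946 D15974 (iv D12949) (iv D10152) (iv F16895)
theorem F28107 : act 2 n15974 = n12989 := d1_2 (iv F21921) D15974 (iv D12989)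
theorem F28108 : act 4 n15974 = n13123 := d3_2 (iv F21922) D15974 (iv D13123)
theorem F28109 : act 5 n12983 = n15974 := d11_0 F28107 (iv F22017) (iv F22004)
def n15975 : Q := act 3 n12946
theorem D15975 : act 3 n12946 = n15975 := rfl
theorem F28110 : act 1 n15975 = n12947 := d6_1 D15975 (iv D12947) D12946
def n15976 : Q := act 5 n12946
theorem D15976 : act 5 n12946 = n15976 := rfl
theorem F28111 : act 0 n15976 = n12983 := d4_1 D15976 F28109 (iv D15974)
theorem F28112 : act 1 n15976 = n12948 := d8_1 D15976 (iv D12948) D12946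
theorem F28113 : act 2 n15976 = n12992 := d11_1 D15976 (iv D12992) (iv F21921)
theorem F28114 : act 4 n15976 = n14900 := d14_1 D15976 (iv D14900) (iv F22257) F22258 (iv F21922)
def n15977 : Q := act 4 n12947
theorem D15977 : act 4 n12947 = n15977 := rfl
theorem F28115 : act 0 n15977 = n12952 := d3_1 D15977 (iv D12952) (iv F21923)
theorem F28116 : act 3 n15977 = n13125 := d12_1 D15977 (iv D13125) (iv D10296) (iv F16896) D12947
def n15978 : Q := act 3 n12949
theorem D15978 : act 3 n12949 = n15978 := rfl
theorem F28117 : act 0 n15978 = n12950 := d2_1 D15978 (iv D12950) D12949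
theorem F28118 : act 5 n15978 = n12984 := d13_2 (iv F21929) D15978 (iv D12984)
theorem F28119 : act 2 n15978 = n12975 := d15_2 (iv F21927) D15978 (iv D12975) (iv D10176) (iv D7870) F9844 D6014 (iv F12923) D10155
def n15979 : Q := act 2 n12950
theorem D15979 : act 2 n12950 = n15979 := rfl
theorem F28120 : act 0 n15979 = n12975 := d1_1 D15979 (iv F28119) F28117
theorem F28121 : act 5 n15979 = n12986 := d11_2 (iv F21931) D15979 (iv D12986)
theorem F28122 : act 3 n15979 = n12972 := d15_1 D15979 (iv D12972) (iv D10174) F12982 D7875 D10183 D12984 (iv F28118) F28117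
def n15980 : Q := act 4 n12950
theorem D15980 : act 4 n12950 = n15980 := rfl
theorem F28123 : act 1 n15980 = n12952 := d7_1 D15980 (iv D12952) (iv F21930)
theorem F28124 : act 3 n15980 = n13141 := d12_1 D15980 (iv D13141) (iv D10307) (iv F16902) D12950
def n15981 : Q := act 1 n12951
theorem D15981 : act 1 n12951 = n15981 := rfl
def n15982 : Q := act 4 n12951
theorem D15982 : act 4 n12951 = n15982 := rfl
theorem F28125 : act 2 n15982 = n12952 := d10_1 D15982 (iv D12952) D12951
def n15983 : Q := act 5 n12952
theorem D15983 : act 5 n12952 = n15983 := rfl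
theorem F28126 : act 3 n15983 = n13144 := d13_1 D15983 (iv D13144) (iv F21932)
def n15984 : Q := act 4 n12953
theorem D15984 : act 4 n12953 = n15984 := rfl
theorem F28127 : act 1 n15984 = n12987 := d7_1 D15984 (iv D12987) (iv F21933)
theorem F28128 : act 3 n15984 = n14906 := d12_1 D15984 (iv D14906) F19924 (iv F16906) (iv F21934)
def n15985 : Q := act 3 n12954
theorem D15985 : act 3 n12954 = n15985 := rfl
theorem F28129 : act 1 n15985 = n12967 := d6_1 D15985 (iv D12967) (iv F21935)
theorem F28130 : act 4 n15985 = n12955 := d12_2 D12954 D15985 (iv D12955) (iv D10159) D10158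
def n15986 : Q := act 5 n12954
theorem D15986 : act 5 n12954 = n15986 := rfl
theorem F28131 : act 1 n15986 = n12968 := d8_1 D15986 (iv D12968) (iv F21935)
theorem F28132 : act 2 n15986 = n15818 := d11_1 D15986 (iv D15818) (iv F21936)
theorem F28133 : act 4 n15986 = n12957 := d14_1 D15986 (iv D12957) (iv D10161) (iv F16921) D12954
def n15987 : Q := act 2 n12955
theorem D15987 : act 2 n12955 = n15987 := rfl
theorem F28134 : act 5 n15987 = n13523 := d11_2 (iv F21938) D15987 (iv D13523)
def n15988 : Q := act 3 n12956
theorem D15988 : act 3 n12956 = n15988 := rfl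
theorem F28135 : act 0 n15988 = n15985 := d2_1 D15988 (iv D15985) (iv F21939)
theorem F28136 : act 1 n15988 = n15822 := d6_1 D15988 (iv D15822) (iv F21940)
theorem F28137 : act 4 n15988 = n13215 := d12_2 D12956 D15988 (iv D13215) (iv D10365) (iv F16929)
def n15989 : Q := act 5 n12956
theorem D15989 : act 5 n12956 = n15989 := rfl
theorem F28138 : act 0 n15989 = n15986 := d4_1 D15989 (iv D15986) (iv F21939)
theorem F28139 : act 1 n15989 = n15821 := d8_1 D15989 F27832 (iv F21940)
theorem F28140 : act 2 n15989 = n12957 := d11_1 D15989 (iv D12957) (iv F21941)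
theorem F28141 : act 4 n15989 = n15818 := d14_1 D15989 (iv D15818) (iv D12767) (iv F16928) D12956
def n15990 : Q := act 3 n12958
theorem D15990 : act 3 n12958 = n15990 := rfl
theorem F28142 : act 0 n15990 = n13264 := d2_1 D15990 F22550 (iv F21943)
theorem F28143 : act 1 n15990 = n12959 := d6_1 D15990 (iv D12959) D12958
theorem F28144 : act 5 n15990 = n12999 := d13_2 (iv F21945) D15990 F22044
theorem F28145 : act 2 n13264 = n15990 := d11_3 F28144 F22043 (iv F22551)
def n15991 : Q := act 4 n12958
theorem D15991 : act 4 n12958 = n15991 := rfl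
theorem F28146 : act 0 n15991 = n13318 := d3_1 D15991 (iv D13318) (iv F21943)
theorem F28147 : act 1 n15991 = n12960 := d7_1 D15991 (iv D12960) D12958
theorem F28148 : act 2 n15991 = n13293 := d10_1 D15991 F26284 (iv F21944)
theorem F28149 : act 5 n15991 = n14953 := d14_2 (iv F21945) D15991 (iv D14953) F22628 (iv D13314)
def n15992 : Q := act 4 n12959
theorem D15992 : act 4 n12959 = n15992 := rfl
theorem F28150 : act 0 n15992 = n12962 := d3_1 D15992 (iv D12962) (iv F21946)
theorem F28151 : act 2 n15992 = n13003 := d10_1 D15992 (iv D13003) (iv F21947)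
def n15993 : Q := act 3 n12960
theorem D15993 : act 3 n12960 = n15993 := rfl
theorem F28152 : act 0 n15993 = n12963 := d2_1 D15993 (iv D12963) (iv F21949)
theorem F28153 : act 5 n15993 = n14955 := d13_2 (iv F21951) D15993 (iv D14955)
def n15994 : Q := act 1 n12961
theorem D15994 : act 1 n12961 = n15994 := rfl
theorem F28154 : act 0 n15994 = n13258 := d0_1 D15994 F22537 F17400 (iv F17019) (iv F21952)
theorem F28155 : act 2 n15994 = n13258 := d5_2 D12961 D15994 F22537 F17401 (iv F16942)
theorem F28156 : act 3 n15994 = n12992 := d6_2 (iv F21953) D15994 F22025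
theorem F28157 : act 5 n15994 = n12990 := d8_2 (iv F21954) D15994 F22019
def n15995 : Q := act 4 n12961
theorem D15995 : act 4 n12961 = n15995 := rfl
theorem F28158 : act 0 n15995 = n13003 := d3_1 D15995 (iv D13003) (iv F21952)
theorem F28159 : act 2 n15995 = n12962 := d10_1 D15995 (iv D12962) D12961
def n15996 : Q := act 3 n12962
theorem D15996 : act 3 n12962 = n15996 := rfl
theorem F28160 : act 1 n15996 = n13336 := d6_1 D15996 (iv D13336) (iv F21955)
theorem F28161 : act 4 n15996 = n12963 := d12_2 D12962 D15996 (iv D12963) (iv D10166) D10165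
def n15997 : Q := act 5 n12962
theorem D15997 : act 5 n12962 = n15997 := rfl
theorem F28162 : act 1 n15997 = n13335 := d8_1 D15997 F22668 (iv F21955)
theorem F28163 : act 4 n15997 = n13328 := d14_1 D15997 (iv D13328) (iv D10457) (iv F16943) D12962
def n15998 : Q := act 2 n12963
theorem D15998 : act 2 n12963 = n15998 := rfl
theorem F28164 : act 5 n15998 = n14958 := d11_2 (iv F21957) D15998 (iv D14958)
def n15999 : Q := act 2 n12964
theorem D15999 : act 2 n12964 = n15999 := rfl
theorem F28165 : act 0 n15999 = n12969 := d1_1 D15999 (iv D12969) (iv F21958)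
theorem F28166 : act 4 n15999 = n13024 := d10_2 (iv F21959) D15999 (iv D13024)
theorem F28167 : act 3 n15999 = n14958 := d15_1 D15999 (iv D14958) (iv D11884) F15410 (iv F12976) (iv F16960) (iv F21973) (iv D12970) (iv F21958)
def n16000 : Q := act 5 n12964
theorem D16000 : act 5 n12964 = n16000 := rfl
theorem F28168 : act 0 n16000 = n12970 := d4_1 D16000 (iv D12970) (iv F21958)
theorem F28169 : act 3 n16000 = n12965 := d13_1 D16000 (iv D12965) D12964
def n16001 : Q := act 2 n12967
theorem D16001 : act 2 n12967 = n16001 := rfl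
theorem F28170 : act 0 n16001 = n13024 := d1_1 D16001 (iv D13024) (iv F21968)
theorem F28171 : act 4 n16001 = n12969 := d10_2 (iv F21969) D16001 (iv D12969)
theorem F28172 : act 3 n16001 = n14626 := d15_1 D16001 F25178 F19466 F15247 (iv F13068) (iv F17054) (iv F22093) (iv D13025) (iv F21968)
theorem F28173 : act 1 n14631 = n16001 := d6_3 F28172 F25177 D14631
theorem F28174 : act 5 n14818 = n16001 := d13_0 F28172 F25179 D14818
def n16002 : Q := act 5 n12967
theorem D16002 : act 5 n12967 = n16002 := rfl
theorem F28175 : act 0 n16002 = n13025 := d4_1 D16002 (iv D13025) (iv F21968)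
theorem F28176 : act 2 n16002 = n14818 := d11_1 D16002 F28174 (iv D16001)
theorem F28177 : act 3 n16002 = n12968 := d13_1 D16002 (iv D12968) D12967
def n16003 : Q := act 1 n12969
theorem D16003 : act 1 n12969 = n16003 := rfl
theorem F28178 : act 4 n16003 = n14631 := d7_2 F28171 D16003 F28173
theorem F28179 : act 3 n14630 = n16003 := d12_5 F28178 (iv D14631) (iv D11584) (iv F19454) D14630
def n16004 : Q := act 3 n12969
theorem D16004 : act 3 n12969 = n16004 := rfl
theorem F28180 : act 0 n16004 = n14958 := d2_1 D16004 (iv F28167) F28165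
theorem F28181 : act 1 n16004 = n14630 := d6_1 D16004 F28179 (iv D16003)
theorem F28182 : act 4 n16004 = n14625 := d12_2 F28171 D16004 F25176 D14626 (iv F28172)
theorem F28183 : act 2 n16004 = n14955 := d15_2 D12969 D16004 (iv D14955) F19992 (iv F16951) (iv F21961) (iv F28169) (iv D16000) F21958
def n16005 : Q := act 5 n12969
theorem D16005 : act 5 n12969 = n16005 := rfl
theorem F28184 : act 2 n16005 = n12970 := d11_1 D16005 (iv D12970) D12969
def n16006 : Q := act 4 n12970
theorem D16006 : act 4 n12970 = n16006 := rfl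
theorem F28185 : act 1 n16006 = n13522 := d7_1 D16006 F22971 (iv F21972)
theorem F28186 : act 3 n16006 = n13516 := d12_1 D16006 (iv D13516) F17748 (iv F16961) (iv F21973)
def n16007 : Q := act 4 n12971
theorem D16007 : act 4 n12971 = n16007 := rfl
theorem F28187 : act 0 n16007 = n14834 := d3_1 D16007 (iv D14834) (iv F21974)
theorem F28188 : act 1 n16007 = n14897 := d7_1 D16007 (iv D14897) (iv F21975)
theorem F28189 : act 2 n16007 = n14826 := d10_1 D16007 (iv D14826) (iv F21976)
theorem F28190 : act 3 n16007 = n13527 := d12_1 D16007 (iv D13527) (iv D10615) (iv F16963) D12971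
theorem F28191 : act 5 n16007 = n15418 := d14_2 (iv F21977) D16007 (iv D15418) (iv D12325) F19812
def n16008 : Q := act 1 n12972
theorem D16008 : act 1 n12972 = n16008 := rfl
theorem F28192 : act 2 n16008 = n13224 := d5_2 D12972 D16008 (iv D13224) (iv D10373) (iv F16966)
theorem F28193 : act 4 n16008 = n15044 := d7_2 (iv F21979) D16008 F26102
theorem F28194 : act 0 n15050 = n16008 := d3_3 F28193 F26101 D15050
theorem F28195 : act 5 n15050 = n16008 := d14_0 F28193 (iv D15044) F20159 D11974 D15050
def n16009 : Q := act 5 n12972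
theorem D16009 : act 5 n12972 = n16009 := rfl
theorem F28196 : act 0 n16009 = n12974 := d4_1 D16009 (iv F21984) (iv F21978)
theorem F28197 : act 1 n16009 = n15050 := d8_1 D16009 F28195 (iv D16008)
theorem F28198 : act 2 n16009 = n12973 := d11_1 D16009 (iv D12973) D12972
theorem F28199 : act 3 n16009 = n12986 := d13_1 D16009 (iv F28121) F28122
theorem F28200 : act 4 n16009 = n15049 := d14_1 D16009 (iv D15049) (iv F26088) F26090 (iv F21979)
def n16010 : Q := act 4 n12973
theorem D16010 : act 4 n12973 = n16010 := rfl
theorem F28201 : act 0 n16010 = n12978 := d3_1 D16010 (iv D12978) (iv F21980)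
theorem F28202 : act 1 n16010 = n13227 := d7_1 D16010 (iv D13227) (iv F21981)
theorem F28203 : act 2 n16010 = n15049 := d10_1 D16010 (iv F28200) F28198
theorem F28204 : act 3 n16010 = n13475 := d12_1 D16010 (iv D13475) F17693 (iv F16971) (iv F21982)
theorem F28205 : act 5 n16010 = n15045 := d14_2 D12973 D16010 (iv D15045) (iv D11965) (iv F16967)
def n16011 : Q := act 3 n12974
theorem D16011 : act 3 n12974 = n16011 := rfl
theorem F28206 : act 0 n16011 = n12986 := d2_1 D16011 (iv F28199) F28196
theorem F28207 : act 1 n16011 = n12975 := d6_1 D16011 (iv D12975) D12974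
theorem F28208 : act 2 n16011 = n12984 := d9_1 D16011 (iv D12984) (iv D10183) (iv D7875) (iv F12982) D10174 D12972 (iv F28122) (iv D15979) (iv D12950) F16901 F12921 (iv F12986) (iv F16976) (iv F21983)
theorem F28209 : act 5 n16011 = n12975 := d13_2 F21984 D16011 (iv D12975)
def n16012 : Q := act 4 n12974
theorem D16012 : act 4 n12974 = n16012 := rfl
theorem F28210 : act 0 n16012 = n15049 := d3_1 D16012 (iv F28200) F28196
theorem F28211 : act 1 n16012 = n12976 := d7_1 D16012 (iv D12976) D12974
theorem F28212 : act 2 n16012 = n12978 := d10_1 D16012 (iv D12978) (iv F21983)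
theorem F28213 : act 3 n15048 = n16012 := d2_0 F28210 F26112 (iv F26110)
theorem F28214 : act 5 n15047 = n16012 := d4_0 F28210 (iv D15049) (iv F26109)
def n16013 : Q := act 4 n12975
theorem D16013 : act 4 n12975 = n16013 := rfl
def n16014 : Q := act 3 n12976
theorem D16014 : act 3 n12976 = n16014 := rfl
theorem F28215 : act 0 n16014 = n15042 := d2_1 D16014 F26092 (iv F21985)
theorem F28216 : act 1 n16014 = n15048 := d6_1 D16014 F28213 F28211
theorem F28217 : act 5 n16014 = n15040 := d15_8 F24944 (iv D14499) (iv D11474) (iv D8916) (iv F13298) (iv F16974) (iv F21986) D16014 (iv D15040)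
def n16015 : Q := act 5 n12976
theorem D16015 : act 5 n12976 = n16015 := rfl
theorem F28218 : act 0 n16015 = n15041 := d4_1 D16015 F26090 (iv F21985)
theorem F28219 : act 1 n16015 = n15047 := d8_1 D16015 F28214 F28211
theorem F28220 : act 2 n16015 = n12977 := d11_1 D16015 (iv D12977) (iv F21986)
theorem F28221 : act 3 n16015 = n15040 := d13_1 D16015 (iv F28217) (iv D16014)
theorem F28222 : act 4 n16015 = n15047 := d14_1 D16015 F28214 (iv D16012) (iv F21984) D12976
def n16016 : Q := act 4 n12977
theorem D16016 : act 4 n12977 = n16016 := rfl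
theorem F28223 : act 0 n16016 = n15045 := d3_1 D16016 (iv D15045) (iv F21987)
theorem F28224 : act 1 n16016 = n12981 := d7_1 D16016 F22000 (iv F21988)
theorem F28225 : act 2 n16016 = n15047 := d10_1 D16016 (iv F28222) F28220
theorem F28226 : act 3 n16016 = n14144 := d12_1 D16016 (iv D14144) F18653 (iv F17329) (iv F21989)
theorem F28227 : act 5 n16016 = n12978 := d14_2 D12977 D16016 (iv D12978) (iv D10178) D10177
def n16017 : Q := act 3 n12978
theorem D16017 : act 3 n12978 = n16017 := rfl
theorem F28228 : act 0 n16017 = n13475 := d2_1 D16017 (iv F28204) F28201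
theorem F28229 : act 1 n16017 = n12980 := d6_1 D16017 (iv D12980) (iv F21990)
theorem F28230 : act 4 n16017 = n12979 := d12_2 D12978 D16017 (iv D12979) (iv D10179) (iv F16976)
theorem F28231 : act 5 n16017 = n14144 := d13_2 F28227 D16017 (iv F28226)
def n16018 : Q := act 2 n12979
theorem D16018 : act 2 n12979 = n16018 := rfl
theorem F28232 : act 0 n16018 = n13474 := d1_1 D16018 F22905 (iv F21991)
theorem F28233 : act 5 n16018 = n13222 := d11_2 (iv F21993) D16018 (iv D13222)
def n16019 : Q := act 2 n12980
theorem D16019 : act 2 n12980 = n16019 := rfl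
theorem F28234 : act 0 n16019 = n13235 := d1_1 D16019 (iv D13235) (iv F21994)
theorem F28235 : act 3 n16019 = n13242 := d9_2 D12980 D16019 F22497 F17364 F13331 (iv F13318) (iv F17350) (iv F22482) F22481 (iv D11140) (iv D8649) (iv D6629) (iv F10108) (iv F12991) (iv F16982)
theorem F28236 : act 4 n16019 = n12982 := d10_2 (iv F21995) D16019 (iv D12982)
theorem F28237 : act 5 n16019 = n13241 := d11_2 F21996 D16019 F22494
def n16020 : Q := act 1 n12982
theorem D16020 : act 1 n12982 = n16020 := rfl
theorem F28238 : act 3 n16020 = n13223 := d6_2 (iv F22002) D16020 (iv D13223)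
theorem F28239 : act 5 n16020 = n13223 := d8_2 (iv F22003) D16020 (iv D13223)
def n16021 : Q := act 3 n12983
theorem D16021 : act 3 n12983 = n16021 := rfl
theorem F28240 : act 1 n16021 = n12984 := d6_1 D16021 (iv D12984) D12983
def n16022 : Q := act 4 n12984
theorem D16022 : act 4 n12984 = n16022 := rfl
theorem F28241 : act 0 n16022 = n12987 := d3_1 D16022 (iv D12987) (iv F22006)
theorem F28242 : act 3 n16022 = n15135 := d12_1 D16022 (iv D15135) (iv D12056) (iv F16988) D12984
def n16023 : Q := act 2 n12985
theorem D16023 : act 2 n12985 = n16023 := rfl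
theorem F28243 : act 0 n16023 = n12988 := d1_1 D16023 (iv D12988) (iv F22007)
theorem F28244 : act 4 n16023 = n13145 := d10_2 (iv F22009) D16023 (iv D13145)
theorem F28245 : act 5 n16023 = n13255 := d11_2 (iv F22010) D16023 (iv D13255)
def n16024 : Q := act 1 n12986
theorem D16024 : act 1 n12986 = n16024 := rfl
theorem F28246 : act 3 n16024 = n15050 := d6_2 F28199 D16024 (iv F28197)
theorem F28247 : act 4 n15030 = n16024 := d12_0 F28246 (iv D15050) F20170 (iv F20139) (iv F26048)
def n16025 : Q := act 4 n12986
theorem D16025 : act 4 n12986 = n16025 := rfl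
theorem F28248 : act 1 n16025 = n15030 := d7_1 D16025 F28247 (iv D16024)
theorem F28249 : act 2 n16025 = n12987 := d10_1 D16025 (iv D12987) D12986
theorem F28250 : act 3 n16025 = n15028 := d12_1 D16025 F26047 (iv F26112) (iv F28200) F28199
theorem F28251 : act 5 n15027 = n16025 := d13_0 F28250 (iv D15028) D15027
def n16026 : Q := act 5 n12987
theorem D16026 : act 5 n12987 = n16026 := rfl
theorem F28252 : act 2 n16026 = n15027 := d11_1 D16026 F28251 F28249
theorem F28253 : act 3 n16026 = n15138 := d13_1 D16026 (iv D15138) (iv F22011)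
def n16027 : Q := act 3 n12988
theorem D16027 : act 3 n12988 = n16027 := rfl
theorem F28254 : act 1 n16027 = n13367 := d6_1 D16027 (iv D13367) (iv F22012)
theorem F28255 : act 5 n16027 = n13256 := d13_2 (iv F22014) D16027 (iv D13256)
theorem F28256 : act 2 n16027 = n13473 := d15_2 D12988 D16027 (iv D13473) (iv D10571) (iv D8192) (iv F13358) D10399 (iv F22010) F22007
def n16028 : Q := act 4 n12989
theorem D16028 : act 4 n12989 = n16028 := rfl
theorem F28257 : act 0 n16028 = n12991 := d3_1 D16028 (iv D12991) D12989
theorem F28258 : act 1 n16028 = n12996 := d7_1 D16028 (iv D12996) (iv F22015)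
theorem F28259 : act 2 n16028 = n13123 := d10_1 D16028 (iv F28108) F28107
theorem F28260 : act 5 n14827 = n16028 := d8_0 F28258 (iv F22036) (iv F25642)
def n16029 : Q := act 4 n12990
theorem D16029 : act 4 n12990 = n16029 := rfl
theorem F28261 : act 0 n16029 = n13330 := d3_1 D16029 (iv D13330) (iv F22018)
theorem F28262 : act 1 n16029 = n12993 := d7_1 D16029 (iv D12993) (iv F22019)
theorem F28263 : act 2 n16029 = n13330 := d10_1 D16029 (iv D13330) F22020
def n16030 : Q := act 3 n12991
theorem D16030 : act 3 n12991 = n16030 := rfl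
theorem F28264 : act 1 n16030 = n12994 := d6_1 D16030 (iv D12994) (iv F22021)
theorem F28265 : act 5 n16030 = n14828 := d13_2 F22023 D16030 (iv D14828)
def n16031 : Q := act 4 n12992
theorem D16031 : act 4 n12992 = n16031 := rfl
theorem F28266 : act 0 n16031 = n13259 := d3_1 D16031 (iv D13259) (iv F22024)
theorem F28267 : act 1 n16031 = n12995 := d7_1 D16031 (iv D12995) (iv F22025)
theorem F28268 : act 2 n16031 = n14900 := d10_1 D16031 (iv F28114) F28113
theorem F28269 : act 5 n16031 = n14804 := d14_2 D12992 D16031 F25604 F22023 (iv D12991)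
def n16032 : Q := act 3 n12993
theorem D16032 : act 3 n12993 = n16032 := rfl
theorem F28270 : act 0 n16032 = n13001 := d2_1 D16032 (iv D13001) (iv F22026)
theorem F28271 : act 4 n16032 = n12994 := d12_2 D12993 D16032 (iv D12994) (iv D10189) D10188
theorem F28272 : act 2 n14821 = n16032 := d10_3 F28271 F22030 D14821
def n16033 : Q := act 5 n12993
theorem D16033 : act 5 n12993 = n16033 := rfl
theorem F28273 : act 0 n16033 = n13002 := d4_1 D16033 (iv D13002) (iv F22026)
theorem F28274 : act 2 n16033 = n13328 := d11_1 D16033 (iv D13328) (iv F22027)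
def n16034 : Q := act 3 n12995
theorem D16034 : act 3 n12995 = n16034 := rfl
theorem F28275 : act 0 n16034 = n13005 := d2_1 D16034 (iv D13005) (iv F22031)
theorem F28276 : act 5 n16034 = n14805 := d13_2 (iv F22033) D16034 (iv D14805)
theorem F28277 : act 2 n16034 = n14785 := d15_2 (iv F22032) D16034 (iv D14785) (iv D11726) (iv D9119) F11616 D7012 (iv F13026) (iv F17003)
def n16035 : Q := act 3 n12996
theorem D16035 : act 3 n12996 = n16035 := rfl
theorem F28278 : act 0 n16035 = n12998 := d2_1 D16035 (iv D12998) (iv F22034)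
theorem F28279 : act 4 n16035 = n13331 := d12_2 D12996 D16035 (iv D13331) (iv D10460) F17009
theorem F28280 : act 5 n16035 = n14835 := d13_2 F22036 D16035 (iv D14835)
def n16036 : Q := act 3 n12997
theorem D16036 : act 3 n12997 = n16036 := rfl
theorem F28281 : act 0 n16036 = n13331 := d2_1 D16036 (iv D13331) (iv F22037)
theorem F28282 : act 1 n16036 = n13001 := d6_1 D16036 (iv D13001) (iv F22038)
theorem F28283 : act 4 n16036 = n12998 := d12_2 D12997 D16036 (iv D12998) (iv D10194) D10193
def n16037 : Q := act 5 n12997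
theorem D16037 : act 5 n12997 = n16037 := rfl
theorem F28284 : act 0 n16037 = n13332 := d4_1 D16037 (iv D13332) (iv F22037)
theorem F28285 : act 1 n16037 = n13002 := d8_1 D16037 (iv D13002) (iv F22038)
theorem F28286 : act 2 n16037 = n13320 := d11_1 D16037 (iv D13320) (iv F22039)
theorem F28287 : act 4 n16037 = n13267 := d14_1 D16037 (iv D13267) (iv D10409) (iv F17012) D12997
def n16038 : Q := act 2 n12998
theorem D16038 : act 2 n12998 = n16038 := rfl
theorem F28288 : act 5 n16038 = n14836 := d11_2 (iv F22041) D16038 (iv D14836)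
def n16039 : Q := act 4 n12999
theorem D16039 : act 4 n12999 = n16039 := rfl
theorem F28289 : act 0 n16039 = n13315 := d3_1 D16039 (iv D13315) (iv F22042)
theorem F28290 : act 1 n16039 = n13000 := d7_1 D16039 (iv D13000) D12999
theorem F28291 : act 2 n16039 = n13315 := d10_1 D16039 (iv D13315) (iv F22043)
theorem F28292 : act 3 n16039 = n14811 := d12_1 D16039 (iv D14811) F22627 (iv D13314) (iv F22044)
def n16040 : Q := act 3 n13000
theorem D16040 : act 3 n13000 = n16040 := rfl
theorem F28293 : act 0 n16040 = n13327 := d2_1 D16040 (iv D13327) (iv F22045)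
theorem F28294 : act 1 n16040 = n14811 := d6_1 D16040 (iv F28292) F28290
theorem F28295 : act 4 n16040 = n13326 := d12_2 D13000 D16040 (iv D13326) (iv D10456) (iv F17018)
theorem F28296 : act 2 n14813 = n16040 := d10_3 F28295 F22655 D14813
def n16041 : Q := act 5 n13000
theorem D16041 : act 5 n13000 = n16041 := rfl
theorem F28297 : act 0 n16041 = n13328 := d4_1 D16041 (iv D13328) (iv F22045)
theorem F28298 : act 2 n16041 = n13002 := d11_1 D16041 (iv D13002) (iv F22046)
def n16042 : Q := act 2 n13001
theorem D16042 : act 2 n13001 = n16042 := rfl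
theorem F28299 : act 0 n16042 = n14821 := d1_1 D16042 F28272 F28270
theorem F28300 : act 4 n16042 = n13004 := d10_2 (iv F22047) D16042 (iv D13004)
theorem F28301 : act 3 n15799 = n16042 := d12_5 F28300 F22051 F19795 (iv F21531) D15799
def n16043 : Q := act 5 n13001
theorem D16043 : act 5 n13001 = n16043 := rfl
theorem F28302 : act 3 n16043 = n13002 := d13_1 D16043 (iv D13002) D13001
theorem F28303 : act 4 n16043 = n14840 := d14_1 D16043 (iv D14840) (iv D11781) (iv F17021) (iv F22047)
def n16044 : Q := act 4 n13002
theorem D16044 : act 4 n13002 = n16044 := rfl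
theorem F28304 : act 1 n16044 = n13267 := d7_1 D16044 (iv F28287) F28285
theorem F28305 : act 5 n16044 = n13003 := d14_2 D13002 D16044 (iv D13003) (iv D10197) D10196
def n16045 : Q := act 3 n13003
theorem D16045 : act 3 n13003 = n16045 := rfl
theorem F28306 : act 1 n16045 = n13266 := d6_1 D16045 (iv D13266) (iv F22048)
theorem F28307 : act 4 n16045 = n13005 := d12_2 D13003 D16045 (iv D13005) (iv D10199) (iv F17020)
def n16046 : Q := act 1 n13004
theorem D16046 : act 1 n13004 = n16046 := rfl
theorem F28308 : act 3 n16046 = n14817 := d6_2 (iv F22051) D16046 (iv D14817)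
theorem F28309 : act 5 n16046 = n14838 := d8_2 (iv F22050) D16046 (iv D14838)
def n16047 : Q := act 2 n13005
theorem D16047 : act 2 n13005 = n16047 := rfl
theorem F28310 : act 0 n16047 = n14785 := d1_1 D16047 (iv F28277) F28275
theorem F28311 : act 5 n16047 = n14806 := d11_2 (iv F22053) D16047 (iv D14806)
theorem F28312 : act 3 n16047 = n14780 := d15_1 D16047 (iv D14780) (iv D11722) F15189 D9132 D11741 D14805 (iv F28276) F28275
def n16048 : Q := act 2 n13006
theorem D16048 : act 2 n13006 = n16048 := rfl
theorem F28313 : act 0 n16048 = n13007 := d1_1 D16048 (iv D13007) (iv F22054)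
theorem F28314 : act 4 n16048 = n13263 := d10_2 (iv F22056) D16048 (iv D13263)
theorem F28315 : act 5 n16048 = n13093 := d11_2 (iv F22057) D16048 F22231
def n16049 : Q := act 3 n13007
theorem D16049 : act 3 n13007 = n16049 := rfl
theorem F28316 : act 1 n16049 = n13080 := d6_1 D16049 (iv D13080) (iv F22058)
theorem F28317 : act 5 n16049 = n13094 := d13_2 (iv F22060) D16049 (iv D13094)
def n16050 : Q := act 1 n13008
theorem D16050 : act 1 n13008 = n16050 := rfl
theorem F28318 : act 2 n16050 = n15824 := d5_2 D13008 D16050 (iv D15824) (iv D12773) (iv F17032)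
theorem F28319 : act 3 n16050 = n14838 := d6_2 (iv F22062) D16050 (iv D14838)
theorem F28320 : act 5 n16050 = n14817 := d8_2 (iv F22063) D16050 (iv D14817)
def n16051 : Q := act 0 n13009
theorem D16051 : act 0 n13009 = n16051 := rfl
theorem F28321 : act 2 n16051 = n13026 := d1_2 (iv F22064) D16051 (iv D13026)
theorem F28322 : act 5 n16051 = n14819 := d4_2 (iv F22065) D16051 (iv D14819)
def n16052 : Q := act 3 n13009
theorem D16052 : act 3 n13009 = n16052 := rfl
theorem F28323 : act 1 n16052 = n13010 := d6_1 D16052 (iv D13010) D13009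
theorem F28324 : act 5 n16052 = n14820 := d13_2 (iv F22065) D16052 (iv D14820)
def n16053 : Q := act 4 n13010
theorem D16053 : act 4 n13010 = n16053 := rfl
theorem F28325 : act 0 n16053 = n14839 := d3_1 D16053 (iv D14839) (iv F22066)
theorem F28326 : act 2 n16053 = n14829 := d10_1 D16053 (iv D14829) (iv F22067)
def n16054 : Q := act 1 n13012
theorem D16054 : act 1 n13012 = n16054 := rfl
theorem F28327 : act 2 n16054 = n13013 := d5_2 D13012 D16054 (iv D13013) (iv D10206) (iv F17038)
theorem F28328 : act 3 n16054 = n15117 := d6_2 (iv F22074) D16054 (iv D15117)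
theorem F28329 : act 5 n16054 = n15132 := d8_2 (iv F22073) D16054 (iv D15132)
def n16055 : Q := act 0 n13013
theorem D16055 : act 0 n13013 = n16055 := rfl
def n16056 : Q := act 3 n13013
theorem D16056 : act 3 n13013 = n16056 := rfl
theorem F28330 : act 1 n16056 = n13014 := d6_1 D16056 (iv D13014) D13013
theorem F28331 : act 2 n13401 = n16056 := d5_0 F28330 F22076 F17045 (iv F17607) (iv F22786)
theorem F28332 : act 5 n13017 = n16056 := d8_0 F28330 F22077 D13017
def n16057 : Q := act 5 n13013
theorem D16057 : act 5 n13013 = n16057 := rfl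
theorem F28333 : act 1 n16057 = n13015 := d8_1 D16057 (iv D13015) D13013
theorem F28334 : act 2 n16057 = n15132 := d11_1 D16057 (iv F28329) F28327
theorem F28335 : act 3 n16057 = n13017 := d13_1 D16057 F28332 (iv D16056)
def n16058 : Q := act 0 n13017
theorem D16058 : act 0 n13017 = n16058 := rfl
theorem F28336 : act 1 n16058 = n13019 := d0_2 D13017 D16058 (iv D13019) (iv D10210) (iv F17042)
theorem F28337 : act 2 n16058 = n13399 := d1_2 (iv F22082) D16058 (iv D13399)
theorem F28338 : act 4 n16058 = n13019 := d3_2 (iv F22083) D16058 (iv D13019)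
def n16059 : Q := act 3 n13019
theorem D16059 : act 3 n13019 = n16059 := rfl
theorem F28339 : act 0 n16059 = n13020 := d2_1 D16059 (iv D13020) D13019
def n16060 : Q := act 5 n13019
theorem D16060 : act 5 n13019 = n16060 := rfl
theorem F28340 : act 0 n16060 = n13021 := d4_1 D16060 (iv D13021) D13019
theorem F28341 : act 2 n16060 = n13405 := d11_1 D16060 (iv D13405) (iv F22088)
def n16061 : Q := act 2 n13020
theorem D16061 : act 2 n13020 = n16061 := rfl
theorem F28342 : act 3 n16061 = n15447 := d15_3 (iv F17047) D13020 D16061 F27242 (iv D15550) F21061 (iv F22797) (iv D13405) (iv D10521)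
theorem F28343 : act 4 n15449 = n16061 := d12_0 F28342 (iv D15447) (iv D12357) D12358 D15449
def n16062 : Q := act 4 n13020
theorem D16062 : act 4 n13020 = n16062 := rfl
theorem F28344 : act 1 n16062 = n13022 := d7_1 D16062 (iv D13022) (iv F22089)
theorem F28345 : act 2 n16062 = n15449 := d10_1 D16062 F28343 (iv D16061)
def n16063 : Q := act 4 n13021
theorem D16063 : act 4 n13021 = n16063 := rfl
theorem F28346 : act 1 n16063 = n13023 := d7_1 D16063 (iv D13023) (iv F22090)
theorem F28347 : act 2 n16063 = n13407 := d10_1 D16063 (iv D13407) (iv F22091)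
def n16064 : Q := act 1 n13024
theorem D16064 : act 1 n13024 = n16064 := rfl
def n16065 : Q := act 3 n13024
theorem D16065 : act 3 n13024 = n16065 := rfl
theorem F28348 : act 0 n16065 = n14626 := d2_1 D16065 (iv F28172) F28170
theorem F28349 : act 2 n16065 = n14634 := d9_1 D16065 F25198 F19792 (iv F17053) (iv F21971) (iv F28177) F28176 (iv D14818) (iv D11756) (iv D9145) F11653 (iv F9919) (iv F13066) D10215 D13024
theorem F28350 : act 5 n16065 = n14816 := d15_8 (iv D11756) (iv D9145) F11653 (iv F9919) (iv F13066) D10215 D13024 D16065 F25621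
theorem F28351 : act 4 n14622 = n16065 := d10_0 F28349 (iv D14634) (iv F25173)
def n16066 : Q := act 5 n13024
theorem D16066 : act 5 n13024 = n16066 := rfl
theorem F28352 : act 0 n16066 = n14818 := d4_1 D16066 F28174 F28170
theorem F28353 : act 2 n16066 = n13025 := d11_1 D16066 (iv D13025) D13024
theorem F28354 : act 3 n16066 = n14816 := d13_1 D16066 (iv F28350) (iv D16065)
def n16067 : Q := act 4 n13025
theorem D16067 : act 4 n13025 = n16067 := rfl
def n16068 : Q := act 1 n13027
theorem D16068 : act 1 n13027 = n16068 := rfl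
theorem F28355 : act 2 n16068 = n13085 := d5_2 D13027 D16068 (iv D13085) (iv D10267) (iv F17058)
theorem F28356 : act 3 n16068 = n15865 := d6_2 (iv F22100) D16068 (iv D15865)
theorem F28357 : act 4 n16068 = n13179 := d7_2 (iv F22098) D16068 (iv D13179)
theorem F28358 : act 5 n16068 = n13417 := d8_2 (iv F22099) D16068 (iv D13417)
def n16069 : Q := act 0 n13028
theorem D16069 : act 0 n13028 = n16069 := rfl
theorem F28359 : act 2 n16069 = n13030 := d1_2 (iv F22101) D16069 (iv D13030)
theorem F28360 : act 4 n16069 = n13183 := d3_2 (iv F22102) D16069 (iv D13183)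
theorem F28361 : act 5 n16069 = n13145 := d4_2 (iv F22103) D16069 F22313
def n16070 : Q := act 3 n13028
theorem D16070 : act 3 n13028 = n16070 := rfl
theorem F28362 : act 1 n16070 = n13029 := d6_1 D16070 (iv D13029) D13028
theorem F28363 : act 5 n16070 = n13146 := d13_2 (iv F22103) D16070 (iv D13146)
def n16071 : Q := act 4 n13029
theorem D16071 : act 4 n13029 = n16071 := rfl
theorem F28364 : act 0 n16071 = n15866 := d3_1 D16071 (iv D15866) (iv F22104)
theorem F28365 : act 2 n16071 = n15852 := d10_1 D16071 (iv D15852) (iv F22106)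
theorem F28366 : act 3 n16071 = n13186 := d12_1 D16071 (iv D13186) (iv D10340) (iv F17061) D13029
def n16072 : Q := act 3 n13031
theorem D16072 : act 3 n13031 = n16072 := rfl
theorem F28367 : act 0 n16072 = n13147 := d2_1 D16072 (iv D13147) (iv F22111)
theorem F28368 : act 1 n16072 = n13033 := d6_1 D16072 (iv D13033) (iv F22112)
theorem F28369 : act 4 n16072 = n13216 := d12_2 D13031 D16072 (iv D13216) (iv D10366) F17069
def n16073 : Q := act 5 n13031
theorem D16073 : act 5 n13031 = n16073 := rfl
theorem F28370 : act 0 n16073 = n13148 := d4_1 D16073 (iv D13148) (iv F22111)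
theorem F28371 : act 1 n16073 = n13034 := d8_1 D16073 (iv D13034) (iv F22112)
theorem F28372 : act 2 n16073 = n13082 := d11_1 D16073 (iv D13082) (iv F22113)
theorem F28373 : act 4 n16073 = n13158 := d14_1 D16073 (iv D13158) (iv D10319) (iv F17068) D13031
def n16074 : Q := act 3 n13032
theorem D16074 : act 3 n13032 = n16074 := rfl
theorem F28374 : act 0 n16074 = n13036 := d2_1 D16074 (iv D13036) (iv F22114)
theorem F28375 : act 1 n16074 = n13216 := d6_1 D16074 (iv D13216) (iv F22115)
theorem F28376 : act 4 n16074 = n13033 := d12_2 D13032 D16074 (iv D13033) (iv D10223) D10222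
def n16075 : Q := act 2 n13033
theorem D16075 : act 2 n13033 = n16075 := rfl
theorem F28377 : act 0 n16075 = n13038 := d1_1 D16075 (iv D13038) (iv F22117)
theorem F28378 : act 3 n16075 = n13425 := d15_1 D16075 F22833 F17635 F13544 (iv F13093) (iv F17087) (iv F22129) (iv D13039) (iv F22117)
theorem F28379 : act 5 n13424 = n16075 := d13_0 F28378 (iv D13425) D13424
def n16076 : Q := act 5 n13033
theorem D16076 : act 5 n13033 = n16076 := rfl
theorem F28380 : act 0 n16076 = n13039 := d4_1 D16076 (iv D13039) (iv F22117)
theorem F28381 : act 2 n16076 = n13424 := d11_1 D16076 F28379 (iv D16075)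
theorem F28382 : act 3 n16076 = n13034 := d13_1 D16076 (iv D13034) D13033
def n16077 : Q := act 3 n13035
theorem D16077 : act 3 n13035 = n16077 := rfl
theorem F28383 : act 0 n16077 = n15831 := d2_1 D16077 (iv D15831) (iv F22121)
theorem F28384 : act 1 n16077 = n13215 := d6_1 D16077 (iv D13215) (iv F22122)
theorem F28385 : act 4 n16077 = n15822 := d12_2 D13035 D16077 (iv D15822) (iv D12770) (iv F17082)
def n16078 : Q := act 2 n13036
theorem D16078 : act 2 n13036 = n16078 := rfl
theorem F28386 : act 4 n16078 = n13038 := d10_2 (iv F22125) D16078 (iv D13038)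
def n16079 : Q := act 5 n13036
theorem D16079 : act 5 n13036 = n16079 := rfl
theorem F28387 : act 1 n16079 = n13152 := d8_1 D16079 (iv D13152) (iv F22124)
theorem F28388 : act 3 n16079 = n13037 := d13_1 D16079 (iv D13037) D13036
def n16080 : Q := act 1 n13038
theorem D16080 : act 1 n13038 = n16080 := rfl
theorem F28389 : act 2 n16080 = n13153 := d5_2 D13038 D16080 (iv D13153) (iv D10317) (iv F17085)
def n16081 : Q := act 3 n13038
theorem D16081 : act 3 n13038 = n16081 := rfl
theorem F28390 : act 0 n16081 = n13425 := d2_1 D16081 (iv F28378) F28377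
theorem F28391 : act 2 n16081 = n13416 := d9_1 D16081 F22820 F17626 (iv F17078) (iv F22119) (iv F28382) F28381 (iv D13424) (iv D10536) (iv D8162) F10318 (iv F9940) (iv F13091) D10227 D13038
theorem F28392 : act 5 n16081 = n13415 := d15_8 (iv D10536) (iv D8162) F10318 (iv F9940) (iv F13091) D10227 D13038 D16081 F22818
def n16082 : Q := act 5 n13038
theorem D16082 : act 5 n13038 = n16082 := rfl
theorem F28393 : act 0 n16082 = n13424 := d4_1 D16082 F28379 F28377
theorem F28394 : act 2 n16082 = n13039 := d11_1 D16082 (iv D13039) D13038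
theorem F28395 : act 3 n16082 = n13415 := d13_1 D16082 (iv F28392) (iv D16081)
def n16083 : Q := act 4 n13039
theorem D16083 : act 4 n13039 = n16083 := rfl
theorem F28396 : act 1 n16083 = n13156 := d7_1 D16083 (iv D13156) (iv F22128)
theorem F28397 : act 3 n16083 = n13171 := d12_1 D16083 (iv D13171) F17266 (iv F17088) (iv F22129)
def n16084 : Q := act 3 n13040
theorem D16084 : act 3 n13040 = n16084 := rfl
theorem F28398 : act 0 n16084 = n13081 := d2_1 D16084 (iv D13081) (iv F22130)
theorem F28399 : act 1 n16084 = n13041 := d6_1 D16084 (iv D13041) (iv F22131)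
def n16085 : Q := act 5 n13040
theorem D16085 : act 5 n13040 = n16085 := rfl
theorem F28400 : act 0 n16085 = n13082 := d4_1 D16085 (iv D13082) (iv F22130)
theorem F28401 : act 1 n16085 = n13042 := d8_1 D16085 (iv D13042) (iv F22131)
theorem F28402 : act 2 n16085 = n13148 := d11_1 D16085 (iv D13148) (iv F22132)
theorem F28403 : act 4 n16085 = n13050 := d14_1 D16085 (iv D13050) (iv D10237) (iv F17091) D13040
def n16086 : Q := act 2 n13041
theorem D16086 : act 2 n13041 = n16086 := rfl
theorem F28404 : act 0 n16086 = n13045 := d1_1 D16086 (iv D13045) (iv F22133)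
theorem F28405 : act 3 n16086 = n13523 := d15_1 D16086 (iv D13523) (iv D10613) F13636 (iv F13104) (iv F17101) (iv F22142) (iv D13046) (iv F22133)
def n16087 : Q := act 5 n13041
theorem D16087 : act 5 n13041 = n16087 := rfl
theorem F28406 : act 0 n16087 = n13046 := d4_1 D16087 (iv D13046) (iv F22133)
theorem F28407 : act 3 n16087 = n13042 := d13_1 D16087 (iv D13042) D13041
def n16088 : Q := act 2 n13043
theorem D16088 : act 2 n13043 = n16088 := rfl
theorem F28408 : act 4 n16088 = n13045 := d10_2 (iv F22138) D16088 (iv D13045)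
def n16089 : Q := act 5 n13043
theorem D16089 : act 5 n13043 = n16089 := rfl
theorem F28409 : act 1 n16089 = n13088 := d8_1 D16089 (iv D13088) (iv F22137)
theorem F28410 : act 3 n16089 = n13044 := d13_1 D16089 (iv D13044) D13043
def n16090 : Q := act 1 n13045
theorem D16090 : act 1 n13045 = n16090 := rfl
theorem F28411 : act 2 n16090 = n13089 := d5_2 D13045 D16090 (iv D13089) (iv D10270) (iv F17099)
def n16091 : Q := act 3 n13045
theorem D16091 : act 3 n13045 = n16091 := rfl
theorem F28412 : act 0 n16091 = n13523 := d2_1 D16091 (iv F28405) F28404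
theorem F28413 : act 2 n16091 = n13508 := d15_2 D13045 D16091 (iv D13508) F17741 (iv F17096) (iv F22135) (iv F28407) (iv D16087) F22133
def n16092 : Q := act 5 n13045
theorem D16092 : act 5 n13045 = n16092 := rfl
theorem F28414 : act 2 n16092 = n13046 := d11_1 D16092 (iv D13046) D13045
def n16093 : Q := act 4 n13046
theorem D16093 : act 4 n13046 = n16093 := rfl
theorem F28415 : act 1 n16093 = n13092 := d7_1 D16093 (iv D13092) (iv F22141)
theorem F28416 : act 3 n16093 = n13065 := d12_1 D16093 (iv D13065) F17133 (iv F17102) (iv F22142)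
def n16094 : Q := act 3 n13047
theorem D16094 : act 3 n13047 = n16094 := rfl
theorem F28417 : act 0 n16094 = n13049 := d2_1 D16094 (iv D13049) (iv F22143)
theorem F28418 : act 1 n16094 = n13053 := d6_1 D16094 (iv D13053) (iv F22144)
theorem F28419 : act 4 n16094 = n13126 := d12_2 D13047 D16094 (iv D13126) (iv D10297) F17106
def n16095 : Q := act 5 n13047
theorem D16095 : act 5 n13047 = n16095 := rfl
theorem F28420 : act 0 n16095 = n13050 := d4_1 D16095 (iv D13050) (iv F22143)
theorem F28421 : act 1 n16095 = n13054 := d8_1 D16095 (iv D13054) (iv F22144)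
theorem F28422 : act 2 n16095 = n13158 := d11_1 D16095 (iv D13158) (iv F22145)
theorem F28423 : act 4 n16095 = n13082 := d14_1 D16095 (iv D13082) (iv D10264) (iv F17105) D13047
def n16096 : Q := act 3 n13048
theorem D16096 : act 3 n13048 = n16096 := rfl
theorem F28424 : act 0 n16096 = n13126 := d2_1 D16096 (iv D13126) (iv F22146)
theorem F28425 : act 1 n16096 = n13051 := d6_1 D16096 (iv D13051) (iv F22147)
theorem F28426 : act 4 n16096 = n13049 := d12_2 D13048 D16096 (iv D13049) (iv D10237) D10236
def n16097 : Q := act 5 n13048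
theorem D16097 : act 5 n13048 = n16097 := rfl
theorem F28427 : act 0 n16097 = n13127 := d4_1 D16097 (iv D13127) (iv F22146)
theorem F28428 : act 1 n16097 = n13052 := d8_1 D16097 (iv D13052) (iv F22147)
theorem F28429 : act 2 n16097 = n15944 := d11_1 D16097 (iv D15944) (iv F22148)
def n16098 : Q := act 2 n13049
theorem D16098 : act 2 n13049 = n16098 := rfl
def n16099 : Q := act 5 n13051
theorem D16099 : act 5 n13051 = n16099 := rfl
theorem F28430 : act 0 n16099 = n13063 := d4_1 D16099 (iv D13063) (iv F22152)
theorem F28431 : act 3 n16099 = n13052 := d13_1 D16099 (iv D13052) D13051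
def n16100 : Q := act 2 n13053
theorem D16100 : act 2 n13053 = n16100 := rfl
theorem F28432 : act 0 n16100 = n13057 := d1_1 D16100 (iv D13057) (iv F22156)
theorem F28433 : act 4 n16100 = n13128 := d10_2 (iv F22157) D16100 (iv D13128)
def n16101 : Q := act 5 n13053
theorem D16101 : act 5 n13053 = n16101 := rfl
theorem F28434 : act 0 n16101 = n13058 := d4_1 D16101 (iv D13058) (iv F22156)
theorem F28435 : act 3 n16101 = n13054 := d13_1 D16101 (iv D13054) D13053
def n16102 : Q := act 2 n13055
theorem D16102 : act 2 n13055 = n16102 := rfl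
theorem F28436 : act 0 n16102 = n13128 := d1_1 D16102 (iv D13128) (iv F22161)
theorem F28437 : act 4 n16102 = n13057 := d10_2 (iv F22163) D16102 (iv D13057)
def n16103 : Q := act 5 n13055
theorem D16103 : act 5 n13055 = n16103 := rfl
theorem F28438 : act 0 n16103 = n13129 := d4_1 D16103 (iv D13129) (iv F22161)
theorem F28439 : act 1 n16103 = n13063 := d8_1 D16103 (iv D13063) (iv F22162)
theorem F28440 : act 3 n16103 = n13056 := d13_1 D16103 (iv D13056) D13055
def n16104 : Q := act 1 n13057
theorem D16104 : act 1 n13057 = n16104 := rfl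
theorem F28441 : act 2 n16104 = n13064 := d5_2 D13057 D16104 (iv D13064) (iv D10249) (iv F17122)
def n16105 : Q := act 3 n13057
theorem D16105 : act 3 n13057 = n16105 := rfl
def n16106 : Q := act 5 n13057
theorem D16106 : act 5 n13057 = n16106 := rfl
theorem F28442 : act 2 n16106 = n13058 := d11_1 D16106 (iv D13058) D13057
def n16107 : Q := act 4 n13058
theorem D16107 : act 4 n13058 = n16107 := rfl
theorem F28443 : act 1 n16107 = n13065 := d7_1 D16107 (iv D13065) (iv F22168)
theorem F28444 : act 3 n16107 = n13092 := d12_1 D16107 (iv D13092) F17176 (iv F17125) (iv F22169)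
def n16108 : Q := act 3 n13059
theorem D16108 : act 3 n13059 = n16108 := rfl
theorem F28445 : act 0 n16108 = n15963 := d2_1 D16108 (iv D15963) (iv F22170)
theorem F28446 : act 1 n16108 = n13060 := d6_1 D16108 (iv D13060) (iv F22171)
theorem F28447 : act 4 n16108 = n16084 := d12_2 D13059 D16108 (iv D16084) (iv D13040) (iv F17128)
theorem F28448 : act 2 n16108 = n16084 := d15_2 (iv F22172) D16108 (iv D16084) F22132 D13147 (iv F28089) F28090 (iv D12940) (iv F17208)
def n16109 : Q := act 5 n13059
theorem D16109 : act 5 n13059 = n16109 := rfl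
theorem F28449 : act 0 n16109 = n15964 := d4_1 D16109 (iv D15964) (iv F22170)
theorem F28450 : act 1 n16109 = n13061 := d8_1 D16109 (iv D13061) (iv F22171)
theorem F28451 : act 2 n16109 = n13116 := d11_1 D16109 (iv D13116) (iv F22172)
theorem F28452 : act 4 n16109 = n16097 := d14_1 D16109 (iv D16097) (iv D13048) (iv F17129) D13059
def n16110 : Q := act 2 n13060
theorem D16110 : act 2 n13060 = n16110 := rfl
theorem F28453 : act 0 n16110 = n16088 := d1_1 D16110 (iv D16088) (iv F22173)
theorem F28454 : act 1 n16110 = n16086 := d5_1 D16110 (iv D16086) (iv F28399) (iv F28448) F28446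
theorem F28455 : act 4 n16110 = n16086 := d10_2 (iv F22174) D16110 (iv D16086)
def n16111 : Q := act 5 n13060
theorem D16111 : act 5 n13060 = n16111 := rfl
theorem F28456 : act 0 n16111 = n16089 := d4_1 D16111 (iv D16089) (iv F22173)
theorem F28457 : act 3 n16111 = n13061 := d13_1 D16111 (iv D13061) D13060
def n16112 : Q := act 1 n13062
theorem D16112 : act 1 n13062 = n16112 := rfl
theorem F28458 : act 4 n16112 = n13064 := d7_2 (iv F22178) D16112 (iv D13064)
def n16113 : Q := act 3 n13062
theorem D16113 : act 3 n13062 = n16113 := rfl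
theorem F28459 : act 0 n16113 = n16003 := d2_1 D16113 (iv F28179) F25184
def n16114 : Q := act 5 n13062
theorem D16114 : act 5 n13062 = n16114 := rfl
theorem F28460 : act 2 n16114 = n13063 := d11_1 D16114 (iv D13063) D13062
def n16115 : Q := act 4 n13063
theorem D16115 : act 4 n13063 = n16115 := rfl
theorem F28461 : act 5 n16115 = n13065 := d14_2 D13063 D16115 (iv D13065) (iv D10250) (iv F17132)
def n16116 : Q := act 0 n13064
theorem D16116 : act 0 n13064 = n16116 := rfl
def n16117 : Q := act 1 n13066
theorem D16117 : act 1 n13066 = n16117 := rfl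
theorem F28462 : act 2 n16117 = n13179 := d5_2 D13066 D16117 (iv D13179) (iv D10337) (iv F17135)
theorem F28463 : act 4 n16117 = n13085 := d7_2 (iv F22181) D16117 (iv D13085)
def n16118 : Q := act 3 n13066
theorem D16118 : act 3 n13066 = n16118 := rfl
theorem F28464 : act 0 n16118 = n13069 := d2_1 D16118 (iv D13069) (iv F22180)
def n16119 : Q := act 5 n13066
theorem D16119 : act 5 n13066 = n16119 := rfl
theorem F28465 : act 0 n16119 = n13070 := d4_1 D16119 (iv D13070) (iv F22180)
theorem F28466 : act 2 n16119 = n13067 := d11_1 D16119 (iv D13067) D13066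
theorem F28467 : act 4 n16119 = n13281 := d14_1 D16119 F22580 (iv F22205) F22206 (iv F22181)
def n16120 : Q := act 0 n13068
theorem D16120 : act 0 n13068 = n16120 := rfl
theorem F28468 : act 2 n16120 = n13071 := d1_2 (iv F22186) D16120 (iv D13071)
theorem F28469 : act 4 n16120 = n13093 := d3_2 (iv F22187) D16120 (iv D13093)
theorem F28470 : act 5 n16120 = n13213 := d4_2 F22188 D16120 F22431
def n16121 : Q := act 3 n13068
theorem D16121 : act 3 n13068 = n16121 := rfl
theorem F28471 : act 1 n16121 = n13069 := d6_1 D16121 (iv D13069) D13068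
theorem F28472 : act 5 n16121 = n13214 := d13_2 F22188 D16121 (iv D13214)
def n16122 : Q := act 2 n13069
theorem D16122 : act 2 n13069 = n16122 := rfl
def n16123 : Q := act 4 n13069
theorem D16123 : act 4 n13069 = n16123 := rfl
theorem F28473 : act 3 n16123 = n13096 := d12_1 D16123 (iv D13096) (iv D10273) (iv F17140) D13069
def n16124 : Q := act 5 n13069
theorem D16124 : act 5 n13069 = n16124 := rfl
theorem F28474 : act 1 n16124 = n13214 := d8_1 D16124 (iv F28472) F28471
theorem F28475 : act 3 n16124 = n13070 := d13_1 D16124 (iv D13070) D13069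
def n16125 : Q := act 3 n13072
theorem D16125 : act 3 n13072 = n16125 := rfl
theorem F28476 : act 0 n16125 = n13434 := d2_1 D16125 (iv D13434) (iv F22196)
theorem F28477 : act 1 n16125 = n13073 := d6_1 D16125 (iv D13073) (iv F22197)
theorem F28478 : act 4 n16125 = n14866 := d12_2 D13072 D16125 (iv D14866) (iv D11801) (iv F17149)
def n16126 : Q := act 5 n13072
theorem D16126 : act 5 n13072 = n16126 := rfl
theorem F28479 : act 0 n16126 = n13433 := d4_1 D16126 F22846 (iv F22196)
theorem F28480 : act 1 n16126 = n13074 := d8_1 D16126 (iv D13074) (iv F22197)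
theorem F28481 : act 2 n16126 = n13412 := d11_1 D16126 (iv D13412) (iv F22198)
theorem F28482 : act 4 n16126 = n13430 := d14_1 D16126 (iv D13430) (iv D10539) (iv F17150) D13072
def n16127 : Q := act 2 n13073
theorem D16127 : act 2 n13073 = n16127 := rfl
theorem F28483 : act 0 n16127 = n13078 := d1_1 D16127 (iv D13078) (iv F22199)
theorem F28484 : act 4 n16127 = n14868 := d10_2 (iv F22200) D16127 (iv D14868)
theorem F28485 : act 3 n16127 = n13091 := d15_1 D16127 F22230 F17176 F13167 (iv F13158) (iv F17166) (iv F22216) (iv D13079) (iv F22199)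
theorem F28486 : act 5 n13090 = n16127 := d13_0 F28485 (iv D13091) D13090
def n16128 : Q := act 5 n13073
theorem D16128 : act 5 n13073 = n16128 := rfl
theorem F28487 : act 0 n16128 = n13079 := d4_1 D16128 (iv D13079) (iv F22199)
theorem F28488 : act 2 n16128 = n13090 := d11_1 D16128 F28486 (iv D16127)
theorem F28489 : act 3 n16128 = n13074 := d13_1 D16128 (iv D13074) D13073
def n16129 : Q := act 1 n13075
theorem D16129 : act 1 n13075 = n16129 := rfl
theorem F28490 : act 2 n16129 = n13417 := d5_2 D13075 D16129 (iv D13417) (iv D10531) (iv F17158)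
theorem F28491 : act 3 n16129 = n13142 := d6_2 (iv F22207) D16129 (iv D13142)
theorem F28492 : act 4 n16129 = n13466 := d7_2 (iv F22205) D16129 (iv D13466)
theorem F28493 : act 5 n16129 = n13085 := d8_2 (iv F22206) D16129 (iv D13085)
def n16130 : Q := act 2 n13076
theorem D16130 : act 2 n13076 = n16130 := rfl
theorem F28494 : act 0 n16130 = n14868 := d1_1 D16130 (iv D14868) (iv F22208)
theorem F28495 : act 4 n16130 = n13078 := d10_2 (iv F22210) D16130 (iv D13078)
def n16131 : Q := act 5 n13076
theorem D16131 : act 5 n13076 = n16131 := rfl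
theorem F28496 : act 0 n16131 = n14869 := d4_1 D16131 (iv D14869) (iv F22208)
theorem F28497 : act 1 n16131 = n13454 := d8_1 D16131 F22885 (iv F22209)
theorem F28498 : act 3 n16131 = n13077 := d13_1 D16131 (iv D13077) D13076
def n16132 : Q := act 1 n13078
theorem D16132 : act 1 n13078 = n16132 := rfl
theorem F28499 : act 2 n16132 = n13463 := d5_2 D13078 D16132 (iv D13463) (iv D10564) (iv F17164)
def n16133 : Q := act 3 n13078
theorem D16133 : act 3 n13078 = n16133 := rfl
theorem F28500 : act 0 n16133 = n13091 := d2_1 D16133 (iv F28485) F28483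
theorem F28501 : act 2 n16133 = n13084 := d9_1 D16133 F22224 F17173 (iv F17155) (iv F22202) (iv F28489) F28488 (iv D13090) (iv D10270) (iv D7949) F10001 (iv F9986) (iv F13156) D10261 D13078
theorem F28502 : act 5 n16133 = n13083 := d15_8 (iv D10270) (iv D7949) F10001 (iv F9986) (iv F13156) D10261 D13078 D16133 F22222
def n16134 : Q := act 5 n13078
theorem D16134 : act 5 n13078 = n16134 := rfl
theorem F28503 : act 0 n16134 = n13090 := d4_1 D16134 F28486 F28483
theorem F28504 : act 2 n16134 = n13079 := d11_1 D16134 (iv D13079) D13078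
theorem F28505 : act 3 n16134 = n13083 := d13_1 D16134 (iv F28502) (iv D16133)
def n16135 : Q := act 4 n13079
theorem D16135 : act 4 n13079 = n16135 := rfl
theorem F28506 : act 1 n16135 = n13461 := d7_1 D16135 F22896 (iv F22215)
theorem F28507 : act 3 n16135 = n13449 := d12_1 D16135 (iv D13449) F17665 (iv F17167) (iv F22216)
def n16136 : Q := act 4 n13080
theorem D16136 : act 4 n13080 = n16136 := rfl
theorem F28508 : act 0 n16136 = n13143 := d3_1 D16136 (iv D13143) (iv F22217)
theorem F28509 : act 2 n16136 = n13125 := d10_1 D16136 (iv D13125) (iv F22219)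
theorem F28510 : act 3 n16136 = n13469 := d12_1 D16136 (iv D13469) (iv D10568) (iv F17168) D13080
def n16137 : Q := act 5 n13081
theorem D16137 : act 5 n13081 = n16137 := rfl
theorem F28511 : act 1 n16137 = n13084 := d8_1 D16137 (iv D13084) (iv F22220)
theorem F28512 : act 3 n16137 = n13082 := d13_1 D16137 (iv D13082) D13081
def n16138 : Q := act 4 n13084
theorem D16138 : act 4 n13084 = n16138 := rfl
theorem F28513 : act 0 n16138 = n13092 := d3_1 D16138 (iv D13092) (iv F22223)
def n16139 : Q := act 0 n13085
theorem D16139 : act 0 n13085 = n16139 := rfl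
theorem F28514 : act 1 n16139 = n13093 := d0_2 D13085 D16139 (iv D13093) (iv D10272) (iv F17174)
def n16140 : Q := act 3 n13085
theorem D16140 : act 3 n13085 = n16140 := rfl
theorem F28515 : act 1 n16140 = n13086 := d6_1 D16140 (iv D13086) D13085
theorem F28516 : act 5 n16140 = n13142 := d13_2 F28493 D16140 (iv F28491)
def n16141 : Q := act 4 n13086
theorem D16141 : act 4 n13086 = n16141 := rfl
theorem F28517 : act 0 n16141 = n13096 := d3_1 D16141 (iv D13096) (iv F22225)
theorem F28518 : act 2 n16141 = n13114 := d10_1 D16141 (iv D13114) (iv F22226)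
def n16142 : Q := act 1 n13087
theorem D16142 : act 1 n13087 = n16142 := rfl
theorem F28519 : act 0 n16142 = n13089 := d0_1 D16142 (iv D13089) (iv F22222) (iv F28087) F28078
theorem F28520 : act 4 n16142 = n13089 := d7_2 (iv F22228) D16142 (iv D13089)
def n16143 : Q := act 3 n13087
theorem D16143 : act 3 n13087 = n16143 := rfl
def n16144 : Q := act 5 n13087
theorem D16144 : act 5 n13087 = n16144 := rfl
theorem F28521 : act 2 n16144 = n13088 := d11_1 D16144 (iv D13088) D13087
def n16145 : Q := act 4 n13088
theorem D16145 : act 4 n13088 = n16145 := rfl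
theorem F28522 : act 5 n16145 = n13092 := d14_2 D13088 D16145 (iv D13092) (iv D10271) (iv F17175)
def n16146 : Q := act 3 n13089
theorem D16146 : act 3 n13089 = n16146 := rfl
theorem F28523 : act 1 n16146 = n13090 := d6_1 D16146 (iv D13090) D13089
def n16147 : Q := act 5 n13089
theorem D16147 : act 5 n13089 = n16147 := rfl
theorem F28524 : act 1 n16147 = n13091 := d8_1 D16147 (iv D13091) D13089
def n16148 : Q := act 4 n13090
theorem D16148 : act 4 n13090 = n16148 := rfl
def n16149 : Q := act 4 n13091
theorem D16149 : act 4 n13091 = n16149 := rfl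
theorem F28525 : act 2 n16149 = n13092 := d10_1 D16149 (iv D13092) (iv F22230)
def n16150 : Q := act 3 n13093
theorem D16150 : act 3 n13093 = n16150 := rfl
theorem F28526 : act 0 n16150 = n13094 := d2_1 D16150 (iv D13094) D13093
def n16151 : Q := act 2 n13094
theorem D16151 : act 2 n13094 = n16151 := rfl
def n16152 : Q := act 4 n13094
theorem D16152 : act 4 n13094 = n16152 := rfl
theorem F28527 : act 1 n16152 = n13096 := d7_1 D16152 (iv D13096) (iv F22232)
def n16153 : Q := act 1 n13095
theorem D16153 : act 1 n13095 = n16153 := rfl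
theorem F28528 : act 3 n16153 = n13103 := d6_2 (iv F22234) D16153 (iv D13103)
theorem F28529 : act 5 n16153 = n13124 := d8_2 (iv F22235) D16153 F22298
def n16154 : Q := act 4 n13095
theorem D16154 : act 4 n13095 = n16154 := rfl
theorem F28530 : act 0 n16154 = n13114 := d3_1 D16154 (iv D13114) (iv F22233)
theorem F28531 : act 2 n16154 = n13096 := d10_1 D16154 (iv D13096) D13095
theorem F28532 : act 3 n16154 = n14901 := d12_1 D16154 (iv D14901) (iv D11829) (iv F17190) (iv F22234)
def n16155 : Q := act 5 n13096
theorem D16155 : act 5 n13096 = n16155 := rfl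
def n16156 : Q := act 2 n13097
theorem D16156 : act 2 n13097 = n16156 := rfl
theorem F28533 : act 0 n16156 = n14852 := d1_1 D16156 (iv D14852) (iv F22236)
theorem F28534 : act 4 n16156 = n14997 := d10_2 (iv F22238) D16156 (iv D14997)
def n16157 : Q := act 5 n13097
theorem D16157 : act 5 n13097 = n16157 := rfl
theorem F28535 : act 0 n16157 = n14851 := d4_1 D16157 F25682 (iv F22236)
theorem F28536 : act 1 n16157 = n13102 := d8_1 D16157 (iv D13102) (iv F22237)
theorem F28537 : act 3 n16157 = n13098 := d13_1 D16157 (iv D13098) D13097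
def n16158 : Q := act 2 n13099
theorem D16158 : act 2 n13099 = n16158 := rfl
theorem F28538 : act 0 n16158 = n13106 := d1_1 D16158 (iv D13106) (iv F22243)
theorem F28539 : act 4 n16158 = n13101 := d10_2 (iv F22245) D16158 (iv D13101)
def n16159 : Q := act 5 n13099
theorem D16159 : act 5 n13099 = n16159 := rfl
theorem F28540 : act 0 n16159 = n13107 := d4_1 D16159 (iv D13107) (iv F22243)
theorem F28541 : act 1 n16159 = n14998 := d8_1 D16159 (iv D14998) (iv F22244)
theorem F28542 : act 3 n16159 = n13100 := d13_1 D16159 (iv D13100) D13099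
def n16160 : Q := act 1 n13101
theorem D16160 : act 1 n13101 = n16160 := rfl
theorem F28543 : act 3 n16160 = n13136 := d6_2 (iv F22251) D16160 F22308
theorem F28544 : act 5 n16160 = n13135 := d8_2 F22252 D16160 F22307
def n16161 : Q := act 4 n13102
theorem D16161 : act 4 n13102 = n16161 := rfl
theorem F28545 : act 0 n16161 = n13111 := d3_1 D16161 (iv D13111) (iv F22253)
theorem F28546 : act 2 n16161 = n13137 := d10_1 D16161 (iv D13137) (iv F22254)
theorem F28547 : act 3 n16161 = n14865 := d12_1 D16161 (iv D14865) F19876 (iv F17188) (iv F22255)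
def n16162 : Q := act 0 n13103
theorem D16162 : act 0 n13103 = n16162 := rfl
theorem F28548 : act 1 n16162 = n13112 := d0_2 D13103 D16162 (iv D13112) (iv D10285) (iv F17189)
theorem F28549 : act 2 n16162 = n14827 := d1_2 (iv F22256) D16162 (iv D14827)
theorem F28550 : act 4 n16162 = n14898 := d3_2 (iv F22257) D16162 (iv D14898)
theorem F28551 : act 5 n16162 = n13123 := d4_2 (iv F22258) D16162 (iv D13123)
def n16163 : Q := act 2 n13104
theorem D16163 : act 2 n13104 = n16163 := rfl
theorem F28552 : act 0 n16163 = n13444 := d1_1 D16163 (iv D13444) (iv F22259)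
theorem F28553 : act 4 n16163 = n13442 := d10_2 (iv F22261) D16163 (iv D13442)
def n16164 : Q := act 5 n13104
theorem D16164 : act 5 n13104 = n16164 := rfl
theorem F28554 : act 0 n16164 = n13445 := d4_1 D16164 (iv D13445) (iv F22259)
theorem F28555 : act 1 n16164 = n14989 := d8_1 D16164 (iv D14989) (iv F22260)
theorem F28556 : act 3 n16164 = n13105 := d13_1 D16164 (iv D13105) D13104
def n16165 : Q := act 1 n13106
theorem D16165 : act 1 n13106 = n16165 := rfl
theorem F28557 : act 2 n16165 = n14886 := d5_2 D13106 D16165 (iv D14886) (iv D11816) (iv F17195)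
theorem F28558 : act 4 n16165 = n13108 := d7_2 (iv F22266) D16165 (iv D13108)
def n16166 : Q := act 3 n13106
theorem D16166 : act 3 n13106 = n16166 := rfl
def n16167 : Q := act 5 n13106
theorem D16167 : act 5 n13106 = n16167 := rfl
theorem F28559 : act 2 n16167 = n13107 := d11_1 D16167 (iv D13107) D13106
def n16168 : Q := act 4 n13107
theorem D16168 : act 4 n13107 = n16168 := rfl
theorem F28560 : act 1 n16168 = n14884 := d7_1 D16168 F25744 (iv F22267)
theorem F28561 : act 3 n16168 = n14873 := d12_1 D16168 (iv D14873) F19883 (iv F17198) (iv F22268)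
theorem F28562 : act 5 n16168 = n13111 := d14_2 D13107 D16168 (iv D13111) (iv D10284) (iv F17196)
def n16169 : Q := act 0 n13108
theorem D16169 : act 0 n13108 = n16169 := rfl
theorem F28563 : act 2 n16169 = n14894 := d1_2 (iv F22269) D16169 (iv D14894)
def n16170 : Q := act 3 n13108
theorem D16170 : act 3 n13108 = n16170 := rfl
theorem F28564 : act 1 n16170 = n13109 := d6_1 D16170 (iv D13109) D13108
theorem F28565 : act 5 n13121 = n16170 := d8_0 F28564 F22272 D13121
def n16171 : Q := act 5 n13108
theorem D16171 : act 5 n13108 = n16171 := rfl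
theorem F28566 : act 1 n16171 = n13110 := d8_1 D16171 (iv D13110) D13108
theorem F28567 : act 2 n16171 = n14893 := d11_1 D16171 F25770 (iv F22269)
theorem F28568 : act 3 n16171 = n13121 := d13_1 D16171 F28565 (iv D16170)
def n16172 : Q := act 4 n13109
theorem D16172 : act 4 n13109 = n16172 := rfl
theorem F28569 : act 0 n16172 = n13138 := d3_1 D16172 (iv D13138) (iv F22270)
theorem F28570 : act 2 n16172 = n13122 := d10_1 D16172 (iv D13122) (iv F22271)
def n16173 : Q := act 4 n13110
theorem D16173 : act 4 n13110 = n16173 := rfl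
theorem F28571 : act 0 n16173 = n13137 := d3_1 D16173 (iv D13137) (iv F22273)
theorem F28572 : act 2 n16173 = n13111 := d10_1 D16173 (iv D13111) (iv F22274)
def n16174 : Q := act 3 n13112
theorem D16174 : act 3 n13112 = n16174 := rfl
theorem F28573 : act 0 n16174 = n13113 := d2_1 D16174 (iv D13113) D13112
theorem F28574 : act 5 n16174 = n13139 := d13_2 (iv F22280) D16174 (iv D13139)
def n16175 : Q := act 2 n13113
theorem D16175 : act 2 n13113 = n16175 := rfl
theorem F28575 : act 5 n16175 = n13140 := d11_2 (iv F22282) D16175 (iv D13140)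
def n16176 : Q := act 4 n13113
theorem D16176 : act 4 n13113 = n16176 := rfl
theorem F28576 : act 1 n16176 = n13114 := d7_1 D16176 (iv D13114) (iv F22281)
theorem F28577 : act 3 n16176 = n14902 := d12_1 D16176 (iv D14902) (iv D11832) (iv F17202) D13113
def n16177 : Q := act 5 n13114
theorem D16177 : act 5 n13114 = n16177 := rfl
theorem F28578 : act 3 n16177 = n14905 := d13_1 D16177 (iv D14905) (iv F22283)
theorem F28579 : act 4 n16177 = n13144 := d14_1 D16177 (iv D13144) (iv D10309) (iv F17204) D13114
def n16178 : Q := act 2 n13115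
theorem D16178 : act 2 n13115 = n16178 := rfl
theorem F28580 : act 0 n16178 = n15967 := d1_1 D16178 (iv D15967) (iv F22284)
theorem F28581 : act 4 n16178 = n13117 := d10_2 (iv F22286) D16178 (iv D13117)
theorem F28582 : act 3 n16178 = n16073 := d15_5 (iv F28448) (iv D16108) F22172 D13115 D16178 F28372 (iv F28512) (iv D16137) (iv F28398)
theorem F28583 : act 1 n16076 = n16178 := d6_3 F28582 F28371 (iv F28382)
theorem F28584 : act 5 n16072 = n16178 := d13_0 F28582 (iv D16073) D16072
theorem F28585 : act 1 n13119 = n13424 := d5_5 (iv F28381) F28583 (iv D16178) F22285 D13119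
theorem F28586 : act 3 n13423 = n13119 := d6_0 F28585 (iv D13424) D13423
theorem F28587 : act 4 n13424 = n13121 := d7_2 (iv F22293) F28585 (iv D13121)
theorem F28588 : act 0 n13131 = n13423 := d2_3 F28586 F22292 D13131
def n16179 : Q := act 5 n13115
theorem D16179 : act 5 n13115 = n16179 := rfl
theorem F28589 : act 0 n16179 = n15968 := d4_1 D16179 (iv D15968) (iv F22284)
theorem F28590 : act 1 n16179 = n13120 := d8_1 D16179 (iv D13120) (iv F22285)
theorem F28591 : act 2 n16179 = n16072 := d11_1 D16179 F28584 (iv D16178)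
theorem F28592 : act 3 n16179 = n13116 := d13_1 D16179 (iv D13116) D13115
def n16180 : Q := act 1 n13117
theorem D16180 : act 1 n13117 = n16180 := rfl
theorem F28593 : act 2 n16180 = n13121 := d5_2 D13117 D16180 (iv D13121) (iv D10293) (iv F17210)
theorem F28594 : act 4 n16180 = n16076 := d7_2 F28581 D16180 F28583
theorem F28595 : act 0 n16083 = n16180 := d3_3 F28594 F28380 D16083
def n16181 : Q := act 3 n13117
theorem D16181 : act 3 n13117 = n16181 := rfl
theorem F28596 : act 0 n16181 = n15133 := d2_1 D16181 (iv F28032) F28030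
theorem F28597 : act 2 n16181 = n13313 := d9_1 D16181 (iv D13313) (iv D10444) (iv D8089) (iv F13400) D10431 D13297 F26275 F26274 (iv D15120) F20287 (iv F16913) F16912 D10289 D13117
theorem F28598 : act 5 n16181 = n15124 := d15_8 F26274 (iv D15120) F20287 (iv F16913) F16912 D10289 D13117 D16181 F26309
def n16182 : Q := act 5 n13117
theorem D16182 : act 5 n13117 = n16182 := rfl
theorem F28599 : act 0 n16182 = n13297 := d4_1 D16182 (iv F28031) F28030
theorem F28600 : act 2 n16182 = n13118 := d11_1 D16182 (iv D13118) D13117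
theorem F28601 : act 3 n16182 = n15124 := d13_1 D16182 (iv F28598) (iv D16181)
theorem F28602 : act 4 n16182 = n15131 := d14_1 D16182 F26321 (iv F28369) F28584 F28581
def n16183 : Q := act 4 n13118
theorem D16183 : act 4 n13118 = n16183 := rfl
theorem F28603 : act 0 n16183 = n13296 := d3_1 D16183 F22603 (iv F22289)
theorem F28604 : act 1 n16183 = n13122 := d7_1 D16183 (iv D13122) (iv F22290)
theorem F28605 : act 2 n16183 = n15131 := d10_1 D16183 (iv F28602) F28600
theorem F28606 : act 3 n16183 = n13289 := d12_1 D16183 (iv D13289) F17439 (iv F17214) (iv F22291)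
def n16184 : Q := act 5 n13119
theorem D16184 : act 5 n13119 = n16184 := rfl
theorem F28607 : act 0 n16184 = n13132 := d4_1 D16184 (iv D13132) (iv F22292)
theorem F28608 : act 1 n16184 = n16075 := d8_1 D16184 (iv F28379) (iv F28585)
theorem F28609 : act 2 n16184 = n13120 := d11_1 D16184 (iv D13120) D13119
def n16185 : Q := act 4 n13120
theorem D16185 : act 4 n13120 = n16185 := rfl
theorem F28610 : act 0 n16185 = n13133 := d3_1 D16185 (iv D13133) (iv F22294)
theorem F28611 : act 5 n16185 = n13122 := d14_2 D13120 D16185 (iv D13122) (iv D10294) (iv F17216)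
def n16186 : Q := act 0 n13121
theorem D16186 : act 0 n13121 = n16186 := rfl
theorem F28612 : act 1 n16186 = n13134 := d0_2 D13121 D16186 (iv D13134) (iv D10302) (iv F17218)
theorem F28613 : act 2 n16186 = n16083 := d1_2 F28593 D16186 F28595
theorem F28614 : act 4 n16186 = n16082 := d3_2 F28587 D16186 F28393
def n16187 : Q := act 3 n13123
theorem D16187 : act 3 n13123 = n16187 := rfl
theorem F28615 : act 0 n16187 = n13124 := d2_1 D16187 (iv D13124) D13123
theorem F28616 : act 1 n16187 = n13139 := d6_1 D16187 (iv D13139) (iv F22297)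
def n16188 : Q := act 2 n13124
theorem D16188 : act 2 n13124 = n16188 := rfl
def n16189 : Q := act 4 n13124
theorem D16189 : act 4 n13124 = n16189 := rfl
theorem F28617 : act 1 n16189 = n13125 := d7_1 D16189 (iv D13125) (iv F22298)
def n16190 : Q := act 5 n13125
theorem D16190 : act 5 n13125 = n16190 := rfl
theorem F28618 : act 0 n16190 = n13144 := d4_1 D16190 (iv D13144) (iv F22299)
def n16191 : Q := act 2 n13126
theorem D16191 : act 2 n13126 = n16191 := rfl
def n16192 : Q := act 5 n13126
theorem D16192 : act 5 n13126 = n16192 := rfl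
theorem F28619 : act 1 n16192 = n13129 := d8_1 D16192 (iv D13129) (iv F22300)
theorem F28620 : act 3 n16192 = n13127 := d13_1 D16192 (iv D13127) D13126
def n16193 : Q := act 1 n13128
theorem D16193 : act 1 n13128 = n16193 := rfl
def n16194 : Q := act 3 n13128
theorem D16194 : act 3 n13128 = n16194 := rfl
def n16195 : Q := act 5 n13128
theorem D16195 : act 5 n13128 = n16195 := rfl
theorem F28621 : act 2 n16195 = n13129 := d11_1 D16195 (iv D13129) D13128
def n16196 : Q := act 4 n13129
theorem D16196 : act 4 n13129 = n16196 := rfl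
def n16197 : Q := act 0 n13130
theorem D16197 : act 0 n13130 = n16197 := rfl
theorem F28622 : act 1 n16197 = n16082 := d0_2 D13130 D16197 F28393 (iv F28585) F22292
theorem F28623 : act 4 n16197 = n13134 := d3_2 (iv F22304) D16197 (iv D13134)
theorem F28624 : act 5 n16080 = n16197 := d8_0 F28622 (iv D16082) D16080
def n16198 : Q := act 3 n13130
theorem D16198 : act 3 n13130 = n16198 := rfl
theorem F28625 : act 1 n16198 = n13131 := d6_1 D16198 (iv D13131) D13130
def n16199 : Q := act 5 n13130
theorem D16199 : act 5 n13130 = n16199 := rfl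
theorem F28626 : act 0 n16199 = n16080 := d4_1 D16199 F28624 (iv D16197)
theorem F28627 : act 1 n16199 = n13132 := d8_1 D16199 (iv D13132) D13130
def n16200 : Q := act 2 n13131
theorem D16200 : act 2 n13131 = n16200 := rfl
def n16201 : Q := act 4 n13131
theorem D16201 : act 4 n13131 = n16201 := rfl
theorem F28628 : act 3 n16201 = n13137 := d12_1 D16201 (iv D13137) (iv D10303) (iv F17225) D13131
def n16202 : Q := act 5 n13131
theorem D16202 : act 5 n13131 = n16202 := rfl
theorem F28629 : act 3 n16202 = n13132 := d13_1 D16202 (iv D13132) D13131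
def n16203 : Q := act 4 n13132
theorem D16203 : act 4 n13132 = n16203 := rfl
theorem F28630 : act 2 n16203 = n13133 := d10_1 D16203 (iv D13133) (iv F22305)
theorem F28631 : act 5 n16203 = n13138 := d14_2 D13132 D16203 (iv D13138) (iv D10304) (iv F17225)
def n16204 : Q := act 3 n13134
theorem D16204 : act 3 n13134 = n16204 := rfl
theorem F28632 : act 0 n16204 = n13135 := d2_1 D16204 (iv D13135) D13134
def n16205 : Q := act 5 n13134
theorem D16205 : act 5 n13134 = n16205 := rfl
theorem F28633 : act 0 n16205 = n13136 := d4_1 D16205 (iv D13136) D13134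
def n16206 : Q := act 2 n13135
theorem D16206 : act 2 n13135 = n16206 := rfl
def n16207 : Q := act 4 n13135
theorem D16207 : act 4 n13135 = n16207 := rfl
theorem F28634 : act 1 n16207 = n13137 := d7_1 D16207 (iv D13137) (iv F22307)
def n16208 : Q := act 4 n13136
theorem D16208 : act 4 n13136 = n16208 := rfl
theorem F28635 : act 1 n16208 = n13138 := d7_1 D16208 (iv D13138) (iv F22308)
def n16209 : Q := act 5 n13137
theorem D16209 : act 5 n13137 = n16209 := rfl
def n16210 : Q := act 3 n13138
theorem D16210 : act 3 n13138 = n16210 := rfl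
def n16211 : Q := act 2 n13139
theorem D16211 : act 2 n13139 = n16211 := rfl
theorem F28636 : act 0 n16211 = n13140 := d1_1 D16211 (iv D13140) (iv F22310)
def n16212 : Q := act 4 n13139
theorem D16212 : act 4 n13139 = n16212 := rfl
theorem F28637 : act 0 n16212 = n13141 := d3_1 D16212 (iv D13141) (iv F22310)
def n16213 : Q := act 1 n13140
theorem D16213 : act 1 n13140 = n16213 := rfl
theorem F28638 : act 2 n16213 = n13142 := d5_2 D13140 D16213 (iv D13142) (iv D10308) (iv F17229)
def n16214 : Q := act 3 n13140
theorem D16214 : act 3 n13140 = n16214 := rfl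
def n16215 : Q := act 4 n13140
theorem D16215 : act 4 n13140 = n16215 := rfl
theorem F28639 : act 2 n16215 = n13141 := d10_1 D16215 (iv D13141) D13140
def n16216 : Q := act 5 n13141
theorem D16216 : act 5 n13141 = n16216 := rfl
theorem F28640 : act 1 n16216 = n13144 := d8_1 D16216 (iv D13144) (iv F22311)
def n16217 : Q := act 0 n13142
theorem D16217 : act 0 n13142 = n16217 := rfl
def n16218 : Q := act 4 n13142
theorem D16218 : act 4 n13142 = n16218 := rfl
theorem F28641 : act 1 n16218 = n13143 := d7_1 D16218 (iv D13143) D13142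
def n16219 : Q := act 3 n13143
theorem D16219 : act 3 n13143 = n16219 := rfl
theorem F28642 : act 0 n16219 = n13469 := d2_1 D16219 (iv F28510) F28508
theorem F28643 : act 4 n16219 = n13467 := d12_2 D13143 D16219 (iv D13467) (iv F22205) F22207
def n16220 : Q := act 5 n13143
theorem D16220 : act 5 n13143 = n16220 := rfl
theorem F28644 : act 2 n16220 = n13144 := d11_1 D16220 (iv D13144) (iv F22312)
def n16221 : Q := act 1 n13145
theorem D16221 : act 1 n13145 = n16221 := rfl
theorem F28645 : act 0 n16221 = n13417 := d0_1 D16221 (iv D13417) F17627 (iv F17231) (iv F22313)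
def n16222 : Q := act 3 n13145
theorem D16222 : act 3 n13145 = n16222 := rfl
theorem F28646 : act 0 n16222 = n13146 := d2_1 D16222 (iv D13146) (iv F22313)
def n16223 : Q := act 2 n13146
theorem D16223 : act 2 n13146 = n16223 := rfl
def n16224 : Q := act 4 n13146
theorem D16224 : act 4 n13146 = n16224 := rfl
theorem F28647 : act 1 n16224 = n13428 := d7_1 D16224 (iv D13428) (iv F22314)
def n16225 : Q := act 4 n13150
theorem D16225 : act 4 n13150 = n16225 := rfl
theorem F28648 : act 0 n16225 = n13156 := d3_1 D16225 (iv D13156) (iv F22321)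
theorem F28649 : act 1 n16225 = n15945 := d7_1 D16225 (iv F28083) F28082
theorem F28650 : act 2 n16225 = n15946 := d10_1 D16225 F28034 F22436
theorem F28651 : act 3 n16225 = n13162 := d12_1 D16225 (iv D13162) F17255 (iv F17237) (iv F22322)
theorem F28652 : act 5 n16225 = n13221 := d14_2 D13150 D16225 (iv D13221) (iv D10369) (iv F17234)
def n16226 : Q := act 1 n13151
theorem D16226 : act 1 n13151 = n16226 := rfl
theorem F28653 : act 4 n16226 = n13153 := d7_2 (iv F22324) D16226 (iv D13153)
def n16227 : Q := act 4 n13152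
theorem D16227 : act 4 n13152 = n16227 := rfl
theorem F28654 : act 0 n16227 = n13221 := d3_1 D16227 (iv D13221) (iv F22325)
theorem F28655 : act 3 n16227 = n13173 := d12_1 D16227 (iv D13173) F17273 (iv F17242) (iv F22326)
theorem F28656 : act 5 n16227 = n13156 := d14_2 D13152 D16227 (iv D13156) (iv D10318) (iv F17239)
def n16228 : Q := act 0 n13153
theorem D16228 : act 0 n13153 = n16228 := rfl
theorem F28657 : act 1 n16228 = n15970 := d0_2 D13153 D16228 F28096 F28092 F22319
theorem F28658 : act 2 n16228 = n16199 := d1_2 F28389 D16228 F28626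
theorem F28659 : act 5 n15971 = n16228 := d11_0 F28658 (iv D16199) (iv F28099)
def n16229 : Q := act 3 n13153
theorem D16229 : act 3 n13153 = n16229 := rfl
theorem F28660 : act 1 n16229 = n13154 := d6_1 D16229 (iv D13154) D13153
theorem F28661 : act 5 n16226 = n16229 := d8_0 F28660 F22328 D16226
def n16230 : Q := act 5 n13153
theorem D16230 : act 5 n13153 = n16230 := rfl
theorem F28662 : act 0 n16230 = n15971 := d4_1 D16230 F28659 (iv D16228)
theorem F28663 : act 1 n16230 = n13155 := d8_1 D16230 (iv D13155) D13153
theorem F28664 : act 2 n16230 = n16197 := d11_1 D16230 (iv F28624) F28389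
theorem F28665 : act 3 n16230 = n16226 := d13_1 D16230 F28661 (iv D16229)
theorem F28666 : act 4 n15973 = n16230 := d10_0 F28664 F28623 (iv F28105)
def n16231 : Q := act 4 n13154
theorem D16231 : act 4 n13154 = n16231 := rfl
theorem F28667 : act 0 n16231 = n13300 := d3_1 D16231 F26298 F22438
theorem F28668 : act 2 n16231 = n16227 := d10_1 D16231 (iv D16227) (iv F22327)
def n16232 : Q := act 4 n13155
theorem D16232 : act 4 n13155 = n16232 := rfl
theorem F28669 : act 0 n16232 = n15946 := d3_1 D16232 F28034 F22435
theorem F28670 : act 1 n16232 = n15973 := d7_1 D16232 F28666 F28663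
theorem F28671 : act 2 n16232 = n13156 := d10_1 D16232 (iv D13156) (iv F22329)
theorem F28672 : act 3 n16232 = n16231 := d12_1 D16232 (iv D16231) (iv D13154) (iv F22324) (iv F22330)
theorem F28673 : act 5 n16232 = n16231 := d14_2 D13155 D16232 (iv D16231) F22328 F22324
def n16233 : Q := act 5 n13157
theorem D16233 : act 5 n13157 = n16233 := rfl
theorem F28674 : act 0 n16233 = n13160 := d4_1 D16233 (iv D13160) (iv F22332)
theorem F28675 : act 1 n16233 = n13165 := d8_1 D16233 (iv D13165) (iv F22333)
theorem F28676 : act 3 n16233 = n13158 := d13_1 D16233 (iv D13158) D13157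
theorem F28677 : act 4 n16233 = n16181 := d14_1 D16233 F28598 F26310 (iv F22070) (iv F22334)
def n16234 : Q := act 1 n13159
theorem D16234 : act 1 n13159 = n16234 := rfl
theorem F28678 : act 2 n16234 = n13161 := d5_2 D13159 D16234 (iv D13161) (iv D10322) (iv F17246)
theorem F28679 : act 4 n16234 = n16054 := d7_2 (iv F22337) D16234 (iv D16054)
theorem F28680 : act 5 n13201 = n16234 := d11_0 F28678 F22342 D13201
def n16235 : Q := act 3 n13159
theorem D16235 : act 3 n13159 = n16235 := rfl
def n16236 : Q := act 5 n13159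
theorem D16236 : act 5 n13159 = n16236 := rfl
theorem F28681 : act 1 n16236 = n13201 := d8_1 D16236 F28680 (iv D16234)
theorem F28682 : act 2 n16236 = n13160 := d11_1 D16236 (iv D13160) D13159
def n16237 : Q := act 0 n13161
theorem D16237 : act 0 n13161 = n16237 := rfl
theorem F28683 : act 1 n16237 = n13174 := d0_2 D13161 D16237 (iv D13174) (iv D10333) (iv F17249)
theorem F28684 : act 3 n16237 = n13200 := d2_2 (iv F22340) D16237 F22412
theorem F28685 : act 4 n16237 = n16055 := d3_2 (iv F22341) D16237 (iv D16055)
theorem F28686 : act 5 n16237 = n13199 := d4_2 (iv F22342) D16237 F22411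
def n16238 : Q := act 2 n13163
theorem D16238 : act 2 n13163 = n16238 := rfl
theorem F28687 : act 0 n16238 = n13166 := d1_1 D16238 (iv D13166) (iv F22346)
theorem F28688 : act 4 n16238 = n13164 := d10_2 (iv F22348) D16238 (iv D13164)
def n16239 : Q := act 1 n13164
theorem D16239 : act 1 n13164 = n16239 := rfl
def n16240 : Q := act 3 n13164
theorem D16240 : act 3 n13164 = n16240 := rfl
theorem F28689 : act 0 n16240 = n13169 := d2_1 D16240 (iv D13169) (iv F22349)
theorem F28690 : act 2 n16240 = n13187 := d15_2 D13164 D16240 F22388 F17286 F13251 (iv F13242) (iv F17266) (iv D10330) (iv F17259)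
theorem F28691 : act 5 n13185 = n16240 := d11_0 F28690 (iv D13187) D13185
def n16241 : Q := act 5 n13164
theorem D16241 : act 5 n13164 = n16241 := rfl
theorem F28692 : act 0 n16241 = n13170 := d4_1 D16241 (iv D13170) (iv F22349)
theorem F28693 : act 2 n16241 = n13165 := d11_1 D16241 (iv D13165) D13164
theorem F28694 : act 3 n16241 = n13185 := d13_1 D16241 F28691 (iv D16240)
def n16242 : Q := act 4 n13165
theorem D16242 : act 4 n13165 = n16242 := rfl
theorem F28695 : act 0 n16242 = n13171 := d3_1 D16242 (iv D13171) (iv F22350)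
theorem F28696 : act 1 n16242 = n16181 := d7_1 D16242 (iv F28677) F28675
theorem F28697 : act 3 n16242 = n16180 := d12_1 D16242 F28594 F28382 F22120 (iv F22351)
def n16243 : Q := act 1 n13166
theorem D16243 : act 1 n13166 = n16243 := rfl
theorem F28698 : act 2 n16243 = n13172 := d5_2 D13166 D16243 (iv D13172) (iv D10331) (iv F17262)
theorem F28699 : act 4 n16243 = n13168 := d7_2 (iv F22352) D16243 (iv D13168)
theorem F28700 : act 5 n16061 = n16243 := d11_0 F28698 F22360 D16061
def n16244 : Q := act 3 n13166
theorem D16244 : act 3 n13166 = n16244 := rfl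
def n16245 : Q := act 5 n13166
theorem D16245 : act 5 n13166 = n16245 := rfl
theorem F28701 : act 1 n16245 = n16061 := d8_1 D16245 F28700 (iv D16243)
theorem F28702 : act 2 n16245 = n13167 := d11_1 D16245 (iv D13167) D13166
def n16246 : Q := act 4 n13167
theorem D16246 : act 4 n13167 = n16246 := rfl
theorem F28703 : act 1 n16246 = n13173 := d7_1 D16246 (iv D13173) (iv F22353)
theorem F28704 : act 5 n16246 = n13171 := d14_2 D13167 D16246 (iv D13171) (iv D10330) (iv F17263)
def n16247 : Q := act 0 n13168
theorem D16247 : act 0 n13168 = n16247 := rfl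
theorem F28705 : act 2 n16247 = n13174 := d1_2 (iv F22355) D16247 (iv D13174)
def n16248 : Q := act 3 n13168
theorem D16248 : act 3 n13168 = n16248 := rfl
theorem F28706 : act 1 n16248 = n13169 := d6_1 D16248 (iv D13169) D13168
def n16249 : Q := act 5 n13168
theorem D16249 : act 5 n13168 = n16249 := rfl
theorem F28707 : act 1 n16249 = n13170 := d8_1 D16249 (iv D13170) D13168
theorem F28708 : act 2 n16249 = n13176 := d11_1 D16249 (iv D13176) (iv F22355)
def n16250 : Q := act 2 n13169
theorem D16250 : act 2 n13169 = n16250 := rfl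
theorem F28709 : act 0 n16250 = n13187 := d1_1 D16250 (iv F28690) F28689
theorem F28710 : act 3 n16250 = n13181 := d9_2 D13169 D16250 F22378 F17282 (iv F17261) (iv F22351) (iv F28693) F28694 (iv D13185) (iv D10340) (iv D8002) (iv D6118) (iv F10051) D7994 D10329
theorem F28711 : act 5 n13180 = n16250 := d13_0 F28710 (iv D13181) D13180
def n16251 : Q := act 4 n13169
theorem D16251 : act 4 n13169 = n16251 := rfl
def n16252 : Q := act 5 n13169
theorem D16252 : act 5 n13169 = n16252 := rfl
theorem F28712 : act 0 n16252 = n13185 := d4_1 D16252 F28691 F28689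
theorem F28713 : act 2 n16252 = n13180 := d11_1 D16252 F28711 (iv D16250)
theorem F28714 : act 3 n16252 = n13170 := d13_1 D16252 (iv D13170) D13169
def n16253 : Q := act 4 n13170
theorem D16253 : act 4 n13170 = n16253 := rfl
theorem F28715 : act 2 n16253 = n13171 := d10_1 D16253 (iv D13171) (iv F22356)
def n16254 : Q := act 0 n13172
theorem D16254 : act 0 n13172 = n16254 := rfl
theorem F28716 : act 1 n16254 = n16055 := d0_2 D13172 D16254 (iv D16055) (iv D13013) (iv F17267)
theorem F28717 : act 3 n16254 = n16060 := d2_2 (iv F22358) D16254 F28340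
theorem F28718 : act 4 n16254 = n13174 := d3_2 (iv F22359) D16254 (iv D13174)
theorem F28719 : act 5 n16254 = n16059 := d4_2 (iv F22360) D16254 F28339
def n16255 : Q := act 3 n13174
theorem D16255 : act 3 n13174 = n16255 := rfl
theorem F28720 : act 0 n16255 = n13175 := d2_1 D16255 (iv D13175) D13174
theorem F28721 : act 1 n16255 = n13200 := d6_1 D16255 (iv F28684) F28683
theorem F28722 : act 5 n13193 = n16255 := d8_0 F28721 (iv D13200) (iv F22404)
def n16256 : Q := act 5 n13174
theorem D16256 : act 5 n13174 = n16256 := rfl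
theorem F28723 : act 0 n16256 = n13176 := d4_1 D16256 (iv D13176) D13174
theorem F28724 : act 1 n16256 = n13199 := d8_1 D16256 (iv F28686) F28683
theorem F28725 : act 3 n16256 = n13193 := d13_1 D16256 F28722 (iv D16255)
def n16257 : Q := act 2 n13175
theorem D16257 : act 2 n13175 = n16257 := rfl
theorem F28726 : act 1 n16257 = n13191 := d5_1 D16257 F22398 F17295 (iv F17275) (iv F22364)
theorem F28727 : act 5 n16257 = n13189 := d11_2 F22365 D16257 F22392
theorem F28728 : act 3 n14407 = n16257 := d6_0 F28726 F22399 D14407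
def n16258 : Q := act 4 n13175
theorem D16258 : act 4 n13175 = n16258 := rfl
theorem F28729 : act 1 n16258 = n13177 := d7_1 D16258 (iv D13177) (iv F22364)
theorem F28730 : act 3 n16258 = n16063 := d12_1 D16258 (iv D16063) (iv F22358) F22359 D13175
theorem F28731 : act 5 n16258 = n13203 := d14_2 F22365 D16258 (iv D13203) (iv D10354) (iv F17297)
def n16259 : Q := act 4 n13176
theorem D16259 : act 4 n13176 = n16259 := rfl
theorem F28732 : act 1 n16259 = n13178 := d7_1 D16259 (iv D13178) (iv F22366)
theorem F28733 : act 3 n16259 = n13202 := d12_1 D16259 (iv D13202) (iv D10353) (iv F17297) (iv F22367)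
theorem F28734 : act 5 n16259 = n16062 := d14_2 D13176 D16259 (iv D16062) (iv F22360) F22359
def n16260 : Q := act 0 n13179
theorem D16260 : act 0 n13179 = n16260 := rfl
theorem F28735 : act 1 n16260 = n13183 := d0_2 D13179 D16260 (iv D13183) (iv D10339) (iv F17280)
theorem F28736 : act 5 n13368 = n16260 := d8_0 F28735 F22384 D13368
def n16261 : Q := act 3 n13179
theorem D16261 : act 3 n13179 = n16261 := rfl
theorem F28737 : act 1 n16261 = n13180 := d6_1 D16261 (iv D13180) D13179
def n16262 : Q := act 5 n13179
theorem D16262 : act 5 n13179 = n16262 := rfl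
theorem F28738 : act 0 n16262 = n13368 := d4_1 D16262 F28736 (iv D16260)
theorem F28739 : act 1 n16262 = n13181 := d8_1 D16262 (iv D13181) D13179
def n16263 : Q := act 4 n13180
theorem D16263 : act 4 n13180 = n16263 := rfl
theorem F28740 : act 0 n16263 = n13186 := d3_1 D16263 (iv D13186) (iv F22376)
theorem F28741 : act 3 n16263 = n15866 := d12_1 D16263 (iv D15866) (iv F22100) F22098 D13180
def n16264 : Q := act 4 n13181
theorem D16264 : act 4 n13181 = n16264 := rfl
theorem F28742 : act 0 n16264 = n13188 := d3_1 D16264 (iv D13188) (iv F22377)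
theorem F28743 : act 2 n16264 = n13182 := d10_1 D16264 (iv D13182) (iv F22378)
theorem F28744 : act 5 n16264 = n13366 := d14_2 D13181 D16264 F22719 (iv F22099) F22098
def n16265 : Q := act 4 n13184
theorem D16265 : act 4 n13184 = n16265 := rfl
theorem F28745 : act 1 n16265 = n13186 := d7_1 D16265 (iv D13186) (iv F22385)
def n16266 : Q := act 1 n13185
theorem D16266 : act 1 n13185 = n16266 := rfl
def n16267 : Q := act 4 n13185
theorem D16267 : act 4 n13185 = n16267 := rfl
theorem F28746 : act 2 n16267 = n13186 := d10_1 D16267 (iv D13186) D13185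
def n16268 : Q := act 5 n13186
theorem D16268 : act 5 n13186 = n16268 := rfl
def n16269 : Q := act 4 n13187
theorem D16269 : act 4 n13187 = n16269 := rfl
theorem F28747 : act 1 n16269 = n13371 := d7_1 D16269 (iv D13371) (iv F22387)
def n16270 : Q := act 3 n13188
theorem D16270 : act 3 n13188 = n16270 := rfl
theorem F28748 : act 1 n16270 = n13256 := d6_1 D16270 (iv D13256) (iv F22389)
theorem F28749 : act 5 n16270 = n13367 := d13_2 (iv F22391) D16270 (iv D13367)
def n16271 : Q := act 0 n13189
theorem D16271 : act 0 n13189 = n16271 := rfl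
theorem F28750 : act 1 n16271 = n14397 := d0_2 D13189 D16271 (iv D14397) (iv D11362) (iv F17292)
theorem F28751 : act 2 n16271 = n13193 := d1_2 (iv F22392) D16271 (iv D13193)
theorem F28752 : act 4 n16271 = n13194 := d3_2 (iv F22393) D16271 (iv D13194)
def n16272 : Q := act 3 n13189
theorem D16272 : act 3 n13189 = n16272 := rfl
theorem F28753 : act 1 n16272 = n13190 := d6_1 D16272 (iv D13190) D13189
theorem F28754 : act 5 n16272 = n14407 := d13_2 F28727 D16272 F28728
def n16273 : Q := act 4 n13190
theorem D16273 : act 4 n13190 = n16273 := rfl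
theorem F28755 : act 0 n16273 = n14400 := d3_1 D16273 (iv D14400) (iv F22394)
theorem F28756 : act 2 n16273 = n14410 := d10_1 D16273 (iv D14410) (iv F22395)
theorem F28757 : act 3 n16273 = n13197 := d12_1 D16273 (iv D13197) (iv D10349) (iv F17293) D13190
def n16274 : Q := act 4 n13191
theorem D16274 : act 4 n13191 = n16274 := rfl
theorem F28758 : act 0 n16274 = n14401 := d3_1 D16274 (iv D14401) (iv F22397)
theorem F28759 : act 2 n16274 = n13192 := d10_1 D16274 (iv D13192) (iv F22398)
theorem F28760 : act 5 n16274 = n13198 := d14_2 D13191 D16274 (iv D13198) (iv D10350) (iv F17293)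
def n16275 : Q := act 3 n13194
theorem D16275 : act 3 n13194 = n16275 := rfl
theorem F28761 : act 0 n16275 = n13195 := d2_1 D16275 (iv D13195) D13194
def n16276 : Q := act 5 n13194
theorem D16276 : act 5 n13194 = n16276 := rfl
theorem F28762 : act 0 n16276 = n13196 := d4_1 D16276 (iv D13196) D13194
theorem F28763 : act 2 n16276 = n13200 := d11_1 D16276 (iv D13200) (iv F22406)
def n16277 : Q := act 4 n13195
theorem D16277 : act 4 n13195 = n16277 := rfl
theorem F28764 : act 1 n16277 = n13197 := d7_1 D16277 (iv D13197) (iv F22407)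
def n16278 : Q := act 4 n13196
theorem D16278 : act 4 n13196 = n16278 := rfl
theorem F28765 : act 1 n16278 = n13198 := d7_1 D16278 (iv D13198) (iv F22408)
theorem F28766 : act 2 n16278 = n13203 := d10_1 D16278 (iv D13203) (iv F22409)
def n16279 : Q := act 5 n13197
theorem D16279 : act 5 n13197 = n16279 := rfl
def n16280 : Q := act 3 n13198
theorem D16280 : act 3 n13198 = n16280 := rfl
def n16281 : Q := act 4 n13200
theorem D16281 : act 4 n13200 = n16281 := rfl
theorem F28767 : act 0 n16281 = n13203 := d3_1 D16281 (iv D13203) (iv F22412)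
def n16282 : Q := act 5 n13202
theorem D16282 : act 5 n13202 = n16282 := rfl
theorem F28768 : act 1 n16282 = n13204 := d8_1 D16282 (iv D13204) (iv F22413)
theorem F28769 : act 3 n16282 = n16062 := d13_1 D16282 (iv F28734) F28733
theorem F28770 : act 4 n16282 = n16057 := d14_1 D16282 (iv D16057) (iv F22341) F22342 D13202
def n16283 : Q := act 3 n13203
theorem D16283 : act 3 n13203 = n16283 := rfl
theorem F28771 : act 1 n16283 = n13205 := d6_1 D16283 (iv D13205) (iv F22414)
theorem F28772 : act 4 n16283 = n16056 := d12_2 D13203 D16283 (iv D16056) (iv F22341) F22340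
theorem F28773 : act 5 n16283 = n16063 := d13_2 F28731 D16283 (iv F28730)
def n16284 : Q := act 1 n13206
theorem D16284 : act 1 n13206 = n16284 := rfl
theorem F28774 : act 2 n16284 = n13209 := d5_2 D13206 D16284 (iv D13209) (iv D10359) (iv F17307)
def n16285 : Q := act 3 n13206
theorem D16285 : act 3 n13206 = n16285 := rfl
def n16286 : Q := act 4 n13206
theorem D16286 : act 4 n13206 = n16286 := rfl
theorem F28775 : act 0 n16286 = n13352 := d3_1 D16286 (iv F27806) F27805
theorem F28776 : act 2 n16286 = n13207 := d10_1 D16286 (iv D13207) D13206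
def n16287 : Q := act 5 n13206
theorem D16287 : act 5 n13206 = n16287 := rfl
theorem F28777 : act 2 n16287 = n13208 := d11_1 D16287 (iv D13208) D13206
def n16288 : Q := act 5 n13207
theorem D16288 : act 5 n13207 = n16288 := rfl
theorem F28778 : act 0 n16288 = n13353 := d4_1 D16288 (iv D13353) (iv F22423)
theorem F28779 : act 1 n16288 = n13211 := d8_1 D16288 (iv D13211) (iv F22424)
theorem F28780 : act 3 n16288 = n13257 := d13_1 D16288 (iv D13257) (iv F22425)
def n16289 : Q := act 4 n13208
theorem D16289 : act 4 n13208 = n16289 := rfl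
theorem F28781 : act 1 n16289 = n13212 := d7_1 D16289 (iv D13212) (iv F22426)
theorem F28782 : act 3 n16289 = n13280 := d12_1 D16289 (iv D13280) F17431 (iv F17310) (iv F22427)
def n16290 : Q := act 0 n13209
theorem D16290 : act 0 n13209 = n16290 := rfl
def n16291 : Q := act 4 n13209
theorem D16291 : act 4 n13209 = n16291 := rfl
theorem F28783 : act 1 n16291 = n13210 := d7_1 D16291 (iv D13210) D13209
def n16292 : Q := act 3 n13210
theorem D16292 : act 3 n13210 = n16292 := rfl
def n16293 : Q := act 5 n13210
theorem D16293 : act 5 n13210 = n16293 := rfl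
theorem F28784 : act 2 n16293 = n13211 := d11_1 D16293 (iv D13211) (iv F22428)
def n16294 : Q := act 4 n13211
theorem D16294 : act 4 n13211 = n16294 := rfl
theorem F28785 : act 3 n16294 = n14952 := d12_1 D16294 (iv D14952) F19988 (iv F17399) (iv F22429)
theorem F28786 : act 5 n16294 = n13212 := d14_2 D13211 D16294 (iv D13212) (iv D10361) D10360
def n16295 : Q := act 1 n13213
theorem D16295 : act 1 n13213 = n16295 := rfl
theorem F28787 : act 2 n16295 = n13368 := d5_2 D13213 D16295 (iv D13368) (iv D10489) (iv F17314)
theorem F28788 : act 4 n16295 = n13273 := d7_2 (iv F22432) D16295 (iv D13273)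
def n16296 : Q := act 3 n13213
theorem D16296 : act 3 n13213 = n16296 := rfl
theorem F28789 : act 0 n16296 = n13214 := d2_1 D16296 (iv D13214) (iv F22431)
def n16297 : Q := act 2 n13214
theorem D16297 : act 2 n13214 = n16297 := rfl
def n16298 : Q := act 4 n13214
theorem D16298 : act 4 n13214 = n16298 := rfl
theorem F28790 : act 3 n16298 = n13284 := d12_1 D16298 (iv D13284) (iv D10421) (iv F17319) D13214
def n16299 : Q := act 2 n13215
theorem D16299 : act 2 n13215 = n16299 := rfl
theorem F28791 : act 0 n16299 = n15987 := d1_1 D16299 (iv D15987) (iv F22433)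
theorem F28792 : act 3 n16299 = n16092 := d9_2 D13215 D16299 F28414 F22142 F17101 F13104 (iv F13636) D10613 D13523 (iv F28405) (iv D16086) (iv D13041) F17093 (iv F13286) (iv F17321)
theorem F28793 : act 5 n16299 = n16091 := d11_2 F22956 D16299 F28413
def n16300 : Q := act 2 n13216
theorem D16300 : act 2 n13216 = n16300 := rfl
theorem F28794 : act 0 n16300 = n13217 := d1_1 D16300 (iv D13217) (iv F22434)
theorem F28795 : act 4 n16300 = n16179 := d10_2 F28369 D16300 F28591
theorem F28796 : act 5 n16300 = n16183 := d11_2 F26321 D16300 F28605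
theorem F28797 : act 1 n16185 = n16300 := d8_3 F28796 F28604 (iv F28611)
def n16301 : Q := act 1 n13222
theorem D16301 : act 1 n13222 = n16301 := rfl
theorem F28798 : act 2 n16301 = n13223 := d5_2 D13222 D16301 (iv D13223) (iv D10372) (iv F17331)
theorem F28799 : act 4 n16301 = n14141 := d7_2 (iv F22443) D16301 (iv D14141)
def n16302 : Q := act 3 n13222
theorem D16302 : act 3 n13222 = n16302 := rfl
theorem F28800 : act 0 n16302 = n13473 := d2_1 D16302 (iv D13473) (iv F22442)
def n16303 : Q := act 0 n13223
theorem D16303 : act 0 n13223 = n16303 := rfl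
theorem F28801 : act 1 n16303 = n13246 := d0_2 D13223 D16303 (iv D13246) (iv D10389) (iv F17333)
theorem F28802 : act 4 n16303 = n14145 := d3_2 (iv F22444) D16303 (iv D14145)
def n16304 : Q := act 0 n13224
theorem D16304 : act 0 n13224 = n16304 := rfl
theorem F28803 : act 1 n16304 = n13226 := d0_2 D13224 D16304 F22449 (iv D10375) (iv F17335)
theorem F28804 : act 2 n16304 = n15050 := d1_2 F28192 D16304 F28194
theorem F28805 : act 4 n16304 = n13232 := d3_2 (iv F22445) D16304 (iv F26098)
theorem F28806 : act 3 n13231 = n16304 := d12_5 F28805 (iv D13232) (iv D10377) D10376 D13231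
theorem F28807 : act 5 n13224 = n16304 := d14_0 F28805 (iv F22468) (iv F26096) (iv F26100) (iv F22445)
def n16305 : Q := act 3 n13224
theorem D16305 : act 3 n13224 = n16305 := rfl
theorem F28808 : act 0 n16305 = n13231 := d2_1 D16305 F28806 (iv D16304)
theorem F28809 : act 1 n16305 = n13225 := d6_1 D16305 (iv D13225) D13224
theorem F28810 : act 4 n16305 = n13225 := d12_2 (iv F22445) D16305 (iv D13225) F17336 (iv F26099)
theorem F28811 : act 5 n16305 = n13231 := d13_2 (iv F28807) D16305 F28806
theorem F28812 : act 2 n13253 = n16305 := d10_3 F28810 F22447 D13253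
def n16306 : Q := act 4 n13226
theorem D16306 : act 4 n13226 = n16306 := rfl
theorem F28813 : act 0 n16306 = n13229 := d3_1 D16306 (iv D13229) (iv F22449)
theorem F28814 : act 1 n16306 = n13232 := d7_1 D16306 (iv F28805) F28803
theorem F28815 : act 2 n16306 = n13227 := d10_1 D16306 (iv D13227) (iv F22450)
theorem F28816 : act 3 n16306 = n13229 := d12_1 D16306 (iv D13229) D13228 (iv F22459) (iv F22451)
theorem F28817 : act 5 n16306 = n15046 := d14_2 D13226 D16306 (iv D15046) (iv D11968) (iv F17336)
def n16307 : Q := act 5 n13229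
theorem D16307 : act 5 n13229 = n16307 := rfl
theorem F28818 : act 0 n16307 = n15046 := d4_1 D16307 (iv F28817) F28813
theorem F28819 : act 1 n16307 = n13233 := d8_1 D16307 (iv D13233) (iv F22460)
theorem F28820 : act 2 n16307 = n13234 := d11_1 D16307 F22475 (iv F22461)
theorem F28821 : act 3 n16307 = n15046 := d13_1 D16307 (iv F28817) F28816
theorem F28822 : act 4 n16307 = n13233 := d14_1 D16307 (iv D13233) (iv D10377) F17340 D13229
def n16308 : Q := act 1 n13230
theorem D16308 : act 1 n13230 = n16308 := rfl
theorem F28823 : act 0 n16308 = n13292 := d0_1 D16308 F26296 F17449 (iv F17386) (iv F22462)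
theorem F28824 : act 2 n16308 = n13248 := d5_2 D13230 D16308 F22514 (iv F22457) F22456
theorem F28825 : act 3 n16308 = n13249 := d6_2 (iv F22463) D16308 F22517
theorem F28826 : act 5 n16308 = n13248 := d8_2 (iv F22464) D16308 F22514
theorem F28827 : act 4 n13252 = n16308 := d14_5 F28826 F22515 F17385 F26287 (iv F22526)
def n16309 : Q := act 4 n13230
theorem D16309 : act 4 n13230 = n16309 := rfl
theorem F28828 : act 0 n16309 = n13253 := d3_1 D16309 (iv D13253) (iv F22462)
theorem F28829 : act 1 n16309 = n13252 := d7_1 D16309 F28827 (iv D16308)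
theorem F28830 : act 2 n16309 = n13231 := d10_1 D16309 (iv D13231) D13230
theorem F28831 : act 5 n16309 = n13253 := d14_2 (iv F22464) D16309 (iv D13253) (iv D10397) (iv F17374)
theorem F28832 : act 3 n13285 = n16309 := d6_0 F28829 F22527 D13285
def n16310 : Q := act 1 n13235
theorem D16310 : act 1 n13235 = n16310 := rfl
theorem F28833 : act 2 n16310 = n13488 := d5_2 D13235 D16310 F22926 F17714 (iv F17348)
theorem F28834 : act 3 n16310 = n14148 := d6_2 (iv F22477) D16310 (iv D14148)
theorem F28835 : act 4 n16310 = n13237 := d7_2 (iv F22476) D16310 (iv D13237)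
theorem F28836 : act 5 n16310 = n14150 := d8_2 F22478 D16310 F24222
def n16311 : Q := act 0 n13237
theorem D16311 : act 0 n13237 = n16311 := rfl
theorem F28837 : act 2 n16311 = n13485 := d1_2 (iv F22484) D16311 F22924
theorem F28838 : act 3 n16311 = n13246 := d2_2 (iv F22485) D16311 (iv D13246)
theorem F28839 : act 5 n16311 = n13246 := d4_2 (iv F22486) D16311 (iv D13246)
def n16312 : Q := act 1 n13238
theorem D16312 : act 1 n13238 = n16312 := rfl
theorem F28840 : act 0 n16312 = n14507 := d0_1 D16312 (iv D14507) F24914 (iv D14487) (iv F22487)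
theorem F28841 : act 2 n16312 = n13240 := d5_2 D13238 D16312 (iv D13240) (iv D10385) (iv F17355)
theorem F28842 : act 4 n16312 = n14125 := d7_2 (iv F22488) D16312 (iv D14125)
def n16313 : Q := act 3 n13238
theorem D16313 : act 3 n13238 = n16313 := rfl
theorem F28843 : act 0 n16313 = n14488 := d2_1 D16313 (iv D14488) (iv F22487)
theorem F28844 : act 5 n16313 = n14502 := d15_8 (iv F24939) (iv F24941) (iv D11956) (iv D9313) (iv F13327) D10383 D13238 D16313 (iv D14502)
def n16314 : Q := act 5 n13238
theorem D16314 : act 5 n13238 = n16314 := rfl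
theorem F28845 : act 0 n16314 = n14489 := d4_1 D16314 (iv D14489) (iv F22487)
theorem F28846 : act 2 n16314 = n13239 := d11_1 D16314 (iv D13239) D13238
theorem F28847 : act 3 n16314 = n14502 := d13_1 D16314 (iv F28844) (iv D16313)
def n16315 : Q := act 0 n13240
theorem D16315 : act 0 n13240 = n16315 := rfl
theorem F28848 : act 1 n16315 = n14149 := d0_2 D13240 D16315 (iv D14149) (iv D11139) (iv F17361)
theorem F28849 : act 2 n16315 = n14507 := d1_2 F28841 D16315 (iv F28840)
theorem F28850 : act 4 n16315 = n14127 := d3_2 (iv F22492) D16315 (iv D14127)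
def n16316 : Q := act 3 n13240
theorem D16316 : act 3 n13240 = n16316 := rfl
theorem F28851 : act 1 n16316 = n13241 := d6_1 D16316 (iv D13241) D13240
theorem F28852 : act 4 n16316 = n14147 := d12_2 (iv F22492) D16316 (iv F24382) F24383 F18780
def n16317 : Q := act 5 n13240
theorem D16317 : act 5 n13240 = n16317 := rfl
theorem F28853 : act 1 n16317 = n13242 := d8_1 D16317 (iv D13242) D13240
theorem F28854 : act 4 n16317 = n14146 := d14_1 D16317 (iv F24384) F24383 F18781 (iv F22492)
def n16318 : Q := act 1 n13243
theorem D16318 : act 1 n13243 = n16318 := rfl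
theorem F28855 : act 2 n16318 = n13481 := d5_2 D13243 D16318 F22915 F17709 (iv F17366)
theorem F28856 : act 3 n16318 = n14139 := d6_2 (iv F22500) D16318 (iv D14139)
theorem F28857 : act 4 n16318 = n14150 := d7_2 (iv F22501) D16318 F24222
theorem F28858 : act 5 n16318 = n13244 := d8_2 (iv F22502) D16318 (iv D13244)
def n16319 : Q := act 0 n13244
theorem D16319 : act 0 n13244 = n16319 := rfl
theorem F28859 : act 1 n16319 = n14145 := d0_2 D13244 D16319 (iv D14145) (iv D11134) (iv F17368)
theorem F28860 : act 2 n16319 = n13479 := d1_2 (iv F22503) D16319 (iv D13479)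
theorem F28861 : act 4 n16319 = n13246 := d3_2 (iv F22504) D16319 (iv D13246)
def n16320 : Q := act 3 n13244
theorem D16320 : act 3 n13244 = n16320 := rfl
theorem F28862 : act 1 n16320 = n13245 := d6_1 D16320 (iv D13245) D13244
theorem F28863 : act 4 n16320 = n14148 := d12_2 (iv F22504) D16320 (iv F28834) F28835 F22485
theorem F28864 : act 5 n16320 = n14139 := d13_2 F28858 D16320 (iv F28856)
theorem F28865 : act 2 n14506 = n16320 := d11_3 F28864 F24208 (iv F24962)
def n16321 : Q := act 3 n13247
theorem D16321 : act 3 n13247 = n16321 := rfl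
theorem F28866 : act 0 n16321 = n13248 := d2_1 D16321 (iv D13248) D13247
theorem F28867 : act 1 n16321 = n13251 := d6_1 D16321 (iv D13251) (iv F22510)
theorem F28868 : act 2 n16321 = n13292 := d9_1 D16321 F26297 (iv F21944) D15990 (iv F28145) F22550 (iv F22518) (iv F28825) F28824 (iv D13248) F17371 D10446 (iv F22043) F22044 (iv F22511)
theorem F28869 : act 4 n16321 = n13251 := d12_2 (iv F22512) D16321 (iv D13251) F17382 (iv F17700)
theorem F28870 : act 5 n16321 = n13292 := d13_2 F22513 D16321 F26297
def n16322 : Q := act 4 n13249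
theorem D16322 : act 4 n13249 = n16322 := rfl
theorem F28871 : act 0 n16322 = n13293 := d3_1 D16322 F26284 (iv F22516)
theorem F28872 : act 1 n16322 = n13250 := d7_1 D16322 (iv D13250) (iv F22517)
theorem F28873 : act 2 n16322 = n13318 := d10_1 D16322 (iv D13318) (iv F22518)
theorem F28874 : act 3 n16322 = n13286 := d12_1 D16322 (iv D13286) (iv F22527) F28827 F28825
theorem F28875 : act 5 n16322 = n13439 := d14_2 D13249 D16322 F22859 F17657 (iv F17372)
def n16323 : Q := act 3 n13250
theorem D16323 : act 3 n13250 = n16323 := rfl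
theorem F28876 : act 0 n16323 = n13254 := d2_1 D16323 (iv D13254) (iv F22519)
theorem F28877 : act 1 n16323 = n13286 := d6_1 D16323 (iv F28874) F28872
theorem F28878 : act 4 n16323 = n13285 := d12_2 D13250 D16323 F28832 (iv D16309) F22463
theorem F28879 : act 5 n16323 = n13440 := d13_2 (iv F22521) D16323 (iv D13440)
theorem F28880 : act 2 n16323 = n13464 := d15_2 (iv F22520) D16323 (iv D13464) (iv D10564) (iv D8184) F10342 D6271 (iv F13352) (iv F17377)
theorem F28881 : act 1 n13464 = n15949 := d5_1 F28880 F28041 F21878 (iv F22587) (iv F28877)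
theorem F28882 : act 4 n13464 = n15947 := d10_2 (iv F28878) F28880 F28036
theorem F28883 : act 3 n15949 = n13463 := d6_2 D13464 F28881 (iv D13463)
theorem F28884 : act 0 n13463 = n15957 := d2_1 F28883 (iv D15957) (iv F28040)
def n16324 : Q := act 3 n13253
theorem D16324 : act 3 n13253 = n16324 := rfl
theorem F28885 : act 0 n16324 = n13285 := d2_1 D16324 F28832 F28828
theorem F28886 : act 1 n16324 = n13287 := d6_1 D16324 F22590 (iv F26286)
theorem F28887 : act 4 n16324 = n13254 := d12_2 D13253 D16324 (iv D13254) (iv D10398) (iv F17387)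
theorem F28888 : act 5 n16324 = n13285 := d13_2 F28831 D16324 F28832
def n16325 : Q := act 2 n13254
theorem D16325 : act 2 n13254 = n16325 := rfl
theorem F28889 : act 0 n16325 = n13464 := d1_1 D16325 (iv F28880) F28876
theorem F28890 : act 5 n16325 = n13465 := d11_2 (iv F22530) D16325 (iv D13465)
theorem F28891 : act 3 n16325 = n13438 := d15_1 D16325 (iv D13438) (iv D10546) F13555 D8172 D10547 D13440 (iv F28879) F28876
def n16326 : Q := act 1 n13255
theorem D16326 : act 1 n13255 = n16326 := rfl
theorem F28892 : act 2 n16326 = n13273 := d5_2 D13255 D16326 (iv D13273) (iv D10415) (iv F17392)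
theorem F28893 : act 4 n16326 = n13368 := d7_2 (iv F22532) D16326 (iv D13368)
def n16327 : Q := act 3 n13255
theorem D16327 : act 3 n13255 = n16327 := rfl
theorem F28894 : act 0 n16327 = n13256 := d2_1 D16327 (iv D13256) (iv F22531)
def n16328 : Q := act 2 n13256
theorem D16328 : act 2 n13256 = n16328 := rfl
theorem F28895 : act 5 n16328 = n13473 := d11_2 F28255 D16328 (iv F28256)
theorem F28896 : act 3 n16328 = n13474 := d15_3 D10400 D13256 D16328 F22905 F17693 (iv F16991) D12985 F22010 F17391
def n16329 : Q := act 4 n13256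
theorem D16329 : act 4 n13256 = n16329 := rfl
theorem F28897 : act 3 n16329 = n13371 := d12_1 D16329 (iv D13371) (iv D10490) (iv F17394) D13256
def n16330 : Q := act 4 n13258
theorem D16330 : act 4 n13258 = n16330 := rfl
theorem F28898 : act 1 n16330 = n13260 := d7_1 D16330 (iv D13260) (iv F22537)
def n16331 : Q := act 3 n13259
theorem D16331 : act 3 n13259 = n16331 := rfl
theorem F28899 : act 1 n16331 = n13261 := d6_1 D16331 (iv D13261) (iv F22539)
def n16332 : Q := act 5 n13259
theorem D16332 : act 5 n13259 = n16332 := rfl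
theorem F28900 : act 0 n16332 = n14804 := d4_1 D16332 (iv F28269) F28266
theorem F28901 : act 1 n16332 = n13262 := d8_1 D16332 (iv D13262) (iv F22539)
theorem F28902 : act 2 n16332 = n14898 := d11_1 D16332 (iv F25782) (iv F22540)
theorem F28903 : act 4 n16332 = n14827 := d14_1 D16332 F28260 (iv D16028) (iv F22017) D13259
def n16333 : Q := act 3 n13260
theorem D16333 : act 3 n13260 = n16333 := rfl
theorem F28904 : act 0 n16333 = n13266 := d2_1 D16333 (iv D13266) (iv F22541)
theorem F28905 : act 4 n16333 = n13261 := d12_2 D13260 D16333 (iv D13261) (iv D10405) D10404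
def n16334 : Q := act 5 n13260
theorem D16334 : act 5 n13260 = n16334 := rfl
theorem F28906 : act 0 n16334 = n13267 := d4_1 D16334 (iv D13267) (iv F22541)
theorem F28907 : act 2 n16334 = n13335 := d11_1 D16334 F22668 (iv F22542)
theorem F28908 : act 4 n16334 = n13332 := d14_1 D16334 (iv D13332) (iv D10460) (iv F17402) D13260
def n16335 : Q := act 2 n13261
theorem D16335 : act 2 n13261 = n16335 := rfl
theorem F28909 : act 0 n16335 = n13268 := d1_1 D16335 (iv D13268) (iv F22543)
theorem F28910 : act 3 n16335 = n13279 := d15_1 D16335 F22577 F17431 F13390 (iv F13376) (iv F17415) (iv F22556) (iv D13269) (iv F22543)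
theorem F28911 : act 5 n13278 = n16335 := d13_0 F28910 (iv D13279) D13278
def n16336 : Q := act 5 n13261
theorem D16336 : act 5 n13261 = n16336 := rfl
theorem F28912 : act 0 n16336 = n13269 := d4_1 D16336 (iv D13269) (iv F22543)
theorem F28913 : act 2 n16336 = n13278 := d11_1 D16336 F28911 (iv D16335)
theorem F28914 : act 3 n16336 = n13262 := d13_1 D16336 (iv D13262) D13261
def n16337 : Q := act 1 n13263
theorem D16337 : act 1 n13263 = n16337 := rfl
theorem F28915 : act 0 n16337 = n13466 := d0_1 D16337 (iv D13466) F17684 (iv F17417) (iv F22547)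
theorem F28916 : act 3 n16337 = n13363 := d6_2 (iv F22549) D16337 (iv D13363)
theorem F28917 : act 5 n16337 = n13273 := d8_2 (iv F22548) D16337 (iv D13273)
def n16338 : Q := act 4 n13264
theorem D16338 : act 4 n13264 = n16338 := rfl
theorem F28918 : act 1 n16338 = n13265 := d7_1 D16338 (iv D13265) D13264
def n16339 : Q := act 3 n13265
theorem D16339 : act 3 n13265 = n16339 := rfl
theorem F28919 : act 0 n16339 = n13336 := d2_1 D16339 (iv D13336) (iv F22552)
theorem F28920 : act 4 n16339 = n13323 := d12_2 D13265 D16339 (iv D13323) (iv D10452) (iv F17412)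
def n16340 : Q := act 5 n13265
theorem D16340 : act 5 n13265 = n16340 := rfl
theorem F28921 : act 0 n16340 = n13335 := d4_1 D16340 F22668 (iv F22552)
theorem F28922 : act 2 n16340 = n13267 := d11_1 D16340 (iv D13267) (iv F22553)
theorem F28923 : act 4 n16340 = n13320 := d14_1 D16340 (iv D13320) (iv D10449) (iv F17413) D13265
def n16341 : Q := act 2 n13266
theorem D16341 : act 2 n13266 = n16341 := rfl
theorem F28924 : act 4 n16341 = n13268 := d10_2 (iv F22554) D16341 (iv D13268)
def n16342 : Q := act 5 n13266
theorem D16342 : act 5 n13266 = n16342 := rfl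
theorem F28925 : act 3 n16342 = n13267 := d13_1 D16342 (iv D13267) D13266
def n16343 : Q := act 1 n13268
theorem D16343 : act 1 n13268 = n16343 := rfl
def n16344 : Q := act 3 n13268
theorem D16344 : act 3 n13268 = n16344 := rfl
theorem F28926 : act 0 n16344 = n13279 := d2_1 D16344 (iv F28910) F28909
theorem F28927 : act 2 n16344 = n13272 := d9_1 D16344 F22564 F17422 (iv F17407) (iv F22545) (iv F28914) F28913 (iv D13278) (iv D10418) (iv D8070) F10190 (iv F10170) (iv F13374) D10410 D13268
theorem F28928 : act 5 n16344 = n13271 := d15_8 (iv D10418) (iv D8070) F10190 (iv F10170) (iv F13374) D10410 D13268 D16344 F22561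
def n16345 : Q := act 5 n13268
theorem D16345 : act 5 n13268 = n16345 := rfl
theorem F28929 : act 0 n16345 = n13278 := d4_1 D16345 F28911 F28909
theorem F28930 : act 2 n16345 = n13269 := d11_1 D16345 (iv D13269) D13268
theorem F28931 : act 3 n16345 = n13271 := d13_1 D16345 (iv F28928) (iv D16344)
def n16346 : Q := act 4 n13269
theorem D16346 : act 4 n13269 = n16346 := rfl
theorem F28932 : act 1 n16346 = n14807 := d7_1 D16346 (iv D14807) (iv F22555)
theorem F28933 : act 3 n16346 = n14837 := d12_1 D16346 (iv D14837) (iv D11779) (iv F17416) (iv F22556)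
def n16347 : Q := act 4 n13270
theorem D16347 : act 4 n13270 = n16347 := rfl
theorem F28934 : act 0 n16347 = n13364 := d3_1 D16347 (iv D13364) (iv F22557)
theorem F28935 : act 1 n16347 = n13469 := d7_1 D16347 (iv D13469) (iv F22558)
theorem F28936 : act 2 n16347 = n13351 := d10_1 D16347 (iv D13351) (iv F22560)
def n16348 : Q := act 1 n13271
theorem D16348 : act 1 n13271 = n16348 := rfl
theorem F28937 : act 4 n16348 = n13374 := d7_2 (iv F22562) D16348 (iv D13374)
def n16349 : Q := act 4 n13272
theorem D16349 : act 4 n13272 = n16349 := rfl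
theorem F28938 : act 0 n16349 = n13280 := d3_1 D16349 (iv D13280) (iv F22563)
theorem F28939 : act 5 n16349 = n13377 := d14_2 D13272 D16349 (iv D13377) (iv D10494) (iv F17420)
def n16350 : Q := act 0 n13273
theorem D16350 : act 0 n13273 = n16350 := rfl
theorem F28940 : act 1 n16350 = n13281 := d0_2 D13273 D16350 (iv D13281) (iv D10420) (iv F17423)
theorem F28941 : act 5 n16350 = n13466 := d4_2 F28917 D16350 (iv F28915)
def n16351 : Q := act 3 n13273
theorem D16351 : act 3 n13273 = n16351 := rfl
theorem F28942 : act 1 n16351 = n13274 := d6_1 D16351 (iv D13274) D13273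
theorem F28943 : act 5 n16351 = n13363 := d13_2 F28917 D16351 (iv F28916)
def n16352 : Q := act 4 n13274
theorem D16352 : act 4 n13274 = n16352 := rfl
theorem F28944 : act 0 n16352 = n13284 := d3_1 D16352 (iv D13284) (iv F22565)
theorem F28945 : act 2 n16352 = n13345 := d10_1 D16352 (iv D13345) (iv F22566)
def n16353 : Q := act 1 n13275
theorem D16353 : act 1 n13275 = n16353 := rfl
theorem F28946 : act 2 n16353 = n14949 := d5_2 D13275 D16353 F25867 F19987 (iv F17425)
theorem F28947 : act 3 n16353 = n15894 := d6_2 (iv F22570) D16353 F27934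
theorem F28948 : act 4 n16353 = n13277 := d7_2 (iv F22569) D16353 (iv D13277)
theorem F28949 : act 5 n16353 = n15893 := d8_2 F22571 D16353 F27933
def n16354 : Q := act 4 n13276
theorem D16354 : act 4 n13276 = n16354 := rfl
theorem F28950 : act 0 n16354 = n13377 := d3_1 D16354 (iv D13377) (iv F22572)
theorem F28951 : act 1 n16354 = n14952 := d7_1 D16354 (iv D14952) (iv F22573)
theorem F28952 : act 2 n16354 = n15895 := d10_1 D16354 (iv D15895) (iv F22574)
theorem F28953 : act 5 n16354 = n13280 := d14_2 D13276 D16354 (iv D13280) (iv D10419) (iv F17426)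
def n16355 : Q := act 0 n13277
theorem D16355 : act 0 n13277 = n16355 := rfl
theorem F28954 : act 2 n16355 = n14948 := d1_2 (iv F22576) D16355 (iv D14948)
def n16356 : Q := act 3 n13277
theorem D16356 : act 3 n13277 = n16356 := rfl
theorem F28955 : act 1 n16356 = n13278 := d6_1 D16356 (iv D13278) D13277
def n16357 : Q := act 4 n13278
theorem D16357 : act 4 n13278 = n16357 := rfl
theorem F28956 : act 3 n16357 = n15896 := d12_1 D16357 (iv D15896) (iv F22570) F22569 D13278
def n16358 : Q := act 4 n13279
theorem D16358 : act 4 n13279 = n16358 := rfl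
theorem F28957 : act 2 n16358 = n13280 := d10_1 D16358 (iv D13280) (iv F22577)
theorem F28958 : act 5 n16358 = n15895 := d14_2 D13279 D16358 (iv D15895) F22571 F22569
def n16359 : Q := act 3 n13281
theorem D16359 : act 3 n13281 = n16359 := rfl
theorem F28959 : act 0 n16359 = n13282 := d2_1 D16359 (iv D13282) D13281
theorem F28960 : act 5 n16359 = n13467 := d13_2 (iv F22580) D16359 (iv D13467)
theorem F28961 : act 2 n16359 = n13447 := d15_2 (iv F22579) D16359 (iv D13447) (iv D10553) (iv D8176) F10335 D6274 (iv F13392) D10422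
def n16360 : Q := act 2 n13282
theorem D16360 : act 2 n13282 = n16360 := rfl
theorem F28962 : act 0 n16360 = n13447 := d1_1 D16360 (iv F28961) F28959
theorem F28963 : act 5 n16360 = n13468 := d11_2 (iv F22582) D16360 (iv D13468)
theorem F28964 : act 3 n16360 = n13442 := d15_1 D16360 (iv D13442) (iv D10549) F13564 D8187 D10567 D13467 (iv F28960) F28959
def n16361 : Q := act 4 n13282
theorem D16361 : act 4 n13282 = n16361 := rfl
theorem F28965 : act 1 n16361 = n13284 := d7_1 D16361 (iv D13284) (iv F22581)
def n16362 : Q := act 1 n13283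
theorem D16362 : act 1 n13283 = n16362 := rfl
theorem F28966 : act 3 n16362 = n13325 := d6_2 (iv F22584) D16362 (iv D13325)
theorem F28967 : act 5 n16362 = n13350 := d8_2 (iv F22585) D16362 F22695
def n16363 : Q := act 4 n13283
theorem D16363 : act 4 n13283 = n16363 := rfl
theorem F28968 : act 0 n16363 = n13345 := d3_1 D16363 (iv D13345) (iv F22583)
theorem F28969 : act 2 n16363 = n13284 := d10_1 D16363 (iv D13284) D13283
def n16364 : Q := act 5 n13284
theorem D16364 : act 5 n13284 = n16364 := rfl
def n16365 : Q := act 5 n13286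
theorem D16365 : act 5 n13286 = n16365 := rfl
theorem F28970 : act 0 n16365 = n13294 := d4_1 D16365 (iv D13294) (iv F22586)
theorem F28971 : act 1 n16365 = n13440 := d8_1 D16365 (iv F28879) F28877
theorem F28972 : act 2 n16365 = n13288 := d11_1 D16365 (iv D13288) (iv F22587)
theorem F28973 : act 3 n16365 = n13439 := d13_1 D16365 (iv F28875) F28874
theorem F28974 : act 4 n16365 = n13312 := d14_1 D16365 (iv D13312) (iv F26288) (iv D13287) D13286
def n16366 : Q := act 4 n13288
theorem D16366 : act 4 n13288 = n16366 := rfl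
theorem F28975 : act 0 n16366 = n13295 := d3_1 D16366 (iv D13295) (iv F22591)
theorem F28976 : act 2 n16366 = n13312 := d10_1 D16366 (iv F28974) F28972
theorem F28977 : act 3 n16366 = n16300 := d12_1 D16366 F28795 F28592 (iv F28029) F28028
theorem F28978 : act 5 n16366 = n13289 := d14_2 D13288 D16366 (iv D13289) (iv D10425) D10424
def n16367 : Q := act 5 n13291
theorem D16367 : act 5 n13291 = n16367 := rfl
theorem F28979 : act 0 n16367 = n13312 := d4_1 D16367 (iv D13312) (iv F26281)
theorem F28980 : act 1 n16367 = n13294 := d8_1 D16367 (iv D13294) (iv F22597)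
theorem F28981 : act 2 n16367 = n13295 := d11_1 D16367 F22601 (iv F22598)
theorem F28982 : act 3 n16367 = n13305 := d13_1 D16367 (iv D13305) (iv F26282)
theorem F28983 : act 4 n16367 = n13294 := d14_1 D16367 (iv D13294) (iv D10428) F17441 D13291
def n16368 : Q := act 5 n13293
theorem D16368 : act 5 n13293 = n16368 := rfl
theorem F28984 : act 0 n16368 = n13439 := d4_1 D16368 (iv F28875) F28871
theorem F28985 : act 1 n16368 = n13305 := d8_1 D16368 (iv D13305) (iv F26283)
theorem F28986 : act 2 n16368 = n14953 := d11_1 D16368 (iv F28149) F28148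
theorem F28987 : act 3 n16368 = n13294 := d13_1 D16368 (iv D13294) D13293
theorem F28988 : act 4 n16368 = n13441 := d14_1 D16368 F22865 (iv F22512) (iv F22513) (iv F26284)
def n16369 : Q := act 3 n13306
theorem D16369 : act 3 n13306 = n16369 := rfl
theorem F28989 : act 0 n16369 = n13313 := d2_1 D16369 (iv D13313) (iv F22614)
theorem F28990 : act 1 n16369 = n15458 := d6_1 D16369 (iv D15458) (iv F22615)
theorem F28991 : act 2 n16369 = n15133 := d9_1 D16369 (iv F28032) (iv D15945) (iv D12922) F16852 F12924 (iv F15686) D12044 D15124 (iv F28601) F28600 F22291 F17213 D10439 D13306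
theorem F28992 : act 5 n16369 = n15120 := d13_2 (iv F22617) D16369 (iv D15120)
theorem F28993 : act 4 n16236 = n16369 := d14_5 F28992 F26273 (iv F22073) (iv F22337) D16236
def n16370 : Q := act 4 n13313
theorem D16370 : act 4 n13313 = n16370 := rfl
theorem F28994 : act 0 n16370 = n16236 := d3_1 D16370 F28993 F28989
theorem F28995 : act 1 n16370 = n14802 := d7_1 D16370 (iv D14802) (iv F22622)
theorem F28996 : act 2 n16370 = n16233 := d10_1 D16370 F28677 F28597
theorem F28997 : act 3 n16370 = n13491 := d12_1 D16370 (iv D13491) (iv D10589) (iv F17464) D13313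
theorem F28998 : act 5 n16370 = n15122 := d14_2 (iv F22623) D16370 (iv D15122) D15123 (iv F26308)
def n16371 : Q := act 3 n13315
theorem D16371 : act 3 n13315 = n16371 := rfl
theorem F28999 : act 0 n16371 = n14811 := d2_1 D16371 (iv F28292) F28289
theorem F29000 : act 1 n16371 = n13319 := d6_1 D16371 (iv D13319) (iv F22629)
theorem F29001 : act 4 n16371 = n13316 := d12_2 D13315 D16371 (iv D13316) (iv D10447) D10446
theorem F29002 : act 2 n16371 = n14810 := d15_6 F20292 (iv F19780) (iv F25613) (iv F28292) F28291 D16371 F25612 F26267 F26265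
def n16372 : Q := act 5 n13315
theorem D16372 : act 5 n13315 = n16372 := rfl
theorem F29003 : act 1 n16372 = n13320 := d8_1 D16372 (iv D13320) (iv F22629)
def n16373 : Q := act 5 n13316
theorem D16373 : act 5 n13316 = n16373 := rfl
theorem F29004 : act 0 n16373 = n13490 := d4_1 D16373 F22932 (iv F22630)
theorem F29005 : act 1 n16373 = n13321 := d8_1 D16373 (iv D13321) (iv F22631)
theorem F29006 : act 2 n16373 = n13489 := d11_1 D16373 F22929 (iv F22632)
theorem F29007 : act 3 n16373 = n13317 := d13_1 D16373 (iv D13317) D13316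
def n16374 : Q := act 4 n13317
theorem D16374 : act 4 n13317 = n16374 := rfl
theorem F29008 : act 0 n16374 = n14953 := d3_1 D16374 (iv D14953) (iv F22633)
theorem F29009 : act 1 n16374 = n13322 := d7_1 D16374 (iv D13322) (iv F22634)
theorem F29010 : act 2 n16374 = n13439 := d10_1 D16374 F22859 (iv F22635)
theorem F29011 : act 5 n16374 = n13318 := d14_2 D13317 D16374 (iv D13318) (iv D10448) D10447
theorem F29012 : act 3 n16191 = n16374 := d15_7 F28148 (iv D13293) F17442 (iv F16849) (iv F17223) D13126 D16191 F29011 (iv F28146)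
def n16375 : Q := act 3 n13318
theorem D16375 : act 3 n13318 = n16375 := rfl
theorem F29013 : act 1 n16375 = n13323 := d6_1 D16375 (iv D13323) (iv F22636)
theorem F29014 : act 5 n16375 = n16191 := d13_2 F29011 D16375 F29012
theorem F29015 : act 2 n16375 = n16192 := d15_2 F28873 D16375 F28620 F22302 F21869 (iv F22599) (iv F28987) (iv D16368) (iv F28871)
def n16376 : Q := act 5 n13319
theorem D16376 : act 5 n13319 = n16376 := rfl
theorem F29016 : act 0 n16376 = n13334 := d4_1 D16376 (iv D13334) (iv F22637)
theorem F29017 : act 2 n16376 = n15897 := d11_1 D16376 (iv D15897) F22639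
theorem F29018 : act 3 n16376 = n13320 := d13_1 D16376 (iv D13320) D13319
def n16377 : Q := act 4 n13321
theorem D16377 : act 4 n13321 = n16377 := rfl
theorem F29019 : act 0 n16377 = n13339 := d3_1 D16377 (iv D13339) (iv F22641)
theorem F29020 : act 2 n16377 = n13359 := d10_1 D16377 (iv D13359) (iv F22642)
def n16378 : Q := act 3 n13322
theorem D16378 : act 3 n13322 = n16378 := rfl
theorem F29021 : act 0 n16378 = n13340 := d2_1 D16378 (iv D13340) (iv F22644)
theorem F29022 : act 1 n16378 = n16191 := d6_1 D16378 F29012 F29009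
theorem F29023 : act 5 n16378 = n13323 := d13_2 (iv F22646) D16378 (iv D13323)
theorem F29024 : act 2 n16193 = n16378 := d5_0 F29022 (iv D16191) F22300 D13128 D16193
def n16379 : Q := act 2 n13323
theorem D16379 : act 2 n13323 = n16379 := rfl
theorem F29025 : act 0 n16379 = n13341 := d1_1 D16379 (iv D13341) (iv F22647)
theorem F29026 : act 1 n16379 = n16195 := d5_1 D16379 F28621 (iv F28619) (iv F29015) F29013
theorem F29027 : act 5 n16379 = n16193 := d11_2 F29023 D16379 F29024
theorem F29028 : act 3 n16379 = n13397 := d15_1 D16379 (iv D13397) (iv D10514) F13519 (iv F13434) (iv F17501) D13340 F22676 (iv F22647)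
def n16380 : Q := act 1 n13324
theorem D16380 : act 1 n13324 = n16380 := rfl
theorem F29029 : act 0 n16380 = n13412 := d0_1 D16380 F22812 F17625 (iv F17503) (iv F22648)
theorem F29030 : act 2 n16380 = n13433 := d5_2 D13324 D16380 F22845 F17650 (iv F17483)
theorem F29031 : act 4 n16380 = n13325 := d7_2 (iv F22649) D16380 (iv D13325)
theorem F29032 : act 5 n16380 = n13388 := d8_2 (iv F22650) D16380 F22755
def n16381 : Q := act 3 n13324
theorem D16381 : act 3 n13324 = n16381 := rfl
theorem F29033 : act 0 n16381 = n13342 := d2_1 D16381 (iv D13342) (iv F22648)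
theorem F29034 : act 5 n16381 = n13390 := d13_2 (iv F22650) D16381 (iv D13390)
def n16382 : Q := act 0 n13325
theorem D16382 : act 0 n13325 = n16382 := rfl
theorem F29035 : act 1 n16382 = n13343 := d0_2 D13325 D16382 (iv D13343) (iv D10469) (iv F17486)
theorem F29036 : act 2 n16382 = n13430 := d1_2 (iv F22651) D16382 F22840
theorem F29037 : act 4 n16382 = n13412 := d3_2 F29031 D16382 (iv F29029)
theorem F29038 : act 5 n16382 = n13349 := d4_2 (iv F22652) D16382 (iv D13349)
def n16383 : Q := act 2 n13327
theorem D16383 : act 2 n13327 = n16383 := rfl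
theorem F29039 : act 0 n16383 = n14813 := d1_1 D16383 F28296 F28293
theorem F29040 : act 4 n16383 = n13329 := d10_2 (iv F22658) D16383 (iv D13329)
theorem F29041 : act 3 n16383 = n15801 := d15_7 F27780 (iv F25627) F28272 (iv D16032) F22027 D13327 D16383 (iv D15801) (iv F27778)
theorem F29042 : act 1 n15803 = n16383 := d6_3 F29041 F27786 (iv F27790)
theorem F29043 : act 5 n15800 = n16383 := d13_0 F29041 (iv D15801) D15800
def n16384 : Q := act 5 n13327
theorem D16384 : act 5 n13327 = n16384 := rfl
theorem F29044 : act 1 n16384 = n13334 := d8_1 D16384 (iv D13334) (iv F22657)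
theorem F29045 : act 2 n16384 = n15800 := d11_1 D16384 F29043 (iv D16383)
theorem F29046 : act 3 n16384 = n13328 := d13_1 D16384 (iv D13328) D13327
theorem F29047 : act 4 n16384 = n14957 := d14_1 D16384 (iv D14957) (iv D11883) (iv F17493) (iv F22658)
def n16385 : Q := act 1 n13329
theorem D16385 : act 1 n13329 = n16385 := rfl
theorem F29048 : act 0 n16385 = n14657 := d0_1 D16385 F25265 F19503 D11749 (iv F22660)
theorem F29049 : act 2 n16385 = n13337 := d5_2 D13329 D16385 (iv D13337) (iv D10464) (iv F17492)
theorem F29050 : act 3 n16385 = n14656 := d6_2 (iv F22661) D16385 F25261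
theorem F29051 : act 4 n16385 = n15803 := d7_2 F29040 D16385 F29042
theorem F29052 : act 5 n16385 = n14659 := d8_2 (iv F22662) D16385 F25271
def n16386 : Q := act 3 n13330
theorem D16386 : act 3 n13330 = n16386 := rfl
theorem F29053 : act 1 n16386 = n13331 := d6_1 D16386 (iv D13331) (iv F22663)
def n16387 : Q := act 5 n13330
theorem D16387 : act 5 n13330 = n16387 := rfl
theorem F29054 : act 1 n16387 = n13332 := d8_1 D16387 (iv D13332) (iv F22663)
def n16388 : Q := act 2 n13331
theorem D16388 : act 2 n13331 = n16388 := rfl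
def n16389 : Q := act 5 n13331
theorem D16389 : act 5 n13331 = n16389 := rfl
theorem F29055 : act 3 n16389 = n13332 := d13_1 D16389 (iv D13332) D13331
def n16390 : Q := act 1 n13333
theorem D16390 : act 1 n13333 = n16390 := rfl
theorem F29056 : act 2 n16390 = n15803 := d5_2 D13333 D16390 F29042 (iv D16383) F22657
theorem F29057 : act 4 n16390 = n13337 := d7_2 (iv F22666) D16390 (iv D13337)
theorem F29058 : act 5 n15802 = n16390 := d11_0 F29056 (iv D15803) D15802
def n16391 : Q := act 3 n13333
theorem D16391 : act 3 n13333 = n16391 := rfl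
theorem F29059 : act 0 n16391 = n14704 := d2_1 D16391 F25378 (iv F22665)
theorem F29060 : act 4 n16391 = n14699 := d12_2 (iv F22666) D16391 (iv D14699) F19576 (iv F17497)
def n16392 : Q := act 5 n13333
theorem D16392 : act 5 n13333 = n16392 := rfl
theorem F29061 : act 0 n16392 = n15897 := d4_1 D16392 (iv D15897) (iv F22665)
theorem F29062 : act 1 n16392 = n15802 := d8_1 D16392 F29058 (iv D16390)
theorem F29063 : act 2 n16392 = n13334 := d11_1 D16392 (iv D13334) D13333
theorem F29064 : act 4 n15806 = n16392 := d7_0 F29062 F27788 D15806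
def n16393 : Q := act 4 n13334
theorem D16393 : act 4 n13334 = n16393 := rfl
theorem F29065 : act 1 n16393 = n14957 := d7_1 D16393 (iv F29047) F29044
theorem F29066 : act 2 n16393 = n15806 := d10_1 D16393 F29064 F29063
theorem F29067 : act 5 n16393 = n13339 := d14_2 D13334 D16393 (iv D13339) (iv D10465) (iv F17495)
def n16394 : Q := act 3 n13335
theorem D16394 : act 3 n13335 = n16394 := rfl
theorem F29068 : act 5 n16394 = n13336 := d13_2 (iv F22668) D16394 (iv D13336)
def n16395 : Q := act 2 n13336
theorem D16395 : act 2 n13336 = n16395 := rfl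
theorem F29069 : act 4 n16395 = n13341 := d10_2 (iv F22669) D16395 (iv D13341)
def n16396 : Q := act 0 n13337
theorem D16396 : act 0 n13337 = n16396 := rfl
theorem F29070 : act 1 n16396 = n14724 := d0_2 D13337 D16396 F25414 F19620 (iv F17496)
theorem F29071 : act 2 n16396 = n14657 := d1_2 F29049 D16396 (iv F29048)
theorem F29072 : act 3 n16396 = n14723 := d2_2 (iv F22670) D16396 F25412
theorem F29073 : act 5 n14660 = n16396 := d11_0 F29071 F25266 D14660
def n16397 : Q := act 5 n13337
theorem D16397 : act 5 n13337 = n16397 := rfl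
theorem F29074 : act 0 n16397 = n14660 := d4_1 D16397 F29073 (iv D16396)
theorem F29075 : act 1 n16397 = n13338 := d8_1 D16397 (iv D13338) D13337
theorem F29076 : act 2 n16397 = n14659 := d11_1 D16397 (iv F29052) F29049
theorem F29077 : act 3 n16397 = n13348 := d13_1 D16397 F22691 (iv F22670)
theorem F29078 : act 4 n16397 = n15808 := d14_1 D16397 (iv D15808) (iv F27788) F29058 F29057
def n16398 : Q := act 4 n13338
theorem D16398 : act 4 n13338 = n16398 := rfl
theorem F29079 : act 0 n16398 = n13359 := d3_1 D16398 (iv D13359) (iv F22671)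
theorem F29080 : act 1 n16398 = n15808 := d7_1 D16398 (iv F29078) F29075
theorem F29081 : act 2 n16398 = n13339 := d10_1 D16398 (iv D13339) (iv F22672)
theorem F29082 : act 3 n16398 = n15811 := d12_1 D16398 F27810 (iv F23361) F22685 (iv F22673)
theorem F29083 : act 5 n16398 = n15806 := d14_2 D13338 D16398 F29064 (iv D16392) F22666
def n16399 : Q := act 3 n13339
theorem D16399 : act 3 n13339 = n16399 := rfl
theorem F29084 : act 1 n16399 = n14956 := d6_1 D16399 (iv D14956) (iv F22674)
theorem F29085 : act 4 n16399 = n13340 := d12_2 D13339 D16399 (iv D13340) (iv D10466) (iv F17499)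
def n16400 : Q := act 2 n13340
theorem D16400 : act 2 n13340 = n16400 := rfl
theorem F29086 : act 0 n16400 = n16193 := d1_1 D16400 F29024 F29021
theorem F29087 : act 5 n16400 = n13341 := d11_2 (iv F22676) D16400 (iv D13341)
def n16401 : Q := act 1 n13341
theorem D16401 : act 1 n13341 = n16401 := rfl
def n16402 : Q := act 3 n13341
theorem D16402 : act 3 n13341 = n16402 := rfl
theorem F29088 : act 0 n16402 = n13397 := d2_1 D16402 (iv F29028) F29025
theorem F29089 : act 2 n16402 = n13390 := d15_2 D13341 D16402 (iv D13390) F17588 (iv F17480) (iv F22645) D16378 F29023 F22647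
theorem F29090 : act 4 n15886 = n16402 := d10_0 F29089 F22761 D15886
def n16403 : Q := act 2 n13342
theorem D16403 : act 2 n13342 = n16403 := rfl
theorem F29091 : act 3 n16403 = n16193 := d9_2 D13342 D16403 F29024 (iv D16378) F22645 F17480 (iv F17588) D13390 (iv F29089) (iv D16402) (iv D13341) (iv D10467) F13432 D8107 D10468
theorem F29092 : act 5 n16403 = n13397 := d11_2 (iv F22678) D16403 (iv D13397)
theorem F29093 : act 1 n16194 = n16403 := d6_3 F29091 (iv D16193) D16194
def n16404 : Q := act 4 n13342
theorem D16404 : act 4 n13342 = n16404 := rfl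
theorem F29094 : act 1 n16404 = n13426 := d7_1 D16404 (iv D13426) (iv F22677)
theorem F29095 : act 3 n16404 = n13345 := d12_1 D16404 (iv D13345) (iv D10470) (iv F17504) D13342
def n16405 : Q := act 3 n13343
theorem D16405 : act 3 n13343 = n16405 := rfl
theorem F29096 : act 0 n16405 = n13344 := d2_1 D16405 (iv D13344) D13343
theorem F29097 : act 5 n16405 = n13360 := d13_2 (iv F22681) D16405 (iv D13360)
def n16406 : Q := act 2 n13344
theorem D16406 : act 2 n13344 = n16406 := rfl
theorem F29098 : act 5 n16406 = n13361 := d11_2 (iv F22683) D16406 (iv D13361)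
def n16407 : Q := act 4 n13344
theorem D16407 : act 4 n13344 = n16407 := rfl
theorem F29099 : act 1 n16407 = n13345 := d7_1 D16407 (iv D13345) (iv F22682)
theorem F29100 : act 3 n16407 = n13426 := d12_1 D16407 (iv D13426) F17635 (iv F17507) D13344
def n16408 : Q := act 5 n13345
theorem D16408 : act 5 n13345 = n16408 := rfl
theorem F29101 : act 4 n16408 = n13365 := d14_1 D16408 (iv D13365) (iv D10486) (iv F17509) D13345
def n16409 : Q := act 5 n13346
theorem D16409 : act 5 n13346 = n16409 := rfl
theorem F29102 : act 0 n16409 = n13356 := d4_1 D16409 (iv D13356) (iv F22684)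
theorem F29103 : act 1 n16409 = n13674 := d8_1 D16409 (iv F23353) F23360
theorem F29104 : act 2 n16409 = n13347 := d11_1 D16409 (iv D13347) D13346
theorem F29105 : act 4 n16409 = n14700 := d14_1 D16409 (iv D14700) F19576 (iv F17520) (iv F22685)
def n16410 : Q := act 0 n13348
theorem D16410 : act 0 n13348 = n16410 := rfl
theorem F29106 : act 1 n16410 = n13357 := d0_2 D13348 D16410 (iv D13357) (iv D10481) (iv F17519)
theorem F29107 : act 2 n16410 = n13690 := d1_2 (iv F22690) D16410 F23409
theorem F29108 : act 3 n16410 = n14660 := d2_2 F29077 D16410 (iv F29074)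
theorem F29109 : act 4 n16410 = n13689 := d3_2 (iv F23359) D16410 F23406
theorem F29110 : act 5 n16410 = n14723 := d4_2 (iv F22691) D16410 F25412
def n16411 : Q := act 3 n13349
theorem D16411 : act 3 n13349 = n16411 := rfl
theorem F29111 : act 0 n16411 = n13350 := d2_1 D16411 (iv D13350) D13349
theorem F29112 : act 1 n16411 = n13360 := d6_1 D16411 (iv D13360) (iv F22692)
theorem F29113 : act 4 n16411 = n14976 := d12_2 (iv F22694) D16411 (iv D14976) (iv D11902) F17576
def n16412 : Q := act 2 n13350
theorem D16412 : act 2 n13350 = n16412 := rfl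
theorem F29114 : act 1 n16412 = n13468 := d5_1 D16412 (iv D13468) (iv F22558) F22560 (iv F22695)
def n16413 : Q := act 4 n13350
theorem D16413 : act 4 n13350 = n16413 := rfl
theorem F29115 : act 0 n16413 = n14976 := d3_1 D16413 (iv F29113) F29111
theorem F29116 : act 1 n16413 = n13351 := d7_1 D16413 (iv D13351) (iv F22695)
theorem F29117 : act 3 n16413 = n13387 := d12_1 D16413 (iv D13387) (iv D10505) (iv F17522) D13350
def n16414 : Q := act 5 n13351
theorem D16414 : act 5 n13351 = n16414 := rfl
theorem F29118 : act 0 n16414 = n13365 := d4_1 D16414 (iv D13365) (iv F22696)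
theorem F29119 : act 3 n16414 = n13389 := d13_1 D16414 (iv D13389) (iv F22697)
def n16415 : Q := act 1 n13352
theorem D16415 : act 1 n13352 = n16415 := rfl
theorem F29120 : act 2 n16415 = n13562 := d5_2 D13352 D16415 (iv D13562) (iv D10648) (iv F17524)
def n16416 : Q := act 3 n13352
theorem D16416 : act 3 n13352 = n16416 := rfl
def n16417 : Q := act 5 n13352
theorem D16417 : act 5 n13352 = n16417 := rfl
theorem F29121 : act 2 n16417 = n13353 := d11_1 D16417 (iv D13353) D13352
theorem F29122 : act 3 n16415 = n16417 := d15_7 F28776 F22425 F17397 D10472 D13346 F23361 (iv F29120) (iv D16417) (iv F28775)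
theorem F29123 : act 1 n16417 = n16416 := d6_1 F29122 (iv D16416) D16415
theorem F29124 : act 5 n16416 = n16415 := d13_0 F29122 (iv D16417) D16416
def n16418 : Q := act 4 n13353
theorem D16418 : act 4 n13353 = n16418 := rfl
theorem F29125 : act 1 n16418 = n13565 := d7_1 D16418 (iv D13565) (iv F22698)
theorem F29126 : act 3 n16418 = n13377 := d12_1 D16418 (iv D13377) F17548 (iv F17527) (iv F22699)
def n16419 : Q := act 0 n13354
theorem D16419 : act 0 n13354 = n16419 := rfl
theorem F29127 : act 1 n16419 = n13689 := d0_2 D13354 D16419 F23406 F23360 F22684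
theorem F29128 : act 2 n16419 = n13385 := d1_2 (iv F22700) D16419 (iv D13385)
theorem F29129 : act 4 n16419 = n13357 := d3_2 (iv F22701) D16419 (iv D13357)
theorem F29130 : act 3 n15813 = n16419 := d12_5 F29129 (iv F22706) D15460 (iv F27039) (iv F27813)
theorem F29131 : act 5 n13687 = n16419 := d8_0 F29127 (iv D13689) D13687
def n16420 : Q := act 3 n13354
theorem D16420 : act 3 n13354 = n16420 := rfl
theorem F29132 : act 0 n16420 = n15813 := d2_1 D16420 F29130 (iv D16419)
theorem F29133 : act 1 n16420 = n13355 := d6_1 D16420 (iv D13355) D13354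
theorem F29134 : act 4 n15815 = n16420 := d3_0 F29132 F27813 D15815
def n16421 : Q := act 5 n13354
theorem D16421 : act 5 n13354 = n16421 := rfl
theorem F29135 : act 0 n16421 = n13687 := d4_1 D16421 F29131 (iv D16419)
theorem F29136 : act 1 n16421 = n13356 := d8_1 D16421 (iv D13356) D13354
theorem F29137 : act 2 n16421 = n13384 := d11_1 D16421 F22745 (iv F22700)
theorem F29138 : act 4 n16421 = n13553 := d14_1 D16421 F23072 F19581 (iv F17533) (iv F22701)
def n16422 : Q := act 2 n13355
theorem D16422 : act 2 n13355 = n16422 := rfl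
theorem F29139 : act 0 n16422 = n16415 := d1_1 D16422 F29120 F23362
def n16423 : Q := act 4 n13355
theorem D16423 : act 4 n13355 = n16423 := rfl
theorem F29140 : act 0 n16423 = n15811 := d3_1 D16423 F27810 F23362
theorem F29141 : act 1 n16423 = n15815 := d7_1 D16423 F29134 F29133
theorem F29142 : act 3 n16423 = n13359 := d12_1 D16423 (iv D13359) (iv D10482) (iv F17528) D13355
def n16424 : Q := act 5 n13355
theorem D16424 : act 5 n13355 = n16424 := rfl
theorem F29143 : act 3 n16424 = n13356 := d13_1 D16424 (iv D13356) D13355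
def n16425 : Q := act 4 n13358
theorem D16425 : act 4 n13358 = n16425 := rfl
theorem F29144 : act 0 n16425 = n15460 := d3_1 D16425 (iv D15460) (iv F22707)
theorem F29145 : act 1 n16425 = n13359 := d7_1 D16425 (iv D13359) (iv F22708)
theorem F29146 : act 2 n16425 = n15457 := d10_1 D16425 (iv D15457) (iv F22710)
theorem F29147 : act 3 n16425 = n15815 := d12_1 D16425 F29134 (iv D16420) F22701 D13358
def n16426 : Q := act 5 n13359
theorem D16426 : act 5 n13359 = n16426 := rfl
theorem F29148 : act 0 n16426 = n15806 := d4_1 D16426 (iv F29083) F29079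
theorem F29149 : act 4 n16426 = n15897 := d14_1 D16426 (iv D15897) (iv D12840) (iv F17534) D13359
def n16427 : Q := act 2 n13360
theorem D16427 : act 2 n13360 = n16427 := rfl
theorem F29150 : act 0 n16427 = n13361 := d1_1 D16427 (iv D13361) (iv F22711)
theorem F29151 : act 4 n16427 = n15853 := d10_2 (iv F22712) D16427 (iv D15853)
def n16428 : Q := act 1 n13361
theorem D16428 : act 1 n13361 = n16428 := rfl
theorem F29152 : act 2 n16428 = n13363 := d5_2 D13361 D16428 (iv D13363) (iv D10485) (iv F17537)
def n16429 : Q := act 3 n13361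
theorem D16429 : act 3 n13361 = n16429 := rfl
def n16430 : Q := act 4 n13361
theorem D16430 : act 4 n13361 = n16430 := rfl
theorem F29153 : act 0 n16430 = n15853 := d3_1 D16430 (iv F29151) F29150
theorem F29154 : act 2 n16430 = n13362 := d10_1 D16430 (iv D13362) D13361
def n16431 : Q := act 5 n13362
theorem D16431 : act 5 n13362 = n16431 := rfl
theorem F29155 : act 0 n16431 = n15854 := d4_1 D16431 (iv D15854) (iv F22713)
theorem F29156 : act 1 n16431 = n13365 := d8_1 D16431 (iv D13365) (iv F22714)
theorem F29157 : act 3 n16431 = n13391 := d13_1 D16431 (iv D13391) (iv F22715)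
def n16432 : Q := act 0 n13363
theorem D16432 : act 0 n13363 = n16432 := rfl
theorem F29158 : act 1 n16432 = n13467 := d0_2 D13363 D16432 F22898 (iv F22558) F22557
theorem F29159 : act 3 n16432 = n13466 := d2_2 F28916 D16432 (iv F28915)
def n16433 : Q := act 4 n13363
theorem D16433 : act 4 n13363 = n16433 := rfl
theorem F29160 : act 1 n16433 = n13364 := d7_1 D16433 (iv D13364) D13363
def n16434 : Q := act 3 n13364
theorem D16434 : act 3 n13364 = n16434 := rfl
def n16435 : Q := act 5 n13364
theorem D16435 : act 5 n13364 = n16435 := rfl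
theorem F29161 : act 2 n16435 = n13365 := d11_1 D16435 (iv D13365) (iv F22716)
def n16436 : Q := act 1 n13366
theorem D16436 : act 1 n13366 = n16436 := rfl
theorem F29162 : act 2 n16436 = n13466 := d5_2 D13366 D16436 (iv D13466) (iv D10567) (iv F17540)
theorem F29163 : act 4 n16436 = n13417 := d7_2 (iv F22719) D16436 (iv D13417)
def n16437 : Q := act 3 n13366
theorem D16437 : act 3 n13366 = n16437 := rfl
theorem F29164 : act 0 n16437 = n13367 := d2_1 D16437 (iv D13367) (iv F22718)
def n16438 : Q := act 2 n13367
theorem D16438 : act 2 n13367 = n16438 := rfl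
def n16439 : Q := act 4 n13367
theorem D16439 : act 4 n13367 = n16439 := rfl
theorem F29165 : act 3 n16439 = n13428 := d12_1 D16439 (iv D13428) (iv D10538) (iv F17542) D13367
def n16440 : Q := act 3 n13368
theorem D16440 : act 3 n13368 = n16440 := rfl
theorem F29166 : act 1 n16440 = n13369 := d6_1 D16440 (iv D13369) D13368
def n16441 : Q := act 4 n13369
theorem D16441 : act 4 n13369 = n16441 := rfl
theorem F29167 : act 0 n16441 = n13371 := d3_1 D16441 (iv D13371) (iv F22720)
def n16442 : Q := act 1 n13370
theorem D16442 : act 1 n13370 = n16442 := rfl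
def n16443 : Q := act 4 n13370
theorem D16443 : act 4 n13370 = n16443 := rfl
theorem F29168 : act 2 n16443 = n13371 := d10_1 D16443 (iv D13371) D13370
def n16444 : Q := act 5 n13371
theorem D16444 : act 5 n13371 = n16444 := rfl
def n16445 : Q := act 1 n13372
theorem D16445 : act 1 n13372 = n16445 := rfl
theorem F29169 : act 2 n16445 = n13374 := d5_2 D13372 D16445 (iv D13374) (iv D10493) (iv F17544)
def n16446 : Q := act 3 n13372
theorem D16446 : act 3 n13372 = n16446 := rfl
def n16447 : Q := act 5 n13372
theorem D16447 : act 5 n13372 = n16447 := rfl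
theorem F29170 : act 2 n16447 = n13373 := d11_1 D16447 (iv D13373) D13372
def n16448 : Q := act 4 n13373
theorem D16448 : act 4 n13373 = n16448 := rfl
theorem F29171 : act 1 n16448 = n13377 := d7_1 D16448 (iv D13377) (iv F22721)
theorem F29172 : act 3 n16448 = n13565 := d12_1 D16448 (iv D13565) F17820 (iv F17547) (iv F22722)
def n16449 : Q := act 0 n13374
theorem D16449 : act 0 n13374 = n16449 := rfl
def n16450 : Q := act 3 n13374
theorem D16450 : act 3 n13374 = n16450 := rfl
theorem F29173 : act 1 n16450 = n13375 := d6_1 D16450 (iv D13375) D13374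
theorem F29174 : act 5 n15884 = n16450 := d8_0 F29173 F22725 D15884
def n16451 : Q := act 5 n13374
theorem D16451 : act 5 n13374 = n16451 := rfl
theorem F29175 : act 1 n16451 = n13376 := d8_1 D16451 (iv D13376) D13374
theorem F29176 : act 3 n16451 = n15884 := d13_1 D16451 F29174 (iv D16450)
def n16452 : Q := act 4 n13375
theorem D16452 : act 4 n13375 = n16452 := rfl
theorem F29177 : act 0 n16452 = n15896 := d3_1 D16452 (iv D15896) (iv F22723)
theorem F29178 : act 2 n16452 = n15885 := d10_1 D16452 (iv D15885) (iv F22724)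
def n16453 : Q := act 4 n13376
theorem D16453 : act 4 n13376 = n16453 := rfl
theorem F29179 : act 0 n16453 = n15895 := d3_1 D16453 (iv D15895) (iv F22726)
theorem F29180 : act 2 n16453 = n13377 := d10_1 D16453 (iv D13377) (iv F22727)
def n16454 : Q := act 1 n13378
theorem D16454 : act 1 n13378 = n16454 := rfl
theorem F29181 : act 2 n16454 = n14284 := d5_2 D13378 D16454 (iv D14284) (iv D11251) (iv F17550)
theorem F29182 : act 4 n16454 = n13558 := d7_2 (iv F22730) D16454 (iv D13558)
def n16455 : Q := act 3 n13378
theorem D16455 : act 3 n13378 = n16455 := rfl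
theorem F29183 : act 0 n16455 = n13381 := d2_1 D16455 (iv D13381) (iv F22729)
def n16456 : Q := act 5 n13378
theorem D16456 : act 5 n13378 = n16456 := rfl
theorem F29184 : act 0 n16456 = n13382 := d4_1 D16456 (iv D13382) (iv F22729)
theorem F29185 : act 2 n16456 = n13379 := d11_1 D16456 (iv D13379) D13378
def n16457 : Q := act 0 n13380
theorem D16457 : act 0 n13380 = n16457 := rfl
theorem F29186 : act 2 n16457 = n13383 := d1_2 (iv F22734) D16457 (iv D13383)
theorem F29187 : act 4 n16457 = n13559 := d3_2 (iv F22735) D16457 (iv D13559)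
theorem F29188 : act 5 n16457 = n15923 := d4_2 F22736 D16457 F27997
def n16458 : Q := act 3 n13380
theorem D16458 : act 3 n13380 = n16458 := rfl
theorem F29189 : act 1 n16458 = n13381 := d6_1 D16458 (iv D13381) D13380
theorem F29190 : act 5 n16458 = n13696 := d13_2 F22736 D16458 F23428
def n16459 : Q := act 2 n13381
theorem D16459 : act 2 n13381 = n16459 := rfl
def n16460 : Q := act 4 n13381
theorem D16460 : act 4 n13381 = n16460 := rfl
theorem F29191 : act 3 n16460 = n13561 := d12_1 D16460 (iv D13561) (iv D10646) (iv F17555) D13381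
def n16461 : Q := act 5 n13381
theorem D16461 : act 5 n13381 = n16461 := rfl
theorem F29192 : act 1 n16461 = n13696 := d8_1 D16461 (iv F29190) F29189
theorem F29193 : act 3 n16461 = n13382 := d13_1 D16461 (iv D13382) D13381
theorem F29194 : act 4 n13695 = n16461 := d12_0 F29193 (iv F23413) F23417 F23416 D13695
def n16462 : Q := act 0 n13384
theorem D16462 : act 0 n13384 = n16462 := rfl
theorem F29195 : act 1 n16462 = n13683 := d0_2 D13384 D16462 F23390 F19017 (iv F17561)
theorem F29196 : act 2 n16462 = n13687 := d1_2 F29137 D16462 (iv F29135)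
theorem F29197 : act 3 n16462 = n13555 := d2_2 (iv F22743) D16462 F23075
theorem F29198 : act 4 n16462 = n13552 := d3_2 (iv F22744) D16462 F23068
theorem F29199 : act 5 n16462 = n13385 := d4_2 (iv F22745) D16462 (iv D13385)
def n16463 : Q := act 3 n13385
theorem D16463 : act 3 n13385 = n16463 := rfl
theorem F29200 : act 0 n16463 = n13386 := d2_1 D16463 (iv D13386) D13385
theorem F29201 : act 1 n16463 = n14371 := d6_1 D16463 (iv D14371) (iv F22746)
theorem F29202 : act 4 n16463 = n14372 := d12_2 (iv F22747) D16463 F24704 F19587 (iv F17571)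
theorem F29203 : act 5 n16463 = n13555 := d13_2 F29199 D16463 (iv F29197)
def n16464 : Q := act 2 n13386
theorem D16464 : act 2 n13386 = n16464 := rfl
theorem F29204 : act 1 n16464 = n14303 := d5_1 D16464 F24522 F18878 (iv F17567) (iv F22748)
theorem F29205 : act 4 n16464 = n14299 := d10_2 (iv F22749) D16464 F24519
theorem F29206 : act 5 n16464 = n13557 := d11_2 (iv F22750) D16464 F23079
def n16465 : Q := act 5 n13387
theorem D16465 : act 5 n13387 = n16465 := rfl
theorem F29207 : act 0 n16465 = n14977 := d4_1 D16465 (iv D14977) (iv F22751)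
theorem F29208 : act 1 n16465 = n13389 := d8_1 D16465 (iv D13389) (iv F22752)
theorem F29209 : act 2 n16465 = n14686 := d11_1 D16465 (iv D14686) (iv F22753)
theorem F29210 : act 4 n16465 = n14740 := d14_1 D16465 (iv D14740) (iv D11681) F17580 D13387
def n16466 : Q := act 3 n13388
theorem D16466 : act 3 n13388 = n16466 := rfl
theorem F29211 : act 0 n16466 = n13411 := d2_1 D16466 (iv D13411) (iv F22754)
theorem F29212 : act 1 n16466 = n13390 := d6_1 D16466 (iv D13390) (iv F22755)
theorem F29213 : act 4 n16466 = n14739 := d12_2 D13388 D16466 (iv D14739) (iv D11681) (iv F17584)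
def n16467 : Q := act 3 n13392
theorem D16467 : act 3 n13392 = n16467 := rfl
theorem F29214 : act 0 n16467 = n14666 := d2_1 D16467 (iv D14666) (iv F22766)
theorem F29215 : act 1 n16467 = n13393 := d6_1 D16467 (iv D13393) (iv F22767)
theorem F29216 : act 4 n16467 = n14664 := d12_2 D13392 D16467 (iv D14664) (iv D11613) (iv F17594)
def n16468 : Q := act 5 n13392
theorem D16468 : act 5 n13392 = n16468 := rfl
theorem F29217 : act 0 n16468 = n14667 := d4_1 D16468 (iv D14667) (iv F22766)
theorem F29218 : act 1 n16468 = n13394 := d8_1 D16468 (iv D13394) (iv F22767)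
theorem F29219 : act 2 n16468 = n14982 := d11_1 D16468 (iv D14982) (iv F22768)
theorem F29220 : act 4 n16468 = n14742 := d14_1 D16468 (iv D14742) (iv D11684) (iv F17595) D13392
def n16469 : Q := act 2 n13393
theorem D16469 : act 2 n13393 = n16469 := rfl
theorem F29221 : act 0 n16469 = n14680 := d1_1 D16469 (iv D14680) (iv F22769)
theorem F29222 : act 4 n16469 = n14678 := d10_2 (iv F22770) D16469 (iv D14678)
def n16470 : Q := act 5 n13393
theorem D16470 : act 5 n13393 = n16470 := rfl
theorem F29223 : act 0 n16470 = n14681 := d4_1 D16470 (iv D14681) (iv F22769)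
theorem F29224 : act 3 n16470 = n13394 := d13_1 D16470 (iv D13394) D13393
def n16471 : Q := act 3 n13395
theorem D16471 : act 3 n13395 = n16471 := rfl
theorem F29225 : act 0 n16471 = n15887 := d2_1 D16471 F27929 (iv F22774)
theorem F29226 : act 1 n16471 = n13422 := d6_1 D16471 F22832 (iv F22775)
theorem F29227 : act 5 n16471 = n13396 := d13_2 (iv F22777) D16471 (iv D13396)
def n16472 : Q := act 2 n13396
theorem D16472 : act 2 n13396 = n16472 := rfl
theorem F29228 : act 0 n16472 = n15886 := d1_1 D16472 (iv D15886) (iv F22778)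
theorem F29229 : act 4 n16472 = n13397 := d10_2 (iv F22780) D16472 (iv D13397)
def n16473 : Q := act 1 n13397
theorem D16473 : act 1 n13397 = n16473 := rfl
theorem F29230 : act 2 n16473 = n13423 := d5_2 D13397 D16473 (iv D13423) (iv D10536) (iv F17601)
theorem F29231 : act 3 n16473 = n16195 := d6_2 F29028 D16473 (iv F29026)
theorem F29232 : act 5 n16473 = n16194 := d8_2 F29092 D16473 F29093
theorem F29233 : act 0 n16473 = n16200 := d15_9 (iv D16200) (iv D13131) (iv D10300) (iv D7972) (iv F13209) D10298 D13128 D16194 (iv F29232)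
def n16474 : Q := act 3 n13399
theorem D16474 : act 3 n13399 = n16474 := rfl
theorem F29234 : act 0 n16474 = n13400 := d2_1 D16474 (iv D13400) D13399
def n16475 : Q := act 5 n13399
theorem D16475 : act 5 n13399 = n16475 := rfl
theorem F29235 : act 0 n16475 = n13401 := d4_1 D16475 (iv D13401) D13399
theorem F29236 : act 1 n16475 = n15084 := d8_1 D16475 F26206 F25047
def n16476 : Q := act 2 n13400
theorem D16476 : act 2 n13400 = n16476 := rfl
theorem F29237 : act 1 n16476 = n15108 := d5_1 D16476 (iv D15108) F20270 F19350 (iv F22785)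
def n16477 : Q := act 4 n13400
theorem D16477 : act 4 n13400 = n16477 := rfl
theorem F29238 : act 1 n16477 = n13402 := d7_1 D16477 (iv D13402) (iv F22785)
theorem F29239 : act 3 n16477 = n13406 := d12_1 D16477 (iv D13406) (iv D10522) (iv F17606) D13400
theorem F29240 : act 5 n14024 = n16477 := d13_0 F29239 F22800 D14024
def n16478 : Q := act 4 n13401
theorem D16478 : act 4 n13401 = n16478 := rfl
theorem F29241 : act 1 n16478 = n13403 := d7_1 D16478 (iv D13403) (iv F22786)
theorem F29242 : act 2 n16478 = n16283 := d10_1 D16478 F28772 (iv F28331)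
theorem F29243 : act 5 n16478 = n13407 := d14_2 D13401 D16478 (iv D13407) (iv D10523) (iv F17606)
def n16479 : Q := act 5 n13402
theorem D16479 : act 5 n13402 = n16479 := rfl
theorem F29244 : act 0 n16479 = n15083 := d4_1 D16479 F26204 (iv F22787)
theorem F29245 : act 1 n16479 = n14024 := d8_1 D16479 F29240 F29238
theorem F29246 : act 3 n16479 = n13408 := d13_1 D16479 (iv D13408) (iv F22788)
def n16480 : Q := act 3 n13403
theorem D16480 : act 3 n13403 = n16480 := rfl
theorem F29247 : act 0 n16480 = n15081 := d2_1 D16480 F26203 (iv F22789)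
theorem F29248 : act 5 n16480 = n13409 := d13_2 (iv F22791) D16480 (iv D13409)
def n16481 : Q := act 4 n13404
theorem D16481 : act 4 n13404 = n16481 := rfl
theorem F29249 : act 0 n16481 = n13406 := d3_1 D16481 (iv D13406) (iv F22792)
theorem F29250 : act 1 n16481 = n15086 := d7_1 D16481 (iv D15086) (iv F22793)
theorem F29251 : act 2 n16481 = n14020 := d10_1 D16481 (iv F27246) F27245
theorem F29252 : act 5 n16481 = n14019 := d14_2 F22794 D16481 (iv D14019) (iv F23840) F23839
def n16482 : Q := act 4 n13405
theorem D16482 : act 4 n13405 = n16482 := rfl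
theorem F29253 : act 0 n16482 = n13407 := d3_1 D16482 (iv D13407) (iv F22795)
theorem F29254 : act 1 n16482 = n15085 := d7_1 D16482 (iv D15085) (iv F22796)
def n16483 : Q := act 3 n13407
theorem D16483 : act 3 n13407 = n16483 := rfl
theorem F29255 : act 1 n16483 = n13409 := d6_1 D16483 (iv D13409) (iv F22801)
theorem F29256 : act 4 n16483 = n13901 := d12_2 D13407 D16483 (iv D13901) F18354 (iv F17612)
def n16484 : Q := act 2 n13409
theorem D16484 : act 2 n13409 = n16484 := rfl
theorem F29257 : act 0 n16484 = n15080 := d1_1 D16484 F26202 (iv F22806)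
theorem F29258 : act 4 n16484 = n13902 := d10_2 (iv F22807) D16484 (iv D13902)
def n16485 : Q := act 3 n13410
theorem D16485 : act 3 n13410 = n16485 := rfl
theorem F29259 : act 0 n16485 = n14739 := d2_1 D16485 (iv D14739) (iv F22808)
theorem F29260 : act 1 n16485 = n13413 := d6_1 D16485 (iv D13413) (iv F22809)
theorem F29261 : act 4 n16485 = n13411 := d12_2 D13410 D16485 (iv D13411) (iv D10527) D10526
def n16486 : Q := act 5 n13410
theorem D16486 : act 5 n13410 = n16486 := rfl
theorem F29262 : act 0 n16486 = n14740 := d4_1 D16486 (iv D14740) (iv F22808)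
theorem F29263 : act 1 n16486 = n13414 := d8_1 D16486 (iv D13414) (iv F22809)
theorem F29264 : act 2 n16486 = n14738 := d11_1 D16486 (iv D14738) (iv F22810)
theorem F29265 : act 4 n16486 = n14977 := d14_1 D16486 (iv D14977) (iv D11902) (iv F17620) D13410
def n16487 : Q := act 2 n13411
theorem D16487 : act 2 n13411 = n16487 := rfl
def n16488 : Q := act 5 n13411
theorem D16488 : act 5 n13411 = n16488 := rfl
theorem F29266 : act 1 n16488 = n13416 := d8_1 D16488 (iv D13416) (iv F22811)
theorem F29267 : act 3 n16488 = n13412 := d13_1 D16488 (iv D13412) D13411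
def n16489 : Q := act 2 n13413
theorem D16489 : act 2 n13413 = n16489 := rfl
theorem F29268 : act 0 n16489 = n13421 := d1_1 D16489 (iv D13421) (iv F22813)
theorem F29269 : act 4 n16489 = n13415 := d10_2 (iv F22814) D16489 (iv D13415)
def n16490 : Q := act 5 n13413
theorem D16490 : act 5 n13413 = n16490 := rfl
theorem F29270 : act 0 n16490 = n13422 := d4_1 D16490 (iv D13422) (iv F22813)
theorem F29271 : act 3 n16490 = n13414 := d13_1 D16490 (iv D13414) D13413
def n16491 : Q := act 1 n13415
theorem D16491 : act 1 n13415 = n16491 := rfl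
theorem F29272 : act 0 n16491 = n16198 := d0_1 D16491 F28625 F28588 (iv D13423) (iv F22818)
theorem F29273 : act 3 n16491 = n16197 := d6_2 F28395 D16491 F28622
def n16492 : Q := act 4 n13416
theorem D16492 : act 4 n13416 = n16492 := rfl
theorem F29274 : act 0 n16492 = n13426 := d3_1 D16492 (iv D13426) (iv F22819)
def n16493 : Q := act 3 n13417
theorem D16493 : act 3 n13417 = n16493 := rfl
theorem F29275 : act 1 n16493 = n13418 := d6_1 D16493 (iv D13418) D13417
theorem F29276 : act 5 n16493 = n15865 := d13_2 F28358 D16493 (iv F28356)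
def n16494 : Q := act 4 n13418
theorem D16494 : act 4 n13418 = n16494 := rfl
theorem F29277 : act 0 n16494 = n13428 := d3_1 D16494 (iv D13428) (iv F22821)
theorem F29278 : act 2 n16494 = n15842 := d10_1 D16494 (iv D15842) (iv F22822)
def n16495 : Q := act 5 n13419
theorem D16495 : act 5 n13419 = n16495 := rfl
theorem F29279 : act 0 n16495 = n13870 := d4_1 D16495 (iv D13870) (iv F22824)
theorem F29280 : act 1 n16495 = n13420 := d8_1 D16495 (iv D13420) (iv F22825)
theorem F29281 : act 2 n16495 = n14742 := d11_1 D16495 (iv D14742) (iv F22826)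
theorem F29282 : act 3 n16495 = n13876 := d13_1 D16495 (iv D13876) (iv F22827)
theorem F29283 : act 4 n16495 = n14982 := d14_1 D16495 (iv D14982) (iv D11906) (iv F17631) D13419
def n16496 : Q := act 1 n13421
theorem D16496 : act 1 n13421 = n16496 := rfl
theorem F29284 : act 4 n16496 = n13423 := d7_2 (iv F22831) D16496 (iv D13423)
theorem F29285 : act 0 n16201 = n16496 := d3_3 F29284 (iv F28588) D16201
theorem F29286 : act 3 n16173 = n16496 := d12_5 F29284 F28586 F22293 (iv F22275) D16173
def n16497 : Q := act 3 n13421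
theorem D16497 : act 3 n13421 = n16497 := rfl
theorem F29287 : act 1 n16497 = n16173 := d6_1 D16497 F29286 (iv D16496)
theorem F29288 : act 4 n16497 = n16171 := d12_2 (iv F22831) D16497 F28568 (iv F28587) (iv D13424)
def n16498 : Q := act 5 n13421
theorem D16498 : act 5 n13421 = n16498 := rfl
theorem F29289 : act 2 n16498 = n13422 := d11_1 D16498 (iv D13422) D13421
def n16499 : Q := act 4 n13422
theorem D16499 : act 4 n13422 = n16499 := rfl
theorem F29290 : act 5 n16499 = n13426 := d14_2 D13422 D16499 (iv D13426) (iv D10537) (iv F17634)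
def n16500 : Q := act 5 n13423
theorem D16500 : act 5 n13423 = n16500 := rfl
theorem F29291 : act 0 n16500 = n16202 := d4_1 D16500 (iv D16202) F28588
theorem F29292 : act 1 n16500 = n13425 := d8_1 D16500 (iv D13425) D13423
theorem F29293 : act 2 n16500 = n16194 := d11_1 D16500 (iv F29232) F29230
theorem F29294 : act 3 n16500 = n16184 := d13_1 D16500 (iv D16184) (iv F28586)
def n16501 : Q := act 4 n13425
theorem D16501 : act 4 n13425 = n16501 := rfl
theorem F29295 : act 2 n16501 = n13426 := d10_1 D16501 (iv D13426) (iv F22833)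
def n16502 : Q := act 1 n13427
theorem D16502 : act 1 n13427 = n16502 := rfl
theorem F29296 : act 3 n16502 = n15824 := d6_2 (iv F22835) D16502 (iv D15824)
theorem F29297 : act 5 n16502 = n15851 := d8_2 (iv F22836) D16502 F27888
def n16503 : Q := act 4 n13427
theorem D16503 : act 4 n13427 = n16503 := rfl
theorem F29298 : act 0 n16503 = n15842 := d3_1 D16503 (iv D15842) (iv F22834)
theorem F29299 : act 2 n16503 = n13428 := d10_1 D16503 (iv D13428) D13427
def n16504 : Q := act 5 n13428
theorem D16504 : act 5 n13428 = n16504 := rfl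
def n16505 : Q := act 2 n13429
theorem D16505 : act 2 n13429 = n16505 := rfl
theorem F29300 : act 0 n16505 = n13431 := d1_1 D16505 (iv D13431) (iv F22837)
theorem F29301 : act 4 n16505 = n14988 := d10_2 (iv F22839) D16505 (iv D14988)
def n16506 : Q := act 5 n13429
theorem D16506 : act 5 n13429 = n16506 := rfl
theorem F29302 : act 0 n16506 = n13432 := d4_1 D16506 (iv D13432) (iv F22837)
theorem F29303 : act 1 n16506 = n13443 := d8_1 D16506 (iv D13443) (iv F22838)
theorem F29304 : act 3 n16506 = n13430 := d13_1 D16506 (iv D13430) D13429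
def n16507 : Q := act 1 n13431
theorem D16507 : act 1 n13431 = n16507 := rfl
theorem F29305 : act 2 n16507 = n13435 := d5_2 D13431 D16507 (iv D13435) (iv D10543) (iv F17638)
theorem F29306 : act 4 n16507 = n15929 := d7_2 (iv F22842) D16507 (iv D15929)
theorem F29307 : act 5 n13486 = n16507 := d11_0 F29305 F22851 D13486
def n16508 : Q := act 3 n13431
theorem D16508 : act 3 n13431 = n16508 := rfl
def n16509 : Q := act 5 n13431
theorem D16509 : act 5 n13431 = n16509 := rfl
theorem F29308 : act 1 n16509 = n13486 := d8_1 D16509 F29307 (iv D16507)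
theorem F29309 : act 2 n16509 = n13432 := d11_1 D16509 (iv D13432) D13431
def n16510 : Q := act 4 n13432
theorem D16510 : act 4 n13432 = n16510 := rfl
theorem F29310 : act 1 n16510 = n13436 := d7_1 D16510 (iv D13436) (iv F22843)
theorem F29311 : act 5 n16510 = n15932 := d14_2 D13432 D16510 (iv D15932) (iv D12908) (iv F17639)
def n16511 : Q := act 3 n13433
theorem D16511 : act 3 n13433 = n16511 := rfl
theorem F29312 : act 1 n16511 = n13437 := d6_1 D16511 (iv D13437) (iv F22845)
theorem F29313 : act 5 n16511 = n13434 := d13_2 (iv F22846) D16511 (iv D13434)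
def n16512 : Q := act 2 n13434
theorem D16512 : act 2 n13434 = n16512 := rfl
theorem F29314 : act 4 n16512 = n15020 := d10_2 (iv F22848) D16512 (iv D15020)
def n16513 : Q := act 0 n13435
theorem D16513 : act 0 n13435 = n16513 := rfl
theorem F29315 : act 1 n16513 = n13456 := d0_2 D13435 D16513 (iv D13456) (iv D10559) (iv F17642)
theorem F29316 : act 3 n16513 = n13485 := d2_2 (iv F22849) D16513 F22924
theorem F29317 : act 4 n16513 = n15933 := d3_2 (iv F22850) D16513 (iv D15933)
theorem F29318 : act 5 n16513 = n13484 := d4_2 (iv F22851) D16513 F22923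
def n16514 : Q := act 3 n13436
theorem D16514 : act 3 n13436 = n16514 := rfl
theorem F29319 : act 0 n16514 = n13461 := d2_1 D16514 (iv D13461) (iv F22852)
theorem F29320 : act 4 n16514 = n13437 := d12_2 D13436 D16514 (iv D13437) (iv D10545) (iv F17648)
theorem F29321 : act 5 n16514 = n15025 := d13_2 (iv F22854) D16514 F26041
def n16515 : Q := act 2 n13437
theorem D16515 : act 2 n13437 = n16515 := rfl
theorem F29322 : act 0 n16515 = n13462 := d1_1 D16515 (iv D13462) (iv F22855)
theorem F29323 : act 3 n16515 = n13465 := d9_2 D13437 D16515 (iv D13465) (iv D10565) (iv D8185) (iv D6271) (iv F10342) D8184 D10564 D13464 (iv F28880) (iv D16323) F22520 F17379 (iv F17650)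
theorem F29324 : act 5 n16515 = n13438 := d11_2 (iv F22856) D16515 (iv D13438)
def n16516 : Q := act 1 n13438
theorem D16516 : act 1 n13438 = n16516 := rfl
theorem F29325 : act 4 n16516 = n15022 := d7_2 (iv F22858) D16516 (iv D15022)
def n16517 : Q := act 2 n13440
theorem D16517 : act 2 n13440 = n16517 := rfl
theorem F29326 : act 0 n16517 = n13465 := d1_1 D16517 (iv D13465) (iv F22860)
theorem F29327 : act 3 n16517 = n13462 := d9_2 D13440 D16517 (iv D13462) (iv D10563) F13576 (iv F13351) (iv F17389) D13254 D16325 F28891 (iv D13438) (iv D10546) F13555 D8172 D10547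
theorem F29328 : act 4 n16517 = n13465 := d10_2 (iv F22861) D16517 (iv D13465)
theorem F29329 : act 5 n16517 = n13464 := d11_2 F28879 D16517 (iv F28880)
def n16518 : Q := act 1 n13442
theorem D16518 : act 1 n13442 = n16518 := rfl
def n16519 : Q := act 5 n13442
theorem D16519 : act 5 n13442 = n16519 := rfl
theorem F29330 : act 0 n16519 = n13448 := d4_1 D16519 (iv D13448) (iv F22866)
theorem F29331 : act 2 n16519 = n13443 := d11_1 D16519 (iv D13443) D13442
theorem F29332 : act 3 n16519 = n13468 := d13_1 D16519 (iv F28963) F28964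
def n16520 : Q := act 4 n13443
theorem D16520 : act 4 n13443 = n16520 := rfl
theorem F29333 : act 0 n16520 = n13449 := d3_1 D16520 (iv D13449) (iv F22867)
def n16521 : Q := act 1 n13444
theorem D16521 : act 1 n13444 = n16521 := rfl
theorem F29334 : act 2 n16521 = n13450 := d5_2 D13444 D16521 (iv D13450) (iv D10555) (iv F17661)
theorem F29335 : act 4 n16521 = n13446 := d7_2 (iv F22869) D16521 (iv D13446)
def n16522 : Q := act 3 n13444
theorem D16522 : act 3 n13444 = n16522 := rfl
def n16523 : Q := act 5 n13444
theorem D16523 : act 5 n13444 = n16523 := rfl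
theorem F29336 : act 2 n16523 = n13445 := d11_1 D16523 (iv D13445) D13444
def n16524 : Q := act 4 n13445
theorem D16524 : act 4 n13445 = n16524 := rfl
theorem F29337 : act 1 n16524 = n13453 := d7_1 D16524 (iv D13453) (iv F22870)
theorem F29338 : act 5 n16524 = n13449 := d14_2 D13445 D16524 (iv D13449) (iv D10554) (iv F17662)
def n16525 : Q := act 0 n13446
theorem D16525 : act 0 n13446 = n16525 := rfl
theorem F29339 : act 2 n16525 = n13456 := d1_2 (iv F22872) D16525 (iv D13456)
def n16526 : Q := act 3 n13446
theorem D16526 : act 3 n13446 = n16526 := rfl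
theorem F29340 : act 1 n16526 = n13447 := d6_1 D16526 (iv D13447) D13446
def n16527 : Q := act 5 n13446
theorem D16527 : act 5 n13446 = n16527 := rfl
theorem F29341 : act 1 n16527 = n13448 := d8_1 D16527 (iv D13448) D13446
theorem F29342 : act 2 n16527 = n13458 := d11_1 D16527 (iv D13458) (iv F22872)
def n16528 : Q := act 4 n13447
theorem D16528 : act 4 n13447 = n16528 := rfl
def n16529 : Q := act 5 n13447
theorem D16529 : act 5 n13447 = n16529 := rfl
theorem F29343 : act 0 n16529 = n13468 := d4_1 D16529 (iv F28963) F28962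
theorem F29344 : act 2 n16529 = n13467 := d11_1 D16529 (iv F28960) F28961
theorem F29345 : act 3 n16529 = n13448 := d13_1 D16529 (iv D13448) D13447
def n16530 : Q := act 4 n13448
theorem D16530 : act 4 n13448 = n16530 := rfl
theorem F29346 : act 2 n16530 = n13449 := d10_1 D16530 (iv D13449) (iv F22873)
def n16531 : Q := act 0 n13450
theorem D16531 : act 0 n13450 = n16531 := rfl
theorem F29347 : act 1 n16531 = n15933 := d0_2 D13450 D16531 (iv D15933) (iv D12909) (iv F17666)
theorem F29348 : act 4 n16531 = n13456 := d3_2 (iv F22875) D16531 (iv D13456)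
def n16532 : Q := act 3 n13450
theorem D16532 : act 3 n13450 = n16532 := rfl
theorem F29349 : act 1 n16532 = n13451 := d6_1 D16532 (iv D13451) D13450
theorem F29350 : act 5 n13476 = n16532 := d8_0 F29349 F22878 D13476
def n16533 : Q := act 5 n13450
theorem D16533 : act 5 n13450 = n16533 := rfl
theorem F29351 : act 1 n16533 = n13452 := d8_1 D16533 (iv D13452) D13450
theorem F29352 : act 3 n16533 = n13476 := d13_1 D16533 F29350 (iv D16532)
def n16534 : Q := act 4 n13451
theorem D16534 : act 4 n13451 = n16534 := rfl
theorem F29353 : act 0 n16534 = n13483 := d3_1 D16534 (iv D13483) (iv F22876)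
theorem F29354 : act 2 n16534 = n13477 := d10_1 D16534 (iv D13477) (iv F22877)
theorem F29355 : act 3 n16534 = n13459 := d12_1 D16534 (iv D13459) (iv D10560) (iv F17667) D13451
theorem F29356 : act 5 n16534 = n13459 := d14_2 (iv F22878) D16534 (iv D13459) F17677 (iv F17695)
def n16535 : Q := act 4 n13452
theorem D16535 : act 4 n13452 = n16535 := rfl
theorem F29357 : act 0 n16535 = n13482 := d3_1 D16535 (iv D13482) (iv F22879)
theorem F29358 : act 2 n16535 = n13453 := d10_1 D16535 (iv D13453) (iv F22880)
theorem F29359 : act 3 n16535 = n13460 := d12_1 D16535 (iv D13460) F17680 (iv F17695) (iv F22881)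
theorem F29360 : act 5 n16535 = n13460 := d14_2 D13452 D16535 (iv D13460) (iv D10561) (iv F17667)
def n16536 : Q := act 3 n13453
theorem D16536 : act 3 n13453 = n16536 := rfl
theorem F29361 : act 0 n16536 = n15025 := d2_1 D16536 F26041 (iv F22882)
theorem F29362 : act 4 n16536 = n13454 := d12_2 D13453 D16536 (iv D13454) (iv D10557) (iv F17669)
theorem F29363 : act 5 n16536 = n13461 := d13_2 (iv F22883) D16536 (iv D13461)
def n16537 : Q := act 2 n13454
theorem D16537 : act 2 n13454 = n16537 := rfl
theorem F29364 : act 0 n16537 = n15024 := d1_1 D16537 F26040 (iv F22884)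
theorem F29365 : act 5 n16537 = n13455 := d11_2 (iv F22885) D16537 (iv D13455)
theorem F29366 : act 3 n16537 = n15029 := d15_1 D16537 (iv D15029) (iv D11949) (iv D9305) (iv D7148) (iv F11859) D9303 D11947 (iv F22884)
def n16538 : Q := act 1 n13455
theorem D16538 : act 1 n13455 = n16538 := rfl
theorem F29367 : act 4 n16538 = n13463 := d7_2 (iv F22887) D16538 (iv D13463)
def n16539 : Q := act 3 n13455
theorem D16539 : act 3 n13455 = n16539 := rfl
theorem F29368 : act 0 n16539 = n15023 := d2_1 D16539 (iv D15023) (iv F22886)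
theorem F29369 : act 5 n16539 = n15029 := d13_2 F29365 D16539 (iv F29366)
theorem F29370 : act 2 n16539 = n15030 := d15_2 D13455 D16539 F26048 F20138 F15545 (iv F15541) (iv F20135) (iv D11947) (iv F17673)
def n16540 : Q := act 3 n13456
theorem D16540 : act 3 n13456 = n16540 := rfl
theorem F29371 : act 0 n16540 = n13457 := d2_1 D16540 (iv D13457) D13456
theorem F29372 : act 1 n16540 = n13485 := d6_1 D16540 (iv F29316) F29315
theorem F29373 : act 5 n13478 = n16540 := d8_0 F29372 (iv D13485) (iv F22911)
def n16541 : Q := act 5 n13456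
theorem D16541 : act 5 n13456 = n16541 := rfl
theorem F29374 : act 0 n16541 = n13458 := d4_1 D16541 (iv D13458) D13456
theorem F29375 : act 1 n16541 = n13484 := d8_1 D16541 (iv F29318) F29315
theorem F29376 : act 3 n16541 = n13478 := d13_1 D16541 F29373 (iv D16540)
def n16542 : Q := act 2 n13457
theorem D16542 : act 2 n13457 = n16542 := rfl
theorem F29377 : act 1 n16542 = n13474 := d5_1 D16542 F22905 F17692 (iv F17676) (iv F22888)
theorem F29378 : act 5 n16542 = n13472 := d11_2 F22889 D16542 F22904
def n16543 : Q := act 4 n13457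
theorem D16543 : act 4 n13457 = n16543 := rfl
theorem F29379 : act 1 n16543 = n13459 := d7_1 D16543 (iv D13459) (iv F22888)
def n16544 : Q := act 4 n13458
theorem D16544 : act 4 n13458 = n16544 := rfl
theorem F29380 : act 1 n16544 = n13460 := d7_1 D16544 (iv D13460) (iv F22890)
def n16545 : Q := act 2 n13461
theorem D16545 : act 2 n13461 = n16545 := rfl
theorem F29381 : act 4 n16545 = n13462 := d10_2 (iv F22896) D16545 (iv D13462)
def n16546 : Q := act 1 n13462
theorem D16546 : act 1 n13462 = n16546 := rfl
theorem F29382 : act 5 n16546 = n13463 := d8_2 (iv F22897) D16546 (iv D13463)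
def n16547 : Q := act 1 n13465
theorem D16547 : act 1 n13465 = n16547 := rfl
def n16548 : Q := act 4 n13468
theorem D16548 : act 4 n13468 = n16548 := rfl
theorem F29383 : act 2 n16548 = n13469 := d10_1 D16548 (iv D13469) D13468
def n16549 : Q := act 5 n13469
theorem D16549 : act 5 n13469 = n16549 := rfl
def n16550 : Q := act 1 n13470
theorem D16550 : act 1 n13470 = n16550 := rfl
theorem F29384 : act 2 n16550 = n13476 := d5_2 D13470 D16550 (iv D13476) (iv D10573) (iv F17686)
theorem F29385 : act 4 n16550 = n13472 := d7_2 (iv F22900) D16550 (iv D13472)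
def n16551 : Q := act 3 n13470
theorem D16551 : act 3 n13470 = n16551 := rfl
theorem F29386 : act 0 n16551 = n14142 := d2_1 D16551 (iv D14142) (iv F22899)
def n16552 : Q := act 5 n13470
theorem D16552 : act 5 n13470 = n16552 := rfl
theorem F29387 : act 0 n16552 = n14143 := d4_1 D16552 (iv D14143) (iv F22899)
theorem F29388 : act 2 n16552 = n13471 := d11_1 D16552 (iv D13471) D13470
def n16553 : Q := act 4 n13471
theorem D16553 : act 4 n13471 = n16553 := rfl
theorem F29389 : act 0 n16553 = n14144 := d3_1 D16553 (iv D14144) (iv F22901)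
theorem F29390 : act 1 n16553 = n13477 := d7_1 D16553 (iv D13477) (iv F22902)
theorem F29391 : act 3 n16553 = n15045 := d12_1 D16553 (iv D15045) F20165 (iv F17691) (iv F22903)
theorem F29392 : act 5 n16553 = n13475 := d14_2 D13471 D16553 (iv D13475) (iv D10572) (iv F17687)
def n16554 : Q := act 0 n13472
theorem D16554 : act 0 n13472 = n16554 := rfl
theorem F29393 : act 2 n16554 = n13478 := d1_2 (iv F22904) D16554 (iv D13478)
def n16555 : Q := act 3 n13472
theorem D16555 : act 3 n13472 = n16555 := rfl
theorem F29394 : act 1 n16555 = n13473 := d6_1 D16555 (iv D13473) D13472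
def n16556 : Q := act 4 n13473
theorem D16556 : act 4 n13473 = n16556 := rfl
def n16557 : Q := act 4 n13474
theorem D16557 : act 4 n13474 = n16557 := rfl
theorem F29395 : act 2 n16557 = n13475 := d10_1 D16557 (iv D13475) (iv F22905)
def n16558 : Q := act 0 n13476
theorem D16558 : act 0 n13476 = n16558 := rfl
theorem F29396 : act 1 n16558 = n13479 := d0_2 D13476 D16558 (iv D13479) (iv D10579) (iv F17694)
theorem F29397 : act 4 n16558 = n13478 := d3_2 (iv F22907) D16558 (iv D13478)
def n16559 : Q := act 3 n13479
theorem D16559 : act 3 n13479 = n16559 := rfl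
theorem F29398 : act 0 n16559 = n13480 := d2_1 D16559 (iv D13480) D13479
theorem F29399 : act 5 n15933 = n16559 := d4_0 F29398 (iv F22914) D15933
def n16560 : Q := act 5 n13479
theorem D16560 : act 5 n13479 = n16560 := rfl
theorem F29400 : act 0 n16560 = n13481 := d4_1 D16560 (iv D13481) D13479
theorem F29401 : act 3 n16560 = n15933 := d13_1 D16560 F29399 (iv D16559)
def n16561 : Q := act 2 n13480
theorem D16561 : act 2 n13480 = n16561 := rfl
theorem F29402 : act 1 n16561 = n15931 := d5_1 D16561 F28011 F21853 (iv F17707) (iv F22913)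
theorem F29403 : act 5 n16561 = n15929 := d11_2 F22914 D16561 F28010
def n16562 : Q := act 4 n13480
theorem D16562 : act 4 n13480 = n16562 := rfl
theorem F29404 : act 1 n16562 = n13482 := d7_1 D16562 (iv D13482) (iv F22913)
theorem F29405 : act 3 n16562 = n13487 := d12_1 D16562 (iv D13487) (iv D10584) (iv F17706) D13480
theorem F29406 : act 5 n16562 = n13487 := d14_2 F22914 D16562 (iv D13487) (iv F22851) F22850
def n16563 : Q := act 4 n13481
theorem D16563 : act 4 n13481 = n16563 := rfl
theorem F29407 : act 1 n16563 = n13483 := d7_1 D16563 (iv D13483) (iv F22915)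
theorem F29408 : act 2 n16563 = n14150 := d10_1 D16563 (iv F28857) F28855
theorem F29409 : act 3 n16563 = n13488 := d12_1 D16563 (iv D13488) (iv F22849) F22850 (iv F22916)
theorem F29410 : act 5 n16563 = n13488 := d14_2 D13481 D16563 (iv D13488) (iv D10585) (iv F17706)
def n16564 : Q := act 2 n13484
theorem D16564 : act 2 n13484 = n16564 := rfl
theorem F29411 : act 0 n16564 = n13486 := d1_1 D16564 (iv D13486) (iv F22923)
theorem F29412 : act 3 n16564 = n13486 := d15_1 D16564 (iv D13486) (iv D10584) (iv F17370) (iv F22485) F22484 (iv F22849) F22851 (iv F22923)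
def n16565 : Q := act 4 n13484
theorem D16565 : act 4 n13484 = n16565 := rfl
theorem F29413 : act 0 n16565 = n13487 := d3_1 D16565 (iv D13487) (iv F22923)
def n16566 : Q := act 4 n13485
theorem D16566 : act 4 n13485 = n16566 := rfl
theorem F29414 : act 0 n16566 = n13488 := d3_1 D16566 (iv D13488) (iv F22924)
def n16567 : Q := act 4 n13486
theorem D16567 : act 4 n13486 = n16567 := rfl
theorem F29415 : act 2 n16567 = n13487 := d10_1 D16567 (iv D13487) D13486
def n16568 : Q := act 4 n13489
theorem D16568 : act 4 n13489 = n16568 := rfl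
theorem F29416 : act 0 n16568 = n13491 := d3_1 D16568 (iv D13491) (iv F22927)
theorem F29417 : act 1 n16568 = n15457 := d7_1 D16568 (iv D15457) (iv F22928)
theorem F29418 : act 3 n16568 = n16236 := d12_1 D16568 F28993 (iv D16369) F22616 D13489
theorem F29419 : act 5 n16235 = n16568 := d13_0 F29418 (iv D16236) D16235
def n16569 : Q := act 4 n13490
theorem D16569 : act 4 n13490 = n16569 := rfl
theorem F29420 : act 1 n16569 = n14954 := d7_1 D16569 (iv D14954) (iv F22930)
theorem F29421 : act 2 n16569 = n13491 := d10_1 D16569 (iv D13491) D13490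
theorem F29422 : act 3 n16098 = n16569 := d15_3 (iv F17111) D13049 D16098 F29421 (iv F28997) F28996 F28676 (iv D13158) F17244
def n16570 : Q := act 5 n13491
theorem D16570 : act 5 n13491 = n16570 := rfl
theorem F29423 : act 0 n16570 = n16235 := d4_1 D16570 F29419 F29416
theorem F29424 : act 1 n16570 = n14803 := d8_1 D16570 (iv D14803) (iv F22933)
theorem F29425 : act 3 n16570 = n15122 := d13_1 D16570 (iv F28998) F28997
theorem F29426 : act 4 n16570 = n14812 := d14_1 D16570 (iv D14812) (iv D11748) (iv F17719) D13491
def n16571 : Q := act 3 n13492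
theorem D16571 : act 3 n13492 = n16571 := rfl
theorem F29427 : act 0 n16571 = n13493 := d2_1 D16571 (iv D13493) D13492
theorem F29428 : act 1 n16571 = n13497 := d6_1 D16571 (iv D13497) (iv F22934)
theorem F29429 : act 5 n16571 = n13517 := d13_2 F27310 D16571 F27311
def n16572 : Q := act 2 n13493
theorem D16572 : act 2 n13493 = n16572 := rfl
theorem F29430 : act 1 n16572 = n13514 := d5_1 D16572 F22965 F17747 (iv F17721) (iv F22935)
theorem F29431 : act 5 n16572 = n13511 := d11_2 F22936 D16572 F22961
def n16573 : Q := act 4 n13493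
theorem D16573 : act 4 n13493 = n16573 := rfl
theorem F29432 : act 1 n16573 = n13495 := d7_1 D16573 (iv D13495) (iv F22935)
def n16574 : Q := act 4 n13494
theorem D16574 : act 4 n13494 = n16574 := rfl
theorem F29433 : act 1 n16574 = n13496 := d7_1 D16574 (iv D13496) (iv F22937)
def n16575 : Q := act 5 n13495
theorem D16575 : act 5 n13495 = n16575 := rfl
theorem F29434 : act 0 n16575 = n13502 := d4_1 D16575 (iv D13502) (iv F22939)
theorem F29435 : act 2 n16575 = n13521 := d11_1 D16575 F22970 (iv F22940)
theorem F29436 : act 4 n16575 = n13520 := d14_1 D16575 (iv D13520) (iv D10610) F17722 D13495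
def n16576 : Q := act 3 n13496
theorem D16576 : act 3 n13496 = n16576 := rfl
theorem F29437 : act 0 n16576 = n13504 := d2_1 D16576 (iv D13504) (iv F22941)
theorem F29438 : act 4 n16576 = n13519 := d12_2 D13496 D16576 (iv D13519) (iv D10610) (iv F17725)
def n16577 : Q := act 4 n13497
theorem D16577 : act 4 n13497 = n16577 := rfl
theorem F29439 : act 0 n16577 = n13499 := d3_1 D16577 (iv D13499) (iv F22943)
def n16578 : Q := act 1 n13498
theorem D16578 : act 1 n13498 = n16578 := rfl
theorem F29440 : act 2 n16578 = n13500 := d5_2 D13498 D16578 (iv D13500) (iv D10596) (iv F17728)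
theorem F29441 : act 5 n16578 = n13505 := d8_2 F27319 D16578 (iv F27318)
def n16579 : Q := act 4 n13498
theorem D16579 : act 4 n13498 = n16579 := rfl
theorem F29442 : act 2 n16579 = n13499 := d10_1 D16579 (iv D13499) D13498
def n16580 : Q := act 5 n13499
theorem D16580 : act 5 n13499 = n16580 := rfl
theorem F29443 : act 1 n16580 = n13502 := d8_1 D16580 (iv D13502) (iv F22944)
def n16581 : Q := act 4 n13500
theorem D16581 : act 4 n13500 = n16581 := rfl
theorem F29444 : act 1 n16581 = n13501 := d7_1 D16581 (iv D13501) D13500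
def n16582 : Q := act 3 n13501
theorem D16582 : act 3 n13501 = n16582 := rfl
theorem F29445 : act 0 n16582 = n13522 := d2_1 D16582 (iv D13522) (iv F22947)
theorem F29446 : act 4 n16582 = n13508 := d12_2 D13501 D16582 (iv D13508) (iv D10603) (iv F17730)
def n16583 : Q := act 5 n13501
theorem D16583 : act 5 n13501 = n16583 := rfl
theorem F29447 : act 0 n16583 = n13521 := d4_1 D16583 F22970 (iv F22947)
theorem F29448 : act 2 n16583 = n13502 := d11_1 D16583 (iv D13502) (iv F22948)
theorem F29449 : act 4 n16583 = n13507 := d14_1 D16583 (iv D13507) (iv D10602) F17731 D13501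
def n16584 : Q := act 4 n13502
theorem D16584 : act 4 n13502 = n16584 := rfl
theorem F29450 : act 0 n16584 = n13520 := d3_1 D16584 (iv F29436) F29434
theorem F29451 : act 2 n16584 = n13507 := d10_1 D16584 (iv F29449) F29448
theorem F29452 : act 5 n16584 = n13503 := d14_2 D13502 D16584 (iv D13503) (iv D10598) D10597
def n16585 : Q := act 3 n13503
theorem D16585 : act 3 n13503 = n16585 := rfl
theorem F29453 : act 0 n16585 = n13519 := d2_1 D16585 (iv D13519) (iv F22949)
theorem F29454 : act 4 n16585 = n13504 := d12_2 D13503 D16585 (iv D13504) (iv D10599) (iv F17734)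
def n16586 : Q := act 2 n13504
theorem D16586 : act 2 n13504 = n16586 := rfl
def n16587 : Q := act 3 n13505
theorem D16587 : act 3 n13505 = n16587 := rfl
theorem F29455 : act 4 n16587 = n15625 := d12_2 F27823 D16587 (iv D15625) F21628 (iv F27824)
def n16588 : Q := act 3 n13506
theorem D16588 : act 3 n13506 = n16588 := rfl
theorem F29456 : act 1 n16588 = n13508 := d6_1 D16588 (iv D13508) (iv F22951)
theorem F29457 : act 5 n16588 = n16077 := d13_2 (iv F22953) D16588 (iv D16077)
def n16589 : Q := act 1 n13509
theorem D16589 : act 1 n13509 = n16589 := rfl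
theorem F29458 : act 3 n16589 = n14939 := d6_2 (iv F22958) D16589 (iv D14939)
def n16590 : Q := act 5 n13509
theorem D16590 : act 5 n13509 = n16590 := rfl
theorem F29459 : act 0 n16590 = n13514 := d4_1 D16590 (iv D13514) (iv F22957)
theorem F29460 : act 2 n16590 = n13510 := d11_1 D16590 (iv D13510) D13509
theorem F29461 : act 3 n16590 = n13526 := d13_1 D16590 F22978 (iv F22958)
def n16591 : Q := act 4 n13510
theorem D16591 : act 4 n13510 = n16591 := rfl
theorem F29462 : act 0 n16591 = n13516 := d3_1 D16591 (iv D13516) (iv F22959)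
def n16592 : Q := act 0 n13511
theorem D16592 : act 0 n13511 = n16592 := rfl
theorem F29463 : act 2 n16592 = n13517 := d1_2 (iv F22961) D16592 (iv D13517)
def n16593 : Q := act 3 n13511
theorem D16593 : act 3 n13511 = n16593 := rfl
theorem F29464 : act 1 n16593 = n13512 := d6_1 D16593 (iv D13512) D13511
def n16594 : Q := act 4 n13511
theorem D16594 : act 4 n13511 = n16594 := rfl
theorem F29465 : act 1 n16594 = n13513 := d7_1 D16594 (iv D13513) D13511
theorem F29466 : act 2 n16594 = n13518 := d10_1 D16594 (iv D13518) (iv F22961)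
def n16595 : Q := act 4 n13512
theorem D16595 : act 4 n13512 = n16595 := rfl
theorem F29467 : act 0 n16595 = n14940 := d3_1 D16595 (iv D14940) (iv F22962)
theorem F29468 : act 2 n16595 = n14938 := d10_1 D16595 (iv D14938) (iv F22963)
def n16596 : Q := act 5 n13512
theorem D16596 : act 5 n13512 = n16596 := rfl
theorem F29469 : act 0 n16596 = n13526 := d4_1 D16596 F22978 (iv F22962)
theorem F29470 : act 2 n16596 = n13525 := d11_1 D16596 F22977 (iv F22963)
theorem F29471 : act 3 n16596 = n13514 := d13_1 D16596 (iv D13514) D13512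
def n16597 : Q := act 3 n13513
theorem D16597 : act 3 n13513 = n16597 := rfl
theorem F29472 : act 2 n16597 = n15873 := d15_2 (iv F22964) D16597 (iv D15873) F21649 F16741 (iv F21583) (iv F27846) (iv D15827) F21579
def n16598 : Q := act 5 n13513
theorem D16598 : act 5 n13513 = n16598 := rfl
theorem F29473 : act 2 n16598 = n13515 := d11_1 D16598 (iv D13515) (iv F22964)
def n16599 : Q := act 4 n13514
theorem D16599 : act 4 n13514 = n16599 := rfl
theorem F29474 : act 2 n16599 = n13516 := d10_1 D16599 (iv D13516) (iv F22965)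
def n16600 : Q := act 4 n13515
theorem D16600 : act 4 n13515 = n16600 := rfl
theorem F29475 : act 1 n16600 = n13521 := d7_1 D16600 (iv D13521) (iv F22966)
theorem F29476 : act 5 n16600 = n13516 := d14_2 D13515 D16600 (iv D13516) (iv D10608) D10607
def n16601 : Q := act 4 n13517
theorem D16601 : act 4 n13517 = n16601 := rfl
theorem F29477 : act 0 n16601 = n13518 := d3_1 D16601 (iv D13518) D13517
def n16602 : Q := act 3 n13518
theorem D16602 : act 3 n13518 = n16602 := rfl
theorem F29478 : act 1 n16602 = n13519 := d6_1 D16602 (iv D13519) (iv F22968)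
def n16603 : Q := act 5 n13518
theorem D16603 : act 5 n13518 = n16603 := rfl
theorem F29479 : act 1 n16603 = n13520 := d8_1 D16603 (iv D13520) (iv F22968)
def n16604 : Q := act 2 n13519
theorem D16604 : act 2 n13519 = n16604 := rfl
def n16605 : Q := act 5 n13519
theorem D16605 : act 5 n13519 = n16605 := rfl
theorem F29480 : act 3 n16605 = n13520 := d13_1 D16605 (iv D13520) D13519
def n16606 : Q := act 3 n13521
theorem D16606 : act 3 n13521 = n16606 := rfl
theorem F29481 : act 5 n16606 = n13522 := d13_2 (iv F22970) D16606 (iv D13522)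
def n16607 : Q := act 2 n13522
theorem D16607 : act 2 n13522 = n16607 := rfl
theorem F29482 : act 4 n16607 = n13523 := d10_2 (iv F22971) D16607 (iv D13523)
def n16608 : Q := act 1 n13523
theorem D16608 : act 1 n13523 = n16608 := rfl
theorem F29483 : act 3 n16608 = n16110 := d6_2 F28405 D16608 F28454
def n16609 : Q := act 3 n13524
theorem D16609 : act 3 n13524 = n16609 := rfl
theorem F29484 : act 0 n16609 = n14907 := d2_1 D16609 (iv D14907) (iv F22972)
theorem F29485 : act 1 n16609 = n13525 := d6_1 D16609 (iv D13525) D13524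
theorem F29486 : act 5 n16609 = n14909 := d13_2 (iv F22975) D16609 (iv D14909)
def n16610 : Q := act 4 n13525
theorem D16610 : act 4 n13525 = n16610 := rfl
theorem F29487 : act 0 n16610 = n13527 := d3_1 D16610 (iv D13527) (iv F22976)
theorem F29488 : act 3 n16610 = n14834 := d12_1 D16610 (iv D14834) (iv F21964) F21965 D13525
def n16611 : Q := act 1 n13526
theorem D16611 : act 1 n13526 = n16611 := rfl
theorem F29489 : act 2 n16611 = n13913 := d5_2 D13526 D16611 F23869 F18387 (iv F17752)
theorem F29490 : act 5 n16611 = n14939 := d8_2 (iv F22978) D16611 (iv D14939)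
def n16612 : Q := act 4 n13526
theorem D16612 : act 4 n13526 = n16612 := rfl
theorem F29491 : act 2 n16612 = n13527 := d10_1 D16612 (iv D13527) D13526
def n16613 : Q := act 5 n13527
theorem D16613 : act 5 n13527 = n16613 := rfl
theorem F29492 : act 1 n16613 = n14937 := d8_1 D16613 (iv D14937) (iv F22979)
theorem F29493 : act 3 n16613 = n15418 := d13_1 D16613 (iv F28191) F28190
theorem F29494 : act 4 n16613 = n14941 := d14_1 D16613 (iv D14941) (iv D11867) (iv F17753) D13527
def n16614 : Q := act 3 n13528
theorem D16614 : act 3 n13528 = n16614 := rfl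
theorem F29495 : act 0 n16614 = n13529 := d2_1 D16614 (iv D13529) D13528
theorem F29496 : act 1 n16614 = n13973 := d6_1 D16614 (iv D13973) (iv F22980)
def n16615 : Q := act 2 n13529
theorem D16615 : act 2 n13529 = n16615 := rfl
def n16616 : Q := act 4 n13529
theorem D16616 : act 4 n13529 = n16616 := rfl
theorem F29497 : act 1 n16616 = n13530 := d7_1 D16616 (iv D13530) (iv F22983)
theorem F29498 : act 3 n16616 = n14718 := d12_1 D16616 (iv D14718) (iv D11657) (iv F17755) D13529
theorem F29499 : act 5 n16616 = n15696 := d14_2 F24798 D16616 F27558 D15698 (iv F27561)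
def n16617 : Q := act 5 n13530
theorem D16617 : act 5 n13530 = n16617 := rfl
theorem F29500 : act 0 n16617 = n13976 := d4_1 D16617 (iv D13976) (iv F22984)
theorem F29501 : act 1 n16617 = n15696 := d8_1 D16617 (iv F29499) F29497
theorem F29502 : act 3 n16617 = n14721 := d13_1 D16617 (iv D14721) (iv F22985)
theorem F29503 : act 4 n16617 = n15695 := d14_1 D16617 F27557 F21807 F19114 D13530
def n16618 : Q := act 3 n13537
theorem D16618 : act 3 n13537 = n16618 := rfl
theorem F29504 : act 0 n16618 = n13698 := d2_1 D16618 (iv D13698) (iv F23012)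
theorem F29505 : act 1 n16618 = n13538 := d6_1 D16618 (iv D13538) (iv F23013)
theorem F29506 : act 4 n16618 = n13568 := d12_2 D13537 D16618 (iv D13568) (iv D10652) (iv F17779)
def n16619 : Q := act 5 n13537
theorem D16619 : act 5 n13537 = n16619 := rfl
theorem F29507 : act 0 n16619 = n13699 := d4_1 D16619 (iv D13699) (iv F23012)
theorem F29508 : act 1 n16619 = n13539 := d8_1 D16619 (iv D13539) (iv F23013)
theorem F29509 : act 2 n16619 = n13567 := d11_1 D16619 (iv D13567) (iv F23014)
theorem F29510 : act 4 n16619 = n13567 := d14_1 D16619 (iv D13567) (iv D10651) (iv F17780) D13537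
def n16620 : Q := act 1 n13545
theorem D16620 : act 1 n13545 = n16620 := rfl
theorem F29511 : act 0 n16620 = n14646 := d0_1 D16620 F25232 F26950 (iv D15412) (iv F23041)
theorem F29512 : act 2 n16620 = n14640 := d5_2 D13545 D16620 F25219 F23037 F23029
theorem F29513 : act 3 n16620 = n15409 := d6_2 (iv F23042) D16620 F26939
theorem F29514 : act 5 n16620 = n15408 := d8_2 F23043 D16620 F26936
theorem F29515 : act 4 n14639 = n16620 := d14_5 F29514 F26937 (iv D12720) (iv F19469) D14639
def n16621 : Q := act 4 n13545
theorem D16621 : act 4 n13545 = n16621 := rfl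
theorem F29516 : act 0 n16621 = n15413 := d3_1 D16621 (iv D15413) (iv F23041)
theorem F29517 : act 1 n16621 = n14639 := d7_1 D16621 F29515 (iv D16620)
theorem F29518 : act 2 n16621 = n13546 := d10_1 D16621 (iv D13546) D13545
theorem F29519 : act 5 n16621 = n14637 := d14_2 F23043 D16621 F25211 F26945 (iv D15410)
theorem F29520 : act 3 n16442 = n16621 := d6_0 F29517 F25217 D16442
def n16622 : Q := act 2 n13548
theorem D16622 : act 2 n13548 = n16622 := rfl
theorem F29521 : act 0 n16622 = n13550 := d1_1 D16622 (iv D13550) (iv F23053)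
theorem F29522 : act 3 n16622 = n13715 := d9_2 D13548 D16622 F23473 F21332 (iv F21521) F23033 F23031 (iv F19115) (iv F24791) (iv F27543) F27542 F21335 (iv F21541) (iv F23039) F23027
theorem F29523 : act 4 n16622 = n13709 := d10_2 (iv F23055) D16622 F23459
def n16623 : Q := act 2 n13552
theorem D16623 : act 2 n13552 = n16623 := rfl
theorem F29524 : act 0 n16623 = n13553 := d1_1 D16623 (iv D13553) (iv F23068)
theorem F29525 : act 1 n16623 = n13685 := d5_1 D16623 (iv D13685) (iv F23381) (iv F23383) (iv F23069)
theorem F29526 : act 4 n16623 = n13687 := d10_2 F29198 D16623 (iv F29196)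
theorem F29527 : act 5 n16623 = n14701 := d11_2 (iv F23070) D16623 F25375
def n16624 : Q := act 3 n13553
theorem D16624 : act 3 n13553 = n16624 := rfl
theorem F29528 : act 1 n16624 = n14705 := d6_1 D16624 F25379 (iv F23071)
theorem F29529 : act 5 n16624 = n14702 := d13_2 (iv F23072) D16624 (iv D14702)
def n16625 : Q := act 1 n13554
theorem D16625 : act 1 n13554 = n16625 := rfl
theorem F29530 : act 0 n16625 = n14270 := d0_1 D16625 F24466 F18844 (iv F17814) (iv F23073)
theorem F29531 : act 5 n16625 = n14288 := d8_2 (iv F23074) D16625 F24498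
theorem F29532 : act 3 n14269 = n16625 := d2_0 F29530 (iv D14270) D14269
def n16626 : Q := act 3 n13554
theorem D16626 : act 3 n13554 = n16626 := rfl
theorem F29533 : act 0 n16626 = n13556 := d2_1 D16626 (iv D13556) (iv F23073)
theorem F29534 : act 1 n16626 = n14269 := d6_1 D16626 F29532 (iv D16625)
theorem F29535 : act 2 n16626 = n13901 := d9_1 D16626 (iv D13901) F18353 F14123 (iv F13677) F13678 (iv F14498) D11265 (iv F24028) (iv D14018) (iv D11028) (iv D8562) (iv F13702) D10641 D13554
theorem F29536 : act 5 n16626 = n14022 := d13_2 (iv F23074) D16626 F24035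
def n16627 : Q := act 4 n13554
theorem D16627 : act 4 n13554 = n16627 := rfl
theorem F29537 : act 0 n16627 = n13557 := d3_1 D16627 (iv D13557) (iv F23073)
theorem F29538 : act 2 n16627 = n13555 := d10_1 D16627 (iv D13555) D13554
def n16628 : Q := act 2 n13556
theorem D16628 : act 2 n13556 = n16628 := rfl
theorem F29539 : act 0 n16628 = n13901 := d1_1 D16628 (iv F29535) F29533
theorem F29540 : act 1 n16628 = n14244 := d5_1 D16628 (iv D14244) F18802 D11224 (iv F23076)
theorem F29541 : act 3 n16628 = n13900 := d9_2 D13556 D16628 F23838 F18364 (iv F17788) F17789 (iv F18881) (iv F24035) (iv D14022) (iv D11031) (iv D8564) (iv D6565) (iv F10432) D8256 D10642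
theorem F29542 : act 5 n16628 = n14018 := d11_2 (iv F23077) D16628 F24028
def n16629 : Q := act 4 n13556
theorem D16629 : act 4 n13556 = n16629 := rfl
theorem F29543 : act 1 n16629 = n14248 := d7_1 D16629 F24427 (iv F23076)
def n16630 : Q := act 3 n13557
theorem D16630 : act 3 n13557 = n16630 := rfl
theorem F29544 : act 1 n16630 = n14306 := d6_1 D16630 (iv D14306) (iv F23078)
def n16631 : Q := act 0 n13558
theorem D16631 : act 0 n13558 = n16631 := rfl
theorem F29545 : act 1 n16631 = n13559 := d0_2 D13558 D16631 (iv D13559) (iv D10645) (iv F17817)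
theorem F29546 : act 2 n16631 = n14288 := d1_2 (iv F23080) D16631 (iv D14288)
def n16632 : Q := act 3 n13559
theorem D16632 : act 3 n13559 = n16632 := rfl
theorem F29547 : act 0 n16632 = n13560 := d2_1 D16632 (iv D13560) D13559
def n16633 : Q := act 2 n13560
theorem D16633 : act 2 n13560 = n16633 := rfl
def n16634 : Q := act 4 n13560
theorem D16634 : act 4 n13560 = n16634 := rfl
theorem F29548 : act 1 n16634 = n13561 := d7_1 D16634 (iv D13561) (iv F23082)
theorem F29549 : act 5 n16634 = n16460 := d14_2 F23425 D16634 (iv D16460) D16461 (iv F29194)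
def n16635 : Q := act 5 n13561
theorem D16635 : act 5 n13561 = n16635 := rfl
theorem F29550 : act 1 n16635 = n16460 := d8_1 D16635 (iv F29549) F29548
theorem F29551 : act 3 n16635 = n16634 := d13_1 D16635 F29549 F29191
theorem F29552 : act 4 n16635 = n16458 := d14_1 D16635 F29190 (iv D13696) F18028 D13561
def n16636 : Q := act 5 n13562
theorem D16636 : act 5 n13562 = n16636 := rfl
theorem F29553 : act 0 n16636 = n16424 := d4_1 D16636 (iv D16424) (iv F23362)
theorem F29554 : act 1 n16636 = n13564 := d8_1 D16636 (iv D13564) D13562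
theorem F29555 : act 2 n16636 = n16416 := d11_1 D16636 F29124 F29120
theorem F29556 : act 3 n16636 = n16409 := d13_1 D16636 (iv D16409) F23361
def n16637 : Q := act 4 n13564
theorem D16637 : act 4 n13564 = n16637 := rfl
theorem F29557 : act 2 n16637 = n13565 := d10_1 D16637 (iv D13565) (iv F23083)
def n16638 : Q := act 5 n13566
theorem D16638 : act 5 n13566 = n16638 := rfl
theorem F29558 : act 0 n16638 = n13567 := d4_1 D16638 (iv D13567) (iv F23084)
theorem F29559 : act 1 n16638 = n13569 := d8_1 D16638 (iv D13569) (iv F23085)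
theorem F29560 : act 2 n16638 = n13699 := d11_1 D16638 (iv D13699) (iv F23086)
theorem F29561 : act 3 n16638 = n13985 := d13_1 D16638 (iv D13985) (iv F23087)
theorem F29562 : act 4 n16638 = n13699 := d14_1 D16638 (iv D13699) (iv D10760) (iv F17824) D13566
def n16639 : Q := act 2 n13568
theorem D16639 : act 2 n13568 = n16639 := rfl
theorem F29563 : act 0 n16639 = n13700 := d1_1 D16639 (iv D13700) (iv F23090)
theorem F29564 : act 1 n16639 = n13948 := d5_1 D16639 (iv D13948) F18438 (iv F17835) (iv F23091)
theorem F29565 : act 5 n16639 = n13907 := d11_2 (iv F23092) D16639 (iv D13907)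
def n16640 : Q := act 2 n13571
theorem D16640 : act 2 n13571 = n16640 := rfl
theorem F29566 : act 0 n16640 = n13685 := d1_1 D16640 (iv D13685) (iv F23102)
theorem F29567 : act 1 n16640 = n14700 := d5_1 D16640 F25374 F19578 D12851 (iv F23103)
theorem F29568 : act 4 n16640 = n13674 := d10_2 (iv F23104) D16640 (iv D13674)
theorem F29569 : act 5 n16640 = n14698 := d11_2 F23105 D16640 F25370
def n16641 : Q := act 2 n13574
theorem D16641 : act 2 n13574 = n16641 := rfl
theorem F29570 : act 0 n16641 = n13950 := d1_1 D16641 (iv F27102) F27101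
theorem F29571 : act 4 n16641 = n13954 := d10_2 (iv F23117) D16641 F23931
theorem F29572 : act 5 n16641 = n13575 := d11_2 (iv F23118) D16641 (iv D13575)
def n16642 : Q := act 1 n13575
theorem D16642 : act 1 n13575 = n16642 := rfl
theorem F29573 : act 2 n16642 = n13708 := d5_2 D13575 D16642 (iv D13708) (iv D10772) (iv F17852)
theorem F29574 : act 4 n16642 = n13576 := d7_2 (iv F23120) D16642 (iv D13576)
def n16643 : Q := act 0 n13576
theorem D16643 : act 0 n13576 = n16643 := rfl
theorem F29575 : act 1 n16643 = n13947 := d0_2 D13576 D16643 F23928 F18438 (iv F17854)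
theorem F29576 : act 2 n16643 = n13712 := d1_2 (iv F23121) D16643 (iv D13712)
theorem F29577 : act 3 n16643 = n13906 := d2_2 (iv F23122) D16643 (iv D13906)
theorem F29578 : act 5 n16643 = n13951 := d4_2 (iv F23123) D16643 (iv D13951)
def n16644 : Q := act 2 n13577
theorem D16644 : act 2 n13577 = n16644 := rfl
theorem F29579 : act 0 n16644 = n15713 := d1_1 D16644 (iv D15713) (iv F23124)
def n16645 : Q := act 4 n13577
theorem D16645 : act 4 n13577 = n16645 := rfl
theorem F29580 : act 0 n16645 = n15676 := d3_1 D16645 F27524 (iv F23124)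
theorem F29581 : act 1 n16645 = n13578 := d7_1 D16645 (iv D13578) (iv F23125)
theorem F29582 : act 3 n16645 = n13820 := d12_1 D16645 (iv D13820) (iv D10863) (iv F17859) D13577
def n16646 : Q := act 5 n13578
theorem D16646 : act 5 n13578 = n16646 := rfl
theorem F29583 : act 0 n16646 = n13581 := d4_1 D16646 (iv D13581) (iv F23126)
theorem F29584 : act 2 n16646 = n16458 := d11_1 D16646 F29190 F23427
theorem F29585 : act 3 n16646 = n13821 := d13_1 D16646 (iv D13821) (iv F23127)
def n16647 : Q := act 0 n13579
theorem D16647 : act 0 n13579 = n16647 := rfl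
theorem F29586 : act 2 n16647 = n15723 := d1_2 (iv F23128) D16647 (iv D15723)
def n16648 : Q := act 4 n13579
theorem D16648 : act 4 n13579 = n16648 := rfl
theorem F29587 : act 1 n16648 = n13580 := d7_1 D16648 (iv D13580) D13579
theorem F29588 : act 2 n16648 = n15722 := d10_1 D16648 F27610 (iv F23128)
def n16649 : Q := act 5 n13580
theorem D16649 : act 5 n13580 = n16649 := rfl
theorem F29589 : act 0 n16649 = n16458 := d4_1 D16649 F29190 F23426
theorem F29590 : act 2 n16649 = n13581 := d11_1 D16649 (iv D13581) (iv F23129)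
theorem F29591 : act 3 n16649 = n16457 := d13_1 D16649 F29188 F27998
def n16650 : Q := act 1 n13582
theorem D16650 : act 1 n13582 = n16650 := rfl
theorem F29592 : act 2 n16650 = n13584 := d5_2 D13582 D16650 (iv D13584) (iv D10671) (iv F17864)
theorem F29593 : act 4 n16650 = n14757 := d7_2 (iv F23133) D16650 (iv D14757)
def n16651 : Q := act 3 n13582
theorem D16651 : act 3 n13582 = n16651 := rfl
theorem F29594 : act 0 n16651 = n14498 := d2_1 D16651 (iv F24941) (iv F23132)
theorem F29595 : act 2 n16651 = n14502 := d15_2 D13582 D16651 (iv F28847) F28846 F22491 F17359 (iv F20155) (iv D11957) (iv F17863)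
def n16652 : Q := act 5 n13582
theorem D16652 : act 5 n13582 = n16652 := rfl
theorem F29596 : act 0 n16652 = n15035 := d4_1 D16652 (iv D15035) (iv F23132)
theorem F29597 : act 2 n16652 = n13583 := d11_1 D16652 (iv D13583) D13582
theorem F29598 : act 4 n16652 = n15879 := d14_1 D16652 (iv D15879) F21659 (iv F19682) (iv F23133)
def n16653 : Q := act 0 n13584
theorem D16653 : act 0 n13584 = n16653 := rfl
theorem F29599 : act 1 n16653 = n14760 := d0_2 D13584 D16653 (iv D14760) (iv D11701) (iv F17870)
theorem F29600 : act 4 n16653 = n14759 := d3_2 (iv F23138) D16653 (iv D14759)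
def n16654 : Q := act 3 n13584
theorem D16654 : act 3 n13584 = n16654 := rfl
theorem F29601 : act 1 n16654 = n13585 := d6_1 D16654 (iv D13585) D13584
theorem F29602 : act 4 n16654 = n15221 := d12_2 (iv F23138) D16654 (iv D15221) (iv D12125) (iv F19683)
def n16655 : Q := act 5 n13584
theorem D16655 : act 5 n13584 = n16655 := rfl
theorem F29603 : act 1 n16655 = n13586 := d8_1 D16655 (iv D13586) D13584
theorem F29604 : act 4 n16655 = n15220 := d14_1 D16655 (iv D15220) (iv D12124) (iv F19684) (iv F23138)
def n16656 : Q := act 3 n13587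
theorem D16656 : act 3 n13587 = n16656 := rfl
theorem F29605 : act 0 n16656 = n13588 := d2_1 D16656 (iv D13588) D13587
theorem F29606 : act 1 n16656 = n13590 := d6_1 D16656 (iv D13590) (iv F23144)
theorem F29607 : act 5 n16656 = n14525 := d13_2 (iv F23147) D16656 (iv D14525)
def n16657 : Q := act 2 n13588
theorem D16657 : act 2 n13588 = n16657 := rfl
def n16658 : Q := act 4 n13588
theorem D16658 : act 4 n13588 = n16658 := rfl
theorem F29608 : act 1 n16658 = n13589 := d7_1 D16658 (iv D13589) (iv F23148)
theorem F29609 : act 3 n16658 = n13861 := d12_1 D16658 (iv D13861) (iv D10897) (iv F17876) D13588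
def n16659 : Q := act 5 n13589
theorem D16659 : act 5 n13589 = n16659 := rfl
theorem F29610 : act 0 n16659 = n13595 := d4_1 D16659 (iv D13595) (iv F23149)
theorem F29611 : act 2 n16659 = n15695 := d11_1 D16659 F27557 (iv F23150)
theorem F29612 : act 3 n16659 = n13863 := d13_1 D16659 (iv D13863) (iv F23151)
def n16660 : Q := act 4 n13590
theorem D16660 : act 4 n13590 = n16660 := rfl
theorem F29613 : act 0 n16660 = n13592 := d3_1 D16660 (iv D13592) (iv F23152)
theorem F29614 : act 2 n16660 = n14519 := d10_1 D16660 (iv D14519) (iv F23154)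
theorem F29615 : act 3 n16660 = n13865 := d12_1 D16660 (iv D13865) (iv D10901) (iv F17879) D13590
def n16661 : Q := act 1 n13591
theorem D16661 : act 1 n13591 = n16661 := rfl
theorem F29616 : act 2 n16661 = n13593 := d5_2 D13591 D16661 (iv D13593) (iv D10677) (iv F17881)
theorem F29617 : act 3 n16661 = n14514 := d6_2 (iv F23157) D16661 (iv D14514)
theorem F29618 : act 5 n16661 = n13974 := d8_2 (iv F23156) D16661 F23971
def n16662 : Q := act 4 n13591
theorem D16662 : act 4 n13591 = n16662 := rfl
theorem F29619 : act 0 n16662 = n14519 := d3_1 D16662 (iv D14519) (iv F23155)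
theorem F29620 : act 2 n16662 = n13592 := d10_1 D16662 (iv D13592) D13591
def n16663 : Q := act 5 n13592
theorem D16663 : act 5 n13592 = n16663 := rfl
theorem F29621 : act 1 n16663 = n13595 := d8_1 D16663 (iv D13595) (iv F23158)
theorem F29622 : act 3 n16663 = n13866 := d13_1 D16663 (iv D13866) (iv F23159)
theorem F29623 : act 4 n16663 = n14528 := d14_1 D16663 (iv D14528) (iv D11502) (iv F17882) D13592
def n16664 : Q := act 0 n13593
theorem D16664 : act 0 n13593 = n16664 := rfl
theorem F29624 : act 3 n16664 = n13937 := d2_2 (iv F23160) D16664 F23910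
theorem F29625 : act 5 n16664 = n13973 := d4_2 (iv F23161) D16664 F23970
def n16665 : Q := act 4 n13593
theorem D16665 : act 4 n13593 = n16665 := rfl
theorem F29626 : act 1 n16665 = n13594 := d7_1 D16665 (iv D13594) D13593
theorem F29627 : act 3 n15771 = n16665 := d6_0 F29626 (iv F23164) D15771
def n16666 : Q := act 5 n13594
theorem D16666 : act 5 n13594 = n16666 := rfl
theorem F29628 : act 0 n16666 = n15695 := d4_1 D16666 F27557 (iv F23162)
theorem F29629 : act 2 n16666 = n13595 := d11_1 D16666 (iv D13595) (iv F23163)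
theorem F29630 : act 3 n16666 = n15693 := d13_1 D16666 (iv F27554) F23164
theorem F29631 : act 4 n16666 = n13976 := d14_1 D16666 (iv D13976) (iv D10997) (iv F17883) D13594
def n16667 : Q := act 2 n13596
theorem D16667 : act 2 n13596 = n16667 := rfl
theorem F29632 : act 4 n16667 = n13598 := d10_2 (iv F23167) D16667 (iv D13598)
def n16668 : Q := act 5 n13596
theorem D16668 : act 5 n13596 = n16668 := rfl
theorem F29633 : act 1 n16668 = n13601 := d8_1 D16668 (iv D13601) (iv F23166)
theorem F29634 : act 3 n16668 = n13597 := d13_1 D16668 (iv D13597) D13596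
def n16669 : Q := act 3 n13600
theorem D16669 : act 3 n13600 = n16669 := rfl
theorem F29635 : act 0 n16669 = n13609 := d2_1 D16669 (iv D13609) (iv F23172)
theorem F29636 : act 1 n16669 = n14606 := d6_1 D16669 F25130 F24349
theorem F29637 : act 4 n16669 = n13648 := d12_2 (iv F23173) D16669 (iv D13648) (iv D10722) (iv F17895)
theorem F29638 : act 5 n16669 = n13654 := d13_2 F24344 D16669 (iv F24343)
def n16670 : Q := act 2 n13604
theorem D16670 : act 2 n13604 = n16670 := rfl
theorem F29639 : act 4 n16670 = n13725 := d10_2 (iv F23183) D16670 (iv D13725)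
def n16671 : Q := act 5 n13604
theorem D16671 : act 5 n13604 = n16671 := rfl
theorem F29640 : act 1 n16671 = n13607 := d8_1 D16671 (iv D13607) (iv F23182)
theorem F29641 : act 3 n16671 = n13605 := d13_1 D16671 (iv D13605) D13604
def n16672 : Q := act 1 n13606
theorem D16672 : act 1 n13606 = n16672 := rfl
theorem F29642 : act 4 n16672 = n13729 := d7_2 (iv F23187) D16672 (iv D13729)
def n16673 : Q := act 3 n13606
theorem D16673 : act 3 n13606 = n16673 := rfl
theorem F29643 : act 0 n16673 = n13653 := d2_1 D16673 F23298 (iv F23186)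
theorem F29644 : act 4 n16673 = n13625 := d12_2 (iv F23187) D16673 (iv D13625) F17933 (iv F18089)
theorem F29645 : act 2 n16673 = n13654 := d15_2 D13606 D16673 (iv F24343) F24342 F23175 F17892 D10797 F18098 (iv F17903)
def n16674 : Q := act 5 n13606
theorem D16674 : act 5 n13606 = n16674 := rfl
theorem F29646 : act 0 n16674 = n13735 := d4_1 D16674 F23504 (iv F23186)
theorem F29647 : act 2 n16674 = n13607 := d11_1 D16674 (iv D13607) D13606
def n16675 : Q := act 4 n13607
theorem D16675 : act 4 n13607 = n16675 := rfl
theorem F29648 : act 0 n16675 = n13734 := d3_1 D16675 F23502 (iv F23188)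
theorem F29649 : act 3 n16675 = n13726 := d12_1 D16675 (iv D13726) F18083 (iv F17907) (iv F23189)
theorem F29650 : act 5 n16675 = n13727 := d14_2 D13607 D16675 F23494 F18087 (iv F17904)
def n16676 : Q := act 0 n13608
theorem D16676 : act 0 n13608 = n16676 := rfl
theorem F29651 : act 4 n16676 = n13611 := d3_2 (iv F23190) D16676 (iv D13611)
def n16677 : Q := act 3 n13608
theorem D16677 : act 3 n13608 = n16677 := rfl
theorem F29652 : act 1 n16677 = n13609 := d6_1 D16677 (iv D13609) D13608
def n16678 : Q := act 5 n13608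
theorem D16678 : act 5 n13608 = n16678 := rfl
theorem F29653 : act 1 n16678 = n13610 := d8_1 D16678 (iv D13610) D13608
def n16679 : Q := act 2 n13609
theorem D16679 : act 2 n13609 = n16679 := rfl
theorem F29654 : act 3 n16679 = n13735 := d9_2 D13609 D16679 (iv D13735) (iv D10797) (iv F17892) (iv F23175) (iv F24342) F24343 (iv F29645) (iv D16673) (iv D13606) (iv D10688) F13775 D8295 D10690
theorem F29655 : act 5 n13653 = n16679 := d13_0 F29654 F23504 (iv F23298)
def n16680 : Q := act 4 n13609
theorem D16680 : act 4 n13609 = n16680 := rfl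
theorem F29656 : act 0 n16680 = n13648 := d3_1 D16680 (iv F29637) F29635
theorem F29657 : act 3 n16680 = n13614 := d12_1 D16680 (iv D13614) (iv D10693) (iv F17908) D13609
theorem F29658 : act 5 n13631 = n16680 := d13_0 F29657 F23198 (iv F23247)
def n16681 : Q := act 5 n13609
theorem D16681 : act 5 n13609 = n16681 := rfl
theorem F29659 : act 0 n16681 = n13654 := d4_1 D16681 (iv F29638) F29635
theorem F29660 : act 2 n16681 = n13653 := d11_1 D16681 F29655 (iv D16679)
theorem F29661 : act 3 n16681 = n13610 := d13_1 D16681 (iv D13610) D13609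
theorem F29662 : act 4 n16681 = n13627 := d14_1 D16681 F23237 D13631 F29658 (iv D16680)
def n16682 : Q := act 3 n13611
theorem D16682 : act 3 n13611 = n16682 := rfl
theorem F29663 : act 0 n16682 = n13612 := d2_1 D16682 (iv D13612) D13611
theorem F29664 : act 1 n16682 = n13646 := d6_1 D16682 (iv F24545) F24543
theorem F29665 : act 5 n16682 = n13621 := d13_2 (iv F24541) D16682 (iv F24540)
def n16683 : Q := act 2 n13612
theorem D16683 : act 2 n13612 = n16683 := rfl
theorem F29666 : act 1 n16683 = n13619 := d5_1 D16683 F23212 F17924 (iv F17911) (iv F23192)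
theorem F29667 : act 5 n16683 = n13617 := d11_2 F23193 D16683 F23206
theorem F29668 : act 3 n15313 = n16683 := d6_0 F29666 F23213 D15313
def n16684 : Q := act 4 n13612
theorem D16684 : act 4 n13612 = n16684 := rfl
theorem F29669 : act 1 n16684 = n13614 := d7_1 D16684 (iv D13614) (iv F23192)
theorem F29670 : act 5 n16684 = n13634 := d14_2 F23193 D16684 (iv D13634) F17941 (iv F17926)
def n16685 : Q := act 2 n13615
theorem D16685 : act 2 n13615 = n16685 := rfl
theorem F29671 : act 0 n16685 = n13616 := d1_1 D16685 (iv D13616) (iv F23199)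
theorem F29672 : act 3 n16685 = n13669 := d9_2 D13615 D16685 (iv D13669) (iv D10738) (iv D8334) (iv D6389) (iv F10546) D8329 D10733 D13662 F23314 (iv D11230) F14453 (iv F13785) (iv F17916)
theorem F29673 : act 4 n16685 = n13638 := d10_2 (iv F23201) D16685 F23266
theorem F29674 : act 5 n16685 = n13660 := d11_2 (iv F23202) D16685 (iv D13660)
theorem F29675 : act 1 n15072 = n16685 := d7_3 F29673 F23265 (iv F26188)
def n16686 : Q := act 3 n13616
theorem D16686 : act 3 n13616 = n16686 := rfl
theorem F29676 : act 0 n16686 = n13669 := d2_1 D16686 (iv F29672) F29671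
theorem F29677 : act 1 n16686 = n13635 := d6_1 D16686 (iv D13635) (iv F23203)
theorem F29678 : act 2 n16686 = n13668 := d9_1 D16686 (iv D13668) (iv D10737) (iv D8333) (iv F13842) D10732 D13660 F23310 (iv D11233) (iv D8722) F11054 (iv F10503) (iv F13778) D10697 D13616
theorem F29679 : act 5 n16686 = n13662 := d13_2 (iv F23205) D16686 (iv D13662)
def n16687 : Q := act 0 n13617
theorem D16687 : act 0 n13617 = n16687 := rfl
theorem F29680 : act 1 n16687 = n15305 := d0_2 D13617 D16687 (iv D15305) (iv D12210) (iv F17921)
theorem F29681 : act 2 n16687 = n13621 := d1_2 (iv F23206) D16687 (iv D13621)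
theorem F29682 : act 4 n16687 = n13770 := d3_2 (iv F23207) D16687 (iv D13770)
def n16688 : Q := act 3 n13617
theorem D16688 : act 3 n13617 = n16688 := rfl
theorem F29683 : act 1 n16688 = n13618 := d6_1 D16688 (iv D13618) D13617
theorem F29684 : act 5 n16688 = n15313 := d13_2 F29667 D16688 F29668
def n16689 : Q := act 4 n13618
theorem D16689 : act 4 n13618 = n16689 := rfl
theorem F29685 : act 0 n16689 = n15308 := d3_1 D16689 (iv D15308) (iv F23208)
theorem F29686 : act 2 n16689 = n15316 := d10_1 D16689 (iv D15316) (iv F23209)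
theorem F29687 : act 3 n16689 = n13772 := d12_1 D16689 (iv D13772) (iv D10828) (iv F17922) D13618
def n16690 : Q := act 4 n13619
theorem D16690 : act 4 n13619 = n16690 := rfl
theorem F29688 : act 0 n16690 = n15309 := d3_1 D16690 (iv D15309) (iv F23211)
theorem F29689 : act 2 n16690 = n13620 := d10_1 D16690 (iv D13620) (iv F23212)
theorem F29690 : act 5 n16690 = n13745 := d14_2 D13619 D16690 (iv D13745) F18108 (iv F17922)
def n16691 : Q := act 2 n13622
theorem D16691 : act 2 n13622 = n16691 := rfl
theorem F29691 : act 0 n16691 = n13649 := d1_1 D16691 (iv D13649) (iv F23220)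
theorem F29692 : act 4 n16691 = n13623 := d10_2 (iv F23222) D16691 (iv D13623)
theorem F29693 : act 5 n16691 = n13741 := d11_2 (iv F23223) D16691 F23510
def n16692 : Q := act 1 n13623
theorem D16692 : act 1 n13623 = n16692 := rfl
theorem F29694 : act 2 n16692 = n13890 := d5_2 D13623 D16692 F23814 F18340 (iv F17930)
theorem F29695 : act 3 n16692 = n13658 := d6_2 (iv F23226) D16692 (iv D13658)
theorem F29696 : act 5 n16692 = n13624 := d8_2 (iv F23225) D16692 (iv D13624)
def n16693 : Q := act 0 n13624
theorem D16693 : act 0 n13624 = n16693 := rfl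
theorem F29697 : act 1 n16693 = n13651 := d0_2 D13624 D16693 (iv D13651) (iv D10725) (iv F17932)
theorem F29698 : act 2 n16693 = n13888 := d1_2 (iv F23227) D16693 (iv D13888)
theorem F29699 : act 4 n16693 = n13768 := d3_2 (iv F23228) D16693 (iv D13768)
def n16694 : Q := act 3 n13624
theorem D16694 : act 3 n13624 = n16694 := rfl
theorem F29700 : act 1 n16694 = n13625 := d6_1 D16694 (iv D13625) D13624
theorem F29701 : act 5 n16694 = n13658 := d13_2 F29696 D16694 (iv F29695)
theorem F29702 : act 2 n14604 = n16694 := d5_0 F29700 F23231 F17976 D11564 D14604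
def n16695 : Q := act 3 n13626
theorem D16695 : act 3 n13626 = n16695 := rfl
theorem F29703 : act 0 n16695 = n14602 := d2_1 D16695 (iv D14602) (iv F23232)
theorem F29704 : act 1 n16695 = n13627 := d6_1 D16695 (iv D13627) D13626
theorem F29705 : act 5 n16695 = n13629 := d13_2 (iv F23234) D16695 (iv D13629)
def n16696 : Q := act 3 n13628
theorem D16696 : act 3 n13628 = n16696 := rfl
theorem F29706 : act 0 n16696 = n13629 := d2_1 D16696 (iv D13629) D13628
theorem F29707 : act 1 n16696 = n13655 := d6_1 D16696 (iv D13655) (iv F23238)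
theorem F29708 : act 5 n16696 = n14602 := d13_2 (iv F23241) D16696 (iv D14602)
def n16697 : Q := act 2 n13629
theorem D16697 : act 2 n13629 = n16697 := rfl
def n16698 : Q := act 4 n13629
theorem D16698 : act 4 n13629 = n16698 := rfl
theorem F29709 : act 1 n16698 = n13631 := d7_1 D16698 (iv D13631) (iv F23242)
theorem F29710 : act 3 n16698 = n13634 := d12_1 D16698 (iv D13634) (iv D10708) (iv F17937) D13629
def n16699 : Q := act 1 n13630
theorem D16699 : act 1 n13630 = n16699 := rfl
theorem F29711 : act 3 n16699 = n13650 := d6_2 (iv F23244) D16699 (iv D13650)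
theorem F29712 : act 5 n16699 = n13652 := d8_2 (iv F23245) D16699 F23297
def n16700 : Q := act 4 n13630
theorem D16700 : act 4 n13630 = n16700 := rfl
theorem F29713 : act 0 n16700 = n13659 := d3_1 D16700 (iv D13659) (iv F23243)
theorem F29714 : act 2 n16700 = n13631 := d10_1 D16700 (iv D13631) D13630
def n16701 : Q := act 2 n13632
theorem D16701 : act 2 n13632 = n16701 := rfl
theorem F29715 : act 0 n16701 = n13633 := d1_1 D16701 (iv D13633) (iv F23248)
theorem F29716 : act 5 n16701 = n13770 := d11_2 (iv F23250) D16701 F23578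
def n16702 : Q := act 4 n13632
theorem D16702 : act 4 n13632 = n16702 := rfl
theorem F29717 : act 0 n16702 = n13634 := d3_1 D16702 (iv D13634) (iv F23248)
theorem F29718 : act 1 n16702 = n13661 := d7_1 D16702 (iv D13661) (iv F23249)
def n16703 : Q := act 3 n13633
theorem D16703 : act 3 n13633 = n16703 := rfl
theorem F29719 : act 1 n16703 = n13744 := d6_1 D16703 (iv D13744) (iv F23251)
theorem F29720 : act 5 n16703 = n13771 := d13_2 (iv F23252) D16703 (iv D13771)
def n16704 : Q := act 4 n13633
theorem D16704 : act 4 n13633 = n16704 := rfl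
theorem F29721 : act 1 n16704 = n13745 := d7_1 D16704 (iv D13745) (iv F23251)
theorem F29722 : act 2 n16704 = n13634 := d10_1 D16704 (iv D13634) D13633
def n16705 : Q := act 4 n13635
theorem D16705 : act 4 n13635 = n16705 := rfl
theorem F29723 : act 0 n16705 = n15075 := d3_1 D16705 (iv D15075) (iv F23254)
theorem F29724 : act 2 n16705 = n15082 := d10_1 D16705 (iv D15082) (iv F23255)
theorem F29725 : act 3 n16705 = n13641 := d12_1 D16705 (iv D13641) (iv D10713) (iv F17945) D13635
def n16706 : Q := act 4 n13636
theorem D16706 : act 4 n13636 = n16706 := rfl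
theorem F29726 : act 0 n16706 = n15076 := d3_1 D16706 (iv D15076) (iv F23257)
theorem F29727 : act 1 n16706 = n13663 := d7_1 D16706 (iv D13663) (iv F23258)
theorem F29728 : act 2 n16706 = n13637 := d10_1 D16706 (iv D13637) (iv F23259)
theorem F29729 : act 5 n16706 = n13642 := d14_2 D13636 D16706 (iv D13642) (iv D10714) (iv F17945)
def n16707 : Q := act 3 n13638
theorem D16707 : act 3 n13638 = n16707 := rfl
theorem F29730 : act 0 n16707 = n13639 := d2_1 D16707 (iv D13639) D13638
theorem F29731 : act 1 n16707 = n15724 := d6_1 D16707 (iv D15724) (iv F23265)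
theorem F29732 : act 5 n16707 = n15143 := d15_8 (iv F23272) (iv D11348) F14650 (iv F14505) (iv F18888) (iv F18889) (iv F23266) D16707 (iv D15143)
def n16708 : Q := act 5 n13638
theorem D16708 : act 5 n13638 = n16708 := rfl
theorem F29733 : act 0 n16708 = n13640 := d4_1 D16708 (iv D13640) D13638
theorem F29734 : act 1 n16708 = n15725 := d8_1 D16708 (iv D15725) (iv F23265)
theorem F29735 : act 2 n16708 = n13646 := d11_1 D16708 (iv D13646) (iv F23266)
theorem F29736 : act 3 n16708 = n15143 := d13_1 D16708 (iv F29732) (iv D16707)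
def n16709 : Q := act 4 n13639
theorem D16709 : act 4 n13639 = n16709 := rfl
theorem F29737 : act 1 n16709 = n13641 := d7_1 D16709 (iv D13641) (iv F23267)
def n16710 : Q := act 4 n13640
theorem D16710 : act 4 n13640 = n16710 := rfl
theorem F29738 : act 1 n16710 = n13642 := d7_1 D16710 (iv D13642) (iv F23269)
theorem F29739 : act 2 n16710 = n13647 := d10_1 D16710 (iv D13647) (iv F23270)
theorem F29740 : act 5 n16710 = n13663 := d14_2 D13640 D16710 (iv D13663) (iv F23205) F23204
def n16711 : Q := act 5 n13641
theorem D16711 : act 5 n13641 = n16711 := rfl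
theorem F29741 : act 0 n16711 = n15728 := d4_1 D16711 (iv D15728) (iv F23275)
theorem F29742 : act 2 n16711 = n15142 := d11_1 D16711 F26333 (iv F23276)
theorem F29743 : act 4 n16711 = n15141 := d14_1 D16711 (iv D15141) F20311 F17952 D13641
def n16712 : Q := act 3 n13642
theorem D16712 : act 3 n13642 = n16712 := rfl
theorem F29744 : act 0 n16712 = n15729 := d2_1 D16712 (iv D15729) (iv F23277)
theorem F29745 : act 4 n16712 = n15140 := d12_2 D13642 D16712 (iv D15140) F20311 (iv F17955)
def n16713 : Q := act 2 n13643
theorem D16713 : act 2 n13643 = n16713 := rfl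
theorem F29746 : act 0 n16713 = n13741 := d1_1 D16713 F23510 (iv F23279)
theorem F29747 : act 4 n16713 = n13644 := d10_2 (iv F23281) D16713 (iv D13644)
theorem F29748 : act 5 n16713 = n13649 := d11_2 (iv F23282) D16713 (iv D13649)
def n16714 : Q := act 1 n13644
theorem D16714 : act 1 n13644 = n16714 := rfl
theorem F29749 : act 2 n16714 = n13830 := d5_2 D13644 D16714 F23691 F18246 (iv F17963)
theorem F29750 : act 3 n16714 = n13738 := d6_2 (iv F23284) D16714 (iv D13738)
theorem F29751 : act 5 n16714 = n13645 := d8_2 (iv F23285) D16714 (iv D13645)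
def n16715 : Q := act 0 n13645
theorem D16715 : act 0 n13645 = n16715 := rfl
theorem F29752 : act 1 n16715 = n13768 := d0_2 D13645 D16715 (iv D13768) (iv D10825) (iv F17965)
theorem F29753 : act 2 n16715 = n13828 := d1_2 (iv F23286) D16715 (iv D13828)
theorem F29754 : act 3 n16715 = n13739 := d2_2 (iv F23287) D16715 (iv D13739)
theorem F29755 : act 4 n16715 = n13651 := d3_2 (iv F23288) D16715 (iv D13651)
def n16716 : Q := act 4 n13646
theorem D16716 : act 4 n13646 = n16716 := rfl
theorem F29756 : act 0 n16716 = n13647 := d3_1 D16716 (iv D13647) (iv F23289)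
theorem F29757 : act 5 n16716 = n13661 := d14_2 D13646 D16716 (iv D13661) (iv F23202) F23201
def n16717 : Q := act 3 n13647
theorem D16717 : act 3 n13647 = n16717 := rfl
theorem F29758 : act 1 n16717 = n13648 := d6_1 D16717 (iv D13648) (iv F23290)
theorem F29759 : act 4 n16717 = n14606 := d12_2 D13647 D16717 F25130 F24350 F23176
theorem F29760 : act 5 n16717 = n13657 := d13_2 (iv F23291) D16717 F23307
def n16718 : Q := act 2 n13648
theorem D16718 : act 2 n13648 = n16718 := rfl
theorem F29761 : act 5 n16718 = n13659 := d11_2 (iv F23292) D16718 F23308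
def n16719 : Q := act 1 n13649
theorem D16719 : act 1 n13649 = n16719 := rfl
theorem F29762 : act 2 n16719 = n13839 := d5_2 D13649 D16719 F23711 F18255 (iv F17972)
theorem F29763 : act 4 n16719 = n13650 := d7_2 (iv F23293) D16719 (iv D13650)
def n16720 : Q := act 3 n13649
theorem D16720 : act 3 n13649 = n16720 := rfl
def n16721 : Q := act 0 n13650
theorem D16721 : act 0 n13650 = n16721 := rfl
theorem F29764 : act 2 n16721 = n13836 := d1_2 (iv F23294) D16721 F23705
theorem F29765 : act 5 n16721 = n13651 := d4_2 (iv F23295) D16721 (iv D13651)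
def n16722 : Q := act 3 n13651
theorem D16722 : act 3 n13651 = n16722 := rfl
theorem F29766 : act 0 n16722 = n13652 := d2_1 D16722 (iv D13652) D13651
def n16723 : Q := act 2 n13652
theorem D16723 : act 2 n13652 = n16723 := rfl
def n16724 : Q := act 4 n13652
theorem D16724 : act 4 n13652 = n16724 := rfl
theorem F29767 : act 1 n16724 = n13653 := d7_1 D16724 (iv D13653) (iv F23297)
theorem F29768 : act 3 n16724 = n13736 := d12_1 D16724 F23505 (iv F23287) F23288 D13652
def n16725 : Q := act 4 n13655
theorem D16725 : act 4 n13655 = n16725 := rfl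
theorem F29769 : act 0 n16725 = n13657 := d3_1 D16725 (iv D13657) (iv F23300)
theorem F29770 : act 2 n16725 = n14590 := d10_1 D16725 (iv D14590) (iv F23302)
theorem F29771 : act 3 n16725 = n13661 := d12_1 D16725 (iv D13661) (iv D10732) (iv F17979) D13655
def n16726 : Q := act 1 n13656
theorem D16726 : act 1 n13656 = n16726 := rfl
theorem F29772 : act 2 n16726 = n13658 := d5_2 D13656 D16726 (iv D13658) (iv D10730) (iv F17981)
theorem F29773 : act 3 n16726 = n14584 := d6_2 (iv F23305) D16726 (iv D14584)
theorem F29774 : act 5 n16726 = n14604 := d8_2 (iv F23304) D16726 (iv D14604)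
def n16727 : Q := act 4 n13656
theorem D16727 : act 4 n13656 = n16727 := rfl
theorem F29775 : act 0 n16727 = n14590 := d3_1 D16727 (iv D14590) (iv F23303)
theorem F29776 : act 2 n16727 = n13657 := d10_1 D16727 (iv D13657) D13656
def n16728 : Q := act 0 n13658
theorem D16728 : act 0 n13658 = n16728 := rfl
def n16729 : Q := act 4 n13658
theorem D16729 : act 4 n13658 = n16729 := rfl
theorem F29777 : act 1 n16729 = n13659 := d7_1 D16729 (iv D13659) D13658
def n16730 : Q := act 3 n13659
theorem D16730 : act 3 n13659 = n16730 := rfl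
def n16731 : Q := act 1 n13660
theorem D16731 : act 1 n13660 = n16731 := rfl
theorem F29778 : act 0 n16731 = n15074 := d0_1 D16731 F26190 (iv F23257) F23258 (iv F23309)
theorem F29779 : act 3 n16731 = n14258 := d6_2 (iv F23310) D16731 (iv D14258)
theorem F29780 : act 5 n16731 = n15072 := d8_2 F29674 D16731 F29675
def n16732 : Q := act 4 n13660
theorem D16732 : act 4 n13660 = n16732 := rfl
theorem F29781 : act 0 n16732 = n13663 := d3_1 D16732 (iv D13663) (iv F23309)
theorem F29782 : act 2 n16732 = n13661 := d10_1 D16732 (iv D13661) D13660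
def n16733 : Q := act 3 n13663
theorem D16733 : act 3 n13663 = n16733 := rfl
def n16734 : Q := act 0 n13664
theorem D16734 : act 0 n13664 = n16734 := rfl
theorem F29783 : act 1 n16734 = n15143 := d0_2 D13664 D16734 (iv D15143) (iv D12061) (iv F17986)
theorem F29784 : act 2 n16734 = n14198 := d1_2 (iv F23316) D16734 (iv D14198)
theorem F29785 : act 3 n16734 = n15725 := d2_2 (iv F23317) D16734 F27612
theorem F29786 : act 5 n16734 = n15724 := d4_2 (iv F23318) D16734 F27611
def n16735 : Q := act 4 n13664
theorem D16735 : act 4 n13664 = n16735 := rfl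
theorem F29787 : act 1 n16735 = n13665 := d7_1 D16735 (iv D13665) D13664
theorem F29788 : act 2 n16735 = n14194 := d10_1 D16735 F24319 (iv F23316)
def n16736 : Q := act 3 n13665
theorem D16736 : act 3 n13665 = n16736 := rfl
theorem F29789 : act 0 n16736 = n15140 := d2_1 D16736 (iv D15140) (iv F23319)
theorem F29790 : act 4 n16736 = n15729 := d12_2 D13665 D16736 (iv D15729) (iv D12655) (iv F17987)
def n16737 : Q := act 5 n13665
theorem D16737 : act 5 n13665 = n16737 := rfl
theorem F29791 : act 0 n16737 = n15141 := d4_1 D16737 (iv D15141) (iv F23319)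
theorem F29792 : act 2 n16737 = n13666 := d11_1 D16737 (iv D13666) (iv F23320)
theorem F29793 : act 4 n16737 = n15728 := d14_1 D16737 (iv D15728) (iv D12654) (iv F17988) D13665
def n16738 : Q := act 3 n13667
theorem D16738 : act 3 n13667 = n16738 := rfl
theorem F29794 : act 0 n16738 = n14245 := d2_1 D16738 F24419 (iv F23324)
theorem F29795 : act 1 n16738 = n13668 := d6_1 D16738 (iv D13668) D13667
theorem F29796 : act 5 n16738 = n14241 := d13_2 (iv F23326) D16738 (iv D14241)
theorem F29797 : act 2 n16738 = n15078 := d15_2 (iv F23325) D16738 F26198 (iv F23861) F23862 F18454 (iv D8914) (iv F14744) D11429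
def n16739 : Q := act 4 n13668
theorem D16739 : act 4 n13668 = n16739 := rfl
theorem F29798 : act 0 n16739 = n13670 := d3_1 D16739 (iv D13670) (iv F23327)
def n16740 : Q := act 1 n13669
theorem D16740 : act 1 n13669 = n16740 := rfl
theorem F29799 : act 0 n16740 = n15073 := d0_1 D16740 F26189 (iv F23254) (iv F29677) F29676
theorem F29800 : act 2 n16740 = n14271 := d5_2 D13669 D16740 F24469 F18848 (iv F17994)
theorem F29801 : act 3 n16740 = n15072 := d6_2 F29672 D16740 F29675
theorem F29802 : act 5 n16740 = n14258 := d8_2 (iv F23329) D16740 (iv D14258)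
def n16741 : Q := act 4 n13669
theorem D16741 : act 4 n13669 = n16741 := rfl
theorem F29803 : act 2 n16741 = n13670 := d10_1 D16741 (iv D13670) D13669
def n16742 : Q := act 5 n13670
theorem D16742 : act 5 n13670 = n16742 := rfl
theorem F29804 : act 1 n16742 = n14266 := d8_1 D16742 F24462 (iv F23330)
theorem F29805 : act 4 n16742 = n14257 := d14_1 D16742 (iv D14257) F18827 (iv F17995) D13670
def n16743 : Q := act 2 n13678
theorem D16743 : act 2 n13678 = n16743 := rfl
theorem F29806 : act 0 n16743 = n13691 := d1_1 D16743 (iv D13691) (iv F23373)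
theorem F29807 : act 4 n16743 = n16456 := d10_2 (iv F23374) D16743 F29185
theorem F29808 : act 5 n16743 = n13679 := d11_2 (iv F23375) D16743 (iv D13679)
def n16744 : Q := act 1 n13679
theorem D16744 : act 1 n13679 = n16744 := rfl
theorem F29809 : act 4 n16744 = n13680 := d7_2 (iv F23377) D16744 (iv D13680)
def n16745 : Q := act 3 n13679
theorem D16745 : act 3 n13679 = n16745 := rfl
theorem F29810 : act 0 n16745 = n13693 := d2_1 D16745 (iv D13693) (iv F23376)
theorem F29811 : act 2 n16745 = n14371 := d9_1 D16745 (iv D14371) (iv F23395) F23396 F18017 D10754 D13691 F23417 F23415 (iv F19018) F23372 (iv D13677) F18004 D10745 D13679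
theorem F29812 : act 4 n16745 = n15923 := d12_2 (iv F23377) D16745 F27998 (iv D13580) (iv F18011)
def n16746 : Q := act 0 n13680
theorem D16746 : act 0 n13680 = n16746 := rfl
theorem F29813 : act 1 n16746 = n13694 := d0_2 D13680 D16746 (iv D13694) (iv D10756) (iv F18009)
theorem F29814 : act 2 n16746 = n16625 := d1_2 (iv F24467) D16746 F29530
theorem F29815 : act 3 n16746 = n16647 := d2_2 (iv F23378) D16746 (iv D16647)
theorem F29816 : act 5 n16746 = n16631 := d4_2 (iv F23379) D16746 (iv D16631)
def n16747 : Q := act 3 n13685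
theorem D16747 : act 3 n13685 = n16747 := rfl
theorem F29817 : act 2 n16747 = n14038 := d15_2 D13685 D16747 F24049 F18516 (iv F17846) (iv F23108) F23109 F23105 F23102
theorem F29818 : act 5 n14037 = n16747 := d11_0 F29817 (iv D14038) D14037
def n16748 : Q := act 5 n13685
theorem D16748 : act 5 n13685 = n16748 := rfl
theorem F29819 : act 0 n16748 = n14698 := d4_1 D16748 (iv F29569) F29566
theorem F29820 : act 1 n16748 = n14701 := d8_1 D16748 (iv F29527) F29525
theorem F29821 : act 2 n16748 = n13686 := d11_1 D16748 (iv D13686) D13685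
theorem F29822 : act 3 n16748 = n14037 := d13_1 D16748 F29818 (iv D16747)
theorem F29823 : act 4 n16748 = n14723 := d14_1 D16748 (iv F29110) F29109 (iv D13689) (iv F23398)
def n16749 : Q := act 3 n13687
theorem D16749 : act 3 n13687 = n16749 := rfl
theorem F29824 : act 1 n16749 = n13688 := d6_1 D16749 (iv D13688) D13687
theorem F29825 : act 5 n16749 = n15813 := d13_2 (iv F29131) D16749 F29130
def n16750 : Q := act 4 n13688
theorem D16750 : act 4 n13688 = n16750 := rfl
theorem F29826 : act 0 n16750 = n16637 := d3_1 D16750 (iv D16637) (iv F23403)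
theorem F29827 : act 2 n16750 = n15814 := d10_1 D16750 (iv D15814) (iv F23404)
theorem F29828 : act 5 n16750 = n15817 := d14_2 (iv F23405) D16750 (iv D15817) (iv D12765) (iv F21555)
def n16751 : Q := act 0 n13692
theorem D16751 : act 0 n13692 = n16751 := rfl
theorem F29829 : act 2 n16751 = n13697 := d1_2 (iv F23415) D16751 (iv D13697)
theorem F29830 : act 3 n16751 = n16743 := d2_2 F23417 D16751 F29806
theorem F29831 : act 4 n16751 = n13694 := d3_2 (iv F23416) D16751 (iv D13694)
theorem F29832 : act 5 n16751 = n16745 := d4_2 F23419 D16751 F29810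
def n16752 : Q := act 3 n13694
theorem D16752 : act 3 n13694 = n16752 := rfl
theorem F29833 : act 0 n16752 = n13695 := d2_1 D16752 (iv D13695) D13694
theorem F29834 : act 1 n16752 = n16647 := d6_1 D16752 (iv F29815) F29813
theorem F29835 : act 5 n16752 = n16632 := d13_2 (iv F23423) D16752 (iv D16632)
def n16753 : Q := act 2 n13695
theorem D16753 : act 2 n13695 = n16753 := rfl
theorem F29836 : act 1 n16753 = n16644 := d5_1 D16753 (iv D16644) F23125 (iv F18029) (iv F23424)
theorem F29837 : act 5 n16753 = n16633 := d11_2 (iv F23425) D16753 (iv D16633)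
def n16754 : Q := act 5 n13698
theorem D16754 : act 5 n13698 = n16754 := rfl
theorem F29838 : act 1 n16754 = n13703 := d8_1 D16754 (iv D13703) (iv F23432)
theorem F29839 : act 2 n16754 = n14719 := d11_1 D16754 F26626 F26624
theorem F29840 : act 3 n16754 = n13699 := d13_1 D16754 (iv D13699) D13698
def n16755 : Q := act 3 n13700
theorem D16755 : act 3 n13700 = n16755 := rfl
theorem F29841 : act 1 n16755 = n15330 := d6_1 D16755 F26771 F26631
theorem F29842 : act 4 n16755 = n15328 := d12_2 (iv F26625) D16755 (iv D15328) F20667 D15258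
def n16756 : Q := act 5 n13700
theorem D16756 : act 5 n13700 = n16756 := rfl
theorem F29843 : act 0 n16756 = n13907 := d4_1 D16756 (iv F29565) F29563
theorem F29844 : act 1 n16756 = n15694 := d8_1 D16756 F27555 F26631
theorem F29845 : act 2 n16756 = n13701 := d11_1 D16756 (iv D13701) D13700
def n16757 : Q := act 4 n13703
theorem D16757 : act 4 n13703 = n16757 := rfl
theorem F29846 : act 0 n16757 = n13711 := d3_1 D16757 (iv D13711) (iv F23443)
theorem F29847 : act 2 n16757 = n14718 := d10_1 D16757 (iv D14718) (iv F23444)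
theorem F29848 : act 3 n16757 = n13957 := d12_1 D16757 F23937 (iv F23095) F23096 (iv F23445)
theorem F29849 : act 5 n16757 = n13705 := d14_2 D13703 D16757 (iv D13705) (iv D10766) (iv F18040)
def n16758 : Q := act 0 n13704
theorem D16758 : act 0 n13704 = n16758 := rfl
theorem F29850 : act 1 n16758 = n13712 := d0_2 D13704 D16758 (iv D13712) (iv D10774) (iv F18042)
theorem F29851 : act 2 n16758 = n14709 := d1_2 F26632 D16758 (iv F26630)
theorem F29852 : act 3 n16758 = n15643 := d2_2 (iv F23446) D16758 F27450
theorem F29853 : act 4 n16758 = n13971 := d3_2 (iv F23447) D16758 F23964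
theorem F29854 : act 5 n16758 = n15692 := d4_2 (iv F23448) D16758 F27551
def n16759 : Q := act 2 n13706
theorem D16759 : act 2 n13706 = n16759 := rfl
theorem F29855 : act 1 n16759 = n16633 := d5_1 D16759 (iv D16633) F23082 (iv F18051) (iv F23452)
theorem F29856 : act 5 n16759 = n16644 := d11_2 (iv F23453) D16759 (iv D16644)
def n16760 : Q := act 4 n13706
theorem D16760 : act 4 n13706 = n16760 := rfl
theorem F29857 : act 1 n16760 = n13707 := d7_1 D16760 (iv D13707) (iv F23452)
theorem F29858 : act 3 n16760 = n14040 := d12_1 D16760 (iv D14040) (iv D11046) (iv F18048) D13706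
def n16761 : Q := act 5 n13707
theorem D16761 : act 5 n13707 = n16761 := rfl
theorem F29859 : act 0 n16761 = n13719 := d4_1 D16761 (iv D13719) (iv F23454)
theorem F29860 : act 2 n16761 = n16635 := d11_1 D16761 (iv D16635) (iv F23455)
theorem F29861 : act 3 n16761 = n14041 := d13_1 D16761 (iv D14041) (iv F23456)
theorem F29862 : act 4 n16761 = n16646 := d14_1 D16761 (iv D16646) (iv D13578) (iv F18052) D13707
def n16762 : Q := act 0 n13708
theorem D16762 : act 0 n13708 = n16762 := rfl
theorem F29863 : act 1 n16762 = n13971 := d0_2 D13708 D16762 F23964 F23441 F23438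
theorem F29864 : act 4 n16762 = n13712 := d3_2 (iv F23457) D16762 (iv D13712)
theorem F29865 : act 3 n13968 = n16762 := d6_0 F29863 F23966 (iv F23957)
theorem F29866 : act 5 n13967 = n16762 := d8_0 F29863 (iv D13971) (iv F23956)
def n16763 : Q := act 3 n13708
theorem D16763 : act 3 n13708 = n16763 := rfl
theorem F29867 : act 0 n16763 = n13968 := d2_1 D16763 F29865 (iv D16762)
theorem F29868 : act 1 n16763 = n13709 := d6_1 D16763 (iv D13709) D13708
theorem F29869 : act 2 n13979 = n16763 := d5_0 F29868 F23459 (iv F23063) F23064 (iv F23979)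
theorem F29870 : act 5 n13966 = n16763 := d8_0 F29868 F23460 (iv F23953)
def n16764 : Q := act 5 n13708
theorem D16764 : act 5 n13708 = n16764 := rfl
theorem F29871 : act 0 n16764 = n13967 := d4_1 D16764 F29866 (iv D16762)
theorem F29872 : act 1 n16764 = n13710 := d8_1 D16764 (iv D13710) D13708
theorem F29873 : act 3 n16764 = n13966 := d13_1 D16764 F29870 (iv D16763)
def n16765 : Q := act 4 n13710
theorem D16765 : act 4 n13710 = n16765 := rfl
theorem F29874 : act 0 n16765 = n14718 := d3_1 D16765 (iv D14718) (iv F23461)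
theorem F29875 : act 2 n16765 = n13711 := d10_1 D16765 (iv D13711) (iv F23462)
theorem F29876 : act 5 n16765 = n13716 := d14_2 D13710 D16765 (iv D13716) (iv D10776) (iv F18055)
def n16766 : Q := act 3 n13712
theorem D16766 : act 3 n13712 = n16766 := rfl
theorem F29877 : act 0 n16766 = n13713 := d2_1 D16766 (iv D13713) D13712
theorem F29878 : act 1 n16766 = n15643 := d6_1 D16766 (iv F29852) F29850
theorem F29879 : act 2 n15681 = n16766 := d5_0 F29878 (iv D15643) F21255 D12610 D15681
theorem F29880 : act 5 n15688 = n16766 := d8_0 F29878 F27451 (iv F27545)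
def n16767 : Q := act 5 n13712
theorem D16767 : act 5 n13712 = n16767 := rfl
theorem F29881 : act 0 n16767 = n13714 := d4_1 D16767 (iv D13714) D13712
theorem F29882 : act 1 n16767 = n15692 := d8_1 D16767 (iv F29854) F29850
theorem F29883 : act 2 n16767 = n13951 := d11_1 D16767 (iv F29578) F29576
theorem F29884 : act 3 n16767 = n15688 := d13_1 D16767 F29880 (iv D16766)
def n16768 : Q := act 2 n13713
theorem D16768 : act 2 n13713 = n16768 := rfl
theorem F29885 : act 0 n16768 = n15681 := d1_1 D16768 F29879 F29877
theorem F29886 : act 1 n16768 = n15645 := d5_1 D16768 (iv D15645) F21263 (iv F18058) (iv F23467)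
theorem F29887 : act 5 n16768 = n15649 := d11_2 F23468 D16768 F27468
def n16769 : Q := act 4 n13713
theorem D16769 : act 4 n13713 = n16769 := rfl
theorem F29888 : act 1 n16769 = n13715 := d7_1 D16769 (iv D13715) (iv F23467)
def n16770 : Q := act 4 n13714
theorem D16770 : act 4 n13714 = n16770 := rfl
theorem F29889 : act 1 n16770 = n13716 := d7_1 D16770 (iv D13716) (iv F23469)
theorem F29890 : act 2 n16770 = n13952 := d10_1 D16770 (iv D13952) (iv F23470)
def n16771 : Q := act 5 n13715
theorem D16771 : act 5 n13715 = n16771 := rfl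
theorem F29891 : act 0 n16771 = n15687 := d4_1 D16771 (iv D15687) (iv F23472)
theorem F29892 : act 2 n16771 = n15686 := d11_1 D16771 (iv D15686) (iv F23473)
theorem F29893 : act 4 n16771 = n15691 := d14_1 D16771 (iv D15691) (iv D12618) (iv F18059) D13715
def n16772 : Q := act 3 n13716
theorem D16772 : act 3 n13716 = n16772 := rfl
theorem F29894 : act 0 n16772 = n15696 := d2_1 D16772 (iv D15696) (iv F23474)
theorem F29895 : act 4 n16772 = n15690 := d12_2 D13716 D16772 (iv D15690) (iv D12618) (iv F18062)
def n16773 : Q := act 0 n13717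
theorem D16773 : act 0 n13717 = n16773 := rfl
theorem F29896 : act 1 n16773 = n16632 := d0_2 D13717 D16773 F29547 F23082 (iv F18065)
theorem F29897 : act 3 n16773 = n16631 := d2_2 (iv F23476) D16773 (iv D16631)
theorem F29898 : act 5 n16773 = n16647 := d4_2 (iv F23477) D16773 (iv D16647)
def n16774 : Q := act 4 n13717
theorem D16774 : act 4 n13717 = n16774 := rfl
theorem F29899 : act 1 n16774 = n13718 := d7_1 D16774 (iv D13718) D13717
def n16775 : Q := act 3 n13718
theorem D16775 : act 3 n13718 = n16775 := rfl
theorem F29900 : act 0 n16775 = n16460 := d2_1 D16775 F29191 (iv F23478)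
theorem F29901 : act 4 n16775 = n16455 := d12_2 D13718 D16775 (iv D16455) F22730 (iv F18066)
def n16776 : Q := act 5 n13718
theorem D16776 : act 5 n13718 = n16776 := rfl
theorem F29902 : act 0 n16776 = n16635 := d4_1 D16776 (iv D16635) (iv F23478)
theorem F29903 : act 2 n16776 = n13719 := d11_1 D16776 (iv D13719) (iv F23479)
theorem F29904 : act 4 n16776 = n16649 := d14_1 D16776 (iv D16649) (iv D13580) (iv F18067) D13718
def n16777 : Q := act 3 n13721
theorem D16777 : act 3 n13721 = n16777 := rfl
theorem F29905 : act 1 n16777 = n13730 := d6_1 D16777 (iv D13730) (iv F23483)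
def n16778 : Q := act 5 n13721
theorem D16778 : act 5 n13721 = n16778 := rfl
theorem F29906 : act 1 n16778 = n13731 := d8_1 D16778 (iv D13731) (iv F23483)
theorem F29907 : act 2 n16778 = n13722 := d11_1 D16778 (iv D13722) D13721
def n16779 : Q := act 4 n13722
theorem D16779 : act 4 n13722 = n16779 := rfl
theorem F29908 : act 1 n16779 = n13726 := d7_1 D16779 (iv D13726) (iv F23485)
theorem F29909 : act 5 n16779 = n13723 := d14_2 D13722 D16779 (iv D13723) (iv D10784) (iv F18072)
def n16780 : Q := act 3 n13723
theorem D16780 : act 3 n13723 = n16780 := rfl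
theorem F29910 : act 1 n16780 = n13727 := d6_1 D16780 (iv D13727) (iv F23487)
theorem F29911 : act 4 n16780 = n13724 := d12_2 D13723 D16780 (iv D13724) (iv D10785) (iv F18076)
def n16781 : Q := act 2 n13724
theorem D16781 : act 2 n13724 = n16781 := rfl
theorem F29912 : act 5 n16781 = n13725 := d11_2 (iv F23489) D16781 (iv D13725)
def n16782 : Q := act 1 n13725
theorem D16782 : act 1 n13725 = n16782 := rfl
theorem F29913 : act 2 n16782 = n13729 := d5_2 D13725 D16782 (iv D13729) (iv D10790) (iv F18080)
def n16783 : Q := act 3 n13725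
theorem D16783 : act 3 n13725 = n16783 := rfl
def n16784 : Q := act 2 n13727
theorem D16784 : act 2 n13727 = n16784 := rfl
theorem F29914 : act 0 n16784 = n13737 := d1_1 D16784 (iv D13737) (iv F23493)
theorem F29915 : act 4 n16784 = n13728 := d10_2 (iv F23494) D16784 (iv D13728)
def n16785 : Q := act 1 n13728
theorem D16785 : act 1 n13728 = n16785 := rfl
theorem F29916 : act 3 n16785 = n13740 := d6_2 (iv F23496) D16785 (iv D13740)
theorem F29917 : act 5 n16785 = n13729 := d8_2 (iv F23497) D16785 (iv D13729)
def n16786 : Q := act 0 n13729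
theorem D16786 : act 0 n13729 = n16786 := rfl
theorem F29918 : act 1 n16786 = n13739 := d0_2 D13729 D16786 (iv D13739) (iv D10801) (iv F18088)
theorem F29919 : act 3 n16786 = n13768 := d2_2 (iv F23498) D16786 (iv D13768)
def n16787 : Q := act 1 n13732
theorem D16787 : act 1 n13732 = n16787 := rfl
theorem F29920 : act 2 n16787 = n13733 := d5_2 D13732 D16787 F23500 (iv D10795) (iv F18093)
theorem F29921 : act 5 n13732 = n16787 := d11_0 F29920 (iv D13733) D13732
def n16788 : Q := act 3 n13732
theorem D16788 : act 3 n13732 = n16788 := rfl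
def n16789 : Q := act 2 n13734
theorem D16789 : act 2 n13734 = n16789 := rfl
theorem F29922 : act 4 n16789 = n13735 := d10_2 (iv F23502) D16789 (iv D13735)
theorem F29923 : act 5 n16789 = n13737 := d11_2 (iv F23503) D16789 (iv D13737)
def n16790 : Q := act 1 n13735
theorem D16790 : act 1 n13735 = n16790 := rfl
theorem F29924 : act 5 n16790 = n13736 := d8_2 (iv F23504) D16790 (iv D13736)
def n16791 : Q := act 0 n13736
theorem D16791 : act 0 n13736 = n16791 := rfl
theorem F29925 : act 4 n16791 = n13739 := d3_2 (iv F23505) D16791 (iv D13739)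
def n16792 : Q := act 1 n13737
theorem D16792 : act 1 n13737 = n16792 := rfl
theorem F29926 : act 4 n16792 = n13738 := d7_2 (iv F23506) D16792 (iv D13738)
def n16793 : Q := act 3 n13737
theorem D16793 : act 3 n13737 = n16793 := rfl
def n16794 : Q := act 0 n13738
theorem D16794 : act 0 n13738 = n16794 := rfl
theorem F29927 : act 5 n16794 = n13739 := d4_2 (iv F23507) D16794 (iv D13739)
def n16795 : Q := act 0 n13740
theorem D16795 : act 0 n13740 = n16795 := rfl
theorem F29928 : act 2 n16795 = n13894 := d1_2 (iv F23508) D16795 F23825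
theorem F29929 : act 5 n16795 = n13768 := d4_2 (iv F23509) D16795 (iv D13768)
def n16796 : Q := act 4 n13740
theorem D16796 : act 4 n13740 = n16796 := rfl
theorem F29930 : act 1 n16796 = n13741 := d7_1 D16796 (iv D13741) D13740
theorem F29931 : act 2 n16796 = n13897 := d10_1 D16796 (iv D13897) (iv F23508)
def n16797 : Q := act 3 n13741
theorem D16797 : act 3 n13741 = n16797 := rfl
def n16798 : Q := act 1 n13742
theorem D16798 : act 1 n13742 = n16798 := rfl
theorem F29932 : act 2 n16798 = n15074 := d5_2 D13742 D16798 F26190 F20227 (iv F18106)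
theorem F29933 : act 3 n16798 = n13775 := d6_2 (iv F23512) D16798 (iv D13775)
theorem F29934 : act 5 n16798 = n13769 := d8_2 (iv F23513) D16798 (iv D13769)
def n16799 : Q := act 4 n13742
theorem D16799 : act 4 n13742 = n16799 := rfl
theorem F29935 : act 0 n16799 = n13745 := d3_1 D16799 (iv D13745) (iv F23511)
theorem F29936 : act 2 n16799 = n13743 := d10_1 D16799 (iv D13743) D13742
theorem F29937 : act 5 n16799 = n15309 := d14_2 (iv F23513) D16799 (iv D15309) (iv D12212) (iv F18162)
def n16800 : Q := act 4 n13744
theorem D16800 : act 4 n13744 = n16800 := rfl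
theorem F29938 : act 0 n16800 = n13776 := d3_1 D16800 (iv D13776) (iv F23518)
theorem F29939 : act 2 n16800 = n13774 := d10_1 D16800 (iv D13774) (iv F23519)
def n16801 : Q := act 3 n13745
theorem D16801 : act 3 n13745 = n16801 := rfl
def n16802 : Q := act 2 n13747
theorem D16802 : act 2 n13747 = n16802 := rfl
theorem F29940 : act 0 n16802 = n16670 := d1_1 D16802 (iv D16670) (iv F23527)
theorem F29941 : act 4 n16802 = n13749 := d10_2 (iv F23529) D16802 (iv D13749)
def n16803 : Q := act 5 n13747
theorem D16803 : act 5 n13747 = n16803 := rfl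
theorem F29942 : act 0 n16803 = n16671 := d4_1 D16803 (iv D16671) (iv F23527)
theorem F29943 : act 1 n16803 = n13752 := d8_1 D16803 (iv D13752) (iv F23528)
theorem F29944 : act 3 n16803 = n13748 := d13_1 D16803 (iv D13748) D13747
def n16804 : Q := act 1 n13749
theorem D16804 : act 1 n13749 = n16804 := rfl
theorem F29945 : act 2 n16804 = n13753 := d5_2 D13749 D16804 (iv D13753) (iv D10814) (iv F18124)
theorem F29946 : act 5 n13814 = n16804 := d11_0 F29945 F23543 D13814
def n16805 : Q := act 3 n13749
theorem D16805 : act 3 n13749 = n16805 := rfl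
theorem F29947 : act 0 n16805 = n16783 := d2_1 D16805 (iv D16783) (iv F23534)
def n16806 : Q := act 5 n13749
theorem D16806 : act 5 n13749 = n16806 := rfl
theorem F29948 : act 0 n16806 = n16781 := d4_1 D16806 F29912 (iv F23534)
theorem F29949 : act 1 n16806 = n13814 := d8_1 D16806 F29946 (iv D16804)
theorem F29950 : act 2 n16806 = n13750 := d11_1 D16806 (iv D13750) D13749
def n16807 : Q := act 4 n13750
theorem D16807 : act 4 n13750 = n16807 := rfl
theorem F29951 : act 0 n16807 = n16780 := d3_1 D16807 F29911 (iv F23535)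
theorem F29952 : act 1 n16807 = n13754 := d7_1 D16807 (iv D13754) (iv F23536)
theorem F29953 : act 3 n16807 = n15403 := d12_1 D16807 (iv D15403) (iv D12305) (iv F18128) (iv F23537)
def n16808 : Q := act 1 n13751
theorem D16808 : act 1 n13751 = n16808 := rfl
theorem F29954 : act 4 n16808 = n13753 := d7_2 (iv F23539) D16808 (iv D13753)
def n16809 : Q := act 3 n13751
theorem D16809 : act 3 n13751 = n16809 := rfl
theorem F29955 : act 0 n16809 = n13760 := d2_1 D16809 (iv D13760) (iv F23538)
theorem F29956 : act 4 n16809 = n13818 := d12_2 (iv F23539) D16809 (iv D13818) (iv D10862) (iv F18135)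
def n16810 : Q := act 5 n13751
theorem D16810 : act 5 n13751 = n16810 := rfl
theorem F29957 : act 0 n16810 = n13761 := d4_1 D16810 (iv D13761) (iv F23538)
theorem F29958 : act 2 n16810 = n13752 := d11_1 D16810 (iv D13752) D13751
theorem F29959 : act 4 n16810 = n13817 := d14_1 D16810 (iv D13817) (iv D10861) F18136 (iv F23539)
def n16811 : Q := act 4 n13752
theorem D16811 : act 4 n13752 = n16811 := rfl
theorem F29960 : act 0 n16811 = n13762 := d3_1 D16811 (iv D13762) (iv F23540)
theorem F29961 : act 2 n16811 = n13817 := d10_1 D16811 (iv F29959) F29958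
theorem F29962 : act 3 n16811 = n14463 := d12_1 D16811 (iv D14463) F19199 (iv F18133) (iv F23541)
theorem F29963 : act 5 n16811 = n13754 := d14_2 D13752 D16811 (iv D13754) (iv D10815) (iv F18130)
def n16812 : Q := act 0 n13753
theorem D16812 : act 0 n13753 = n16812 := rfl
theorem F29964 : act 1 n16812 = n13763 := d0_2 D13753 D16812 (iv D13763) (iv D10821) (iv F18134)
theorem F29965 : act 3 n16812 = n13813 := d2_2 (iv F23542) D16812 F23660
theorem F29966 : act 5 n16812 = n13812 := d4_2 (iv F23543) D16812 F23659
def n16813 : Q := act 2 n13755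
theorem D16813 : act 2 n13755 = n16813 := rfl
theorem F29967 : act 0 n16813 = n16667 := d1_1 D16813 (iv D16667) (iv F23547)
theorem F29968 : act 4 n16813 = n14444 := d10_2 (iv F23549) D16813 (iv D14444)
def n16814 : Q := act 5 n13755
theorem D16814 : act 5 n13755 = n16814 := rfl
theorem F29969 : act 0 n16814 = n16668 := d4_1 D16814 (iv D16668) (iv F23547)
theorem F29970 : act 1 n16814 = n13758 := d8_1 D16814 (iv D13758) (iv F23548)
theorem F29971 : act 3 n16814 = n13756 := d13_1 D16814 (iv D13756) D13755
def n16815 : Q := act 1 n13757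
theorem D16815 : act 1 n13757 = n16815 := rfl
theorem F29972 : act 4 n16815 = n14452 := d7_2 (iv F23555) D16815 (iv D14452)
def n16816 : Q := act 3 n13757
theorem D16816 : act 3 n13757 = n16816 := rfl
theorem F29973 : act 0 n16816 = n14469 := d2_1 D16816 (iv D14469) (iv F23554)
def n16817 : Q := act 5 n13757
theorem D16817 : act 5 n13757 = n16817 := rfl
theorem F29974 : act 0 n16817 = n14467 := d4_1 D16817 F24883 (iv F23554)
theorem F29975 : act 2 n16817 = n13758 := d11_1 D16817 (iv D13758) D13757
def n16818 : Q := act 4 n13758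
theorem D16818 : act 4 n13758 = n16818 := rfl
theorem F29976 : act 0 n16818 = n14457 := d3_1 D16818 F24862 (iv F23556)
theorem F29977 : act 3 n16818 = n14448 := d12_1 D16818 (iv D14448) F19160 (iv F18147) (iv F23557)
theorem F29978 : act 5 n16818 = n14450 := d14_2 D13758 D16818 F24848 F19166 (iv F18144)
def n16819 : Q := act 0 n13759
theorem D16819 : act 0 n13759 = n16819 := rfl
theorem F29979 : act 2 n16819 = n16791 := d1_2 (iv F23558) D16819 (iv D16791)
theorem F29980 : act 4 n16819 = n13763 := d3_2 (iv F23559) D16819 (iv D13763)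
def n16820 : Q := act 3 n13759
theorem D16820 : act 3 n13759 = n16820 := rfl
theorem F29981 : act 1 n16820 = n13760 := d6_1 D16820 (iv D13760) D13759
def n16821 : Q := act 5 n13759
theorem D16821 : act 5 n13759 = n16821 := rfl
theorem F29982 : act 1 n16821 = n13761 := d8_1 D16821 (iv D13761) D13759
theorem F29983 : act 2 n16821 = n16790 := d11_1 D16821 F29924 (iv F23558)
def n16822 : Q := act 2 n13760
theorem D16822 : act 2 n13760 = n16822 := rfl
theorem F29984 : act 3 n16822 = n14467 := d15_3 D10819 D13760 D16822 (iv D14467) (iv D11442) (iv F18132) (iv F23541) (iv D13752) F18129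
theorem F29985 : act 5 n14469 = n16822 := d13_0 F29984 F24883 D14469
def n16823 : Q := act 4 n13760
theorem D16823 : act 4 n13760 = n16823 := rfl
theorem F29986 : act 0 n16823 = n13818 := d3_1 D16823 (iv F29956) F29955
theorem F29987 : act 3 n16823 = n13766 := d12_1 D16823 (iv D13766) (iv D10822) (iv F18148) D13760
def n16824 : Q := act 5 n13760
theorem D16824 : act 5 n13760 = n16824 := rfl
theorem F29988 : act 2 n16824 = n14469 := d11_1 D16824 F29985 (iv D16822)
theorem F29989 : act 3 n16824 = n13761 := d13_1 D16824 (iv D13761) D13760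
def n16825 : Q := act 4 n13761
theorem D16825 : act 4 n13761 = n16825 := rfl
theorem F29990 : act 0 n16825 = n13817 := d3_1 D16825 (iv F29959) F29957
theorem F29991 : act 2 n16825 = n13762 := d10_1 D16825 (iv D13762) (iv F23560)
theorem F29992 : act 5 n16825 = n13767 := d14_2 D13761 D16825 (iv D13767) (iv D10823) (iv F18148)
def n16826 : Q := act 3 n13763
theorem D16826 : act 3 n13763 = n16826 := rfl
theorem F29993 : act 0 n16826 = n13764 := d2_1 D16826 (iv D13764) D13763
theorem F29994 : act 1 n16826 = n13813 := d6_1 D16826 (iv F29965) F29964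
theorem F29995 : act 5 n13800 = n16826 := d8_0 F29994 (iv D13813) (iv F23640)
def n16827 : Q := act 5 n13763
theorem D16827 : act 5 n13763 = n16827 := rfl
theorem F29996 : act 0 n16827 = n13765 := d4_1 D16827 (iv D13765) D13763
theorem F29997 : act 1 n16827 = n13812 := d8_1 D16827 (iv F29966) F29964
theorem F29998 : act 2 n16827 = n16794 := d11_1 D16827 F29927 (iv F23564)
theorem F29999 : act 3 n16827 = n13800 := d13_1 D16827 F29995 (iv D16826)
def n16828 : Q := act 2 n13764
theorem D16828 : act 2 n13764 = n16828 := rfl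
theorem F30000 : act 1 n16828 = n13794 := d5_1 D16828 F23631 F18203 (iv F18153) (iv F23565)
theorem F30001 : act 5 n16828 = n13792 := d11_2 F23566 D16828 F23630
def n16829 : Q := act 4 n13764
theorem D16829 : act 4 n13764 = n16829 := rfl
theorem F30002 : act 1 n16829 = n13766 := d7_1 D16829 (iv D13766) (iv F23565)
def n16830 : Q := act 4 n13765
theorem D16830 : act 4 n13765 = n16830 := rfl
theorem F30003 : act 1 n16830 = n13767 := d7_1 D16830 (iv D13767) (iv F23567)
theorem F30004 : act 2 n16830 = n16792 := d10_1 D16830 F29926 (iv F23568)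
def n16831 : Q := act 5 n13766
theorem D16831 : act 5 n13766 = n16831 := rfl
theorem F30005 : act 0 n16831 = n13811 := d4_1 D16831 F23658 (iv F23570)
theorem F30006 : act 2 n16831 = n13799 := d11_1 D16831 F23639 (iv F23571)
theorem F30007 : act 4 n16831 = n13798 := d14_1 D16831 (iv D13798) F18206 (iv F18154) D13766
def n16832 : Q := act 3 n13767
theorem D16832 : act 3 n13767 = n16832 := rfl
theorem F30008 : act 0 n16832 = n13809 := d2_1 D16832 F23654 (iv F23572)
theorem F30009 : act 4 n16832 = n13797 := d12_2 D13767 D16832 (iv D13797) F18206 (iv F18157)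
def n16833 : Q := act 0 n13769
theorem D16833 : act 0 n13769 = n16833 := rfl
theorem F30010 : act 1 n16833 = n13770 := d0_2 D13769 D16833 (iv D13770) (iv D10827) (iv F18161)
theorem F30011 : act 2 n16833 = n15072 := d1_2 (iv F23575) D16833 (iv D15072)
theorem F30012 : act 3 n16833 = n15723 := d2_2 (iv F23576) D16833 (iv D15723)
theorem F30013 : act 4 n16833 = n15305 := d3_2 (iv F23577) D16833 (iv D15305)
def n16834 : Q := act 3 n13770
theorem D16834 : act 3 n13770 = n16834 := rfl
theorem F30014 : act 0 n16834 = n13771 := d2_1 D16834 (iv D13771) D13770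
theorem F30015 : act 1 n16834 = n15723 := d6_1 D16834 (iv F30012) F30010
def n16835 : Q := act 2 n13771
theorem D16835 : act 2 n13771 = n16835 := rfl
theorem F30016 : act 1 n16835 = n15713 := d5_1 D16835 (iv D15713) F21374 (iv F18166) (iv F23579)
def n16836 : Q := act 4 n13771
theorem D16836 : act 4 n13771 = n16836 := rfl
theorem F30017 : act 1 n16836 = n13772 := d7_1 D16836 (iv D13772) (iv F23579)
def n16837 : Q := act 5 n13772
theorem D16837 : act 5 n13772 = n16837 := rfl
theorem F30018 : act 0 n16837 = n15721 := d4_1 D16837 F27609 (iv F23580)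
theorem F30019 : act 2 n16837 = n15678 := d11_1 D16837 (iv D15678) (iv F23581)
def n16838 : Q := act 2 n13773
theorem D16838 : act 2 n13773 = n16838 := rfl
theorem F30020 : act 0 n16838 = n16759 := d1_1 D16838 (iv D16759) (iv F23582)
theorem F30021 : act 5 n16838 = n15713 := d11_2 (iv F23584) D16838 (iv D15713)
def n16839 : Q := act 4 n13773
theorem D16839 : act 4 n13773 = n16839 := rfl
theorem F30022 : act 0 n16839 = n16760 := d3_1 D16839 (iv D16760) (iv F23582)
theorem F30023 : act 1 n16839 = n13774 := d7_1 D16839 (iv D13774) (iv F23583)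
theorem F30024 : act 3 n16839 = n13886 := d12_1 D16839 (iv D13886) (iv D10923) (iv F18169) D13773
def n16840 : Q := act 5 n13774
theorem D16840 : act 5 n13774 = n16840 := rfl
theorem F30025 : act 0 n16840 = n13777 := d4_1 D16840 (iv D13777) (iv F23585)
theorem F30026 : act 3 n16840 = n13887 := d13_1 D16840 (iv D13887) (iv F23586)
theorem F30027 : act 4 n16840 = n15678 := d14_1 D16840 (iv D15678) F21318 (iv F18172) D13774
def n16841 : Q := act 0 n13775
theorem D16841 : act 0 n13775 = n16841 := rfl
theorem F30028 : act 2 n16841 = n16773 := d1_2 (iv F23587) D16841 (iv D16773)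
theorem F30029 : act 5 n16841 = n15723 := d4_2 (iv F23588) D16841 (iv D15723)
def n16842 : Q := act 4 n13775
theorem D16842 : act 4 n13775 = n16842 := rfl
theorem F30030 : act 1 n16842 = n13776 := d7_1 D16842 (iv D13776) D13775
theorem F30031 : act 2 n16842 = n16774 := d10_1 D16842 (iv D16774) (iv F23587)
def n16843 : Q := act 3 n13776
theorem D16843 : act 3 n13776 = n16843 := rfl
def n16844 : Q := act 5 n13776
theorem D16844 : act 5 n13776 = n16844 := rfl
theorem F30032 : act 2 n16844 = n13777 := d11_1 D16844 (iv D13777) (iv F23589)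
theorem F30033 : act 4 n16844 = n15721 := d14_1 D16844 F27609 F21386 (iv F18173) D13776
def n16845 : Q := act 2 n13778
theorem D16845 : act 2 n13778 = n16845 := rfl
theorem F30034 : act 0 n16845 = n13779 := d1_1 D16845 (iv D13779) (iv F23593)
theorem F30035 : act 1 n16845 = n13919 := d5_1 D16845 (iv D13919) F18397 (iv F18186) (iv F23594)
theorem F30036 : act 5 n16845 = n13961 := d11_2 (iv F23595) D16845 (iv D13961)
def n16846 : Q := act 4 n13778
theorem D16846 : act 4 n13778 = n16846 := rfl
theorem F30037 : act 0 n16846 = n13780 := d3_1 D16846 (iv D13780) (iv F23593)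
theorem F30038 : act 1 n16846 = n13782 := d7_1 D16846 (iv D13782) (iv F23594)
theorem F30039 : act 3 n16846 = n15350 := d12_1 D16846 (iv D15350) (iv D12249) (iv F18178) D13778
theorem F30040 : act 5 n16846 = n15475 := d14_2 (iv F23595) D16846 (iv D15475) (iv D12388) (iv F18453)
def n16847 : Q := act 3 n13779
theorem D16847 : act 3 n13779 = n16847 := rfl
theorem F30041 : act 1 n16847 = n14484 := d6_1 D16847 (iv D14484) (iv F23596)
theorem F30042 : act 5 n16847 = n14517 := d13_2 (iv F23597) D16847 (iv D14517)
def n16848 : Q := act 4 n13779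
theorem D16848 : act 4 n13779 = n16848 := rfl
theorem F30043 : act 1 n16848 = n14485 := d7_1 D16848 (iv D14485) (iv F23596)
theorem F30044 : act 2 n16848 = n13780 := d10_1 D16848 (iv D13780) D13779
def n16849 : Q := act 5 n13780
theorem D16849 : act 5 n13780 = n16849 := rfl
theorem F30045 : act 0 n16849 = n15475 := d4_1 D16849 (iv F30040) F30037
theorem F30046 : act 1 n16849 = n13781 := d8_1 D16849 (iv D13781) (iv F23598)
theorem F30047 : act 4 n16849 = n14522 := d14_1 D16849 (iv D14522) (iv D11496) (iv F18181) D13780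
def n16850 : Q := act 0 n13783
theorem D16850 : act 0 n13783 = n16850 := rfl
theorem F30048 : act 1 n16850 = n13917 := d0_2 D13783 D16850 F23880 F18397 (iv F18187)
theorem F30049 : act 2 n16850 = n13786 := d1_2 (iv F23606) D16850 (iv D13786)
theorem F30050 : act 3 n16850 = n13909 := d2_2 (iv F23607) D16850 (iv D13909)
theorem F30051 : act 5 n16850 = n13962 := d4_2 (iv F23608) D16850 (iv D13962)
def n16851 : Q := act 4 n13783
theorem D16851 : act 4 n13783 = n16851 := rfl
theorem F30052 : act 1 n16851 = n13784 := d7_1 D16851 (iv D13784) D13783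
theorem F30053 : act 2 n16851 = n13787 := d10_1 D16851 (iv D13787) (iv F23606)
theorem F30054 : act 3 n16851 = n14935 := d12_1 D16851 (iv D14935) (iv D11862) (iv F18376) (iv F23607)
def n16852 : Q := act 5 n13784
theorem D16852 : act 5 n13784 = n16852 := rfl
theorem F30055 : act 0 n16852 = n13923 := d4_1 D16852 (iv D13923) (iv F23609)
theorem F30056 : act 2 n16852 = n13785 := d11_1 D16852 (iv D13785) (iv F23610)
theorem F30057 : act 3 n16852 = n14936 := d13_1 D16852 (iv D14936) (iv F23611)
theorem F30058 : act 4 n16852 = n13965 := d14_1 D16852 (iv D13965) (iv D10989) (iv F18188) D13784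
def n16853 : Q := act 4 n13786
theorem D16853 : act 4 n13786 = n16853 := rfl
theorem F30059 : act 0 n16853 = n13787 := d3_1 D16853 (iv D13787) D13786
theorem F30060 : act 1 n16853 = n14483 := d7_1 D16853 (iv D14483) (iv F23616)
def n16854 : Q := act 3 n13787
theorem D16854 : act 3 n13787 = n16854 := rfl
theorem F30061 : act 1 n16854 = n13788 := d6_1 D16854 (iv D13788) (iv F23619)
theorem F30062 : act 4 n16854 = n14453 := d12_2 D13787 D16854 (iv D14453) F19168 (iv F18192)
def n16855 : Q := act 5 n13787
theorem D16855 : act 5 n13787 = n16855 := rfl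
theorem F30063 : act 1 n16855 = n13789 := d8_1 D16855 (iv D13789) (iv F23619)
theorem F30064 : act 4 n16855 = n14497 := d14_1 D16855 (iv D14497) (iv D11472) (iv F18193) D13787
def n16856 : Q := act 2 n13788
theorem D16856 : act 2 n13788 = n16856 := rfl
theorem F30065 : act 0 n16856 = n14480 := d1_1 D16856 F24900 (iv F23620)
theorem F30066 : act 4 n16856 = n14454 := d10_2 (iv F23621) D16856 (iv D14454)
def n16857 : Q := act 5 n13788
theorem D16857 : act 5 n13788 = n16857 := rfl
theorem F30067 : act 0 n16857 = n14481 := d4_1 D16857 (iv D14481) (iv F23620)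
theorem F30068 : act 3 n16857 = n13789 := d13_1 D16857 (iv D13789) D13788
def n16858 : Q := act 1 n13790
theorem D16858 : act 1 n13790 = n16858 := rfl
theorem F30069 : act 2 n16858 = n13796 := d5_2 D13790 D16858 (iv D13796) (iv D10847) (iv F18197)
theorem F30070 : act 4 n16858 = n13792 := d7_2 (iv F23626) D16858 (iv D13792)
def n16859 : Q := act 3 n13790
theorem D16859 : act 3 n13790 = n16859 := rfl
theorem F30071 : act 0 n16859 = n14768 := d2_1 D16859 (iv D14768) (iv F23625)
def n16860 : Q := act 5 n13790
theorem D16860 : act 5 n13790 = n16860 := rfl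
theorem F30072 : act 0 n16860 = n14769 := d4_1 D16860 (iv D14769) (iv F23625)
theorem F30073 : act 2 n16860 = n13791 := d11_1 D16860 (iv D13791) D13790
def n16861 : Q := act 4 n13791
theorem D16861 : act 4 n13791 = n16861 := rfl
theorem F30074 : act 0 n16861 = n14770 := d3_1 D16861 (iv D14770) (iv F23627)
theorem F30075 : act 1 n16861 = n13799 := d7_1 D16861 (iv D13799) (iv F23628)
theorem F30076 : act 3 n16861 = n14501 := d12_1 D16861 (iv D14501) F19260 (iv F18202) (iv F23629)
theorem F30077 : act 5 n16861 = n13795 := d14_2 D13791 D16861 (iv D13795) (iv D10846) (iv F18198)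
def n16862 : Q := act 0 n13792
theorem D16862 : act 0 n13792 = n16862 := rfl
theorem F30078 : act 2 n16862 = n13800 := d1_2 (iv F23630) D16862 (iv D13800)
def n16863 : Q := act 3 n13792
theorem D16863 : act 3 n13792 = n16863 := rfl
theorem F30079 : act 1 n16863 = n13793 := d6_1 D16863 (iv D13793) D13792
def n16864 : Q := act 4 n13793
theorem D16864 : act 4 n13793 = n16864 := rfl
def n16865 : Q := act 4 n13794
theorem D16865 : act 4 n13794 = n16865 := rfl
theorem F30080 : act 2 n16865 = n13795 := d10_1 D16865 (iv D13795) (iv F23631)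
def n16866 : Q := act 0 n13796
theorem D16866 : act 0 n13796 = n16866 := rfl
theorem F30081 : act 1 n16866 = n13805 := d0_2 D13796 D16866 (iv D13805) (iv D10854) (iv F18205)
theorem F30082 : act 4 n16866 = n13800 := d3_2 (iv F23633) D16866 (iv D13800)
def n16867 : Q := act 3 n13796
theorem D16867 : act 3 n13796 = n16867 := rfl
theorem F30083 : act 1 n16867 = n13797 := d6_1 D16867 (iv D13797) D13796
def n16868 : Q := act 5 n13796
theorem D16868 : act 5 n13796 = n16868 := rfl
theorem F30084 : act 1 n16868 = n13798 := d8_1 D16868 (iv D13798) D13796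
def n16869 : Q := act 2 n13797
theorem D16869 : act 2 n13797 = n16869 := rfl
theorem F30085 : act 0 n16869 = n13808 := d1_1 D16869 (iv D13808) (iv F23634)
theorem F30086 : act 3 n16869 = n13803 := d9_2 D13797 D16869 F23644 F18217 F14006 (iv F14009) (iv F18219) (iv F23656) F23655 (iv D11126) F14301 F10928 (iv F10684) D8420 D10847
theorem F30087 : act 5 n13802 = n16869 := d13_0 F30086 (iv D13803) D13802
def n16870 : Q := act 5 n13797
theorem D16870 : act 5 n13797 = n16870 := rfl
theorem F30088 : act 0 n16870 = n13810 := d4_1 D16870 (iv D13810) (iv F23634)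
theorem F30089 : act 2 n16870 = n13802 := d11_1 D16870 F30087 (iv D16869)
theorem F30090 : act 3 n16870 = n13798 := d13_1 D16870 (iv D13798) D13797
def n16871 : Q := act 0 n13801
theorem D16871 : act 0 n13801 = n16871 := rfl
theorem F30091 : act 1 n16871 = n14131 := d0_2 D13801 D16871 F24192 F18636 (iv F18214)
theorem F30092 : act 4 n16871 = n14128 := d3_2 (iv F23641) D16871 (iv D14128)
def n16872 : Q := act 3 n13801
theorem D16872 : act 3 n13801 = n16872 := rfl
theorem F30093 : act 1 n16872 = n13802 := d6_1 D16872 (iv D13802) D13801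
def n16873 : Q := act 5 n13801
theorem D16873 : act 5 n13801 = n16873 := rfl
theorem F30094 : act 1 n16873 = n13803 := d8_1 D16873 (iv D13803) D13801
def n16874 : Q := act 4 n13802
theorem D16874 : act 4 n13802 = n16874 := rfl
theorem F30095 : act 0 n16874 = n14137 := d3_1 D16874 F24207 (iv F23642)
theorem F30096 : act 3 n16874 = n14130 := d12_1 D16874 (iv D14130) (iv D11119) (iv F18215) D13802
def n16875 : Q := act 4 n13803
theorem D16875 : act 4 n13803 = n16875 := rfl
theorem F30097 : act 0 n16875 = n14134 := d3_1 D16875 F24200 (iv F23643)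
theorem F30098 : act 2 n16875 = n13804 := d10_1 D16875 (iv D13804) (iv F23644)
theorem F30099 : act 5 n16875 = n14131 := d14_2 D13803 D16875 (iv D14131) (iv D11120) (iv F18215)
def n16876 : Q := act 3 n13805
theorem D16876 : act 3 n13805 = n16876 := rfl
theorem F30100 : act 0 n16876 = n13806 := d2_1 D16876 (iv D13806) D13805
def n16877 : Q := act 5 n13805
theorem D16877 : act 5 n13805 = n16877 := rfl
theorem F30101 : act 0 n16877 = n13807 := d4_1 D16877 (iv D13807) D13805
theorem F30102 : act 2 n16877 = n15939 := d11_1 D16877 (iv F28018) F26920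
def n16878 : Q := act 2 n13806
theorem D16878 : act 2 n13806 = n16878 := rfl
def n16879 : Q := act 4 n13806
theorem D16879 : act 4 n13806 = n16879 := rfl
theorem F30103 : act 1 n16879 = n13809 := d7_1 D16879 (iv D13809) (iv F23649)
theorem F30104 : act 3 n16879 = n13815 := d12_1 D16879 (iv D13815) (iv D10859) (iv F18218) D13806
def n16880 : Q := act 5 n13806
theorem D16880 : act 5 n13806 = n16880 := rfl
theorem F30105 : act 1 n16880 = n13810 := d8_1 D16880 (iv D13810) (iv F23649)
theorem F30106 : act 3 n16880 = n13807 := d13_1 D16880 (iv D13807) D13806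
def n16881 : Q := act 4 n13807
theorem D16881 : act 4 n13807 = n16881 := rfl
theorem F30107 : act 1 n16881 = n13811 := d7_1 D16881 (iv D13811) (iv F23650)
theorem F30108 : act 2 n16881 = n15482 := d10_1 D16881 F27079 (iv F23651)
theorem F30109 : act 5 n16881 = n13816 := d14_2 D13807 D16881 (iv D13816) (iv D10860) (iv F18218)
def n16882 : Q := act 1 n13808
theorem D16882 : act 1 n13808 = n16882 := rfl
theorem F30110 : act 3 n16882 = n14134 := d6_2 (iv F23652) D16882 F24198
theorem F30111 : act 5 n16882 = n14133 := d8_2 F23653 D16882 F24197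
def n16883 : Q := act 4 n13808
theorem D16883 : act 4 n13808 = n16883 := rfl
theorem F30112 : act 2 n16883 = n13809 := d10_1 D16883 (iv D13809) D13808
def n16884 : Q := act 5 n13809
theorem D16884 : act 5 n13809 = n16884 := rfl
theorem F30113 : act 3 n16884 = n13817 := d13_1 D16884 (iv D13817) (iv F23654)
def n16885 : Q := act 4 n13810
theorem D16885 : act 4 n13810 = n16885 := rfl
theorem F30114 : act 2 n16885 = n14137 := d10_1 D16885 F24207 (iv F23655)
def n16886 : Q := act 3 n13811
theorem D16886 : act 3 n13811 = n16886 := rfl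
theorem F30115 : act 5 n16886 = n13818 := d13_2 (iv F23658) D16886 (iv D13818)
def n16887 : Q := act 2 n13812
theorem D16887 : act 2 n13812 = n16887 := rfl
theorem F30116 : act 0 n16887 = n13814 := d1_1 D16887 (iv D13814) (iv F23659)
def n16888 : Q := act 4 n13812
theorem D16888 : act 4 n13812 = n16888 := rfl
theorem F30117 : act 0 n16888 = n13815 := d3_1 D16888 (iv D13815) (iv F23659)
def n16889 : Q := act 4 n13813
theorem D16889 : act 4 n13813 = n16889 := rfl
theorem F30118 : act 0 n16889 = n13816 := d3_1 D16889 (iv D13816) (iv F23660)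
def n16890 : Q := act 3 n13814
theorem D16890 : act 3 n13814 = n16890 := rfl
def n16891 : Q := act 4 n13814
theorem D16891 : act 4 n13814 = n16891 := rfl
theorem F30119 : act 2 n16891 = n13815 := d10_1 D16891 (iv D13815) D13814
def n16892 : Q := act 5 n13815
theorem D16892 : act 5 n13815 = n16892 := rfl
theorem F30120 : act 1 n16892 = n13817 := d8_1 D16892 (iv D13817) (iv F23661)
def n16893 : Q := act 3 n13816
theorem D16893 : act 3 n13816 = n16893 := rfl
theorem F30121 : act 1 n16893 = n13818 := d6_1 D16893 (iv D13818) (iv F23662)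
def n16894 : Q := act 2 n13818
theorem D16894 : act 2 n13818 = n16894 := rfl
def n16895 : Q := act 4 n13819
theorem D16895 : act 4 n13819 = n16895 := rfl
theorem F30122 : act 0 n16895 = n15673 := d3_1 D16895 (iv D15673) (iv F23663)
theorem F30123 : act 2 n16895 = n13820 := d10_1 D16895 (iv D13820) D13819
def n16896 : Q := act 5 n13820
theorem D16896 : act 5 n13820 = n16896 := rfl
theorem F30124 : act 0 n16896 = n15677 := d4_1 D16896 (iv D15677) (iv F23665)
theorem F30125 : act 1 n16896 = n13821 := d8_1 D16896 (iv D13821) (iv F23666)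
theorem F30126 : act 4 n16896 = n15708 := d14_1 D16896 (iv D15708) (iv D12634) (iv F18226) D13820
def n16897 : Q := act 0 n13823
theorem D16897 : act 0 n13823 = n16897 := rfl
theorem F30127 : act 1 n16897 = n13828 := d0_2 D13823 D16897 (iv D13828) (iv D10872) (iv F18233)
theorem F30128 : act 2 n16897 = n13885 := d1_2 (iv F23671) D16897 (iv D13885)
theorem F30129 : act 4 n16897 = n13827 := d3_2 (iv F23672) D16897 (iv D13827)
theorem F30130 : act 5 n16897 = n15318 := d4_2 F23673 D16897 F26747
theorem F30131 : act 3 n15684 = n16897 := d15_7 (iv D12222) (iv D9527) F12192 D7611 D9870 D12612 D15684 F30130 F26747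
def n16898 : Q := act 3 n13823
theorem D16898 : act 3 n13823 = n16898 := rfl
theorem F30132 : act 0 n16898 = n15684 := d2_1 D16898 F30131 (iv D16897)
theorem F30133 : act 1 n16898 = n13824 := d6_1 D16898 (iv D13824) D13823
theorem F30134 : act 4 n16898 = n14418 := d12_2 (iv F23672) D16898 (iv D14418) (iv D11377) (iv F18239)
theorem F30135 : act 5 n16898 = n15321 := d13_2 F23673 D16898 (iv D15321)
theorem F30136 : act 2 n16898 = n15682 := d15_2 (iv F23671) D16898 (iv D15682) (iv D12610) (iv D9869) (iv F15921) D12220 (iv F23805) (iv D13885)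
def n16899 : Q := act 3 n13828
theorem D16899 : act 3 n13828 = n16899 := rfl
theorem F30137 : act 0 n16899 = n13829 := d2_1 D16899 (iv D13829) D13828
theorem F30138 : act 1 n16899 = n15684 := d6_1 D16899 F30131 F30127
theorem F30139 : act 2 n16899 = n16863 := d15_2 F29753 D16899 (iv D16863) F23630 (iv F23569) F23568 (iv F29750) F29751 D16715
def n16900 : Q := act 5 n13828
theorem D16900 : act 5 n13828 = n16900 := rfl
theorem F30140 : act 0 n16900 = n13830 := d4_1 D16900 (iv D13830) D13828
theorem F30141 : act 1 n16900 = n15318 := d8_1 D16900 (iv F30130) F30127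
def n16901 : Q := act 2 n13829
theorem D16901 : act 2 n13829 = n16901 := rfl
theorem F30142 : act 0 n16901 = n16863 := d1_1 D16901 (iv F30139) F30137
theorem F30143 : act 1 n16901 = n15382 := d5_1 D16901 (iv D15382) F23693 (iv D13831) (iv F23690)
theorem F30144 : act 3 n16901 = n16862 := d15_5 F18151 (iv F23287) F23286 D13829 D16901 F30078 (iv F29999) (iv D16827) (iv D13763)
def n16902 : Q := act 4 n13829
theorem D16902 : act 4 n13829 = n16902 := rfl
theorem F30145 : act 1 n16902 = n13832 := d7_1 D16902 (iv D13832) (iv F23690)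
theorem F30146 : act 3 n16902 = n13838 := d12_1 D16902 (iv D13838) (iv D10877) (iv F18245) D13829
def n16903 : Q := act 5 n13829
theorem D16903 : act 5 n13829 = n16903 := rfl
theorem F30147 : act 1 n16903 = n13833 := d8_1 D16903 (iv D13833) (iv F23690)
theorem F30148 : act 3 n16903 = n13830 := d13_1 D16903 (iv D13830) D13829
def n16904 : Q := act 4 n13830
theorem D16904 : act 4 n13830 = n16904 := rfl
theorem F30149 : act 1 n16904 = n13834 := d7_1 D16904 (iv D13834) (iv F23691)
theorem F30150 : act 5 n16904 = n13839 := d14_2 D13830 D16904 (iv D13839) (iv D10878) (iv F18245)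
def n16905 : Q := act 4 n13831
theorem D16905 : act 4 n13831 = n16905 := rfl
theorem F30151 : act 0 n16905 = n14419 := d3_1 D16905 F27661 F27658
theorem F30152 : act 1 n16905 = n15383 := d7_1 D16905 (iv D15383) F23693
theorem F30153 : act 2 n16905 = n13832 := d10_1 D16905 (iv D13832) D13831
def n16906 : Q := act 5 n13832
theorem D16906 : act 5 n13832 = n16906 := rfl
theorem F30154 : act 0 n16906 = n14411 := d4_1 D16906 F24770 (iv F23695)
theorem F30155 : act 3 n16906 = n13840 := d13_1 D16906 (iv D13840) (iv F23696)
def n16907 : Q := act 4 n13833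
theorem D16907 : act 4 n13833 = n16907 := rfl
theorem F30156 : act 2 n16907 = n14914 := d10_1 D16907 (iv D14914) (iv F23697)
def n16908 : Q := act 3 n13834
theorem D16908 : act 3 n13834 = n16908 := rfl
theorem F30157 : act 0 n16908 = n14409 := d2_1 D16908 F24769 (iv F23699)
theorem F30158 : act 5 n16908 = n13841 := d13_2 (iv F23701) D16908 (iv D13841)
def n16909 : Q := act 2 n13835
theorem D16909 : act 2 n13835 = n16909 := rfl
theorem F30159 : act 0 n16909 = n13837 := d1_1 D16909 (iv D13837) (iv F23702)
theorem F30160 : act 5 n16909 = n14386 := d11_2 F23704 D16909 F24737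
def n16910 : Q := act 4 n13835
theorem D16910 : act 4 n13835 = n16910 := rfl
theorem F30161 : act 0 n16910 = n13838 := d3_1 D16910 (iv D13838) (iv F23702)
theorem F30162 : act 1 n16910 = n14414 := d7_1 D16910 (iv D14414) (iv F23703)
def n16911 : Q := act 4 n13836
theorem D16911 : act 4 n13836 = n16911 := rfl
theorem F30163 : act 0 n16911 = n13839 := d3_1 D16911 (iv D13839) (iv F23705)
theorem F30164 : act 1 n16911 = n14413 := d7_1 D16911 (iv D14413) (iv F23706)
def n16912 : Q := act 3 n13837
theorem D16912 : act 3 n13837 = n16912 := rfl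
theorem F30165 : act 1 n16912 = n14390 := d6_1 D16912 F24745 (iv F23708)
theorem F30166 : act 5 n16912 = n14387 := d13_2 (iv F23709) D16912 (iv D14387)
def n16913 : Q := act 4 n13837
theorem D16913 : act 4 n13837 = n16913 := rfl
theorem F30167 : act 1 n16913 = n14391 := d7_1 D16913 (iv D14391) (iv F23708)
theorem F30168 : act 2 n16913 = n13838 := d10_1 D16913 (iv D13838) D13837
def n16914 : Q := act 5 n13838
theorem D16914 : act 5 n13838 = n16914 := rfl
theorem F30169 : act 1 n16914 = n13840 := d8_1 D16914 (iv D13840) (iv F23710)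
theorem F30170 : act 4 n16914 = n14394 := d14_1 D16914 (iv D14394) F19059 F18249 D13838
def n16915 : Q := act 3 n13839
theorem D16915 : act 3 n13839 = n16915 := rfl
theorem F30171 : act 1 n16915 = n13841 := d6_1 D16915 (iv D13841) (iv F23711)
theorem F30172 : act 4 n16915 = n14393 := d12_2 D13839 D16915 (iv D14393) F19059 (iv F18251)
def n16916 : Q := act 2 n13841
theorem D16916 : act 2 n13841 = n16916 := rfl
theorem F30173 : act 0 n16916 = n14408 := d1_1 D16916 F24768 (iv F23715)
theorem F30174 : act 4 n16916 = n14395 := d10_2 (iv F23716) D16916 (iv D14395)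
def n16917 : Q := act 2 n13847
theorem D16917 : act 2 n13847 = n16917 := rfl
theorem F30175 : act 0 n16917 = n13849 := d1_1 D16917 (iv D13849) (iv F23737)
theorem F30176 : act 3 n16917 = n14535 := d15_1 D16917 (iv D14535) (iv D11508) F14825 (iv F14057) (iv F18275) (iv F23743) (iv D13851) (iv F23737)
def n16918 : Q := act 4 n13847
theorem D16918 : act 4 n13847 = n16918 := rfl
theorem F30177 : act 0 n16918 = n13850 := d3_1 D16918 (iv D13850) (iv F23737)
theorem F30178 : act 1 n16918 = n15765 := d7_1 D16918 F27704 F25581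
theorem F30179 : act 3 n16918 = n15630 := d12_1 D16918 (iv D15630) (iv D12552) (iv F18272) D13847
theorem F30180 : act 5 n16918 = n15764 := d14_2 (iv F25575) D16918 (iv D15764) (iv F21448) (iv F25573)
def n16919 : Q := act 1 n13849
theorem D16919 : act 1 n13849 = n16919 := rfl
theorem F30181 : act 2 n16919 = n13852 := d5_2 D13849 D16919 (iv D13852) (iv D10889) (iv F18273)
theorem F30182 : act 5 n13860 = n16919 := d11_0 F30181 F23745 D13860
def n16920 : Q := act 3 n13849
theorem D16920 : act 3 n13849 = n16920 := rfl
theorem F30183 : act 0 n16920 = n14535 := d2_1 D16920 (iv F30176) F30175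
theorem F30184 : act 2 n16920 = n14534 := d15_2 D13849 D16920 (iv D14534) F19306 (iv F18290) (iv F23739) F25574 (iv F25575) F23737
def n16921 : Q := act 4 n13849
theorem D16921 : act 4 n13849 = n16921 := rfl
theorem F30185 : act 2 n16921 = n13850 := d10_1 D16921 (iv D13850) D13849
def n16922 : Q := act 5 n13849
theorem D16922 : act 5 n13849 = n16922 := rfl
theorem F30186 : act 1 n16922 = n13860 := d8_1 D16922 F30182 (iv D16919)
theorem F30187 : act 2 n16922 = n13851 := d11_1 D16922 (iv D13851) D13849
def n16923 : Q := act 5 n13850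
theorem D16923 : act 5 n13850 = n16923 := rfl
theorem F30188 : act 0 n16923 = n15764 := d4_1 D16923 (iv F30180) F30177
theorem F30189 : act 1 n16923 = n13854 := d8_1 D16923 (iv D13854) (iv F23740)
theorem F30190 : act 3 n16923 = n15633 := d13_1 D16923 (iv D15633) (iv F23741)
theorem F30191 : act 4 n16923 = n15761 := d14_1 D16923 (iv F27694) F25590 (iv D13851) D13850
def n16924 : Q := act 4 n13852
theorem D16924 : act 4 n13852 = n16924 := rfl
theorem F30192 : act 1 n16924 = n13853 := d7_1 D16924 (iv D13853) D13852
def n16925 : Q := act 3 n13853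
theorem D16925 : act 3 n13853 = n16925 := rfl
theorem F30193 : act 0 n16925 = n13868 := d2_1 D16925 (iv D13868) (iv F23746)
theorem F30194 : act 4 n16925 = n13864 := d12_2 D13853 D16925 (iv D13864) (iv D10900) (iv F18277)
def n16926 : Q := act 5 n13853
theorem D16926 : act 5 n13853 = n16926 := rfl
theorem F30195 : act 0 n16926 = n13867 := d4_1 D16926 F23774 (iv F23746)
theorem F30196 : act 2 n16926 = n13854 := d11_1 D16926 (iv D13854) (iv F23747)
theorem F30197 : act 4 n16926 = n13863 := d14_1 D16926 (iv D13863) (iv D10899) F18278 D13853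
def n16927 : Q := act 1 n13857
theorem D16927 : act 1 n13857 = n16927 := rfl
theorem F30198 : act 0 n16927 = n14531 := d0_1 D16927 F24998 F19300 (iv F18291) (iv F23759)
theorem F30199 : act 2 n16927 = n14550 := d5_2 D13857 D16927 F25036 F19357 (iv F18286)
theorem F30200 : act 5 n16927 = n14529 := d8_2 (iv F23760) D16927 F24994
def n16928 : Q := act 3 n13857
theorem D16928 : act 3 n13857 = n16928 := rfl
theorem F30201 : act 0 n16928 = n13858 := d2_1 D16928 (iv D13858) (iv F23759)
theorem F30202 : act 5 n16928 = n14534 := d13_2 (iv F23760) D16928 (iv D14534)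
def n16929 : Q := act 2 n13858
theorem D16929 : act 2 n13858 = n16929 := rfl
theorem F30203 : act 5 n16929 = n14535 := d11_2 (iv F23762) D16929 (iv D14535)
def n16930 : Q := act 4 n13858
theorem D16930 : act 4 n13858 = n16930 := rfl
theorem F30204 : act 1 n16930 = n14540 := d7_1 D16930 (iv D14540) (iv F23761)
def n16931 : Q := act 2 n13859
theorem D16931 : act 2 n13859 = n16931 := rfl
theorem F30205 : act 0 n16931 = n13860 := d1_1 D16931 (iv D13860) (iv F23763)
def n16932 : Q := act 4 n13859
theorem D16932 : act 4 n13859 = n16932 := rfl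
theorem F30206 : act 0 n16932 = n13861 := d3_1 D16932 (iv D13861) (iv F23763)
theorem F30207 : act 1 n16932 = n13865 := d7_1 D16932 (iv D13865) (iv F23764)
def n16933 : Q := act 3 n13860
theorem D16933 : act 3 n13860 = n16933 := rfl
def n16934 : Q := act 4 n13860
theorem D16934 : act 4 n13860 = n16934 := rfl
theorem F30208 : act 2 n16934 = n13861 := d10_1 D16934 (iv D13861) D13860
def n16935 : Q := act 5 n13861
theorem D16935 : act 5 n13861 = n16935 := rfl
theorem F30209 : act 1 n16935 = n13863 := d8_1 D16935 (iv D13863) (iv F23765)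
def n16936 : Q := act 3 n13862
theorem D16936 : act 3 n13862 = n16936 := rfl
theorem F30210 : act 1 n16936 = n13864 := d6_1 D16936 (iv D13864) (iv F23766)
def n16937 : Q := act 5 n13865
theorem D16937 : act 5 n13865 = n16937 := rfl
theorem F30211 : act 0 n16937 = n13866 := d4_1 D16937 (iv D13866) (iv F23770)
theorem F30212 : act 2 n16937 = n15767 := d11_1 D16937 F27711 F24569
def n16938 : Q := act 3 n13867
theorem D16938 : act 3 n13867 = n16938 := rfl
theorem F30213 : act 5 n16938 = n13868 := d13_2 (iv F23774) D16938 (iv D13868)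
def n16939 : Q := act 2 n13868
theorem D16939 : act 2 n13868 = n16939 := rfl
theorem F30214 : act 4 n16939 = n13869 := d10_2 (iv F23775) D16939 (iv D13869)
def n16940 : Q := act 1 n13869
theorem D16940 : act 1 n13869 = n16940 := rfl
def n16941 : Q := act 2 n13871
theorem D16941 : act 2 n13871 = n16941 := rfl
theorem F30215 : act 0 n16941 = n15846 := d1_1 D16941 (iv D15846) (iv F23780)
theorem F30216 : act 4 n16941 = n14983 := d10_2 (iv F23782) D16941 (iv D14983)
theorem F30217 : act 5 n16941 = n13882 := d11_2 (iv F23783) D16941 (iv D13882)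
def n16942 : Q := act 1 n13872
theorem D16942 : act 1 n13872 = n16942 := rfl
theorem F30218 : act 4 n16942 = n14985 := d7_2 (iv F23785) D16942 (iv D14985)
theorem F30219 : act 5 n16942 = n13883 := d8_2 (iv F23786) D16942 (iv D13883)
def n16943 : Q := act 4 n13873
theorem D16943 : act 4 n13873 = n16943 := rfl
theorem F30220 : act 1 n16943 = n13875 := d7_1 D16943 (iv D13875) D13873
def n16944 : Q := act 4 n13874
theorem D16944 : act 4 n13874 = n16944 := rfl
theorem F30221 : act 0 n16944 = n13879 := d3_1 D16944 (iv D13879) (iv F23787)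
theorem F30222 : act 2 n16944 = n15787 := d10_1 D16944 (iv D15787) (iv F23788)
def n16945 : Q := act 3 n13875
theorem D16945 : act 3 n13875 = n16945 := rfl
theorem F30223 : act 0 n16945 = n13880 := d2_1 D16945 (iv D13880) (iv F23790)
def n16946 : Q := act 5 n13875
theorem D16946 : act 5 n13875 = n16946 := rfl
theorem F30224 : act 0 n16946 = n13881 := d4_1 D16946 (iv D13881) (iv F23790)
theorem F30225 : act 2 n16946 = n13876 := d11_1 D16946 (iv D13876) (iv F23791)
def n16947 : Q := act 2 n13877
theorem D16947 : act 2 n13877 = n16947 := rfl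
theorem F30226 : act 0 n16947 = n13882 := d1_1 D16947 (iv D13882) (iv F23793)
theorem F30227 : act 5 n16947 = n15846 := d11_2 (iv F23795) D16947 (iv D15846)
def n16948 : Q := act 4 n13878
theorem D16948 : act 4 n13878 = n16948 := rfl
theorem F30228 : act 0 n16948 = n15787 := d3_1 D16948 (iv D15787) (iv F23796)
theorem F30229 : act 2 n16948 = n13879 := d10_1 D16948 (iv D13879) D13878
def n16949 : Q := act 3 n13879
theorem D16949 : act 3 n13879 = n16949 := rfl
theorem F30230 : act 4 n16949 = n13880 := d12_2 D13879 D16949 (iv D13880) (iv D10917) D10916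
def n16950 : Q := act 5 n13879
theorem D16950 : act 5 n13879 = n16950 := rfl
def n16951 : Q := act 2 n13880
theorem D16951 : act 2 n13880 = n16951 := rfl
def n16952 : Q := act 5 n13880
theorem D16952 : act 5 n13880 = n16952 := rfl
theorem F30231 : act 3 n16952 = n13881 := d13_1 D16952 (iv D13881) D13880
def n16953 : Q := act 1 n13882
theorem D16953 : act 1 n13882 = n16953 := rfl
theorem F30232 : act 2 n16953 = n13883 := d5_2 D13882 D16953 (iv D13883) (iv D10920) (iv F18324)
def n16954 : Q := act 0 n13883
theorem D16954 : act 0 n13883 = n16954 := rfl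
def n16955 : Q := act 3 n13883
theorem D16955 : act 3 n13883 = n16955 := rfl
theorem F30233 : act 1 n16955 = n13884 := d6_1 D16955 (iv D13884) D13883
def n16956 : Q := act 5 n13886
theorem D16956 : act 5 n13886 = n16956 := rfl
theorem F30234 : act 1 n16956 = n13887 := d8_1 D16956 (iv D13887) (iv F23806)
theorem F30235 : act 4 n16956 = n15304 := d14_1 D16956 (iv D15304) (iv D12208) (iv F18332) D13886
def n16957 : Q := act 3 n13888
theorem D16957 : act 3 n13888 = n16957 := rfl
theorem F30236 : act 0 n16957 = n13889 := d2_1 D16957 (iv D13889) D13888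
theorem F30237 : act 1 n16957 = n15662 := d6_1 D16957 (iv D15662) (iv F23810)
theorem F30238 : act 5 n15666 = n16957 := d8_0 F30237 F27500 (iv F27509)
def n16958 : Q := act 5 n13888
theorem D16958 : act 5 n13888 = n16958 := rfl
theorem F30239 : act 0 n16958 = n13890 := d4_1 D16958 (iv D13890) D13888
theorem F30240 : act 1 n16958 = n14412 := d8_1 D16958 F24772 (iv F23810)
theorem F30241 : act 3 n16958 = n15666 := d13_1 D16958 F30238 (iv D16957)
def n16959 : Q := act 2 n13889
theorem D16959 : act 2 n13889 = n16959 := rfl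
theorem F30242 : act 1 n16959 = n14581 := d5_1 D16959 (iv D14581) F19378 (iv F18337) (iv F23812)
theorem F30243 : act 5 n16959 = n15664 := d11_2 F23813 D16959 F27506
def n16960 : Q := act 4 n13889
theorem D16960 : act 4 n13889 = n16960 := rfl
theorem F30244 : act 1 n16960 = n13891 := d7_1 D16960 (iv D13891) (iv F23812)
theorem F30245 : act 3 n16960 = n13896 := d12_1 D16960 (iv D13896) (iv D10930) (iv F18335) D13889
def n16961 : Q := act 4 n13890
theorem D16961 : act 4 n13890 = n16961 := rfl
theorem F30246 : act 1 n16961 = n13892 := d7_1 D16961 (iv D13892) (iv F23814)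
theorem F30247 : act 5 n16961 = n13897 := d14_2 D13890 D16961 (iv D13897) (iv D10931) (iv F18335)
def n16962 : Q := act 5 n13891
theorem D16962 : act 5 n13891 = n16962 := rfl
theorem F30248 : act 0 n16962 = n15317 := d4_1 D16962 F26746 (iv F23816)
theorem F30249 : act 2 n16962 = n15670 := d11_1 D16962 F27513 (iv F23817)
theorem F30250 : act 3 n16962 = n13898 := d13_1 D16962 (iv D13898) (iv F23818)
theorem F30251 : act 4 n16962 = n15669 := d14_1 D16962 (iv D15669) (iv D12595) F18338 D13891
def n16963 : Q := act 3 n13892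
theorem D16963 : act 3 n13892 = n16963 := rfl
theorem F30252 : act 0 n16963 = n15315 := d2_1 D16963 F26745 (iv F23819)
theorem F30253 : act 4 n16963 = n15668 := d12_2 D13892 D16963 (iv D15668) (iv D12595) (iv F18341)
theorem F30254 : act 5 n16963 = n13899 := d13_2 (iv F23821) D16963 (iv D13899)
def n16964 : Q := act 2 n13893
theorem D16964 : act 2 n13893 = n16964 := rfl
theorem F30255 : act 0 n16964 = n13895 := d1_1 D16964 (iv D13895) (iv F23822)
theorem F30256 : act 1 n16964 = n15639 := d5_1 D16964 F27440 F21251 (iv F20651) (iv F23823)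
theorem F30257 : act 5 n16964 = n15290 := d11_2 F23824 D16964 F26698
def n16965 : Q := act 4 n13893
theorem D16965 : act 4 n13893 = n16965 := rfl
theorem F30258 : act 0 n16965 = n13896 := d3_1 D16965 (iv D13896) (iv F23822)
theorem F30259 : act 1 n16965 = n15320 := d7_1 D16965 (iv D15320) (iv F23823)
def n16966 : Q := act 4 n13894
theorem D16966 : act 4 n13894 = n16966 := rfl
theorem F30260 : act 0 n16966 = n13897 := d3_1 D16966 (iv D13897) (iv F23825)
theorem F30261 : act 1 n16966 = n15319 := d7_1 D16966 (iv D15319) (iv F23826)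
def n16967 : Q := act 3 n13895
theorem D16967 : act 3 n13895 = n16967 := rfl
theorem F30262 : act 1 n16967 = n15294 := d6_1 D16967 F26708 (iv F23828)
theorem F30263 : act 5 n16967 = n15291 := d13_2 (iv F23829) D16967 (iv D15291)
def n16968 : Q := act 4 n13895
theorem D16968 : act 4 n13895 = n16968 := rfl
theorem F30264 : act 1 n16968 = n15295 := d7_1 D16968 (iv D15295) (iv F23828)
theorem F30265 : act 2 n16968 = n13896 := d10_1 D16968 (iv D13896) D13895
theorem F30266 : act 5 n16968 = n15734 := d14_2 (iv F23829) D16968 (iv D15734) (iv D12658) (iv F20609)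
def n16969 : Q := act 5 n13896
theorem D16969 : act 5 n13896 = n16969 := rfl
theorem F30267 : act 1 n16969 = n13898 := d8_1 D16969 (iv D13898) (iv F23830)
theorem F30268 : act 2 n16969 = n15734 := d11_1 D16969 (iv F30266) F30265
theorem F30269 : act 4 n16969 = n15298 := d14_1 D16969 (iv D15298) F20618 F18345 D13896
def n16970 : Q := act 3 n13897
theorem D16970 : act 3 n13897 = n16970 := rfl
theorem F30270 : act 1 n16970 = n13899 := d6_1 D16970 (iv D13899) (iv F23831)
theorem F30271 : act 4 n16970 = n15297 := d12_2 D13897 D16970 (iv D15297) F20618 (iv F18347)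
def n16971 : Q := act 2 n13899
theorem D16971 : act 2 n13899 = n16971 := rfl
theorem F30272 : act 0 n16971 = n15314 := d1_1 D16971 F26744 (iv F23835)
theorem F30273 : act 4 n16971 = n15299 := d10_2 (iv F23836) D16971 (iv D15299)
def n16972 : Q := act 1 n13902
theorem D16972 : act 1 n13902 = n16972 := rfl
theorem F30274 : act 0 n16972 = n14258 := d0_1 D16972 (iv D14258) (iv F23312) F23313 (iv F23843)
theorem F30275 : act 2 n16972 = n14269 := d5_2 D13902 D16972 (iv F29534) F29535 F23841
theorem F30276 : act 3 n16972 = n15074 := d6_2 (iv F23844) D16972 F26190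
theorem F30277 : act 5 n16972 = n15073 := d8_2 F23845 D16972 F26189
def n16973 : Q := act 4 n13903
theorem D16973 : act 4 n13903 = n16973 := rfl
theorem F30278 : act 0 n16973 = n15082 := d3_1 D16973 (iv D15082) (iv F23846)
theorem F30279 : act 1 n16973 = n14023 := d7_1 D16973 (iv D14023) (iv F23847)
theorem F30280 : act 2 n16973 = n15075 := d10_1 D16973 (iv D15075) (iv F23848)
def n16974 : Q := act 1 n13904
theorem D16974 : act 1 n13904 = n16974 := rfl
theorem F30281 : act 4 n16974 = n13905 := d7_2 (iv F23851) D16974 (iv D13905)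
def n16975 : Q := act 3 n13904
theorem D16975 : act 3 n13904 = n16975 := rfl
theorem F30282 : act 0 n16975 = n13945 := d2_1 D16975 (iv D13945) (iv F23850)
theorem F30283 : act 4 n16975 = n13953 := d12_2 (iv F23851) D16975 (iv D13953) (iv D10980) (iv F18369)
def n16976 : Q := act 0 n13905
theorem D16976 : act 0 n13905 = n16976 := rfl
theorem F30284 : act 1 n16976 = n13946 := d0_2 D13905 D16976 (iv D13946) (iv D10975) (iv F18368)
theorem F30285 : act 2 n16976 = n15379 := d1_2 F27651 D16976 (iv F27649)
theorem F30286 : act 3 n16976 = n13951 := d2_2 (iv F23852) D16976 (iv D13951)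
theorem F30287 : act 5 n16976 = n13906 := d4_2 (iv F23853) D16976 (iv D13906)
def n16977 : Q := act 1 n13907
theorem D16977 : act 1 n13907 = n16977 := rfl
theorem F30288 : act 2 n16977 = n13908 := d5_2 D13907 D16977 (iv D13908) (iv D10944) (iv F18371)
theorem F30289 : act 5 n16977 = n13948 := d8_2 F29565 D16977 (iv F29564)
def n16978 : Q := act 3 n13907
theorem D16978 : act 3 n13907 = n16978 := rfl
theorem F30290 : act 2 n16978 = n16805 := d15_2 D13907 D16978 (iv D16805) (iv D13749) (iv D10810) F13949 D10761 D13701 F23435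
def n16979 : Q := act 0 n13908
theorem D16979 : act 0 n13908 = n16979 := rfl
theorem F30291 : act 1 n16979 = n13951 := d0_2 D13908 D16979 (iv D13951) (iv D10979) (iv F18372)
theorem F30292 : act 3 n16979 = n13946 := d2_2 (iv F23855) D16979 (iv D13946)
theorem F30293 : act 5 n16979 = n13947 := d4_2 (iv F23856) D16979 F23928
def n16980 : Q := act 5 n13909
theorem D16980 : act 5 n13909 = n16980 := rfl
theorem F30294 : act 0 n16980 = n13910 := d4_1 D16980 (iv D13910) D13909
theorem F30295 : act 1 n16980 = n13918 := d8_1 D16980 (iv D13918) (iv F23857)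
theorem F30296 : act 2 n16980 = n14017 := d11_1 D16980 F24026 (iv F23858)
theorem F30297 : act 3 n16980 = n13962 := d13_1 D16980 (iv F30051) F30050
def n16981 : Q := act 4 n13910
theorem D16981 : act 4 n13910 = n16981 := rfl
theorem F30298 : act 1 n16981 = n13911 := d7_1 D16981 (iv D13911) (iv F23860)
theorem F30299 : act 2 n16981 = n15079 := d10_1 D16981 (iv D15079) (iv F23861)
theorem F30300 : act 5 n16981 = n14930 := d14_2 D13910 D16981 F25838 F19969 (iv F18376)
def n16982 : Q := act 3 n13911
theorem D16982 : act 3 n13911 = n16982 := rfl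
theorem F30301 : act 0 n16982 = n13924 := d2_1 D16982 (iv D13924) (iv F23863)
theorem F30302 : act 4 n16982 = n13964 := d12_2 D13911 D16982 (iv D13964) (iv D10989) (iv F18379)
theorem F30303 : act 5 n16982 = n14931 := d13_2 (iv F23865) D16982 (iv D14931)
theorem F30304 : act 2 n14746 = n16982 := d10_3 F30302 F23948 D14746
def n16983 : Q := act 3 n13912
theorem D16983 : act 3 n13912 = n16983 := rfl
theorem F30305 : act 0 n16983 = n13913 := d2_1 D16983 (iv D13913) D13912
theorem F30306 : act 1 n16983 = n14933 := d6_1 D16983 (iv D14933) (iv F23866)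
theorem F30307 : act 5 n14942 = n16983 := d4_0 F30305 (iv F23870) D14942
def n16984 : Q := act 5 n13912
theorem D16984 : act 5 n13912 = n16984 := rfl
theorem F30308 : act 0 n16984 = n13914 := d4_1 D16984 (iv D13914) D13912
theorem F30309 : act 1 n16984 = n14932 := d8_1 D16984 F25841 (iv F23866)
theorem F30310 : act 2 n16984 = n13926 := d11_1 D16984 (iv D13926) (iv F23867)
theorem F30311 : act 3 n16984 = n14942 := d13_1 D16984 F30307 (iv D16983)
def n16985 : Q := act 4 n13913
theorem D16985 : act 4 n13913 = n16985 := rfl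
theorem F30312 : act 1 n16985 = n13915 := d7_1 D16985 (iv D13915) (iv F23869)
theorem F30313 : act 3 n16985 = n13920 := d12_1 D16985 (iv D13920) (iv D10953) (iv F18385) D13913
def n16986 : Q := act 4 n13914
theorem D16986 : act 4 n13914 = n16986 := rfl
theorem F30314 : act 1 n16986 = n13916 := d7_1 D16986 (iv D13916) (iv F23871)
theorem F30315 : act 2 n16986 = n13929 := d10_1 D16986 (iv D13929) (iv F23872)
theorem F30316 : act 5 n16986 = n13922 := d14_2 D13914 D16986 (iv D13922) (iv D10954) (iv F18385)
def n16987 : Q := act 5 n13915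
theorem D16987 : act 5 n13915 = n16987 := rfl
theorem F30317 : act 0 n16987 = n14936 := d4_1 D16987 (iv D14936) (iv F23874)
theorem F30318 : act 2 n16987 = n14937 := d11_1 D16987 (iv D14937) (iv F23875)
theorem F30319 : act 3 n16987 = n13923 := d13_1 D16987 (iv D13923) (iv F23876)
theorem F30320 : act 4 n16987 = n14697 := d14_1 D16987 F25369 (iv D11869) F18388 D13915
def n16988 : Q := act 3 n13916
theorem D16988 : act 3 n13916 = n16988 := rfl
theorem F30321 : act 0 n16988 = n14931 := d2_1 D16988 (iv D14931) (iv F23877)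
theorem F30322 : act 4 n16988 = n14695 := d12_2 D13916 D16988 F25364 (iv D11869) (iv F18391)
theorem F30323 : act 5 n16988 = n13924 := d13_2 (iv F23879) D16988 (iv D13924)
theorem F30324 : act 2 n16988 = n14694 := d15_2 (iv F23878) D16988 (iv D14694) F19572 F16004 (iv F15380) (iv F18382) F18383 (iv F18392)
def n16989 : Q := act 2 n13917
theorem D16989 : act 2 n13917 = n16989 := rfl
theorem F30325 : act 0 n16989 = n13919 := d1_1 D16989 (iv D13919) (iv F23880)
theorem F30326 : act 1 n16989 = n14482 := d5_1 D16989 (iv D14482) (iv F23616) (iv F30049) F30048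
theorem F30327 : act 3 n16989 = n13974 := d15_1 D16989 (iv D13974) (iv D10996) F14182 (iv F14157) (iv F18399) (iv F23885) (iv D13921) (iv F23880)
theorem F30328 : act 5 n14514 = n16989 := d13_0 F30327 (iv F29618) F29617
def n16990 : Q := act 4 n13917
theorem D16990 : act 4 n13917 = n16990 := rfl
theorem F30329 : act 0 n16990 = n13920 := d3_1 D16990 (iv D13920) (iv F23880)
def n16991 : Q := act 5 n13917
theorem D16991 : act 5 n13917 = n16991 := rfl
theorem F30330 : act 0 n16991 = n13921 := d4_1 D16991 (iv D13921) (iv F23880)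
theorem F30331 : act 1 n16991 = n13962 := d8_1 D16991 (iv F30051) F30048
theorem F30332 : act 2 n16991 = n14514 := d11_1 D16991 F30328 (iv D16989)
theorem F30333 : act 3 n16991 = n13918 := d13_1 D16991 (iv D13918) D13917
theorem F30334 : act 4 n15476 = n16991 := d3_0 F30330 (iv F23886) D15476
def n16992 : Q := act 4 n13918
theorem D16992 : act 4 n13918 = n16992 := rfl
theorem F30335 : act 0 n16992 = n13922 := d3_1 D16992 (iv D13922) (iv F23881)
theorem F30336 : act 2 n16992 = n13939 := d10_1 D16992 (iv D13939) (iv F23882)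
def n16993 : Q := act 3 n13919
theorem D16993 : act 3 n13919 = n16993 := rfl
theorem F30337 : act 0 n16993 = n13974 := d2_1 D16993 (iv F30327) F30325
theorem F30338 : act 2 n16993 = n13973 := d9_1 D16993 (iv D13973) F18467 (iv F18424) (iv F23882) (iv F30333) F30332 (iv F29617) F29616 F23160 (iv D10969) (iv D8516) (iv F14144) D10953 D13919
def n16994 : Q := act 4 n13919
theorem D16994 : act 4 n13919 = n16994 := rfl
theorem F30339 : act 2 n16994 = n13920 := d10_1 D16994 (iv D13920) D13919
def n16995 : Q := act 5 n13919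
theorem D16995 : act 5 n13919 = n16995 := rfl
theorem F30340 : act 0 n16995 = n14514 := d4_1 D16995 F30328 F30325
theorem F30341 : act 1 n16995 = n13961 := d8_1 D16995 (iv F30036) F30035
theorem F30342 : act 2 n16995 = n13921 := d11_1 D16995 (iv D13921) D13919
theorem F30343 : act 4 n15472 = n16995 := d10_0 F30342 (iv F23886) (iv F27062)
def n16996 : Q := act 5 n13920
theorem D16996 : act 5 n13920 = n16996 := rfl
theorem F30344 : act 1 n16996 = n13923 := d8_1 D16996 (iv D13923) (iv F23883)
theorem F30345 : act 4 n16996 = n15478 := d14_1 D16996 (iv D15478) F23886 (iv D13921) D13920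
def n16997 : Q := act 3 n13922
theorem D16997 : act 3 n13922 = n16997 := rfl
theorem F30346 : act 1 n16997 = n13924 := d6_1 D16997 (iv D13924) (iv F23887)
theorem F30347 : act 4 n16997 = n15477 := d12_2 D13922 D16997 (iv D15477) F23886 F23885
def n16998 : Q := act 2 n13924
theorem D16998 : act 2 n13924 = n16998 := rfl
theorem F30348 : act 0 n16998 = n14746 := d1_1 D16998 F30304 F30301
theorem F30349 : act 4 n16998 = n14691 := d10_2 (iv F23891) D16998 F25353
theorem F30350 : act 5 n16998 = n14694 := d11_2 F30323 D16998 (iv F30324)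
theorem F30351 : act 3 n16998 = n14690 := d15_1 D16998 F25349 (iv D11858) F15385 D9228 D11859 D14931 (iv F30303) F30301
theorem F30352 : act 1 n15891 = n16998 := d8_3 F30350 F25361 (iv F27932)
def n16999 : Q := act 2 n13925
theorem D16999 : act 2 n13925 = n16999 := rfl
theorem F30353 : act 0 n16999 = n13927 := d1_1 D16999 (iv D13927) (iv F23892)
def n17000 : Q := act 4 n13925
theorem D17000 : act 4 n13925 = n17000 := rfl
theorem F30354 : act 0 n17000 = n13928 := d3_1 D17000 (iv D13928) (iv F23892)
theorem F30355 : act 1 n17000 = n14021 := d7_1 D17000 (iv F27241) F27240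
theorem F30356 : act 3 n17000 = n13938 := d12_1 D17000 (iv D13938) (iv D10967) (iv F18405) D13925
def n17001 : Q := act 4 n13926
theorem D17001 : act 4 n13926 = n17001 := rfl
theorem F30357 : act 0 n17001 = n13929 := d3_1 D17001 (iv D13929) (iv F23893)
theorem F30358 : act 1 n17001 = n14020 := d7_1 D17001 (iv F27246) F27244
theorem F30359 : act 5 n17001 = n13939 := d14_2 D13926 D17001 (iv D13939) (iv D10968) (iv F18405)
def n17002 : Q := act 3 n13927
theorem D17002 : act 3 n13927 = n17002 := rfl
def n17003 : Q := act 4 n13927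
theorem D17003 : act 4 n13927 = n17003 := rfl
theorem F30360 : act 2 n17003 = n13928 := d10_1 D17003 (iv D13928) D13927
def n17004 : Q := act 5 n13928
theorem D17004 : act 5 n13928 = n17004 := rfl
theorem F30361 : act 1 n17004 = n13930 := d8_1 D17004 (iv D13930) (iv F23894)
theorem F30362 : act 3 n17004 = n13941 := d13_1 D17004 (iv D13941) (iv F23895)
def n17005 : Q := act 3 n13929
theorem D17005 : act 3 n13929 = n17005 := rfl
theorem F30363 : act 1 n17005 = n13931 := d6_1 D17005 (iv D13931) (iv F23896)
theorem F30364 : act 5 n17005 = n13942 := d13_2 (iv F23897) D17005 (iv D13942)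
def n17006 : Q := act 2 n13931
theorem D17006 : act 2 n13931 = n17006 := rfl
theorem F30365 : act 0 n17006 = n14013 := d1_1 D17006 F24021 (iv F23900)
theorem F30366 : act 4 n17006 = n13997 := d10_2 F27272 D17006 (iv F27271)
theorem F30367 : act 5 n17006 = n13943 := d11_2 (iv F23901) D17006 (iv D13943)
def n17007 : Q := act 1 n13932
theorem D17007 : act 1 n13932 = n17007 := rfl
theorem F30368 : act 2 n17007 = n14890 := d5_2 D13932 D17007 F25761 F19902 (iv F18413)
theorem F30369 : act 4 n17007 = n13933 := d7_2 (iv F23902) D17007 (iv D13933)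
theorem F30370 : act 5 n17007 = n13944 := d8_2 (iv F23903) D17007 (iv D13944)
def n17008 : Q := act 3 n13932
theorem D17008 : act 3 n13932 = n17008 := rfl
theorem F30371 : act 5 n17008 = n13945 := d13_2 (iv F23903) D17008 (iv D13945)
theorem F30372 : act 2 n17008 = n14012 := d15_2 D13932 D17008 (iv D14012) F18500 F14202 (iv F14126) D10940 (iv F20394) F20391
def n17009 : Q := act 0 n13933
theorem D17009 : act 0 n13933 = n17009 := rfl
theorem F30373 : act 2 n17009 = n14888 := d1_2 (iv F23904) D17009 F25755
theorem F30374 : act 5 n17009 = n13934 := d4_2 (iv F23905) D17009 (iv D13934)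
def n17010 : Q := act 3 n13934
theorem D17010 : act 3 n13934 = n17010 := rfl
theorem F30375 : act 0 n17010 = n13935 := d2_1 D17010 (iv D13935) D13934
def n17011 : Q := act 2 n13935
theorem D17011 : act 2 n13935 = n17011 := rfl
def n17012 : Q := act 4 n13935
theorem D17012 : act 4 n13935 = n17012 := rfl
theorem F30376 : act 1 n17012 = n13936 := d7_1 D17012 (iv D13936) (iv F23908)
theorem F30377 : act 3 n17012 = n13949 := d12_1 D17012 (iv D13949) (iv D10977) (iv F18418) D13935
def n17013 : Q := act 5 n13936
theorem D17013 : act 5 n13936 = n17013 := rfl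
theorem F30378 : act 3 n17013 = n13950 := d13_1 D17013 (iv D13950) (iv F23909)
def n17014 : Q := act 4 n13937
theorem D17014 : act 4 n13937 = n17014 := rfl
theorem F30379 : act 0 n17014 = n13940 := d3_1 D17014 (iv D13940) (iv F23910)
theorem F30380 : act 2 n17014 = n13938 := d10_1 D17014 (iv D13938) D13937
def n17015 : Q := act 5 n13938
theorem D17015 : act 5 n13938 = n17015 := rfl
theorem F30381 : act 0 n17015 = n13941 := d4_1 D17015 (iv D13941) (iv F23912)
theorem F30382 : act 1 n17015 = n14002 := d8_1 D17015 F24011 (iv F23913)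
theorem F30383 : act 4 n17015 = n13979 := d14_1 D17015 (iv D13979) F18471 F18421 D13938
def n17016 : Q := act 3 n13939
theorem D17016 : act 3 n13939 = n17016 := rfl
theorem F30384 : act 0 n17016 = n13942 := d2_1 D17016 (iv D13942) (iv F23914)
theorem F30385 : act 1 n17016 = n14000 := d6_1 D17016 F24006 (iv F23915)
theorem F30386 : act 4 n17016 = n13978 := d12_2 D13939 D17016 (iv D13978) F18471 (iv F18424)
def n17017 : Q := act 3 n13940
theorem D17017 : act 3 n13940 = n17017 := rfl
theorem F30387 : act 1 n17017 = n13977 := d6_1 D17017 (iv D13977) (iv F23916)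
theorem F30388 : act 4 n17017 = n15771 := d12_2 D13940 D17017 F29627 (iv D16665) F23160
def n17018 : Q := act 5 n13940
theorem D17018 : act 5 n13940 = n17018 := rfl
theorem F30389 : act 1 n17018 = n13972 := d8_1 D17018 F23969 (iv F23916)
theorem F30390 : act 2 n17018 = n13941 := d11_1 D17018 (iv D13941) (iv F23917)
theorem F30391 : act 4 n17018 = n13968 := d14_1 D17018 (iv D13968) F18460 (iv F18426) D13940
def n17019 : Q := act 2 n13942
theorem D17019 : act 2 n13942 = n17019 := rfl
theorem F30392 : act 4 n17019 = n13980 := d10_2 (iv F23921) D17019 (iv D13980)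
def n17020 : Q := act 1 n13943
theorem D17020 : act 1 n13943 = n17020 := rfl
theorem F30393 : act 4 n17020 = n13982 := d7_2 (iv F23923) D17020 (iv D13982)
def n17021 : Q := act 3 n13943
theorem D17021 : act 3 n13943 = n17021 := rfl
theorem F30394 : act 0 n17021 = n14012 := d2_1 D17021 (iv D14012) (iv F23922)
theorem F30395 : act 4 n17021 = n13998 := d12_2 (iv F23923) D17021 (iv D13998) (iv D11016) (iv F18475)
def n17022 : Q := act 0 n13944
theorem D17022 : act 0 n13944 = n17022 := rfl
theorem F30396 : act 2 n17022 = n15167 := d1_2 (iv F23924) D17022 F26397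
theorem F30397 : act 4 n17022 = n13946 := d3_2 (iv F23925) D17022 (iv D13946)
def n17023 : Q := act 3 n13944
theorem D17023 : act 3 n13944 = n17023 := rfl
theorem F30398 : act 1 n17023 = n13945 := d6_1 D17023 (iv D13945) D13944
def n17024 : Q := act 2 n13945
theorem D17024 : act 2 n13945 = n17024 := rfl
theorem F30399 : act 5 n17024 = n14012 := d11_2 F30371 D17024 (iv F30372)
theorem F30400 : act 3 n17024 = n14013 := d15_3 D10974 D13945 D17024 F24021 F18501 (iv F16266) (iv F20393) F20394 F18366
def n17025 : Q := act 2 n13947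
theorem D17025 : act 2 n13947 = n17025 := rfl
theorem F30401 : act 0 n17025 = n13948 := d1_1 D17025 (iv D13948) (iv F23928)
theorem F30402 : act 1 n17025 = n14709 := d5_1 D17025 (iv F29851) F29850 (iv F29576) F29575
theorem F30403 : act 3 n17025 = n15333 := d15_1 D17025 (iv D15333) (iv D12235) F15940 (iv F15719) (iv F18435) (iv F23855) F23856 (iv F23928)
theorem F30404 : act 4 n14707 = n17025 := d12_0 F30403 F27438 (iv D12235) (iv F19589) D14707
def n17026 : Q := act 4 n13947
theorem D17026 : act 4 n13947 = n17026 := rfl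
theorem F30405 : act 0 n17026 = n13949 := d3_1 D17026 (iv D13949) (iv F23928)
theorem F30406 : act 2 n17026 = n14707 := d10_1 D17026 F30404 (iv D17025)
def n17027 : Q := act 3 n13948
theorem D17027 : act 3 n13948 = n17027 := rfl
theorem F30407 : act 0 n17027 = n15333 := d2_1 D17027 (iv F30403) F30401
theorem F30408 : act 2 n17027 = n15332 := d15_2 D13948 D17027 (iv D15332) F20675 (iv F20355) (iv F23926) (iv F30292) F30293 F23928
theorem F30409 : act 4 n15332 = n17027 := d3_0 F30407 F27438 (iv F26775)
def n17028 : Q := act 4 n13948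
theorem D17028 : act 4 n13948 = n17028 := rfl
theorem F30410 : act 0 n17028 = n14707 := d3_1 D17028 F30404 F30401
theorem F30411 : act 2 n17028 = n13949 := d10_1 D17028 (iv D13949) D13948
theorem F30412 : act 3 n17028 = n14706 := d12_1 D17028 F25381 D15332 F30409 (iv D17027)
def n17029 : Q := act 5 n13949
theorem D17029 : act 5 n13949 = n17029 := rfl
theorem F30413 : act 1 n17029 = n13950 := d8_1 D17029 (iv D13950) (iv F23929)
def n17030 : Q := act 4 n13951
theorem D17030 : act 4 n13951 = n17030 := rfl
theorem F30414 : act 0 n17030 = n13952 := d3_1 D17030 (iv D13952) D13951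
def n17031 : Q := act 3 n13952
theorem D17031 : act 3 n13952 = n17031 := rfl
theorem F30415 : act 1 n17031 = n13953 := d6_1 D17031 (iv D13953) (iv F23930)
def n17032 : Q := act 5 n13952
theorem D17032 : act 5 n13952 = n17032 := rfl
theorem F30416 : act 1 n17032 = n13954 := d8_1 D17032 (iv D13954) (iv F23930)
def n17033 : Q := act 4 n13955
theorem D17033 : act 4 n13955 = n17033 := rfl
theorem F30417 : act 1 n17033 = n13956 := d7_1 D17033 (iv D13956) D13955
def n17034 : Q := act 3 n13956
theorem D17034 : act 3 n13956 = n17034 := rfl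
theorem F30418 : act 0 n17034 = n13959 := d2_1 D17034 (iv D13959) (iv F23934)
theorem F30419 : act 4 n17034 = n14043 := d12_2 D13956 D17034 (iv D14043) (iv D11049) (iv F18442)
def n17035 : Q := act 5 n13956
theorem D17035 : act 5 n13956 = n17035 := rfl
theorem F30420 : act 0 n17035 = n13960 := d4_1 D17035 (iv D13960) (iv F23934)
theorem F30421 : act 2 n17035 = n13957 := d11_1 D17035 (iv D13957) (iv F23935)
theorem F30422 : act 4 n17035 = n14030 := d14_1 D17035 (iv D14030) (iv D11037) (iv F18443) D13956
def n17036 : Q := act 3 n13958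
theorem D17036 : act 3 n13958 = n17036 := rfl
theorem F30423 : act 0 n17036 = n14043 := d2_1 D17036 (iv D14043) (iv F23938)
theorem F30424 : act 4 n17036 = n13959 := d12_2 D13958 D17036 (iv D13959) (iv D10985) D10984
def n17037 : Q := act 5 n13958
theorem D17037 : act 5 n13958 = n17037 := rfl
theorem F30425 : act 0 n17037 = n14044 := d4_1 D17037 (iv D14044) (iv F23938)
theorem F30426 : act 2 n17037 = n14041 := d11_1 D17037 (iv D14041) (iv F23939)
theorem F30427 : act 4 n17037 = n14036 := d14_1 D17037 (iv D14036) (iv D11042) (iv F18447) D13958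
def n17038 : Q := act 2 n13959
theorem D17038 : act 2 n13959 = n17038 := rfl
def n17039 : Q := act 5 n13959
theorem D17039 : act 5 n13959 = n17039 := rfl
theorem F30428 : act 3 n17039 = n13960 := d13_1 D17039 (iv D13960) D13959
def n17040 : Q := act 3 n13961
theorem D17040 : act 3 n13961 = n17040 := rfl
theorem F30429 : act 0 n17040 = n14517 := d2_1 D17040 (iv D14517) (iv F23942)
def n17041 : Q := act 4 n13962
theorem D17041 : act 4 n13962 = n17041 := rfl
theorem F30430 : act 0 n17041 = n13963 := d3_1 D17041 (iv D13963) D13962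
theorem F30431 : act 1 n17041 = n15476 := d7_1 D17041 F30334 F30331
theorem F30432 : act 2 n17041 = n14496 := d10_1 D17041 (iv D14496) (iv F23944)
def n17042 : Q := act 3 n13963
theorem D17042 : act 3 n13963 = n17042 := rfl
theorem F30433 : act 1 n17042 = n13964 := d6_1 D17042 (iv D13964) (iv F23945)
theorem F30434 : act 5 n14745 = n17042 := d8_0 F30433 (iv F23949) D14745
def n17043 : Q := act 5 n13963
theorem D17043 : act 5 n13963 = n17043 := rfl
theorem F30435 : act 1 n17043 = n13965 := d8_1 D17043 (iv D13965) (iv F23945)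
theorem F30436 : act 2 n17043 = n14497 := d11_1 D17043 (iv D14497) (iv F23946)
theorem F30437 : act 3 n17043 = n14745 := d13_1 D17043 F30434 (iv D17042)
def n17044 : Q := act 2 n13967
theorem D17044 : act 2 n13967 = n17044 := rfl
def n17045 : Q := act 4 n13967
theorem D17045 : act 4 n13967 = n17045 := rfl
theorem F30438 : act 1 n17045 = n13970 := d7_1 D17045 (iv D13970) (iv F23956)
theorem F30439 : act 3 n17045 = n13975 := d12_1 D17045 (iv D13975) (iv D10996) (iv F18460) D13967
def n17046 : Q := act 1 n13969
theorem D17046 : act 1 n13969 = n17046 := rfl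
theorem F30440 : act 3 n17046 = n14708 := d6_2 (iv F23960) D17046 F25383
theorem F30441 : act 5 n17046 = n14707 := d8_2 F23961 D17046 F25382
def n17047 : Q := act 4 n13969
theorem D17047 : act 4 n13969 = n17047 := rfl
theorem F30442 : act 0 n17047 = n14720 := d3_1 D17047 (iv D14720) (iv F23959)
theorem F30443 : act 2 n17047 = n13970 := d10_1 D17047 (iv D13970) D13969
def n17048 : Q := act 5 n13970
theorem D17048 : act 5 n13970 = n17048 := rfl
theorem F30444 : act 0 n17048 = n14721 := d4_1 D17048 (iv D14721) (iv F23962)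
theorem F30445 : act 3 n17048 = n13976 := d13_1 D17048 (iv D13976) (iv F23963)
theorem F30446 : act 4 n17048 = n15692 := d14_1 D17048 (iv F29854) F29853 (iv D13971) D13970
def n17049 : Q := act 3 n13972
theorem D17049 : act 3 n13972 = n17049 := rfl
theorem F30447 : act 0 n17049 = n14722 := d2_1 D17049 (iv D14722) (iv F23967)
theorem F30448 : act 2 n17049 = n15644 := d9_1 D17049 F27454 F21785 (iv D11387) F14690 D8850 D11393 F21806 F21468 (iv F20203) F20202 D12903 F21843 F19097 (iv F23968)
theorem F30449 : act 4 n17049 = n15643 := d12_2 D13972 D17049 (iv F29852) F29853 F23966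
theorem F30450 : act 5 n17049 = n13977 := d13_2 (iv F23969) D17049 (iv D13977)
def n17050 : Q := act 4 n13973
theorem D17050 : act 4 n13973 = n17050 := rfl
theorem F30451 : act 0 n17050 = n13975 := d3_1 D17050 (iv D13975) (iv F23970)
def n17051 : Q := act 4 n13974
theorem D17051 : act 4 n13974 = n17051 := rfl
theorem F30452 : act 1 n17051 = n14527 := d7_1 D17051 (iv D14527) (iv F23971)
theorem F30453 : act 2 n17051 = n13975 := d10_1 D17051 (iv D13975) D13974
def n17052 : Q := act 5 n13975
theorem D17052 : act 5 n13975 = n17052 := rfl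
theorem F30454 : act 1 n17052 = n13976 := d8_1 D17052 (iv D13976) (iv F23972)
def n17053 : Q := act 2 n13978
theorem D17053 : act 2 n13978 = n17053 := rfl
theorem F30455 : act 0 n17053 = n13980 := d1_1 D17053 (iv D13980) (iv F23976)
def n17054 : Q := act 5 n13978
theorem D17054 : act 5 n13978 = n17054 := rfl
theorem F30456 : act 0 n17054 = n13981 := d4_1 D17054 (iv D13981) (iv F23976)
theorem F30457 : act 1 n17054 = n14001 := d8_1 D17054 (iv D14001) (iv F23977)
theorem F30458 : act 3 n17054 = n13979 := d13_1 D17054 (iv D13979) D13978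
def n17055 : Q := act 1 n13980
theorem D17055 : act 1 n13980 = n17055 := rfl
theorem F30459 : act 2 n17055 = n13982 := d5_2 D13980 D17055 (iv D13982) (iv D11002) (iv F18472)
theorem F30460 : act 5 n13994 = n17055 := d11_0 F30459 F23983 D13994
def n17056 : Q := act 3 n13980
theorem D17056 : act 3 n13980 = n17056 := rfl
def n17057 : Q := act 5 n13980
theorem D17057 : act 5 n13980 = n17057 := rfl
theorem F30461 : act 1 n17057 = n13994 := d8_1 D17057 F30460 (iv D17055)
theorem F30462 : act 2 n17057 = n13981 := d11_1 D17057 (iv D13981) D13980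
def n17058 : Q := act 4 n13981
theorem D17058 : act 4 n13981 = n17058 := rfl
theorem F30463 : act 1 n17058 = n13983 := d7_1 D17058 (iv D13983) (iv F23980)
def n17059 : Q := act 0 n13982
theorem D17059 : act 0 n13982 = n17059 := rfl
theorem F30464 : act 1 n17059 = n14010 := d0_2 D13982 D17059 (iv D14010) (iv D11023) (iv F18474)
theorem F30465 : act 3 n17059 = n13993 := d2_2 (iv F23982) D17059 F24001
theorem F30466 : act 5 n17059 = n13992 := d4_2 (iv F23983) D17059 F24000
def n17060 : Q := act 2 n13986
theorem D17060 : act 2 n13986 = n17060 := rfl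
def n17061 : Q := act 5 n13986
theorem D17061 : act 5 n13986 = n17061 := rfl
theorem F30467 : act 1 n17061 = n13990 := d8_1 D17061 (iv D13990) (iv F23990)
theorem F30468 : act 3 n17061 = n13987 := d13_1 D17061 (iv D13987) D13986
def n17062 : Q := act 1 n13988
theorem D17062 : act 1 n13988 = n17062 := rfl
theorem F30469 : act 0 n17062 = n15904 := d0_1 D17062 F27947 F21687 (iv F19498) (iv F23993)
theorem F30470 : act 3 n17062 = n14648 := d6_2 (iv F23994) D17062 F25239
theorem F30471 : act 5 n17062 = n14647 := d8_2 F23995 D17062 F25236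
def n17063 : Q := act 4 n13988
theorem D17063 : act 4 n13988 = n17063 := rfl
theorem F30472 : act 0 n17063 = n14655 := d3_1 D17063 (iv D14655) (iv F23993)
theorem F30473 : act 2 n17063 = n13989 := d10_1 D17063 (iv D13989) D13988
theorem F30474 : act 3 n17063 = n15910 := d12_1 D17063 (iv D15910) F21700 (iv F19490) (iv F23994)
def n17064 : Q := act 5 n13989
theorem D17064 : act 5 n13989 = n17064 := rfl
def n17065 : Q := act 4 n13990
theorem D17065 : act 4 n13990 = n17065 := rfl
theorem F30475 : act 0 n17065 = n14653 := d3_1 D17065 F25256 (iv F23996)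
theorem F30476 : act 2 n17065 = n14649 := d10_1 D17065 F25244 (iv F23997)
def n17066 : Q := act 3 n13991
theorem D17066 : act 3 n13991 = n17066 := rfl
def n17067 : Q := act 2 n13992
theorem D17067 : act 2 n13992 = n17067 := rfl
theorem F30477 : act 0 n17067 = n13994 := d1_1 D17067 (iv D13994) (iv F24000)
def n17068 : Q := act 4 n13992
theorem D17068 : act 4 n13992 = n17068 := rfl
theorem F30478 : act 0 n17068 = n13995 := d3_1 D17068 (iv D13995) (iv F24000)
def n17069 : Q := act 3 n13994
theorem D17069 : act 3 n13994 = n17069 := rfl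
def n17070 : Q := act 4 n13994
theorem D17070 : act 4 n13994 = n17070 := rfl
theorem F30479 : act 2 n17070 = n13995 := d10_1 D17070 (iv D13995) D13994
def n17071 : Q := act 5 n13995
theorem D17071 : act 5 n13995 = n17071 := rfl
theorem F30480 : act 1 n17071 = n13997 := d8_1 D17071 (iv D13997) (iv F24002)
def n17072 : Q := act 3 n13996
theorem D17072 : act 3 n13996 = n17072 := rfl
theorem F30481 : act 1 n17072 = n13998 := d6_1 D17072 (iv D13998) (iv F24003)
def n17073 : Q := act 1 n13999
theorem D17073 : act 1 n13999 = n17073 := rfl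
def n17074 : Q := act 3 n13999
theorem D17074 : act 3 n13999 = n17074 := rfl
theorem F30482 : act 0 n17074 = n14004 := d2_1 D17074 (iv D14004) (iv F24004)
theorem F30483 : act 2 n17074 = n14702 := d15_2 D13999 D17074 (iv D14702) F19580 (iv F17804) F17803 (iv F18496) (iv D11021) (iv F18491)
def n17075 : Q := act 4 n13999
theorem D17075 : act 4 n13999 = n17075 := rfl
theorem F30484 : act 0 n17075 = n14005 := d3_1 D17075 (iv D14005) (iv F24004)
theorem F30485 : act 2 n17075 = n14000 := d10_1 D17075 (iv D14000) D13999
def n17076 : Q := act 5 n13999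
theorem D17076 : act 5 n13999 = n17076 := rfl
theorem F30486 : act 0 n17076 = n14006 := d4_1 D17076 (iv D14006) (iv F24004)
theorem F30487 : act 2 n17076 = n14001 := d11_1 D17076 (iv D14001) D13999
def n17077 : Q := act 5 n14000
theorem D17077 : act 5 n14000 = n17077 := rfl
theorem F30488 : act 0 n17077 = n14007 := d4_1 D17077 (iv D14007) (iv F24005)
theorem F30489 : act 3 n17077 = n14020 := d13_1 D17077 (iv D14020) (iv F24006)
def n17078 : Q := act 4 n14001
theorem D17078 : act 4 n14001 = n17078 := rfl
theorem F30490 : act 0 n17078 = n14008 := d3_1 D17078 (iv D14008) (iv F24007)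
def n17079 : Q := act 3 n14002
theorem D17079 : act 3 n14002 = n17079 := rfl
theorem F30491 : act 0 n17079 = n14009 := d2_1 D17079 (iv D14009) (iv F24009)
theorem F30492 : act 2 n17079 = n15448 := d9_1 D17079 F27024 F20883 F16107 (iv F15062) (iv F17785) F17784 D11034 D14025 F24037 (iv D12353) (iv D9636) (iv F15064) D11667 (iv F24010)
theorem F30493 : act 5 n17079 = n14021 := d13_2 (iv F24011) D17079 (iv D14021)
def n17080 : Q := act 0 n14003
theorem D17080 : act 0 n14003 = n17080 := rfl
theorem F30494 : act 2 n17080 = n14010 := d1_2 (iv F24012) D17080 (iv D14010)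
def n17081 : Q := act 3 n14003
theorem D17081 : act 3 n14003 = n17081 := rfl
theorem F30495 : act 1 n17081 = n14004 := d6_1 D17081 (iv D14004) D14003
theorem F30496 : act 2 n17081 = n14033 := d15_2 (iv F24012) D17081 (iv D14033) F18515 F15848 (iv F20507) D15235 (iv F26570) (iv D14010)
def n17082 : Q := act 4 n14003
theorem D17082 : act 4 n14003 = n17082 := rfl
theorem F30497 : act 1 n17082 = n14005 := d7_1 D17082 (iv D14005) D14003
theorem F30498 : act 2 n17082 = n14011 := d10_1 D17082 (iv D14011) (iv F24012)
def n17083 : Q := act 2 n14004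
theorem D17083 : act 2 n14004 = n17083 := rfl
theorem F30499 : act 0 n17083 = n14702 := d1_1 D17083 (iv F30483) F30482
theorem F30500 : act 1 n17083 = n14037 := d5_1 D17083 (iv D14037) (iv F24045) (iv F30496) F30495
theorem F30501 : act 3 n17083 = n14701 := d15_3 D11019 D14004 D17083 F25375 (iv F23065) F23064 (iv F24008) (iv D14001) F18491
def n17084 : Q := act 4 n14004
theorem D17084 : act 4 n14004 = n17084 := rfl
def n17085 : Q := act 5 n14004
theorem D17085 : act 5 n14004 = n17085 := rfl
theorem F30502 : act 3 n17085 = n14006 := d13_1 D17085 (iv D14006) D14004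
def n17086 : Q := act 3 n14005
theorem D17086 : act 3 n14005 = n17086 := rfl
def n17087 : Q := act 5 n14005
theorem D17087 : act 5 n14005 = n17087 := rfl
theorem F30503 : act 2 n17087 = n14007 := d11_1 D17087 (iv D14007) (iv F24013)
def n17088 : Q := act 4 n14006
theorem D17088 : act 4 n14006 = n17088 := rfl
theorem F30504 : act 2 n17088 = n14008 := d10_1 D17088 (iv D14008) (iv F24014)
def n17089 : Q := act 4 n14007
theorem D17089 : act 4 n14007 = n17089 := rfl
theorem F30505 : act 1 n17089 = n14014 := d7_1 D17089 (iv D14014) (iv F24015)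
theorem F30506 : act 5 n17089 = n14008 := d14_2 D14007 D17089 (iv D14008) (iv D11021) D11020
def n17090 : Q := act 3 n14008
theorem D17090 : act 3 n14008 = n17090 := rfl
theorem F30507 : act 1 n17090 = n14015 := d6_1 D17090 (iv D14015) (iv F24017)
theorem F30508 : act 4 n17090 = n14009 := d12_2 D14008 D17090 (iv D14009) (iv D11022) (iv F18496)
def n17091 : Q := act 2 n14009
theorem D17091 : act 2 n14009 = n17091 := rfl
theorem F30509 : act 0 n17091 = n15448 := d1_1 D17091 (iv F30492) F30491
theorem F30510 : act 3 n17091 = n15441 := d9_2 D14009 D17091 F27016 F20878 (iv F19616) (iv F23023) F23022 D14021 F24033 (iv D12357) (iv D9638) (iv D7426) (iv F11525) D9061 (iv F18498)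
theorem F30511 : act 5 n17091 = n14025 := d11_2 (iv F24019) D17091 (iv D14025)
def n17092 : Q := act 4 n14010
theorem D17092 : act 4 n14010 = n17092 := rfl
theorem F30512 : act 0 n17092 = n14011 := d3_1 D17092 (iv D14011) D14010
def n17093 : Q := act 3 n14011
theorem D17093 : act 3 n14011 = n17093 := rfl
theorem F30513 : act 1 n17093 = n14012 := d6_1 D17093 (iv D14012) (iv F24020)
def n17094 : Q := act 5 n14011
theorem D17094 : act 5 n14011 = n17094 := rfl
theorem F30514 : act 1 n17094 = n14013 := d8_1 D17094 (iv D14013) (iv F24020)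
def n17095 : Q := act 1 n14016
theorem D17095 : act 1 n14016 = n17095 := rfl
theorem F30515 : act 3 n17095 = n14653 := d6_2 F27329 D17095 (iv F27327)
theorem F30516 : act 5 n17095 = n14026 := d8_2 (iv F24024) D17095 (iv D14026)
def n17096 : Q := act 3 n14017
theorem D17096 : act 3 n14017 = n17096 := rfl
theorem F30517 : act 0 n17096 = n15078 := d2_1 D17096 F26198 (iv F24025)
theorem F30518 : act 1 n17096 = n14018 := d6_1 D17096 (iv D14018) D14017
theorem F30519 : act 2 n17096 = n14245 := d9_1 D17096 F24419 F18804 (iv F18192) (iv F23606) F23607 F18375 D12002 (iv F24412) (iv D14241) F18800 D11471 (iv F23944) (iv F30297) F30296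
theorem F30520 : act 5 n17096 = n14244 := d13_2 (iv F24026) D17096 F24417
def n17097 : Q := act 4 n14017
theorem D17097 : act 4 n14017 = n17097 := rfl
theorem F30521 : act 0 n17097 = n15079 := d3_1 D17097 (iv D15079) (iv F24025)
theorem F30522 : act 1 n17097 = n14019 := d7_1 D17097 (iv D14019) D14017
theorem F30523 : act 5 n17097 = n15086 := d14_2 (iv F24026) D17097 (iv D15086) (iv D12009) (iv F20229)
def n17098 : Q := act 4 n14018
theorem D17098 : act 4 n14018 = n17098 := rfl
theorem F30524 : act 0 n17098 = n14023 := d3_1 D17098 (iv D14023) (iv F24027)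
theorem F30525 : act 2 n17098 = n14304 := d10_1 D17098 (iv D14304) (iv F24028)
def n17099 : Q := act 3 n14019
theorem D17099 : act 3 n14019 = n17099 := rfl
theorem F30526 : act 0 n17099 = n14024 := d2_1 D17099 (iv D14024) (iv F24029)
def n17100 : Q := act 1 n14022
theorem D17100 : act 1 n14022 = n17100 := rfl
theorem F30527 : act 0 n17100 = n14271 := d0_1 D17100 F24469 F18847 (iv F18882) (iv F24034)
theorem F30528 : act 2 n17100 = n15073 := d5_2 D14022 D17100 F26189 (iv F23848) F23847
theorem F30529 : act 3 n17100 = n14288 := d6_2 (iv F24035) D17100 F24498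
theorem F30530 : act 5 n17100 = n14269 := d8_2 F29536 D17100 (iv F29534)
def n17101 : Q := act 4 n14022
theorem D17101 : act 4 n14022 = n17101 := rfl
theorem F30531 : act 0 n17101 = n14304 := d3_1 D17101 (iv D14304) (iv F24034)
theorem F30532 : act 2 n17101 = n14023 := d10_1 D17101 (iv D14023) D14022
def n17102 : Q := act 3 n14023
theorem D17102 : act 3 n14023 = n17102 := rfl
theorem F30533 : act 4 n17102 = n14024 := d12_2 D14023 D17102 (iv D14024) (iv D11032) D11031
def n17103 : Q := act 5 n14023
theorem D17103 : act 5 n14023 = n17103 := rfl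
def n17104 : Q := act 2 n14024
theorem D17104 : act 2 n14024 = n17104 := rfl
def n17105 : Q := act 1 n14025
theorem D17105 : act 1 n14025 = n17105 := rfl
theorem F30534 : act 2 n17105 = n14026 := d5_2 D14025 D17105 (iv D14026) (iv D11035) (iv F18508)
theorem F30535 : act 3 n17105 = n14795 := d6_2 (iv F24037) D17105 F25587
def n17106 : Q := act 0 n14026
theorem D17106 : act 0 n14026 = n17106 := rfl
def n17107 : Q := act 3 n14026
theorem D17107 : act 3 n14026 = n17107 := rfl
theorem F30536 : act 1 n17107 = n14027 := d6_1 D17107 (iv D14027) D14026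
theorem F30537 : act 5 n17107 = n14653 := d13_2 F30516 D17107 (iv F30515)
theorem F30538 : act 2 n17107 = n14654 := d15_6 F19486 D11734 D14795 (iv F30535) F30534 D17107 F25258 (iv D11603) (iv F19484)
def n17108 : Q := act 3 n14028
theorem D17108 : act 3 n14028 = n17108 := rfl
theorem F30539 : act 1 n17108 = n14029 := d6_1 D17108 (iv D14029) (iv F24038)
theorem F30540 : act 2 n17108 = n15372 := d15_2 F26661 D17108 (iv D15372) (iv D12270) (iv D9567) (iv F15980) D12258 (iv F20728) D15272
def n17109 : Q := act 5 n14028
theorem D17109 : act 5 n14028 = n17109 := rfl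
theorem F30541 : act 0 n17109 = n15359 := d4_1 D17109 F26845 F26649
theorem F30542 : act 1 n17109 = n14030 := d8_1 D17109 (iv D14030) (iv F24038)
theorem F30543 : act 2 n17109 = n15357 := d11_1 D17109 (iv F26839) F26661
def n17110 : Q := act 2 n14029
theorem D17110 : act 2 n14029 = n17110 := rfl
theorem F30544 : act 0 n17110 = n14037 := d1_1 D17110 (iv D14037) (iv F24039)
theorem F30545 : act 3 n17110 = n14698 := d9_2 D14029 D17110 F25370 (iv F23109) F23108 F17846 (iv F18516) (iv F24049) (iv F29817) (iv D16747) (iv D13685) (iv D10750) (iv F17837) F17838 (iv F18510)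
theorem F30546 : act 1 n14699 = n17110 := d6_3 F30545 (iv D14698) D14699
def n17111 : Q := act 5 n14029
theorem D17111 : act 5 n14029 = n17111 := rfl
theorem F30547 : act 0 n17111 = n14038 := d4_1 D17111 (iv D14038) (iv F24039)
theorem F30548 : act 3 n17111 = n14030 := d13_1 D17111 (iv D14030) D14029
def n17112 : Q := act 4 n14031
theorem D17112 : act 4 n14031 = n17112 := rfl
theorem F30549 : act 0 n17112 = n14032 := d3_1 D17112 (iv D14032) (iv F24042)
theorem F30550 : act 2 n17112 = n14032 := d10_1 D17112 (iv D14032) (iv F24043)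
def n17113 : Q := act 3 n14032
theorem D17113 : act 3 n14032 = n17113 := rfl
theorem F30551 : act 1 n17113 = n14035 := d6_1 D17113 (iv D14035) (iv F24044)
theorem F30552 : act 4 n17113 = n14033 := d12_2 D14032 D17113 (iv D14033) (iv D11041) D11040
def n17114 : Q := act 5 n14032
theorem D17114 : act 5 n14032 = n17114 := rfl
theorem F30553 : act 1 n17114 = n14036 := d8_1 D17114 (iv D14036) (iv F24044)
def n17115 : Q := act 5 n14033
theorem D17115 : act 5 n14033 = n17115 := rfl
theorem F30554 : act 1 n17115 = n14038 := d8_1 D17115 (iv D14038) (iv F24045)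
theorem F30555 : act 3 n17115 = n14034 := d13_1 D17115 (iv D14034) D14033
def n17116 : Q := act 2 n14035
theorem D17116 : act 2 n14035 = n17116 := rfl
theorem F30556 : act 4 n17116 = n14037 := d10_2 (iv F24048) D17116 (iv D14037)
def n17117 : Q := act 5 n14035
theorem D17117 : act 5 n14035 = n17117 := rfl
theorem F30557 : act 3 n17117 = n14036 := d13_1 D17117 (iv D14036) D14035
def n17118 : Q := act 4 n14038
theorem D17118 : act 4 n14038 = n17118 := rfl
def n17119 : Q := act 4 n14039
theorem D17119 : act 4 n14039 = n17119 := rfl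
theorem F30558 : act 0 n17119 = n14042 := d3_1 D17119 (iv D14042) (iv F24050)
theorem F30559 : act 2 n17119 = n14040 := d10_1 D17119 (iv D14040) D14039
def n17120 : Q := act 5 n14040
theorem D17120 : act 5 n14040 = n17120 := rfl
theorem F30560 : act 0 n17120 = n16956 := d4_1 D17120 (iv D16956) (iv F24051)
theorem F30561 : act 1 n17120 = n14041 := d8_1 D17120 (iv D14041) (iv F24052)
def n17121 : Q := act 3 n14042
theorem D17121 : act 3 n14042 = n17121 := rfl
theorem F30562 : act 1 n17121 = n14043 := d6_1 D17121 (iv D14043) (iv F24054)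
def n17122 : Q := act 5 n14042
theorem D17122 : act 5 n14042 = n17122 := rfl
theorem F30563 : act 1 n17122 = n14044 := d8_1 D17122 (iv D14044) (iv F24054)
theorem F30564 : act 2 n17122 = n16956 := d11_1 D17122 (iv D16956) (iv F24055)
def n17123 : Q := act 2 n14043
theorem D17123 : act 2 n14043 = n17123 := rfl
def n17124 : Q := act 5 n14043
theorem D17124 : act 5 n14043 = n17124 := rfl
theorem F30565 : act 3 n17124 = n14044 := d13_1 D17124 (iv D14044) D14043
def n17125 : Q := act 1 n14045
theorem D17125 : act 1 n14045 = n17125 := rfl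
theorem F30566 : act 0 n17125 = n14097 := d0_1 D17125 F24145 F18589 (iv F18531) (iv F24057)
theorem F30567 : act 2 n17125 = n14053 := d5_2 D14045 D17125 (iv D14053) (iv D11058) (iv F18525)
theorem F30568 : act 5 n17125 = n14096 := d8_2 (iv F24058) D17125 F24144
theorem F30569 : act 3 n14121 = n17125 := d13_3 F30568 (iv F26901) F26902
def n17126 : Q := act 3 n14045
theorem D17126 : act 3 n14045 = n17126 := rfl
theorem F30570 : act 0 n17126 = n14048 := d2_1 D17126 (iv D14048) (iv F24057)
theorem F30571 : act 1 n17126 = n14121 := d6_1 D17126 F30569 (iv D17125)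
theorem F30572 : act 2 n17126 = n14972 := d9_1 D17126 (iv D14972) F20022 F15433 (iv F14225) F14226 (iv F14273) D11095 D14101 F24154 (iv D12818) (iv D10038) (iv F14221) D11051 D14045
theorem F30573 : act 5 n17126 = n14099 := d13_2 (iv F24058) D17126 (iv D14099)
def n17127 : Q := act 4 n14045
theorem D17127 : act 4 n14045 = n17127 := rfl
theorem F30574 : act 0 n17127 = n14049 := d3_1 D17127 (iv D14049) (iv F24057)
theorem F30575 : act 2 n17127 = n14046 := d10_1 D17127 (iv D14046) D14045
def n17128 : Q := act 5 n14046
theorem D17128 : act 5 n14046 = n17128 := rfl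
theorem F30576 : act 0 n17128 = n14050 := d4_1 D17128 (iv D14050) (iv F24059)
theorem F30577 : act 1 n17128 = n14056 := d8_1 D17128 (iv D14056) (iv F24060)
theorem F30578 : act 4 n17128 = n14111 := d14_1 D17128 (iv D14111) (iv D11103) F18526 D14046
def n17129 : Q := act 3 n14047
theorem D17129 : act 3 n14047 = n17129 := rfl
theorem F30579 : act 0 n17129 = n14051 := d2_1 D17129 (iv D14051) (iv F24061)
theorem F30580 : act 1 n17129 = n14058 := d6_1 D17129 (iv D14058) (iv F24062)
theorem F30581 : act 4 n17129 = n14110 := d12_2 D14047 D17129 (iv D14110) (iv D11103) (iv F18530)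
def n17130 : Q := act 2 n14048
theorem D17130 : act 2 n14048 = n17130 := rfl
theorem F30582 : act 0 n17130 = n14972 := d1_1 D17130 (iv F30572) F30570
theorem F30583 : act 1 n17130 = n14118 := d5_1 D17130 (iv D14118) F18618 (iv F18599) (iv F24064)
theorem F30584 : act 3 n17130 = n14971 := d9_2 D14048 D17130 F25912 F20031 (iv F18529) F18530 (iv F18594) D14099 F24150 (iv D12821) (iv D10040) (iv D7746) (iv F10864) D8583 D11053
theorem F30585 : act 5 n17130 = n14101 := d11_2 (iv F24065) D17130 (iv D14101)
def n17131 : Q := act 4 n14048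
theorem D17131 : act 4 n14048 = n17131 := rfl
theorem F30586 : act 1 n17131 = n14107 := d7_1 D17131 (iv D14107) (iv F24064)
def n17132 : Q := act 3 n14049
theorem D17132 : act 3 n14049 = n17132 := rfl
theorem F30587 : act 1 n17132 = n14109 := d6_1 D17132 (iv D14109) (iv F24066)
def n17133 : Q := act 5 n14049
theorem D17133 : act 5 n14049 = n17133 := rfl
theorem F30588 : act 1 n17133 = n14108 := d8_1 D17133 F24163 (iv F24066)
theorem F30589 : act 2 n17133 = n14050 := d11_1 D17133 (iv D14050) (iv F24067)
theorem F30590 : act 4 n17133 = n14104 := d14_1 D17133 (iv D14104) (iv D11096) (iv F18532) D14049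
def n17134 : Q := act 2 n14051
theorem D17134 : act 2 n14051 = n17134 := rfl
theorem F30591 : act 4 n17134 = n14112 := d10_2 (iv F24071) D17134 (iv D14112)
def n17135 : Q := act 1 n14052
theorem D17135 : act 1 n14052 = n17135 := rfl
theorem F30592 : act 3 n17135 = n16942 := d6_2 (iv F24073) D17135 (iv D16942)
theorem F30593 : act 4 n17135 = n14114 := d7_2 (iv F24074) D17135 (iv D14114)
theorem F30594 : act 5 n17135 = n16955 := d8_2 (iv F24075) D17135 F30233
def n17136 : Q := act 0 n14053
theorem D17136 : act 0 n14053 = n17136 := rfl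
theorem F30595 : act 1 n17136 = n14059 := d0_2 D14053 D17136 (iv D14059) (iv D11062) (iv F18541)
theorem F30596 : act 2 n17136 = n14097 := d1_2 F30567 D17136 (iv F30566)
theorem F30597 : act 3 n17136 = n15788 := d2_2 F27421 D17136 F27750
theorem F30598 : act 5 n14089 = n17136 := d15_8 (iv F30567) (iv F30569) F26809 (iv D15347) (iv F26789) (iv F27763) F27762 F26072 (iv D17136)
def n17137 : Q := act 4 n14053
theorem D17137 : act 4 n14053 = n17137 := rfl
theorem F30599 : act 1 n17137 = n14054 := d7_1 D17137 (iv D14054) D14053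
def n17138 : Q := act 5 n14053
theorem D17138 : act 5 n14053 = n17138 := rfl
theorem F30600 : act 0 n17138 = n14089 := d4_1 D17138 F30598 (iv D17136)
theorem F30601 : act 1 n17138 = n14055 := d8_1 D17138 (iv D14055) D14053
theorem F30602 : act 2 n17138 = n14096 := d11_1 D17138 (iv F30568) F30567
theorem F30603 : act 3 n17138 = n14082 := d13_1 D17138 (iv F27422) F27421
theorem F30604 : act 4 n16651 = n17138 := d12_0 F30603 (iv F26074) (iv D14758) (iv F23133) D16651
def n17139 : Q := act 3 n14054
theorem D17139 : act 3 n14054 = n17139 := rfl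
theorem F30605 : act 0 n17139 = n14064 := d2_1 D17139 (iv D14064) (iv F24076)
def n17140 : Q := act 5 n14054
theorem D17140 : act 5 n14054 = n17140 := rfl
theorem F30606 : act 0 n17140 = n14065 := d4_1 D17140 (iv D14065) (iv F24076)
theorem F30607 : act 2 n17140 = n14056 := d11_1 D17140 (iv D14056) (iv F24077)
def n17141 : Q := act 4 n14055
theorem D17141 : act 4 n14055 = n17141 := rfl
theorem F30608 : act 0 n17141 = n14066 := d3_1 D17141 (iv D14066) (iv F24078)
theorem F30609 : act 1 n17141 = n16651 := d7_1 D17141 F30604 F30601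
theorem F30610 : act 2 n17141 = n14057 := d10_1 D17141 (iv D14057) (iv F24079)
theorem F30611 : act 3 n17141 = n16650 := d12_1 D17141 F29593 F26076 (iv D14083) (iv F24080)
def n17142 : Q := act 4 n14056
theorem D17142 : act 4 n14056 = n17142 := rfl
theorem F30612 : act 0 n17142 = n14067 := d3_1 D17142 (iv D14067) (iv F24081)
theorem F30613 : act 1 n17142 = n14111 := d7_1 D17142 (iv F30578) F30577
theorem F30614 : act 5 n17142 = n14057 := d14_2 D14056 D17142 (iv D14057) (iv D11060) D11059
def n17143 : Q := act 3 n14057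
theorem D17143 : act 3 n14057 = n17143 := rfl
theorem F30615 : act 0 n17143 = n14068 := d2_1 D17143 (iv D14068) (iv F24082)
theorem F30616 : act 1 n17143 = n14110 := d6_1 D17143 (iv D14110) (iv F24083)
theorem F30617 : act 4 n17143 = n14058 := d12_2 D14057 D17143 (iv D14058) (iv D11061) (iv F18545)
def n17144 : Q := act 2 n14058
theorem D17144 : act 2 n14058 = n17144 := rfl
theorem F30618 : act 0 n17144 = n14069 := d1_1 D17144 (iv D14069) (iv F24084)
def n17145 : Q := act 4 n14059
theorem D17145 : act 4 n14059 = n17145 := rfl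
theorem F30619 : act 0 n17145 = n14061 := d3_1 D17145 (iv D14061) D14059
theorem F30620 : act 2 n17145 = n14070 := d10_1 D17145 (iv D14070) (iv F24085)
def n17146 : Q := act 4 n14060
theorem D17146 : act 4 n14060 = n17146 := rfl
theorem F30621 : act 0 n17146 = n15789 := d3_1 D17146 (iv D15789) (iv F24088)
theorem F30622 : act 1 n17146 = n14062 := d7_1 D17146 (iv D14062) (iv F24089)
theorem F30623 : act 2 n17146 = n15786 := d10_1 D17146 (iv D15786) (iv F24091)
def n17147 : Q := act 3 n14061
theorem D17147 : act 3 n14061 = n17147 := rfl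
theorem F30624 : act 1 n17147 = n14064 := d6_1 D17147 (iv D14064) (iv F24092)
def n17148 : Q := act 5 n14061
theorem D17148 : act 5 n14061 = n17148 := rfl
theorem F30625 : act 1 n17148 = n14065 := d8_1 D17148 (iv D14065) (iv F24092)
theorem F30626 : act 2 n17148 = n14072 := d11_1 D17148 (iv D14072) (iv F24093)
theorem F30627 : act 4 n17148 = n14094 := d14_1 D17148 (iv D14094) (iv D11088) F18549 D14061
def n17149 : Q := act 3 n14062
theorem D17149 : act 3 n14062 = n17149 := rfl
theorem F30628 : act 4 n17149 = n14064 := d12_2 D14062 D17149 (iv D14064) (iv D11064) D11063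
def n17150 : Q := act 5 n14062
theorem D17150 : act 5 n14062 = n17150 := rfl
def n17151 : Q := act 2 n14064
theorem D17151 : act 2 n14064 = n17151 := rfl
def n17152 : Q := act 5 n14064
theorem D17152 : act 5 n14064 = n17152 := rfl
theorem F30629 : act 3 n17152 = n14065 := d13_1 D17152 (iv D14065) D14064
def n17153 : Q := act 4 n14065
theorem D17153 : act 4 n14065 = n17153 := rfl
theorem F30630 : act 1 n17153 = n14094 := d7_1 D17153 (iv F30627) F30625
theorem F30631 : act 2 n17153 = n14067 := d10_1 D17153 (iv D14067) (iv F24098)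
theorem F30632 : act 5 n17153 = n14066 := d14_2 D14065 D17153 (iv D14066) (iv D11065) D11064
def n17154 : Q := act 3 n14066
theorem D17154 : act 3 n14066 = n17154 := rfl
theorem F30633 : act 0 n17154 = n16650 := d2_1 D17154 (iv F30611) F30608
theorem F30634 : act 1 n17154 = n14093 := d6_1 D17154 (iv D14093) (iv F24099)
theorem F30635 : act 2 n16653 = n17154 := d5_0 F30634 (iv F26085) F26084 (iv F25510) (iv F29599)
def n17155 : Q := act 3 n14067
theorem D17155 : act 3 n14067 = n17155 := rfl
theorem F30636 : act 1 n17155 = n14073 := d6_1 D17155 (iv D14073) (iv F24101)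
theorem F30637 : act 5 n17155 = n14068 := d13_2 (iv F24102) D17155 (iv D14068)
def n17156 : Q := act 2 n14068
theorem D17156 : act 2 n14068 = n17156 := rfl
theorem F30638 : act 4 n17156 = n14069 := d10_2 (iv F24104) D17156 (iv D14069)
def n17157 : Q := act 1 n14069
theorem D17157 : act 1 n14069 = n17157 := rfl
theorem F30639 : act 2 n17157 = n14075 := d5_2 D14069 D17157 (iv D14075) (iv D11075) (iv F18555)
def n17158 : Q := act 3 n14069
theorem D17158 : act 3 n14069 = n17158 := rfl
def n17159 : Q := act 2 n14071
theorem D17159 : act 2 n14071 = n17159 := rfl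
theorem F30640 : act 0 n17159 = n16865 := d1_1 D17159 F30080 (iv F24108)
theorem F30641 : act 1 n17159 = n15366 := d5_1 D17159 F26857 F20739 F18562 (iv F24109)
theorem F30642 : act 4 n17159 = n14095 := d10_2 (iv F24110) D17159 (iv D14095)
def n17160 : Q := act 1 n14074
theorem D17160 : act 1 n14074 = n17160 := rfl
theorem F30643 : act 3 n17160 = n16655 := d6_2 (iv F24117) D17160 F29603
theorem F30644 : act 4 n17160 = n14075 := d7_2 (iv F24118) D17160 (iv D14075)
theorem F30645 : act 5 n17160 = n16654 := d8_2 (iv F24119) D17160 F29601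
def n17161 : Q := act 0 n14075
theorem D17161 : act 0 n14075 = n17161 := rfl
def n17162 : Q := act 1 n14081
theorem D17162 : act 1 n14081 = n17162 := rfl
theorem F30646 : act 4 n17162 = n16927 := d7_2 (iv F24128) D17162 (iv D16927)
def n17163 : Q := act 3 n14081
theorem D17163 : act 3 n14081 = n17163 := rfl
theorem F30647 : act 0 n17163 = n14088 := d2_1 D17163 (iv D14088) (iv F24127)
def n17164 : Q := act 2 n14088
theorem D17164 : act 2 n14088 = n17164 := rfl
def n17165 : Q := act 4 n14088
theorem D17165 : act 4 n14088 = n17165 := rfl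
theorem F30648 : act 3 n17165 = n16930 := d12_1 D17165 (iv D16930) (iv D13858) (iv F18581) D14088
def n17166 : Q := act 5 n14092
theorem D17166 : act 5 n14092 = n17166 := rfl
def n17167 : Q := act 5 n14093
theorem D17167 : act 5 n14093 = n17167 := rfl
theorem F30649 : act 2 n17167 = n16014 := d11_1 D17167 F28217 F26085
theorem F30650 : act 3 n17167 = n14094 := d13_1 D17167 (iv D14094) D14093
def n17168 : Q := act 3 n14095
theorem D17168 : act 3 n14095 = n17168 := rfl
theorem F30651 : act 0 n17168 = n15653 := d2_1 D17168 F27477 (iv F24141)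
theorem F30652 : act 1 n17168 = n15365 := d6_1 D17168 (iv D15365) (iv F24142)
theorem F30653 : act 2 n17168 = n15650 := d9_1 D17168 (iv D15650) (iv D12573) (iv D9836) F12565 D8418 D10845 D13793 (iv F27464) (iv D15647) (iv D12571) (iv D9834) (iv F14263) D11090 D14095
theorem F30654 : act 5 n17168 = n15400 := d13_2 (iv F24143) D17168 (iv D15400)
def n17169 : Q := act 4 n14097
theorem D17169 : act 4 n14097 = n17169 := rfl
theorem F30655 : act 1 n17169 = n14098 := d7_1 D17169 (iv D14098) (iv F24145)
def n17170 : Q := act 3 n14098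
theorem D17170 : act 3 n14098 = n17170 := rfl
theorem F30656 : act 0 n17170 = n14109 := d2_1 D17170 (iv D14109) (iv F24147)
theorem F30657 : act 4 n17170 = n14123 := d12_2 D14098 D17170 (iv D14123) (iv D11114) (iv F18591)
def n17171 : Q := act 4 n14099
theorem D17171 : act 4 n14099 = n17171 := rfl
theorem F30658 : act 0 n17171 = n14102 := d3_1 D17171 (iv D14102) (iv F24149)
theorem F30659 : act 2 n17171 = n15876 := d10_1 D17171 (iv D15876) (iv F24150)
def n17172 : Q := act 3 n14100
theorem D17172 : act 3 n14100 = n17172 := rfl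
theorem F30660 : act 0 n17172 = n14103 := d2_1 D17172 (iv D14103) (iv F24151)
theorem F30661 : act 1 n17172 = n16314 := d6_1 D17172 F28847 F24951
theorem F30662 : act 2 n16317 = n17172 := d5_0 F30661 F28846 F22490 (iv F22497) (iv F28853)
theorem F30663 : act 5 n16312 = n17172 := d8_0 F30661 (iv D16314) D16312
def n17173 : Q := act 5 n14100
theorem D17173 : act 5 n14100 = n17173 := rfl
theorem F30664 : act 0 n17173 = n14104 := d4_1 D17173 (iv D14104) (iv F24151)
theorem F30665 : act 1 n17173 = n16313 := d8_1 D17173 F28844 F24951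
theorem F30666 : act 2 n17173 = n14111 := d11_1 D17173 (iv D14111) (iv F24152)
theorem F30667 : act 3 n17173 = n16312 := d13_1 D17173 F30663 (iv D17172)
def n17174 : Q := act 4 n14101
theorem D17174 : act 4 n14101 = n17174 := rfl
theorem F30668 : act 0 n17174 = n15876 := d3_1 D17174 (iv D15876) (iv F24153)
theorem F30669 : act 2 n17174 = n14102 := d10_1 D17174 (iv D14102) D14101
def n17175 : Q := act 3 n14102
theorem D17175 : act 3 n14102 = n17175 := rfl
theorem F30670 : act 1 n17175 = n14105 := d6_1 D17175 (iv D14105) (iv F24155)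
theorem F30671 : act 4 n17175 = n14103 := d12_2 D14102 D17175 (iv D14103) (iv D11096) D11095
def n17176 : Q := act 5 n14102
theorem D17176 : act 5 n14102 = n17176 := rfl
theorem F30672 : act 1 n17176 = n14106 := d8_1 D17176 (iv D14106) (iv F24155)
def n17177 : Q := act 2 n14103
theorem D17177 : act 2 n14103 = n17177 := rfl
theorem F30673 : act 0 n17177 = n16317 := d1_1 D17177 F30662 F30660
theorem F30674 : act 5 n17177 = n16315 := d11_2 F24964 D17177 F28849
def n17178 : Q := act 5 n14105
theorem D17178 : act 5 n14105 = n17178 := rfl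
theorem F30675 : act 3 n17178 = n14106 := d13_1 D17178 (iv D14106) D14105
def n17179 : Q := act 4 n14106
theorem D17179 : act 4 n14106 = n17179 := rfl
theorem F30676 : act 0 n17179 = n14124 := d3_1 D17179 (iv F26907) F26905
theorem F30677 : act 2 n17179 = n14120 := d10_1 D17179 (iv F26898) F26896
theorem F30678 : act 5 n17179 = n14107 := d14_2 D14106 D17179 (iv D14107) (iv D11098) D11097
def n17180 : Q := act 3 n14107
theorem D17180 : act 3 n14107 = n17180 := rfl
theorem F30679 : act 0 n17180 = n14123 := d2_1 D17180 (iv D14123) (iv F24160)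
theorem F30680 : act 4 n17180 = n14109 := d12_2 D14107 D17180 (iv D14109) (iv D11101) (iv F18600)
def n17181 : Q := act 3 n14108
theorem D17181 : act 3 n14108 = n17181 := rfl
theorem F30681 : act 5 n17181 = n14109 := d13_2 (iv F24163) D17181 (iv D14109)
def n17182 : Q := act 2 n14109
theorem D17182 : act 2 n14109 = n17182 := rfl
def n17183 : Q := act 2 n14110
theorem D17183 : act 2 n14110 = n17183 := rfl
theorem F30682 : act 0 n17183 = n14112 := d1_1 D17183 (iv D14112) (iv F24164)
def n17184 : Q := act 5 n14110
theorem D17184 : act 5 n14110 = n17184 := rfl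
theorem F30683 : act 0 n17184 = n14113 := d4_1 D17184 (iv D14113) (iv F24164)
theorem F30684 : act 3 n17184 = n14111 := d13_1 D17184 (iv D14111) D14110
def n17185 : Q := act 1 n14112
theorem D17185 : act 1 n14112 = n17185 := rfl
theorem F30685 : act 2 n17185 = n14114 := d5_2 D14112 D17185 (iv D14114) (iv D11106) (iv F18607)
def n17186 : Q := act 3 n14112
theorem D17186 : act 3 n14112 = n17186 := rfl
theorem F30686 : act 2 n17186 = n16316 := d15_2 D14112 D17186 (iv D16316) (iv F28841) (iv F30667) F30666 (iv F30684) (iv D17184) F24164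
def n17187 : Q := act 5 n14112
theorem D17187 : act 5 n14112 = n17187 := rfl
theorem F30687 : act 2 n17187 = n14113 := d11_1 D17187 (iv D14113) D14112
def n17188 : Q := act 4 n14113
theorem D17188 : act 4 n14113 = n17188 := rfl
theorem F30688 : act 1 n17188 = n14115 := d7_1 D17188 (iv D14115) (iv F24166)
def n17189 : Q := act 0 n14114
theorem D17189 : act 0 n14114 = n17189 := rfl
def n17190 : Q := act 0 n14116
theorem D17190 : act 0 n14116 = n17190 := rfl
theorem F30689 : act 1 n17190 = n15362 := d0_2 D14116 D17190 F26850 F20739 (iv F18613)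
theorem F30690 : act 2 n17190 = n16889 := d1_2 (iv F24168) D17190 F30118
theorem F30691 : act 4 n17190 = n14117 := d3_2 (iv F24169) D17190 (iv D14117)
def n17191 : Q := act 4 n14118
theorem D17191 : act 4 n14118 = n17191 := rfl
theorem F30692 : act 2 n17191 = n14119 := d10_1 D17191 (iv D14119) D14118
def n17192 : Q := act 5 n14119
theorem D17192 : act 5 n14119 = n17192 := rfl
theorem F30693 : act 1 n17192 = n14120 := d8_1 D17192 (iv D14120) (iv F24174)
theorem F30694 : act 3 n17192 = n16849 := d13_1 D17192 (iv D16849) (iv F24175)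
def n17193 : Q := act 4 n14121
theorem D17193 : act 4 n14121 = n17193 := rfl
theorem F30695 : act 0 n17193 = n14122 := d3_1 D17193 (iv D14122) D14121
def n17194 : Q := act 3 n14122
theorem D17194 : act 3 n14122 = n17194 := rfl
theorem F30696 : act 1 n17194 = n14123 := d6_1 D17194 (iv D14123) (iv F24178)
def n17195 : Q := act 5 n14122
theorem D17195 : act 5 n14122 = n17195 := rfl
theorem F30697 : act 1 n17195 = n14124 := d8_1 D17195 (iv D14124) (iv F24178)
def n17196 : Q := act 2 n14123
theorem D17196 : act 2 n14123 = n17196 := rfl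
def n17197 : Q := act 5 n14123
theorem D17197 : act 5 n14123 = n17197 := rfl
theorem F30698 : act 3 n17197 = n14124 := d13_1 D17197 (iv D14124) D14123
def n17198 : Q := act 0 n14125
theorem D17198 : act 0 n14125 = n17198 := rfl
theorem F30699 : act 1 n17198 = n14491 := d0_2 D14125 D17198 (iv D14491) (iv D11463) (iv F18623)
theorem F30700 : act 2 n17198 = n14127 := d1_2 (iv F24180) D17198 (iv D14127)
theorem F30701 : act 4 n17198 = n14507 := d3_2 F28842 D17198 (iv F28840)
def n17199 : Q := act 3 n14125
theorem D17199 : act 3 n14125 = n17199 := rfl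
theorem F30702 : act 1 n17199 = n14126 := d6_1 D17199 (iv D14126) D14125
def n17200 : Q := act 4 n14126
theorem D17200 : act 4 n14126 = n17200 := rfl
theorem F30703 : act 0 n17200 = n14493 := d3_1 D17200 (iv D14493) (iv F24181)
def n17201 : Q := act 4 n14129
theorem D17201 : act 4 n14129 = n17201 := rfl
theorem F30704 : act 0 n17201 = n14160 := d3_1 D17201 (iv D14160) (iv F24186)
theorem F30705 : act 1 n17201 = n14130 := d7_1 D17201 (iv D14130) (iv F24187)
theorem F30706 : act 2 n17201 = n14233 := d10_1 D17201 (iv D14233) F24189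
def n17202 : Q := act 5 n14130
theorem D17202 : act 5 n14130 = n17202 := rfl
theorem F30707 : act 0 n17202 = n14138 := d4_1 D17202 (iv D14138) (iv F24190)
theorem F30708 : act 2 n17202 = n14163 := d11_1 D17202 F24253 (iv F24191)
theorem F30709 : act 4 n17202 = n14162 := d14_1 D17202 (iv D14162) (iv D11151) F18626 D14130
def n17203 : Q := act 3 n14131
theorem D17203 : act 3 n14131 = n17203 := rfl
theorem F30710 : act 0 n17203 = n14133 := d2_1 D17203 (iv D14133) (iv F24192)
theorem F30711 : act 4 n17203 = n14161 := d12_2 D14131 D17203 (iv D14161) (iv D11151) (iv F18629)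
def n17204 : Q := act 3 n14132
theorem D17204 : act 3 n14132 = n17204 := rfl
theorem F30712 : act 0 n17204 = n14161 := d2_1 D17204 (iv D14161) (iv F24194)
theorem F30713 : act 1 n17204 = n14137 := d6_1 D17204 (iv D14137) (iv F24195)
theorem F30714 : act 4 n17204 = n14133 := d12_2 D14132 D17204 (iv D14133) (iv D11123) D11122
def n17205 : Q := act 5 n14132
theorem D17205 : act 5 n14132 = n17205 := rfl
theorem F30715 : act 0 n17205 = n14162 := d4_1 D17205 (iv D14162) (iv F24194)
theorem F30716 : act 1 n17205 = n14138 := d8_1 D17205 (iv D14138) (iv F24195)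
theorem F30717 : act 2 n17205 = n14154 := d11_1 D17205 (iv D14154) (iv F24196)
theorem F30718 : act 4 n17205 = n14138 := d14_1 D17205 (iv D14138) (iv D11125) (iv F18635) D14132
def n17206 : Q := act 2 n14133
theorem D17206 : act 2 n14133 = n17206 := rfl
def n17207 : Q := act 4 n14135
theorem D17207 : act 4 n14135 = n17207 := rfl
theorem F30719 : act 0 n17207 = n14226 := d3_1 D17207 (iv D14226) (iv F24201)
theorem F30720 : act 1 n17207 = n14136 := d7_1 D17207 (iv D14136) D14135
theorem F30721 : act 2 n17207 = n14152 := d10_1 D17207 (iv D14152) (iv F24202)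
def n17208 : Q := act 3 n14136
theorem D17208 : act 3 n14136 = n17208 := rfl
theorem F30722 : act 0 n17208 = n14164 := d2_1 D17208 (iv D14164) (iv F24205)
theorem F30723 : act 4 n17208 = n14155 := d12_2 D14136 D17208 (iv D14155) (iv D11146) (iv F18639)
theorem F30724 : act 2 n14478 = n17208 := d10_3 F30723 F24237 D14478
def n17209 : Q := act 5 n14136
theorem D17209 : act 5 n14136 = n17209 := rfl
theorem F30725 : act 0 n17209 = n14163 := d4_1 D17209 F24253 (iv F24205)
theorem F30726 : act 2 n17209 = n14138 := d11_1 D17209 (iv D14138) (iv F24206)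
theorem F30727 : act 4 n17209 = n14154 := d14_1 D17209 (iv D14154) (iv D11145) (iv F18640) D14136
def n17210 : Q := act 5 n14137
theorem D17210 : act 5 n14137 = n17210 := rfl
theorem F30728 : act 3 n17210 = n14138 := d13_1 D17210 (iv D14138) D14137
def n17211 : Q := act 0 n14139
theorem D17211 : act 0 n14139 = n17211 := rfl
theorem F30729 : act 2 n17211 = n14511 := d1_2 (iv F24208) D17211 F24970
theorem F30730 : act 4 n17211 = n14140 := d3_2 (iv F24209) D17211 (iv D14140)
def n17212 : Q := act 0 n14141
theorem D17212 : act 0 n14141 = n17212 := rfl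
theorem F30731 : act 2 n17212 = n14145 := d1_2 (iv F24213) D17212 (iv D14145)
def n17213 : Q := act 3 n14141
theorem D17213 : act 3 n14141 = n17213 := rfl
theorem F30732 : act 1 n17213 = n14142 := d6_1 D17213 (iv D14142) D14141
def n17214 : Q := act 5 n14141
theorem D17214 : act 5 n14141 = n17214 := rfl
theorem F30733 : act 1 n17214 = n14143 := d8_1 D17214 (iv D14143) D14141
theorem F30734 : act 2 n17214 = n14147 := d11_1 D17214 (iv D14147) (iv F24213)
theorem F30735 : act 4 n17186 = n17214 := d10_0 F30734 (iv F28852) (iv F30686)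
def n17215 : Q := act 2 n14142
theorem D17215 : act 2 n14142 = n17215 := rfl
theorem F30736 : act 3 n17215 = n14769 := d15_3 D11132 D14142 D17215 F25528 F19699 (iv F17690) (iv F22903) (iv D13471) F17685
theorem F30737 : act 5 n14768 = n17215 := d13_0 F30736 (iv D14769) D14768
def n17216 : Q := act 4 n14142
theorem D17216 : act 4 n14142 = n17216 := rfl
def n17217 : Q := act 5 n14142
theorem D17217 : act 5 n14142 = n17217 := rfl
theorem F30738 : act 2 n17217 = n14768 := d11_1 D17217 F30737 (iv D17215)
theorem F30739 : act 3 n17217 = n14143 := d13_1 D17217 (iv D14143) D14142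
def n17218 : Q := act 4 n14143
theorem D17218 : act 4 n14143 = n17218 := rfl
theorem F30740 : act 1 n17218 = n17186 := d7_1 D17218 F30735 F30733
theorem F30741 : act 2 n17218 = n14144 := d10_1 D17218 (iv D14144) (iv F24214)
theorem F30742 : act 3 n17185 = n17218 := d15_3 (iv F25515) F25516 (iv F30685) F30741 (iv F28226) F28225 (iv D15047) D15048 F26110
def n17219 : Q := act 3 n14145
theorem D17219 : act 3 n14145 = n17219 := rfl
theorem F30743 : act 0 n17219 = n14146 := d2_1 D17219 (iv D14146) D14145
theorem F30744 : act 4 n17177 = n17219 := d3_0 F30743 (iv F28854) (iv F30673)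
theorem F30745 : act 2 n17219 = n17175 := d10_1 F30744 F30671 D17177
def n17220 : Q := act 5 n14145
theorem D17220 : act 5 n14145 = n17220 := rfl
theorem F30746 : act 0 n17220 = n14147 := d4_1 D17220 (iv D14147) D14145
def n17221 : Q := act 2 n14146
theorem D17221 : act 2 n14146 = n17221 := rfl
theorem F30747 : act 0 n17221 = n17175 := d1_1 D17221 (iv F30745) F30743
theorem F30748 : act 4 n17221 = n17172 := d10_2 F28854 D17221 (iv F30662)
theorem F30749 : act 3 n17171 = n17221 := d12_5 F30748 (iv D17172) (iv D14100) D14099 D17171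
def n17222 : Q := act 0 n14148
theorem D17222 : act 0 n14148 = n17222 := rfl
theorem F30750 : act 1 n17222 = n17177 := d0_2 D14148 D17222 F30673 F28853 F22496

end Cfsg.Agent.Helper17.ONS1TC
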