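import Cfsg.Agent.Helper17.ONS1TC.Facts4

set_option autoImplicit false
set_option linter.all false

noncomputable section

namespace Cfsg.Agent.Helper17.ONS1TC

theorem F30751 : act 2 n17222 = n14505 := d1_2 (iv F24218) D17222 F24958
theorem F30752 : act 5 n17222 = n14149 := d4_2 (iv F24219) D17222 (iv D14149)
def n17223 : Q := act 3 n14149
theorem D17223 : act 3 n14149 = n17223 := rfl
theorem F30753 : act 0 n17223 = n14150 := d2_1 D17223 (iv D14150) D14149
def n17224 : Q := act 4 n14151
theorem D17224 : act 4 n14151 = n17224 := rfl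
theorem F30754 : act 0 n17224 = n14152 := d3_1 D17224 (iv D14152) (iv F24223)
theorem F30755 : act 1 n17224 = n14156 := d7_1 D17224 (iv D14156) (iv F24224)
theorem F30756 : act 2 n17224 = n14226 := d10_1 D17224 (iv D14226) (iv F24225)
theorem F30757 : act 3 n17224 = n14496 := d12_1 D17224 (iv D14496) (iv D11471) (iv F18661) D14151
def n17225 : Q := act 5 n14152
theorem D17225 : act 5 n14152 = n17225 := rfl
theorem F30758 : act 1 n17225 = n14154 := d8_1 D17225 (iv D14154) (iv F24227)
theorem F30759 : act 3 n17225 = n14497 := d13_1 D17225 (iv D14497) (iv F24228)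
def n17226 : Q := act 3 n14153
theorem D17226 : act 3 n14153 = n17226 := rfl
theorem F30760 : act 0 n17226 = n14227 := d2_1 D17226 (iv D14227) (iv F24229)
theorem F30761 : act 1 n17226 = n14155 := d6_1 D17226 (iv D14155) (iv F24230)
theorem F30762 : act 5 n17226 = n14453 := d13_2 (iv F24232) D17226 (iv D14453)
def n17227 : Q := act 5 n14156
theorem D17227 : act 5 n14156 = n17227 := rfl
theorem F30763 : act 0 n17227 = n14159 := d4_1 D17227 (iv D14159) (iv F24238)
theorem F30764 : act 2 n17227 = n14219 := d11_1 D17227 (iv D14219) (iv F24239)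
theorem F30765 : act 3 n17227 = n14516 := d13_1 D17227 (iv D14516) (iv F24240)
theorem F30766 : act 4 n17227 = n14230 := d14_1 D17227 (iv D14230) (iv D11206) (iv F18673) D14156
def n17228 : Q := act 4 n14157
theorem D17228 : act 4 n14157 = n17228 := rfl
theorem F30767 : act 0 n17228 = n14233 := d3_1 D17228 (iv D14233) (iv F24241)
theorem F30768 : act 1 n17228 = n14158 := d7_1 D17228 (iv D14158) D14157
theorem F30769 : act 2 n17228 = n14160 := d10_1 D17228 (iv D14160) (iv F24242)
def n17229 : Q := act 3 n14158
theorem D17229 : act 3 n14158 = n17229 := rfl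
theorem F30770 : act 0 n17229 = n14218 := d2_1 D17229 (iv D14218) (iv F24245)
theorem F30771 : act 4 n17229 = n14211 := d12_2 D14158 D17229 (iv D14211) (iv D11189) (iv F18677)
def n17230 : Q := act 5 n14158
theorem D17230 : act 5 n14158 = n17230 := rfl
theorem F30772 : act 0 n17230 = n14219 := d4_1 D17230 (iv D14219) (iv F24245)
theorem F30773 : act 2 n17230 = n14159 := d11_1 D17230 (iv D14159) (iv F24246)
theorem F30774 : act 4 n17230 = n14235 := d14_1 D17230 (iv D14235) (iv D11211) (iv F18676) D14158
def n17231 : Q := act 3 n14160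
theorem D17231 : act 3 n14160 = n17231 := rfl
theorem F30775 : act 1 n17231 = n14161 := d6_1 D17231 (iv D14161) (iv F24250)
def n17232 : Q := act 5 n14160
theorem D17232 : act 5 n14160 = n17232 := rfl
theorem F30776 : act 1 n17232 = n14162 := d8_1 D17232 (iv D14162) (iv F24250)
def n17233 : Q := act 2 n14161
theorem D17233 : act 2 n14161 = n17233 := rfl
theorem F30777 : act 3 n17233 = n15034 := d15_3 (iv F18680) D14161 D17233 F26058 (iv F23525) F23524 (iv F24234) (iv D14154) F18667
theorem F30778 : act 1 n15427 = n17233 := d6_3 F30777 F26057 (iv F26980)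
theorem F30779 : act 5 n15033 = n17233 := d13_0 F30777 (iv D15034) D15033
def n17234 : Q := act 5 n14161
theorem D17234 : act 5 n14161 = n17234 := rfl
theorem F30780 : act 2 n17234 = n15033 := d11_1 D17234 F30779 (iv D17233)
theorem F30781 : act 3 n17234 = n14162 := d13_1 D17234 (iv D14162) D14161
def n17235 : Q := act 3 n14163
theorem D17235 : act 3 n14163 = n17235 := rfl
theorem F30782 : act 1 n17235 = n14237 := d6_1 D17235 F24406 (iv F24252)
theorem F30783 : act 4 n17235 = n14481 := d12_2 D14163 D17235 F24901 F19225 (iv F18681)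
theorem F30784 : act 5 n17235 = n14164 := d13_2 (iv F24253) D17235 (iv D14164)
def n17236 : Q := act 2 n14164
theorem D17236 : act 2 n14164 = n17236 := rfl
theorem F30785 : act 0 n17236 = n14478 := d1_1 D17236 F30724 F30722
theorem F30786 : act 4 n17236 = n14165 := d10_2 (iv F24255) D17236 (iv D14165)
def n17237 : Q := act 1 n14165
theorem D17237 : act 1 n14165 = n17237 := rfl
theorem F30787 : act 2 n17237 = n14238 := d5_2 D14165 D17237 (iv D14238) (iv D11214) (iv F18683)
theorem F30788 : act 3 n17237 = n14452 := d6_2 (iv F24258) D17237 (iv D14452)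
theorem F30789 : act 5 n17237 = n14479 := d8_2 (iv F24257) D17237 (iv D14479)
def n17238 : Q := act 3 n14166
theorem D17238 : act 3 n14166 = n17238 := rfl
theorem F30790 : act 0 n17238 = n16936 := d2_1 D17238 (iv D16936) (iv F24259)
theorem F30791 : act 1 n17238 = n14167 := d6_1 D17238 (iv D14167) D14166
def n17239 : Q := act 4 n14167
theorem D17239 : act 4 n14167 = n17239 := rfl
theorem F30792 : act 0 n17239 = n14169 := d3_1 D17239 (iv D14169) (iv F24262)
theorem F30793 : act 3 n17239 = n14330 := d12_1 D17239 (iv D14330) (iv D11286) (iv F18686) D14167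
def n17240 : Q := act 1 n14168
theorem D17240 : act 1 n14168 = n17240 := rfl
theorem F30794 : act 2 n17240 = n16940 := d5_2 D14168 D17240 (iv D16940) (iv D13869) (iv F18687)
theorem F30795 : act 3 n17240 = n14471 := d6_2 (iv F24264) D17240 F24889
theorem F30796 : act 5 n17240 = n14492 := d8_2 (iv F24263) D17240 F24928
def n17241 : Q := act 4 n14168
theorem D17241 : act 4 n14168 = n17241 := rfl
theorem F30797 : act 2 n17241 = n14169 := d10_1 D17241 (iv D14169) D14168
def n17242 : Q := act 5 n14169
theorem D17242 : act 5 n14169 = n17242 := rfl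
theorem F30798 : act 1 n17242 = n16938 := d8_1 D17242 F30213 (iv F24265)
theorem F30799 : act 3 n17242 = n14333 := d13_1 D17242 (iv D14333) (iv F24266)
def n17243 : Q := act 3 n14170
theorem D17243 : act 3 n14170 = n17243 := rfl
theorem F30800 : act 1 n17243 = n14173 := d6_1 D17243 (iv D14173) (iv F24267)
theorem F30801 : act 4 n17243 = n14171 := d12_2 D14170 D17243 (iv D14171) (iv D11160) D11159
def n17244 : Q := act 5 n14170
theorem D17244 : act 5 n14170 = n17244 := rfl
theorem F30802 : act 1 n17244 = n14174 := d8_1 D17244 (iv D14174) (iv F24267)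
theorem F30803 : act 4 n17244 = n14260 := d14_1 D17244 (iv D14260) (iv D11234) (iv F18697) D14170
def n17245 : Q := act 2 n14171
theorem D17245 : act 2 n14171 = n17245 := rfl
def n17246 : Q := act 5 n14171
theorem D17246 : act 5 n14171 = n17246 := rfl
theorem F30804 : act 1 n17246 = n14176 := d8_1 D17246 (iv D14176) (iv F24268)
theorem F30805 : act 3 n17246 = n14172 := d13_1 D17246 (iv D14172) D14171
def n17247 : Q := act 2 n14173
theorem D17247 : act 2 n14173 = n17247 := rfl
theorem F30806 : act 0 n17247 = n14181 := d1_1 D17247 (iv D14181) (iv F24271)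
theorem F30807 : act 4 n17247 = n14175 := d10_2 (iv F24272) D17247 (iv D14175)
def n17248 : Q := act 5 n14173
theorem D17248 : act 5 n14173 = n17248 := rfl
theorem F30808 : act 0 n17248 = n14182 := d4_1 D17248 (iv D14182) (iv F24271)
theorem F30809 : act 3 n17248 = n14174 := d13_1 D17248 (iv D14174) D14173
def n17249 : Q := act 1 n14175
theorem D17249 : act 1 n14175 = n17249 := rfl
theorem F30810 : act 3 n17249 = n14200 := d6_2 (iv F24277) D17249 F24329
theorem F30811 : act 5 n17249 = n14199 := d8_2 F24278 D17249 F24328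
def n17250 : Q := act 4 n14176
theorem D17250 : act 4 n14176 = n17250 := rfl
theorem F30812 : act 0 n17250 = n14186 := d3_1 D17250 (iv D14186) (iv F24279)
theorem F30813 : act 2 n17250 = n14201 := d10_1 D17250 (iv D14201) (iv F24280)
theorem F30814 : act 3 n17250 = n16739 := d12_1 D17250 (iv D16739) (iv D13668) (iv F18704) (iv F24281)
def n17251 : Q := act 3 n14178
theorem D17251 : act 3 n14178 = n17251 := rfl
theorem F30815 : act 0 n17251 = n17243 := d2_1 D17251 (iv D17243) (iv F24286)
theorem F30816 : act 1 n17251 = n14179 := d6_1 D17251 (iv D14179) (iv F24287)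
theorem F30817 : act 4 n17251 = n14247 := d12_2 D14178 D17251 (iv D14247) (iv D11221) (iv F18711)
def n17252 : Q := act 5 n14178
theorem D17252 : act 5 n14178 = n17252 := rfl
theorem F30818 : act 0 n17252 = n17244 := d4_1 D17252 (iv D17244) (iv F24286)
theorem F30819 : act 1 n17252 = n14180 := d8_1 D17252 (iv D14180) (iv F24287)
theorem F30820 : act 2 n17252 = n17244 := d11_1 D17252 (iv D17244) (iv F24288)
theorem F30821 : act 4 n17252 = n14243 := d14_1 D17252 (iv D14243) (iv D11218) (iv F18712) D14178
def n17253 : Q := act 2 n14179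
theorem D17253 : act 2 n14179 = n17253 := rfl
theorem F30822 : act 0 n17253 = n14268 := d1_1 D17253 (iv D14268) (iv F24289)
theorem F30823 : act 4 n17253 = n14252 := d10_2 (iv F24290) D17253 (iv D14252)
def n17254 : Q := act 5 n14179
theorem D17254 : act 5 n14179 = n17254 := rfl
theorem F30824 : act 0 n17254 = n14267 := d4_1 D17254 F24464 (iv F24289)
theorem F30825 : act 3 n17254 = n14180 := d13_1 D17254 (iv D14180) D14179
def n17255 : Q := act 1 n14181
theorem D17255 : act 1 n14181 = n17255 := rfl
theorem F30826 : act 4 n17255 = n14183 := d7_2 (iv F24294) D17255 (iv D14183)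
def n17256 : Q := act 3 n14181
theorem D17256 : act 3 n14181 = n17256 := rfl
def n17257 : Q := act 5 n14181
theorem D17257 : act 5 n14181 = n17257 := rfl
theorem F30827 : act 2 n17257 = n14182 := d11_1 D17257 (iv D14182) D14181
def n17258 : Q := act 4 n14182
theorem D17258 : act 4 n14182 = n17258 := rfl
theorem F30828 : act 3 n17258 = n16742 := d12_1 D17258 F29805 F24448 F18830 (iv F24295)
theorem F30829 : act 5 n17258 = n14186 := d14_2 D14182 D17258 (iv D14186) (iv D11170) (iv F18715)
def n17259 : Q := act 0 n14183
theorem D17259 : act 0 n14183 = n17259 := rfl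
def n17260 : Q := act 3 n14183
theorem D17260 : act 3 n14183 = n17260 := rfl
theorem F30830 : act 1 n17260 = n14184 := d6_1 D17260 (iv D14184) D14183
theorem F30831 : act 5 n14189 = n17260 := d8_0 F30830 F24298 D14189
def n17261 : Q := act 5 n14183
theorem D17261 : act 5 n14183 = n17261 := rfl
theorem F30832 : act 1 n17261 = n14185 := d8_1 D17261 (iv D14185) D14183
theorem F30833 : act 3 n17261 = n14189 := d13_1 D17261 F30831 (iv D17260)
def n17262 : Q := act 4 n14184
theorem D17262 : act 4 n14184 = n17262 := rfl
theorem F30834 : act 0 n17262 = n14202 := d3_1 D17262 (iv D14202) (iv F24296)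
theorem F30835 : act 2 n17262 = n14190 := d10_1 D17262 (iv D14190) (iv F24297)
theorem F30836 : act 5 n17262 = n14369 := d14_2 (iv F24298) D17262 (iv D14369) (iv D11325) (iv F18730)
def n17263 : Q := act 4 n14185
theorem D17263 : act 4 n14185 = n17263 := rfl
theorem F30837 : act 0 n17263 = n14201 := d3_1 D17263 (iv D14201) (iv F24299)
theorem F30838 : act 2 n17263 = n14186 := d10_1 D17263 (iv D14186) (iv F24300)
theorem F30839 : act 3 n17263 = n14368 := d12_1 D17263 (iv D14368) (iv D11324) (iv F18730) (iv F24301)
def n17264 : Q := act 5 n14187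
theorem D17264 : act 5 n14187 = n17264 := rfl
theorem F30840 : act 0 n17264 = n14753 := d4_1 D17264 (iv D14753) (iv F24303)
theorem F30841 : act 2 n17264 = n14188 := d11_1 D17264 (iv D14188) D14187
theorem F30842 : act 3 n17264 = n14756 := d13_1 D17264 F25501 F24641
def n17265 : Q := act 4 n14188
theorem D17265 : act 4 n14188 = n17265 := rfl
theorem F30843 : act 0 n17265 = n14754 := d3_1 D17265 (iv D14754) (iv F24305)
theorem F30844 : act 1 n17265 = n14190 := d7_1 D17265 (iv D14190) (iv F24306)
theorem F30845 : act 3 n17265 = n14732 := d12_1 D17265 (iv D14732) F19637 (iv F18728) (iv F24307)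
theorem F30846 : act 5 n17265 = n14367 := d14_2 D14188 D17265 (iv D14367) (iv D11322) (iv F18724)
def n17266 : Q := act 3 n14191
theorem D17266 : act 3 n14191 = n17266 := rfl
theorem F30847 : act 0 n17266 = n14192 := d2_1 D17266 (iv D14192) D14191
theorem F30848 : act 1 n17266 = n14203 := d6_1 D17266 (iv D14203) (iv F24311)
theorem F30849 : act 5 n17266 = n14313 := d13_2 (iv F24314) D17266 F24536
theorem F30850 : act 4 n16678 = n17266 := d14_5 F30849 (iv F24537) (iv D13613) (iv F23190) D16678
def n17267 : Q := act 2 n14192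
theorem D17267 : act 2 n14192 = n17267 := rfl
theorem F30851 : act 1 n17267 = n14281 := d5_1 D17267 (iv D14281) F18857 (iv F18734) (iv F24315)
theorem F30852 : act 5 n17267 = n14309 := d11_2 (iv F24316) D17267 F24529
def n17268 : Q := act 4 n14192
theorem D17268 : act 4 n14192 = n17268 := rfl
theorem F30853 : act 0 n17268 = n16678 := d3_1 D17268 F30850 F30847
theorem F30854 : act 1 n17268 = n14193 := d7_1 D17268 (iv D14193) (iv F24315)
theorem F30855 : act 5 n17268 = n16676 := d14_2 (iv F24316) D17268 F29651 F24541 (iv D14314)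
def n17269 : Q := act 5 n14193
theorem D17269 : act 5 n14193 = n17269 := rfl
theorem F30856 : act 0 n17269 = n14208 := d4_1 D17269 (iv D14208) (iv F24317)
theorem F30857 : act 1 n17269 = n16676 := d8_1 D17269 (iv F30855) F30854
theorem F30858 : act 2 n17269 = n14283 := d11_1 D17269 (iv D14283) (iv F24318)
theorem F30859 : act 4 n17269 = n14315 := d14_1 D17269 (iv D14315) (iv D11272) (iv F18735) D14193
def n17270 : Q := act 3 n14194
theorem D17270 : act 3 n14194 = n17270 := rfl
theorem F30860 : act 1 n17270 = n14195 := d6_1 D17270 (iv D14195) D14194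
theorem F30861 : act 5 n14362 = n17270 := d8_0 F30860 F24322 D14362
def n17271 : Q := act 5 n14194
theorem D17271 : act 5 n14194 = n17271 := rfl
theorem F30862 : act 0 n17271 = n17270 := d4_1 D17271 (iv F30861) F24680
theorem F30863 : act 1 n17271 = n14196 := d8_1 D17271 (iv D14196) D14194
theorem F30864 : act 3 n17271 = n14362 := d13_1 D17271 F30861 (iv D17270)
def n17272 : Q := act 4 n14195
theorem D17272 : act 4 n14195 = n17272 := rfl
theorem F30865 : act 0 n17272 = n14368 := d3_1 D17272 (iv D14368) (iv F24320)
theorem F30866 : act 2 n17272 = n14363 := d10_1 D17272 (iv D14363) (iv F24321)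
theorem F30867 : act 3 n17272 = n14201 := d12_1 D17272 (iv D14201) (iv D11181) (iv F18737) D14195
def n17273 : Q := act 4 n14196
theorem D17273 : act 4 n14196 = n17273 := rfl
theorem F30868 : act 0 n17273 = n14369 := d3_1 D17273 (iv D14369) (iv F24323)
theorem F30869 : act 2 n17273 = n14197 := d10_1 D17273 (iv D14197) (iv F24324)
theorem F30870 : act 5 n17273 = n14202 := d14_2 D14196 D17273 (iv D14202) (iv D11182) (iv F18737)
def n17274 : Q := act 3 n14198
theorem D17274 : act 3 n14198 = n17274 := rfl
theorem F30871 : act 0 n17274 = n14199 := d2_1 D17274 (iv D14199) D14198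
def n17275 : Q := act 5 n14198
theorem D17275 : act 5 n14198 = n17275 := rfl
theorem F30872 : act 0 n17275 = n14200 := d4_1 D17275 (iv D14200) D14198
theorem F30873 : act 2 n17275 = n15724 := d11_1 D17275 (iv F29786) F29784
def n17276 : Q := act 2 n14199
theorem D17276 : act 2 n14199 = n17276 := rfl
def n17277 : Q := act 4 n14199
theorem D17277 : act 4 n14199 = n17277 := rfl
theorem F30874 : act 1 n17277 = n14201 := d7_1 D17277 (iv D14201) (iv F24328)
def n17278 : Q := act 4 n14200
theorem D17278 : act 4 n14200 = n17278 := rfl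
theorem F30875 : act 1 n17278 = n14202 := d7_1 D17278 (iv D14202) (iv F24329)
theorem F30876 : act 2 n17278 = n15726 := d10_1 D17278 (iv D15726) (iv F24330)
def n17279 : Q := act 5 n14201
theorem D17279 : act 5 n14201 = n17279 := rfl
def n17280 : Q := act 3 n14202
theorem D17280 : act 3 n14202 = n17280 := rfl
def n17281 : Q := act 1 n14204
theorem D17281 : act 1 n14204 = n17281 := rfl
theorem F30877 : act 2 n17281 = n14206 := d5_2 D14204 D17281 (iv D14206) (iv D11186) (iv F18744)
theorem F30878 : act 3 n17281 = n14455 := d6_2 (iv F24337) D17281 (iv D14455)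
theorem F30879 : act 4 n17281 = n16668 := d7_2 F24339 D17281 F29633
theorem F30880 : act 5 n17281 = n14290 := d8_2 (iv F24338) D17281 F24501
def n17282 : Q := act 0 n14206
theorem D17282 : act 0 n14206 = n17282 := rfl
theorem F30881 : act 1 n17282 = n14280 := d0_2 D14206 D17282 F24484 F18857 (iv F18746)
theorem F30882 : act 3 n17282 = n14255 := d2_2 (iv F24345) D17282 (iv D14255)
theorem F30883 : act 5 n17282 = n14289 := d4_2 (iv F24346) D17282 F24499
def n17283 : Q := act 4 n14206
theorem D17283 : act 4 n14206 = n17283 := rfl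
theorem F30884 : act 1 n17283 = n14207 := d7_1 D17283 (iv D14207) D14206
theorem F30885 : act 2 n17283 = n16668 := d10_1 D17283 (iv F30879) F30877
theorem F30886 : act 5 n17283 = n16667 := d14_2 (iv F24346) D17283 F29632 F24506 (iv D14291)
def n17284 : Q := act 3 n14207
theorem D17284 : act 3 n14207 = n17284 := rfl
theorem F30887 : act 0 n17284 = n14279 := d2_1 D17284 F24483 (iv F24347)
theorem F30888 : act 4 n17284 = n14254 := d12_2 D14207 D17284 (iv D14254) F18821 (iv F18747)
def n17285 : Q := act 5 n14207
theorem D17285 : act 5 n14207 = n17285 := rfl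
theorem F30889 : act 0 n17285 = n14283 := d4_1 D17285 (iv D14283) (iv F24347)
theorem F30890 : act 1 n17285 = n16667 := d8_1 D17285 (iv F30886) F30884
theorem F30891 : act 2 n17285 = n14208 := d11_1 D17285 (iv D14208) (iv F24348)
theorem F30892 : act 4 n17285 = n14292 := d14_1 D17285 (iv D14292) (iv D11257) (iv F18748) D14207
def n17286 : Q := act 4 n14209
theorem D17286 : act 4 n14209 = n17286 := rfl
theorem F30893 : act 0 n17286 = n14210 := d3_1 D17286 (iv D14210) D14209
theorem F30894 : act 1 n17286 = n14213 := d7_1 D17286 (iv D14213) (iv F24351)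
theorem F30895 : act 2 n17286 = n16871 := d10_1 D17286 F30092 (iv F24352)
def n17287 : Q := act 3 n14210
theorem D17287 : act 3 n14210 = n17287 := rfl
theorem F30896 : act 1 n17287 = n14211 := d6_1 D17287 (iv D14211) (iv F24355)
def n17288 : Q := act 5 n14210
theorem D17288 : act 5 n14210 = n17288 := rfl
theorem F30897 : act 1 n17288 = n14212 := d8_1 D17288 (iv D14212) (iv F24355)
theorem F30898 : act 2 n17288 = n16873 := d11_1 D17288 (iv D16873) (iv F24356)
def n17289 : Q := act 4 n14212
theorem D17289 : act 4 n14212 = n17289 := rfl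
theorem F30899 : act 0 n17289 = n14217 := d3_1 D17289 F24371 (iv F24358)
theorem F30900 : act 2 n17289 = n14214 := d10_1 D17289 (iv D14214) (iv F24359)
theorem F30901 : act 5 n17289 = n14213 := d14_2 D14212 D17289 (iv D14213) (iv D11190) D11189
def n17290 : Q := act 3 n14213
theorem D17290 : act 3 n14213 = n17290 := rfl
theorem F30902 : act 0 n17290 = n14216 := d2_1 D17290 (iv D14216) (iv F24360)
theorem F30903 : act 4 n17290 = n14234 := d12_2 D14213 D17290 (iv D14234) (iv D11211) (iv F18754)
def n17291 : Q := act 3 n14215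
theorem D17291 : act 3 n14215 = n17291 := rfl
theorem F30904 : act 0 n17291 = n14234 := d2_1 D17291 (iv D14234) (iv F24365)
theorem F30905 : act 1 n17291 = n14218 := d6_1 D17291 (iv D14218) (iv F24366)
theorem F30906 : act 4 n17291 = n14216 := d12_2 D14215 D17291 (iv D14216) (iv D11194) D11193
def n17292 : Q := act 5 n14215
theorem D17292 : act 5 n14215 = n17292 := rfl
theorem F30907 : act 0 n17292 = n14235 := d4_1 D17292 (iv D14235) (iv F24365)
theorem F30908 : act 1 n17292 = n14219 := d8_1 D17292 (iv D14219) (iv F24366)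
theorem F30909 : act 2 n17292 = n14230 := d11_1 D17292 (iv D14230) (iv F24367)
theorem F30910 : act 4 n17292 = n14219 := d14_1 D17292 (iv D14219) (iv D11195) (iv F18763) D14215
def n17293 : Q := act 5 n14218
theorem D17293 : act 5 n14218 = n17293 := rfl
theorem F30911 : act 3 n17293 = n14219 := d13_1 D17293 (iv D14219) D14218
def n17294 : Q := act 2 n14220
theorem D17294 : act 2 n14220 = n17294 := rfl
theorem F30912 : act 1 n17294 = n17221 := d5_1 D17294 (iv D17221) F24216 (iv F18777) (iv F24373)
theorem F30913 : act 4 n17294 = n16314 := d10_2 (iv F24374) D17294 F28846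
theorem F30914 : act 5 n17294 = n14221 := d11_2 (iv F24375) D17294 (iv D14221)
def n17295 : Q := act 1 n14221
theorem D17295 : act 1 n14221 = n17295 := rfl
theorem F30915 : act 2 n17295 = n14224 := d5_2 D14221 D17295 (iv D14224) (iv D11201) (iv F18769)
theorem F30916 : act 4 n17295 = n14222 := d7_2 (iv F24376) D17295 (iv D14222)
theorem F30917 : act 5 n17295 = n17221 := d8_2 F30914 D17295 (iv F30912)
def n17296 : Q := act 3 n14221
theorem D17296 : act 3 n14221 = n17296 := rfl
def n17297 : Q := act 0 n14222
theorem D17297 : act 0 n14222 = n17297 := rfl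
theorem F30918 : act 2 n17297 = n14225 := d1_2 (iv F24377) D17297 (iv D14225)
theorem F30919 : act 5 n17297 = n17198 := d4_2 (iv F24378) D17297 (iv D17198)
def n17298 : Q := act 3 n14222
theorem D17298 : act 3 n14222 = n17298 := rfl
theorem F30920 : act 1 n17298 = n14223 := d6_1 D17298 (iv D14223) D14222
theorem F30921 : act 5 n17298 = n17199 := d13_2 (iv F24378) D17298 (iv D17199)
def n17299 : Q := act 4 n14223
theorem D17299 : act 4 n14223 = n17299 := rfl
theorem F30922 : act 0 n17299 = n17241 := d3_1 D17299 (iv D17241) (iv F24379)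
theorem F30923 : act 2 n17299 = n17239 := d10_1 D17299 (iv D17239) (iv F24380)
def n17300 : Q := act 0 n14224
theorem D17300 : act 0 n14224 = n17300 := rfl
theorem F30924 : act 1 n17300 = n17211 := d0_2 D14224 D17300 (iv D17211) (iv D14139) (iv F18772)
theorem F30925 : act 3 n17300 = n17220 := d2_2 (iv F24382) D17300 F30746
theorem F30926 : act 4 n17300 = n14225 := d3_2 (iv F24383) D17300 (iv D14225)
theorem F30927 : act 5 n17300 = n17219 := d4_2 (iv F24384) D17300 F30743
def n17301 : Q := act 3 n14226
theorem D17301 : act 3 n14226 = n17301 := rfl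
theorem F30928 : act 1 n17301 = n14229 := d6_1 D17301 (iv D14229) (iv F24388)
theorem F30929 : act 4 n17301 = n14227 := d12_2 D14226 D17301 (iv D14227) (iv D11205) D11204
def n17302 : Q := act 5 n14226
theorem D17302 : act 5 n14226 = n17302 := rfl
theorem F30930 : act 1 n17302 = n14230 := d8_1 D17302 (iv D14230) (iv F24388)
def n17303 : Q := act 2 n14227
theorem D17303 : act 2 n14227 = n17303 := rfl
def n17304 : Q := act 5 n14229
theorem D17304 : act 5 n14229 = n17304 := rfl
theorem F30931 : act 0 n17304 = n14237 := d4_1 D17304 (iv D14237) (iv F24394)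
theorem F30932 : act 3 n17304 = n14230 := d13_1 D17304 (iv D14230) D14229
def n17305 : Q := act 3 n14231
theorem D17305 : act 3 n14231 = n17305 := rfl
theorem F30933 : act 1 n17305 = n14232 := d6_1 D17305 (iv D14232) D14231
theorem F30934 : act 5 n17305 = n17238 := d13_2 (iv F24399) D17305 (iv D17238)
def n17306 : Q := act 4 n14232
theorem D17306 : act 4 n14232 = n17306 := rfl
theorem F30935 : act 0 n17306 = n14240 := d3_1 D17306 (iv D14240) (iv F24400)
theorem F30936 : act 2 n17306 = n17200 := d10_1 D17306 (iv D17200) (iv F24401)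
theorem F30937 : act 3 n17306 = n14526 := d12_1 D17306 (iv D14526) (iv D11500) (iv F18791) D14232
def n17307 : Q := act 3 n14233
theorem D17307 : act 3 n14233 = n17307 := rfl
theorem F30938 : act 1 n17307 = n14234 := d6_1 D17307 (iv D14234) (iv F24403)
def n17308 : Q := act 5 n14233
theorem D17308 : act 5 n14233 = n17308 := rfl
theorem F30939 : act 1 n17308 = n14235 := d8_1 D17308 (iv D14235) (iv F24403)
def n17309 : Q := act 2 n14234
theorem D17309 : act 2 n14234 = n17309 := rfl
def n17310 : Q := act 5 n14234
theorem D17310 : act 5 n14234 = n17310 := rfl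
theorem F30940 : act 3 n17310 = n14235 := d13_1 D17310 (iv D14235) D14234
def n17311 : Q := act 5 n14236
theorem D17311 : act 5 n14236 = n17311 := rfl
theorem F30941 : act 2 n17311 = n14237 := d11_1 D17311 (iv D14237) D14236
def n17312 : Q := act 4 n14237
theorem D17312 : act 4 n14237 = n17312 := rfl
theorem F30942 : act 1 n17312 = n14481 := d7_1 D17312 (iv F30783) F30782
theorem F30943 : act 3 n17312 = n14486 := d12_1 D17312 F24911 (iv F24248) F24249 (iv F24406)
theorem F30944 : act 5 n17312 = n14239 := d14_2 D14237 D17312 (iv D14239) (iv D11215) (iv F18794)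
def n17313 : Q := act 0 n14238
theorem D17313 : act 0 n14238 = n17313 := rfl
theorem F30945 : act 3 n17313 = n14421 := d2_2 F26345 D17313 (iv F26342)
def n17314 : Q := act 5 n14240
theorem D17314 : act 5 n14240 = n17314 := rfl
theorem F30946 : act 3 n17314 = n14528 := d13_1 D17314 (iv D14528) (iv F24409)
theorem F30947 : act 4 n17314 = n17242 := d14_1 D17314 (iv D17242) (iv D14169) (iv F18797) D14240
def n17315 : Q := act 2 n14242
theorem D17315 : act 2 n14242 = n17315 := rfl
theorem F30948 : act 0 n17315 = n15077 := d1_1 D17315 F26195 F24450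
theorem F30949 : act 4 n17315 = n14244 := d10_2 (iv F24414) D17315 (iv D14244)
theorem F30950 : act 3 n15085 = n17315 := d12_5 F30949 F24417 F20229 D12008 D15085
def n17316 : Q := act 5 n14242
theorem D17316 : act 5 n14242 = n17316 := rfl
theorem F30951 : act 1 n17316 = n14249 := d8_1 D17316 (iv D14249) (iv F24413)
theorem F30952 : act 3 n17316 = n14243 := d13_1 D17316 (iv D14243) D14242
def n17317 : Q := act 4 n14245
theorem D17317 : act 4 n14245 = n17317 := rfl
theorem F30953 : act 1 n17317 = n14250 := d7_1 D17317 (iv D14250) (iv F24418)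
def n17318 : Q := act 3 n14246
theorem D17318 : act 3 n14246 = n17318 := rfl
theorem F30954 : act 0 n17318 = n17246 := d2_1 D17318 F30805 (iv F24420)
theorem F30955 : act 1 n17318 = n14251 := d6_1 D17318 (iv D14251) (iv F24421)
theorem F30956 : act 5 n17318 = n14247 := d13_2 (iv F24423) D17318 (iv D14247)
def n17319 : Q := act 2 n14247
theorem D17319 : act 2 n14247 = n17319 := rfl
theorem F30957 : act 0 n17319 = n17245 := d1_1 D17319 (iv D17245) (iv F24424)
def n17320 : Q := act 3 n14248
theorem D17320 : act 3 n14248 = n17320 := rfl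
theorem F30958 : act 0 n17320 = n14264 := d2_1 D17320 (iv D14264) (iv F24426)
theorem F30959 : act 4 n17320 = n14306 := d12_2 (iv F24427) D17320 (iv D14306) (iv D11267) (iv F18811)
def n17321 : Q := act 5 n14248
theorem D17321 : act 5 n14248 = n17321 := rfl
theorem F30960 : act 0 n17321 = n14265 := d4_1 D17321 (iv D14265) (iv F24426)
theorem F30961 : act 2 n17321 = n14249 := d11_1 D17321 (iv D14249) D14248
theorem F30962 : act 4 n17321 = n14305 := d14_1 D17321 (iv D14305) (iv D11266) F18812 (iv F24427)
def n17322 : Q := act 4 n14249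
theorem D17322 : act 4 n14249 = n17322 := rfl
theorem F30963 : act 0 n17322 = n14266 := d3_1 D17322 (iv D14266) (iv F24428)
theorem F30964 : act 2 n17322 = n14305 := d10_1 D17322 (iv F30962) F30961
theorem F30965 : act 5 n17322 = n14250 := d14_2 D14249 D17322 (iv D14250) (iv D11225) (iv F18808)
def n17323 : Q := act 3 n14250
theorem D17323 : act 3 n14250 = n17323 := rfl
theorem F30966 : act 0 n17323 = n14274 := d2_1 D17323 (iv D14274) (iv F24430)
theorem F30967 : act 4 n17323 = n14251 := d12_2 D14250 D17323 (iv D14251) (iv D11226) (iv F18815)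
def n17324 : Q := act 2 n14251
theorem D17324 : act 2 n14251 = n17324 := rfl
theorem F30968 : act 0 n17324 = n14275 := d1_1 D17324 (iv D14275) (iv F24432)
theorem F30969 : act 3 n17324 = n14278 := d9_2 D14251 D17324 (iv D14278) (iv D11247) (iv D8732) (iv D6693) (iv F11061) D8731 D11246 D14277 F24480 (iv D11342) F14642 (iv F14444) (iv F18817)
theorem F30970 : act 5 n17324 = n14252 := d11_2 (iv F24433) D17324 (iv D14252)
def n17325 : Q := act 1 n14252
theorem D17325 : act 1 n14252 = n17325 := rfl
theorem F30971 : act 3 n17325 = n14385 := d6_2 (iv F24435) D17325 (iv D14385)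
def n17326 : Q := act 2 n14254
theorem D17326 : act 2 n14254 = n17326 := rfl
theorem F30972 : act 0 n17326 = n14278 := d1_1 D17326 (iv D14278) (iv F24440)
theorem F30973 : act 3 n17326 = n14275 := d9_2 D14254 D17326 (iv D14275) (iv D11245) F14466 F11063 (iv F11181) D8821 D11352 (iv F24435) (iv D14252) (iv D11227) F14441 D8718 D11228
theorem F30974 : act 5 n17326 = n14277 := d11_2 (iv F24441) D17326 F24480
def n17327 : Q := act 1 n14256
theorem D17327 : act 1 n14256 = n17327 := rfl
theorem F30975 : act 2 n17327 = n14263 := d5_2 D14256 D17327 (iv D14263) (iv D11237) (iv F18826)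
theorem F30976 : act 4 n17327 = n14258 := d7_2 (iv F24446) D17327 (iv D14258)
def n17328 : Q := act 3 n14256
theorem D17328 : act 3 n14256 = n17328 := rfl
def n17329 : Q := act 5 n14256
theorem D17329 : act 5 n14256 = n17329 := rfl
theorem F30977 : act 2 n17329 = n14257 := d11_1 D17329 (iv D14257) D14256
def n17330 : Q := act 5 n14259
theorem D17330 : act 5 n14259 = n17330 := rfl
theorem F30978 : act 0 n17330 = n17316 := d4_1 D17330 (iv D17316) (iv F24450)
theorem F30979 : act 1 n17330 = n14262 := d8_1 D17330 (iv D14262) (iv F24451)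
theorem F30980 : act 3 n17330 = n14260 := d13_1 D17330 (iv D14260) D14259
def n17331 : Q := act 3 n14261
theorem D17331 : act 3 n14261 = n17331 := rfl
theorem F30981 : act 0 n17331 = n17328 := d2_1 D17331 (iv D17328) (iv F24456)
theorem F30982 : act 4 n17331 = n16733 := d12_2 (iv F24457) D17331 (iv D16733) (iv D13663) D13662
def n17332 : Q := act 5 n14261
theorem D17332 : act 5 n14261 = n17332 := rfl
theorem F30983 : act 0 n17332 = n17329 := d4_1 D17332 (iv D17329) (iv F24456)
theorem F30984 : act 2 n17332 = n14262 := d11_1 D17332 (iv D14262) D14261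
def n17333 : Q := act 4 n14262
theorem D17333 : act 4 n14262 = n17333 := rfl
theorem F30985 : act 0 n17333 = n16742 := d3_1 D17333 F29805 (iv F24458)
theorem F30986 : act 5 n17333 = n16739 := d14_2 D14262 D17333 (iv D16739) F23328 (iv F18835)
def n17334 : Q := act 0 n14263
theorem D17334 : act 0 n14263 = n17334 := rfl
theorem F30987 : act 4 n17334 = n14269 := d3_2 (iv F24460) D17334 (iv D14269)
def n17335 : Q := act 3 n14263
theorem D17335 : act 3 n14263 = n17335 := rfl
theorem F30988 : act 1 n17335 = n14264 := d6_1 D17335 (iv D14264) D14263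
def n17336 : Q := act 5 n14263
theorem D17336 : act 5 n14263 = n17336 := rfl
theorem F30989 : act 1 n17336 = n14265 := d8_1 D17336 (iv D14265) D14263
def n17337 : Q := act 2 n14264
theorem D17337 : act 2 n14264 = n17337 := rfl
theorem F30990 : act 3 n17337 = n17329 := d15_3 D11237 D14264 D17337 F30977 F24448 F18829 (iv F24429) (iv D14249) F18807
theorem F30991 : act 5 n17328 = n17337 := d13_0 F30990 (iv D17329) D17328
def n17338 : Q := act 4 n14264
theorem D17338 : act 4 n14264 = n17338 := rfl
theorem F30992 : act 0 n17338 = n14306 := d3_1 D17338 (iv F30959) F30958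
theorem F30993 : act 3 n17338 = n14272 := d12_1 D17338 (iv D14272) (iv D11242) (iv F18838) D14264
def n17339 : Q := act 5 n14264
theorem D17339 : act 5 n14264 = n17339 := rfl
theorem F30994 : act 2 n17339 = n17328 := d11_1 D17339 F30991 (iv D17337)
theorem F30995 : act 3 n17339 = n14265 := d13_1 D17339 (iv D14265) D14264
def n17340 : Q := act 4 n14265
theorem D17340 : act 4 n14265 = n17340 := rfl
theorem F30996 : act 0 n17340 = n14305 := d3_1 D17340 (iv F30962) F30960
theorem F30997 : act 2 n17340 = n14266 := d10_1 D17340 (iv D14266) (iv F24461)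
theorem F30998 : act 5 n17340 = n14273 := d14_2 D14265 D17340 (iv D14273) (iv D11243) (iv F18838)
def n17341 : Q := act 3 n14266
theorem D17341 : act 3 n14266 = n17341 := rfl
theorem F30999 : act 1 n17341 = n17258 := d6_1 D17341 F30828 F29804
theorem F31000 : act 4 n17341 = n14267 := d12_2 D14266 D17341 (iv D14267) (iv D11239) (iv F18839)
theorem F31001 : act 5 n17341 = n14274 := d13_2 (iv F24462) D17341 (iv D14274)
def n17342 : Q := act 2 n14267
theorem D17342 : act 2 n14267 = n17342 := rfl
theorem F31002 : act 5 n17342 = n14268 := d11_2 (iv F24464) D17342 (iv D14268)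
def n17343 : Q := act 1 n14268
theorem D17343 : act 1 n14268 = n17343 := rfl
theorem F31003 : act 2 n17343 = n17255 := d5_2 D14268 D17343 (iv D17255) (iv D14181) (iv F18842)
theorem F31004 : act 4 n17343 = n14276 := d7_2 (iv F24465) D17343 (iv D14276)
def n17344 : Q := act 3 n14268
theorem D17344 : act 3 n14268 = n17344 := rfl
def n17345 : Q := act 4 n14270
theorem D17345 : act 4 n14270 = n17345 := rfl
theorem F31005 : act 1 n17345 = n14272 := d7_1 D17345 (iv D14272) (iv F24466)
theorem F31006 : act 2 n17345 = n16744 := d10_1 D17345 F29809 F24467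
def n17346 : Q := act 4 n14271
theorem D17346 : act 4 n14271 = n17346 := rfl
theorem F31007 : act 1 n17346 = n14273 := d7_1 D17346 (iv D14273) (iv F24469)
def n17347 : Q := act 5 n14272
theorem D17347 : act 5 n14272 = n17347 := rfl
theorem F31008 : act 0 n17347 = n14303 := d4_1 D17347 F24523 (iv F24471)
theorem F31009 : act 2 n17347 = n14287 := d11_1 D17347 F24497 (iv F24472)
theorem F31010 : act 4 n17347 = n14286 := d14_1 D17347 (iv D14286) F18860 (iv F18846) D14272
def n17348 : Q := act 3 n14273
theorem D17348 : act 3 n14273 = n17348 := rfl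
theorem F31011 : act 0 n17348 = n14301 := d2_1 D17348 F24520 (iv F24473)
theorem F31012 : act 4 n17348 = n14285 := d12_2 D14273 D17348 (iv D14285) F18860 (iv F18849)
def n17349 : Q := act 2 n14274
theorem D17349 : act 2 n14274 = n17349 := rfl
theorem F31013 : act 4 n17349 = n14275 := d10_2 (iv F24476) D17349 (iv D14275)
def n17350 : Q := act 1 n14275
theorem D17350 : act 1 n14275 = n17350 := rfl
theorem F31014 : act 2 n17350 = n17261 := d5_2 D14275 D17350 F30832 F24300 (iv F18850)
theorem F31015 : act 5 n17350 = n14276 := d8_2 (iv F24477) D17350 (iv D14276)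
def n17351 : Q := act 0 n14276
theorem D17351 : act 0 n14276 = n17351 := rfl
theorem F31016 : act 2 n17351 = n17259 := d1_2 (iv F24478) D17351 (iv D17259)
theorem F31017 : act 3 n17351 = n14384 := d15_1 (iv F31016) (iv D14384) (iv D11351) (iv F18970) D14348 (iv F24647) (iv F30833) (iv D17261) D17259
def n17352 : Q := act 3 n14276
theorem D17352 : act 3 n14276 = n17352 := rfl
theorem F31018 : act 0 n17352 = n14384 := d2_1 D17352 (iv F31017) (iv D17351)
theorem F31019 : act 1 n17352 = n14277 := d6_1 D17352 (iv D14277) D14276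
theorem F31020 : act 2 n14358 = n17352 := d15_4 (iv D14360) (iv D11315) (iv F18991) D14358 (iv D17352) F24478 D17260 (iv F30831) (iv F24676)
theorem F31021 : act 4 n17352 = n14277 := d10_2 (iv F24672) F31020 F24480
theorem E31 : n17344 = n17343 := (c12_4 F31021 (iv D14277) (iv F24465) D17344 F31004 D17352)
theorem F31022 : act 3 n17343 = n14268 := (sb E31 (iv D17344))
theorem F31023 : act 3 n17257 = n17255 := d15_1 (iv F30827) (iv F31003) F31022 (iv D14268) (iv D11240) (iv F18700) D14173 D17248 F30808
theorem F31024 : act 1 n17256 = n17257 := d6_3 F31023 (iv D17255) D17256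
theorem F31025 : act 5 n17255 = n17256 := d13_2 D17257 F31023 (iv D17256)
def n17353 : Q := act 4 n14278
theorem D17353 : act 4 n14278 = n17353 := rfl
theorem F31026 : act 2 n17353 = n14279 := d10_1 D17353 (iv D14279) D14278
def n17354 : Q := act 5 n14279
theorem D17354 : act 5 n14279 = n17354 := rfl
theorem F31027 : act 1 n17354 = n14433 := d8_1 D17354 F24813 (iv F24482)
theorem F31028 : act 3 n17354 = n14283 := d13_1 D17354 (iv D14283) (iv F24483)
theorem F31029 : act 4 n17354 = n14383 := d14_1 D17354 F24733 F19052 (iv F18853) D14279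
def n17355 : Q := act 2 n14280
theorem D17355 : act 2 n14280 = n17355 := rfl
theorem F31030 : act 0 n17355 = n14281 := d1_1 D17355 (iv D14281) (iv F24484)
theorem F31031 : act 3 n17355 = n14318 := d9_2 D14280 D17355 (iv D14318) (iv D11275) (iv D8755) (iv D6709) (iv F11090) D8751 D11269 D14310 F24531 (iv D13864) F18298 (iv F14477) (iv F18854)
theorem F31032 : act 5 n17355 = n14307 := d11_2 (iv F24485) D17355 (iv D14307)
def n17356 : Q := act 3 n14281
theorem D17356 : act 3 n14281 = n17356 := rfl
theorem F31033 : act 0 n17356 = n14318 := d2_1 D17356 (iv F31031) F31030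
theorem F31034 : act 2 n17356 = n14317 := d9_1 D17356 (iv D14317) (iv D11274) (iv D8754) (iv F14502) D11268 D14307 F24526 (iv D13869) (iv D10908) F14065 (iv F11071) (iv F14472) D11249 D14281
theorem F31035 : act 5 n17356 = n14310 := d13_2 (iv F24486) D17356 (iv D14310)
def n17357 : Q := act 4 n14281
theorem D17357 : act 4 n14281 = n17357 := rfl
theorem F31036 : act 2 n17357 = n14282 := d10_1 D17357 (iv D14282) D14281
def n17358 : Q := act 5 n14282
theorem D17358 : act 5 n14282 = n17358 := rfl
theorem F31037 : act 1 n17358 = n14283 := d8_1 D17358 (iv D14283) (iv F24487)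
theorem F31038 : act 3 n17358 = n14433 := d13_1 D17358 F24813 (iv F24488)
theorem F31039 : act 4 n17358 = n14312 := d14_1 D17358 (iv D14312) (iv D11270) (iv F18858) D14282
def n17359 : Q := act 0 n14284
theorem D17359 : act 0 n14284 = n17359 := rfl
theorem F31040 : act 1 n17359 = n14297 := d0_2 D14284 D17359 (iv D14297) (iv D11260) (iv F18859)
theorem F31041 : act 4 n17359 = n14288 := d3_2 (iv F24490) D17359 (iv D14288)
def n17360 : Q := act 3 n14284
theorem D17360 : act 3 n14284 = n17360 := rfl
theorem F31042 : act 1 n17360 = n14285 := d6_1 D17360 (iv D14285) D14284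
def n17361 : Q := act 5 n14284
theorem D17361 : act 5 n14284 = n17361 := rfl
theorem F31043 : act 1 n17361 = n14286 := d8_1 D17361 (iv D14286) D14284
def n17362 : Q := act 2 n14285
theorem D17362 : act 2 n14285 = n17362 := rfl
theorem F31044 : act 0 n17362 = n14300 := d1_1 D17362 (iv D14300) (iv F24491)
theorem F31045 : act 3 n17362 = n14295 := d9_2 D14285 D17362 F24512 F18874 F14493 (iv F14497) (iv F18877) (iv F24521) (iv F25109) (iv D14592) F19391 F14890 F14349 D8736 D11251
theorem F31046 : act 5 n14294 = n17362 := d13_0 F31045 (iv D14295) D14294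
def n17363 : Q := act 5 n14285
theorem D17363 : act 5 n14285 = n17363 := rfl
theorem F31047 : act 0 n17363 = n14302 := d4_1 D17363 (iv D14302) (iv F24491)
theorem F31048 : act 2 n17363 = n14294 := d11_1 D17363 F31046 (iv D17362)
theorem F31049 : act 3 n17363 = n14286 := d13_1 D17363 (iv D14286) D14285
def n17364 : Q := act 2 n14289
theorem D17364 : act 2 n14289 = n17364 := rfl
theorem F31050 : act 0 n17364 = n14290 := d1_1 D17364 (iv D14290) (iv F24499)
theorem F31051 : act 1 n14450 = n17364 := d0_0 F31050 F24501 F19230 (iv F19216) (iv F24847)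
theorem F31052 : act 4 n14443 = n17364 := d3_0 F31050 (iv F24502) (iv F24831)
theorem F31053 : act 3 n17364 = n14442 := d12_1 F31052 (iv D14442) F19151 D11419 D14443
def n17365 : Q := act 4 n14289
theorem D17365 : act 4 n14289 = n17365 := rfl
theorem F31054 : act 0 n17365 = n14291 := d3_1 D17365 (iv D14291) (iv F24499)
theorem F31055 : act 1 n17365 = n14308 := d7_1 D17365 (iv D14308) (iv F24500)
theorem F31056 : act 2 n17365 = n14443 := d10_1 D17365 F31052 (iv D17364)
theorem F31057 : act 3 n17365 = n14374 := d12_1 D17365 (iv D14374) (iv D11338) (iv F18868) D14289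
theorem F31058 : act 5 n17365 = n14444 := d15_8 (iv D13598) (iv D10680) (iv F14707) D11399 (iv F24805) (iv D14428) (iv F24713) (iv F31057) F24834
def n17366 : Q := act 3 n14290
theorem D17366 : act 3 n14290 = n17366 := rfl
theorem F31059 : act 0 n17366 = n14442 := d2_1 D17366 (iv F31053) F31050
theorem F31060 : act 1 n17366 = n14456 := d6_1 D17366 F24859 (iv F24501)
theorem F31061 : act 4 n17366 = n14436 := d12_2 F24502 D17366 F24820 F19143 (iv F23171)
theorem F31062 : act 5 n17366 = n14455 := d13_2 F30880 D17366 (iv F30878)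
def n17367 : Q := act 0 n14293
theorem D17367 : act 0 n14293 = n17367 := rfl
theorem F31063 : act 2 n17367 = n14733 := d1_2 (iv F24511) D17367 (iv D14733)
def n17368 : Q := act 3 n14293
theorem D17368 : act 3 n14293 = n17368 := rfl
theorem F31064 : act 1 n17368 = n14294 := d6_1 D17368 (iv D14294) D14293
def n17369 : Q := act 5 n14293
theorem D17369 : act 5 n14293 = n17369 := rfl
theorem F31065 : act 1 n17369 = n14295 := d8_1 D17369 (iv D14295) D14293
theorem F31066 : act 2 n17369 = n14735 := d11_1 D17369 (iv D14735) (iv F24511)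
def n17370 : Q := act 4 n14294
theorem D17370 : act 4 n14294 = n17370 := rfl
theorem F31067 : act 3 n17370 = n16727 := d12_1 D17370 (iv D16727) F23305 F19386 D14294
def n17371 : Q := act 4 n14295
theorem D17371 : act 4 n14295 = n17371 := rfl
theorem F31068 : act 2 n17371 = n14296 := d10_1 D17371 (iv D14296) (iv F24512)
def n17372 : Q := act 3 n14297
theorem D17372 : act 3 n14297 = n17372 := rfl
theorem F31069 : act 0 n17372 = n14298 := d2_1 D17372 (iv D14298) D14297
theorem F31070 : act 2 n17372 = n15465 := d15_2 (iv F24515) D17372 (iv D15465) (iv D12375) (iv D9653) (iv F15039) (iv F19020) F19021 D11336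
def n17373 : Q := act 5 n14297
theorem D17373 : act 5 n14297 = n17373 := rfl
theorem F31071 : act 0 n17373 = n14299 := d4_1 D17373 (iv D14299) D14297
theorem F31072 : act 2 n17373 = n14372 := d11_1 D17373 F24705 (iv F24515)
def n17374 : Q := act 2 n14298
theorem D17374 : act 2 n14298 = n17374 := rfl
theorem F31073 : act 0 n17374 = n15465 := d1_1 D17374 (iv F31070) F31069
theorem F31074 : act 3 n17374 = n15459 := d15_3 (iv F18875) D14298 D17374 (iv D15459) (iv D12371) (iv F19586) (iv F24704) F24705 (iv D11336)
def n17375 : Q := act 4 n14298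
theorem D17375 : act 4 n14298 = n17375 := rfl
theorem F31075 : act 1 n17375 = n14301 := d7_1 D17375 (iv D14301) (iv F24517)
theorem F31076 : act 3 n17375 = n14304 := d12_1 D17375 (iv D14304) (iv D11265) (iv F18876) D14298
def n17376 : Q := act 5 n14298
theorem D17376 : act 5 n14298 = n17376 := rfl
theorem F31077 : act 1 n17376 = n14302 := d8_1 D17376 (iv D14302) (iv F24517)
theorem F31078 : act 3 n17376 = n14299 := d13_1 D17376 (iv D14299) D14298
def n17377 : Q := act 1 n14300
theorem D17377 : act 1 n14300 = n17377 := rfl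
def n17378 : Q := act 4 n14300
theorem D17378 : act 4 n14300 = n17378 := rfl
theorem F31079 : act 2 n17378 = n14301 := d10_1 D17378 (iv D14301) D14300
def n17379 : Q := act 5 n14301
theorem D17379 : act 5 n14301 = n17379 := rfl
theorem F31080 : act 3 n17379 = n14305 := d13_1 D17379 (iv D14305) (iv F24520)
def n17380 : Q := act 4 n14302
theorem D17380 : act 4 n14302 = n17380 := rfl
def n17381 : Q := act 3 n14303
theorem D17381 : act 3 n14303 = n17381 := rfl
theorem F31081 : act 5 n17381 = n14306 := d13_2 (iv F24523) D17381 (iv D14306)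
def n17382 : Q := act 5 n14304
theorem D17382 : act 5 n14304 = n17382 := rfl
theorem F31082 : act 1 n17382 = n14305 := d8_1 D17382 (iv D14305) (iv F24524)
def n17383 : Q := act 2 n14306
theorem D17383 : act 2 n14306 = n17383 := rfl
def n17384 : Q := act 1 n14307
theorem D17384 : act 1 n14307 = n17384 := rfl
theorem F31083 : act 2 n17384 = n14450 := d5_2 D14307 D17384 F31051 (iv D17364) F24500
theorem F31084 : act 3 n17384 = n16940 := d6_2 (iv F24526) D17384 (iv D16940)
theorem F31085 : act 0 n14474 = n17384 := d1_3 F31083 F24847 D14474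
theorem F31086 : act 4 n14451 = n17384 := d10_0 F31083 F24848 D14451
def n17385 : Q := act 4 n14307
theorem D17385 : act 4 n14307 = n17385 := rfl
theorem F31087 : act 0 n17385 = n14311 := d3_1 D17385 (iv D14311) (iv F24525)
theorem F31088 : act 1 n17385 = n14451 := d7_1 D17385 F31086 (iv D17384)
theorem F31089 : act 2 n17385 = n14308 := d10_1 D17385 (iv D14308) D14307
theorem F31090 : act 3 n14479 = n17385 := d15_3 F25469 D15145 (iv F26340) F31089 F24528 F19038 D11389 D14422 (iv F25473)
theorem F31091 : act 5 n17385 = n14452 := d13_2 F30789 F31090 (iv F30788)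
def n17386 : Q := act 5 n14308
theorem D17386 : act 5 n14308 = n17386 := rfl
theorem F31092 : act 0 n17386 = n14312 := d4_1 D17386 (iv D14312) (iv F24527)
theorem F31093 : act 1 n17386 = n14444 := d8_1 D17386 (iv F31058) F31055
theorem F31094 : act 2 n17386 = n14452 := d11_1 D17386 (iv F31091) F31089
theorem F31095 : act 3 n17386 = n14377 := d13_1 D17386 (iv D14377) (iv F24528)
def n17387 : Q := act 0 n14309
theorem D17387 : act 0 n14309 = n17387 := rfl
theorem F31096 : act 1 n17387 = n14474 := d0_2 D14309 D17387 F31085 (iv D17384) F24525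
theorem F31097 : act 2 n17387 = n14313 := d1_2 (iv F24529) D17387 (iv D14313)
theorem F31098 : act 4 n14475 = n17387 := d10_0 F31097 (iv F24537) (iv F24896)
def n17388 : Q := act 3 n14309
theorem D17388 : act 3 n14309 = n17388 := rfl
theorem F31099 : act 1 n17388 = n14310 := d6_1 D17388 (iv D14310) D14309
def n17389 : Q := act 4 n14309
theorem D17389 : act 4 n14309 = n17389 := rfl
theorem F31100 : act 0 n17389 = n14475 := d3_1 D17389 F31098 (iv D17387)
theorem F31101 : act 1 n17389 = n14311 := d7_1 D17389 (iv D14311) D14309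
theorem F31102 : act 2 n17389 = n14314 := d10_1 D17389 (iv D14314) (iv F24529)
theorem F31103 : act 5 n14476 = n17389 := d11_0 F31102 (iv F24541) (iv F24898)
def n17390 : Q := act 4 n14310
theorem D17390 : act 4 n14310 = n17390 := rfl
theorem F31104 : act 0 n17390 = n16939 := d3_1 D17390 F30214 (iv F24530)
theorem F31105 : act 2 n17390 = n16925 := d10_1 D17390 F30194 (iv F24531)
def n17391 : Q := act 3 n14311
theorem D17391 : act 3 n14311 = n17391 := rfl
theorem F31106 : act 0 n17391 = n14479 := d2_1 D17391 F31090 F31087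
def n17392 : Q := act 5 n14311
theorem D17392 : act 5 n14311 = n17392 := rfl
theorem F31107 : act 0 n17392 = n14452 := d4_1 D17392 (iv F31091) F31087
theorem F31108 : act 1 n17392 = n14476 := d8_1 D17392 F31103 F31101
theorem F31109 : act 2 n17392 = n14312 := d11_1 D17392 (iv D14312) (iv F24532)
def n17393 : Q := act 3 n14316
theorem D17393 : act 3 n14316 = n17393 := rfl
theorem F31110 : act 0 n17393 = n17305 := d2_1 D17393 (iv D17305) (iv F24546)
theorem F31111 : act 1 n17393 = n14317 := d6_1 D17393 (iv D14317) D14316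
theorem F31112 : act 5 n17393 = n16936 := d13_2 (iv F24549) D17393 (iv D16936)
def n17394 : Q := act 4 n14317
theorem D17394 : act 4 n14317 = n17394 := rfl
theorem F31113 : act 0 n17394 = n14319 := d3_1 D17394 (iv D14319) (iv F24550)
theorem F31114 : act 3 n17394 = n14431 := d12_1 D17394 (iv D14431) (iv D11404) (iv F18892) D14317
def n17395 : Q := act 1 n14318
theorem D17395 : act 1 n14318 = n17395 := rfl
theorem F31115 : act 2 n17395 = n14492 := d5_2 D14318 D17395 F24928 F19236 (iv F18894)
theorem F31116 : act 5 n17395 = n16940 := d8_2 (iv F24552) D17395 (iv D16940)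
def n17396 : Q := act 4 n14318
theorem D17396 : act 4 n14318 = n17396 := rfl
theorem F31117 : act 2 n17396 = n14319 := d10_1 D17396 (iv D14319) D14318
def n17397 : Q := act 5 n14319
theorem D17397 : act 5 n14319 = n17397 := rfl
theorem F31118 : act 1 n17397 = n17314 := d8_1 D17397 (iv D17314) (iv F24553)
theorem F31119 : act 3 n17397 = n14434 := d13_1 D17397 (iv D14434) (iv F24554)
theorem F31120 : act 4 n17397 = n16938 := d14_1 D17397 F30213 F23775 (iv F18895) D14319
def n17398 : Q := act 2 n14321
theorem D17398 : act 2 n14321 = n17398 := rfl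
theorem F31121 : act 0 n17398 = n14782 := d1_1 D17398 (iv D14782) (iv F24560)
theorem F31122 : act 1 n17398 = n16931 := d5_1 D17398 (iv D16931) F23764 (iv F18908) (iv F24561)
theorem F31123 : act 4 n17398 = n14780 := d10_2 (iv F24562) D17398 (iv D14780)
def n17399 : Q := act 5 n14321
theorem D17399 : act 5 n14321 = n17399 := rfl
theorem F31124 : act 0 n17399 = n14783 := d4_1 D17399 (iv D14783) (iv F24560)
theorem F31125 : act 1 n17399 = n14324 := d8_1 D17399 (iv D14324) (iv F24561)
theorem F31126 : act 3 n17399 = n14322 := d13_1 D17399 (iv D14322) D14321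
def n17400 : Q := act 4 n14324
theorem D17400 : act 4 n14324 = n17400 := rfl
theorem F31127 : act 0 n17400 = n14332 := d3_1 D17400 (iv D14332) (iv F24571)
theorem F31128 : act 2 n17400 = n14330 := d10_1 D17400 (iv D14330) (iv F24572)
theorem F31129 : act 3 n17400 = n15438 := d12_1 D17400 (iv D15438) F24578 (iv D14325) (iv F24573)
theorem F31130 : act 2 n17194 = n17242 := d15_6 (iv F31128) F31129 F27012 (iv F26812) F26811 D17194 F30799 (iv D14333) (iv F24594)
theorem F31131 : act 5 n17194 = n17241 := d15_8 F30923 F30793 (iv F31128) F31129 F27012 (iv F26812) F26811 D17194 (iv F30922)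
theorem F31132 : act 1 n17241 = n17197 := d8_1 F31131 (iv D17197) (iv F30696)
theorem F31133 : act 3 n17241 = n17195 := d13_1 F31131 (iv D17195) D17194
theorem F31134 : act 4 n17197 = n17240 := d7_2 D17241 F31132 (iv D17240)
def n17401 : Q := act 2 n14326
theorem D17401 : act 2 n14326 = n17401 := rfl
theorem F31135 : act 0 n17401 = n14328 := d1_1 D17401 (iv D14328) (iv F24579)
theorem F31136 : act 1 n17401 = n16909 := d5_1 D17401 (iv D16909) F23703 F19078 (iv F24580)
theorem F31137 : act 4 n17401 = n14816 := d10_2 (iv F24581) D17401 (iv D14816)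
theorem F31138 : act 5 n17401 = n14334 := d11_2 F24582 D17401 F24602
def n17402 : Q := act 2 n14329
theorem D17402 : act 2 n14329 = n17402 := rfl
theorem F31139 : act 0 n17402 = n16919 := d1_1 D17402 F30181 (iv F24591)
theorem F31140 : act 5 n17402 = n16931 := d11_2 (iv F24593) D17402 (iv D16931)
def n17403 : Q := act 4 n14329
theorem D17403 : act 4 n14329 = n17403 := rfl
theorem F31141 : act 0 n17403 = n16924 := d3_1 D17403 (iv D16924) (iv F24591)
theorem F31142 : act 1 n17403 = n14330 := d7_1 D17403 (iv D14330) (iv F24592)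
def n17404 : Q := act 5 n14330
theorem D17404 : act 5 n14330 = n17404 := rfl
theorem F31143 : act 0 n17404 = n14333 := d4_1 D17404 (iv D14333) (iv F24594)
theorem F31144 : act 4 n17404 = n16937 := d14_1 D17404 (iv D16937) (iv D13865) (iv F18926) D14330
def n17405 : Q := act 3 n14332
theorem D17405 : act 3 n14332 = n17405 := rfl
theorem F31145 : act 0 n17405 = n15438 := d2_1 D17405 (iv F31129) F31127
theorem F31146 : act 4 n17405 = n15435 := d12_2 D14332 D17405 F27008 (iv F24559) F24558
theorem F31147 : act 2 n15436 = n17405 := d10_3 F31146 (iv D15435) D15436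
def n17406 : Q := act 3 n14334
theorem D17406 : act 3 n14334 = n17406 := rfl
theorem F31148 : act 0 n17406 = n14335 := d2_1 D17406 (iv D14335) D14334
def n17407 : Q := act 2 n14335
theorem D17407 : act 2 n14335 = n17407 := rfl
theorem F31149 : act 1 n17407 = n16929 := d5_1 D17407 (iv D16929) F23761 F19312 (iv F24604)
theorem F31150 : act 3 n17407 = n14782 := d15_3 (iv F18929) D14335 D17407 (iv D14782) (iv D11724) (iv F18915) D14326 (iv F24582) (iv D11293)
def n17408 : Q := act 4 n14335
theorem D17408 : act 4 n14335 = n17408 := rfl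
theorem F31151 : act 1 n17408 = n14336 := d7_1 D17408 (iv D14336) (iv F24604)
theorem F31152 : act 3 n17408 = n14624 := d12_1 D17408 (iv D14624) (iv D11579) (iv F18930) D14335
def n17409 : Q := act 5 n14336
theorem D17409 : act 5 n14336 = n17409 := rfl
theorem F31153 : act 3 n17409 = n14629 := d13_1 D17409 (iv D14629) (iv F24605)
def n17410 : Q := act 3 n14337
theorem D17410 : act 3 n14337 = n17410 := rfl
theorem F31154 : act 1 n17410 = n14818 := d6_1 D17410 (iv D14818) (iv F24606)
theorem F31155 : act 5 n17410 = n14631 := d13_2 (iv F24608) D17410 (iv D14631)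
def n17411 : Q := act 2 n14338
theorem D17411 : act 2 n14338 = n17411 := rfl
theorem F31156 : act 0 n17411 = n14340 := d1_1 D17411 (iv D14340) (iv F24609)
theorem F31157 : act 1 n17411 = n15413 := d5_1 D17411 F26951 F25188 (iv D14632) (iv F24610)
theorem F31158 : act 4 n17411 = n15412 := d10_2 (iv F24612) D17411 F26948
theorem F31159 : act 5 n17411 = n14641 := d11_2 F24611 D17411 F25222
def n17412 : Q := act 3 n14340
theorem D17412 : act 3 n14340 = n17412 := rfl
theorem F31160 : act 1 n17412 = n14645 := d6_1 D17412 F25231 (iv F24617)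
theorem F31161 : act 5 n17412 = n14642 := d13_2 (iv F24619) D17412 (iv D14642)
def n17413 : Q := act 4 n14344
theorem D17413 : act 4 n14344 = n17413 := rfl
theorem F31162 : act 1 n17413 = n15066 := d7_1 D17413 (iv D15066) (iv F24633)
theorem F31163 : act 3 n17413 = n15926 := d12_1 D17413 (iv D15926) F21831 F18951 D14344
theorem F31164 : act 5 n17413 = n15903 := d14_2 (iv F24634) D17413 (iv D15903) (iv D12844) (iv F20214)
def n17414 : Q := act 5 n14348
theorem D17414 : act 5 n14348 = n17414 := rfl
theorem F31165 : act 0 n17414 = n14361 := d4_1 D17414 (iv D14361) (iv F24644)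
theorem F31166 : act 1 n17414 = n17264 := d8_1 D17414 (iv D17264) (iv F24645)
theorem F31167 : act 2 n17414 = n17260 := d11_1 D17414 (iv F30831) F24647
theorem F31168 : act 3 n17414 = n14349 := d13_1 D17414 (iv D14349) D14348
def n17415 : Q := act 4 n14350
theorem D17415 : act 4 n14350 = n17415 := rfl
theorem F31169 : act 0 n17415 = n14363 := d3_1 D17415 (iv D14363) (iv F24651)
theorem F31170 : act 2 n17415 = n14368 := d10_1 D17415 (iv D14368) (iv F24652)
def n17416 : Q := act 3 n14351
theorem D17416 : act 3 n14351 = n17416 := rfl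
theorem F31171 : act 0 n17416 = n14356 := d2_1 D17416 F24667 (iv F24654)
theorem F31172 : act 5 n17416 = n14352 := d13_2 (iv F24656) D17416 (iv D14352)
def n17417 : Q := act 5 n14353
theorem D17417 : act 5 n14353 = n17417 := rfl
theorem F31173 : act 0 n17417 = n14382 := d4_1 D17417 (iv D14382) (iv F24659)
theorem F31174 : act 1 n17417 = n14361 := d8_1 D17417 (iv D14361) (iv F24660)
theorem F31175 : act 2 n17417 = n16707 := d11_1 D17417 F29732 F26334
theorem F31176 : act 3 n17417 = n14354 := d13_1 D17417 (iv D14354) D14353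
def n17418 : Q := act 1 n14355
theorem D17418 : act 1 n14355 = n17418 := rfl
theorem F31177 : act 0 n17418 = n16735 := d0_1 D17418 F29787 F23319 D15139 (iv F26329)
theorem F31178 : act 2 n17418 = n14362 := d5_2 D14355 D17418 (iv D14362) (iv D11317) (iv F18982)
theorem F31179 : act 4 n17418 = n16734 := d7_2 F26335 D17418 F29783
def n17419 : Q := act 3 n14355
theorem D17419 : act 3 n14355 = n17419 := rfl
def n17420 : Q := act 5 n14355
theorem D17420 : act 5 n14355 = n17420 := rfl
theorem F31180 : act 2 n17420 = n14356 := d11_1 D17420 (iv D14356) D14355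
def n17421 : Q := act 4 n14356
theorem D17421 : act 4 n14356 = n17421 := rfl
theorem F31181 : act 1 n17421 = n14363 := d7_1 D17421 (iv D14363) (iv F24666)
theorem F31182 : act 3 n17421 = n14363 := d12_1 D17421 (iv D14363) F18993 (iv F18985) (iv F24667)
def n17422 : Q := act 3 n14357
theorem D17422 : act 3 n14357 = n17422 := rfl
theorem F31183 : act 0 n17422 = n14428 := d2_1 D17422 (iv D14428) (iv F24668)
theorem F31184 : act 1 n17422 = n14358 := d6_1 D17422 (iv D14358) (iv F24669)
theorem F31185 : act 4 n17422 = n14376 := d12_2 D14357 D17422 (iv D14376) (iv D11340) (iv F18988)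
theorem F31186 : act 2 n17422 = n14376 := d15_4 (iv F24504) F24505 (iv F24670) D17422 (iv D14376) F19034 D11420 (iv F24833) F24831
def n17423 : Q := act 5 n14357
theorem D17423 : act 5 n14357 = n17423 := rfl
theorem F31187 : act 0 n17423 = n14429 := d4_1 D17423 (iv D14429) (iv F24668)
theorem F31188 : act 1 n17423 = n14359 := d8_1 D17423 (iv D14359) (iv F24669)
theorem F31189 : act 2 n17423 = n14375 := d11_1 D17423 (iv D14375) (iv F24670)
theorem F31190 : act 4 n17423 = n14375 := d14_1 D17423 (iv D14375) (iv D11339) (iv F18989) D14357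
def n17424 : Q := act 5 n14358
theorem D17424 : act 5 n14358 = n17424 := rfl
theorem F31191 : act 0 n17424 = n14383 := d4_1 D17424 F24733 (iv F24671)
theorem F31192 : act 3 n17424 = n14359 := d13_1 D17424 (iv D14359) D14358
def n17425 : Q := act 3 n14360
theorem D17425 : act 3 n14360 = n17425 := rfl
theorem F31193 : act 0 n17425 = n17261 := d2_1 D17425 F30833 (iv F24676)
theorem F31194 : act 1 n17425 = n17274 := d6_1 D17425 (iv D17274) F24678
theorem F31195 : act 5 n17425 = n17259 := d15_8 (iv F24478) D17352 (iv F31020) (iv D14358) F18991 D11315 D14360 D17425 (iv D17259)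
def n17426 : Q := act 5 n14360
theorem D17426 : act 5 n14360 = n17426 := rfl
theorem F31196 : act 0 n17426 = n17260 := d4_1 D17426 (iv F30831) (iv F24676)
theorem F31197 : act 1 n17426 = n17275 := d8_1 D17426 (iv D17275) F24678
theorem F31198 : act 2 n17426 = n14361 := d11_1 D17426 (iv D14361) D14360
theorem F31199 : act 3 n17426 = n17259 := d13_1 D17426 (iv F31195) (iv D17425)
def n17427 : Q := act 4 n14361
theorem D17427 : act 4 n14361 = n17427 := rfl
theorem F31200 : act 5 n17427 = n14363 := d14_2 D14361 D17427 (iv D14363) (iv D11318) (iv F18992)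
def n17428 : Q := act 5 n14364
theorem D17428 : act 5 n14364 = n17428 := rfl
theorem F31201 : act 0 n17428 = n14366 := d4_1 D17428 (iv D14366) (iv F24682)
theorem F31202 : act 1 n17428 = n17416 := d8_1 D17428 F31172 F24685
theorem F31203 : act 2 n17428 = n14365 := d11_1 D17428 (iv D14365) D14364
theorem F31204 : act 3 n17428 = n14370 := d13_1 D17428 F24699 (iv F24684)
def n17429 : Q := act 4 n14365
theorem D17429 : act 4 n14365 = n17429 := rfl
theorem F31205 : act 0 n17429 = n14367 := d3_1 D17429 (iv D14367) (iv F24686)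
theorem F31206 : act 1 n17429 = n15142 := d7_1 D17429 (iv D15142) (iv F24687)
theorem F31207 : act 3 n17429 = n14728 := d12_1 D17429 (iv D14728) F19632 (iv F19000) (iv F24688)
theorem F31208 : act 5 n17429 = n14754 := d14_2 D14365 D17429 (iv D14754) (iv D11694) (iv F18996)
def n17430 : Q := act 4 n14366
theorem D17430 : act 4 n14366 = n17430 := rfl
theorem F31209 : act 1 n17430 = n17415 := d7_1 D17430 (iv D17415) (iv F24689)
theorem F31210 : act 2 n17430 = n14367 := d10_1 D17430 (iv D14367) (iv F24690)
def n17431 : Q := act 5 n14368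
theorem D17431 : act 5 n14368 = n17431 := rfl
theorem F31211 : act 1 n17431 = n17262 := d8_1 D17431 F30836 F24694
theorem F31212 : act 4 n17431 = n17260 := d14_1 D17431 (iv F30831) F24308 (iv F23341) D14368
def n17432 : Q := act 3 n14369
theorem D17432 : act 3 n14369 = n17432 := rfl
theorem F31213 : act 1 n17432 = n17263 := d6_1 D17432 F30839 (iv F24694)
theorem F31214 : act 4 n17432 = n17261 := d12_2 D14369 D17432 F30833 F24308 F23339
def n17433 : Q := act 5 n14374
theorem D17433 : act 5 n14374 = n17433 := rfl
theorem F31215 : act 0 n17433 = n14375 := d4_1 D17433 (iv D14375) (iv F24711)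
theorem F31216 : act 1 n17433 = n14377 := d8_1 D17433 (iv D14377) (iv F24712)
theorem F31217 : act 2 n17433 = n14429 := d11_1 D17433 (iv D14429) (iv F24713)
theorem F31218 : act 3 n17433 = n14444 := d13_1 D17433 (iv F31058) F31057
theorem F31219 : act 4 n17433 = n14429 := d14_1 D17433 (iv D14429) (iv D11398) (iv F19030) D14374
def n17434 : Q := act 4 n14382
theorem D17434 : act 4 n14382 = n17434 := rfl
theorem F31220 : act 2 n17434 = n16709 := d10_1 D17434 (iv D16709) (iv F24730)
def n17435 : Q := act 2 n14383
theorem D17435 : act 2 n14383 = n17435 := rfl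
theorem F31221 : act 5 n17435 = n14384 := d11_2 (iv F24733) D17435 (iv D14384)
def n17436 : Q := act 1 n14384
theorem D17436 : act 1 n14384 = n17436 := rfl
theorem F31222 : act 0 n17436 = n14385 := d0_1 D17436 (iv D14385) (iv F24479) (iv F31019) F31018
theorem F31223 : act 2 n17436 = n14432 := d5_2 D14384 D17436 (iv D14432) (iv D11408) (iv F19051)
theorem F31224 : act 4 n17436 = n14385 := d7_2 (iv F24734) D17436 (iv D14385)
def n17437 : Q := act 3 n14386
theorem D17437 : act 3 n14386 = n17437 := rfl
theorem F31225 : act 0 n17437 = n14387 := d2_1 D17437 (iv D14387) D14386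
theorem F31226 : act 1 n17437 = n17406 := d6_1 D17437 (iv D17406) (iv F24736)
def n17438 : Q := act 2 n14387
theorem D17438 : act 2 n14387 = n17438 := rfl
def n17439 : Q := act 4 n14387
theorem D17439 : act 4 n14387 = n17439 := rfl
theorem F31227 : act 1 n17439 = n14389 := d7_1 D17439 (iv D14389) (iv F24738)
def n17440 : Q := act 1 n14388
theorem D17440 : act 1 n14388 = n17440 := rfl
theorem F31228 : act 3 n17440 = n14531 := d6_2 (iv F24740) D17440 F24998
theorem F31229 : act 5 n17440 = n14530 := d8_2 F24741 D17440 F24997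
def n17441 : Q := act 4 n14388
theorem D17441 : act 4 n14388 = n17441 := rfl
theorem F31230 : act 0 n17441 = n14540 := d3_1 D17441 (iv D14540) (iv F24739)
theorem F31231 : act 2 n17441 = n14389 := d10_1 D17441 (iv D14389) D14388
def n17442 : Q := act 5 n14389
theorem D17442 : act 5 n14389 = n17442 := rfl
theorem F31232 : act 0 n17442 = n17409 := d4_1 D17442 (iv D17409) (iv F24742)
def n17443 : Q := act 4 n14390
theorem D17443 : act 4 n14390 = n17443 := rfl
theorem F31233 : act 0 n17443 = n14538 := d3_1 D17443 (iv D14538) (iv F24743)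
theorem F31234 : act 2 n17443 = n14532 := d10_1 D17443 (iv D14532) (iv F24744)
def n17444 : Q := act 3 n14391
theorem D17444 : act 3 n14391 = n17444 := rfl
theorem F31235 : act 0 n17444 = n17410 := d2_1 D17444 (iv D17410) (iv F24746)
def n17445 : Q := act 3 n14392
theorem D17445 : act 3 n14392 = n17445 := rfl
theorem F31236 : act 0 n17445 = n14393 := d2_1 D17445 (iv D14393) D14392
theorem F31237 : act 1 n17445 = n14402 := d6_1 D17445 (iv D14402) (iv F24748)
def n17446 : Q := act 5 n14392
theorem D17446 : act 5 n14392 = n17446 := rfl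
theorem F31238 : act 0 n17446 = n14394 := d4_1 D17446 (iv D14394) D14392
theorem F31239 : act 1 n17446 = n14403 := d8_1 D17446 (iv D14403) (iv F24748)
def n17447 : Q := act 2 n14393
theorem D17447 : act 2 n14393 = n17447 := rfl
def n17448 : Q := act 5 n14393
theorem D17448 : act 5 n14393 = n17448 := rfl
theorem F31240 : act 1 n17448 = n14396 := d8_1 D17448 (iv D14396) (iv F24750)
theorem F31241 : act 3 n17448 = n14394 := d13_1 D17448 (iv D14394) D14393
def n17449 : Q := act 1 n14395
theorem D17449 : act 1 n14395 = n17449 := rfl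
theorem F31242 : act 3 n17449 = n14399 := d6_2 (iv F24753) D17449 F24759
theorem F31243 : act 5 n17449 = n14398 := d8_2 F24754 D17449 F24758
def n17450 : Q := act 4 n14396
theorem D17450 : act 4 n14396 = n17450 := rfl
theorem F31244 : act 0 n17450 = n14410 := d3_1 D17450 (iv D14410) (iv F24755)
theorem F31245 : act 2 n17450 = n14400 := d10_1 D17450 (iv D14400) (iv F24756)
def n17451 : Q := act 3 n14397
theorem D17451 : act 3 n14397 = n17451 := rfl
theorem F31246 : act 0 n17451 = n14398 := d2_1 D17451 (iv D14398) D14397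
def n17452 : Q := act 5 n14397
theorem D17452 : act 5 n14397 = n17452 := rfl
theorem F31247 : act 0 n17452 = n14399 := d4_1 D17452 (iv D14399) D14397
def n17453 : Q := act 2 n14398
theorem D17453 : act 2 n14398 = n17453 := rfl
def n17454 : Q := act 4 n14398
theorem D17454 : act 4 n14398 = n17454 := rfl
theorem F31248 : act 1 n17454 = n14400 := d7_1 D17454 (iv D14400) (iv F24758)
def n17455 : Q := act 4 n14399
theorem D17455 : act 4 n14399 = n17455 := rfl
theorem F31249 : act 1 n17455 = n14401 := d7_1 D17455 (iv D14401) (iv F24759)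
def n17456 : Q := act 5 n14400
theorem D17456 : act 5 n14400 = n17456 := rfl
def n17457 : Q := act 3 n14401
theorem D17457 : act 3 n14401 = n17457 := rfl
def n17458 : Q := act 2 n14402
theorem D17458 : act 2 n14402 = n17458 := rfl
theorem F31250 : act 0 n17458 = n14404 := d1_1 D17458 (iv D14404) (iv F24761)
def n17459 : Q := act 4 n14402
theorem D17459 : act 4 n14402 = n17459 := rfl
theorem F31251 : act 0 n17459 = n14405 := d3_1 D17459 (iv D14405) (iv F24761)
theorem F31252 : act 3 n17459 = n14413 := d12_1 D17459 (iv D14413) (iv D11373) (iv F19068) D14402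
def n17460 : Q := act 5 n14402
theorem D17460 : act 5 n14402 = n17460 := rfl
theorem F31253 : act 0 n17460 = n14406 := d4_1 D17460 (iv D14406) (iv F24761)
theorem F31254 : act 3 n17460 = n14403 := d13_1 D17460 (iv D14403) D14402
def n17461 : Q := act 1 n14404
theorem D17461 : act 1 n14404 = n17461 := rfl
theorem F31255 : act 2 n17461 = n14407 := d5_2 D14404 D17461 (iv D14407) (iv D11369) (iv F19069)
def n17462 : Q := act 3 n14404
theorem D17462 : act 3 n14404 = n17462 := rfl
def n17463 : Q := act 4 n14404
theorem D17463 : act 4 n14404 = n17463 := rfl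
theorem F31256 : act 2 n17463 = n14405 := d10_1 D17463 (iv D14405) D14404
def n17464 : Q := act 5 n14404
theorem D17464 : act 5 n14404 = n17464 := rfl
theorem F31257 : act 2 n17464 = n14406 := d11_1 D17464 (iv D14406) D14404
def n17465 : Q := act 5 n14405
theorem D17465 : act 5 n14405 = n17465 := rfl
theorem F31258 : act 1 n17465 = n14409 := d8_1 D17465 (iv D14409) (iv F24764)
theorem F31259 : act 3 n17465 = n14417 := d13_1 D17465 (iv D14417) (iv F24765)
def n17466 : Q := act 4 n14406
theorem D17466 : act 4 n14406 = n17466 := rfl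
theorem F31260 : act 1 n17466 = n14410 := d7_1 D17466 (iv D14410) (iv F24766)
def n17467 : Q := act 0 n14407
theorem D17467 : act 0 n14407 = n17467 := rfl
def n17468 : Q := act 4 n14407
theorem D17468 : act 4 n14407 = n17468 := rfl
theorem F31261 : act 1 n17468 = n14408 := d7_1 D17468 (iv D14408) D14407
def n17469 : Q := act 3 n14408
theorem D17469 : act 3 n14408 = n17469 := rfl
def n17470 : Q := act 5 n14408
theorem D17470 : act 5 n14408 = n17470 := rfl
theorem F31262 : act 2 n17470 = n14409 := d11_1 D17470 (iv D14409) (iv F24768)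
def n17471 : Q := act 4 n14409
theorem D17471 : act 4 n14409 = n17471 := rfl
theorem F31263 : act 5 n17471 = n14410 := d14_2 D14409 D17471 (iv D14410) (iv D11371) D11370
def n17472 : Q := act 3 n14410
theorem D17472 : act 3 n14410 = n17472 := rfl
theorem F31264 : act 4 n17472 = n14411 := d12_2 D14410 D17472 (iv D14411) (iv D11372) (iv F19073)
def n17473 : Q := act 2 n14411
theorem D17473 : act 2 n14411 = n17473 := rfl
theorem F31265 : act 5 n17473 = n14419 := d11_2 (iv F24770) D17473 (iv D14419)
def n17474 : Q := act 4 n14412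
theorem D17474 : act 4 n14412 = n17474 := rfl
theorem F31266 : act 0 n17474 = n14416 := d3_1 D17474 (iv D14416) (iv F24771)
theorem F31267 : act 2 n17474 = n14413 := d10_1 D17474 (iv D14413) D14412
theorem F31268 : act 5 n17474 = n15319 := d14_2 (iv F24772) D17474 (iv D15319) (iv F23805) F23804
def n17475 : Q := act 5 n14413
theorem D17475 : act 5 n14413 = n17475 := rfl
theorem F31269 : act 0 n17475 = n14417 := d4_1 D17475 (iv D14417) (iv F24773)
theorem F31270 : act 2 n17475 = n15319 := d11_1 D17475 (iv F31268) F31267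
theorem F31271 : act 4 n17475 = n15318 := d14_1 D17475 (iv F30130) F30129 F23688 D14413
def n17476 : Q := act 3 n14414
theorem D17476 : act 3 n14414 = n17476 := rfl
theorem F31272 : act 0 n17476 = n14418 := d2_1 D17476 (iv D14418) (iv F24774)
theorem F31273 : act 4 n17476 = n15684 := d12_2 D14414 D17476 F30131 F30129 F23687
theorem F31274 : act 2 n17476 = n15685 := d15_2 (iv F24775) D17476 F27536 (iv D13882) (iv D10919) F14095 D9973 (iv F18958) (iv F24629)
def n17477 : Q := act 3 n14416
theorem D17477 : act 3 n14416 = n17477 := rfl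
theorem F31275 : act 1 n17477 = n15315 := d6_1 D17477 F26745 (iv F24778)
theorem F31276 : act 5 n17477 = n15312 := d13_2 (iv F24780) D17477 F26743
def n17478 : Q := act 2 n14418
theorem D17478 : act 2 n14418 = n17478 := rfl
theorem F31277 : act 0 n17478 = n15685 := d1_1 D17478 (iv F31274) F31272
theorem F31278 : act 4 n17478 = n15682 := d10_2 F30134 D17478 (iv F30136)
theorem F31279 : act 3 n17478 = n16947 := d15_3 (iv F19083) D14418 D17478 (iv D16947) (iv D13877) F18320 D12732 (iv F24632) F24629
def n17479 : Q := act 1 n14419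
theorem D17479 : act 1 n14419 = n17479 := rfl
def n17480 : Q := act 3 n14419
theorem D17480 : act 3 n14419 = n17480 := rfl
def n17481 : Q := act 0 n14424
theorem D17481 : act 0 n14424 = n17481 := rfl
theorem F31280 : act 1 n17481 = n17014 := d0_2 D14424 D17481 F30379 F23916 (iv F19108)
theorem F31281 : act 2 n17481 = n14427 := d1_2 (iv F24791) D17481 (iv D14427)
theorem F31282 : act 3 n17481 = n16771 := d2_2 F27543 D17481 F29891
theorem F31283 : act 4 n17481 = n14425 := d3_2 (iv F24792) D17481 (iv D14425)
theorem F31284 : act 5 n17481 = n16622 := d4_2 (iv F24793) D17481 F29521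
def n17482 : Q := act 3 n14425
theorem D17482 : act 3 n14425 = n17482 := rfl
theorem F31285 : act 0 n17482 = n14426 := d2_1 D17482 (iv D14426) D14425
theorem F31286 : act 1 n17482 = n16664 := d6_1 D17482 F29624 (iv F24794)
theorem F31287 : act 5 n17482 = n16614 := d13_2 (iv F24796) D17482 (iv D16614)
def n17483 : Q := act 2 n14426
theorem D17483 : act 2 n14426 = n17483 := rfl
theorem F31288 : act 1 n17483 = n16657 := d5_1 D17483 (iv D16657) F23148 (iv F19113) (iv F24797)
theorem F31289 : act 5 n17483 = n16615 := d11_2 (iv F24798) D17483 (iv D16615)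
def n17484 : Q := act 2 n14430
theorem D17484 : act 2 n14430 = n17484 := rfl
theorem F31290 : act 1 n17484 = n16615 := d5_1 D17484 (iv D16615) F22983 (iv F19131) (iv F24807)
theorem F31291 : act 5 n17484 = n16657 := d11_2 (iv F24808) D17484 (iv D16657)
def n17485 : Q := act 4 n14430
theorem D17485 : act 4 n14430 = n17485 := rfl
theorem F31292 : act 1 n17485 = n14431 := d7_1 D17485 (iv D14431) (iv F24807)
def n17486 : Q := act 5 n14431
theorem D17486 : act 5 n14431 = n17486 := rfl
theorem F31293 : act 0 n17486 = n14434 := d4_1 D17486 (iv D14434) (iv F24809)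
theorem F31294 : act 2 n17486 = n16617 := d11_1 D17486 (iv D16617) (iv F24810)
theorem F31295 : act 4 n17486 = n16659 := d14_1 D17486 (iv D16659) (iv D13589) (iv F19132) D14431
def n17487 : Q := act 1 n14435
theorem D17487 : act 1 n14435 = n17487 := rfl
theorem F31296 : act 2 n17487 = n14455 := d5_2 D14435 D17487 (iv D14455) (iv D11430) (iv F19139)
theorem F31297 : act 4 n17487 = n16787 := d7_2 (iv F24817) D17487 (iv D16787)
theorem F31298 : act 3 n14435 = n17487 := d15_1 D14435 F31296 (iv F30878) F30877 F24345 F18823 (iv F19151) (iv D11418) (iv F19138)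
theorem F31299 : act 0 n17487 = n14440 := d2_1 F31298 (iv D14440) (iv F24816)
def n17488 : Q := act 5 n14435
theorem D17488 : act 5 n14435 = n17488 := rfl
theorem F31300 : act 0 n17488 = n14441 := d4_1 D17488 (iv D14441) (iv F24816)
theorem F31301 : act 2 n17488 = n14436 := d11_1 D17488 (iv D14436) D14435
def n17489 : Q := act 1 n14437
theorem D17489 : act 1 n14437 = n17489 := rfl
theorem F31302 : act 2 n17489 = n14445 := d5_2 D14437 D17489 (iv D14445) (iv D11421) (iv F19145)
theorem F31303 : act 4 n17489 = n14439 := d7_2 (iv F24822) D17489 (iv D14439)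
def n17490 : Q := act 3 n14437
theorem D17490 : act 3 n14437 = n17490 := rfl
theorem F31304 : act 0 n17490 = n16788 := d2_1 D17490 (iv D16788) (iv F24821)
def n17491 : Q := act 5 n14437
theorem D17491 : act 5 n14437 = n17491 := rfl
theorem F31305 : act 0 n17491 = n16787 := d4_1 D17491 (iv F29921) (iv F24821)
theorem F31306 : act 2 n17491 = n14438 := d11_1 D17491 (iv D14438) D14437
theorem F31307 : act 4 n14440 = n17491 := d3_0 F31305 (iv F31297) F31299
def n17492 : Q := act 4 n14438
theorem D17492 : act 4 n14438 = n17492 := rfl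
theorem F31308 : act 0 n17492 = n14455 := d3_1 D17492 F24856 (iv F24823)
theorem F31309 : act 1 n17492 = n14448 := d7_1 D17492 (iv D14448) (iv F24824)
theorem F31310 : act 2 n17492 = n14440 := d10_1 D17492 F31307 F31306
theorem F31311 : act 5 n17492 = n14442 := d14_2 D14438 D17492 (iv D14442) (iv D11418) (iv F19146)
def n17493 : Q := act 0 n14439
theorem D17493 : act 0 n14439 = n17493 := rfl
theorem F31312 : act 1 n17493 = n14440 := d0_2 D14439 D17493 (iv F31299) (iv D17487) F24816
theorem F31313 : act 2 n17493 = n14449 := d1_2 (iv F24826) D17493 (iv D14449)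
theorem F31314 : act 5 n17493 = n14510 := d4_2 F24827 D17493 F24967
theorem F31315 : act 3 n14439 = n17493 := d13_3 F31314 F24969 F24827
def n17494 : Q := act 5 n14440
theorem D17494 : act 5 n14440 = n17494 := rfl
theorem F31316 : act 1 n17494 = n14510 := d8_1 D17494 (iv F31314) F31312
theorem F31317 : act 2 n17494 = n14442 := d11_1 D17494 (iv F31311) F31310
theorem F31318 : act 3 n17494 = n14441 := d13_1 D17494 (iv D14441) D14440
theorem F31319 : act 4 n17494 = n14441 := d14_1 D17494 (iv D14441) (iv F24822) D17491 (iv F31307)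
def n17495 : Q := act 0 n14445
theorem D17495 : act 0 n14445 = n17495 := rfl
theorem F31320 : act 1 n17495 = n14447 := d0_2 D14445 D17495 F24838 (iv D11440) (iv F19157)
theorem F31321 : act 4 n17495 = n14449 := d3_2 (iv F24835) D17495 (iv D14449)
theorem F31322 : act 5 n14445 = n17495 := d14_0 F31321 F24846 F19279 (iv F19162) (iv F24835)
def n17496 : Q := act 3 n14445
theorem D17496 : act 3 n14445 = n17496 := rfl
theorem F31323 : act 1 n17496 = n14446 := d6_1 D17496 (iv D14446) D14445
theorem F31324 : act 4 n17496 = n14512 := d12_2 (iv F24835) D17496 (iv D14512) (iv D11488) (iv F19161)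
def n17497 : Q := act 2 n14446
theorem D17497 : act 2 n14446 = n17497 := rfl
theorem F31325 : act 0 n17497 = n14465 := d1_1 D17497 (iv D14465) (iv F24836)
theorem F31326 : act 3 n17497 = n14462 := d9_2 D14446 D17497 F24873 F19199 F14765 (iv F14767) (iv F19200) D14464 F24878 (iv D13730) (iv D10791) (iv D8376) (iv F11246) D8872 D11421
theorem F31327 : act 4 n17497 = n14513 := d10_2 (iv F24837) D17497 (iv D14513)
theorem F31328 : act 5 n14461 = n17497 := d13_0 F31326 (iv D14462) D14461
def n17498 : Q := act 5 n14446
theorem D17498 : act 5 n14446 = n17498 := rfl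
theorem F31329 : act 0 n17498 = n14464 := d4_1 D17498 F24877 (iv F24836)
theorem F31330 : act 2 n17498 = n14461 := d11_1 D17498 F31328 (iv D17497)
theorem F31331 : act 3 n17498 = n14447 := d13_1 D17498 (iv D14447) D14446
theorem F31332 : act 4 n15398 = n17498 := d10_0 F31330 F24871 D15398
def n17499 : Q := act 2 n14453
theorem D17499 : act 2 n14453 = n17499 := rfl
def n17500 : Q := act 1 n14454
theorem D17500 : act 1 n14454 = n17500 := rfl
theorem F31333 : act 3 n17500 = n14475 := d6_2 (iv F24854) D17500 (iv D14475)
theorem F31334 : act 5 n17500 = n14477 := d8_2 (iv F24855) D17500 F24899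
def n17501 : Q := act 2 n14457
theorem D17501 : act 2 n14457 = n17501 := rfl
theorem F31335 : act 4 n17501 = n14467 := d10_2 (iv F24862) D17501 (iv D14467)
theorem F31336 : act 5 n17501 = n14474 := d11_2 (iv F24863) D17501 (iv D14474)
def n17502 : Q := act 1 n14458
theorem D17502 : act 1 n14458 = n17502 := rfl
theorem F31337 : act 0 n17502 = n14460 := d0_1 D17502 (iv D14460) F19196 (iv F23483) (iv F24864)
theorem F31338 : act 2 n17502 = n14460 := d5_2 D14458 D17502 (iv D14460) (iv D11438) (iv F19191)
theorem F31339 : act 4 n17502 = n14987 := d7_2 (iv F24865) D17502 F25951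
theorem F31340 : act 3 n15937 = n17502 := d12_5 F31339 (iv D14987) F20059 D12912 D15937
def n17503 : Q := act 3 n14458
theorem D17503 : act 3 n14458 = n17503 := rfl
theorem F31341 : act 0 n17503 = n16777 := d2_1 D17503 (iv D16777) (iv F24864)
theorem F31342 : act 1 n17503 = n15937 := d6_1 D17503 F31340 (iv D17502)
theorem F31343 : act 4 n17503 = n15934 := d12_2 (iv F24865) D17503 (iv D15934) (iv F25947) (iv F25949)
def n17504 : Q := act 5 n14458
theorem D17504 : act 5 n14458 = n17504 := rfl
theorem F31344 : act 0 n17504 = n16778 := d4_1 D17504 (iv D16778) (iv F24864)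
theorem F31345 : act 2 n17504 = n14459 := d11_1 D17504 (iv D14459) D14458
def n17505 : Q := act 4 n14459
theorem D17505 : act 4 n14459 = n17505 := rfl
theorem F31346 : act 0 n17505 = n16779 := d3_1 D17505 (iv D16779) (iv F24866)
theorem F31347 : act 1 n17505 = n14463 := d7_1 D17505 (iv D14463) (iv F24867)
theorem F31348 : act 5 n17505 = n15403 := d14_2 D14459 D17505 (iv D15403) F20807 (iv F19192)
def n17506 : Q := act 3 n14460
theorem D17506 : act 3 n14460 = n17506 := rfl
theorem F31349 : act 0 n17506 = n15937 := d2_1 D17506 F31340 F31337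
theorem F31350 : act 1 n17506 = n14461 := d6_1 D17506 (iv D14461) D14460
theorem F31351 : act 4 n17506 = n14990 := d12_2 (iv F24869) D17506 (iv D14990) F20066 D11917
def n17507 : Q := act 5 n14460
theorem D17507 : act 5 n14460 = n17507 := rfl
theorem F31352 : act 1 n17507 = n14462 := d8_1 D17507 (iv D14462) D14460
theorem F31353 : act 4 n17507 = n15425 := d14_1 D17507 (iv D15425) (iv D12332) (iv F20072) (iv F24869)
def n17508 : Q := act 4 n14462
theorem D17508 : act 4 n14462 = n17508 := rfl
theorem F31354 : act 0 n17508 = n15406 := d3_1 D17508 F26930 (iv F24872)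
theorem F31355 : act 1 n17508 = n15425 := d7_1 D17508 (iv F31353) F31352
theorem F31356 : act 2 n17508 = n14463 := d10_1 D17508 (iv D14463) (iv F24873)
theorem F31357 : act 5 n17508 = n15032 := d14_2 D14462 D17508 (iv D15032) F20148 (iv F19197)
def n17509 : Q := act 4 n14464
theorem D17509 : act 4 n14464 = n17509 := rfl
theorem F31358 : act 0 n17509 = n15398 := d3_1 D17509 F31332 F31329
theorem F31359 : act 1 n17509 = n14466 := d7_1 D17509 (iv D14466) (iv F24876)
theorem F31360 : act 2 n17509 = n15396 := d10_1 D17509 F26913 (iv F24878)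
theorem F31361 : act 3 n17509 = n14472 := d12_1 D17509 (iv D14472) (iv D11445) (iv F19201) D14464
def n17510 : Q := act 1 n14465
theorem D17510 : act 1 n14465 = n17510 := rfl
theorem F31362 : act 2 n17510 = n16777 := d5_2 D14465 D17510 F29905 (iv F24878) F24876
theorem F31363 : act 3 n17510 = n16778 := d6_2 (iv F24880) D17510 F29906
theorem F31364 : act 5 n17510 = n16777 := d8_2 (iv F24879) D17510 F29905
def n17511 : Q := act 4 n14465
theorem D17511 : act 4 n14465 = n17511 := rfl
theorem F31365 : act 0 n17511 = n14513 := d3_1 D17511 (iv F31327) F31325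
theorem F31366 : act 2 n17511 = n14466 := d10_1 D17511 (iv D14466) D14465
def n17512 : Q := act 5 n14466
theorem D17512 : act 5 n14466 = n17512 := rfl
theorem F31367 : act 0 n17512 = n14509 := d4_1 D17512 F24966 (iv F24881)
theorem F31368 : act 3 n17512 = n14473 := d13_1 D17512 (iv D14473) (iv F24882)
def n17513 : Q := act 1 n14467
theorem D17513 : act 1 n14467 = n17513 := rfl
theorem F31369 : act 2 n17513 = n16678 := d5_2 D14467 D17513 F29653 F23191 (iv F19203)
theorem F31370 : act 5 n17513 = n14468 := d8_2 (iv F24883) D17513 (iv D14468)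
def n17514 : Q := act 0 n14468
theorem D17514 : act 0 n14468 = n17514 := rfl
theorem F31371 : act 2 n17514 = n16676 := d1_2 (iv F24884) D17514 (iv D16676)
theorem F31372 : act 4 n17514 = n14476 := d3_2 (iv F24885) D17514 (iv D14476)
def n17515 : Q := act 3 n14468
theorem D17515 : act 3 n14468 = n17515 := rfl
theorem F31373 : act 1 n17515 = n14469 := d6_1 D17515 (iv D14469) D14468
def n17516 : Q := act 4 n14469
theorem D17516 : act 4 n14469 = n17516 := rfl
theorem F31374 : act 3 n17516 = n14478 := d12_1 D17516 (iv D14478) (iv D11451) (iv F19205) D14469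
def n17517 : Q := act 2 n14470
theorem D17517 : act 2 n14470 = n17517 := rfl
theorem F31375 : act 0 n17517 = n14471 := d1_1 D17517 (iv D14471) (iv F24886)
theorem F31376 : act 1 n17517 = n17297 := d5_1 D17517 F30918 F24385 F24210 (iv F24887)
theorem F31377 : act 5 n17517 = n14491 := d11_2 (iv F24888) D17517 F24926
theorem F31378 : act 4 n17178 = n17517 := d14_5 F31377 F24927 (iv F19272) (iv F24159) D17178
def n17518 : Q := act 4 n14470
theorem D17518 : act 4 n14470 = n17518 := rfl
theorem F31379 : act 0 n17518 = n14472 := d3_1 D17518 (iv D14472) (iv F24886)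
theorem F31380 : act 1 n17518 = n14511 := d7_1 D17518 (iv D14511) (iv F24887)
theorem F31381 : act 2 n17518 = n17178 := d10_1 D17518 F31378 (iv D17517)
theorem F31382 : act 3 n17518 = n15398 := d12_1 D17518 F31332 F31331 F24840 D14470
theorem F31383 : act 5 n17518 = n14508 := d14_2 (iv F24888) D17518 (iv D14508) (iv D11483) (iv F19251)
def n17519 : Q := act 4 n14471
theorem D17519 : act 4 n14471 = n17519 := rfl
theorem F31384 : act 0 n17519 = n17178 := d3_1 D17519 F31378 F31375
theorem F31385 : act 1 n17519 = n14494 := d7_1 D17519 (iv D14494) (iv F24889)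
theorem F31386 : act 2 n17519 = n14472 := d10_1 D17519 (iv D14472) D14471
theorem F31387 : act 3 n17519 = n15393 := d12_1 D17519 F26907 (iv F30698) F31134 F30795
theorem F31388 : act 5 n17519 = n14503 := d14_2 (iv F24890) D17519 (iv D14503) (iv F24916) F24913
def n17520 : Q := act 5 n14472
theorem D17520 : act 5 n14472 = n17520 := rfl
theorem F31389 : act 0 n17520 = n14508 := d4_1 D17520 (iv F31383) F31379
theorem F31390 : act 1 n17520 = n14473 := d8_1 D17520 (iv D14473) (iv F24891)
theorem F31391 : act 2 n17520 = n14503 := d11_1 D17520 (iv F31388) F31386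
theorem F31392 : act 4 n17520 = n14495 := d14_1 D17520 (iv D14495) F19242 F19207 D14472
def n17521 : Q := act 3 n14474
theorem D17521 : act 3 n14474 = n17521 := rfl
theorem F31393 : act 0 n17521 = n16940 := d2_1 D17521 (iv F31084) (iv F31085)
def n17522 : Q := act 3 n14476
theorem D17522 : act 3 n14476 = n17522 := rfl
theorem F31394 : act 0 n17522 = n14477 := d2_1 D17522 (iv D14477) D14476
def n17523 : Q := act 2 n14477
theorem D17523 : act 2 n14477 = n17523 := rfl
def n17524 : Q := act 4 n14477
theorem D17524 : act 4 n14477 = n17524 := rfl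
theorem F31395 : act 1 n17524 = n14478 := d7_1 D17524 (iv D14478) (iv F24899)
def n17525 : Q := act 5 n14478
theorem D17525 : act 5 n14478 = n17525 := rfl
def n17526 : Q := act 4 n14479
theorem D17526 : act 4 n14479 = n17526 := rfl
theorem F31396 : act 1 n17526 = n14480 := d7_1 D17526 (iv D14480) D14479
theorem F31397 : act 3 n17526 = n16939 := d12_1 D17526 F30214 (iv F24526) D17385 (iv F31090)
def n17527 : Q := act 3 n14480
theorem D17527 : act 3 n14480 = n17527 := rfl
theorem F31398 : act 1 n17527 = n16939 := d6_1 D17527 (iv F31397) F31396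
theorem F31399 : act 4 n17527 = n16940 := d12_2 D14480 D17527 (iv F31084) (iv F31086) F24850
theorem F31400 : act 2 n17527 = n17197 := d15_2 (iv F24900) D17527 F30698 F24179 F18622 (iv F23623) (iv F30068) (iv D16857) F23620
theorem F31401 : act 5 n17196 = n17527 := d11_0 F31400 (iv D17197) D17196
def n17528 : Q := act 5 n14480
theorem D17528 : act 5 n14480 = n17528 := rfl
theorem F31402 : act 2 n17528 = n14481 := d11_1 D17528 (iv D14481) (iv F24900)
theorem F31403 : act 3 n17528 = n17196 := d13_1 D17528 F31401 (iv D17527)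
def n17529 : Q := act 4 n14482
theorem D17529 : act 4 n14482 = n17529 := rfl
theorem F31404 : act 0 n17529 = n14485 := d3_1 D17529 (iv D14485) (iv F24902)
theorem F31405 : act 2 n17529 = n14483 := d10_1 D17529 (iv D14483) D14482
def n17530 : Q := act 5 n14483
theorem D17530 : act 5 n14483 = n17530 := rfl
theorem F31406 : act 0 n17530 = n14486 := d4_1 D17530 (iv D14486) (iv F24905)
theorem F31407 : act 4 n17530 = n14516 := d14_1 D17530 (iv D14516) (iv D11491) (iv F19222) D14483
def n17531 : Q := act 4 n14484
theorem D17531 : act 4 n14484 = n17531 := rfl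
theorem F31408 : act 0 n17531 = n14527 := d3_1 D17531 (iv D14527) (iv F24906)
theorem F31409 : act 2 n17531 = n14526 := d10_1 D17531 (iv D14526) (iv F24907)
def n17532 : Q := act 3 n14485
theorem D17532 : act 3 n14485 = n17532 := rfl
def n17533 : Q := act 5 n14485
theorem D17533 : act 5 n14485 = n17533 := rfl
theorem F31410 : act 2 n17533 = n14486 := d11_1 D17533 (iv D14486) (iv F24909)
theorem F31411 : act 4 n17533 = n14521 := d14_1 D17533 (iv D14521) (iv D11494) (iv F19223) D14485
def n17534 : Q := act 2 n14488
theorem D17534 : act 2 n14488 = n17534 := rfl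
theorem F31412 : act 1 n17534 = n14500 := d5_1 D17534 F24947 F19259 (iv F19264) (iv F24917)
theorem F31413 : act 3 n17534 = n15035 := d9_2 D14488 D17534 F26060 F20155 (iv F17359) (iv F22491) (iv F28846) F28847 (iv F29595) (iv D16651) (iv D13582) (iv D10669) F13746 D8905 D11461
theorem F31414 : act 5 n17534 = n14498 := d11_2 F24918 D17534 F24939
def n17535 : Q := act 4 n14488
theorem D17535 : act 4 n14488 = n17535 := rfl
theorem F31415 : act 1 n17535 = n14504 := d7_1 D17535 (iv D14504) (iv F24917)
theorem F31416 : act 3 n17535 = n14493 := d12_1 D17535 (iv D14493) (iv D11464) (iv F19232) D14488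
theorem F31417 : act 5 n17535 = n17169 := d14_2 F24918 D17535 (iv D17169) (iv D14097) (iv F19261)
def n17536 : Q := act 4 n14489
theorem D17536 : act 4 n14489 = n17536 := rfl
theorem F31418 : act 0 n17536 = n17294 := d3_1 D17536 F30913 F28845
theorem F31419 : act 1 n17536 = n14503 := d7_1 D17536 (iv D14503) (iv F24919)
theorem F31420 : act 2 n17536 = n14490 := d10_1 D17536 (iv D14490) (iv F24920)
theorem F31421 : act 3 n17536 = n15392 := d12_1 D17536 (iv D15392) F20787 (iv F19261) (iv F24921)
theorem F31422 : act 5 n17536 = n14494 := d14_2 D14489 D17536 (iv D14494) (iv D11465) (iv F19232)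
def n17537 : Q := act 3 n14491
theorem D17537 : act 3 n14491 = n17537 := rfl
theorem F31423 : act 0 n17537 = n14492 := d2_1 D17537 (iv D14492) D14491
theorem F31424 : act 4 n17537 = n17181 := d12_2 (iv F24927) D17537 (iv D17181) (iv D14108) (iv F19271)
def n17538 : Q := act 4 n14492
theorem D17538 : act 4 n14492 = n17538 := rfl
theorem F31425 : act 0 n17538 = n17181 := d3_1 D17538 (iv F31424) F31423
theorem F31426 : act 1 n17538 = n14493 := d7_1 D17538 (iv D14493) (iv F24928)
theorem F31427 : act 3 n17538 = n14504 := d12_1 D17538 (iv D14504) F24915 F24913 D14492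
theorem F31428 : act 5 n17538 = n17170 := d14_2 F30796 D17538 F30657 D17197 F31134
def n17539 : Q := act 5 n14493
theorem D17539 : act 5 n14493 = n17539 := rfl
theorem F31429 : act 1 n17539 = n17170 := d8_1 D17539 (iv F31428) F31426
theorem F31430 : act 2 n17539 = n17314 := d11_1 D17539 (iv D17314) (iv F24929)
theorem F31431 : act 3 n17539 = n17169 := d13_1 D17539 (iv F31417) F31416
theorem F31432 : act 4 n17539 = n17194 := d14_1 D17539 F31131 (iv D17241) F24263 D14493
def n17540 : Q := act 3 n14494
theorem D17540 : act 3 n14494 = n17540 := rfl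
theorem F31433 : act 0 n17540 = n17296 := d2_1 D17540 (iv D17296) (iv F24930)
theorem F31434 : act 1 n17540 = n15393 := d6_1 D17540 (iv F31387) F31385
theorem F31435 : act 4 n17540 = n17195 := d12_2 D14494 D17540 (iv F31133) (iv D17241) F24264
theorem F31436 : act 5 n17540 = n15392 := d13_2 F31422 D17540 (iv F31421)
theorem F31437 : act 2 n17540 = n15002 := d15_2 (iv F24931) D17540 (iv D15002) (iv F25986) F25987 F24370 D14220 F24375 (iv F19239)
def n17541 : Q := act 5 n14496
theorem D17541 : act 5 n14496 = n17541 := rfl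
theorem F31438 : act 0 n17541 = n14497 := d4_1 D17541 (iv D14497) (iv F24936)
theorem F31439 : act 1 n17541 = n14516 := d8_1 D17541 (iv D14516) (iv F24937)
def n17542 : Q := act 5 n14499
theorem D17542 : act 5 n14499 = n17542 := rfl
theorem F31440 : act 0 n17542 = n17167 := d4_1 D17542 (iv D17167) (iv F24942)
theorem F31441 : act 1 n17542 = n15035 := d8_1 D17542 (iv D15035) (iv F24943)
theorem F31442 : act 2 n17542 = n15042 := d11_1 D17542 (iv D15042) F24944
theorem F31443 : act 3 n17542 = n14500 := d13_1 D17542 (iv D14500) D14499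
def n17543 : Q := act 4 n14500
theorem D17543 : act 4 n14500 = n17543 := rfl
theorem F31444 : act 0 n17543 = n17148 := d3_1 D17543 F30627 (iv F24946)
theorem F31445 : act 2 n17543 = n14501 := d10_1 D17543 (iv D14501) (iv F24947)
theorem F31446 : act 5 n17543 = n17145 := d14_2 D14500 D17543 (iv D17145) F24086 (iv F19257)
def n17544 : Q := act 4 n14505
theorem D17544 : act 4 n14505 = n17544 := rfl
theorem F31447 : act 0 n17544 = n14506 := d3_1 D17544 (iv D14506) (iv F24958)
theorem F31448 : act 1 n17544 = n14508 := d7_1 D17544 (iv D14508) (iv F24959)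
theorem F31449 : act 5 n17544 = n14511 := d14_2 D14505 D17544 (iv D14511) (iv D11486) (iv F19268)
def n17545 : Q := act 3 n14506
theorem D17545 : act 3 n14506 = n17545 := rfl
theorem F31450 : act 1 n17545 = n14509 := d6_1 D17545 (iv D14509) (iv F24961)
theorem F31451 : act 5 n17545 = n14512 := d13_2 (iv F24962) D17545 (iv D14512)
def n17546 : Q := act 3 n14508
theorem D17546 : act 3 n14508 = n17546 := rfl
theorem F31452 : act 2 n17546 = n15399 := d9_1 D17546 F26916 F20799 (iv F20792) (iv F26906) (iv F31387) F31386 (iv F31361) F31360 (iv D15396) F20797 (iv F20785) F20784 D14105 (iv F24965)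
theorem F31453 : act 4 n17546 = n14509 := d12_2 D14508 D17546 (iv D14509) (iv D11484) (iv F19274)
theorem F31454 : act 5 n17546 = n15398 := d13_2 F31383 D17546 (iv F31382)
def n17547 : Q := act 2 n14509
theorem D17547 : act 2 n14509 = n17547 := rfl
theorem F31455 : act 4 n17547 = n15399 := d10_2 F31453 D17547 (iv F31452)
theorem F31456 : act 5 n17547 = n14513 := d11_2 (iv F24966) D17547 (iv D14513)
def n17548 : Q := act 3 n14511
theorem D17548 : act 3 n14511 = n17548 := rfl
theorem F31457 : act 0 n17548 = n14512 := d2_1 D17548 (iv D14512) (iv F24970)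
theorem F31458 : act 1 n17548 = n15398 := d6_1 D17548 (iv F31382) F31380
def n17549 : Q := act 2 n14512
theorem D17549 : act 2 n14512 = n17549 := rfl
def n17550 : Q := act 1 n14513
theorem D17550 : act 1 n14513 = n17550 := rfl
def n17551 : Q := act 3 n14513
theorem D17551 : act 3 n14513 = n17551 := rfl
def n17552 : Q := act 4 n14514
theorem D17552 : act 4 n14514 = n17552 := rfl
theorem F31459 : act 0 n17552 = n15472 := d3_1 D17552 F30343 F30340
theorem F31460 : act 1 n17552 = n14515 := d7_1 D17552 (iv D14515) D14514
theorem F31461 : act 2 n17552 = n15476 := d10_1 D17552 F30334 F30332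
def n17553 : Q := act 3 n14515
theorem D17553 : act 3 n14515 = n17553 := rfl
theorem F31462 : act 0 n17553 = n14520 := d2_1 D17553 (iv D14520) (iv F24972)
def n17554 : Q := act 5 n14515
theorem D17554 : act 5 n14515 = n17554 := rfl
theorem F31463 : act 0 n17554 = n14521 := d4_1 D17554 (iv D14521) (iv F24972)
theorem F31464 : act 2 n17554 = n14516 := d11_1 D17554 (iv D14516) (iv F24973)
def n17555 : Q := act 2 n14517
theorem D17555 : act 2 n14517 = n17555 := rfl
theorem F31465 : act 3 n17555 = n15713 := d15_3 (iv F19284) D14517 D17555 (iv D15713) (iv D12638) (iv F18177) D13778 F23595 F18451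
def n17556 : Q := act 5 n14518
theorem D17556 : act 5 n14518 = n17556 := rfl
theorem F31466 : act 0 n17556 = n15474 := d4_1 D17556 (iv D15474) (iv F24976)
theorem F31467 : act 1 n17556 = n14521 := d8_1 D17556 (iv D14521) (iv F24977)
theorem F31468 : act 2 n17556 = n14522 := d11_1 D17556 (iv D14522) (iv F24978)
def n17557 : Q := act 5 n14520
theorem D17557 : act 5 n14520 = n17557 := rfl
theorem F31469 : act 3 n17557 = n14521 := d13_1 D17557 (iv D14521) D14520
def n17558 : Q := act 1 n14523
theorem D17558 : act 1 n14523 = n17558 := rfl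
theorem F31470 : act 0 n17558 = n15420 := d0_1 D17558 F26971 F20843 (iv F20149) (iv F24983)
theorem F31471 : act 2 n17558 = n15468 := d5_2 D14523 D17558 F27051 F20909 (iv F19291)
theorem F31472 : act 4 n17558 = n15031 := d7_2 (iv F24984) D17558 (iv D15031)
def n17559 : Q := act 3 n14523
theorem D17559 : act 3 n14523 = n17559 := rfl
theorem F31473 : act 0 n17559 = n15033 := d2_1 D17559 (iv D15033) (iv F24983)
theorem F31474 : act 4 n17559 = n15405 := d12_2 (iv F24984) D17559 (iv D15405) (iv D12308) (iv F20143)
def n17560 : Q := act 5 n14523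
theorem D17560 : act 5 n14523 = n17560 := rfl
theorem F31475 : act 0 n17560 = n15034 := d4_1 D17560 (iv D15034) (iv F24983)
theorem F31476 : act 2 n17560 = n14524 := d11_1 D17560 (iv D14524) D14523
theorem F31477 : act 4 n17560 = n15397 := d14_1 D17560 (iv D15397) (iv D12298) (iv F20144) (iv F24984)
def n17561 : Q := act 2 n14525
theorem D17561 : act 2 n14525 = n17561 := rfl
theorem F31478 : act 0 n17561 = n17484 := d1_1 D17561 (iv D17484) (iv F24989)
def n17562 : Q := act 4 n14525
theorem D17562 : act 4 n14525 = n17562 := rfl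
theorem F31479 : act 0 n17562 = n17485 := d3_1 D17562 (iv D17485) (iv F24989)
theorem F31480 : act 1 n17562 = n14526 := d7_1 D17562 (iv D14526) (iv F24990)
def n17563 : Q := act 5 n14526
theorem D17563 : act 5 n14526 = n17563 := rfl
theorem F31481 : act 0 n17563 = n14528 := d4_1 D17563 (iv D14528) (iv F24991)
def n17564 : Q := act 3 n14527
theorem D17564 : act 3 n14527 = n17564 := rfl
def n17565 : Q := act 5 n14527
theorem D17565 : act 5 n14527 = n17565 := rfl
theorem F31482 : act 2 n17565 = n14528 := d11_1 D17565 (iv D14528) (iv F24992)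
def n17566 : Q := act 3 n14529
theorem D17566 : act 3 n14529 = n17566 := rfl
theorem F31483 : act 0 n17566 = n14530 := d2_1 D17566 (iv D14530) D14529
theorem F31484 : act 1 n17566 = n14534 := d6_1 D17566 (iv D14534) (iv F24994)
def n17567 : Q := act 2 n14530
theorem D17567 : act 2 n14530 = n17567 := rfl
def n17568 : Q := act 4 n14530
theorem D17568 : act 4 n14530 = n17568 := rfl
theorem F31485 : act 1 n17568 = n14532 := d7_1 D17568 (iv D14532) (iv F24997)
theorem F31486 : act 3 n17568 = n16573 := d12_1 D17568 (iv D16573) (iv D13493) (iv F19298) D14530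
def n17569 : Q := act 4 n14531
theorem D17569 : act 4 n14531 = n17569 := rfl
theorem F31487 : act 0 n17569 = n17162 := d3_1 D17569 F30646 F30198
theorem F31488 : act 1 n17569 = n14533 := d7_1 D17569 (iv D14533) (iv F24998)
theorem F31489 : act 2 n17569 = n14553 := d10_1 D17569 (iv D14553) (iv F24999)
theorem F31490 : act 5 n17569 = n16574 := d14_2 D14531 D17569 (iv D16574) (iv D13494) (iv F19298)
def n17570 : Q := act 5 n14532
theorem D17570 : act 5 n14532 = n17570 := rfl
theorem F31491 : act 0 n17570 = n14539 := d4_1 D17570 (iv D14539) (iv F25000)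
theorem F31492 : act 3 n17570 = n16575 := d13_1 D17570 (iv D16575) (iv F25001)
def n17571 : Q := act 3 n14533
theorem D17571 : act 3 n14533 = n17571 := rfl
theorem F31493 : act 0 n17571 = n14541 := d2_1 D17571 (iv D14541) (iv F25002)
theorem F31494 : act 5 n17571 = n16576 := d13_2 (iv F25004) D17571 (iv D16576)
def n17572 : Q := act 4 n14534
theorem D17572 : act 4 n14534 = n17572 := rfl
theorem F31495 : act 0 n17572 = n14536 := d3_1 D17572 (iv D14536) (iv F25005)
theorem F31496 : act 3 n17572 = n16577 := d12_1 D17572 (iv D16577) (iv D13497) (iv F19307) D14534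
def n17573 : Q := act 1 n14535
theorem D17573 : act 1 n14535 = n17573 := rfl
theorem F31497 : act 2 n17573 = n14537 := d5_2 D14535 D17573 (iv D14537) (iv D11509) (iv F19308)
theorem F31498 : act 5 n17573 = n17407 := d8_2 F30203 D17573 F31149
def n17574 : Q := act 4 n14535
theorem D17574 : act 4 n14535 = n17574 := rfl
theorem F31499 : act 2 n17574 = n14536 := d10_1 D17574 (iv D14536) D14535
def n17575 : Q := act 5 n14536
theorem D17575 : act 5 n14536 = n17575 := rfl
theorem F31500 : act 1 n17575 = n14539 := d8_1 D17575 (iv D14539) (iv F25006)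
theorem F31501 : act 3 n17575 = n16580 := d13_1 D17575 (iv D16580) (iv F25007)
def n17576 : Q := act 0 n14537
theorem D17576 : act 0 n14537 = n17576 := rfl
theorem F31502 : act 3 n17576 = n17401 := d2_2 (iv F25008) D17576 F31135
theorem F31503 : act 5 n17576 = n17406 := d4_2 (iv F25009) D17576 F31148
def n17577 : Q := act 4 n14537
theorem D17577 : act 4 n14537 = n17577 := rfl
theorem F31504 : act 1 n17577 = n14538 := d7_1 D17577 (iv D14538) D14537
def n17578 : Q := act 3 n14538
theorem D17578 : act 3 n14538 = n17578 := rfl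
theorem F31505 : act 4 n17578 = n17410 := d12_2 D14538 D17578 (iv D17410) (iv D14337) (iv F19309)
def n17579 : Q := act 5 n14538
theorem D17579 : act 5 n14538 = n17579 := rfl
theorem F31506 : act 2 n17579 = n14539 := d11_1 D17579 (iv D14539) (iv F25010)
theorem F31507 : act 4 n17579 = n17409 := d14_1 D17579 (iv D17409) (iv D14336) F19310 D14538
def n17580 : Q := act 4 n14539
theorem D17580 : act 4 n14539 = n17580 := rfl
theorem F31508 : act 2 n17580 = n17409 := d10_1 D17580 (iv F31507) F31506
theorem F31509 : act 5 n17580 = n14540 := d14_2 D14539 D17580 (iv D14540) (iv D11511) D11510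
def n17581 : Q := act 3 n14540
theorem D17581 : act 3 n14540 = n17581 := rfl
theorem F31510 : act 1 n17581 = n17165 := d6_1 D17581 F30648 F30204
theorem F31511 : act 4 n17581 = n14541 := d12_2 D14540 D17581 (iv D14541) (iv D11512) (iv F19313)
def n17582 : Q := act 2 n14541
theorem D17582 : act 2 n14541 = n17582 := rfl
theorem F31512 : act 5 n17582 = n16586 := d11_2 (iv F25014) D17582 (iv D16586)
def n17583 : Q := act 3 n14542
theorem D17583 : act 3 n14542 = n17583 := rfl
theorem F31513 : act 0 n17583 = n14543 := d2_1 D17583 (iv D14543) D14542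
theorem F31514 : act 1 n17583 = n14558 := d6_1 D17583 (iv D14558) (iv F25015)
def n17584 : Q := act 2 n14543
theorem D17584 : act 2 n14543 = n17584 := rfl
def n17585 : Q := act 4 n14543
theorem D17585 : act 4 n14543 = n17585 := rfl
theorem F31515 : act 1 n17585 = n14546 := d7_1 D17585 (iv D14546) (iv F25018)
theorem F31516 : act 3 n17585 = n14552 := d12_1 D17585 (iv D14552) (iv D11518) (iv F19318) D14543
def n17586 : Q := act 5 n14543
theorem D17586 : act 5 n14543 = n17586 := rfl
theorem F31517 : act 1 n17586 = n14547 := d8_1 D17586 (iv D14547) (iv F25018)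
theorem F31518 : act 3 n17586 = n14544 := d13_1 D17586 (iv D14544) D14543
def n17587 : Q := act 4 n14544
theorem D17587 : act 4 n14544 = n17587 := rfl
theorem F31519 : act 0 n17587 = n15601 := d3_1 D17587 F27364 F26248
theorem F31520 : act 1 n17587 = n14548 := d7_1 D17587 (iv D14548) (iv F25019)
theorem F31521 : act 2 n17587 = n16574 := d10_1 D17587 (iv D16574) (iv F25020)
theorem F31522 : act 5 n17587 = n14553 := d14_2 D14544 D17587 (iv D14553) (iv D11519) (iv F19318)
def n17588 : Q := act 4 n14545
theorem D17588 : act 4 n14545 = n17588 := rfl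
theorem F31523 : act 0 n17588 = n14562 := d3_1 D17588 (iv D14562) (iv F25021)
theorem F31524 : act 2 n17588 = n14546 := d10_1 D17588 (iv D14546) D14545
def n17589 : Q := act 5 n14546
theorem D17589 : act 5 n14546 = n17589 := rfl
theorem F31525 : act 0 n17589 = n14563 := d4_1 D17589 (iv D14563) (iv F25024)
theorem F31526 : act 3 n17589 = n14554 := d13_1 D17589 (iv D14554) (iv F25025)
def n17590 : Q := act 3 n14548
theorem D17590 : act 3 n14548 = n17590 := rfl
theorem F31527 : act 0 n17590 = n14565 := d2_1 D17590 (iv D14565) (iv F25029)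
theorem F31528 : act 5 n17590 = n14555 := d13_2 (iv F25031) D17590 (iv D14555)
theorem F31529 : act 2 n17590 = n17480 := d15_2 (iv F25030) D17590 (iv D17480) (iv D14419) (iv D11379) F14672 (iv F11350) (iv F14855) (iv F19322)
def n17591 : Q := act 2 n14549
theorem D17591 : act 2 n14549 = n17591 := rfl
theorem F31530 : act 0 n17591 = n14551 := d1_1 D17591 (iv D14551) (iv F25032)
theorem F31531 : act 5 n17591 = n14587 := d11_2 F25034 D17591 F25101
def n17592 : Q := act 4 n14549
theorem D17592 : act 4 n14549 = n17592 := rfl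
theorem F31532 : act 0 n17592 = n14552 := d3_1 D17592 (iv D14552) (iv F25032)
theorem F31533 : act 1 n17592 = n14567 := d7_1 D17592 (iv D14567) (iv F25033)
def n17593 : Q := act 4 n14550
theorem D17593 : act 4 n14550 = n17593 := rfl
theorem F31534 : act 0 n17593 = n14553 := d3_1 D17593 (iv D14553) (iv F25035)
theorem F31535 : act 1 n17593 = n14569 := d7_1 D17593 (iv D14569) (iv F25036)
theorem F31536 : act 2 n17593 = n17162 := d10_1 D17593 F30646 F30199
theorem F31537 : act 5 n17593 = n15601 := d14_2 D14550 D17593 F27364 F26249 F25017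
def n17594 : Q := act 3 n14551
theorem D17594 : act 3 n14551 = n17594 := rfl
theorem F31538 : act 1 n17594 = n14591 := d6_1 D17594 F25107 (iv F25038)
theorem F31539 : act 5 n17594 = n14588 := d13_2 (iv F25039) D17594 (iv D14588)
def n17595 : Q := act 4 n14551
theorem D17595 : act 4 n14551 = n17595 := rfl
theorem F31540 : act 1 n17595 = n14594 := d7_1 D17595 (iv D14594) (iv F25038)
theorem F31541 : act 2 n17595 = n14552 := d10_1 D17595 (iv D14552) D14551
def n17596 : Q := act 5 n14552
theorem D17596 : act 5 n14552 = n17596 := rfl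
theorem F31542 : act 1 n17596 = n14554 := d8_1 D17596 (iv D14554) (iv F25040)
theorem F31543 : act 4 n17596 = n14598 := d14_1 D17596 (iv D14598) (iv D11557) F19328 D14552
def n17597 : Q := act 3 n14553
theorem D17597 : act 3 n14553 = n17597 := rfl
theorem F31544 : act 1 n17597 = n14555 := d6_1 D17597 (iv D14555) (iv F25041)
theorem F31545 : act 4 n17597 = n14597 := d12_2 D14553 D17597 (iv D14597) (iv D11557) (iv F19330)
def n17598 : Q := act 2 n14555
theorem D17598 : act 2 n14555 = n17598 := rfl
theorem F31546 : act 0 n17598 = n14577 := d1_1 D17598 (iv D14577) (iv F25045)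
theorem F31547 : act 4 n17598 = n14599 := d10_2 (iv F25046) D17598 (iv D14599)
theorem F31548 : act 5 n17598 = n17480 := d11_2 F31528 D17598 (iv F31529)
theorem F31549 : act 3 n17598 = n17473 := d15_1 D17598 (iv D17473) (iv D14411) F19074 (iv F14854) (iv F19353) D14565 F25060 (iv F25045)
def n17599 : Q := act 3 n14556
theorem D17599 : act 3 n14556 = n17599 := rfl
theorem F31550 : act 0 n17599 = n14557 := d2_1 D17599 (iv D14557) D14556
theorem F31551 : act 1 n17599 = n16474 := d6_1 D17599 (iv D16474) (iv F25047)
def n17600 : Q := act 2 n14557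
theorem D17600 : act 2 n14557 = n17600 := rfl
def n17601 : Q := act 4 n14558
theorem D17601 : act 4 n14558 = n17601 := rfl
theorem F31552 : act 0 n17601 = n14560 := d3_1 D17601 (iv D14560) (iv F25051)
theorem F31553 : act 3 n17601 = n14567 := d12_1 D17601 (iv D14567) (iv D11532) (iv F19345) D14558
def n17602 : Q := act 1 n14559
theorem D17602 : act 1 n14559 = n17602 := rfl
theorem F31554 : act 2 n17602 = n14561 := d5_2 D14559 D17602 (iv D14561) (iv D11528) (iv F19346)
theorem F31555 : act 5 n17602 = n16476 := d8_2 F26252 D17602 F29237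
def n17603 : Q := act 4 n14559
theorem D17603 : act 4 n14559 = n17603 := rfl
theorem F31556 : act 2 n17603 = n14560 := d10_1 D17603 (iv D14560) D14559
def n17604 : Q := act 5 n14560
theorem D17604 : act 5 n14560 = n17604 := rfl
theorem F31557 : act 1 n17604 = n14563 := d8_1 D17604 (iv D14563) (iv F25052)
theorem F31558 : act 3 n17604 = n14571 := d13_1 D17604 (iv D14571) (iv F25053)
def n17605 : Q := act 0 n14561
theorem D17605 : act 0 n14561 = n17605 := rfl
theorem F31559 : act 3 n17605 = n16475 := d2_2 (iv F25054) D17605 F29235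
theorem F31560 : act 5 n17605 = n16474 := d4_2 (iv F25055) D17605 F29234
def n17606 : Q := act 4 n14561
theorem D17606 : act 4 n14561 = n17606 := rfl
theorem F31561 : act 1 n17606 = n14562 := d7_1 D17606 (iv D14562) D14561
theorem F31562 : act 5 n17606 = n17102 := d14_2 (iv F25055) D17606 F30533 F29240 (iv D16477)
theorem F31563 : act 3 n17103 = n17606 := d13_3 F31562 (iv D17102) D17103
def n17607 : Q := act 3 n14562
theorem D17607 : act 3 n14562 = n17607 := rfl
theorem F31564 : act 1 n17607 = n17103 := d6_1 D17607 F31563 F31561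
theorem F31565 : act 4 n17607 = n16480 := d12_2 D14562 D17607 (iv D16480) (iv D13403) (iv F19347)
theorem F31566 : act 5 n17607 = n16973 := d15_8 (iv F29724) F29725 F23276 F20314 F19365 (iv F19349) (iv F25056) D17607 F30278
def n17608 : Q := act 5 n14562
theorem D17608 : act 5 n14562 = n17608 := rfl
theorem F31567 : act 1 n17608 = n17102 := d8_1 D17608 (iv F31562) F31561
theorem F31568 : act 2 n17608 = n14563 := d11_1 D17608 (iv D14563) (iv F25056)
theorem F31569 : act 3 n17608 = n16973 := d13_1 D17608 (iv F31566) (iv D17607)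
theorem F31570 : act 4 n17608 = n16479 := d14_1 D17608 (iv D16479) (iv D13402) F19348 D14562
def n17609 : Q := act 4 n14563
theorem D17609 : act 4 n14563 = n17609 := rfl
theorem F31571 : act 2 n17609 = n16479 := d10_1 D17609 (iv F31570) F31568
theorem F31572 : act 5 n17609 = n14564 := d14_2 D14563 D17609 (iv D14564) (iv D11530) D11529
def n17610 : Q := act 3 n14564
theorem D17610 : act 3 n14564 = n17610 := rfl
theorem F31573 : act 1 n17610 = n15608 := d6_1 D17610 F27369 F26253
theorem F31574 : act 4 n17610 = n14565 := d12_2 D14564 D17610 (iv D14565) (iv D11531) (iv F19351)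
def n17611 : Q := act 2 n14565
theorem D17611 : act 2 n14565 = n17611 := rfl
theorem F31575 : act 0 n17611 = n17480 := d1_1 D17611 (iv F31529) F31527
theorem F31576 : act 3 n17611 = n16905 := d9_2 D14565 D17611 F30153 F23696 F18253 (iv F14844) (iv F19334) D14555 D17598 F31549 (iv D17473) (iv D14411) F19074 (iv F14854) (iv F19353)
theorem F31577 : act 5 n17611 = n14577 := d11_2 (iv F25060) D17611 (iv D14577)
def n17612 : Q := act 1 n14566
theorem D17612 : act 1 n14566 = n17612 := rfl
theorem F31578 : act 3 n17612 = n15664 := d6_2 (iv F25062) D17612 (iv D15664)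
def n17613 : Q := act 4 n14566
theorem D17613 : act 4 n14566 = n17613 := rfl
theorem F31579 : act 0 n17613 = n14570 := d3_1 D17613 (iv D14570) (iv F25061)
theorem F31580 : act 2 n17613 = n14567 := d10_1 D17613 (iv D14567) D14566
def n17614 : Q := act 5 n14567
theorem D17614 : act 5 n14567 = n17614 := rfl
theorem F31581 : act 0 n17614 = n14571 := d4_1 D17614 (iv D14571) (iv F25063)
def n17615 : Q := act 4 n14568
theorem D17615 : act 4 n14568 = n17615 := rfl
theorem F31582 : act 0 n17615 = n14572 := d3_1 D17615 (iv D14572) (iv F25064)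
theorem F31583 : act 1 n17615 = n14596 := d7_1 D17615 (iv D14596) (iv F25065)
def n17616 : Q := act 3 n14569
theorem D17616 : act 3 n14569 = n17616 := rfl
theorem F31584 : act 0 n17616 = n14573 := d2_1 D17616 (iv D14573) (iv F25067)
theorem F31585 : act 5 n17616 = n15602 := d13_2 (iv F25069) D17616 (iv D15602)
theorem F31586 : act 2 n17616 = n15590 := d15_2 (iv F25068) D17616 (iv D15590) F21140 F16327 F12480 D7550 (iv F14880) (iv F19374)
def n17617 : Q := act 3 n14572
theorem D17617 : act 3 n14572 = n17617 := rfl
theorem F31587 : act 1 n17617 = n14576 := d6_1 D17617 (iv D14576) (iv F25072)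
theorem F31588 : act 4 n17617 = n14573 := d12_2 D14572 D17617 (iv D14573) (iv D11537) (iv F19360)
theorem F31589 : act 2 n17617 = n15674 := d15_4 F27974 (iv F25423) F25422 D17617 (iv D15674) F21314 (iv F21307) D15665 (iv F27972)
def n17618 : Q := act 2 n14573
theorem D17618 : act 2 n14573 = n17618 := rfl
theorem F31590 : act 0 n17618 = n15590 := d1_1 D17618 (iv F31586) F31584
theorem F31591 : act 4 n17618 = n15674 := d10_2 F31588 D17618 (iv F31589)
theorem F31592 : act 5 n17618 = n15607 := d11_2 (iv F25074) D17618 (iv D15607)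
theorem F31593 : act 3 n17618 = n15587 := d15_1 D17618 F27337 F21134 F16335 D9787 D12519 D15602 (iv F31585) F31584
def n17619 : Q := act 3 n14575
theorem D17619 : act 3 n14575 = n17619 := rfl
theorem F31594 : act 0 n17619 = n14600 := d2_1 D17619 F25122 (iv F25078)
theorem F31595 : act 2 n17619 = n15758 := d9_1 D17619 (iv D15758) F21441 F16582 F12670 (iv F11376) (iv F14893) D11558 D14599 (iv F25871) F25870 F19988 (iv F18690) (iv F19384) (iv F25079)
theorem F31596 : act 5 n17619 = n14576 := d13_2 (iv F25080) D17619 (iv D14576)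
def n17620 : Q := act 2 n14576
theorem D17620 : act 2 n14576 = n17620 := rfl
theorem F31597 : act 0 n17620 = n14599 := d1_1 D17620 (iv D14599) (iv F25081)
theorem F31598 : act 3 n17620 = n15759 := d9_2 D14576 D17620 F27687 F21443 F16587 (iv F14894) (iv F19399) (iv F25122) (iv F25868) (iv D14950) F19987 F15406 (iv F14346) (iv F14882) (iv F19367)
theorem F31599 : act 4 n17620 = n14577 := d10_2 (iv F25082) D17620 (iv D14577)
theorem F31600 : act 5 n17620 = n15758 := d11_2 F31596 D17620 (iv F31595)
def n17621 : Q := act 1 n14577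
theorem D17621 : act 1 n14577 = n17621 := rfl
def n17622 : Q := act 3 n14577
theorem D17622 : act 3 n14577 = n17622 := rfl
theorem F31601 : act 0 n17622 = n17473 := d2_1 D17622 (iv F31549) F31546
theorem F31602 : act 2 n17622 = n16906 := d9_1 D17622 F30155 F23713 (iv F19324) (iv F25030) D17590 F31529 (iv D17480) (iv D14419) (iv D11379) F14672 (iv F11350) (iv F14866) D11541 D14577
theorem F31603 : act 5 n17622 = n16905 := d13_2 F31577 D17622 (iv F31576)
def n17623 : Q := act 4 n14578
theorem D17623 : act 4 n14578 = n17623 := rfl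
theorem F31604 : act 0 n17623 = n15656 := d3_1 D17623 (iv D15656) (iv F25083)
theorem F31605 : act 1 n17623 = n14580 := d7_1 D17623 (iv D14580) D14578
theorem F31606 : act 2 n17623 = n15766 := d10_1 D17623 F27707 (iv F25579)
theorem F31607 : act 5 n17623 = n15592 := d14_2 (iv F25084) D17623 (iv D15592) F21146 (iv F21280)
theorem F31608 : act 3 n15544 = n17623 := d13_3 F31607 (iv F27349) (iv F27228)
def n17624 : Q := act 4 n14579
theorem D17624 : act 4 n14579 = n17624 := rfl
theorem F31609 : act 0 n17624 = n14582 := d3_1 D17624 (iv D14582) (iv F25085)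
def n17625 : Q := act 3 n14580
theorem D17625 : act 3 n14580 = n17625 := rfl
theorem F31610 : act 0 n17625 = n14583 := d2_1 D17625 (iv D14583) (iv F25087)
theorem F31611 : act 1 n17625 = n15544 := d6_1 D17625 F31608 F31605
theorem F31612 : act 5 n17625 = n15594 := d13_2 (iv F25089) D17625 (iv D15594)
theorem F31613 : act 2 n17625 = n15604 := d15_2 (iv F25088) D17625 (iv D15604) (iv D12520) (iv D9788) F12497 (iv F12490) (iv F14877) (iv F19370)
theorem E32 : n15604 = n15603 := (c5_1 F31613 (iv D15603) (iv D12520) (iv F21043) D15544 (iv F31611))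
theorem F31614 : act 2 n15603 = n17625 := (sb E32 (iv F31613))
theorem F31615 : act 3 n15603 = n12520 := (sb E32 (iv D15604))
def n17626 : Q := act 4 n14581
theorem D17626 : act 4 n14581 = n17626 := rfl
theorem F31616 : act 2 n17626 = n14582 := d10_1 D17626 (iv D14582) D14581
def n17627 : Q := act 3 n14582
theorem D17627 : act 3 n14582 = n17627 := rfl
theorem F31617 : act 1 n17627 = n15671 := d6_1 D17627 (iv D15671) (iv F25091)
theorem F31618 : act 4 n17627 = n14583 := d12_2 D14582 D17627 (iv D14583) (iv D11546) D11545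
theorem F31619 : act 5 n15680 = n17627 := d8_0 F31617 F27516 D15680
def n17628 : Q := act 5 n14582
theorem D17628 : act 5 n14582 = n17628 := rfl
theorem F31620 : act 1 n17628 = n15670 := d8_1 D17628 F27513 (iv F25091)
theorem F31621 : act 3 n17628 = n15680 := d13_1 D17628 F31619 (iv D17627)
theorem F31622 : act 4 n17628 = n15665 := d14_1 D17628 (iv D15665) (iv D12593) (iv F19379) D14582
def n17629 : Q := act 2 n14583
theorem D17629 : act 2 n14583 = n17629 := rfl
theorem F31623 : act 0 n17629 = n15603 := d1_1 D17629 F31614 F31610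
theorem F31624 : act 5 n17629 = n15598 := d11_2 (iv F25093) D17629 (iv D15598)
theorem F31625 : act 3 n17629 = n15599 := d15_1 D17629 (iv D15599) (iv D12517) F16349 (iv F16340) (iv F21152) D15594 (iv F31612) F31610
def n17630 : Q := act 0 n14584
theorem D17630 : act 0 n14584 = n17630 := rfl
theorem F31626 : act 1 n17630 = n14587 := d0_2 D14584 D17630 (iv D14587) (iv D11550) (iv F19385)
theorem F31627 : act 4 n17630 = n17367 := d3_2 (iv F25094) D17630 (iv D17367)
def n17631 : Q := act 5 n14584
theorem D17631 : act 5 n14584 = n17631 := rfl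
theorem F31628 : act 1 n17631 = n14585 := d8_1 D17631 (iv D14585) D14584
theorem F31629 : act 3 n17631 = n14604 := d13_1 D17631 (iv F29774) F29773
def n17632 : Q := act 4 n14585
theorem D17632 : act 4 n14585 = n17632 := rfl
theorem F31630 : act 0 n17632 = n14594 := d3_1 D17632 (iv D14594) (iv F25095)
theorem F31631 : act 2 n17632 = n14586 := d10_1 D17632 (iv D14586) (iv F25096)
theorem F31632 : act 5 n17632 = n17371 := d14_2 D14585 D17632 (iv D17371) (iv D14295) (iv F19386)
def n17633 : Q := act 3 n14587
theorem D17633 : act 3 n14587 = n17633 := rfl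
theorem F31633 : act 0 n17633 = n14588 := d2_1 D17633 (iv D14588) D14587
def n17634 : Q := act 4 n14587
theorem D17634 : act 4 n14587 = n17634 := rfl
theorem F31634 : act 0 n17634 = n14589 := d3_1 D17634 (iv D14589) D14587
theorem F31635 : act 1 n17634 = n17367 := d7_1 D17634 (iv F31627) F31626
theorem F31636 : act 2 n17634 = n14596 := d10_1 D17634 (iv D14596) (iv F25101)
def n17635 : Q := act 2 n14588
theorem D17635 : act 2 n14588 = n17635 := rfl
def n17636 : Q := act 4 n14588
theorem D17636 : act 4 n14588 = n17636 := rfl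
theorem F31637 : act 1 n17636 = n14590 := d7_1 D17636 (iv D14590) (iv F25102)
def n17637 : Q := act 3 n14589
theorem D17637 : act 3 n14589 = n17637 := rfl
theorem F31638 : act 1 n17637 = n14592 := d6_1 D17637 (iv D14592) (iv F25103)
theorem F31639 : act 5 n17377 = n17637 := d8_0 F31638 (iv F25110) D17377
def n17638 : Q := act 5 n14589
theorem D17638 : act 5 n14589 = n17638 := rfl
theorem F31640 : act 1 n17638 = n14593 := d8_1 D17638 (iv D14593) (iv F25103)
theorem F31641 : act 2 n17638 = n14598 := d11_1 D17638 (iv D14598) (iv F25104)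
theorem F31642 : act 3 n17638 = n17377 := d13_1 D17638 F31639 (iv D17637)
def n17639 : Q := act 3 n14590
theorem D17639 : act 3 n14590 = n17639 := rfl
theorem F31643 : act 0 n17639 = n17370 := d2_1 D17639 F31067 F29775
theorem F31644 : act 4 n17639 = n14592 := d12_2 D14590 D17639 (iv D14592) (iv D11552) D11551
theorem F31645 : act 2 n17380 = n17639 := d10_3 F31644 F25109 D17380
def n17640 : Q := act 5 n14590
theorem D17640 : act 5 n14590 = n17640 := rfl
def n17641 : Q := act 4 n14591
theorem D17641 : act 4 n14591 = n17641 := rfl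
theorem F31646 : act 0 n17641 = n14605 := d3_1 D17641 (iv D14605) (iv F25105)
theorem F31647 : act 2 n17641 = n14603 := d10_1 D17641 (iv D14603) (iv F25106)
def n17642 : Q := act 4 n14593
theorem D17642 : act 4 n14593 = n17642 := rfl
theorem F31648 : act 0 n17642 = n17371 := d3_1 D17642 (iv D17371) (iv F25111)
theorem F31649 : act 2 n17642 = n14595 := d10_1 D17642 (iv D14595) (iv F25112)
theorem F31650 : act 5 n17642 = n14594 := d14_2 D14593 D17642 (iv D14594) (iv D11553) D11552
def n17643 : Q := act 3 n14594
theorem D17643 : act 3 n14594 = n17643 := rfl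
def n17644 : Q := act 3 n14596
theorem D17644 : act 3 n14596 = n17644 := rfl
theorem F31651 : act 0 n17644 = n14597 := d2_1 D17644 (iv D14597) (iv F25119)
def n17645 : Q := act 5 n14596
theorem D17645 : act 5 n14596 = n17645 := rfl
theorem F31652 : act 0 n17645 = n14598 := d4_1 D17645 (iv D14598) (iv F25119)
def n17646 : Q := act 2 n14597
theorem D17646 : act 2 n14597 = n17646 := rfl
def n17647 : Q := act 5 n14597
theorem D17647 : act 5 n14597 = n17647 := rfl
theorem F31653 : act 1 n17647 = n14600 := d8_1 D17647 (iv D14600) (iv F25120)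
theorem F31654 : act 3 n17647 = n14598 := d13_1 D17647 (iv D14598) D14597
def n17648 : Q := act 1 n14599
theorem D17648 : act 1 n14599 = n17648 := rfl
def n17649 : Q := act 4 n14600
theorem D17649 : act 4 n14600 = n17649 := rfl
theorem F31655 : act 2 n17649 = n15755 := d10_1 D17649 F27679 F25868
def n17650 : Q := act 2 n14602
theorem D17650 : act 2 n14602 = n17650 := rfl
def n17651 : Q := act 4 n14602
theorem D17651 : act 4 n14602 = n17651 := rfl
theorem F31656 : act 1 n17651 = n14603 := d7_1 D17651 (iv D14603) (iv F25126)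
theorem F31657 : act 3 n17651 = n17268 := d12_1 D17651 (iv D17268) (iv D14192) (iv F19404) D14602
def n17652 : Q := act 5 n14603
theorem D17652 : act 5 n14603 = n17652 := rfl
theorem F31658 : act 0 n17652 = n14606 := d4_1 D17652 (iv D14606) (iv F25127)
theorem F31659 : act 3 n17652 = n17269 := d13_1 D17652 (iv D17269) (iv F25128)
def n17653 : Q := act 0 n14604
theorem D17653 : act 0 n14604 = n17653 := rfl
def n17654 : Q := act 4 n14604
theorem D17654 : act 4 n14604 = n17654 := rfl
theorem F31660 : act 1 n17654 = n14605 := d7_1 D17654 (iv D14605) D14604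
def n17655 : Q := act 3 n14605
theorem D17655 : act 3 n14605 = n17655 := rfl
def n17656 : Q := act 5 n14605
theorem D17656 : act 5 n14605 = n17656 := rfl
theorem F31661 : act 2 n17656 = n14606 := d11_1 D17656 (iv D14606) (iv F25129)
def n17657 : Q := act 3 n14607
theorem D17657 : act 3 n14607 = n17657 := rfl
theorem F31662 : act 0 n17657 = n14608 := d2_1 D17657 (iv D14608) D14607
theorem F31663 : act 1 n17657 = n16275 := d6_1 D17657 (iv D16275) (iv F25131)
theorem F31664 : act 5 n16290 = n17657 := d4_0 F31662 (iv F25135) D16290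
def n17658 : Q := act 5 n14607
theorem D17658 : act 5 n14607 = n17658 := rfl
theorem F31665 : act 0 n17658 = n14609 := d4_1 D17658 (iv D14609) D14607
theorem F31666 : act 1 n17658 = n16276 := d8_1 D17658 (iv D16276) (iv F25131)
theorem F31667 : act 2 n17658 = n17452 := d11_1 D17658 (iv D17452) (iv F25132)
theorem F31668 : act 3 n17658 = n16290 := d13_1 D17658 F31664 (iv D17657)
def n17659 : Q := act 2 n14608
theorem D17659 : act 2 n14608 = n17659 := rfl
theorem F31669 : act 1 n17659 = n16287 := d5_1 D17659 F28777 F22426 (iv F19410) (iv F25134)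
theorem F31670 : act 5 n17659 = n16284 := d11_2 F25135 D17659 F28774
def n17660 : Q := act 4 n14608
theorem D17660 : act 4 n14608 = n17660 := rfl
theorem F31671 : act 1 n17660 = n14610 := d7_1 D17660 (iv D14610) (iv F25134)
theorem F31672 : act 3 n17660 = n17454 := d12_1 D17660 (iv D17454) (iv D14398) (iv F19408) D14608
def n17661 : Q := act 4 n14609
theorem D17661 : act 4 n14609 = n17661 := rfl
theorem F31673 : act 1 n17661 = n14611 := d7_1 D17661 (iv D14611) (iv F25136)
theorem F31674 : act 2 n17661 = n17455 := d10_1 D17661 (iv D17455) (iv F25137)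
theorem F31675 : act 5 n17661 = n17455 := d14_2 D14609 D17661 (iv D17455) (iv D14399) (iv F19408)
def n17662 : Q := act 5 n14610
theorem D17662 : act 5 n14610 = n17662 := rfl
theorem F31676 : act 0 n17662 = n16279 := d4_1 D17662 (iv D16279) (iv F25139)
theorem F31677 : act 2 n17662 = n16294 := d11_1 D17662 F28786 (iv F25140)
theorem F31678 : act 3 n17662 = n17456 := d13_1 D17662 (iv D17456) (iv F25141)
theorem F31679 : act 4 n17662 = n16293 := d14_1 D17662 (iv D16293) (iv D13210) F19411 D14610
def n17663 : Q := act 3 n14611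
theorem D17663 : act 3 n14611 = n17663 := rfl
theorem F31680 : act 0 n17663 = n16280 := d2_1 D17663 (iv D16280) (iv F25142)
theorem F31681 : act 4 n17663 = n16292 := d12_2 D14611 D17663 (iv D16292) (iv D13210) (iv F19414)
theorem F31682 : act 5 n17663 = n17457 := d13_2 (iv F25144) D17663 (iv D17457)
def n17664 : Q := act 0 n14612
theorem D17664 : act 0 n14612 = n17664 := rfl
theorem F31683 : act 1 n17664 = n16290 := d0_2 D14612 D17664 (iv D16290) (iv D13209) (iv F19419)
theorem F31684 : act 2 n17664 = n15815 := d1_2 (iv F25145) D17664 (iv D15815)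
theorem F31685 : act 3 n17664 = n16276 := d2_2 (iv F25146) D17664 F28762
theorem F31686 : act 5 n17664 = n16275 := d4_2 (iv F25147) D17664 F28761
def n17665 : Q := act 4 n14612
theorem D17665 : act 4 n14612 = n17665 := rfl
theorem F31687 : act 1 n17665 = n14613 := d7_1 D17665 (iv D14613) D14612
theorem F31688 : act 2 n17665 = n15813 := d10_1 D17665 F27813 (iv F25145)
def n17666 : Q := act 3 n14613
theorem D17666 : act 3 n14613 = n17666 := rfl
theorem F31689 : act 0 n17666 = n16292 := d2_1 D17666 (iv D16292) (iv F25148)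
theorem F31690 : act 4 n17666 = n16280 := d12_2 D14613 D17666 (iv D16280) (iv D13198) (iv F19420)
def n17667 : Q := act 5 n14613
theorem D17667 : act 5 n14613 = n17667 := rfl
theorem F31691 : act 0 n17667 = n16293 := d4_1 D17667 (iv D16293) (iv F25148)
theorem F31692 : act 2 n17667 = n14614 := d11_1 D17667 (iv D14614) (iv F25149)
theorem F31693 : act 4 n17667 = n16279 := d14_1 D17667 (iv D16279) (iv D13197) F19421 D14613
def n17668 : Q := act 4 n14614
theorem D17668 : act 4 n14614 = n17668 := rfl
theorem F31694 : act 0 n17668 = n16294 := d3_1 D17668 (iv D16294) (iv F25150)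
theorem F31695 : act 1 n17668 = n15814 := d7_1 D17668 (iv D15814) (iv F25151)
theorem F31696 : act 2 n17668 = n16279 := d10_1 D17668 (iv F31693) F31692
theorem F31697 : act 3 n17668 = n15760 := d12_1 D17668 (iv D15760) F21443 (iv F19432) (iv F25152)
theorem F31698 : act 5 n17668 = n14615 := d14_2 D14614 D17668 (iv D14615) (iv D11572) D11571
def n17669 : Q := act 3 n14616
theorem D17669 : act 3 n14616 = n17669 := rfl
theorem F31699 : act 0 n17669 = n14617 := d2_1 D17669 (iv D14617) D14616
theorem F31700 : act 1 n17669 = n14621 := d6_1 D17669 (iv D14621) (iv F25157)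
theorem F31701 : act 5 n16116 = n17669 := d4_0 F31699 (iv F25161) D16116
def n17670 : Q := act 5 n14616
theorem D17670 : act 5 n14616 = n17670 := rfl
theorem F31702 : act 0 n17670 = n14618 := d4_1 D17670 (iv D14618) D14616
theorem F31703 : act 1 n17670 = n14622 := d8_1 D17670 (iv D14622) (iv F25157)
theorem F31704 : act 2 n17670 = n17446 := d11_1 D17670 (iv D17446) (iv F25158)
theorem F31705 : act 3 n17670 = n16116 := d13_1 D17670 F31701 (iv D17669)
def n17671 : Q := act 2 n14617
theorem D17671 : act 2 n14617 = n17671 := rfl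
theorem F31706 : act 1 n17671 = n16106 := d5_1 D17671 F28442 F22168 (iv F19436) (iv F25160)
theorem F31707 : act 5 n17671 = n16104 := d11_2 F25161 D17671 F28441
def n17672 : Q := act 4 n14617
theorem D17672 : act 4 n14617 = n17672 := rfl
theorem F31708 : act 1 n17672 = n14619 := d7_1 D17672 (iv D14619) (iv F25160)
theorem F31709 : act 3 n17672 = n17439 := d12_1 D17672 (iv D17439) (iv D14387) (iv F19434) D14617
def n17673 : Q := act 4 n14618
theorem D17673 : act 4 n14618 = n17673 := rfl
theorem F31710 : act 1 n17673 = n14620 := d7_1 D17673 (iv D14620) (iv F25162)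
theorem F31711 : act 2 n17673 = n16914 := d10_1 D17673 F30170 (iv F25163)
theorem F31712 : act 5 n17673 = n16913 := d14_2 D14618 D17673 (iv D16913) F23709 (iv F19434)
def n17674 : Q := act 5 n14619
theorem D17674 : act 5 n14619 = n17674 := rfl
theorem F31713 : act 0 n17674 = n14629 := d4_1 D17674 (iv D14629) (iv F25165)
theorem F31714 : act 2 n17674 = n16115 := d11_1 D17674 F28461 (iv F25166)
theorem F31715 : act 3 n17674 = n17442 := d13_1 D17674 (iv D17442) (iv F25167)
theorem F31716 : act 4 n17674 = n16114 := d14_1 D17674 (iv D16114) F22178 F19437 D14619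
def n17675 : Q := act 3 n14620
theorem D17675 : act 3 n14620 = n17675 := rfl
theorem F31717 : act 0 n17675 = n14631 := d2_1 D17675 (iv D14631) (iv F25168)
theorem F31718 : act 4 n17675 = n16113 := d12_2 D14620 D17675 (iv D16113) F22178 (iv F19440)
theorem F31719 : act 5 n17675 = n17444 := d13_2 (iv F25170) D17675 (iv D17444)
def n17676 : Q := act 2 n14621
theorem D17676 : act 2 n14621 = n17676 := rfl
theorem F31720 : act 0 n17676 = n14623 := d1_1 D17676 (iv D14623) (iv F25171)
theorem F31721 : act 3 n17676 = n14957 := d15_1 D17676 F25878 (iv D12749) F16651 (iv F14925) (iv F19448) (iv F25176) (iv D14625) (iv F25171)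
theorem F31722 : act 5 n14956 = n17676 := d13_0 F31721 (iv D14957) D14956
def n17677 : Q := act 4 n14621
theorem D17677 : act 4 n14621 = n17677 := rfl
theorem F31723 : act 0 n17677 = n14624 := d3_1 D17677 (iv D14624) (iv F25171)
def n17678 : Q := act 5 n14621
theorem D17678 : act 5 n14621 = n17678 := rfl
theorem F31724 : act 0 n17678 = n14625 := d4_1 D17678 (iv D14625) (iv F25171)
theorem F31725 : act 1 n17678 = n16116 := d8_1 D17678 F31701 F31700
theorem F31726 : act 2 n17678 = n14956 := d11_1 D17678 F31722 (iv D17676)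
theorem F31727 : act 3 n17678 = n14622 := d13_1 D17678 (iv D14622) D14621
theorem F31728 : act 4 n14958 = n17678 := d12_0 F31727 F28351 (iv D16065) (iv F28166) F28167
def n17679 : Q := act 1 n14623
theorem D17679 : act 1 n14623 = n17679 := rfl
theorem F31729 : act 2 n17679 = n14627 := d5_2 D14623 D17679 (iv D14627) (iv D11581) (iv F19446)
theorem F31730 : act 5 n16098 = n17679 := d11_0 F31729 F25181 D16098
def n17680 : Q := act 3 n14623
theorem D17680 : act 3 n14623 = n17680 := rfl
theorem F31731 : act 0 n17680 = n14957 := d2_1 D17680 (iv F31721) F31720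
theorem F31732 : act 2 n17680 = n15416 := d9_1 D17680 F26962 F21528 (iv F19459) (iv F25173) (iv F31727) F31726 (iv D14956) (iv F25204) (iv D14635) (iv D11587) (iv D8994) (iv F14918) D11579 D14623
theorem F31733 : act 5 n17680 = n14954 := d15_8 (iv F25204) (iv D14635) (iv D11587) (iv D8994) (iv F14918) D11579 D14623 D17680 F25874
def n17681 : Q := act 4 n14623
theorem D17681 : act 4 n14623 = n17681 := rfl
theorem F31734 : act 2 n17681 = n14624 := d10_1 D17681 (iv D14624) D14623
def n17682 : Q := act 5 n14623
theorem D17682 : act 5 n14623 = n17682 := rfl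
theorem F31735 : act 0 n17682 = n14956 := d4_1 D17682 F31722 F31720
theorem F31736 : act 1 n17682 = n16098 := d8_1 D17682 F31730 (iv D17679)
theorem F31737 : act 2 n17682 = n14625 := d11_1 D17682 (iv D14625) D14623
theorem F31738 : act 3 n17682 = n14954 := d13_1 D17682 (iv F31733) (iv D17680)
theorem F31739 : act 4 n14955 = n17682 := d12_0 F31738 (iv D14954) (iv D11880) D11881 D14955
def n17683 : Q := act 5 n14624
theorem D17683 : act 5 n14624 = n17683 := rfl
theorem F31740 : act 1 n17683 = n14629 := d8_1 D17683 (iv D14629) (iv F25174)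
def n17684 : Q := act 0 n14627
theorem D17684 : act 0 n14627 = n17684 := rfl
theorem F31741 : act 1 n17684 = n16101 := d0_2 D14627 D17684 F28434 F22168 (iv F19449)
theorem F31742 : act 3 n17684 = n16095 := d2_2 (iv F25180) D17684 F28420
theorem F31743 : act 5 n17684 = n16094 := d4_2 (iv F25181) D17684 F28417
def n17685 : Q := act 4 n14627
theorem D17685 : act 4 n14627 = n17685 := rfl
theorem F31744 : act 1 n17685 = n14628 := d7_1 D17685 (iv D14628) D14627
def n17686 : Q := act 3 n14628
theorem D17686 : act 3 n14628 = n17686 := rfl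
theorem F31745 : act 0 n17686 = n16093 := d2_1 D17686 F28416 (iv F25182)
theorem F31746 : act 4 n17686 = n16087 := d12_2 D14628 D17686 F28407 F22136 (iv F19450)
def n17687 : Q := act 5 n14628
theorem D17687 : act 5 n14628 = n17687 := rfl
theorem F31747 : act 0 n17687 = n16115 := d4_1 D17687 F28461 (iv F25182)
theorem F31748 : act 2 n17687 = n14629 := d11_1 D17687 (iv D14629) (iv F25183)
theorem F31749 : act 4 n17687 = n16099 := d14_1 D17687 (iv D16099) F22153 F19451 D14628
def n17688 : Q := act 4 n14629
theorem D17688 : act 4 n14629 = n17688 := rfl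
theorem F31750 : act 0 n17688 = n16114 := d3_1 D17688 (iv F31716) F31713
theorem F31751 : act 2 n17688 = n16099 := d10_1 D17688 (iv F31749) F31748
theorem F31752 : act 5 n17688 = n14630 := d14_2 D14629 D17688 (iv D14630) (iv D11583) D11582
def n17689 : Q := act 2 n14631
theorem D17689 : act 2 n14631 = n17689 := rfl
def n17690 : Q := act 0 n14637
theorem D17690 : act 0 n14637 = n17690 := rfl
theorem F31753 : act 1 n17690 = n14641 := d0_2 D14637 D17690 (iv D14641) (iv D11592) (iv F19468)
theorem F31754 : act 2 n17690 = n15414 := d1_2 (iv F25210) D17690 F26952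
theorem F31755 : act 4 n17690 = n15784 := d3_2 (iv F25211) D17690 (iv D15784)
theorem F31756 : act 5 n17690 = n15413 := d4_2 F29519 D17690 (iv F29516)
def n17691 : Q := act 3 n14637
theorem D17691 : act 3 n14637 = n17691 := rfl
theorem F31757 : act 1 n17691 = n14638 := d6_1 D17691 (iv D14638) D14637
theorem F31758 : act 5 n17691 = n16442 := d13_2 F29519 D17691 F29520
theorem F31759 : act 2 n16266 = n17691 := d5_0 F31757 F25213 F22385 D13185 D16266
def n17692 : Q := act 4 n14638
theorem D17692 : act 4 n14638 = n17692 := rfl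
theorem F31760 : act 0 n17692 = n14644 := d3_1 D17692 (iv D14644) (iv F25212)
theorem F31761 : act 2 n17692 = n16265 := d10_1 D17692 (iv D16265) (iv F25213)
theorem F31762 : act 3 n17692 = n15786 := d12_1 D17692 (iv D15786) (iv D12719) (iv F19469) D14638
def n17693 : Q := act 3 n14641
theorem D17693 : act 3 n14641 = n17693 := rfl
theorem F31763 : act 0 n17693 = n14642 := d2_1 D17693 (iv D14642) D14641
theorem F31764 : act 2 n17693 = n17462 := d15_2 (iv F25222) D17693 (iv D17462) (iv D14404) (iv D11367) F14663 D11295 (iv F18941) D11596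
def n17694 : Q := act 2 n14642
theorem D17694 : act 2 n14642 = n17694 := rfl
theorem F31765 : act 0 n17694 = n17462 := d1_1 D17694 (iv F31764) F31763
theorem F31766 : act 3 n17694 = n17458 := d15_3 (iv F19473) D14642 D17694 (iv D17458) (iv D14402) F19067 D14338 (iv F24611) (iv D11596)
def n17695 : Q := act 4 n14642
theorem D17695 : act 4 n14642 = n17695 := rfl
theorem F31767 : act 1 n17695 = n14644 := d7_1 D17695 (iv D14644) (iv F25224)
theorem F31768 : act 3 n17695 = n15787 := d12_1 D17695 (iv D15787) (iv D12723) (iv F19474) D14642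
def n17696 : Q := act 1 n14643
theorem D17696 : act 1 n14643 = n17696 := rfl
theorem F31769 : act 0 n17696 = n16261 := d0_1 D17696 F28737 F22376 (iv F22385) (iv F25225)
theorem F31770 : act 3 n17696 = n16260 := d6_2 (iv F25226) D17696 F28735
theorem F31771 : act 5 n17696 = n16440 := d8_2 F25227 D17696 F29166
def n17697 : Q := act 4 n14643
theorem D17697 : act 4 n14643 = n17697 := rfl
theorem F31772 : act 0 n17697 = n16265 := d3_1 D17697 (iv D16265) (iv F25225)
theorem F31773 : act 2 n17697 = n14644 := d10_1 D17697 (iv D14644) D14643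
def n17698 : Q := act 5 n14644
theorem D17698 : act 5 n14644 = n17698 := rfl
theorem F31774 : act 3 n17698 = n15790 := d13_1 D17698 (iv D15790) (iv F25228)
def n17699 : Q := act 4 n14645
theorem D17699 : act 4 n14645 = n17699 := rfl
theorem F31775 : act 0 n17699 = n16443 := d3_1 D17699 (iv D16443) (iv F25229)
theorem F31776 : act 2 n17699 = n16441 := d10_1 D17699 (iv D16441) (iv F25230)
def n17700 : Q := act 3 n14646
theorem D17700 : act 3 n14646 = n17700 := rfl
theorem F31777 : act 0 n17700 = n15409 := d2_1 D17700 (iv F29513) F29511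
theorem F31778 : act 1 n17700 = n15795 := d6_1 D17700 F27771 (iv F25232)
theorem F31779 : act 5 n17700 = n15407 := d13_2 (iv F25234) D17700 (iv F26934)
theorem F31780 : act 2 n15617 = n17700 := d15_0 (iv D17700) F25233 F19477 (iv F21484) (iv F27392) (iv D15618) (iv D12535) D12536 (iv F27390)
def n17701 : Q := act 2 n14647
theorem D17701 : act 2 n14647 = n17701 := rfl
theorem F31781 : act 0 n17701 = n15905 := d1_1 D17701 (iv D15905) (iv F25235)
theorem F31782 : act 4 n17701 = n15924 := d10_2 (iv F25237) D17701 (iv D15924)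
def n17702 : Q := act 5 n14649
theorem D17702 : act 5 n14649 = n17702 := rfl
theorem F31783 : act 0 n17702 = n14654 := d4_1 D17702 (iv D14654) (iv F25242)
theorem F31784 : act 1 n17702 = n15925 := d8_1 D17702 (iv D15925) (iv F25243)
theorem F31785 : act 3 n17702 = n14650 := d13_1 D17702 (iv D14650) D14649
def n17703 : Q := act 2 n14651
theorem D17703 : act 2 n14651 = n17703 := rfl
theorem F31786 : act 0 n17703 = n14795 := d1_1 D17703 (iv D14795) (iv F25249)
theorem F31787 : act 1 n17703 = n15444 := d5_1 D17703 F27020 (iv F26967) F26968 (iv F25250)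
theorem F31788 : act 4 n17703 = n14778 := d10_2 (iv F25251) D17703 (iv D14778)
def n17704 : Q := act 5 n14651
theorem D17704 : act 5 n14651 = n17704 := rfl
theorem F31789 : act 0 n17704 = n14794 := d4_1 D17704 F25586 (iv F25249)
theorem F31790 : act 1 n17704 = n15435 := d8_1 D17704 F27009 (iv F25250)
theorem F31791 : act 3 n17704 = n14652 := d13_1 D17704 (iv D14652) D14651
def n17705 : Q := act 4 n14654
theorem D17705 : act 4 n14654 = n17705 := rfl
theorem F31792 : act 1 n17705 = n15915 := d7_1 D17705 F27978 (iv F25257)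
theorem F31793 : act 3 n17705 = n15912 := d12_1 D17705 (iv D15912) F21703 (iv F19497) (iv F25258)
theorem F31794 : act 5 n17705 = n14655 := d14_2 D14654 D17705 (iv D14655) (iv D11605) (iv F19495)
def n17706 : Q := act 3 n14662
theorem D17706 : act 3 n14662 = n17706 := rfl
theorem F31795 : act 0 n17706 = n14802 := d2_1 D17706 F25600 (iv F25280)
theorem F31796 : act 1 n17706 = n15461 := d6_1 D17706 (iv D15461) (iv F25281)
theorem F31797 : act 4 n17706 = n14779 := d12_2 D14662 D17706 (iv D14779) F19738 (iv F19514)
def n17707 : Q := act 5 n14662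
theorem D17707 : act 5 n14662 = n17707 := rfl
theorem F31798 : act 0 n17707 = n14803 := d4_1 D17707 (iv D14803) (iv F25280)
theorem F31799 : act 1 n17707 = n15462 := d8_1 D17707 (iv D15462) (iv F25281)
theorem F31800 : act 2 n17707 = n14663 := d11_1 D17707 (iv D14663) (iv F25282)
theorem F31801 : act 4 n17707 = n14809 := d14_1 D17707 (iv D14809) (iv D11745) (iv F19515) D14662
def n17708 : Q := act 2 n14664
theorem D17708 : act 2 n14664 = n17708 := rfl
theorem F31802 : act 0 n17708 = n14668 := d1_1 D17708 (iv D14668) (iv F25286)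
def n17709 : Q := act 5 n14664
theorem D17709 : act 5 n14664 = n17709 := rfl
theorem F31803 : act 0 n17709 = n14669 := d4_1 D17709 (iv D14669) (iv F25286)
theorem F31804 : act 1 n17709 = n14679 := d8_1 D17709 (iv D14679) (iv F25287)
theorem F31805 : act 3 n17709 = n14665 := d13_1 D17709 (iv D14665) D14664
def n17710 : Q := act 2 n14666
theorem D17710 : act 2 n14666 = n17710 := rfl
theorem F31806 : act 4 n17710 = n14668 := d10_2 (iv F25293) D17710 (iv D14668)
def n17711 : Q := act 5 n14666
theorem D17711 : act 5 n14666 = n17711 := rfl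
theorem F31807 : act 1 n17711 = n14673 := d8_1 D17711 (iv D14673) (iv F25292)
theorem F31808 : act 3 n17711 = n14667 := d13_1 D17711 (iv D14667) D14666
def n17712 : Q := act 1 n14668
theorem D17712 : act 1 n14668 = n17712 := rfl
theorem F31809 : act 2 n17712 = n14674 := d5_2 D14668 D17712 (iv D14674) (iv D11620) (iv F19523)
theorem F31810 : act 5 n14713 = n17712 := d11_0 F31809 F25314 D14713
def n17713 : Q := act 3 n14668
theorem D17713 : act 3 n14668 = n17713 := rfl
def n17714 : Q := act 5 n14668
theorem D17714 : act 5 n14668 = n17714 := rfl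
theorem F31811 : act 1 n17714 = n14713 := d8_1 D17714 F31810 (iv D17712)
theorem F31812 : act 2 n17714 = n14669 := d11_1 D17714 (iv D14669) D14668
def n17715 : Q := act 4 n14669
theorem D17715 : act 4 n14669 = n17715 := rfl
theorem F31813 : act 1 n17715 = n14675 := d7_1 D17715 (iv D14675) (iv F25297)
def n17716 : Q := act 3 n14670
theorem D17716 : act 3 n14670 = n17716 := rfl
theorem F31814 : act 0 n17716 = n15881 := d2_1 D17716 F27923 (iv F25299)
theorem F31815 : act 1 n17716 = n14676 := d6_1 D17716 (iv D14676) (iv F25300)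
theorem F31816 : act 5 n17716 = n14671 := d13_2 (iv F25302) D17716 (iv D14671)
def n17717 : Q := act 2 n14671
theorem D17717 : act 2 n14671 = n17717 := rfl
theorem F31817 : act 0 n17717 = n15880 := d1_1 D17717 (iv D15880) (iv F25303)
theorem F31818 : act 4 n17717 = n14743 := d10_2 (iv F25305) D17717 (iv D14743)
def n17718 : Q := act 1 n14672
theorem D17718 : act 1 n14672 = n17718 := rfl
theorem F31819 : act 3 n17718 = n14883 := d6_2 (iv F25308) D17718 F25741
theorem F31820 : act 4 n17718 = n14674 := d7_2 (iv F25307) D17718 (iv D14674)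
theorem F31821 : act 5 n17718 = n14882 := d8_2 F25309 D17718 F25740
def n17719 : Q := act 4 n14673
theorem D17719 : act 4 n14673 = n17719 := rfl
theorem F31822 : act 0 n17719 = n14690 := d3_1 D17719 (iv D14690) (iv F25310)
theorem F31823 : act 2 n17719 = n14716 := d10_1 D17719 F25398 (iv F25311)
theorem F31824 : act 3 n17719 = n14746 := d12_1 D17719 (iv D14746) F19659 (iv F19532) (iv F25312)
theorem F31825 : act 5 n17719 = n14675 := d14_2 D14673 D17719 (iv D14675) (iv D11621) (iv F19529)
def n17720 : Q := act 0 n14674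
theorem D17720 : act 0 n14674 = n17720 := rfl
theorem F31826 : act 1 n17720 = n14693 := d0_2 D14674 D17720 (iv D14693) (iv D11636) (iv F19533)
theorem F31827 : act 3 n17720 = n14712 := d2_2 (iv F25313) D17720 F25390
theorem F31828 : act 5 n17720 = n14711 := d4_2 (iv F25314) D17720 F25388
def n17721 : Q := act 3 n14675
theorem D17721 : act 3 n14675 = n17721 := rfl
theorem F31829 : act 0 n17721 = n14694 := d2_1 D17721 (iv D14694) (iv F25315)
theorem F31830 : act 2 n17721 = n14931 := d9_1 D17721 (iv D14931) (iv D11859) (iv D9228) (iv F15385) D11858 (iv F25349) (iv F30351) (iv D16998) (iv D13924) F18404 F14147 (iv F15723) (iv F19599) (iv F25316)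
theorem F31831 : act 4 n17721 = n14676 := d12_2 D14675 D17721 (iv D14676) (iv D11622) (iv F19538)
theorem F31832 : act 5 n17721 = n14746 := d13_2 F31825 D17721 (iv F31824)
def n17722 : Q := act 1 n14677
theorem D17722 : act 1 n14677 = n17722 := rfl
theorem F31833 : act 3 n17722 = n15456 := d6_2 (iv F25323) D17722 (iv D15456)
theorem F31834 : act 4 n17722 = n14745 := d7_2 (iv F25321) D17722 (iv D14745)
theorem F31835 : act 5 n17722 = n15467 := d8_2 (iv F25322) D17722 F27049
def n17723 : Q := act 1 n14678
theorem D17723 : act 1 n14678 = n17723 := rfl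
def n17724 : Q := act 3 n14678
theorem D17724 : act 3 n14678 = n17724 := rfl
theorem F31836 : act 0 n17724 = n14683 := d2_1 D17724 (iv D14683) (iv F25324)
theorem F31837 : act 2 n17724 = n14705 := d15_2 D14678 D17724 F25379 F19582 F15037 (iv F15009) (iv F19553) (iv D11629) (iv F19544)
theorem F31838 : act 5 n14703 = n17724 := d11_0 F31837 (iv D14705) D14703
def n17725 : Q := act 5 n14678
theorem D17725 : act 5 n14678 = n17725 := rfl
theorem F31839 : act 0 n17725 = n14684 := d4_1 D17725 (iv D14684) (iv F25324)
theorem F31840 : act 2 n17725 = n14679 := d11_1 D17725 (iv D14679) D14678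
theorem F31841 : act 3 n17725 = n14703 := d13_1 D17725 F31838 (iv D17724)
def n17726 : Q := act 4 n14679
theorem D17726 : act 4 n14679 = n17726 := rfl
theorem F31842 : act 0 n17726 = n14685 := d3_1 D17726 (iv D14685) (iv F25325)
theorem F31843 : act 3 n17726 = n15885 := d12_1 D17726 (iv D15885) F21670 (iv F19547) (iv F25326)
def n17727 : Q := act 1 n14680
theorem D17727 : act 1 n14680 = n17727 := rfl
theorem F31844 : act 2 n17727 = n14687 := d5_2 D14680 D17727 (iv D14687) (iv D11632) (iv F19548)
theorem F31845 : act 4 n17727 = n14682 := d7_2 (iv F25327) D17727 (iv D14682)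
def n17728 : Q := act 3 n14680
theorem D17728 : act 3 n14680 = n17728 := rfl
def n17729 : Q := act 5 n14680
theorem D17729 : act 5 n14680 = n17729 := rfl
theorem F31846 : act 2 n17729 = n14681 := d11_1 D17729 (iv D14681) D14680
def n17730 : Q := act 4 n14681
theorem D17730 : act 4 n14681 = n17730 := rfl
theorem F31847 : act 1 n17730 = n14690 := d7_1 D17730 (iv D14690) (iv F25328)
theorem F31848 : act 3 n17730 = n15891 := d12_1 D17730 (iv D15891) F21674 (iv F19551) (iv F25329)
theorem F31849 : act 5 n17730 = n14685 := d14_2 D14681 D17730 (iv D14685) (iv D11629) (iv F19549)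
def n17731 : Q := act 0 n14682
theorem D17731 : act 0 n14682 = n17731 := rfl
theorem F31850 : act 2 n17731 = n14693 := d1_2 (iv F25330) D17731 (iv D14693)
theorem F31851 : act 5 n17731 = n15369 := d4_2 F25331 D17731 F26864
def n17732 : Q := act 3 n14682
theorem D17732 : act 3 n14682 = n17732 := rfl
theorem F31852 : act 1 n17732 = n14683 := d6_1 D17732 (iv D14683) D14682
theorem F31853 : act 5 n17732 = n15372 := d13_2 F25331 D17732 (iv D15372)
def n17733 : Q := act 2 n14683
theorem D17733 : act 2 n14683 = n17733 := rfl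
theorem F31854 : act 0 n17733 = n14705 := d1_1 D17733 (iv F31837) F31836
theorem F31855 : act 3 n17733 = n14700 := d9_2 D14683 D17733 F25374 F19579 (iv F19546) (iv F25326) (iv F31840) F31841 (iv D14703) (iv D11643) (iv D9041) (iv D6934) (iv F11475) D9028 D11628
theorem F31856 : act 5 n14699 = n17733 := d13_0 F31855 (iv D14700) D14699
def n17734 : Q := act 4 n14683
theorem D17734 : act 4 n14683 = n17734 := rfl
def n17735 : Q := act 5 n14683
theorem D17735 : act 5 n14683 = n17735 := rfl
theorem F31857 : act 0 n17735 = n14703 := d4_1 D17735 F31838 F31836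
theorem F31858 : act 1 n17735 = n15372 := d8_1 D17735 (iv F31853) F31852
theorem F31859 : act 2 n17735 = n14699 := d11_1 D17735 F31856 (iv D17733)
theorem F31860 : act 3 n17735 = n14684 := d13_1 D17735 (iv D14684) D14683
def n17736 : Q := act 4 n14684
theorem D17736 : act 4 n14684 = n17736 := rfl
theorem F31861 : act 1 n17736 = n15373 := d7_1 D17736 (iv D15373) (iv F25332)
theorem F31862 : act 2 n17736 = n14685 := d10_1 D17736 (iv D14685) (iv F25333)
def n17737 : Q := act 0 n14687
theorem D17737 : act 0 n14687 = n17737 := rfl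
theorem F31863 : act 4 n17737 = n14693 := d3_2 (iv F25340) D17737 (iv D14693)
def n17738 : Q := act 3 n14687
theorem D17738 : act 3 n14687 = n17738 := rfl
theorem F31864 : act 1 n17738 = n14688 := d6_1 D17738 (iv D14688) D14687
theorem F31865 : act 4 n17738 = n14928 := d12_2 (iv F25340) D17738 F25834 (iv D12272) (iv F19570)
theorem F31866 : act 5 n14853 = n17738 := d14_0 F31865 (iv D14928) (iv D11855) (iv F19864) (iv F25684)
def n17739 : Q := act 5 n14687
theorem D17739 : act 5 n14687 = n17739 := rfl
theorem F31867 : act 1 n17739 = n14689 := d8_1 D17739 (iv D14689) D14687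
theorem F31868 : act 3 n17739 = n14853 := d13_1 D17739 F31866 (iv D17738)
theorem F31869 : act 4 n17739 = n14929 := d14_1 D17739 F25836 (iv D12271) (iv F19571) (iv F25340)
def n17740 : Q := act 1 n14692
theorem D17740 : act 1 n14692 = n17740 := rfl
theorem F31870 : act 2 n17740 = n15888 := d5_2 D14692 D17740 (iv D15888) (iv D12834) (iv F19568)
theorem F31871 : act 3 n17740 = n15478 := d6_2 (iv F25356) D17740 F27069
theorem F31872 : act 4 n17740 = n14696 := d7_2 (iv F25357) D17740 (iv D14696)
theorem F31873 : act 5 n17740 = n15477 := d8_2 (iv F25358) D17740 F27068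
def n17741 : Q := act 1 n14695
theorem D17741 : act 1 n14695 = n17741 := rfl
theorem F31874 : act 2 n17741 = n15894 := d5_2 D14695 D17741 F27934 F21675 (iv F19573)
theorem F31875 : act 3 n17741 = n14943 := d6_2 (iv F25364) D17741 F25856
theorem F31876 : act 5 n17741 = n14696 := d8_2 (iv F25365) D17741 (iv D14696)
def n17742 : Q := act 0 n14696
theorem D17742 : act 0 n14696 = n17742 := rfl
theorem F31877 : act 2 n17742 = n15892 := d1_2 (iv F25366) D17742 (iv D15892)
def n17743 : Q := act 3 n14696
theorem D17743 : act 3 n14696 = n17743 := rfl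
theorem F31878 : act 1 n17743 = n14697 := d6_1 D17743 (iv D14697) D14696
theorem F31879 : act 5 n17743 = n14943 := d13_2 F31876 D17743 (iv F31875)
def n17744 : Q := act 4 n14702
theorem D17744 : act 4 n14702 = n17744 := rfl
theorem F31880 : act 1 n17744 = n14704 := d7_1 D17744 (iv D14704) (iv F25377)
theorem F31881 : act 3 n17744 = n14726 := d12_1 D17744 (iv D14726) (iv D11669) (iv F19581) D14702
def n17745 : Q := act 1 n14703
theorem D17745 : act 1 n14703 = n17745 := rfl
def n17746 : Q := act 4 n14703
theorem D17746 : act 4 n14703 = n17746 := rfl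
theorem F31882 : act 2 n17746 = n14704 := d10_1 D17746 (iv D14704) D14703
def n17747 : Q := act 5 n14704
theorem D17747 : act 5 n14704 = n17747 := rfl
theorem F31883 : act 3 n17747 = n15897 := d13_1 D17747 (iv D15897) (iv F25378)
def n17748 : Q := act 4 n14705
theorem D17748 : act 4 n14705 = n17748 := rfl
def n17749 : Q := act 5 n14706
theorem D17749 : act 5 n14706 = n17749 := rfl
theorem F31884 : act 0 n17749 = n14708 := d4_1 D17749 (iv D14708) D14706
theorem F31885 : act 2 n17749 = n14712 := d11_1 D17749 (iv D14712) (iv F25380)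
def n17750 : Q := act 4 n14708
theorem D17750 : act 4 n14708 = n17750 := rfl
theorem F31886 : act 1 n17750 = n14710 := d7_1 D17750 (iv D14710) (iv F25383)
theorem F31887 : act 2 n17750 = n14715 := d10_1 D17750 (iv D14715) (iv F25384)
theorem F31888 : act 5 n17750 = n15169 := d14_2 D14708 D17750 (iv D15169) F20357 (iv F19589)
def n17751 : Q := act 5 n14709
theorem D17751 : act 5 n14709 = n17751 := rfl
theorem F31889 : act 0 n17751 = n15694 := d4_1 D17751 F27555 F26630
theorem F31890 : act 2 n17751 = n15692 := d11_1 D17751 (iv F29854) F29851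
theorem F31891 : act 3 n17751 = n15337 := d13_1 D17751 (iv D15337) (iv F25385)
def n17752 : Q := act 3 n14710
theorem D17752 : act 3 n14710 = n17752 := rfl
theorem F31892 : act 5 n17752 = n15339 := d13_2 (iv F25387) D17752 (iv D15339)
def n17753 : Q := act 2 n14711
theorem D17753 : act 2 n14711 = n17753 := rfl
theorem F31893 : act 0 n17753 = n14713 := d1_1 D17753 (iv D14713) (iv F25388)
def n17754 : Q := act 4 n14711
theorem D17754 : act 4 n14711 = n17754 := rfl
theorem F31894 : act 0 n17754 = n14714 := d3_1 D17754 (iv D14714) (iv F25388)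
theorem F31895 : act 1 n17754 = n15370 := d7_1 D17754 (iv D15370) (iv F25389)
theorem F31896 : act 3 n17754 = n15167 := d12_1 D17754 (iv D15167) F20355 (iv F19595) D14711
def n17755 : Q := act 4 n14712
theorem D17755 : act 4 n14712 = n17755 := rfl
theorem F31897 : act 0 n17755 = n14715 := d3_1 D17755 (iv D14715) (iv F25390)
theorem F31898 : act 1 n17755 = n15371 := d7_1 D17755 (iv D15371) (iv F25391)
theorem F31899 : act 5 n17755 = n15166 := d14_2 D14712 D17755 (iv D15166) (iv F20352) (iv F19595)
def n17756 : Q := act 3 n14713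
theorem D17756 : act 3 n14713 = n17756 := rfl
def n17757 : Q := act 4 n14713
theorem D17757 : act 4 n14713 = n17757 := rfl
theorem F31900 : act 2 n17757 = n14714 := d10_1 D17757 (iv D14714) D14713
def n17758 : Q := act 5 n14714
theorem D17758 : act 5 n14714 = n17758 := rfl
theorem F31901 : act 1 n17758 = n14716 := d8_1 D17758 (iv D14716) (iv F25392)
theorem F31902 : act 3 n17758 = n14890 := d13_1 D17758 F25762 (iv F25393)
theorem F31903 : act 4 n17758 = n14882 := d14_1 D17758 (iv F31821) F31820 F25314 D14714
def n17759 : Q := act 3 n14715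
theorem D17759 : act 3 n14715 = n17759 := rfl
theorem F31904 : act 1 n17759 = n14717 := d6_1 D17759 (iv D14717) (iv F25394)
theorem F31905 : act 4 n17759 = n14883 := d12_2 D14715 D17759 (iv F31819) F31820 F25313
theorem F31906 : act 5 n17759 = n14891 := d13_2 (iv F25395) D17759 F25764
def n17760 : Q := act 0 n14719
theorem D17760 : act 0 n14719 = n17760 := rfl
def n17761 : Q := act 4 n14719
theorem D17761 : act 4 n14719 = n17761 := rfl
theorem F31907 : act 1 n17761 = n14720 := d7_1 D17761 (iv D14720) D14719
def n17762 : Q := act 3 n14720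
theorem D17762 : act 3 n14720 = n17762 := rfl
def n17763 : Q := act 5 n14720
theorem D17763 : act 5 n14720 = n17763 := rfl
theorem F31908 : act 2 n17763 = n14721 := d11_1 D17763 (iv D14721) (iv F25405)
theorem F31909 : act 4 n17763 = n15694 := d14_1 D17763 F27555 (iv D15260) (iv F20540) D14720
def n17764 : Q := act 4 n14724
theorem D17764 : act 4 n14724 = n17764 := rfl
theorem F31910 : act 0 n17764 = n14726 := d3_1 D17764 (iv D14726) (iv F25414)
theorem F31911 : act 2 n17764 = n14808 := d10_1 D17764 (iv D14808) (iv F25415)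
def n17765 : Q := act 4 n14725
theorem D17765 : act 4 n14725 = n17765 := rfl
theorem F31912 : act 0 n17765 = n14808 := d3_1 D17765 (iv D14808) (iv F25417)
theorem F31913 : act 1 n17765 = n14810 := d7_1 D17765 (iv D14810) (iv F25418)
theorem F31914 : act 2 n17765 = n14726 := d10_1 D17765 (iv D14726) D14725
theorem F31915 : act 3 n17765 = n15111 := d12_1 D17765 (iv D15111) (iv D12029) (iv F19772) (iv F25419)
def n17766 : Q := act 5 n14726
theorem D17766 : act 5 n14726 = n17766 := rfl
theorem F31916 : act 1 n17766 = n15897 := d8_1 D17766 (iv D15897) (iv F25421)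
def n17767 : Q := act 0 n14727
theorem D17767 : act 0 n14727 = n17767 := rfl
theorem F31917 : act 1 n17767 = n14733 := d0_2 D14727 D17767 (iv D14733) (iv D11676) (iv F19625)
theorem F31918 : act 2 n17767 = n17615 := d1_2 (iv F25422) D17767 F31582
theorem F31919 : act 3 n17767 = n15918 := d2_2 (iv F25423) D17767 F27985
theorem F31920 : act 4 n17767 = n15060 := d3_2 (iv F25424) D17767 (iv D15060)
theorem F31921 : act 5 n17767 = n15917 := d4_2 (iv F25425) D17767 F27984
def n17768 : Q := act 0 n14729
theorem D17768 : act 0 n14729 = n17768 := rfl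
theorem F31922 : act 1 n17768 = n15060 := d0_2 D14729 D17768 (iv D15060) (iv D11986) (iv F19633)
theorem F31923 : act 2 n17768 = n17630 := d1_2 (iv F25430) D17768 (iv D17630)
theorem F31924 : act 4 n17768 = n14733 := d3_2 (iv F25431) D17768 (iv D14733)
theorem F31925 : act 5 n17612 = n17768 := d15_8 F25430 (iv F29773) F29772 (iv F29695) F29694 F23815 (iv F27506) (iv F31578) (iv D17768)
theorem F31926 : act 3 n17768 = n16959 := d13_1 F31925 F30243 (iv F31578)
def n17769 : Q := act 3 n14729
theorem D17769 : act 3 n14729 = n17769 := rfl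
theorem F31927 : act 0 n17769 = n16959 := d2_1 D17769 (iv F31926) (iv D17768)
theorem F31928 : act 1 n17769 = n14730 := d6_1 D17769 (iv D14730) D14729
theorem F31929 : act 2 n17769 = n16957 := d15_6 (iv F29694) F29695 (iv F29772) F29773 (iv F25430) D17769 (iv D16957) D16958 F30239
theorem F31930 : act 5 n17769 = n15065 := d15_8 F27506 (iv F23815) (iv F29694) F29695 (iv F29772) F29773 (iv F25430) D17769 (iv F27505)
def n17770 : Q := act 5 n14729
theorem D17770 : act 5 n14729 = n17770 := rfl
theorem F31931 : act 0 n17770 = n17612 := d4_1 D17770 F31925 (iv D17768)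
theorem F31932 : act 1 n17770 = n14731 := d8_1 D17770 (iv D14731) D14729
theorem F31933 : act 2 n17770 = n17631 := d11_1 D17770 (iv D17631) (iv F25430)
theorem F31934 : act 3 n17770 = n15065 := d13_1 D17770 (iv F31930) (iv D17769)
def n17771 : Q := act 4 n14730
theorem D17771 : act 4 n14730 = n17771 := rfl
theorem F31935 : act 0 n17771 = n15062 := d3_1 D17771 (iv D15062) (iv F25432)
theorem F31936 : act 2 n17771 = n15066 := d10_1 D17771 (iv D15066) (iv F25433)
theorem F31937 : act 3 n17771 = n14736 := d12_1 D17771 (iv D14736) (iv D11677) (iv F19634) D14730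
theorem F31938 : act 5 n17771 = n14736 := d14_2 (iv F25434) D17771 (iv D14736) F19640 (iv F20216)
def n17772 : Q := act 4 n14731
theorem D17772 : act 4 n14731 = n17772 := rfl
theorem F31939 : act 0 n17772 = n15063 := d3_1 D17772 (iv D15063) (iv F25435)
theorem F31940 : act 2 n17772 = n14732 := d10_1 D17772 (iv D14732) (iv F25436)
theorem F31941 : act 3 n17772 = n14737 := d12_1 D17772 (iv D14737) F19643 (iv F20216) (iv F25437)
theorem F31942 : act 5 n17772 = n14737 := d14_2 D14731 D17772 (iv D14737) (iv D11678) (iv F19634)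
def n17773 : Q := act 3 n14733
theorem D17773 : act 3 n14733 = n17773 := rfl
theorem F31943 : act 0 n17773 = n14734 := d2_1 D17773 (iv D14734) D14733
theorem F31944 : act 1 n17773 = n15918 := d6_1 D17773 (iv F31919) F31917
theorem F31945 : act 5 n15906 = n17773 := d8_0 F31944 (iv D15918) (iv F27951)
def n17774 : Q := act 5 n14733
theorem D17774 : act 5 n14733 = n17774 := rfl
theorem F31946 : act 0 n17774 = n14735 := d4_1 D17774 (iv D14735) D14733
theorem F31947 : act 1 n17774 = n15917 := d8_1 D17774 (iv F31921) F31917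
theorem F31948 : act 3 n17774 = n15906 := d13_1 D17774 F31945 (iv D17773)
def n17775 : Q := act 2 n14734
theorem D17775 : act 2 n14734 = n17775 := rfl
theorem F31949 : act 1 n17775 = n15902 := d5_1 D17775 F27945 F21680 (iv F19639) (iv F25441)
theorem F31950 : act 5 n17775 = n15900 := d11_2 F25442 D17775 F27943
def n17776 : Q := act 4 n14734
theorem D17776 : act 4 n14734 = n17776 := rfl
theorem F31951 : act 1 n17776 = n14736 := d7_1 D17776 (iv D14736) (iv F25441)
def n17777 : Q := act 4 n14735
theorem D17777 : act 4 n14735 = n17777 := rfl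
theorem F31952 : act 1 n17777 = n14737 := d7_1 D17777 (iv D14737) (iv F25443)
def n17778 : Q := act 2 n14739
theorem D17778 : act 2 n14739 = n17778 := rfl
def n17779 : Q := act 5 n14739
theorem D17779 : act 5 n14739 = n17779 := rfl
theorem F31953 : act 1 n17779 = n15887 := d8_1 D17779 (iv D15887) (iv F25453)
theorem F31954 : act 3 n17779 = n14740 := d13_1 D17779 (iv D14740) D14739
def n17780 : Q := act 2 n14741
theorem D17780 : act 2 n14741 = n17780 := rfl
theorem F31955 : act 0 n17780 = n14743 := d1_1 D17780 (iv D14743) (iv F25456)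
theorem F31956 : act 4 n17780 = n15880 := d10_2 (iv F25458) D17780 (iv D15880)
def n17781 : Q := act 5 n14741
theorem D17781 : act 5 n14741 = n17781 := rfl
theorem F31957 : act 0 n17781 = n14744 := d4_1 D17781 (iv D14744) (iv F25456)
theorem F31958 : act 1 n17781 = n15883 := d8_1 D17781 (iv D15883) (iv F25457)
theorem F31959 : act 3 n17781 = n14742 := d13_1 D17781 (iv D14742) D14741
def n17782 : Q := act 1 n14743
theorem D17782 : act 1 n14743 = n17782 := rfl
theorem F31960 : act 2 n17782 = n14745 := d5_2 D14743 D17782 (iv D14745) (iv D11687) (iv F19657)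
def n17783 : Q := act 3 n14743
theorem D17783 : act 3 n14743 = n17783 := rfl
def n17784 : Q := act 5 n14743
theorem D17784 : act 5 n14743 = n17784 := rfl
theorem F31961 : act 2 n17784 = n14744 := d11_1 D17784 (iv D14744) D14743
def n17785 : Q := act 4 n14744
theorem D17785 : act 4 n14744 = n17785 := rfl
theorem F31962 : act 1 n17785 = n14746 := d7_1 D17785 (iv D14746) (iv F25461)
def n17786 : Q := act 0 n14745
theorem D17786 : act 0 n14745 = n17786 := rfl
def n17787 : Q := act 0 n14747
theorem D17787 : act 0 n14747 = n17787 := rfl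
theorem F31963 : act 1 n17787 = n15051 := d0_2 D14747 D17787 (iv D15051) (iv D11975) (iv F19660)
theorem F31964 : act 2 n17787 = n14752 := d1_2 (iv F25463) D17787 (iv D14752)
theorem F31965 : act 4 n17787 = n15144 := d3_2 (iv F25464) D17787 (iv D15144)
theorem F31966 : act 5 n17787 = n15431 := d4_2 (iv F25465) D17787 F26994
theorem F31967 : act 3 n15530 = n17787 := d13_3 F31966 F26997 (iv F27188)
def n17788 : Q := act 3 n14747
theorem D17788 : act 3 n14747 = n17788 := rfl
theorem F31968 : act 0 n17788 = n15530 := d2_1 D17788 F31967 (iv D17787)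
theorem F31969 : act 1 n17788 = n14748 := d6_1 D17788 (iv D14748) D14747
theorem F31970 : act 2 n17788 = n15529 := d9_1 D17788 (iv D15529) F21009 (iv F20195) F20194 (iv F21809) (iv F26996) F26997 (iv F26143) (iv D15058) (iv D11983) (iv D9334) (iv F15130) (iv F19669) (iv F25463)
theorem F31971 : act 5 n17788 = n15344 := d13_2 (iv F25465) D17788 F26799
theorem F31972 : act 4 n15637 = n17788 := d14_5 F31971 (iv D15344) F20692 D12556 D15637
def n17789 : Q := act 4 n14748
theorem D17789 : act 4 n14748 = n17789 := rfl
theorem F31973 : act 0 n17789 = n15053 := d3_1 D17789 (iv D15053) (iv F25466)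
theorem F31974 : act 1 n17789 = n15637 := d7_1 D17789 F31972 F31969
theorem F31975 : act 2 n17789 = n15928 := d10_1 D17789 (iv D15928) (iv F25468)
theorem F31976 : act 3 n17789 = n15147 := d12_1 D17789 (iv D15147) (iv D12064) (iv F19661) D14748
theorem F31977 : act 5 n17789 = n15635 := d14_2 (iv F25467) D17789 (iv D15635) (iv F26794) F26793
def n17790 : Q := act 4 n14753
theorem D17790 : act 4 n14753 = n17790 := rfl
theorem F31978 : act 1 n17790 = n17434 := d7_1 D17790 (iv D17434) (iv F25488)
theorem F31979 : act 2 n17790 = n14754 := d10_1 D17790 (iv D14754) (iv F25489)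
def n17791 : Q := act 0 n14757
theorem D17791 : act 0 n14757 = n17791 := rfl
theorem F31980 : act 1 n17791 = n15036 := d0_2 D14757 D17791 (iv D15036) (iv D11958) (iv F19681)
theorem F31981 : act 2 n17791 = n14759 := d1_2 (iv F25502) D17791 (iv D14759)
theorem F31982 : act 3 n17791 = n15524 := d2_2 (iv F26076) D17791 F27175
theorem F31983 : act 4 n17791 = n17154 := d3_2 F29593 D17791 F30633
theorem F31984 : act 5 n17791 = n15215 := d4_2 (iv F25503) D17791 F26509
def n17792 : Q := act 3 n14760
theorem D17792 : act 3 n14760 = n17792 := rfl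
theorem F31985 : act 0 n17792 = n14761 := d2_1 D17792 (iv D14761) D14760
theorem F31986 : act 5 n17792 = n17189 := d15_8 (iv F30685) F30742 F30741 (iv F28226) F28225 (iv D15047) (iv F25510) D17792 (iv D17189)
def n17793 : Q := act 5 n14760
theorem D17793 : act 5 n14760 = n17793 := rfl
theorem F31987 : act 0 n17793 = n14762 := d4_1 D17793 (iv D14762) D14760
theorem F31988 : act 2 n17793 = n15048 := d11_1 D17793 (iv D15048) (iv F25510)
theorem F31989 : act 3 n17793 = n17189 := d13_1 D17793 (iv F31986) (iv D17792)
theorem F31990 : act 4 n17793 = n15941 := d14_1 D17793 F28021 F21862 (iv F19693) (iv F25511)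
def n17794 : Q := act 2 n14761
theorem D17794 : act 2 n14761 = n17794 := rfl
theorem F31991 : act 1 n17794 = n17187 := d5_1 D17794 F30687 F24166 (iv F19687) (iv F25512)
theorem F31992 : act 5 n17794 = n17185 := d11_2 F25513 D17794 F30685
def n17795 : Q := act 4 n14761
theorem D17795 : act 4 n14761 = n17795 := rfl
theorem F31993 : act 1 n17795 = n14763 := d7_1 D17795 (iv D14763) (iv F25512)
theorem F31994 : act 3 n17795 = n14766 := d12_1 D17795 (iv D14766) (iv D11705) (iv F19686) D14761
def n17796 : Q := act 2 n14764
theorem D17796 : act 2 n14764 = n17796 := rfl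
theorem F31995 : act 0 n17796 = n14765 := d1_1 D17796 (iv D14765) (iv F25521)
theorem F31996 : act 1 n17796 = n15197 := d5_1 D17796 (iv D15197) F20410 (iv F20447) (iv F25522)
theorem F31997 : act 5 n17796 = n15205 := d11_2 (iv F25523) D17796 F26489
def n17797 : Q := act 4 n14764
theorem D17797 : act 4 n14764 = n17797 := rfl
theorem F31998 : act 0 n17797 = n14766 := d3_1 D17797 (iv D14766) (iv F25521)
theorem F31999 : act 1 n17797 = n15217 := d7_1 D17797 (iv D15217) (iv F25522)
def n17798 : Q := act 3 n14765
theorem D17798 : act 3 n14765 = n17798 := rfl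
theorem F32000 : act 1 n17798 = n15172 := d6_1 D17798 F26412 (iv F25524)
theorem F32001 : act 5 n17798 = n15206 := d13_2 (iv F25525) D17798 (iv D15206)
theorem F32002 : act 2 n17166 = n17798 := d11_3 F32001 F26491 D17166
def n17799 : Q := act 4 n14765
theorem D17799 : act 4 n14765 = n17799 := rfl
theorem F32003 : act 1 n17799 = n15208 := d7_1 D17799 (iv D15208) (iv F25524)
theorem F32004 : act 2 n17799 = n14766 := d10_1 D17799 (iv D14766) D14765
def n17800 : Q := act 0 n14767
theorem D17800 : act 0 n14767 = n17800 := rfl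
theorem F32005 : act 2 n17800 = n14771 := d1_2 (iv F25527) D17800 (iv D14771)
def n17801 : Q := act 3 n14767
theorem D17801 : act 3 n14767 = n17801 := rfl
theorem F32006 : act 1 n17801 = n14768 := d6_1 D17801 (iv D14768) D14767
def n17802 : Q := act 5 n14767
theorem D17802 : act 5 n14767 = n17802 := rfl
theorem F32007 : act 1 n17802 = n14769 := d8_1 D17802 (iv D14769) D14767
theorem F32008 : act 2 n17802 = n14773 := d11_1 D17802 (iv D14773) (iv F25527)
def n17803 : Q := act 4 n14768
theorem D17803 : act 4 n14768 = n17803 := rfl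
def n17804 : Q := act 4 n14769
theorem D17804 : act 4 n14769 = n17804 := rfl
theorem F32009 : act 2 n17804 = n14770 := d10_1 D17804 (iv D14770) (iv F25528)
theorem F32010 : act 5 n17804 = n17159 := d14_2 D14769 D17804 F30642 F24143 F20801
def n17805 : Q := act 3 n14771
theorem D17805 : act 3 n14771 = n17805 := rfl
theorem F32011 : act 0 n17805 = n14772 := d2_1 D17805 (iv D14772) D14771
theorem F32012 : act 1 n17805 = n15940 := d6_1 D17805 F28020 F26919
theorem F32013 : act 4 n17805 = n15471 := d12_2 (iv F26854) D17805 F27061 (iv D15364) (iv F26853)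
theorem F32014 : act 2 n15007 = n17805 := d10_3 F32013 F27060 (iv F26009)
theorem F32015 : act 5 n14993 = n17805 := d14_0 F32013 (iv D15471) (iv D12382) (iv F20079) (iv F25970)
def n17806 : Q := act 5 n14771
theorem D17806 : act 5 n14771 = n17806 := rfl
theorem F32016 : act 0 n17806 = n14773 := d4_1 D17806 (iv D14773) D14771
theorem F32017 : act 1 n17806 = n15939 := d8_1 D17806 (iv F28018) F26919
theorem F32018 : act 3 n17806 = n14993 := d13_1 D17806 F32015 (iv D17805)
def n17807 : Q := act 3 n14775
theorem D17807 : act 3 n14775 = n17807 := rfl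
theorem F32019 : act 0 n17807 = n14824 := d2_1 D17807 F25636 (iv F25542)
theorem F32020 : act 1 n17807 = n14777 := d6_1 D17807 (iv D14777) (iv F25543)
theorem F32021 : act 5 n17807 = n14776 := d13_2 (iv F25545) D17807 (iv D14776)
def n17808 : Q := act 2 n14776
theorem D17808 : act 2 n14776 = n17808 := rfl
theorem F32022 : act 0 n17808 = n14823 := d1_1 D17808 (iv D14823) (iv F25546)
theorem F32023 : act 4 n17808 = n15419 := d10_2 (iv F25548) D17808 F26968
theorem F32024 : act 1 n15455 = n17808 := d7_3 F32023 F26967 D15455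
def n17809 : Q := act 2 n14777
theorem D17809 : act 2 n14777 = n17809 := rfl
theorem F32025 : act 0 n17809 = n14798 := d1_1 D17809 (iv D14798) (iv F25549)
theorem F32026 : act 3 n17809 = n14801 := d9_2 D14777 D17809 (iv D14801) (iv D11739) (iv D9130) (iv D7009) (iv F11623) D9129 D11738 D14800 F25598 (iv D12035) F15678 (iv F15175) (iv F19733)
theorem F32027 : act 5 n17809 = n14778 := d11_2 (iv F25550) D17809 (iv D14778)
def n17810 : Q := act 1 n14778
theorem D17810 : act 1 n14778 = n17810 := rfl
theorem F32028 : act 0 n17810 = n15446 := d0_1 D17810 F27022 F25596 (iv D14799) (iv F25551)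
theorem F32029 : act 2 n17810 = n15455 := d5_2 D14778 D17810 F32024 (iv D17808) F25547
theorem F32030 : act 3 n17810 = n15128 := d6_2 (iv F25552) D17810 (iv D15128)
theorem F32031 : act 4 n17810 = n15444 := d7_2 F31788 D17810 (iv F31787)
def n17811 : Q := act 2 n14779
theorem D17811 : act 2 n14779 = n17811 := rfl
theorem F32032 : act 0 n17811 = n14801 := d1_1 D17811 (iv D14801) (iv F25553)
theorem F32033 : act 3 n17811 = n14798 := d9_2 D14779 D17811 (iv D14798) (iv D11737) F15209 F11625 (iv F11993) D9396 D12048 (iv F25552) (iv D14778) (iv D11720) F15172 D9113 D11721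
theorem F32034 : act 5 n17811 = n14800 := d11_2 (iv F25555) D17811 F25598
def n17812 : Q := act 1 n14780
theorem D17812 : act 1 n14780 = n17812 := rfl
theorem F32035 : act 2 n17812 = n16932 := d5_2 D14780 D17812 F30207 (iv F24569) F24568
theorem F32036 : act 4 n17812 = n16931 := d7_2 F31123 D17812 (iv F31122)
theorem F32037 : act 0 n16934 = n17812 := d3_3 F32036 F30205 D16934
def n17813 : Q := act 5 n14780
theorem D17813 : act 5 n14780 = n17813 := rfl
theorem F32038 : act 0 n17813 = n14786 := d4_1 D17813 (iv D14786) (iv F25556)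
theorem F32039 : act 2 n17813 = n14781 := d11_1 D17813 (iv D14781) D14780
theorem F32040 : act 3 n17813 = n14806 := d13_1 D17813 (iv F28311) F28312
def n17814 : Q := act 4 n14781
theorem D17814 : act 4 n14781 = n17814 := rfl
theorem F32041 : act 0 n17814 = n14787 := d3_1 D17814 (iv D14787) (iv F25557)
theorem F32042 : act 3 n17814 = n14826 := d12_1 D17814 (iv D14826) F19815 (iv F19743) (iv F25558)
def n17815 : Q := act 1 n14782
theorem D17815 : act 1 n14782 = n17815 := rfl
theorem F32043 : act 0 n17815 = n16922 := d0_1 D17815 F30186 (iv F30205) (iv F31122) F31121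
theorem F32044 : act 2 n17815 = n14790 := d5_2 D14782 D17815 (iv D14790) (iv D11731) (iv F19744)
theorem F32045 : act 3 n17815 = n16929 := d6_2 F31150 D17815 (iv F31149)
theorem F32046 : act 4 n17815 = n14784 := d7_2 (iv F25559) D17815 (iv D14784)
theorem F32047 : act 5 n16917 = n17815 := d13_0 F32045 F30203 (iv F30176)
def n17816 : Q := act 5 n14782
theorem D17816 : act 5 n14782 = n17816 := rfl
theorem F32048 : act 1 n17816 = n16917 := d8_1 D17816 F32047 (iv D17815)
theorem F32049 : act 2 n17816 = n14783 := d11_1 D17816 (iv D14783) D14782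
theorem F32050 : act 3 n17816 = n17573 := d13_1 D17816 F31498 F31150
def n17817 : Q := act 4 n14783
theorem D17817 : act 4 n14783 = n17817 := rfl
theorem F32051 : act 1 n17817 = n14793 := d7_1 D17817 (iv D14793) (iv F25560)
theorem F32052 : act 3 n17817 = n14832 := d12_1 D17817 (iv D14832) F19830 (iv F19747) (iv F25561)
theorem F32053 : act 5 n17817 = n14787 := d14_2 D14783 D17817 (iv D14787) (iv D11727) (iv F19745)
def n17818 : Q := act 0 n14784
theorem D17818 : act 0 n14784 = n17818 := rfl
theorem F32054 : act 1 n17818 = n16934 := d0_2 D14784 D17818 F32037 (iv D17812) F25556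
theorem F32055 : act 2 n17818 = n14796 := d1_2 (iv F25562) D17818 (iv D14796)
theorem F32056 : act 4 n17818 = n16922 := d3_2 F32046 D17818 (iv F32043)
def n17819 : Q := act 3 n14784
theorem D17819 : act 3 n14784 = n17819 := rfl
theorem F32057 : act 1 n17819 = n14785 := d6_1 D17819 (iv D14785) D14784
def n17820 : Q := act 4 n14785
theorem D17820 : act 4 n14785 = n17820 := rfl
def n17821 : Q := act 5 n14785
theorem D17821 : act 5 n14785 = n17821 := rfl
theorem F32058 : act 0 n17821 = n14806 := d4_1 D17821 (iv F28311) F28310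
theorem F32059 : act 2 n17821 = n14805 := d11_1 D17821 (iv F28276) F28277
theorem F32060 : act 3 n17821 = n14786 := d13_1 D17821 (iv D14786) D14785
def n17822 : Q := act 4 n14786
theorem D17822 : act 4 n14786 = n17822 := rfl
theorem F32061 : act 2 n17822 = n14787 := d10_1 D17822 (iv D14787) (iv F25563)
def n17823 : Q := act 4 n14789
theorem D17823 : act 4 n14789 = n17823 := rfl
theorem F32062 : act 0 n17823 = n15912 := d3_1 D17823 (iv D15912) (iv F25570)
theorem F32063 : act 5 n17823 = n15910 := d14_2 D14789 D17823 (iv D15910) (iv D12856) (iv F19754)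
def n17824 : Q := act 3 n14793
theorem D17824 : act 3 n14793 = n17824 := rfl
theorem F32064 : act 1 n17824 = n14832 := d6_1 D17824 (iv F32052) F32051
theorem F32065 : act 4 n17824 = n14794 := d12_2 D14793 D17824 (iv D14794) (iv D11733) (iv F19759)
theorem F32066 : act 5 n17824 = n14797 := d13_2 (iv F25584) D17824 (iv D14797)
def n17825 : Q := act 2 n14794
theorem D17825 : act 2 n14794 = n17825 := rfl
theorem F32067 : act 1 n17825 = n15441 := d5_1 D17825 F27016 (iv F25651) F25652 (iv F25585)
theorem F32068 : act 5 n17825 = n14795 := d11_2 (iv F25586) D17825 (iv D14795)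
def n17826 : Q := act 2 n14797
theorem D17826 : act 2 n14797 = n17826 := rfl
theorem F32069 : act 4 n17826 = n14798 := d10_2 (iv F25592) D17826 (iv D14798)
def n17827 : Q := act 1 n14798
theorem D17827 : act 1 n14798 = n17827 := rfl
theorem F32070 : act 2 n17827 = n14833 := d5_2 D14798 D17827 F25656 F19838 (iv F19764)
theorem F32071 : act 5 n17827 = n14799 := d8_2 (iv F25593) D17827 (iv D14799)
theorem F32072 : act 0 n15450 = n17827 := d4_3 F32071 (iv F25596) D15450
def n17828 : Q := act 3 n14799
theorem D17828 : act 3 n14799 = n17828 := rfl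
theorem F32073 : act 0 n17828 = n15449 := d2_1 D17828 (iv D15449) F25596
theorem F32074 : act 1 n17828 = n14800 := d6_1 D17828 (iv D14800) D14799
def n17829 : Q := act 4 n14800
theorem D17829 : act 4 n14800 = n17829 := rfl
theorem F32075 : act 0 n17829 = n15127 := d3_1 D17829 F26313 (iv F25597)
theorem F32076 : act 2 n17829 = n15101 := d10_1 D17829 F26239 (iv F25598)
def n17830 : Q := act 1 n14801
theorem D17830 : act 1 n14801 = n17830 := rfl
theorem F32077 : act 2 n17830 = n16242 := d5_2 D14801 D17830 F28696 F28597 F22622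
theorem F32078 : act 5 n17830 = n15128 := d8_2 (iv F25599) D17830 (iv D15128)
theorem F32079 : act 0 n16253 = n17830 := d1_3 F32077 F28695 (iv F28715)
theorem F32080 : act 4 n16241 = n17830 := d10_0 F32077 (iv D16242) (iv F28693)
def n17831 : Q := act 4 n14801
theorem D17831 : act 4 n14801 = n17831 := rfl
theorem F32081 : act 1 n17831 = n16241 := d7_1 D17831 F32080 (iv D17830)
theorem F32082 : act 2 n17831 = n14802 := d10_1 D17831 (iv D14802) D14801
theorem F32083 : act 3 n16266 = n17831 := d15_3 (iv F25210) D17691 (iv F31759) F32082 F25600 F19767 (iv F20825) D15414 F26952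
theorem F32084 : act 5 n16239 = n17831 := d8_0 F32081 (iv D16241) D16239
def n17832 : Q := act 5 n14802
theorem D17832 : act 5 n14802 = n17832 := rfl
theorem F32085 : act 1 n17832 = n15122 := d8_1 D17832 (iv F28998) F28995
theorem F32086 : act 2 n17832 = n16239 := d11_1 D17832 F32084 F32082
theorem F32087 : act 3 n17832 = n14803 := d13_1 D17832 (iv D14803) (iv F25600)
theorem F32088 : act 4 n17832 = n15121 := d14_1 D17832 F26301 F20301 (iv F19766) D14802
def n17833 : Q := act 3 n14804
theorem D17833 : act 3 n14804 = n17833 := rfl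
theorem F32089 : act 1 n17833 = n14805 := d6_1 D17833 (iv D14805) D14804
def n17834 : Q := act 4 n14805
theorem D17834 : act 4 n14805 = n17834 := rfl
theorem F32090 : act 0 n17834 = n14807 := d3_1 D17834 (iv D14807) (iv F25605)
theorem F32091 : act 3 n17834 = n14829 := d12_1 D17834 (iv D14829) (iv D11768) (iv F19769) D14805
def n17835 : Q := act 1 n14806
theorem D17835 : act 1 n14806 = n17835 := rfl
def n17836 : Q := act 4 n14806
theorem D17836 : act 4 n14806 = n17836 := rfl
theorem F32092 : act 2 n17836 = n14807 := d10_1 D17836 (iv D14807) D14806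
def n17837 : Q := act 5 n14807
theorem D17837 : act 5 n14807 = n17837 := rfl
theorem F32093 : act 3 n17837 = n14840 := d13_1 D17837 (iv D14840) (iv F25606)
def n17838 : Q := act 5 n14808
theorem D17838 : act 5 n14808 = n17838 := rfl
theorem F32094 : act 1 n17838 = n14809 := d8_1 D17838 (iv D14809) (iv F25607)
theorem F32095 : act 3 n17838 = n15115 := d13_1 D17838 (iv D15115) (iv F25608)
theorem F32096 : act 4 n17838 = n15462 := d14_1 D17838 (iv D15462) (iv D12373) (iv F19775) D14808
def n17839 : Q := act 5 n14810
theorem D17839 : act 5 n14810 = n17839 := rfl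
theorem F32097 : act 0 n17839 = n14812 := d4_1 D17839 (iv D14812) (iv F25611)
theorem F32098 : act 3 n17839 = n15118 := d13_1 D17839 (iv F26267) (iv F25612)
theorem F32099 : act 4 n17839 = n16235 := d14_1 D17839 F29419 (iv D16568) F22929 D14810
def n17840 : Q := act 5 n14811
theorem D17840 : act 5 n14811 = n17840 := rfl
theorem F32100 : act 2 n17840 = n14812 := d11_1 D17840 (iv D14812) (iv F25613)
def n17841 : Q := act 3 n14813
theorem D17841 : act 3 n14813 = n17841 := rfl
theorem F32101 : act 0 n17841 = n15801 := d2_1 D17841 (iv F29041) F29039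
theorem F32102 : act 1 n17841 = n14814 := d6_1 D17841 (iv D14814) (iv F25616)
theorem F32103 : act 4 n17841 = n14946 := d12_2 D14813 D17841 (iv D14946) (iv D11873) (iv F19781)
theorem F32104 : act 5 n17841 = n15798 := d15_8 (iv F27783) F28301 (iv D16042) (iv D13001) (iv F22046) D16040 (iv F28296) D17841 F27778
theorem F32105 : act 2 n15871 = n17841 := d11_3 F32104 F27780 D15871
def n17842 : Q := act 5 n14813
theorem D17842 : act 5 n14813 = n17842 := rfl
theorem F32106 : act 0 n17842 = n15800 := d4_1 D17842 F29043 F29039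
theorem F32107 : act 1 n17842 = n14815 := d8_1 D17842 (iv D14815) (iv F25616)
theorem F32108 : act 3 n17842 = n15798 := d13_1 D17842 (iv F32104) (iv D17841)
theorem F32109 : act 4 n17842 = n15416 := d14_1 D17842 (iv D15416) (iv D12321) (iv F19782) D14813
def n17843 : Q := act 1 n14816
theorem D17843 : act 1 n14816 = n17843 := rfl
theorem F32110 : act 0 n17843 = n16913 := d0_1 D17843 F30167 F24746 F24606 (iv F25621)
theorem F32111 : act 2 n17843 = n16910 := d5_2 D14816 D17843 F30162 F24775 F24630
theorem F32112 : act 4 n17843 = n16909 := d7_2 F31137 D17843 (iv F31136)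
def n17844 : Q := act 4 n14818
theorem D17844 : act 4 n14818 = n17844 := rfl
theorem F32113 : act 1 n17844 = n17578 := d7_1 D17844 F31505 F31154
theorem F32114 : act 3 n17844 = n17577 := d12_1 D17844 (iv D17577) F25008 F24589 D14818
def n17845 : Q := act 3 n14819
theorem D17845 : act 3 n14819 = n17845 := rfl
theorem F32115 : act 0 n17845 = n14820 := d2_1 D17845 (iv D14820) D14819
def n17846 : Q := act 2 n14820
theorem D17846 : act 2 n14820 = n17846 := rfl
def n17847 : Q := act 4 n14820
theorem D17847 : act 4 n14820 = n17847 := rfl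
theorem F32116 : act 1 n17847 = n14821 := d7_1 D17847 (iv D14821) (iv F25626)
theorem F32117 : act 3 n17847 = n15870 := d12_1 D17847 (iv D15870) (iv D12814) (iv F19797) D14820
def n17848 : Q := act 5 n14821
theorem D17848 : act 5 n14821 = n17848 := rfl
theorem F32118 : act 3 n17848 = n15871 := d13_1 D17848 (iv D15871) (iv F25627)
def n17849 : Q := act 3 n14823
theorem D17849 : act 3 n14823 = n17849 := rfl
theorem F32119 : act 1 n17849 = n14857 := d6_1 D17849 F25697 (iv F25633)
theorem F32120 : act 4 n17849 = n15440 := d12_2 (iv F25634) D17849 (iv D15440) (iv D12350) (iv F20836)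
theorem F32121 : act 5 n14858 = n17849 := d8_0 F32119 F25699 D14858
def n17850 : Q := act 5 n14823
theorem D17850 : act 5 n14823 = n17850 := rfl
theorem F32122 : act 1 n17850 = n14859 := d8_1 D17850 F25703 (iv F25633)
theorem F32123 : act 2 n17850 = n14824 := d11_1 D17850 (iv D14824) D14823
theorem F32124 : act 3 n17850 = n14858 := d13_1 D17850 F32121 (iv D17849)
theorem F32125 : act 4 n17850 = n15439 := d14_1 D17850 (iv D15439) (iv D12349) (iv F20837) (iv F25634)
def n17851 : Q := act 4 n14824
theorem D17851 : act 4 n14824 = n17851 := rfl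
theorem F32126 : act 1 n17851 = n14826 := d7_1 D17851 (iv D14826) (iv F25635)
theorem F32127 : act 2 n17851 = n15439 := d10_1 D17851 (iv F32125) F32123
theorem F32128 : act 5 n17851 = n15438 := d14_2 D14824 D17851 (iv D15438) (iv F25631) F25630
def n17852 : Q := act 4 n14825
theorem D17852 : act 4 n14825 = n17852 := rfl
theorem F32129 : act 0 n17852 = n14832 := d3_1 D17852 (iv D14832) (iv F25637)
theorem F32130 : act 1 n17852 = n15438 := d7_1 D17852 (iv D15438) (iv F25638)
theorem F32131 : act 2 n17852 = n15418 := d10_1 D17852 (iv D15418) (iv F25639)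
theorem F32132 : act 5 n17852 = n14826 := d14_2 D14825 D17852 (iv D14826) (iv D11766) (iv F19806)
def n17853 : Q := act 3 n14827
theorem D17853 : act 3 n14827 = n17853 := rfl
theorem F32133 : act 0 n17853 = n14828 := d2_1 D17853 (iv D14828) D14827
theorem F32134 : act 1 n17853 = n14835 := d6_1 D17853 (iv D14835) (iv F25642)
def n17854 : Q := act 2 n14828
theorem D17854 : act 2 n14828 = n17854 := rfl
def n17855 : Q := act 4 n14828
theorem D17855 : act 4 n14828 = n17855 := rfl
theorem F32135 : act 1 n17855 = n14829 := d7_1 D17855 (iv D14829) (iv F25643)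
def n17856 : Q := act 5 n14829
theorem D17856 : act 5 n14829 = n17856 := rfl
theorem F32136 : act 0 n17856 = n14840 := d4_1 D17856 (iv D14840) (iv F25644)
def n17857 : Q := act 4 n14831
theorem D17857 : act 4 n14831 = n17857 := rfl
theorem F32137 : act 0 n17857 = n15418 := d3_1 D17857 (iv D15418) (iv F25650)
theorem F32138 : act 1 n17857 = n15442 := d7_1 D17857 (iv D15442) (iv F25651)
theorem F32139 : act 2 n17857 = n14832 := d10_1 D17857 (iv D14832) (iv F25652)
theorem F32140 : act 5 n17857 = n14834 := d14_2 D14831 D17857 (iv D14834) (iv D11776) (iv F19827)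
def n17858 : Q := act 4 n14833
theorem D17858 : act 4 n14833 = n17858 := rfl
theorem F32141 : act 0 n17858 = n15452 := d3_1 D17858 (iv D15452) (iv F25655)
theorem F32142 : act 1 n17858 = n14834 := d7_1 D17858 (iv D14834) (iv F25656)
theorem F32143 : act 5 n17858 = n15442 := d14_2 D14833 D17858 (iv D15442) (iv D12354) (iv F19832)
def n17859 : Q := act 2 n14835
theorem D17859 : act 2 n14835 = n17859 := rfl
theorem F32144 : act 0 n17859 = n14836 := d1_1 D17859 (iv D14836) (iv F25659)
def n17860 : Q := act 4 n14835
theorem D17860 : act 4 n14835 = n17860 := rfl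
theorem F32145 : act 0 n17860 = n14837 := d3_1 D17860 (iv D14837) (iv F25659)
def n17861 : Q := act 1 n14836
theorem D17861 : act 1 n14836 = n17861 := rfl
theorem F32146 : act 2 n17861 = n14838 := d5_2 D14836 D17861 (iv D14838) (iv D11780) (iv F19840)
def n17862 : Q := act 3 n14836
theorem D17862 : act 3 n14836 = n17862 := rfl
def n17863 : Q := act 4 n14836
theorem D17863 : act 4 n14836 = n17863 := rfl
theorem F32147 : act 2 n17863 = n14837 := d10_1 D17863 (iv D14837) D14836
def n17864 : Q := act 5 n14837
theorem D17864 : act 5 n14837 = n17864 := rfl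
theorem F32148 : act 1 n17864 = n14840 := d8_1 D17864 (iv D14840) (iv F25660)
def n17865 : Q := act 0 n14838
theorem D17865 : act 0 n14838 = n17865 := rfl
def n17866 : Q := act 4 n14838
theorem D17866 : act 4 n14838 = n17866 := rfl
theorem F32149 : act 1 n17866 = n14839 := d7_1 D17866 (iv D14839) D14838
def n17867 : Q := act 3 n14839
theorem D17867 : act 3 n14839 = n17867 := rfl
def n17868 : Q := act 5 n14839
theorem D17868 : act 5 n14839 = n17868 := rfl
theorem F32150 : act 2 n17868 = n14840 := d11_1 D17868 (iv D14840) (iv F25661)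
def n17869 : Q := act 2 n14841
theorem D17869 : act 2 n14841 = n17869 := rfl
theorem F32151 : act 0 n17869 = n14845 := d1_1 D17869 (iv D14845) (iv F25662)
theorem F32152 : act 4 n17869 = n14843 := d10_2 (iv F25664) D17869 (iv D14843)
def n17870 : Q := act 5 n14841
theorem D17870 : act 5 n14841 = n17870 := rfl
theorem F32153 : act 0 n17870 = n14846 := d4_1 D17870 (iv D14846) (iv F25662)
theorem F32154 : act 1 n17870 = n14861 := d8_1 D17870 (iv D14861) (iv F25663)
theorem F32155 : act 3 n17870 = n14842 := d13_1 D17870 (iv D14842) D14841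
def n17871 : Q := act 1 n14843
theorem D17871 : act 1 n14843 = n17871 := rfl
theorem F32156 : act 2 n17871 = n14862 := d5_2 D14843 D17871 (iv D14862) (iv D11799) (iv F19845)
def n17872 : Q := act 3 n14843
theorem D17872 : act 3 n14843 = n17872 := rfl
theorem F32157 : act 0 n17872 = n14848 := d2_1 D17872 (iv D14848) (iv F25669)
theorem F32158 : act 2 n17872 = n16663 := d9_1 D17872 F29622 F23772 F21461 F19722 (iv F19854) (iv F25679) F25829 (iv F29614) F29615 (iv F24569) F24570 F19712 D11783 D14843
theorem F32159 : act 5 n17872 = n16662 := d15_8 (iv F29614) F29615 (iv F24569) F24570 F19712 D11783 D14843 D17872 F29619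
theorem F32160 : act 4 n17565 = n17872 := d14_5 F32159 (iv D16662) F23156 D14527 D17565
def n17873 : Q := act 5 n14843
theorem D17873 : act 5 n14843 = n17873 := rfl
theorem F32161 : act 0 n17873 = n14849 := d4_1 D17873 (iv D14849) (iv F25669)
theorem F32162 : act 2 n17873 = n14844 := d11_1 D17873 (iv D14844) D14843
theorem F32163 : act 3 n17873 = n16662 := d13_1 D17873 (iv F32159) (iv D17872)
theorem F32164 : act 4 n17553 = n17873 := d12_0 F32163 (iv D16662) F23157 D14515 D17553
def n17874 : Q := act 4 n14844
theorem D17874 : act 4 n14844 = n17874 := rfl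
theorem F32165 : act 0 n17874 = n14850 := d3_1 D17874 (iv D14850) (iv F25670)
theorem F32166 : act 1 n17874 = n14865 := d7_1 D17874 (iv D14865) (iv F25671)
theorem F32167 : act 2 n17874 = n17553 := d10_1 D17874 F32164 F32162
def n17875 : Q := act 1 n14845
theorem D17875 : act 1 n14845 = n17875 := rfl
theorem F32168 : act 2 n17875 = n14853 := d5_2 D14845 D17875 (iv D14853) (iv D11791) (iv F19848)
theorem F32169 : act 4 n17875 = n14847 := d7_2 (iv F25673) D17875 (iv D14847)
def n17876 : Q := act 3 n14845
theorem D17876 : act 3 n14845 = n17876 := rfl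
def n17877 : Q := act 5 n14845
theorem D17877 : act 5 n14845 = n17877 := rfl
theorem F32170 : act 2 n17877 = n14846 := d11_1 D17877 (iv D14846) D14845
theorem F32171 : act 4 n17877 = n17557 := d14_1 D17877 (iv D17557) F25830 (iv D14849) (iv F25673)
def n17878 : Q := act 4 n14846
theorem D17878 : act 4 n14846 = n17878 := rfl
theorem F32172 : act 1 n17878 = n14854 := d7_1 D17878 (iv D14854) (iv F25674)
theorem F32173 : act 2 n17878 = n17557 := d10_1 D17878 (iv F32171) F32170
theorem F32174 : act 3 n17878 = n15000 := d12_1 D17878 (iv D15000) F20091 (iv F19852) (iv F25675)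
theorem F32175 : act 5 n17878 = n14850 := d14_2 D14846 D17878 (iv D14850) (iv D11788) (iv F19849)
def n17879 : Q := act 0 n14847
theorem D17879 : act 0 n14847 = n17879 := rfl
theorem F32176 : act 2 n17879 = n14855 := d1_2 (iv F25676) D17879 (iv D14855)
theorem F32177 : act 5 n17879 = n14923 := d4_2 F25677 D17879 F25819
def n17880 : Q := act 3 n14847
theorem D17880 : act 3 n14847 = n17880 := rfl
theorem F32178 : act 1 n17880 = n14848 := d6_1 D17880 (iv D14848) D14847
theorem F32179 : act 5 n17880 = n14926 := d13_2 F25677 D17880 (iv D14926)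
def n17881 : Q := act 2 n14848
theorem D17881 : act 2 n14848 = n17881 := rfl
theorem F32180 : act 0 n17881 = n16663 := d1_1 D17881 (iv F32158) F32157
theorem F32181 : act 3 n17881 = n16937 := d9_2 D14848 D17881 F30212 F27710 F25540 (iv F25672) (iv F32162) F32163 F29620 F23159 F19715 (iv D11714) F15161 D9167 D11787
theorem F32182 : act 5 n17881 = n16660 := d11_2 F25831 D17881 F29614
theorem F32183 : act 4 n17563 = n17881 := d14_5 F32182 (iv D16660) F23153 D14526 D17563
def n17882 : Q := act 4 n14848
theorem D17882 : act 4 n14848 = n17882 := rfl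
theorem F32184 : act 0 n17882 = n17565 := d3_1 D17882 F32160 F32157
theorem F32185 : act 2 n17882 = n17563 := d10_1 D17882 F32183 (iv D17881)
theorem F32186 : act 5 n17882 = n17531 := d14_2 F25831 D17882 (iv D17531) F24908 D14519
def n17883 : Q := act 3 n14850
theorem D17883 : act 3 n14850 = n17883 := rfl
theorem F32187 : act 1 n17883 = n14856 := d6_1 D17883 (iv D14856) (iv F25680)
theorem F32188 : act 4 n17883 = n14851 := d12_2 D14850 D17883 (iv D14851) (iv D11789) (iv F19854)
theorem F32189 : act 5 n17883 = n15000 := d13_2 F32175 D17883 (iv F32174)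
theorem F32190 : act 2 n17883 = n17293 := d15_4 (iv F19285) D14520 (iv F25832) D17883 F30911 (iv F30764) F30765 (iv D14516) F19283
def n17884 : Q := act 2 n14851
theorem D17884 : act 2 n14851 = n17884 := rfl
theorem F32191 : act 4 n17884 = n17293 := d10_2 F32188 D17884 (iv F32190)
theorem F32192 : act 5 n17884 = n14852 := d11_2 (iv F25682) D17884 (iv D14852)
def n17885 : Q := act 1 n14852
theorem D17885 : act 1 n14852 = n17885 := rfl
theorem F32193 : act 2 n17885 = n14858 := d5_2 D14852 D17885 (iv D14858) (iv D11796) (iv F19857)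
theorem F32194 : act 4 n17885 = n14999 := d7_2 (iv F25683) D17885 (iv D14999)
theorem F32195 : act 3 n14852 = n17885 := d12_5 F32194 F25987 F24371 (iv F20087) (iv F25683)
def n17886 : Q := act 0 n14853
theorem D17886 : act 0 n14853 = n17886 := rfl
theorem F32196 : act 1 n17886 = n14881 := d0_2 D14853 D17886 (iv D14881) (iv D11811) (iv F19859)
theorem F32197 : act 4 n17886 = n14855 := d3_2 (iv F25684) D17886 (iv D14855)
def n17887 : Q := act 0 n14858
theorem D17887 : act 0 n14858 = n17887 := rfl
theorem F32198 : act 1 n17887 = n14894 := d0_2 D14858 D17887 (iv D14894) (iv D11824) (iv F19869)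
theorem F32199 : act 4 n17887 = n15001 := d3_2 (iv F25700) D17887 (iv D15001)
def n17888 : Q := act 1 n14860
theorem D17888 : act 1 n14860 = n17888 := rfl
theorem F32200 : act 4 n17888 = n14862 := d7_2 (iv F25706) D17888 (iv D14862)
def n17889 : Q := act 3 n14860
theorem D17889 : act 3 n14860 = n17889 := rfl
theorem F32201 : act 0 n17889 = n14871 := d2_1 D17889 (iv D14871) (iv F25705)
def n17890 : Q := act 5 n14860
theorem D17890 : act 5 n14860 = n17890 := rfl
theorem F32202 : act 0 n17890 = n14872 := d4_1 D17890 (iv D14872) (iv F25705)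
theorem F32203 : act 2 n17890 = n14861 := d11_1 D17890 (iv D14861) D14860
def n17891 : Q := act 4 n14861
theorem D17891 : act 4 n14861 = n17891 := rfl
theorem F32204 : act 0 n17891 = n14873 := d3_1 D17891 (iv D14873) (iv F25707)
theorem F32205 : act 5 n17891 = n14865 := d14_2 D14861 D17891 (iv D14865) (iv D11800) (iv F19872)
def n17892 : Q := act 0 n14862
theorem D17892 : act 0 n14862 = n17892 := rfl
theorem F32206 : act 1 n17892 = n14874 := d0_2 D14862 D17892 (iv D14874) (iv D11806) (iv F19874)
def n17893 : Q := act 3 n14862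
theorem D17893 : act 3 n14862 = n17893 := rfl
theorem F32207 : act 1 n17893 = n14863 := d6_1 D17893 (iv D14863) D14862
theorem F32208 : act 2 n15136 = n17893 := d5_0 F32207 F25710 F19923 D12057 D15136
theorem F32209 : act 5 n14903 = n17893 := d8_0 F32207 (iv F25711) D14903
def n17894 : Q := act 5 n14862
theorem D17894 : act 5 n14862 = n17894 := rfl
theorem F32210 : act 1 n17894 = n14864 := d8_1 D17894 (iv D14864) D14862
theorem F32211 : act 3 n17894 = n14903 := d13_1 D17894 F32209 (iv D17893)
def n17895 : Q := act 4 n14863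
theorem D17895 : act 4 n14863 = n17895 := rfl
theorem F32212 : act 0 n17895 = n14878 := d3_1 D17895 (iv D14878) (iv F25709)
theorem F32213 : act 2 n17895 = n14906 := d10_1 D17895 (iv D14906) (iv F25710)
def n17896 : Q := act 4 n14864
theorem D17896 : act 4 n14864 = n17896 := rfl
theorem F32214 : act 0 n17896 = n14880 := d3_1 D17896 (iv D14880) (iv F25712)
theorem F32215 : act 2 n17896 = n14865 := d10_1 D17896 (iv D14865) (iv F25713)
def n17897 : Q := act 2 n14866
theorem D17897 : act 2 n14866 = n17897 := rfl
theorem F32216 : act 0 n17897 = n15020 := d1_1 D17897 (iv D15020) (iv F25716)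
def n17898 : Q := act 5 n14866
theorem D17898 : act 5 n14866 = n17898 := rfl
theorem F32217 : act 0 n17898 = n15021 := d4_1 D17898 (iv D15021) (iv F25716)
theorem F32218 : act 1 n17898 = n14869 := d8_1 D17898 (iv D14869) (iv F25717)
theorem F32219 : act 3 n17898 = n14867 := d13_1 D17898 (iv D14867) D14866
def n17899 : Q := act 1 n14868
theorem D17899 : act 1 n14868 = n17899 := rfl
def n17900 : Q := act 3 n14868
theorem D17900 : act 3 n14868 = n17900 := rfl
def n17901 : Q := act 5 n14868
theorem D17901 : act 5 n14868 = n17901 := rfl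
theorem F32220 : act 2 n17901 = n14869 := d11_1 D17901 (iv D14869) D14868
def n17902 : Q := act 4 n14869
theorem D17902 : act 4 n14869 = n17902 := rfl
def n17903 : Q := act 0 n14870
theorem D17903 : act 0 n14870 = n17903 := rfl
theorem F32221 : act 2 n17903 = n14881 := d1_2 (iv F25723) D17903 (iv D14881)
theorem F32222 : act 4 n17903 = n14874 := d3_2 (iv F25724) D17903 (iv D14874)
def n17904 : Q := act 3 n14870
theorem D17904 : act 3 n14870 = n17904 := rfl
theorem F32223 : act 1 n17904 = n14871 := d6_1 D17904 (iv D14871) D14870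
def n17905 : Q := act 5 n14870
theorem D17905 : act 5 n14870 = n17905 := rfl
theorem F32224 : act 1 n17905 = n14872 := d8_1 D17905 (iv D14872) D14870
theorem F32225 : act 2 n17905 = n14883 := d11_1 D17905 (iv D14883) (iv F25723)
def n17906 : Q := act 2 n14871
theorem D17906 : act 2 n14871 = n17906 := rfl
def n17907 : Q := act 4 n14871
theorem D17907 : act 4 n14871 = n17907 := rfl
theorem F32226 : act 3 n17907 = n14878 := d12_1 D17907 (iv D14878) (iv D11807) (iv F19881) D14871
def n17908 : Q := act 5 n14871
theorem D17908 : act 5 n14871 = n17908 := rfl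
theorem F32227 : act 3 n17908 = n14872 := d13_1 D17908 (iv D14872) D14871
def n17909 : Q := act 4 n14872
theorem D17909 : act 4 n14872 = n17909 := rfl
theorem F32228 : act 2 n17909 = n14873 := d10_1 D17909 (iv D14873) (iv F25725)
theorem F32229 : act 5 n17909 = n14880 := d14_2 D14872 D17909 (iv D14880) (iv D11808) (iv F19881)
def n17910 : Q := act 3 n14874
theorem D17910 : act 3 n14874 = n17910 := rfl
theorem F32230 : act 0 n17910 = n14875 := d2_1 D17910 (iv D14875) D14874
def n17911 : Q := act 5 n14874
theorem D17911 : act 5 n14874 = n17911 := rfl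
theorem F32231 : act 0 n17911 = n14876 := d4_1 D17911 (iv D14876) D14874
theorem F32232 : act 2 n17911 = n14889 := d11_1 D17911 (iv D14889) (iv F25728)
def n17912 : Q := act 2 n14875
theorem D17912 : act 2 n14875 = n17912 := rfl
def n17913 : Q := act 4 n14875
theorem D17913 : act 4 n14875 = n17913 := rfl
theorem F32233 : act 1 n17913 = n14878 := d7_1 D17913 (iv D14878) (iv F25729)
def n17914 : Q := act 5 n14875
theorem D17914 : act 5 n14875 = n17914 := rfl
theorem F32234 : act 1 n17914 = n14879 := d8_1 D17914 (iv D14879) (iv F25729)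
theorem F32235 : act 3 n17914 = n14876 := d13_1 D17914 (iv D14876) D14875
def n17915 : Q := act 4 n14876
theorem D17915 : act 4 n14876 = n17915 := rfl
theorem F32236 : act 1 n17915 = n14880 := d7_1 D17915 (iv D14880) (iv F25730)
theorem F32237 : act 2 n17915 = n14891 := d10_1 D17915 (iv D14891) (iv F25731)
def n17916 : Q := act 1 n14877
theorem D17916 : act 1 n14877 = n17916 := rfl
theorem F32238 : act 0 n17916 = n15134 := d0_1 D17916 F26324 F20310 (iv F19923) (iv F25732)
theorem F32239 : act 3 n17916 = n14900 := d6_2 (iv F25733) D17916 F25785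
theorem F32240 : act 5 n17916 = n14899 := d8_2 F25734 D17916 F25783
def n17917 : Q := act 4 n14877
theorem D17917 : act 4 n14877 = n17917 := rfl
theorem F32241 : act 0 n17917 = n14906 := d3_1 D17917 (iv D14906) (iv F25732)
theorem F32242 : act 2 n17917 = n14878 := d10_1 D17917 (iv D14878) D14877
def n17918 : Q := act 5 n14878
theorem D17918 : act 5 n14878 = n17918 := rfl
def n17919 : Q := act 4 n14879
theorem D17919 : act 4 n14879 = n17919 := rfl
theorem F32243 : act 0 n17919 = n14904 := d3_1 D17919 (iv D14904) (iv F25735)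
theorem F32244 : act 2 n17919 = n14901 := d10_1 D17919 (iv D14901) (iv F25736)
def n17920 : Q := act 3 n14880
theorem D17920 : act 3 n14880 = n17920 := rfl
def n17921 : Q := act 3 n14881
theorem D17921 : act 3 n14881 = n17921 := rfl
theorem F32245 : act 0 n17921 = n14882 := d2_1 D17921 (iv D14882) D14881
def n17922 : Q := act 5 n14881
theorem D17922 : act 5 n14881 = n17922 := rfl
theorem F32246 : act 0 n17922 = n14883 := d4_1 D17922 (iv D14883) D14881
def n17923 : Q := act 2 n14882
theorem D17923 : act 2 n14882 = n17923 := rfl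
def n17924 : Q := act 1 n14885
theorem D17924 : act 1 n14885 = n17924 := rfl
theorem F32247 : act 3 n17924 = n15010 := d6_2 (iv F25747) D17924 (iv D15010)
theorem F32248 : act 4 n17924 = n15386 := d7_2 (iv F25748) D17924 F26889
theorem F32249 : act 5 n17924 = n14886 := d8_2 (iv F25749) D17924 (iv D14886)
def n17925 : Q := act 0 n14886
theorem D17925 : act 0 n14886 = n17925 := rfl
theorem F32250 : act 1 n17925 = n15001 := d0_2 D14886 D17925 (iv D15001) (iv D11927) (iv F19895)
theorem F32251 : act 4 n17925 = n14894 := d3_2 (iv F25750) D17925 (iv D14894)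
def n17926 : Q := act 3 n14886
theorem D17926 : act 3 n14886 = n17926 := rfl
theorem F32252 : act 1 n17926 = n14887 := d6_1 D17926 (iv D14887) D14886
theorem F32253 : act 5 n17926 = n15010 := d13_2 F32249 D17926 (iv F32247)
theorem F32254 : act 4 n15389 = n17926 := d14_5 F32253 F26013 F20716 D12288 D15389
def n17927 : Q := act 4 n14888
theorem D17927 : act 4 n14888 = n17927 := rfl
theorem F32255 : act 0 n17927 = n14890 := d3_1 D17927 (iv D14890) (iv F25755)
theorem F32256 : act 1 n17927 = n14925 := d7_1 D17927 (iv D14925) (iv F25756)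
theorem F32257 : act 5 n17927 = n15167 := d14_2 F25757 D17927 (iv D15167) (iv D12080) (iv F19926)
def n17928 : Q := act 4 n14889
theorem D17928 : act 4 n14889 = n17928 := rfl
theorem F32258 : act 0 n17928 = n14891 := d3_1 D17928 (iv D14891) (iv F25758)
theorem F32259 : act 1 n17928 = n14924 := d7_1 D17928 (iv D14924) (iv F25759)
theorem F32260 : act 3 n17928 = n15166 := d12_1 D17928 (iv D15166) (iv D12079) (iv F19926) (iv F25760)
def n17929 : Q := act 1 n14892
theorem D17929 : act 1 n14892 = n17929 := rfl
theorem F32261 : act 2 n17929 = n16497 := d5_2 D14892 D17929 F29287 F28572 F22276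
theorem F32262 : act 3 n17929 = n15374 := d6_2 (iv F25768) D17929 (iv D15374)
theorem F32263 : act 4 n17929 = n14893 := d7_2 (iv F25766) D17929 (iv D14893)
theorem F32264 : act 5 n17929 = n15386 := d8_2 (iv F25767) D17929 F26889
def n17930 : Q := act 0 n14893
theorem D17930 : act 0 n14893 = n17930 := rfl
theorem F32265 : act 3 n17930 = n15455 := d2_2 (iv F25769) D17930 F27032
theorem F32266 : act 5 n17930 = n14894 := d4_2 (iv F25770) D17930 (iv D14894)
def n17931 : Q := act 3 n14894
theorem D17931 : act 3 n14894 = n17931 := rfl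
theorem F32267 : act 0 n17931 = n14895 := d2_1 D17931 (iv D14895) D14894
theorem F32268 : act 5 n17931 = n15455 := d13_2 F32266 D17931 (iv F32265)
def n17932 : Q := act 2 n14895
theorem D17932 : act 2 n14895 = n17932 := rfl
theorem F32269 : act 1 n17932 = n15450 := d5_1 D17932 F27025 F20884 (iv F19911) (iv F25771)
theorem F32270 : act 5 n17932 = n15446 := d11_2 (iv F25772) D17932 F27023
theorem F32271 : act 3 n16253 = n17932 := d15_3 F28613 F28397 (iv F28715) (iv D17932) (iv D14895) (iv F22269) D16170 (iv F28565) D16186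
def n17933 : Q := act 4 n14895
theorem D17933 : act 4 n14895 = n17933 := rfl
theorem F32272 : act 1 n17933 = n14896 := d7_1 D17933 (iv D14896) (iv F25771)
theorem F32273 : act 3 n17933 = n15389 := d12_1 D17933 F32254 (iv D17926) F25750 D14895
theorem F32274 : act 5 n17933 = n15378 := d14_2 (iv F25772) D17933 (iv D15378) F20764 D12364
def n17934 : Q := act 2 n14899
theorem D17934 : act 2 n14899 = n17934 := rfl
def n17935 : Q := act 4 n14899
theorem D17935 : act 4 n14899 = n17935 := rfl
theorem F32275 : act 1 n17935 = n14901 := d7_1 D17935 (iv D14901) (iv F25783)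
def n17936 : Q := act 5 n14901
theorem D17936 : act 5 n14901 = n17936 := rfl
theorem F32276 : act 0 n17936 = n14905 := d4_1 D17936 (iv D14905) (iv F25786)
def n17937 : Q := act 5 n14902
theorem D17937 : act 5 n14902 = n17937 := rfl
theorem F32277 : act 1 n17937 = n14905 := d8_1 D17937 (iv D14905) (iv F25787)
theorem F32278 : act 4 n17937 = n15138 := d14_1 D17937 (iv D15138) (iv D12058) (iv F19922) D14902
def n17938 : Q := act 0 n14903
theorem D17938 : act 0 n14903 = n17938 := rfl
def n17939 : Q := act 4 n14903
theorem D17939 : act 4 n14903 = n17939 := rfl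
theorem F32279 : act 1 n17939 = n14904 := d7_1 D17939 (iv D14904) D14903
def n17940 : Q := act 3 n14904
theorem D17940 : act 3 n14904 = n17940 := rfl
def n17941 : Q := act 5 n14904
theorem D17941 : act 5 n14904 = n17941 := rfl
theorem F32280 : act 2 n17941 = n14905 := d11_1 D17941 (iv D14905) (iv F25788)
def n17942 : Q := act 4 n14905
theorem D17942 : act 4 n14905 = n17942 := rfl
theorem F32281 : act 1 n17942 = n15138 := d7_1 D17942 (iv F32278) F32277
theorem F32282 : act 5 n17942 = n14906 := d14_2 D14905 D17942 (iv D14906) (iv D11835) D11834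
def n17943 : Q := act 2 n14907
theorem D17943 : act 2 n14907 = n17943 := rfl
theorem F32283 : act 1 n17943 = n14934 := d5_1 D17943 (iv D14934) F19971 (iv F19931) (iv F25790)
theorem F32284 : act 5 n17943 = n14910 := d11_2 (iv F25791) D17943 (iv D14910)
def n17944 : Q := act 4 n14907
theorem D17944 : act 4 n14907 = n17944 := rfl
theorem F32285 : act 1 n17944 = n14908 := d7_1 D17944 (iv D14908) (iv F25790)
theorem F32286 : act 3 n17944 = n15452 := d12_1 D17944 (iv D15452) F20885 (iv F19928) D14907
theorem F32287 : act 5 n17944 = n15453 := d14_2 (iv F25791) D17944 F27030 F20888 (iv F19937)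
def n17945 : Q := act 2 n14909
theorem D17945 : act 2 n14909 = n17945 := rfl
theorem F32288 : act 0 n17945 = n14910 := d1_1 D17945 (iv D14910) (iv F25796)
theorem F32289 : act 4 n17945 = n15459 := d10_2 (iv F25798) D17945 (iv D15459)
def n17946 : Q := act 1 n14910
theorem D17946 : act 1 n14910 = n17946 := rfl
theorem F32290 : act 2 n17946 = n14911 := d5_2 D14910 D17946 (iv D14911) (iv D11841) (iv F19936)
theorem F32291 : act 4 n17946 = n15464 := d7_2 (iv F25799) D17946 (iv D15464)
theorem F32292 : act 5 n17946 = n14934 := d8_2 F32284 D17946 (iv F32283)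
def n17947 : Q := act 3 n14910
theorem D17947 : act 3 n14910 = n17947 := rfl
def n17948 : Q := act 0 n14911
theorem D17948 : act 0 n14911 = n17948 := rfl
theorem F32293 : act 1 n17948 = n14942 := d0_2 D14911 D17948 (iv D14942) (iv D11868) (iv F19938)
theorem F32294 : act 3 n17948 = n14932 := d2_2 (iv F25800) D17948 (iv D14932)
theorem F32295 : act 4 n17948 = n15466 := d3_2 (iv F25801) D17948 (iv D15466)
theorem F32296 : act 5 n17948 = n14933 := d4_2 (iv F25802) D17948 F25842
def n17949 : Q := act 3 n14912
theorem D17949 : act 3 n14912 = n17949 := rfl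
theorem F32297 : act 0 n17949 = n14913 := d2_1 D17949 (iv D14913) D14912
theorem F32298 : act 5 n17949 = n15380 := d13_2 (iv F25805) D17949 (iv D15380)
theorem F32299 : act 2 n17949 = n15365 := d15_2 (iv F25803) D17949 (iv D15365) (iv D12263) (iv D9561) F12238 D7377 (iv F15378) D11851
def n17950 : Q := act 2 n14913
theorem D17950 : act 2 n14913 = n17950 := rfl
theorem F32300 : act 0 n17950 = n15365 := d1_1 D17950 (iv F32299) F32297
theorem F32301 : act 5 n17950 = n15382 := d11_2 (iv F25807) D17950 (iv D15382)
theorem F32302 : act 3 n17950 = n15361 := d15_1 D17950 (iv D15361) (iv D12261) F15992 D9575 D12278 D15380 (iv F32298) F32297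
def n17951 : Q := act 4 n14913
theorem D17951 : act 4 n14913 = n17951 := rfl
theorem F32303 : act 1 n17951 = n14914 := d7_1 D17951 (iv D14914) (iv F25806)
theorem F32304 : act 3 n17951 = n14919 := d12_1 D17951 (iv D14919) (iv D11847) (iv F19943) D14913
def n17952 : Q := act 5 n14914
theorem D17952 : act 5 n14914 = n17952 := rfl
theorem F32305 : act 3 n17952 = n14921 := d13_1 D17952 (iv D14921) (iv F25808)
theorem F32306 : act 4 n17952 = n17622 := d14_1 D17952 F31603 (iv D16905) (iv F23694) D14914
def n17953 : Q := act 3 n14915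
theorem D17953 : act 3 n14915 = n17953 := rfl
theorem F32307 : act 1 n17953 = n15384 := d6_1 D17953 (iv D15384) (iv F25809)
theorem F32308 : act 4 n17953 = n17611 := d12_2 D14915 D17953 F31576 (iv D16905) F23692
theorem F32309 : act 5 n17953 = n14922 := d13_2 (iv F25811) D17953 (iv D14922)
theorem F32310 : act 2 n17953 = n17610 := d15_2 (iv F25810) D17953 (iv D17610) F25058 F22788 F17614 (iv F16577) (iv F21428) F21425
def n17954 : Q := act 2 n14916
theorem D17954 : act 2 n14916 = n17954 := rfl
theorem F32311 : act 0 n17954 = n14918 := d1_1 D17954 (iv D14918) (iv F25812)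
def n17955 : Q := act 4 n14916
theorem D17955 : act 4 n14916 = n17955 := rfl
theorem F32312 : act 0 n17955 = n14919 := d3_1 D17955 (iv D14919) (iv F25812)
def n17956 : Q := act 4 n14917
theorem D17956 : act 4 n14917 = n17956 := rfl
theorem F32313 : act 0 n17956 = n14920 := d3_1 D17956 (iv D14920) (iv F25813)
theorem F32314 : act 2 n17956 = n14925 := d10_1 D17956 (iv D14925) (iv F25814)
theorem F32315 : act 5 n17956 = n15381 := d14_2 D14917 D17956 (iv D15381) (iv F25805) F25804
def n17957 : Q := act 3 n14918
theorem D17957 : act 3 n14918 = n17957 := rfl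
def n17958 : Q := act 4 n14918
theorem D17958 : act 4 n14918 = n17958 := rfl
theorem F32316 : act 2 n17958 = n14919 := d10_1 D17958 (iv D14919) D14918
def n17959 : Q := act 5 n14919
theorem D17959 : act 5 n14919 = n17959 := rfl
theorem F32317 : act 1 n17959 = n14921 := d8_1 D17959 (iv D14921) (iv F25815)
def n17960 : Q := act 3 n14920
theorem D17960 : act 3 n14920 = n17960 := rfl
theorem F32318 : act 1 n17960 = n14922 := d6_1 D17960 (iv D14922) (iv F25816)
theorem F32319 : act 5 n17960 = n15384 := d13_2 (iv F25818) D17960 (iv D15384)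
def n17961 : Q := act 2 n14922
theorem D17961 : act 2 n14922 = n17961 := rfl
theorem F32320 : act 0 n17961 = n17649 := d1_1 D17961 F31655 F27678
theorem F32321 : act 4 n17961 = n17619 := d10_2 F27685 D17961 F31595
theorem F32322 : act 5 n17961 = n17610 := d11_2 F32309 D17961 (iv F32310)
theorem F32323 : act 3 n17961 = n17609 := d15_3 (iv F19954) D14922 D17961 F31571 F29246 F22804 (iv F21427) F21428 F16576
def n17962 : Q := act 1 n14923
theorem D17962 : act 1 n14923 = n17962 := rfl
def n17963 : Q := act 3 n14923
theorem D17963 : act 3 n14923 = n17963 := rfl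
theorem F32324 : act 0 n17963 = n14926 := d2_1 D17963 (iv D14926) (iv F25819)
theorem F32325 : act 4 n17963 = n17040 := d12_2 (iv F27065) D17963 (iv D17040) F23943 D15473
def n17964 : Q := act 5 n14924
theorem D17964 : act 5 n14924 = n17964 := rfl
theorem F32326 : act 0 n17964 = n14928 := d4_1 D17964 (iv D14928) (iv F25820)
theorem F32327 : act 3 n17964 = n15371 := d13_1 D17964 F26868 (iv F25821)
def n17965 : Q := act 3 n14925
theorem D17965 : act 3 n14925 = n17965 := rfl
theorem F32328 : act 0 n17965 = n14929 := d2_1 D17965 (iv D14929) (iv F25822)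
theorem F32329 : act 5 n17965 = n15370 := d13_2 (iv F25823) D17965 F26866
def n17966 : Q := act 2 n14926
theorem D17966 : act 2 n14926 = n17966 := rfl
theorem F32330 : act 4 n17966 = n17555 := d10_2 (iv F25827) D17966 (iv D17555)
def n17967 : Q := act 5 n14927
theorem D17967 : act 5 n14927 = n17967 := rfl
theorem F32331 : act 1 n17967 = n17557 := d8_1 D17967 (iv D17557) (iv F25826)
theorem F32332 : act 2 n17967 = n14928 := d11_1 D17967 (iv D14928) (iv F25824)
theorem F32333 : act 3 n17967 = n17556 := d13_1 D17967 (iv D17556) F25825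
def n17968 : Q := act 2 n14929
theorem D17968 : act 2 n14929 = n17968 := rfl
theorem F32334 : act 5 n17968 = n15373 := d11_2 (iv F25836) D17968 F26869
def n17969 : Q := act 0 n14930
theorem D17969 : act 0 n14930 = n17969 := rfl
theorem F32335 : act 2 n17969 = n15086 := d1_2 (iv F25837) D17969 F26208
theorem F32336 : act 4 n17969 = n14932 := d3_2 (iv F25838) D17969 (iv D14932)
def n17970 : Q := act 3 n14930
theorem D17970 : act 3 n14930 = n17970 := rfl
theorem F32337 : act 1 n17970 = n14931 := d6_1 D17970 (iv D14931) D14930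
theorem F32338 : act 4 n17970 = n15467 := d12_2 (iv F25838) D17970 (iv D15467) (iv F25801) F25800
def n17971 : Q := act 2 n14933
theorem D17971 : act 2 n14933 = n17971 := rfl
theorem F32339 : act 0 n17971 = n14934 := d1_1 D17971 (iv D14934) (iv F25842)
theorem F32340 : act 3 n17971 = n17600 := d15_1 D17971 (iv D17600) (iv D14557) F19335 F17602 (iv F19968) (iv F25800) F25802 (iv F25842)
def n17972 : Q := act 4 n14933
theorem D17972 : act 4 n14933 = n17972 := rfl
theorem F32341 : act 0 n17972 = n14935 := d3_1 D17972 (iv D14935) (iv F25842)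
def n17973 : Q := act 3 n14934
theorem D17973 : act 3 n14934 = n17973 := rfl
theorem F32342 : act 0 n17973 = n17600 := d2_1 D17973 (iv F32340) F32339
theorem F32343 : act 2 n17973 = n17599 := d15_2 D14934 D17973 (iv D17599) F25048 F22782 (iv F25840) (iv F32294) F32296 F25842
def n17974 : Q := act 4 n14934
theorem D17974 : act 4 n14934 = n17974 := rfl
theorem F32344 : act 2 n17974 = n14935 := d10_1 D17974 (iv D14935) D14934
def n17975 : Q := act 5 n14935
theorem D17975 : act 5 n14935 = n17975 := rfl
theorem F32345 : act 1 n17975 = n14936 := d8_1 D17975 (iv D14936) (iv F25843)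
theorem F32346 : act 4 n17975 = n15456 := d14_1 D17975 F27033 (iv F25801) F25802 D14935
def n17976 : Q := act 5 n14938
theorem D17976 : act 5 n14938 = n17976 := rfl
theorem F32347 : act 0 n17976 = n14941 := d4_1 D17976 (iv D14941) (iv F25849)
theorem F32348 : act 1 n17976 = n15443 := d8_1 D17976 F27019 (iv F25850)
theorem F32349 : act 3 n17976 = n14945 := d13_1 D17976 (iv D14945) (iv F25851)
def n17977 : Q := act 0 n14939
theorem D17977 : act 0 n14939 = n17977 := rfl
theorem F32350 : act 2 n17977 = n14942 := d1_2 (iv F25852) D17977 (iv D14942)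
def n17978 : Q := act 4 n14939
theorem D17978 : act 4 n14939 = n17978 := rfl
theorem F32351 : act 1 n17978 = n14940 := d7_1 D17978 (iv D14940) D14939
theorem F32352 : act 2 n17978 = n14943 := d10_1 D17978 (iv D14943) (iv F25852)
def n17979 : Q := act 3 n14940
theorem D17979 : act 3 n14940 = n17979 := rfl
def n17980 : Q := act 5 n14940
theorem D17980 : act 5 n14940 = n17980 := rfl
theorem F32353 : act 2 n17980 = n14941 := d11_1 D17980 (iv D14941) (iv F25853)
def n17981 : Q := act 4 n14942
theorem D17981 : act 4 n14942 = n17981 := rfl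
theorem F32354 : act 0 n17981 = n14943 := d3_1 D17981 (iv D14943) D14942
theorem F32355 : act 1 n17981 = n15466 := d7_1 D17981 (iv F32295) F32293
def n17982 : Q := act 3 n14944
theorem D17982 : act 3 n14944 = n17982 := rfl
theorem F32356 : act 0 n17982 = n14946 := d2_1 D17982 (iv D14946) (iv F25857)
theorem F32357 : act 1 n17982 = n15804 := d6_1 D17982 (iv F27794) (iv F25858)
theorem F32358 : act 4 n17982 = n15801 := d12_2 D14944 D17982 (iv F29041) F29040 F22661
theorem F32359 : act 5 n15070 = n17982 := d14_0 F32358 (iv D15801) (iv D12748) (iv F20222) D15070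
def n17983 : Q := act 5 n14944
theorem D17983 : act 5 n14944 = n17983 := rfl
theorem F32360 : act 0 n17983 = n14947 := d4_1 D17983 (iv D14947) (iv F25857)
theorem F32361 : act 1 n17983 = n15805 := d8_1 D17983 F27797 (iv F25858)
theorem F32362 : act 2 n17983 = n14945 := d11_1 D17983 (iv D14945) (iv F25859)
theorem F32363 : act 3 n17983 = n15070 := d13_1 D17983 F32359 (iv D17982)
theorem F32364 : act 4 n17983 = n15071 := d14_1 D17983 F26187 F20821 (iv F19980) D14944
def n17984 : Q := act 2 n14946
theorem D17984 : act 2 n14946 = n17984 := rfl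
theorem F32365 : act 4 n17984 = n15871 := d10_2 F32103 D17984 F32105
theorem F32366 : act 5 n15872 = n17984 := d14_0 F32365 (iv D15871) (iv D12815) D12816 D15872
def n17985 : Q := act 5 n14946
theorem D17985 : act 5 n14946 = n17985 := rfl
theorem F32367 : act 0 n17985 = n15070 := d4_1 D17985 F32359 F32356
theorem F32368 : act 1 n17985 = n15415 := d8_1 D17985 F26958 (iv F25863)
theorem F32369 : act 2 n17985 = n15872 := d11_1 D17985 F32366 (iv D17984)
theorem F32370 : act 3 n17985 = n14947 := d13_1 D17985 (iv D14947) D14946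
theorem F32371 : act 4 n17985 = n15068 := d14_1 D17985 F26178 D15798 (iv F32104) F32103
def n17986 : Q := act 4 n14948
theorem D17986 : act 4 n14948 = n17986 := rfl
theorem F32372 : act 0 n17986 = n14949 := d3_1 D17986 (iv D14949) D14948
def n17987 : Q := act 3 n14949
theorem D17987 : act 3 n14949 = n17987 := rfl
theorem F32373 : act 1 n17987 = n14950 := d6_1 D17987 (iv D14950) (iv F25867)
theorem F32374 : act 5 n17648 = n17987 := d8_0 F32373 (iv F25869) D17648
def n17988 : Q := act 5 n14949
theorem D17988 : act 5 n14949 = n17988 := rfl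
theorem F32375 : act 1 n17988 = n14951 := d8_1 D17988 (iv D14951) (iv F25867)
theorem F32376 : act 2 n17988 = n15893 := d11_1 D17988 (iv F28949) F28946
theorem F32377 : act 3 n17988 = n17648 := d13_1 D17988 F32374 (iv D17987)
def n17989 : Q := act 3 n14953
theorem D17989 : act 3 n14953 = n17989 := rfl
theorem F32378 : act 0 n17989 = n16191 := d2_1 D17989 F29012 F29008
theorem F32379 : act 1 n17989 = n14955 := d6_1 D17989 (iv D14955) (iv F25873)
theorem F32380 : act 2 n17989 = n16096 := d9_1 D17989 (iv D16096) F22148 F21867 (iv F22587) (iv F28874) F28873 D16375 F29015 F28620 F22302 F21869 (iv F22599) (iv F28987) F28986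
theorem F32381 : act 4 n17989 = n16098 := d12_2 D14953 D17989 F29422 (iv D16569) F22931
def n17990 : Q := act 1 n14958
theorem D17990 : act 1 n14958 = n17990 := rfl
theorem F32382 : act 0 n17990 = n16112 := d0_1 D17990 (iv D16112) (iv F25184) (iv F28181) F28180
theorem F32383 : act 4 n17990 = n16116 := d7_2 (iv F31728) D17990 (iv F31725)
def n17991 : Q := act 1 n14959
theorem D17991 : act 1 n14959 = n17991 := rfl
theorem F32384 : act 2 n17991 = n15855 := d5_2 D14959 D17991 (iv D15855) (iv D12801) (iv F20002)
theorem F32385 : act 3 n17991 = n15220 := d6_2 (iv F25880) D17991 F26519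
theorem F32386 : act 4 n17991 = n14960 := d7_2 (iv F25881) D17991 (iv D14960)
theorem F32387 : act 5 n17991 = n15212 := d8_2 (iv F25882) D17991 F26501
def n17992 : Q := act 0 n14960
theorem D17992 : act 0 n14960 = n17992 := rfl
theorem F32388 : act 2 n17992 = n15858 := d1_2 (iv F25883) D17992 (iv D15858)
theorem F32389 : act 3 n17992 = n17161 := d2_2 (iv F25884) D17992 (iv D17161)
def n17993 : Q := act 3 n14961
theorem D17993 : act 3 n14961 = n17993 := rfl
theorem F32390 : act 0 n17993 = n14962 := d2_1 D17993 (iv D14962) D14961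
theorem F32391 : act 1 n17993 = n15581 := d6_1 D17993 (iv D15581) (iv F25885)
theorem F32392 : act 5 n17993 = n17129 := d13_2 (iv F25888) D17993 (iv D17129)
def n17994 : Q := act 2 n14962
theorem D17994 : act 2 n14962 = n17994 := rfl
theorem F32393 : act 5 n17994 = n17134 := d11_2 (iv F25890) D17994 (iv D17134)
def n17995 : Q := act 4 n14962
theorem D17995 : act 4 n14962 = n17995 := rfl
theorem F32394 : act 1 n17995 = n14963 := d7_1 D17995 (iv D14963) (iv F25889)
theorem F32395 : act 3 n17995 = n14966 := d12_1 D17995 (iv D14966) (iv D11892) (iv F20006) D14962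
theorem F32396 : act 5 n17995 = n17188 := d14_2 (iv F25890) D17995 (iv D17188) (iv D14113) (iv F24071)
def n17996 : Q := act 2 n14964
theorem D17996 : act 2 n14964 = n17996 := rfl
theorem F32397 : act 0 n17996 = n14965 := d1_1 D17996 (iv D14965) (iv F25894)
theorem F32398 : act 1 n17996 = n15242 := d5_1 D17996 (iv D15242) (iv F26551) F26552 (iv F25895)
theorem F32399 : act 3 n17996 = n14965 := d9_2 D14964 D17996 (iv D14965) (iv D11892) F15419 F11793 (iv F12152) D9503 D12187 (iv F26677) (iv D15281) (iv D12186) F15878 (iv F15442) (iv F20011)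
theorem F32400 : act 5 n17996 = n15281 := d11_2 (iv F25896) D17996 (iv D15281)
def n17997 : Q := act 4 n14964
theorem D17997 : act 4 n14964 = n17997 := rfl
theorem F32401 : act 0 n17997 = n14966 := d3_1 D17997 (iv D14966) (iv F25894)
theorem F32402 : act 1 n17997 = n15285 := d7_1 D17997 (iv D15285) (iv F25895)
def n17998 : Q := act 4 n14965
theorem D17998 : act 4 n14965 = n17998 := rfl
theorem F32403 : act 1 n17998 = n15273 := d7_1 D17998 F26663 (iv F25897)
theorem F32404 : act 2 n17998 = n14966 := d10_1 D17998 (iv D14966) D14965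
def n17999 : Q := act 5 n14966
theorem D17999 : act 5 n14966 = n17999 := rfl
theorem F32405 : act 1 n17999 = n14967 := d8_1 D17999 (iv D14967) (iv F25899)
theorem F32406 : act 3 n17999 = n17188 := d13_1 D17999 (iv F32396) F32395
theorem F32407 : act 4 n17999 = n15284 := d14_1 D17999 (iv D15284) (iv D12188) (iv F20014) D14966
def n18000 : Q := act 4 n14969
theorem D18000 : act 4 n14969 = n18000 := rfl
theorem F32408 : act 0 n18000 = n14975 := d3_1 D18000 (iv D14975) (iv F25906)
theorem F32409 : act 2 n18000 = n14970 := d10_1 D18000 (iv D14970) (iv F25907)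
theorem F32410 : act 5 n18000 = n15823 := d14_2 D14969 D18000 F27835 F21574 (iv F20018)
def n18001 : Q := act 4 n14972
theorem D18001 : act 4 n14972 = n18001 := rfl
theorem F32411 : act 1 n18001 = n14973 := d7_1 D18001 (iv D14973) (iv F25915)
theorem F32412 : act 3 n18001 = n15864 := d12_1 D18001 (iv D15864) (iv D12807) (iv F20023) D14972
def n18002 : Q := act 5 n14973
theorem D18002 : act 5 n14973 = n18002 := rfl
theorem F32413 : act 3 n18002 = n15867 := d13_1 D18002 (iv D15867) (iv F25917)
def n18003 : Q := act 4 n14974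
theorem D18003 : act 4 n14974 = n18003 := rfl
theorem F32414 : act 1 n18003 = n15876 := d7_1 D18003 (iv D15876) (iv F25918)
def n18004 : Q := act 3 n14975
theorem D18004 : act 3 n14975 = n18004 := rfl
theorem F32415 : act 1 n18004 = n15877 := d6_1 D18004 (iv D15877) (iv F25920)
theorem F32416 : act 5 n18004 = n15839 := d13_2 (iv F25922) D18004 (iv D15839)
def n18005 : Q := act 2 n14976
theorem D18005 : act 2 n14976 = n18005 := rfl
def n18006 : Q := act 5 n14976
theorem D18006 : act 5 n14976 = n18006 := rfl
theorem F32417 : act 1 n18006 = n15854 := d8_1 D18006 (iv D15854) (iv F25923)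
theorem F32418 : act 3 n18006 = n14977 := d13_1 D18006 (iv D14977) D14976
def n18007 : Q := act 3 n14978
theorem D18007 : act 3 n14978 = n18007 := rfl
theorem F32419 : act 0 n18007 = n15248 := d2_1 D18007 F26605 (iv F25926)
theorem F32420 : act 1 n18007 = n15281 := d6_1 D18007 F26677 (iv F25927)
theorem F32421 : act 2 n18007 = n15244 := d9_1 D18007 F26594 F20523 F15860 (iv F15867) (iv F20530) (iv F26598) (iv F26601) (iv D12150) (iv D9473) F12116 D7309 (iv F15450) D11904 D14978
theorem F32422 : act 5 n18007 = n15242 := d13_2 (iv F25928) D18007 F26590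
def n18008 : Q := act 4 n14978
theorem D18008 : act 4 n14978 = n18008 := rfl
theorem F32423 : act 0 n18008 = n15274 := d3_1 D18008 (iv D15274) (iv F25926)
theorem F32424 : act 1 n18008 = n15283 := d7_1 D18008 (iv D15283) (iv F25927)
theorem F32425 : act 2 n18008 = n14979 := d10_1 D18008 (iv D14979) D14978
def n18009 : Q := act 5 n14979
theorem D18009 : act 5 n14979 = n18009 := rfl
theorem F32426 : act 0 n18009 = n15275 := d4_1 D18009 (iv D15275) (iv F25929)
theorem F32427 : act 1 n18009 = n14980 := d8_1 D18009 (iv D14980) (iv F25930)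
theorem F32428 : act 3 n18009 = n15270 := d13_1 D18009 F26657 (iv F25931)
theorem F32429 : act 4 n18009 = n15271 := d14_1 D18009 F26659 F20575 (iv F20042) D14979
def n18010 : Q := act 2 n14981
theorem D18010 : act 2 n14981 = n18010 := rfl
theorem F32430 : act 0 n18010 = n14983 := d1_1 D18010 (iv D14983) (iv F25936)
theorem F32431 : act 4 n18010 = n15846 := d10_2 (iv F25938) D18010 (iv D15846)
def n18011 : Q := act 5 n14981
theorem D18011 : act 5 n14981 = n18011 := rfl
theorem F32432 : act 0 n18011 = n14984 := d4_1 D18011 (iv D14984) (iv F25936)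
theorem F32433 : act 1 n18011 = n15848 := d8_1 D18011 (iv D15848) (iv F25937)
theorem F32434 : act 3 n18011 = n14982 := d13_1 D18011 (iv D14982) D14981
def n18012 : Q := act 1 n14983
theorem D18012 : act 1 n14983 = n18012 := rfl
theorem F32435 : act 2 n18012 = n14985 := d5_2 D14983 D18012 (iv D14985) (iv D11909) (iv F20048)
theorem F32436 : act 5 n15943 = n18012 := d11_0 F32435 F25944 D15943
def n18013 : Q := act 3 n14983
theorem D18013 : act 3 n14983 = n18013 := rfl
def n18014 : Q := act 5 n14983
theorem D18014 : act 5 n14983 = n18014 := rfl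
theorem F32437 : act 1 n18014 = n15943 := d8_1 D18014 F32436 (iv D18012)
theorem F32438 : act 2 n18014 = n14984 := d11_1 D18014 (iv D14984) D14983
def n18015 : Q := act 0 n14985
theorem D18015 : act 0 n14985 = n18015 := rfl
theorem F32439 : act 3 n18015 = n15941 := d2_2 (iv F25943) D18015 (iv D15941)
theorem F32440 : act 5 n18015 = n15942 := d4_2 (iv F25944) D18015 F28022
def n18016 : Q := act 1 n14988
theorem D18016 : act 1 n14988 = n18016 := rfl
def n18017 : Q := act 3 n14988
theorem D18017 : act 3 n14988 = n18017 := rfl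
theorem F32441 : act 0 n18017 = n15930 := d2_1 D18017 (iv D15930) (iv F25954)
theorem F32442 : act 2 n18017 = n15938 := d15_2 D14988 D18017 F28016 F21856 F16837 (iv F16834) (iv F21854) (iv D12908) (iv F20061)
theorem F32443 : act 5 n15936 = n18017 := d11_0 F32442 (iv D15938) D15936
def n18018 : Q := act 5 n14988
theorem D18018 : act 5 n14988 = n18018 := rfl
theorem F32444 : act 0 n18018 = n15931 := d4_1 D18018 (iv D15931) (iv F25954)
theorem F32445 : act 2 n18018 = n14989 := d11_1 D18018 (iv D14989) D14988
theorem F32446 : act 3 n18018 = n15936 := d13_1 D18018 F32443 (iv D18017)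
def n18019 : Q := act 4 n14989
theorem D18019 : act 4 n14989 = n18019 := rfl
theorem F32447 : act 0 n18019 = n15932 := d3_1 D18019 (iv D15932) (iv F25955)
def n18020 : Q := act 2 n14990
theorem D18020 : act 2 n14990 = n18020 := rfl
theorem F32448 : act 0 n18020 = n15936 := d1_1 D18020 (iv D15936) (iv F25957)
theorem F32449 : act 3 n18020 = n15931 := d9_2 D14990 D18020 F28011 F21854 F16834 (iv F16837) (iv F21856) (iv F28016) (iv F32442) (iv D18017) (iv D14988) (iv D11913) F15468 D9275 D11915
theorem F32450 : act 5 n15930 = n18020 := d13_0 F32449 (iv D15931) D15930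
def n18021 : Q := act 5 n14990
theorem D18021 : act 5 n14990 = n18021 := rfl
theorem F32451 : act 0 n18021 = n15938 := d4_1 D18021 (iv D15938) (iv F25957)
theorem F32452 : act 1 n18021 = n15399 := d8_1 D18021 (iv D15399) (iv F25958)
theorem F32453 : act 2 n18021 = n15930 := d11_1 D18021 F32450 (iv D18020)
theorem F32454 : act 3 n18021 = n14991 := d13_1 D18021 (iv D14991) D14990
def n18022 : Q := act 4 n14994
theorem D18022 : act 4 n14994 = n18022 := rfl
theorem F32455 : act 0 n18022 = n14996 := d3_1 D18022 (iv D14996) (iv F25971)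
theorem F32456 : act 1 n18022 = n15481 := d7_1 D18022 (iv D15481) (iv F25972)
theorem F32457 : act 2 n18022 = n17033 := d10_1 D18022 (iv D17033) (iv F25974)
def n18023 : Q := act 4 n14995
theorem D18023 : act 4 n14995 = n18023 := rfl
theorem F32458 : act 0 n18023 = n17033 := d3_1 D18023 (iv D17033) (iv F25975)
theorem F32459 : act 1 n18023 = n15480 := d7_1 D18023 (iv D15480) (iv F25976)
theorem F32460 : act 2 n18023 = n14996 := d10_1 D18023 (iv D14996) D14995
def n18024 : Q := act 1 n14997
theorem D18024 : act 1 n14997 = n18024 := rfl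
theorem F32461 : act 3 n18024 = n17288 := d6_2 (iv F25981) D18024 F30897
theorem F32462 : act 5 n18024 = n17287 := d8_2 F25982 D18024 F30896
def n18025 : Q := act 4 n14998
theorem D18025 : act 4 n14998 = n18025 := rfl
theorem F32463 : act 0 n18025 = n15000 := d3_1 D18025 (iv D15000) (iv F25983)
theorem F32464 : act 2 n18025 = n17229 := d10_1 D18025 F30771 (iv F25984)
def n18026 : Q := act 0 n14999
theorem D18026 : act 0 n14999 = n18026 := rfl
theorem F32465 : act 2 n18026 = n15001 := d1_2 (iv F25986) D18026 (iv D15001)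
theorem F32466 : act 3 n18026 = n17289 := d2_2 (iv F25987) D18026 F30899
theorem F32467 : act 5 n18026 = n17290 := d4_2 (iv F25988) D18026 F30902
def n18027 : Q := act 3 n15001
theorem D18027 : act 3 n15001 = n18027 := rfl
theorem F32468 : act 0 n18027 = n15002 := d2_1 D18027 (iv D15002) D15001
theorem F32469 : act 2 n18027 = n17296 := d9_1 D18027 (iv D17296) (iv D14221) (iv D11199) (iv F18765) D14216 (iv F25994) F25995 (iv F26904) (iv F31421) F31420 F24924 (iv F30900) (iv F32466) F32465
theorem F32470 : act 5 n18027 = n15394 := d15_8 (iv F26904) (iv F31421) F31420 F24924 (iv F30900) (iv F32466) F32465 D18027 F26908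
def n18028 : Q := act 5 n15001
theorem D18028 : act 5 n15001 = n18028 := rfl
theorem F32471 : act 0 n18028 = n15003 := d4_1 D18028 (iv D15003) D15001
theorem F32472 : act 2 n18028 = n17290 := d11_1 D18028 (iv F32467) F32465
theorem F32473 : act 3 n18028 = n15394 := d13_1 D18028 (iv F32470) (iv D18027)
theorem F32474 : act 4 n17309 = n18028 := d10_0 F32472 F30903 D17309
def n18029 : Q := act 4 n15002
theorem D18029 : act 4 n15002 = n18029 := rfl
theorem F32475 : act 1 n18029 = n15004 := d7_1 D18029 (iv D15004) (iv F25991)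
theorem F32476 : act 2 n18029 = n17195 := d10_1 D18029 (iv F31435) F31437
theorem F32477 : act 3 n18029 = n15439 := d12_1 D18029 (iv F32125) F32124 F25700 D15002
theorem F32478 : act 5 n18029 = n15348 := d14_2 F25992 D18029 (iv D15348) F20702 D12296
def n18030 : Q := act 4 n15003
theorem D18030 : act 4 n15003 = n18030 := rfl
theorem F32479 : act 0 n18030 = n17309 := d3_1 D18030 F32474 F32471
theorem F32480 : act 1 n18030 = n15005 := d7_1 D18030 (iv D15005) (iv F25993)
theorem F32481 : act 2 n18030 = n17291 := d10_1 D18030 F30906 (iv F25994)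
theorem F32482 : act 3 n18030 = n15345 := d12_1 D18030 F26800 F20697 D12296 (iv F25995)
theorem F32483 : act 5 n18030 = n15440 := d14_2 D15003 D18030 (iv F32120) (iv F32121) F25700
def n18031 : Q := act 2 n15006
theorem D18031 : act 2 n15006 = n18031 := rfl
theorem F32484 : act 0 n18031 = n15008 := d1_1 D18031 (iv D15008) (iv F26004)
theorem F32485 : act 1 n18031 = n17174 := d5_1 D18031 F30669 F24155 (iv F20784) (iv F26005)
theorem F32486 : act 4 n18031 = n15351 := d10_2 (iv F26006) D18031 (iv D15351)
def n18032 : Q := act 5 n15006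
theorem D18032 : act 5 n15006 = n18032 := rfl
theorem F32487 : act 0 n18032 = n15009 := d4_1 D18032 (iv D15009) (iv F26004)
theorem F32488 : act 1 n18032 = n15390 := d8_1 D18032 (iv D15390) (iv F26005)
theorem F32489 : act 3 n18032 = n15007 := d13_1 D18032 (iv D15007) D15006
theorem F32490 : act 4 n18032 = n17192 := d14_1 D18032 (iv D17192) (iv D14119) (iv F20714) (iv F26006)
def n18033 : Q := act 1 n15008
theorem D18033 : act 1 n15008 = n18033 := rfl
theorem F32491 : act 0 n18033 = n18003 := d0_1 D18033 F32414 (iv F30668) (iv F32485) F32484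
theorem F32492 : act 2 n18033 = n15010 := d5_2 D15008 D18033 (iv D15010) (iv D11934) (iv F20098)
theorem F32493 : act 4 n18033 = n15352 := d7_2 (iv F26010) D18033 (iv D15352)
def n18034 : Q := act 3 n15008
theorem D18034 : act 3 n15008 = n18034 := rfl
def n18035 : Q := act 5 n15008
theorem D18035 : act 5 n15008 = n18035 := rfl
theorem F32494 : act 2 n18035 = n15009 := d11_1 D18035 (iv D15009) D15008
def n18036 : Q := act 4 n15009
theorem D18036 : act 4 n15009 = n18036 := rfl
theorem F32495 : act 0 n18036 = n17192 := d3_1 D18036 (iv F32490) F32487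
theorem F32496 : act 1 n18036 = n15011 := d7_1 D18036 (iv D15011) (iv F26011)
theorem F32497 : act 3 n18036 = n15475 := d12_1 D18036 (iv D15475) F20921 (iv F20101) (iv F26012)
theorem F32498 : act 5 n18036 = n15350 := d14_2 D15009 D18036 (iv D15350) F20709 (iv F20099)
def n18037 : Q := act 0 n15010
theorem D18037 : act 0 n15010 = n18037 := rfl
theorem F32499 : act 1 n18037 = n15394 := d0_2 D15010 D18037 F26908 F20794 (iv F20102)
theorem F32500 : act 2 n18037 = n18003 := d1_2 F32492 D18037 (iv F32491)
theorem F32501 : act 4 n18037 = n15354 := d3_2 (iv F26013) D18037 (iv D15354)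
def n18038 : Q := act 1 n15012
theorem D18038 : act 1 n15012 = n18038 := rfl
theorem F32502 : act 2 n18038 = n15016 := d5_2 D15012 D18038 (iv D15016) (iv D11941) (iv F20117)
theorem F32503 : act 4 n18038 = n15014 := d7_2 (iv F26019) D18038 (iv D15014)
def n18039 : Q := act 3 n15012
theorem D18039 : act 3 n15012 = n18039 := rfl
theorem F32504 : act 0 n18039 = n15878 := d2_1 D18039 (iv D15878) (iv F26018)
def n18040 : Q := act 5 n15012
theorem D18040 : act 5 n15012 = n18040 := rfl
theorem F32505 : act 0 n18040 = n15879 := d4_1 D18040 (iv D15879) (iv F26018)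
theorem F32506 : act 2 n18040 = n15013 := d11_1 D18040 (iv D15013) D15012
theorem F32507 : act 4 n18040 = n15035 := d14_1 D18040 (iv D15035) F20153 (iv F20123) (iv F26019)
def n18041 : Q := act 0 n15014
theorem D18041 : act 0 n15014 = n18041 := rfl
theorem F32508 : act 1 n18041 = n15215 := d0_2 D15014 D18041 F26509 F20448 (iv F20122)
theorem F32509 : act 2 n18041 = n15019 := d1_2 (iv F26024) D18041 (iv D15019)
theorem F32510 : act 5 n18041 = n15036 := d4_2 (iv F26025) D18041 (iv D15036)
theorem F32511 : act 3 n17166 = n18041 := d13_3 F32510 (iv F26063) D17166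
def n18042 : Q := act 3 n15014
theorem D18042 : act 3 n15014 = n18042 := rfl
theorem F32512 : act 0 n18042 = n17166 := d2_1 D18042 F32511 (iv D18041)
theorem F32513 : act 1 n18042 = n15015 := d6_1 D18042 (iv D15015) D15014
theorem F32514 : act 5 n18042 = n15037 := d13_2 (iv F26025) D18042 (iv D15037)
def n18043 : Q := act 4 n15015
theorem D18043 : act 4 n15015 = n18043 := rfl
theorem F32515 : act 0 n18043 = n15928 := d3_1 D18043 (iv D15928) (iv F26026)
theorem F32516 : act 2 n18043 = n15053 := d10_1 D18043 (iv D15053) (iv F26027)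
def n18044 : Q := act 0 n15016
theorem D18044 : act 0 n15016 = n18044 := rfl
theorem F32517 : act 1 n18044 = n15026 := d0_2 D15016 D18044 (iv D15026) (iv D11948) (iv F20124)
theorem F32518 : act 4 n18044 = n15019 := d3_2 (iv F26029) D18044 (iv D15019)
def n18045 : Q := act 3 n15016
theorem D18045 : act 3 n15016 = n18045 := rfl
theorem F32519 : act 1 n18045 = n15017 := d6_1 D18045 (iv D15017) D15016
theorem F32520 : act 4 n18045 = n15027 := d12_2 (iv F26029) D18045 (iv D15027) F20137 (iv F20129)
def n18046 : Q := act 5 n15016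
theorem D18046 : act 5 n15016 = n18046 := rfl
theorem F32521 : act 1 n18046 = n15018 := d8_1 D18046 (iv D15018) D15016
theorem F32522 : act 4 n18046 = n15042 := d14_1 D18046 (iv D15042) F20157 (iv F20130) (iv F26029)
def n18047 : Q := act 2 n15017
theorem D18047 : act 2 n15017 = n18047 := rfl
theorem F32523 : act 0 n18047 = n15029 := d1_1 D18047 (iv D15029) (iv F26030)
theorem F32524 : act 3 n18047 = n15024 := d9_2 D15017 D18047 F26040 F20135 F15541 (iv F15545) (iv F20138) (iv F26048) (iv F29370) (iv D16539) (iv D13455) (iv D10558) F13574 D9299 D11941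
theorem F32525 : act 4 n18047 = n15029 := d10_2 (iv F26031) D18047 (iv D15029)
theorem F32526 : act 5 n15023 = n18047 := d13_0 F32524 (iv D15024) D15023
def n18048 : Q := act 5 n15017
theorem D18048 : act 5 n15017 = n18048 := rfl
theorem F32527 : act 0 n18048 = n15030 := d4_1 D18048 (iv D15030) (iv F26030)
theorem F32528 : act 2 n18048 = n15023 := d11_1 D18048 F32526 (iv D18047)
theorem F32529 : act 3 n18048 = n15018 := d13_1 D18048 (iv D15018) D15017
def n18049 : Q := act 1 n15020
theorem D18049 : act 1 n15020 = n18049 := rfl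
theorem F32530 : act 2 n18049 = n15022 := d5_2 D15020 D18049 (iv D15022) (iv D11946) (iv F20131)
def n18050 : Q := act 3 n15020
theorem D18050 : act 3 n15020 = n18050 := rfl
def n18051 : Q := act 5 n15020
theorem D18051 : act 5 n15020 = n18051 := rfl
theorem F32531 : act 2 n18051 = n15021 := d11_1 D18051 (iv D15021) D15020
def n18052 : Q := act 4 n15021
theorem D18052 : act 4 n15021 = n18052 := rfl
theorem F32532 : act 1 n18052 = n15025 := d7_1 D18052 (iv D15025) (iv F26038)
theorem F32533 : act 3 n18052 = n15932 := d12_1 D18052 (iv D15932) F21854 (iv F20134) (iv F26039)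
def n18053 : Q := act 0 n15022
theorem D18053 : act 0 n15022 = n18053 := rfl
def n18054 : Q := act 3 n15022
theorem D18054 : act 3 n15022 = n18054 := rfl
theorem F32534 : act 1 n18054 = n15023 := d6_1 D18054 (iv D15023) D15022
def n18055 : Q := act 5 n15022
theorem D18055 : act 5 n15022 = n18055 := rfl
theorem F32535 : act 1 n18055 = n15024 := d8_1 D18055 (iv D15024) D15022
def n18056 : Q := act 4 n15023
theorem D18056 : act 4 n15023 = n18056 := rfl
def n18057 : Q := act 4 n15024
theorem D18057 : act 4 n15024 = n18057 := rfl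
theorem F32536 : act 2 n18057 = n15025 := d10_1 D18057 (iv D15025) (iv F26040)
def n18058 : Q := act 3 n15026
theorem D18058 : act 3 n15026 = n18058 := rfl
theorem F32537 : act 0 n18058 = n15027 := d2_1 D18058 (iv D15027) D15026
def n18059 : Q := act 5 n15026
theorem D18059 : act 5 n15026 = n18059 := rfl
theorem F32538 : act 0 n18059 = n15028 := d4_1 D18059 (iv D15028) D15026
theorem F32539 : act 2 n18059 = n15941 := d11_1 D18059 F28021 (iv F26042)
theorem F32540 : act 4 n18059 = n15048 := d14_1 D18059 (iv D15048) F20167 (iv F20141) (iv F26043)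
def n18060 : Q := act 1 n15029
theorem D18060 : act 1 n15029 = n18060 := rfl
def n18061 : Q := act 3 n15032
theorem D18061 : act 3 n15032 = n18061 := rfl
theorem F32541 : act 0 n18061 = n15405 := d2_1 D18061 (iv D15405) (iv F26053)
theorem F32542 : act 1 n18061 = n15424 := d6_1 D18061 (iv D15424) (iv F26054)
theorem F32543 : act 4 n18061 = n15033 := d12_2 D15032 D18061 (iv D15033) (iv D11954) D11953
def n18062 : Q := act 3 n15051
theorem D18062 : act 3 n15051 = n18062 := rfl
theorem F32544 : act 0 n18062 = n15052 := d2_1 D18062 (iv D15052) D15051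
theorem F32545 : act 1 n18062 = n15530 := d6_1 D18062 F31967 F31963
theorem F32546 : act 2 n18062 = n15200 := d9_1 D18062 (iv D15200) (iv D12106) (iv D9438) F12056 D7487 D9721 D12457 (iv F21821) (iv F21819) F20963 (iv F20415) F20414 (iv F20182) (iv F26113)
theorem F32547 : act 5 n18062 = n15496 := d13_2 (iv F26115) D18062 F27114
theorem F32548 : act 4 n16950 = n18062 := d14_5 F32547 F27113 F21169 D13879 D16950
def n18063 : Q := act 4 n15052
theorem D18063 : act 4 n15052 = n18063 := rfl
theorem F32549 : act 0 n18063 = n16950 := d3_1 D18063 F32548 F32544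
theorem F32550 : act 1 n18063 = n15053 := d7_1 D18063 (iv D15053) (iv F26116)
theorem F32551 : act 3 n18063 = n15152 := d12_1 D18063 (iv D15152) (iv D12068) (iv F20172) D15052
theorem F32552 : act 5 n18063 = n16944 := d14_2 (iv F26117) D18063 (iv D16944) F23789 (iv F21822)
def n18064 : Q := act 5 n15053
theorem D18064 : act 5 n15053 = n18064 := rfl
theorem F32553 : act 0 n18064 = n15635 := d4_1 D18064 (iv F31977) F31973
theorem F32554 : act 1 n18064 = n16944 := d8_1 D18064 (iv F32552) F32550
theorem F32555 : act 3 n18064 = n15157 := d13_1 D18064 (iv D15157) (iv F26118)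
theorem F32556 : act 4 n18064 = n15634 := d14_1 D18064 (iv F27765) F27764 F26069 D15053
def n18065 : Q := act 4 n15061
theorem D18065 : act 4 n15061 = n18065 := rfl
theorem F32557 : act 0 n18065 = n17626 := d3_1 D18065 (iv D17626) (iv F26152)
theorem F32558 : act 1 n18065 = n15062 := d7_1 D18065 (iv D15062) (iv F26153)
theorem F32559 : act 2 n18065 = n17624 := d10_1 D18065 (iv D17624) (iv F26154)
theorem F32560 : act 3 n18065 = n15921 := d12_1 D18065 (iv D15921) (iv F25423) F25424 D15061
theorem F32561 : act 5 n18065 = n15921 := d14_2 (iv F26155) D18065 (iv D15921) (iv D12869) (iv F21708)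
def n18066 : Q := act 4 n15069
theorem D18066 : act 4 n15069 = n18066 := rfl
theorem F32562 : act 0 n18066 = n15872 := d3_1 D18066 (iv D15872) (iv F26179)
theorem F32563 : act 1 n18066 = n16895 := d7_1 D18066 (iv D16895) (iv F26180)
theorem F32564 : act 2 n18066 = n15070 := d10_1 D18066 (iv D15070) D15069
def n18067 : Q := act 4 n15073
theorem D18067 : act 4 n15073 = n18067 := rfl
theorem F32565 : act 1 n18067 = n15075 := d7_1 D18067 (iv D15075) (iv F26189)
theorem F32566 : act 3 n18067 = n15726 := d12_1 D18067 (iv D15726) (iv D12652) (iv F20226) D15073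
def n18068 : Q := act 4 n15074
theorem D18068 : act 4 n15074 = n18068 := rfl
theorem F32567 : act 1 n18068 = n15076 := d7_1 D18068 (iv D15076) (iv F26190)
theorem F32568 : act 5 n18068 = n15727 := d14_2 D15074 D18068 (iv D15727) (iv D12653) (iv F20226)
def n18069 : Q := act 5 n15075
theorem D18069 : act 5 n15075 = n18069 := rfl
theorem F32569 : act 2 n18069 = n17607 := d11_1 D18069 F31566 F30280
theorem F32570 : act 3 n18069 = n15728 := d13_1 D18069 (iv D15728) (iv F26191)
def n18070 : Q := act 3 n15076
theorem D18070 : act 3 n15076 = n18070 := rfl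
theorem F32571 : act 5 n18070 = n15729 := d13_2 (iv F26193) D18070 (iv D15729)
def n18071 : Q := act 5 n15077
theorem D18071 : act 5 n15077 = n18071 := rfl
theorem F32572 : act 1 n18071 = n15081 := d8_1 D18071 (iv D15081) (iv F26194)
theorem F32573 : act 2 n18071 = n17330 := d11_1 D18071 (iv D17330) (iv F26195)
theorem F32574 : act 3 n18071 = n15088 := d13_1 D18071 F26213 (iv F26196)
def n18072 : Q := act 4 n15078
theorem D18072 : act 4 n15078 = n18072 := rfl
theorem F32575 : act 1 n18072 = n15082 := d7_1 D18072 (iv D15082) (iv F26197)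
def n18073 : Q := act 3 n15079
theorem D18073 : act 3 n15079 = n18073 := rfl
theorem F32576 : act 1 n18073 = n15083 := d6_1 D18073 (iv D15083) (iv F26199)
theorem F32577 : act 5 n18073 = n15089 := d13_2 (iv F26200) D18073 (iv D15089)
def n18074 : Q := act 3 n15080
theorem D18074 : act 3 n15080 = n18074 := rfl
theorem F32578 : act 1 n18074 = n17331 := d6_1 D18074 (iv D17331) (iv F26201)
def n18075 : Q := act 5 n15080
theorem D18075 : act 5 n15080 = n18075 := rfl
theorem F32579 : act 1 n18075 = n17332 := d8_1 D18075 (iv D17332) (iv F26201)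
theorem F32580 : act 2 n18075 = n15081 := d11_1 D18075 (iv D15081) (iv F26202)
def n18076 : Q := act 4 n15081
theorem D18076 : act 4 n15081 = n18076 := rfl
theorem F32581 : act 0 n18076 = n17607 := d3_1 D18076 F31565 F29247
theorem F32582 : act 3 n18076 = n17588 := d12_1 D18076 (iv D17588) F25022 (iv F20243) (iv F26203)
theorem F32583 : act 5 n18076 = n15082 := d14_2 D15081 D18076 (iv D15082) (iv D12006) D12005
def n18077 : Q := act 3 n15082
theorem D18077 : act 3 n15082 = n18077 := rfl
theorem F32584 : act 0 n18077 = n17608 := d2_1 D18077 F31569 F30278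
theorem F32585 : act 2 n18077 = n17589 := d9_1 D18077 F31526 F25043 D14601 (iv F27615) (iv F32570) F32569 (iv D17607) F25056 F19349 (iv F19365) (iv F20314) (iv F23276) (iv F29725) F29724
theorem F32586 : act 4 n18077 = n15083 := d12_2 D15082 D18077 (iv D15083) (iv D12007) (iv F20233)
theorem F32587 : act 5 n18077 = n17588 := d13_2 F32583 D18077 (iv F32582)
def n18078 : Q := act 2 n15083
theorem D18078 : act 2 n15083 = n18078 := rfl
theorem F32588 : act 0 n18078 = n17609 := d1_1 D18078 F31571 F29244
theorem F32589 : act 3 n18078 = n17649 := d9_2 D15083 D18078 F31655 (iv D15755) F21437 F16577 (iv F17614) (iv F22788) (iv F25058) D17610 (iv F32310) (iv D17953) F25810 F19948 (iv F20234)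
theorem F32590 : act 4 n18078 = n17589 := d10_2 F32586 D18078 (iv F32585)
theorem F32591 : act 5 n18078 = n15090 := d11_2 (iv F26204) D18078 (iv D15090)
def n18079 : Q := act 3 n15084
theorem D18079 : act 3 n15084 = n18079 := rfl
theorem F32592 : act 0 n18079 = n15087 := d2_1 D18079 (iv D15087) (iv F26205)
theorem F32593 : act 1 n18079 = n17605 := d6_1 D18079 F31559 F29236
theorem F32594 : act 5 n18079 = n17599 := d13_2 (iv F26206) D18079 (iv D17599)
def n18080 : Q := act 4 n15084
theorem D18080 : act 4 n15084 = n18080 := rfl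
theorem F32595 : act 0 n18080 = n15088 := d3_1 D18080 (iv D15088) (iv F26205)
theorem F32596 : act 2 n18080 = n15085 := d10_1 D18080 (iv D15085) D15084
theorem F32597 : act 5 n18080 = n15085 := d14_2 (iv F26206) D18080 (iv D15085) (iv F22783) (iv F25049)
def n18081 : Q := act 3 n15086
theorem D18081 : act 3 n15086 = n18081 := rfl
theorem F32598 : act 0 n18081 = n15089 := d2_1 D18081 (iv D15089) (iv F26208)
theorem F32599 : act 4 n18081 = n17599 := d12_2 D15086 D18081 (iv D17599) F25049 F22782
def n18082 : Q := act 2 n15087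
theorem D18082 : act 2 n15087 = n18082 := rfl
theorem F32600 : act 1 n18082 = n17584 := d5_1 D18082 (iv D17584) F25018 D14545 (iv F26209)
theorem F32601 : act 5 n18082 = n17600 := d11_2 (iv F26210) D18082 (iv D17600)
def n18083 : Q := act 4 n15087
theorem D18083 : act 4 n15087 = n18083 := rfl
theorem F32602 : act 1 n18083 = n17588 := d7_1 D18083 (iv D17588) (iv F26209)
def n18084 : Q := act 2 n15089
theorem D18084 : act 2 n15089 = n18084 := rfl
theorem F32603 : act 4 n18084 = n17600 := d10_2 (iv F26215) D18084 (iv D17600)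
def n18085 : Q := act 1 n15090
theorem D18085 : act 1 n15090 = n18085 := rfl
theorem F32604 : act 4 n18085 = n17586 := d7_2 (iv F26217) D18085 F31517
def n18086 : Q := act 3 n15090
theorem D18086 : act 3 n15090 = n18086 := rfl
theorem F32605 : act 0 n18086 = n17610 := d2_1 D18086 (iv D17610) (iv F26216)
theorem F32606 : act 4 n18086 = n17590 := d12_2 (iv F26217) D18086 (iv D17590) (iv D14548) (iv F25028)
theorem F32607 : act 5 n18086 = n17649 := d13_2 F32591 D18086 (iv F32589)
def n18087 : Q := act 3 n15091
theorem D18087 : act 3 n15091 = n18087 := rfl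
theorem F32608 : act 1 n18087 = n15092 := d6_1 D18087 (iv D15092) (iv F26218)
theorem F32609 : act 4 n18087 = n15125 := d12_2 D15091 D18087 (iv D15125) (iv D12045) (iv F20251)
def n18088 : Q := act 1 n15093
theorem D18088 : act 1 n15093 = n18088 := rfl
theorem F32610 : act 2 n18088 = n15100 := d5_2 D15093 D18088 F26237 F20264 (iv F20255)
theorem F32611 : act 3 n18088 = n17602 := d6_2 (iv F26223) D18088 (iv D17602)
theorem F32612 : act 4 n18088 = n15095 := d7_2 (iv F26222) D18088 (iv D15095)
def n18089 : Q := act 5 n15093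
theorem D18089 : act 5 n15093 = n18089 := rfl
theorem F32613 : act 0 n18089 = n15097 := d4_1 D18089 (iv D15097) (iv F26221)
theorem F32614 : act 2 n18089 = n15094 := d11_1 D18089 (iv D15094) D15093
theorem F32615 : act 3 n18089 = n15108 := d13_1 D18089 F26252 (iv F26223)
def n18090 : Q := act 4 n15094
theorem D18090 : act 4 n15094 = n18090 := rfl
theorem F32616 : act 0 n18090 = n15098 := d3_1 D18090 (iv D15098) (iv F26224)
theorem F32617 : act 1 n18090 = n15103 := d7_1 D18090 (iv D15103) (iv F26225)
theorem F32618 : act 5 n18090 = n15098 := d14_2 D15094 D18090 (iv D15098) (iv D12021) (iv F20256)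
def n18091 : Q := act 0 n15095
theorem D18091 : act 0 n15095 = n18091 := rfl
theorem F32619 : act 2 n18091 = n15099 := d1_2 (iv F26227) D18091 (iv D15099)
theorem F32620 : act 5 n18091 = n15110 := d4_2 F26228 D18091 F26254
def n18092 : Q := act 3 n15095
theorem D18092 : act 3 n15095 = n18092 := rfl
theorem F32621 : act 1 n18092 = n15096 := d6_1 D18092 (iv D15096) D15095
theorem F32622 : act 5 n18092 = n15113 := d13_2 F26228 D18092 (iv D15113)
def n18093 : Q := act 4 n15096
theorem D18093 : act 4 n15096 = n18093 := rfl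
theorem F32623 : act 0 n18093 = n17603 := d3_1 D18093 (iv D17603) (iv F26229)
theorem F32624 : act 2 n18093 = n17601 := d10_1 D18093 (iv D17601) (iv F26230)
theorem F32625 : act 3 n18093 = n17603 := d12_1 D18093 (iv D17603) (iv F26223) F26222 D15096
def n18094 : Q := act 5 n15096
theorem D18094 : act 5 n15096 = n18094 := rfl
theorem F32626 : act 0 n18094 = n15108 := d4_1 D18094 F26252 (iv F26229)
theorem F32627 : act 1 n18094 = n15113 := d8_1 D18094 (iv F32622) F32621
theorem F32628 : act 2 n18094 = n15107 := d11_1 D18094 F26251 (iv F26230)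
theorem F32629 : act 3 n18094 = n15097 := d13_1 D18094 (iv D15097) D15096
def n18095 : Q := act 4 n15097
theorem D18095 : act 4 n15097 = n18095 := rfl
theorem F32630 : act 1 n18095 = n15114 := d7_1 D18095 (iv D15114) (iv F26231)
theorem F32631 : act 2 n18095 = n15098 := d10_1 D18095 (iv D15098) (iv F26232)
def n18096 : Q := act 4 n15099
theorem D18096 : act 4 n15099 = n18096 := rfl
theorem F32632 : act 0 n18096 = n15100 := d3_1 D18096 (iv D15100) D15099
theorem F32633 : act 1 n18096 = n15119 := d7_1 D18096 F26271 (iv F26234)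
theorem F32634 : act 3 n15132 = n18096 := d6_0 F32633 F26270 D15132
theorem F32635 : act 5 n15117 = n18096 := d8_0 F32633 (iv D15119) D15117
def n18097 : Q := act 3 n15100
theorem D18097 : act 3 n15100 = n18097 := rfl
theorem F32636 : act 0 n18097 = n15132 := d2_1 D18097 F32634 F32632
theorem F32637 : act 1 n18097 = n15101 := d6_1 D18097 (iv D15101) (iv F26237)
theorem F32638 : act 4 n18097 = n15116 := d12_2 D15100 D18097 (iv D15116) (iv D12033) (iv F20261)
def n18098 : Q := act 5 n15100
theorem D18098 : act 5 n15100 = n18098 := rfl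
theorem F32639 : act 0 n18098 = n15117 := d4_1 D18098 F32635 F32632
theorem F32640 : act 1 n18098 = n15102 := d8_1 D18098 (iv D15102) (iv F26237)
theorem F32641 : act 4 n18098 = n15115 := d14_1 D18098 (iv D15115) (iv D12032) (iv F20262) D15100
def n18099 : Q := act 5 n15101
theorem D18099 : act 5 n15101 = n18099 := rfl
theorem F32642 : act 0 n18099 = n15121 := d4_1 D18099 F26301 (iv F26238)
theorem F32643 : act 3 n18099 = n15102 := d13_1 D18099 (iv D15102) D15101
def n18100 : Q := act 3 n15103
theorem D18100 : act 3 n15103 = n18100 := rfl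
theorem F32644 : act 0 n18100 = n15125 := d2_1 D18100 (iv D15125) (iv F26243)
theorem F32645 : act 5 n18100 = n15104 := d13_2 (iv F26245) D18100 (iv D15104)
def n18101 : Q := act 3 n15106
theorem D18101 : act 3 n15106 = n18101 := rfl
theorem F32646 : act 0 n18101 = n17586 := d2_1 D18101 F31518 (iv F26248)
theorem F32647 : act 1 n18101 = n15107 := d6_1 D18101 (iv D15107) D15106
theorem F32648 : act 5 n18101 = n17583 := d13_2 (iv F26249) D18101 (iv D17583)
def n18102 : Q := act 4 n15107
theorem D18102 : act 4 n15107 = n18102 := rfl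
theorem F32649 : act 0 n18102 = n15109 := d3_1 D18102 (iv D15109) (iv F26250)
def n18103 : Q := act 4 n15108
theorem D18103 : act 4 n15108 = n18103 := rfl
theorem F32650 : act 2 n18103 = n15109 := d10_1 D18103 (iv D15109) D15108
def n18104 : Q := act 5 n15109
theorem D18104 : act 5 n15109 = n18104 := rfl
theorem F32651 : act 1 n18104 = n17609 := d8_1 D18104 F31572 (iv F26253)
theorem F32652 : act 4 n18104 = n17604 := d14_1 D18104 (iv D17604) (iv D14560) (iv F20271) D15109
def n18105 : Q := act 1 n15110
theorem D18105 : act 1 n15110 = n18105 := rfl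
theorem F32653 : act 2 n18105 = n15117 := d5_2 D15110 D18105 (iv D15117) (iv D12036) (iv F20273)
def n18106 : Q := act 3 n15110
theorem D18106 : act 3 n15110 = n18106 := rfl
theorem F32654 : act 0 n18106 = n15113 := d2_1 D18106 (iv D15113) (iv F26254)
def n18107 : Q := act 4 n15110
theorem D18107 : act 4 n15110 = n18107 := rfl
theorem F32655 : act 0 n18107 = n15114 := d3_1 D18107 (iv D15114) (iv F26254)
theorem F32656 : act 2 n18107 = n15111 := d10_1 D18107 (iv D15111) D15110
def n18108 : Q := act 5 n15111
theorem D18108 : act 5 n15111 = n18108 := rfl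
theorem F32657 : act 0 n18108 = n15115 := d4_1 D18108 (iv D15115) (iv F26255)
theorem F32658 : act 1 n18108 = n15118 := d8_1 D18108 (iv F26267) (iv F26256)
theorem F32659 : act 4 n18108 = n15117 := d14_1 D18108 F32635 (iv D18096) F26236 D15111
def n18109 : Q := act 3 n15112
theorem D18109 : act 3 n15112 = n18109 := rfl
theorem F32660 : act 0 n18109 = n15116 := d2_1 D18109 (iv D15116) (iv F26257)
theorem F32661 : act 1 n18109 = n15120 := d6_1 D18109 (iv D15120) (iv F26258)
theorem F32662 : act 4 n18109 = n15132 := d12_2 D15112 D18109 F32634 (iv D18096) F26235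
theorem F32663 : act 5 n18109 = n15458 := d13_2 (iv F26260) D18109 (iv D15458)
theorem F32664 : act 2 n18109 = n16282 := d15_2 (iv F26259) D18109 F28769 F28345 (iv D15449) F20882 F16105 D9652 (iv F20896)
def n18110 : Q := act 2 n15113
theorem D18110 : act 2 n15113 = n18110 := rfl
def n18111 : Q := act 4 n15113
theorem D18111 : act 4 n15113 = n18111 := rfl
def n18112 : Q := act 3 n15114
theorem D18112 : act 3 n15114 = n18112 := rfl
def n18113 : Q := act 5 n15114
theorem D18113 : act 5 n15114 = n18113 := rfl
theorem F32665 : act 2 n18113 = n15115 := d11_1 D18113 (iv D15115) (iv F26261)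
def n18114 : Q := act 2 n15116
theorem D18114 : act 2 n15116 = n18114 := rfl
theorem F32666 : act 0 n18114 = n16282 := d1_1 D18114 (iv F32664) F32660
theorem F32667 : act 5 n18114 = n15463 := d11_2 (iv F26264) D18114 (iv D15463)
def n18115 : Q := act 2 n15121
theorem D18115 : act 2 n15121 = n18115 := rfl
theorem F32668 : act 1 n18115 = n16238 := d5_1 D18115 (iv D16238) F22347 F22071 (iv F26300)
theorem F32669 : act 4 n18115 = n16239 := d10_2 F32088 D18115 (iv F32086)
theorem F32670 : act 5 n18115 = n15127 := d11_2 (iv F26301) D18115 (iv D15127)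
def n18116 : Q := act 1 n15124
theorem D18116 : act 1 n15124 = n18116 := rfl
theorem F32671 : act 0 n18116 = n16246 := d0_1 D18116 F28703 F22361 F22081 (iv F26309)
theorem F32672 : act 2 n18116 = n15128 := d5_2 D15124 D18116 (iv D15128) (iv D12048) (iv F20297)
theorem F32673 : act 4 n18116 = n15129 := d7_2 (iv F26310) D18116 F26315
theorem F32674 : act 5 n18116 = n16242 := d8_2 F28598 D18116 F28696
def n18117 : Q := act 1 n15127
theorem D18117 : act 1 n15127 = n18117 := rfl
theorem F32675 : act 2 n18117 = n15129 := d5_2 D15127 D18117 F26315 (iv F26306) F26305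
theorem F32676 : act 4 n18117 = n15128 := d7_2 (iv F26313) D18117 (iv D15128)
theorem F32677 : act 5 n18117 = n16238 := d8_2 F32670 D18117 (iv F32668)
theorem F32678 : act 0 n16245 = n18117 := d4_3 F32677 F28687 D16245
def n18118 : Q := act 3 n15127
theorem D18118 : act 3 n15127 = n18118 := rfl
def n18119 : Q := act 0 n15128
theorem D18119 : act 0 n15128 = n18119 := rfl
theorem F32679 : act 1 n18119 = n15449 := d0_2 D15128 D18119 (iv F32073) F32074 F25597
theorem F32680 : act 2 n18119 = n16246 := d1_2 F32672 D18119 (iv F32671)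
theorem F32681 : act 3 n18119 = n15446 := d2_2 F32030 D18119 (iv F32028)
theorem F32682 : act 4 n18119 = n16245 := d3_2 F32676 D18119 F32678
theorem F32683 : act 5 n18119 = n16253 := d4_2 F32078 D18119 F32079
def n18120 : Q := act 3 n15130
theorem D18120 : act 3 n15130 = n18120 := rfl
theorem F32684 : act 0 n18120 = n16079 := d2_1 D18120 F28388 (iv F26317)
theorem F32685 : act 1 n18120 = n15131 := d6_1 D18120 (iv D15131) (iv F26318)
theorem F32686 : act 5 n18120 = n16074 := d13_2 (iv F26319) D18120 (iv D16074)
def n18121 : Q := act 2 n15134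
theorem D18121 : act 2 n15134 = n18121 := rfl
def n18122 : Q := act 4 n15134
theorem D18122 : act 4 n15134 = n18122 := rfl
theorem F32687 : act 1 n18122 = n15135 := d7_1 D18122 (iv D15135) (iv F26324)
def n18123 : Q := act 5 n15135
theorem D18123 : act 5 n15135 = n18123 := rfl
theorem F32688 : act 0 n18123 = n15138 := d4_1 D18123 (iv D15138) (iv F26325)
def n18124 : Q := act 0 n15136
theorem D18124 : act 0 n15136 = n18124 := rfl
def n18125 : Q := act 4 n15136
theorem D18125 : act 4 n15136 = n18125 := rfl
theorem F32689 : act 1 n18125 = n15137 := d7_1 D18125 (iv D15137) D15136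
def n18126 : Q := act 3 n15137
theorem D18126 : act 3 n15137 = n18126 := rfl
theorem F32690 : act 0 n18126 = n15943 := d2_1 D18126 (iv F28025) F27738
theorem F32691 : act 2 n18126 = n15942 := d15_6 (iv F26046) (iv F28250) F28249 F22011 (iv F26326) D18126 (iv D15942) (iv F28021) (iv D15941)
def n18127 : Q := act 5 n15137
theorem D18127 : act 5 n15137 = n18127 := rfl
theorem F32692 : act 2 n18127 = n15138 := d11_1 D18127 (iv D15138) (iv F26326)
def n18128 : Q := act 3 n15139
theorem D18128 : act 3 n15139 = n18128 := rfl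
theorem F32693 : act 0 n18128 = n17419 := d2_1 D18128 (iv D17419) F26329
theorem F32694 : act 1 n18128 = n15140 := d6_1 D18128 (iv D15140) D15139
theorem F32695 : act 2 n18128 = n17381 := d15_2 (iv F26327) D18128 (iv D17381) F24522 F18879 (iv F18984) (iv F24667) (iv D14356) (iv F24657)
theorem F32696 : act 5 n17383 = n18128 := d11_0 F32695 F31081 D17383
def n18129 : Q := act 5 n15139
theorem D18129 : act 5 n15139 = n18129 := rfl
theorem F32697 : act 0 n18129 = n17420 := d4_1 D18129 (iv D17420) F26329
theorem F32698 : act 1 n18129 = n15141 := d8_1 D18129 (iv D15141) D15139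
theorem F32699 : act 2 n18129 = n17416 := d11_1 D18129 F31172 (iv F26327)
theorem F32700 : act 3 n18129 = n17383 := d13_1 D18129 F32696 (iv D18128)
def n18130 : Q := act 2 n15140
theorem D18130 : act 2 n15140 = n18130 := rfl
theorem F32701 : act 3 n18130 = n17667 := d15_3 D12059 D15140 D18130 F31692 F25152 F19431 (iv F23323) (iv D13666) F17989
theorem F32702 : act 5 n17666 = n18130 := d13_0 F32701 (iv D17667) D17666
def n18131 : Q := act 5 n15140
theorem D18131 : act 5 n15140 = n18131 := rfl
theorem F32703 : act 1 n18131 = n17383 := d8_1 D18131 F32696 F32694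
theorem F32704 : act 2 n18131 = n17666 := d11_1 D18131 F32702 (iv D18130)
theorem F32705 : act 3 n18131 = n15141 := d13_1 D18131 (iv D15141) D15140
def n18132 : Q := act 3 n15144
theorem D18132 : act 3 n15144 = n18132 := rfl
theorem F32706 : act 0 n18132 = n15145 := d2_1 D18132 (iv D15145) D15144
theorem F32707 : act 1 n18132 = n15149 := d6_1 D18132 (iv D15149) (iv F26336)
theorem F32708 : act 2 n18132 = n17391 := d9_1 D18132 (iv D17391) F24532 F18886 (iv F19044) D14379 (iv F26344) F26345 (iv F30787) F30788 (iv F31094) F31095 F24719 (iv F24790) (iv F26337)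
theorem F32709 : act 5 n18132 = n17313 := d13_2 F26338 D18132 F30945
def n18133 : Q := act 4 n15145
theorem D18133 : act 4 n15145 = n18133 := rfl
theorem F32710 : act 1 n18133 = n15147 := d7_1 D18133 (iv D15147) (iv F26339)
theorem F32711 : act 2 n18133 = n17526 := d10_1 D18133 (iv D17526) F26340
theorem F32712 : act 3 n18133 = n15637 := d12_1 D18133 F31972 (iv D17788) F25464 D15145
theorem F32713 : act 5 n15636 = n18133 := d13_0 F32712 (iv D15637) D15636
def n18134 : Q := act 5 n15147
theorem D18134 : act 5 n15147 = n18134 := rfl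
theorem F32714 : act 0 n18134 = n15157 := d4_1 D18134 (iv D15157) (iv F26347)
theorem F32715 : act 1 n18134 = n15636 := d8_1 D18134 F32713 F32710
theorem F32716 : act 2 n18134 = n17312 := d11_1 D18134 F30944 (iv F26348)
theorem F32717 : act 3 n18134 = n15635 := d13_1 D18134 (iv F31977) F31976
theorem F32718 : act 4 n18134 = n17311 := d14_1 D18134 (iv D17311) F24405 F20317 D15147
def n18135 : Q := act 2 n15149
theorem D18135 : act 2 n15149 = n18135 := rfl
theorem F32719 : act 0 n18135 = n15151 := d1_1 D18135 (iv D15151) (iv F26354)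
theorem F32720 : act 3 n18135 = n15311 := d15_1 D18135 (iv D15311) (iv D12215) F15915 (iv F15707) (iv F20328) (iv F26361) (iv D15153) (iv F26354)
def n18136 : Q := act 4 n15149
theorem D18136 : act 4 n15149 = n18136 := rfl
theorem F32721 : act 0 n18136 = n15152 := d3_1 D18136 (iv D15152) (iv F26354)
theorem F32722 : act 3 n18136 = n16950 := d12_1 D18136 F32548 (iv D18062) F26114 D15149
theorem F32723 : act 5 n16949 = n18136 := d13_0 F32722 (iv D16950) D16949
def n18137 : Q := act 5 n15149
theorem D18137 : act 5 n15149 = n18137 := rfl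
theorem F32724 : act 0 n18137 = n15153 := d4_1 D18137 (iv D15153) (iv F26354)
theorem F32725 : act 1 n18137 = n17313 := d8_1 D18137 (iv F32709) F32707
theorem F32726 : act 3 n18137 = n15150 := d13_1 D18137 (iv D15150) D15149
theorem F32727 : act 4 n18137 = n16952 := d14_1 D18137 (iv D16952) (iv F30230) F32723 (iv D18136)
def n18138 : Q := act 1 n15151
theorem D18138 : act 1 n15151 = n18138 := rfl
theorem F32728 : act 2 n18138 = n15155 := d5_2 D15151 D18138 (iv D15155) (iv D12070) (iv F20326)
theorem F32729 : act 0 n17499 = n18138 := d1_3 F32728 F26366 D17499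
theorem F32730 : act 5 n17303 = n18138 := d11_0 F32728 F26368 D17303
def n18139 : Q := act 3 n15151
theorem D18139 : act 3 n15151 = n18139 := rfl
theorem F32731 : act 0 n18139 = n15311 := d2_1 D18139 (iv F32720) F32719
theorem F32732 : act 2 n18139 = n15310 := d15_2 D15151 D18139 (iv D15310) F20642 (iv F20341) (iv F26357) (iv F32726) (iv D18137) F26354
def n18140 : Q := act 4 n15151
theorem D18140 : act 4 n15151 = n18140 := rfl
theorem F32733 : act 2 n18140 = n15152 := d10_1 D18140 (iv D15152) D15151
def n18141 : Q := act 5 n15151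
theorem D18141 : act 5 n15151 = n18141 := rfl
theorem F32734 : act 1 n18141 = n17303 := d8_1 D18141 F32730 (iv D18138)
theorem F32735 : act 2 n18141 = n15153 := d11_1 D18141 (iv D15153) D15151
def n18142 : Q := act 5 n15152
theorem D18142 : act 5 n15152 = n18142 := rfl
theorem F32736 : act 0 n18142 = n16949 := d4_1 D18142 F32723 F32721
theorem F32737 : act 1 n18142 = n15157 := d8_1 D18142 (iv D15157) (iv F26359)
theorem F32738 : act 3 n18142 = n16944 := d13_1 D18142 (iv F32552) F32551
theorem F32739 : act 4 n16945 = n18142 := d12_0 F32738 (iv D16944) (iv D13874) D13875 D16945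
def n18143 : Q := act 4 n15153
theorem D18143 : act 4 n15153 = n18143 := rfl
theorem F32740 : act 0 n18143 = n16952 := d3_1 D18143 (iv F32727) F32724
theorem F32741 : act 1 n18143 = n15158 := d7_1 D18143 (iv D15158) (iv F26360)
theorem F32742 : act 5 n18143 = n16945 := d14_2 D15153 D18143 F32739 (iv D18142) (iv D15152)
theorem F32743 : act 3 n16946 = n18143 := d13_3 F32742 (iv D16945) D16946
theorem F32744 : act 2 n18143 = n17783 := d15_2 (iv F30225) F32743 (iv D17783) (iv D14743) (iv D11685) (iv F18303) F18304 D10918 (iv F23792)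
theorem F32745 : act 4 n17783 = n18141 := d10_2 D18143 F32744 F32735
def n18144 : Q := act 3 n15154
theorem D18144 : act 3 n15154 = n18144 := rfl
theorem F32746 : act 0 n18144 = n15430 := d2_1 D18144 F26992 (iv F26362)
theorem F32747 : act 1 n18144 = n15159 := d6_1 D18144 (iv D15159) (iv F26363)
theorem F32748 : act 4 n18144 = n16946 := d12_2 D15154 D18144 F32743 (iv D18143) F26361
theorem F32749 : act 5 n18144 = n15428 := d13_2 (iv F26365) D18144 (iv F26984)
theorem F32750 : act 2 n15612 = n18144 := d15_0 (iv D18144) F26364 F20348 (iv F21330) (iv F27381) (iv D15613) (iv D12530) D12531 (iv F27377)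
def n18145 : Q := act 4 n15155
theorem D18145 : act 4 n15155 = n18145 := rfl
theorem F32751 : act 0 n18145 = n16854 := d3_1 D18145 F30062 (iv F26366)
theorem F32752 : act 1 n18145 = n15156 := d7_1 D18145 (iv D15156) D15155
theorem F32753 : act 3 n18145 = n16853 := d12_1 D18145 (iv D16853) F23617 (iv F24393) (iv F26367)
def n18146 : Q := act 5 n15156
theorem D18146 : act 5 n15156 = n18146 := rfl
theorem F32754 : act 0 n18146 = n17312 := d4_1 D18146 F30944 (iv F26369)
theorem F32755 : act 2 n18146 = n15157 := d11_1 D18146 (iv D15157) (iv F26370)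
theorem F32756 : act 3 n18146 = n17530 := d13_1 D18146 (iv D17530) (iv F26371)
theorem F32757 : act 4 n18146 = n17304 := d14_1 D18146 (iv D17304) F24395 F20331 D15156
def n18147 : Q := act 4 n15157
theorem D18147 : act 4 n15157 = n18147 := rfl
theorem F32758 : act 0 n18147 = n17311 := d3_1 D18147 (iv F32718) F32714
theorem F32759 : act 1 n18147 = n16945 := d7_1 D18147 F32739 F32737
theorem F32760 : act 2 n18147 = n17304 := d10_1 D18147 (iv F32757) F32755
theorem F32761 : act 3 n18147 = n16943 := d12_1 D18147 (iv D16943) (iv F27428) (iv F32556) F32555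
theorem F32762 : act 5 n18147 = n15158 := d14_2 D15157 D18147 (iv D15158) (iv D12072) D12071
def n18148 : Q := act 3 n15158
theorem D18148 : act 3 n15158 = n18148 := rfl
theorem F32763 : act 0 n18148 = n15433 := d2_1 D18148 F27004 (iv F26372)
theorem F32764 : act 1 n18148 = n16946 := d6_1 D18148 F32743 F32741
theorem F32765 : act 4 n18148 = n15159 := d12_2 D15158 D18148 (iv D15159) (iv D12073) (iv F20334)
theorem F32766 : act 5 n18148 = n16943 := d13_2 F32762 D18148 (iv F32761)
theorem F32767 : act 2 n15437 = n18148 := d15_0 (iv D18148) F26373 (iv D14229) (iv F24367) D17291 (iv F32481) F32482 F26801 (iv F27011)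
def n18149 : Q := act 1 n15160
theorem D18149 : act 1 n15160 = n18149 := rfl
theorem F32768 : act 0 n18149 = n15298 := d0_1 D18149 F26716 F20620 (iv F20342) (iv F26377)
theorem F32769 : act 2 n18149 = n15731 := d5_2 D15160 D18149 F27620 F21402 (iv F20337)
theorem F32770 : act 5 n18149 = n15296 := d8_2 (iv F26378) D18149 F26712
def n18150 : Q := act 3 n15160
theorem D18150 : act 3 n15160 = n18150 := rfl
theorem F32771 : act 0 n18150 = n15163 := d2_1 D18150 (iv D15163) (iv F26377)
theorem F32772 : act 5 n18150 = n15310 := d13_2 (iv F26378) D18150 (iv D15310)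
def n18151 : Q := act 4 n15160
theorem D18151 : act 4 n15160 = n18151 := rfl
theorem F32773 : act 0 n18151 = n15164 := d3_1 D18151 (iv D15164) (iv F26377)
theorem F32774 : act 2 n18151 = n15161 := d10_1 D18151 (iv D15161) D15160
theorem F32775 : act 5 n18151 = n15320 := d14_2 (iv F26378) D18151 (iv D15320) (iv D12221) (iv F20643)
def n18152 : Q := act 2 n15163
theorem D18152 : act 2 n15163 = n18152 := rfl
theorem F32776 : act 5 n18152 = n15311 := d11_2 (iv F26389) D18152 (iv D15311)
def n18153 : Q := act 4 n15163
theorem D18153 : act 4 n15163 = n18153 := rfl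
theorem F32777 : act 1 n18153 = n15316 := d7_1 D18153 (iv D15316) (iv F26388)
def n18154 : Q := act 3 n15164
theorem D18154 : act 3 n15164 = n18154 := rfl
theorem F32778 : act 1 n18154 = n15317 := d6_1 D18154 (iv D15317) (iv F26390)
theorem F32779 : act 5 n18154 = n15322 := d13_2 (iv F26392) D18154 (iv D15322)
def n18155 : Q := act 1 n15165
theorem D18155 : act 1 n15165 = n18155 := rfl
theorem F32780 : act 0 n18155 = n15329 := d0_1 D18155 F26768 F20669 (iv F20356) (iv F26393)
theorem F32781 : act 2 n18155 = n15355 := d5_2 D15165 D18155 F26833 F20738 (iv F20351)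
theorem F32782 : act 5 n18155 = n15327 := d8_2 (iv F26394) D18155 F26764
def n18156 : Q := act 3 n15165
theorem D18156 : act 3 n15165 = n18156 := rfl
theorem F32783 : act 0 n18156 = n15168 := d2_1 D18156 (iv D15168) (iv F26393)
theorem F32784 : act 5 n18156 = n15332 := d13_2 (iv F26394) D18156 (iv D15332)
def n18157 : Q := act 4 n15165
theorem D18157 : act 4 n15165 = n18157 := rfl
theorem F32785 : act 0 n18157 = n15169 := d3_1 D18157 (iv D15169) (iv F26393)
theorem F32786 : act 2 n18157 = n15166 := d10_1 D18157 (iv D15166) D15165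
def n18158 : Q := act 2 n15168
theorem D18158 : act 2 n15168 = n18158 := rfl
theorem F32787 : act 1 n18158 = n15337 := d5_1 D18158 F27439 F21246 (iv F20679) (iv F26399)
theorem F32788 : act 5 n18158 = n15333 := d11_2 (iv F26400) D18158 (iv D15333)
def n18159 : Q := act 4 n15168
theorem D18159 : act 4 n15168 = n18159 := rfl
theorem F32789 : act 1 n18159 = n15338 := d7_1 D18159 (iv D15338) (iv F26399)
def n18160 : Q := act 3 n15169
theorem D18160 : act 3 n15169 = n18160 := rfl
theorem F32790 : act 1 n18160 = n15339 := d6_1 D18160 (iv D15339) (iv F26401)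
def n18161 : Q := act 2 n15171
theorem D18161 : act 2 n15171 = n18161 := rfl
theorem F32791 : act 0 n18161 = n15218 := d1_1 D18161 F26516 (iv F26408)
theorem F32792 : act 1 n18161 = n17166 := d5_1 D18161 F32002 F32000 (iv D15172) (iv F26409)
theorem F32793 : act 3 n18161 = n15215 := d9_2 D15171 D18161 (iv D15215) (iv D12121) F15777 D9702 D12437 F26077 (iv F24129) (iv F26076) F25502 F19683 F15780 (iv F15738) (iv F20360)
theorem F32794 : act 5 n18161 = n15524 := d11_2 (iv F26410) D18161 (iv D15524)
theorem F32795 : act 4 n17150 = n18161 := d14_5 F32794 F27177 (iv D14063) D14062 D17150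
def n18162 : Q := act 4 n15171
theorem D18162 : act 4 n15171 = n18162 := rfl
theorem F32796 : act 0 n18162 = n15633 := d3_1 D18162 F27426 (iv F26408)
theorem F32797 : act 1 n18162 = n15173 := d7_1 D18162 (iv D15173) (iv F26409)
theorem F32798 : act 2 n18162 = n17150 := d10_1 D18162 F32795 (iv D18161)
theorem F32799 : act 3 n18162 = n15764 := d12_1 D18162 (iv D15764) (iv D12691) (iv F20361) D15171
theorem F32800 : act 5 n18162 = n15630 := d14_2 (iv F26410) D18162 (iv D15630) F21231 (iv F26083)
def n18163 : Q := act 4 n15172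
theorem D18163 : act 4 n15172 = n18163 := rfl
theorem F32801 : act 0 n18163 = n15499 := d3_1 D18163 (iv D15499) (iv F26411)
theorem F32802 : act 2 n18163 = n15173 := d10_1 D18163 (iv D15173) D15172
def n18164 : Q := act 5 n15173
theorem D18164 : act 5 n15173 = n18164 := rfl
theorem F32803 : act 0 n18164 = n15532 := d4_1 D18164 (iv D15532) (iv F26414)
theorem F32804 : act 1 n18164 = n15630 := d8_1 D18164 (iv F32800) F32797
theorem F32805 : act 3 n18164 = n15765 := d13_1 D18164 (iv D15765) (iv F26415)
theorem F32806 : act 4 n18164 = n15629 := d14_1 D18164 F27417 F26420 (iv D15174) D15173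
def n18165 : Q := act 3 n15176
theorem D18165 : act 3 n15176 = n18165 := rfl
theorem F32807 : act 0 n18165 = n15177 := d2_1 D18165 (iv D15177) D15176
theorem F32808 : act 1 n18165 = n15186 := d6_1 D18165 (iv D15186) (iv F26426)
theorem F32809 : act 4 n18165 = n15523 := d12_2 (iv F26428) D18165 (iv D15523) (iv D12439) (iv F20384)
def n18166 : Q := act 5 n15176
theorem D18166 : act 5 n15176 = n18166 := rfl
theorem F32810 : act 0 n18166 = n15178 := d4_1 D18166 (iv D15178) D15176
theorem F32811 : act 1 n18166 = n15187 := d8_1 D18166 (iv D15187) (iv F26426)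
theorem F32812 : act 2 n18166 = n15762 := d11_1 D18166 (iv D15762) (iv F26427)
theorem F32813 : act 4 n18166 = n15522 := d14_1 D18166 (iv D15522) (iv D12438) (iv F20385) (iv F26428)
def n18167 : Q := act 2 n15177
theorem D18167 : act 2 n15177 = n18167 := rfl
theorem F32814 : act 4 n18167 = n15526 := d10_2 (iv F26430) D18167 (iv D15526)
def n18168 : Q := act 5 n15177
theorem D18168 : act 5 n15177 = n18168 := rfl
theorem F32815 : act 1 n18168 = n15180 := d8_1 D18168 (iv D15180) (iv F26429)
theorem F32816 : act 3 n18168 = n15178 := d13_1 D18168 (iv D15178) D15177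
def n18169 : Q := act 1 n15179
theorem D18169 : act 1 n15179 = n18169 := rfl
theorem F32817 : act 3 n18169 = n15183 := d6_2 (iv F26435) D18169 F26445
theorem F32818 : act 4 n18169 = n15527 := d7_2 (iv F26436) D18169 (iv D15527)
theorem F32819 : act 5 n18169 = n15182 := d8_2 F26437 D18169 F26444
def n18170 : Q := act 4 n15180
theorem D18170 : act 4 n15180 = n18170 := rfl
theorem F32820 : act 0 n18170 = n15195 := d3_1 D18170 (iv D15195) (iv F26438)
theorem F32821 : act 2 n18170 = n15184 := d10_1 D18170 (iv D15184) (iv F26439)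
theorem F32822 : act 3 n18170 = n15519 := d12_1 D18170 (iv D15519) F21000 (iv F20377) (iv F26440)
theorem F32823 : act 5 n18170 = n15520 := d14_2 D15180 D18170 F27170 F21002 (iv F20374)
def n18171 : Q := act 3 n15181
theorem D18171 : act 3 n15181 = n18171 := rfl
theorem F32824 : act 0 n18171 = n15182 := d2_1 D18171 (iv D15182) D15181
theorem F32825 : act 1 n18171 = n17010 := d6_1 D18171 (iv D17010) (iv F26441)
def n18172 : Q := act 5 n15181
theorem D18172 : act 5 n15181 = n18172 := rfl
theorem F32826 : act 0 n18172 = n15183 := d4_1 D18172 (iv D15183) D15181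
theorem F32827 : act 1 n18172 = n17009 := d8_1 D18172 F30374 (iv F26441)
theorem F32828 : act 2 n18172 = n15750 := d11_1 D18172 (iv D15750) (iv F26442)
def n18173 : Q := act 2 n15182
theorem D18173 : act 2 n15182 = n18173 := rfl
def n18174 : Q := act 4 n15182
theorem D18174 : act 4 n15182 = n18174 := rfl
theorem F32829 : act 1 n18174 = n15184 := d7_1 D18174 (iv D15184) (iv F26444)
theorem F32830 : act 3 n18174 = n16642 := d12_1 D18174 F29574 F23122 (iv F20387) D15182
theorem F32831 : act 2 n17056 = n18174 := d15_2 D13980 D17056 F32830 F29573 D16763 (iv F29869) (iv F30458) (iv D17054) F23976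
theorem F32832 : act 4 n18173 = n17056 := d10_0 F32831 (iv D18174) D18173
def n18175 : Q := act 4 n15183
theorem D18175 : act 4 n15183 = n18175 := rfl
theorem F32833 : act 1 n18175 = n15185 := d7_1 D18175 (iv D15185) (iv F26445)
theorem F32834 : act 2 n18175 = n15753 := d10_1 D18175 (iv D15753) (iv F26446)
theorem F32835 : act 5 n18175 = n16974 := d14_2 D15183 D18175 F30281 F23853 (iv F20387)
def n18176 : Q := act 5 n15184
theorem D18176 : act 5 n15184 = n18176 := rfl
theorem F32836 : act 0 n18176 = n17013 := d4_1 D18176 (iv D17013) (iv F26447)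
theorem F32837 : act 2 n18176 = n15520 := d11_1 D18176 (iv F32823) F32821
theorem F32838 : act 3 n18176 = n16641 := d13_1 D18176 F29572 (iv F26448)
theorem F32839 : act 4 n18176 = n15521 := d14_1 D18176 F27171 (iv F26436) (iv F26437) D15184
def n18177 : Q := act 3 n15185
theorem D18177 : act 3 n15185 = n18177 := rfl
theorem F32840 : act 0 n18177 = n17008 := d2_1 D18177 (iv D17008) (iv F26449)
theorem F32841 : act 2 n18177 = n17021 := d9_1 D18177 (iv D17021) (iv D13943) (iv D10973) F14161 D8520 D10974 D13945 D17024 F30400 F24021 F18501 (iv F16266) (iv F20393) (iv F26450)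
theorem F32842 : act 4 n18177 = n15528 := d12_2 D15185 D18177 (iv D15528) (iv F26436) F26435
theorem F32843 : act 5 n18177 = n16975 := d13_2 (iv F26451) D18177 (iv D16975)
def n18178 : Q := act 2 n15186
theorem D18178 : act 2 n15186 = n18178 := rfl
theorem F32844 : act 0 n18178 = n15188 := d1_1 D18178 (iv D15188) (iv F26452)
theorem F32845 : act 3 n18178 = n15778 := d15_1 D18178 (iv D15778) (iv D12713) F16614 (iv F16210) (iv F20399) (iv F26458) (iv D15190) (iv F26452)
def n18179 : Q := act 4 n15186
theorem D18179 : act 4 n15186 = n18179 := rfl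
theorem F32846 : act 0 n18179 = n15189 := d3_1 D18179 (iv D15189) (iv F26452)
theorem F32847 : act 1 n18179 = n15523 := d7_1 D18179 (iv F32809) F32808
theorem F32848 : act 3 n18179 = n15198 := d12_1 D18179 (iv D15198) (iv D12104) (iv F20396) D15186
def n18180 : Q := act 5 n15186
theorem D18180 : act 5 n15186 = n18180 := rfl
theorem F32849 : act 0 n18180 = n15190 := d4_1 D18180 (iv D15190) (iv F26452)
theorem F32850 : act 3 n18180 = n15187 := d13_1 D18180 (iv D15187) D15186
def n18181 : Q := act 4 n15187
theorem D18181 : act 4 n15187 = n18181 := rfl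
theorem F32851 : act 0 n18181 = n15191 := d3_1 D18181 (iv D15191) (iv F26453)
theorem F32852 : act 1 n18181 = n15522 := d7_1 D18181 (iv F32813) F32811
theorem F32853 : act 2 n18181 = n15536 := d10_1 D18181 (iv D15536) (iv F26454)
theorem F32854 : act 5 n18181 = n15199 := d14_2 D15187 D18181 (iv D15199) (iv D12105) (iv F20396)
def n18182 : Q := act 1 n15188
theorem D18182 : act 1 n15188 = n18182 := rfl
theorem F32855 : act 2 n18182 = n15192 := d5_2 D15188 D18182 (iv D15192) (iv D12100) (iv F20397)
theorem F32856 : act 5 n17011 = n18182 := d11_0 F32855 F26463 D17011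
def n18183 : Q := act 3 n15188
theorem D18183 : act 3 n15188 = n18183 := rfl
theorem F32857 : act 0 n18183 = n15778 := d2_1 D18183 (iv F32845) F32844
theorem F32858 : act 2 n18183 = n15777 := d15_2 D15188 D18183 (iv D15777) F21476 (iv F21020) (iv F26454) (iv F32850) (iv D18180) F26452
def n18184 : Q := act 4 n15188
theorem D18184 : act 4 n15188 = n18184 := rfl
theorem F32859 : act 2 n18184 = n15189 := d10_1 D18184 (iv D15189) D15188
def n18185 : Q := act 5 n15188
theorem D18185 : act 5 n15188 = n18185 := rfl
theorem F32860 : act 1 n18185 = n17011 := d8_1 D18185 F32856 (iv D18182)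
theorem F32861 : act 2 n18185 = n15190 := d11_1 D18185 (iv D15190) D15188
def n18186 : Q := act 5 n15189
theorem D18186 : act 5 n15189 = n18186 := rfl
theorem F32862 : act 1 n18186 = n15194 := d8_1 D18186 (iv D15194) (iv F26455)
theorem F32863 : act 3 n18186 = n15202 := d13_1 D18186 (iv D15202) (iv F26456)
def n18187 : Q := act 4 n15190
theorem D18187 : act 4 n15190 = n18187 := rfl
theorem F32864 : act 1 n18187 = n15195 := d7_1 D18187 (iv D15195) (iv F26457)
def n18188 : Q := act 3 n15191
theorem D18188 : act 3 n15191 = n18188 := rfl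
theorem F32865 : act 1 n18188 = n15196 := d6_1 D18188 (iv D15196) (iv F26459)
theorem F32866 : act 5 n18188 = n15203 := d13_2 (iv F26461) D18188 (iv D15203)
def n18189 : Q := act 0 n15192
theorem D18189 : act 0 n15192 = n18189 := rfl
theorem F32867 : act 3 n18189 = n17009 := d2_2 (iv F26462) D18189 (iv D17009)
theorem F32868 : act 5 n18189 = n17010 := d4_2 (iv F26463) D18189 F30375
def n18190 : Q := act 4 n15192
theorem D18190 : act 4 n15192 = n18190 := rfl
theorem F32869 : act 1 n18190 = n15193 := d7_1 D18190 (iv D15193) D15192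
def n18191 : Q := act 3 n15193
theorem D18191 : act 3 n15193 = n18191 := rfl
theorem F32870 : act 0 n18191 = n15528 := d2_1 D18191 (iv D15528) (iv F26464)
theorem F32871 : act 4 n18191 = n17008 := d12_2 D15193 D18191 (iv D17008) F23902 (iv F20400)
theorem F32872 : act 2 n18191 = n15241 := d15_2 (iv F26465) D18191 (iv D15241) F20518 F15828 (iv F16191) D12436 F21002 (iv F20402)
theorem F32873 : act 5 n15256 = n18191 := d11_0 F32872 F26588 D15256
def n18192 : Q := act 5 n15193
theorem D18192 : act 5 n15193 = n18192 := rfl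
theorem F32874 : act 0 n18192 = n15521 := d4_1 D18192 F27171 (iv F26464)
theorem F32875 : act 2 n18192 = n15194 := d11_1 D18192 (iv D15194) (iv F26465)
theorem F32876 : act 3 n18192 = n15256 := d13_1 D18192 F32873 (iv D18191)
theorem F32877 : act 4 n18192 = n17013 := d14_1 D18192 (iv D17013) (iv D13936) F20401 D15193
def n18193 : Q := act 4 n15194
theorem D18193 : act 4 n15194 = n18193 := rfl
theorem F32878 : act 0 n18193 = n15520 := d3_1 D18193 F27170 (iv F26466)
theorem F32879 : act 2 n18193 = n17013 := d10_1 D18193 (iv F32877) F32875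
theorem F32880 : act 3 n18193 = n15503 := d12_1 D18193 (iv D15503) F20979 (iv F20423) (iv F26467)
theorem F32881 : act 5 n18193 = n15195 := d14_2 D15194 D18193 (iv D15195) (iv D12102) D12101
def n18194 : Q := act 3 n15195
theorem D18194 : act 3 n15195 = n18194 := rfl
theorem F32882 : act 0 n18194 = n15519 := d2_1 D18194 (iv F32822) F32820
theorem F32883 : act 2 n18194 = n15504 := d9_1 D18194 F27130 F23000 D13574 D16641 (iv F32838) F32837 (iv D15520) F21001 (iv D10628) (iv F17782) D13538 (iv F23017) (iv F23909) (iv F26468)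
theorem F32884 : act 4 n18194 = n15196 := d12_2 D15195 D18194 (iv D15196) (iv D12103) (iv F20405)
theorem F32885 : act 5 n18194 = n15503 := d13_2 F32881 D18194 (iv F32880)
def n18195 : Q := act 2 n15196
theorem D18195 : act 2 n15196 = n18195 := rfl
theorem F32886 : act 0 n18195 = n15518 := d1_1 D18195 F27165 (iv F26469)
theorem F32887 : act 3 n18195 = n15549 := d9_2 D15196 D18195 (iv D15549) (iv D12469) F16256 (iv F15742) F15741 (iv F16188) (iv F20999) (iv F27162) F27161 (iv D12483) F16278 (iv F15752) (iv F20407)
theorem F32888 : act 4 n18195 = n15504 := d10_2 F32884 D18195 (iv F32883)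
theorem F32889 : act 5 n18195 = n15204 := d11_2 (iv F26470) D18195 (iv D15204)
def n18196 : Q := act 4 n15197
theorem D18196 : act 4 n15197 = n18196 := rfl
theorem F32890 : act 0 n18196 = n15201 := d3_1 D18196 (iv D15201) (iv F26471)
theorem F32891 : act 2 n18196 = n15198 := d10_1 D18196 (iv D15198) D15197
def n18197 : Q := act 5 n15198
theorem D18197 : act 5 n15198 = n18197 := rfl
theorem F32892 : act 0 n18197 = n15202 := d4_1 D18197 (iv D15202) (iv F26473)
theorem F32893 : act 1 n18197 = n15509 := d8_1 D18197 F27140 (iv F26474)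
theorem F32894 : act 4 n18197 = n15502 := d14_1 D18197 (iv D15502) F20971 F20411 D15198
def n18198 : Q := act 3 n15199
theorem D18198 : act 3 n15199 = n18198 := rfl
theorem F32895 : act 0 n18198 = n15203 := d2_1 D18198 (iv D15203) (iv F26475)
theorem F32896 : act 1 n18198 = n15507 := d6_1 D18198 F27136 (iv F26476)
theorem F32897 : act 4 n18198 = n15501 := d12_2 D15199 D18198 (iv D15501) F20971 (iv F20415)
def n18199 : Q := act 4 n15200
theorem D18199 : act 4 n15200 = n18199 := rfl
theorem F32898 : act 1 n18199 = n15499 := d7_1 D18199 (iv D15499) (iv F26478)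
theorem F32899 : act 2 n18199 = n16950 := d10_1 D18199 F32548 F32546
theorem F32900 : act 5 n18199 = n16948 := d14_2 (iv F26479) D18199 (iv D16948) F23798 (iv F21823)
def n18200 : Q := act 3 n15201
theorem D18200 : act 3 n15201 = n18200 := rfl
theorem F32901 : act 1 n18200 = n15500 := d6_1 D18200 (iv D15500) (iv F26480)
def n18201 : Q := act 5 n15201
theorem D18201 : act 5 n15201 = n18201 := rfl
theorem F32902 : act 1 n18201 = n15495 := d8_1 D18201 F27110 (iv F26480)
theorem F32903 : act 2 n18201 = n15202 := d11_1 D18201 (iv D15202) (iv F26481)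
theorem F32904 : act 4 n18201 = n15494 := d14_1 D18201 (iv D15494) F20952 (iv F20417) D15201
def n18202 : Q := act 3 n15204
theorem D18202 : act 3 n15204 = n18202 := rfl
theorem F32905 : act 0 n18202 = n15517 := d2_1 D18202 F27162 (iv F26486)
theorem F32906 : act 2 n18202 = n15548 := d9_1 D18202 (iv D15548) F21056 (iv F20381) F20380 (iv F21000) (iv F27165) F27166 (iv D12492) (iv D9756) F12431 (iv F12064) (iv F15763) D12110 D15204
theorem F32907 : act 4 n18202 = n15505 := d12_2 (iv F26487) D18202 (iv D15505) (iv D12425) (iv F20975)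
theorem F32908 : act 5 n18202 = n15549 := d13_2 F32889 D18202 (iv F32887)
def n18203 : Q := act 3 n15208
theorem D18203 : act 3 n15208 = n18203 := rfl
theorem F32909 : act 0 n18203 = n15500 := d2_1 D18203 (iv D15500) (iv F26496)
def n18204 : Q := act 2 n15209
theorem D18204 : act 2 n15209 = n18204 := rfl
theorem F32910 : act 0 n18204 = n15211 := d1_1 D18204 (iv D15211) (iv F26498)
def n18205 : Q := act 4 n15209
theorem D18205 : act 4 n15209 = n18205 := rfl
theorem F32911 : act 0 n18205 = n15212 := d3_1 D18205 (iv D15212) (iv F26498)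
theorem F32912 : act 1 n18205 = n15942 := d7_1 D18205 F28023 F27389
theorem F32913 : act 3 n18205 = n15216 := d12_1 D18205 (iv D15216) (iv D12121) (iv F20436) D15209
def n18206 : Q := act 4 n15210
theorem D18206 : act 4 n15210 = n18206 := rfl
theorem F32914 : act 0 n18206 = n15213 := d3_1 D18206 (iv D15213) (iv F26499)
theorem F32915 : act 2 n18206 = n15509 := d10_1 D18206 (iv D15509) (iv F26500)
theorem F32916 : act 5 n18206 = n15217 := d14_2 D15210 D18206 (iv D15217) (iv D12122) (iv F20436)
def n18207 : Q := act 3 n15211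
theorem D18207 : act 3 n15211 = n18207 := rfl
def n18208 : Q := act 4 n15211
theorem D18208 : act 4 n15211 = n18208 := rfl
theorem F32917 : act 1 n18208 = n15857 := d7_1 D18208 F27894 F27408
theorem F32918 : act 2 n18208 = n15212 := d10_1 D18208 (iv D15212) D15211
theorem F32919 : act 5 n18208 = n15855 := d14_2 (iv F27407) D18208 F27892 D15860 (iv F27898)
def n18209 : Q := act 3 n15213
theorem D18209 : act 3 n15213 = n18209 := rfl
theorem F32920 : act 1 n18209 = n15214 := d6_1 D18209 (iv D15214) (iv F26503)
theorem F32921 : act 4 n18209 = n15585 := d12_2 D15213 D18209 F27413 (iv D15628) F21207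
theorem F32922 : act 5 n18209 = n15221 := d13_2 (iv F26505) D18209 (iv D15221)
def n18210 : Q := act 4 n15215
theorem D18210 : act 4 n15215 = n18210 := rfl
theorem F32923 : act 0 n18210 = n15219 := d3_1 D18210 (iv D15219) (iv F26509)
theorem F32924 : act 2 n18210 = n15216 := d10_1 D18210 (iv D15216) D15215
def n18211 : Q := act 5 n15216
theorem D18211 : act 5 n15216 = n18211 := rfl
theorem F32925 : act 0 n18211 = n15220 := d4_1 D18211 (iv D15220) (iv F26510)
theorem F32926 : act 1 n18211 = n15941 := d8_1 D18211 F28021 (iv F26511)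
def n18212 : Q := act 3 n15217
theorem D18212 : act 3 n15217 = n18212 := rfl
theorem F32927 : act 0 n18212 = n15221 := d2_1 D18212 (iv D15221) (iv F26512)
def n18213 : Q := act 4 n15218
theorem D18213 : act 4 n15218 = n18213 := rfl
theorem F32928 : act 0 n18213 = n17150 := d3_1 D18213 F32795 F32791
theorem F32929 : act 1 n18213 = n15928 := d7_1 D18213 (iv D15928) (iv F26514)
theorem F32930 : act 2 n18213 = n15633 := d10_1 D18213 F27426 (iv F26516)
theorem F32931 : act 5 n18213 = n15632 := d14_2 (iv F26515) D18213 (iv D15632) F21234 D14083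
def n18214 : Q := act 3 n15219
theorem D18214 : act 3 n15219 = n18214 := rfl
theorem F32932 : act 1 n18214 = n15878 := d6_1 D18214 (iv D15878) (iv F26517)
def n18215 : Q := act 5 n15219
theorem D18215 : act 5 n15219 = n18215 := rfl
theorem F32933 : act 1 n18215 = n15879 := d8_1 D18215 (iv D15879) (iv F26517)
theorem F32934 : act 2 n18215 = n15220 := d11_1 D18215 (iv D15220) (iv F26518)
def n18216 : Q := act 2 n15221
theorem D18216 : act 2 n15221 = n18216 := rfl
def n18217 : Q := act 1 n15222
theorem D18217 : act 1 n15222 = n18217 := rfl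
theorem F32935 : act 3 n18217 = n15287 := d6_2 (iv F26524) D18217 F26687
theorem F32936 : act 4 n18217 = n17155 := d7_2 (iv F26522) D18217 F30636
theorem F32937 : act 5 n18217 = n15286 := d8_2 (iv F26523) D18217 F26685
def n18218 : Q := act 5 n15223
theorem D18218 : act 5 n15223 = n18218 := rfl
theorem F32938 : act 0 n18218 = n15228 := d4_1 D18218 (iv D15228) (iv F26525)
theorem F32939 : act 1 n18218 = n15556 := d8_1 D18218 F27257 (iv F26526)
theorem F32940 : act 2 n18218 = n15542 := d11_1 D18218 F27225 (iv F26527)
theorem F32941 : act 3 n18218 = n17064 := d13_1 D18218 (iv D17064) (iv F26528)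
theorem F32942 : act 4 n18218 = n15541 := d14_1 D18218 (iv D15541) (iv D12460) (iv F20462) D15223
def n18219 : Q := act 3 n15224
theorem D18219 : act 3 n15224 = n18219 := rfl
theorem F32943 : act 0 n18219 = n15229 := d2_1 D18219 (iv D15229) (iv F26529)
theorem F32944 : act 1 n18219 = n15554 := d6_1 D18219 F27252 (iv F26530)
theorem F32945 : act 4 n18219 = n15540 := d12_2 D15224 D18219 (iv D15540) (iv D12460) (iv F20466)
theorem F32946 : act 5 n18219 = n17066 := d13_2 (iv F26532) D18219 (iv D17066)
def n18220 : Q := act 5 n15225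
theorem D18220 : act 5 n15225 = n18220 := rfl
theorem F32947 : act 0 n18220 = n17064 := d4_1 D18220 (iv D17064) (iv F26533)
theorem F32948 : act 1 n18220 = n15548 := d8_1 D18220 F27236 (iv F26534)
theorem F32949 : act 2 n18220 = n17705 := d11_1 D18220 F31794 (iv F26535)
theorem F32950 : act 3 n18220 = n15228 := d13_1 D18220 (iv D15228) (iv F26536)
theorem F32951 : act 4 n18220 = n17107 := d14_1 D18220 F30537 F25256 F20474 D15225
def n18221 : Q := act 3 n15226
theorem D18221 : act 3 n15226 = n18221 := rfl
theorem F32952 : act 0 n18221 = n17066 := d2_1 D18221 (iv D17066) (iv F26537)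
theorem F32953 : act 1 n18221 = n15289 := d6_1 D18221 F26695 (iv F26538)
theorem F32954 : act 4 n18221 = n17095 := d12_2 D15226 D18221 F30515 F25256 (iv F20478)
theorem F32955 : act 5 n18221 = n15229 := d13_2 (iv F26540) D18221 (iv D15229)
def n18222 : Q := act 3 n15227
theorem D18222 : act 3 n15227 = n18222 := rfl
theorem F32956 : act 0 n18222 = n15543 := d2_1 D18222 (iv D15543) (iv F26541)
theorem F32957 : act 1 n18222 = n15539 := d6_1 D18222 (iv D15539) (iv F26542)
theorem F32958 : act 4 n18222 = n15539 := d12_2 D15227 D18222 (iv D15539) (iv D12459) (iv F20484)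
theorem F32959 : act 5 n18222 = n18087 := d13_2 (iv F26544) D18222 (iv D18087)
def n18223 : Q := act 2 n15229
theorem D18223 : act 2 n15229 = n18223 := rfl
theorem F32960 : act 4 n18223 = n15545 := d10_2 (iv F26549) D18223 (iv D15545)
def n18224 : Q := act 4 n15230
theorem D18224 : act 4 n15230 = n18224 := rfl
theorem F32961 : act 0 n18224 = n15231 := d3_1 D18224 (iv D15231) (iv F26550)
theorem F32962 : act 1 n18224 = n15243 := d7_1 D18224 (iv D15243) (iv F26551)
theorem F32963 : act 2 n18224 = n15285 := d10_1 D18224 (iv D15285) (iv F26552)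
theorem F32964 : act 3 n18224 = n17068 := d12_1 D18224 (iv D17068) (iv D13992) (iv F20491) D15230
def n18225 : Q := act 5 n15231
theorem D18225 : act 5 n15231 = n18225 := rfl
theorem F32965 : act 1 n18225 = n15233 := d8_1 D18225 (iv D15233) (iv F26554)
theorem F32966 : act 2 n18225 = n15287 := d11_1 D18225 (iv D15287) (iv F26555)
theorem F32967 : act 3 n18225 = n17071 := d13_1 D18225 (iv D17071) (iv F26556)
theorem F32968 : act 4 n18225 = n15278 := d14_1 D18225 (iv D15278) (iv D12181) F20495 D15231
def n18226 : Q := act 3 n15232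
theorem D18226 : act 3 n15232 = n18226 := rfl
theorem F32969 : act 0 n18226 = n15569 := d2_1 D18226 (iv D15569) (iv F26557)
theorem F32970 : act 1 n18226 = n15234 := d6_1 D18226 (iv D15234) (iv F26558)
theorem F32971 : act 4 n18226 = n15277 := d12_2 D15232 D18226 (iv D15277) (iv D12181) (iv F20499)
theorem F32972 : act 5 n18226 = n17072 := d13_2 (iv F26560) D18226 (iv D17072)
def n18227 : Q := act 2 n15234
theorem D18227 : act 2 n15234 = n18227 := rfl
theorem F32973 : act 0 n18227 = n15256 := d1_1 D18227 (iv D15256) (iv F26565)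
theorem F32974 : act 3 n18227 = n15521 := d9_2 D15234 D18227 (iv D15521) (iv D12436) F16191 (iv F15828) (iv F20518) D15241 (iv F32872) (iv D18191) F26465 F20403 F15761 (iv F15816) (iv F20504)
theorem F32975 : act 4 n18227 = n15279 := d10_2 (iv F26566) D18227 (iv D15279)
theorem F32976 : act 5 n18227 = n15528 := d11_2 (iv F26567) D18227 F27183
def n18228 : Q := act 2 n15235
theorem D18228 : act 2 n15235 = n18228 := rfl
theorem F32977 : act 0 n18228 = n15237 := d1_1 D18228 (iv D15237) (iv F26568)
theorem F32978 : act 5 n18228 = n17080 := d11_2 F26570 D18228 F30494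
def n18229 : Q := act 4 n15235
theorem D18229 : act 4 n15235 = n18229 := rfl
theorem F32979 : act 0 n18229 = n15238 := d3_1 D18229 (iv D15238) (iv F26568)
theorem F32980 : act 1 n18229 = n17068 := d7_1 D18229 (iv D17068) (iv F26569)
theorem F32981 : act 3 n18229 = n15243 := d12_1 D18229 (iv D15243) (iv D12148) (iv F20508) D15235
def n18230 : Q := act 4 n15236
theorem D18230 : act 4 n15236 = n18230 := rfl
theorem F32982 : act 0 n18230 = n15239 := d3_1 D18230 (iv D15239) (iv F26571)
theorem F32983 : act 1 n18230 = n15570 := d7_1 D18230 F27291 (iv F26572)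
theorem F32984 : act 2 n18230 = n15266 := d10_1 D18230 (iv D15266) (iv F26573)
theorem F32985 : act 5 n18230 = n15245 := d14_2 D15236 D18230 (iv D15245) (iv D12149) (iv F20508)
def n18231 : Q := act 3 n15237
theorem D18231 : act 3 n15237 = n18231 := rfl
theorem F32986 : act 1 n18231 = n17085 := d6_1 D18231 F30502 (iv F26575)
theorem F32987 : act 5 n18231 = n17081 := d13_2 (iv F26576) D18231 (iv D17081)
theorem F32988 : act 2 n18231 = n17115 := d15_2 D15237 D18231 F30555 F24047 (iv F20559) (iv F26573) F26574 F26570 F26568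
def n18232 : Q := act 4 n15237
theorem D18232 : act 4 n15237 = n18232 := rfl
theorem F32989 : act 1 n18232 = n17088 := d7_1 D18232 (iv D17088) (iv F26575)
theorem F32990 : act 2 n18232 = n15238 := d10_1 D18232 (iv D15238) D15237
def n18233 : Q := act 5 n15238
theorem D18233 : act 5 n15238 = n18233 := rfl
theorem F32991 : act 1 n18233 = n15240 := d8_1 D18233 (iv D15240) (iv F26577)
theorem F32992 : act 3 n18233 = n15249 := d13_1 D18233 (iv D15249) (iv F26578)
theorem F32993 : act 4 n18233 = n17094 := d14_1 D18233 (iv D17094) (iv D14011) F20510 D15238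
def n18234 : Q := act 3 n15239
theorem D18234 : act 3 n15239 = n18234 := rfl
theorem F32994 : act 1 n18234 = n15241 := d6_1 D18234 (iv D15241) (iv F26579)
theorem F32995 : act 4 n18234 = n17093 := d12_2 D15239 D18234 (iv D17093) (iv D14011) (iv F20513)
theorem F32996 : act 5 n18234 = n15251 := d13_2 (iv F26581) D18234 (iv D15251)
def n18235 : Q := act 4 n15242
theorem D18235 : act 4 n15242 = n18235 := rfl
theorem F32997 : act 0 n18235 = n15247 := d3_1 D18235 (iv D15247) (iv F26589)
theorem F32998 : act 2 n18235 = n15243 := d10_1 D18235 (iv D15243) D15242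
def n18236 : Q := act 5 n15243
theorem D18236 : act 5 n15243 = n18236 := rfl
theorem F32999 : act 0 n18236 = n15249 := d4_1 D18236 (iv D15249) (iv F26591)
def n18237 : Q := act 4 n15244
theorem D18237 : act 4 n15244 = n18237 := rfl
theorem F33000 : act 0 n18237 = n15250 := d3_1 D18237 (iv D15250) (iv F26592)
theorem F33001 : act 1 n18237 = n15276 := d7_1 D18237 (iv D15276) (iv F26593)
def n18238 : Q := act 3 n15245
theorem D18238 : act 3 n15245 = n18238 := rfl
theorem F33002 : act 0 n18238 = n15251 := d2_1 D18238 (iv D15251) (iv F26595)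
theorem F33003 : act 1 n18238 = n15569 := d6_1 D18238 (iv D15569) (iv F26596)
def n18239 : Q := act 4 n15246
theorem D18239 : act 4 n15246 = n18239 := rfl
theorem F33004 : act 0 n18239 = n15273 := d3_1 D18239 F26663 F26599
theorem F33005 : act 1 n18239 = n15247 := d7_1 D18239 (iv D15247) D15246
theorem F33006 : act 2 n18239 = n15252 := d10_1 D18239 (iv D15252) (iv F26598)
def n18240 : Q := act 3 n15247
theorem D18240 : act 3 n15247 = n18240 := rfl
def n18241 : Q := act 5 n15247
theorem D18241 : act 5 n15247 = n18241 := rfl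
theorem F33007 : act 2 n18241 = n15249 := d11_1 D18241 (iv D15249) (iv F26602)
def n18242 : Q := act 4 n15248
theorem D18242 : act 4 n15248 = n18242 := rfl
theorem F33008 : act 1 n18242 = n15274 := d7_1 D18242 (iv D15274) (iv F26603)
theorem F33009 : act 2 n18242 = n15250 := d10_1 D18242 (iv D15250) (iv F26604)
def n18243 : Q := act 4 n15249
theorem D18243 : act 4 n15249 = n18243 := rfl
theorem F33010 : act 1 n18243 = n15254 := d7_1 D18243 (iv D15254) (iv F26606)
theorem F33011 : act 5 n18243 = n15250 := d14_2 D15249 D18243 (iv D15250) (iv D12152) D12151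
def n18244 : Q := act 3 n15250
theorem D18244 : act 3 n15250 = n18244 := rfl
theorem F33012 : act 1 n18244 = n15255 := d6_1 D18244 (iv D15255) (iv F26607)
theorem F33013 : act 4 n18244 = n15251 := d12_2 D15250 D18244 (iv D15251) (iv D12153) (iv F20526)
def n18245 : Q := act 2 n15251
theorem D18245 : act 2 n15251 = n18245 := rfl
def n18246 : Q := act 5 n15252
theorem D18246 : act 5 n15252 = n18246 := rfl
theorem F33014 : act 0 n18246 = n15271 := d4_1 D18246 F26659 (iv F26609)
theorem F33015 : act 1 n18246 = n15253 := d8_1 D18246 (iv D15253) (iv F26610)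
theorem F33016 : act 3 n18246 = n15266 := d13_1 D18246 F26648 (iv F26611)
theorem F33017 : act 4 n18246 = n15275 := d14_1 D18246 (iv D15275) (iv D12178) (iv F20531) D15252
def n18247 : Q := act 3 n15254
theorem D18247 : act 3 n15254 = n18247 := rfl
theorem F33018 : act 0 n18247 = n15280 := d2_1 D18247 F26675 (iv F26616)
theorem F33019 : act 2 n18247 = n15491 := d9_1 D18247 (iv D15491) (iv D12404) (iv D9678) F12340 (iv F12144) (iv F15872) D12182 D15279 F26672 F23931 F18440 (iv F16149) (iv F20579) (iv F26617)
theorem F33020 : act 4 n18247 = n17024 := d12_2 D15254 D18247 F30400 (iv F26585) F26584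
theorem F33021 : act 5 n18247 = n15255 := d13_2 (iv F26618) D18247 (iv D15255)
def n18248 : Q := act 2 n15255
theorem D18248 : act 2 n15255 = n18248 := rfl
theorem F33022 : act 0 n18248 = n15279 := d1_1 D18248 (iv D15279) (iv F26619)
theorem F33023 : act 3 n18248 = n15492 := d9_2 D15255 D18248 F27099 F20950 F16158 (iv F15873) (iv F20584) (iv F26675) F26674 (iv D13953) F18439 F14166 (iv F12336) (iv F15870) (iv F20536)
theorem F33024 : act 4 n18248 = n15256 := d10_2 (iv F26620) D18248 (iv D15256)
theorem F33025 : act 5 n18248 = n15491 := d11_2 F33021 D18248 (iv F33019)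
def n18249 : Q := act 1 n15256
theorem D18249 : act 1 n15256 = n18249 := rfl
def n18250 : Q := act 3 n15257
theorem D18250 : act 3 n15257 = n18250 := rfl
theorem F33026 : act 0 n18250 = n15258 := d2_1 D18250 (iv D15258) D15257
theorem F33027 : act 1 n18250 = n17028 := d6_1 D18250 F30412 (iv F26621)
theorem F33028 : act 2 n18250 = n16618 := d9_1 D18250 (iv D16618) F23014 F17826 (iv F18483) (iv F20550) (iv F26628) F26629 (iv F29839) F29840 (iv F29560) F29561 F26636 (iv D15262) (iv F26622)
theorem F33029 : act 5 n18250 = n17760 := d15_8 (iv F29839) F29840 (iv F29560) F29561 F26636 (iv D15262) (iv F26622) D18250 (iv D17760)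
theorem F33030 : act 4 n16639 = n18250 := d10_0 F33028 F29506 D16639
def n18251 : Q := act 5 n15257
theorem D18251 : act 5 n15257 = n18251 := rfl
theorem F33031 : act 0 n18251 = n15259 := d4_1 D18251 (iv D15259) D15257
theorem F33032 : act 1 n18251 = n17749 := d8_1 D18251 (iv D17749) (iv F26621)
theorem F33033 : act 2 n18251 = n15263 := d11_1 D18251 (iv D15263) (iv F26622)
theorem F33034 : act 3 n18251 = n17760 := d13_1 D18251 (iv F33029) (iv D18250)
def n18252 : Q := act 4 n15259
theorem D18252 : act 4 n15259 = n18252 := rfl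
theorem F33035 : act 1 n18252 = n15261 := d7_1 D18252 (iv D15261) (iv F26627)
theorem F33036 : act 2 n18252 = n15265 := d10_1 D18252 (iv D15265) (iv F26628)
def n18253 : Q := act 3 n15261
theorem D18253 : act 3 n15261 = n18253 := rfl
theorem F33037 : act 0 n18253 = n17752 := d2_1 D18253 (iv D17752) (iv F26633)
theorem F33038 : act 4 n18253 = n17762 := d12_2 D15261 D18253 (iv D17762) (iv D14720) (iv F20543)
def n18254 : Q := act 4 n15262
theorem D18254 : act 4 n15262 = n18254 := rfl
theorem F33039 : act 0 n18254 = n15264 := d3_1 D18254 (iv D15264) (iv F26635)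
theorem F33040 : act 2 n18254 = n15487 := d10_1 D18254 F27091 F26636
theorem F33041 : act 3 n18254 = n17190 := d12_1 D18254 F30691 F24172 F20718 D15262
theorem F33042 : act 5 n18254 = n15481 := d14_2 F26637 D18254 (iv D15481) F20928 D13984
def n18255 : Q := act 4 n15263
theorem D18255 : act 4 n15263 = n18255 := rfl
theorem F33043 : act 0 n18255 = n15265 := d3_1 D18255 (iv D15265) (iv F26638)
theorem F33044 : act 1 n18255 = n15470 := d7_1 D18255 F27056 F26841
theorem F33045 : act 3 n18255 = n15468 := d12_1 D18255 (iv D15468) F20899 D13984 (iv F26639)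
def n18256 : Q := act 3 n15267
theorem D18256 : act 3 n15267 = n18256 := rfl
theorem F33046 : act 0 n18256 = n17108 := d2_1 D18256 (iv D17108) (iv F26649)
theorem F33047 : act 1 n18256 = n15268 := d6_1 D18256 (iv D15268) D15267
def n18257 : Q := act 2 n15268
theorem D18257 : act 2 n15268 = n18257 := rfl
theorem F33048 : act 0 n18257 = n17081 := d1_1 D18257 F30496 (iv F26652)
theorem F33049 : act 3 n18257 = n17080 := d9_2 D15268 D18257 F30494 (iv F26574) F26573 F20559 (iv F24047) (iv F30555) (iv F32988) (iv D18231) (iv D15237) (iv D12144) F15818 D9486 D12169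
def n18258 : Q := act 4 n15268
theorem D18258 : act 4 n15268 = n18258 := rfl
theorem F33050 : act 0 n18258 = n17113 := d3_1 D18258 F30552 (iv F26652)
theorem F33051 : act 3 n18258 = n17112 := d12_1 D18258 (iv D17112) (iv D14031) (iv F20561) D15268
def n18259 : Q := act 5 n15268
theorem D18259 : act 5 n15268 = n18259 := rfl
theorem F33052 : act 0 n18259 = n17115 := d4_1 D18259 (iv D17115) (iv F26652)
theorem F33053 : act 3 n18259 = n15269 := d13_1 D18259 (iv D15269) D15268
def n18260 : Q := act 4 n15269
theorem D18260 : act 4 n15269 = n18260 := rfl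
theorem F33054 : act 0 n18260 = n15485 := d3_1 D18260 F27085 (iv F26653)
theorem F33055 : act 2 n18260 = n15270 := d10_1 D18260 (iv D15270) (iv F26654)
theorem F33056 : act 5 n18260 = n15480 := d14_2 D15269 D18260 (iv D15480) F20924 (iv F20561)
def n18261 : Q := act 2 n15271
theorem D18261 : act 2 n15271 = n18261 := rfl
theorem F33057 : act 5 n18261 = n15273 := d11_2 (iv F26659) D18261 (iv D15273)
def n18262 : Q := act 3 n15273
theorem D18262 : act 3 n15273 = n18262 := rfl
def n18263 : Q := act 3 n15274
theorem D18263 : act 3 n15274 = n18263 := rfl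
def n18264 : Q := act 5 n15274
theorem D18264 : act 5 n15274 = n18264 := rfl
theorem F33058 : act 2 n18264 = n15275 := d11_1 D18264 (iv D15275) (iv F26664)
def n18265 : Q := act 3 n15276
theorem D18265 : act 3 n15276 = n18265 := rfl
theorem F33059 : act 0 n18265 = n15277 := d2_1 D18265 (iv D15277) (iv F26667)
theorem F33060 : act 4 n18265 = n15569 := d12_2 D15276 D18265 (iv D15569) (iv D12486) (iv F20581)
def n18266 : Q := act 5 n15276
theorem D18266 : act 5 n15276 = n18266 := rfl
theorem F33061 : act 0 n18266 = n15278 := d4_1 D18266 (iv D15278) (iv F26667)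
theorem F33062 : act 2 n18266 = n15584 := d11_1 D18266 (iv D15584) (iv F26668)
def n18267 : Q := act 2 n15277
theorem D18267 : act 2 n15277 = n18267 := rfl
def n18268 : Q := act 5 n15277
theorem D18268 : act 5 n15277 = n18268 := rfl
theorem F33063 : act 1 n18268 = n15280 := d8_1 D18268 (iv D15280) (iv F26669)
theorem F33064 : act 3 n18268 = n15278 := d13_1 D18268 (iv D15278) D15277
def n18269 : Q := act 1 n15279
theorem D18269 : act 1 n15279 = n18269 := rfl
theorem F33065 : act 3 n18269 = n17032 := d6_2 (iv F26672) D18269 F30416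
theorem F33066 : act 5 n18269 = n17031 := d8_2 F26673 D18269 F30415
def n18270 : Q := act 4 n15280
theorem D18270 : act 4 n15280 = n18270 := rfl
theorem F33067 : act 0 n18270 = n17024 := d3_1 D18270 (iv F33020) F33018
theorem F33068 : act 2 n18270 = n16975 := d10_1 D18270 F30283 (iv F26674)
theorem F33069 : act 3 n18270 = n17006 := d12_1 D18270 F30366 (iv F26563) F26564 (iv F26675)
theorem F33070 : act 5 n18270 = n17021 := d14_2 D15280 D18270 F30395 (iv F26567) F26566
def n18271 : Q := act 4 n15281
theorem D18271 : act 4 n15281 = n18271 := rfl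
theorem F33071 : act 0 n18271 = n15283 := d3_1 D18271 (iv D15283) (iv F26676)
theorem F33072 : act 2 n18271 = n15282 := d10_1 D18271 (iv D15282) D15281
def n18272 : Q := act 5 n15282
theorem D18272 : act 5 n15282 = n18272 := rfl
theorem F33073 : act 0 n18272 = n15284 := d4_1 D18272 (iv D15284) (iv F26678)
theorem F33074 : act 1 n18272 = n15584 := d8_1 D18272 (iv D15584) (iv F26679)
theorem F33075 : act 3 n18272 = n17128 := d13_1 D18272 (iv D17128) (iv F26680)
def n18273 : Q := act 3 n15283
theorem D18273 : act 3 n15283 = n18273 := rfl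
def n18274 : Q := act 5 n15283
theorem D18274 : act 5 n15283 = n18274 := rfl
theorem F33076 : act 2 n18274 = n15284 := d11_1 D18274 (iv D15284) (iv F26681)
def n18275 : Q := act 3 n15285
theorem D18275 : act 3 n15285 = n18275 := rfl
theorem F33077 : act 0 n18275 = n15286 := d2_1 D18275 (iv D15286) (iv F26684)
theorem F33078 : act 4 n18275 = n15581 := d12_2 D15285 D18275 (iv D15581) (iv D12498) (iv F20594)
def n18276 : Q := act 5 n15285
theorem D18276 : act 5 n15285 = n18276 := rfl
theorem F33079 : act 0 n18276 = n15287 := d4_1 D18276 (iv D15287) (iv F26684)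
theorem F33080 : act 4 n18276 = n15584 := d14_1 D18276 (iv D15584) (iv D12502) (iv F20595) D15285
def n18277 : Q := act 2 n15286
theorem D18277 : act 2 n15286 = n18277 := rfl
theorem F33081 : act 4 n18277 = n15582 := d10_2 (iv F26686) D18277 (iv D15582)
def n18278 : Q := act 1 n15288
theorem D18278 : act 1 n15288 = n18278 := rfl
theorem F33082 : act 3 n18278 = n17089 := d6_2 (iv F26691) D18278 F30505
theorem F33083 : act 4 n18278 = n15547 := d7_2 (iv F26690) D18278 (iv D15547)
theorem F33084 : act 5 n18278 = n17090 := d8_2 F26692 D18278 F30507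
def n18279 : Q := act 3 n15290
theorem D18279 : act 3 n15290 = n18279 := rfl
theorem F33085 : act 0 n18279 = n15291 := d2_1 D18279 (iv D15291) D15290
theorem F33086 : act 1 n18279 = n15640 := d6_1 D18279 (iv D15640) (iv F26697)
def n18280 : Q := act 2 n15291
theorem D18280 : act 2 n15291 = n18280 := rfl
def n18281 : Q := act 4 n15291
theorem D18281 : act 4 n15291 = n18281 := rfl
theorem F33087 : act 1 n18281 = n15293 := d7_1 D18281 (iv D15293) (iv F26700)
theorem F33088 : act 3 n18281 = n15733 := d12_1 D18281 (iv D15733) (iv D12657) (iv F20609) D15291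
def n18282 : Q := act 1 n15292
theorem D18282 : act 1 n15292 = n18282 := rfl
theorem F33089 : act 3 n18282 = n15329 := d6_2 (iv F26702) D18282 F26768
theorem F33090 : act 5 n18282 = n15328 := d8_2 F26703 D18282 F26767
def n18283 : Q := act 4 n15292
theorem D18283 : act 4 n15292 = n18283 := rfl
theorem F33091 : act 0 n18283 = n15338 := d3_1 D18283 (iv D15338) (iv F26701)
theorem F33092 : act 2 n18283 = n15293 := d10_1 D18283 (iv D15293) D15292
def n18284 : Q := act 5 n15293
theorem D18284 : act 5 n15293 = n18284 := rfl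
theorem F33093 : act 0 n18284 = n15641 := d4_1 D18284 F27445 (iv F26704)
theorem F33094 : act 3 n18284 = n15735 := d13_1 D18284 (iv D15735) (iv F26705)
theorem F33095 : act 4 n15640 = n18284 := d12_0 F33094 F27628 (iv D12661) (iv F21245) D15640
def n18285 : Q := act 4 n15294
theorem D18285 : act 4 n15294 = n18285 := rfl
theorem F33096 : act 0 n18285 = n15335 := d3_1 D18285 F27436 (iv F26706)
theorem F33097 : act 2 n18285 = n15330 := d10_1 D18285 (iv D15330) (iv F26707)
theorem F33098 : act 5 n18285 = n15640 := d14_2 D15294 D18285 F33095 (iv D18284) (iv D15293)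
theorem F33099 : act 3 n15639 = n18285 := d13_3 F33098 (iv D15640) (iv F27441)
def n18286 : Q := act 3 n15295
theorem D18286 : act 3 n15295 = n18286 := rfl
theorem F33100 : act 0 n18286 = n15638 := d2_1 D18286 (iv F27434) (iv F26709)
theorem F33101 : act 2 n18286 = n15642 := d9_1 D18286 F27447 F23758 (iv D13856) F18283 F14050 (iv F16560) (iv F21800) F21407 (iv F20199) (iv F26146) F26147 F21229 (iv F20615) (iv F26710)
theorem F33102 : act 4 n18286 = n15639 := d12_2 D15295 D18286 F33099 (iv D18285) F26708
theorem F33103 : act 5 n18286 = n15736 := d13_2 (iv F26711) D18286 (iv D15736)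
def n18287 : Q := act 3 n15296
theorem D18287 : act 3 n15296 = n18287 := rfl
theorem F33104 : act 0 n18287 = n15297 := d2_1 D18287 (iv D15297) D15296
theorem F33105 : act 1 n18287 = n15310 := d6_1 D18287 (iv D15310) (iv F26712)
def n18288 : Q := act 2 n15297
theorem D18288 : act 2 n15297 = n18288 := rfl
def n18289 : Q := act 5 n15297
theorem D18289 : act 5 n15297 = n18289 := rfl
theorem F33106 : act 1 n18289 = n15300 := d8_1 D18289 (iv D15300) (iv F26715)
theorem F33107 : act 3 n18289 = n15298 := d13_1 D18289 (iv D15298) D15297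
def n18290 : Q := act 1 n15299
theorem D18290 : act 1 n15299 = n18290 := rfl
theorem F33108 : act 3 n18290 = n15307 := d6_2 (iv F26719) D18290 F26737
theorem F33109 : act 5 n18290 = n15306 := d8_2 F26720 D18290 F26736
def n18291 : Q := act 4 n15300
theorem D18291 : act 4 n15300 = n18291 := rfl
theorem F33110 : act 0 n18291 = n15316 := d3_1 D18291 (iv D15316) (iv F26721)
theorem F33111 : act 2 n18291 = n15308 := d10_1 D18291 (iv D15308) (iv F26722)
theorem F33112 : act 3 n18291 = n15669 := d12_1 D18291 (iv F30251) F30250 F23834 (iv F26723)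
theorem F33113 : act 5 n18291 = n15668 := d14_2 D15300 D18291 (iv F30253) F30254 F23836
def n18292 : Q := act 4 n15301
theorem D18292 : act 4 n15301 = n18292 := rfl
theorem F33114 : act 0 n18292 = n15303 := d3_1 D18292 (iv D15303) (iv F26724)
theorem F33115 : act 1 n18292 = n17112 := d7_1 D18292 (iv D17112) (iv F26725)
theorem F33116 : act 2 n18292 = n15302 := d10_1 D18292 (iv D15302) D15301
def n18293 : Q := act 5 n15302
theorem D18293 : act 5 n15302 = n18293 := rfl
theorem F33117 : act 0 n18293 = n15304 := d4_1 D18293 (iv D15304) (iv F26728)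
theorem F33118 : act 1 n18293 = n15324 := d8_1 D18293 (iv D15324) (iv F26729)
theorem F33119 : act 3 n18293 = n15708 := d13_1 D18293 (iv D15708) (iv F26730)
theorem F33120 : act 4 n18293 = n17120 := d14_1 D18293 (iv D17120) (iv D14040) (iv F20629) D15302
def n18294 : Q := act 3 n15303
theorem D18294 : act 3 n15303 = n18294 := rfl
theorem F33121 : act 1 n18294 = n15325 := d6_1 D18294 (iv D15325) (iv F26731)
theorem F33122 : act 4 n18294 = n17108 := d12_2 D15303 D18294 (iv D17108) (iv D14028) F20632
def n18295 : Q := act 5 n15303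
theorem D18295 : act 5 n15303 = n18295 := rfl
theorem F33123 : act 1 n18295 = n15326 := d8_1 D18295 (iv D15326) (iv F26731)
theorem F33124 : act 2 n18295 = n15304 := d11_1 D18295 (iv D15304) (iv F26732)
theorem F33125 : act 4 n18295 = n17122 := d14_1 D18295 (iv D17122) (iv D14042) (iv F20631) D15303
def n18296 : Q := act 3 n15305
theorem D18296 : act 3 n15305 = n18296 := rfl
theorem F33126 : act 0 n18296 = n15306 := d2_1 D18296 (iv D15306) D15305
def n18297 : Q := act 5 n15305
theorem D18297 : act 5 n15305 = n18297 := rfl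
theorem F33127 : act 0 n18297 = n15307 := d4_1 D18297 (iv D15307) D15305
theorem F33128 : act 2 n18297 = n15725 := d11_1 D18297 (iv D15725) (iv F26735)
def n18298 : Q := act 2 n15306
theorem D18298 : act 2 n15306 = n18298 := rfl
def n18299 : Q := act 4 n15306
theorem D18299 : act 4 n15306 = n18299 := rfl
theorem F33129 : act 1 n18299 = n15308 := d7_1 D18299 (iv D15308) (iv F26736)
theorem F33130 : act 3 n18299 = n15722 := d12_1 D18299 F27610 (iv F23576) F23577 D15306
def n18300 : Q := act 4 n15307
theorem D18300 : act 4 n15307 = n18300 := rfl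
theorem F33131 : act 1 n18300 = n15309 := d7_1 D18300 (iv D15309) (iv F26737)
theorem F33132 : act 2 n18300 = n15727 := d10_1 D18300 (iv D15727) (iv F26738)
def n18301 : Q := act 5 n15308
theorem D18301 : act 5 n15308 = n18301 := rfl
theorem F33133 : act 2 n18301 = n15668 := d11_1 D18301 (iv F33113) F33111
theorem F33134 : act 3 n18301 = n15721 := d13_1 D18301 F27609 (iv F26739)
def n18302 : Q := act 3 n15309
theorem D18302 : act 3 n15309 = n18302 := rfl
def n18303 : Q := act 4 n15310
theorem D18303 : act 4 n15310 = n18303 := rfl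
theorem F33135 : act 0 n18303 = n15312 := d3_1 D18303 (iv D15312) (iv F26741)
theorem F33136 : act 3 n18303 = n15319 := d12_1 D18303 (iv D15319) (iv D12220) (iv F20643) D15310
def n18304 : Q := act 1 n15311
theorem D18304 : act 1 n15311 = n18304 := rfl
theorem F33137 : act 2 n18304 = n15313 := d5_2 D15311 D18304 (iv D15313) (iv D12216) (iv F20644)
def n18305 : Q := act 4 n15311
theorem D18305 : act 4 n15311 = n18305 := rfl
theorem F33138 : act 2 n18305 = n15312 := d10_1 D18305 (iv D15312) D15311
def n18306 : Q := act 0 n15313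
theorem D18306 : act 0 n15313 = n18306 := rfl
def n18307 : Q := act 4 n15313
theorem D18307 : act 4 n15313 = n18307 := rfl
theorem F33139 : act 1 n18307 = n15314 := d7_1 D18307 (iv D15314) D15313
def n18308 : Q := act 3 n15314
theorem D18308 : act 3 n15314 = n18308 := rfl
def n18309 : Q := act 5 n15314
theorem D18309 : act 5 n15314 = n18309 := rfl
theorem F33140 : act 2 n18309 = n15315 := d11_1 D18309 (iv D15315) (iv F26744)
def n18310 : Q := act 4 n15315
theorem D18310 : act 4 n15315 = n18310 := rfl
theorem F33141 : act 0 n18310 = n15668 := d3_1 D18310 (iv F30253) F30252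
theorem F33142 : act 3 n18310 = n15657 := d12_1 D18310 (iv D15657) F21284 (iv F20656) (iv F26745)
theorem F33143 : act 5 n18310 = n15316 := d14_2 D15315 D18310 (iv D15316) (iv D12218) D12217
def n18311 : Q := act 3 n15316
theorem D18311 : act 3 n15316 = n18311 := rfl
theorem F33144 : act 0 n18311 = n15669 := d2_1 D18311 (iv F33112) F33110
theorem F33145 : act 2 n18311 = n15658 := d9_1 D18311 F27488 F21300 D12648 D15721 (iv F33134) F33133 (iv D15668) F21308 F16476 (iv F16485) D12604 (iv F23581) (iv F29687) F29686
theorem F33146 : act 4 n18311 = n15317 := d12_2 D15316 D18311 (iv D15317) (iv D12219) (iv F20646)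
theorem F33147 : act 5 n18311 = n15657 := d13_2 F33143 D18311 (iv F33142)
def n18312 : Q := act 2 n15317
theorem D18312 : act 2 n15317 = n18312 := rfl
theorem F33148 : act 0 n18312 = n15670 := d1_1 D18312 (iv F30249) F30248
theorem F33149 : act 3 n18312 = n15661 := d9_2 D15317 D18312 (iv D15661) (iv D12588) F16471 (iv F15904) (iv F18349) (iv F23818) F23817 D15671 F27517 (iv D12598) F16478 (iv F15919) (iv F20647)
theorem F33150 : act 4 n18312 = n15658 := d10_2 F33146 D18312 (iv F33145)
theorem F33151 : act 5 n18312 = n15323 := d11_2 (iv F26746) D18312 (iv D15323)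
def n18313 : Q := act 3 n15318
theorem D18313 : act 3 n15318 = n18313 := rfl
theorem F33152 : act 0 n18313 = n15321 := d2_1 D18313 (iv D15321) (iv F26747)
theorem F33153 : act 2 n18313 = n15652 := d9_1 D18313 (iv D15652) F21272 F16454 (iv F15924) (iv F18325) (iv F23671) D16898 F30136 (iv D15682) (iv D12610) (iv D9869) (iv F15921) D12220 D15318
theorem F33154 : act 5 n18313 = n15684 := d13_2 F30130 D18313 F30131
def n18314 : Q := act 3 n15320
theorem D18314 : act 3 n15320 = n18314 := rfl
theorem F33155 : act 0 n18314 = n15322 := d2_1 D18314 (iv D15322) (iv F26749)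
theorem F33156 : act 4 n18314 = n15662 := d12_2 D15320 D18314 (iv D15662) (iv F23804) F23803
theorem F33157 : act 2 n18314 = n17413 := d15_2 (iv F26750) D18314 F31163 F28007 (iv D15203) F20420 (iv F20345) F20346 D12609
def n18315 : Q := act 2 n15321
theorem D18315 : act 2 n15321 = n18315 := rfl
theorem F33158 : act 0 n18315 = n15652 := d1_1 D18315 (iv F33153) F33152
theorem F33159 : act 3 n18315 = n15651 := d9_2 D15321 D18315 F27471 F21276 (iv F20651) (iv F23803) (iv F30128) (iv F30131) (iv D15684) (iv D12612) (iv D9870) (iv D7611) (iv F12192) D9527 D12222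
theorem F33160 : act 5 n18315 = n15682 := d11_2 F30135 D18315 (iv F30136)
def n18316 : Q := act 4 n15321
theorem D18316 : act 4 n15321 = n18316 := rfl
def n18317 : Q := act 2 n15322
theorem D18317 : act 2 n15322 = n18317 := rfl
theorem F33161 : act 0 n18317 = n17413 := d1_1 D18317 (iv F33157) F33155
theorem F33162 : act 4 n18317 = n15663 := d10_2 (iv F26752) D18317 (iv D15663)
theorem F33163 : act 1 n17823 = n18317 := d7_3 F33162 F27502 D17823
def n18318 : Q := act 1 n15323
theorem D18318 : act 1 n15323 = n18318 := rfl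
theorem F33164 : act 2 n18318 = n17823 := d5_2 D15323 D18318 F33163 (iv D18317) F26751
theorem F33165 : act 4 n18318 = n15655 := d7_2 (iv F26754) D18318 F27479
def n18319 : Q := act 3 n15323
theorem D18319 : act 3 n15323 = n18319 := rfl
theorem F33166 : act 0 n18319 = n15671 := d2_1 D18319 (iv D15671) (iv F26753)
theorem F33167 : act 2 n18319 = n15659 := d9_1 D18319 (iv D15659) F21292 (iv F20624) (iv F23833) (iv F30250) F30249 (iv F27514) (iv D12608) (iv D9865) F12598 (iv F12195) (iv F15925) D12226 D15323
theorem F33168 : act 4 n18319 = n15659 := d12_2 (iv F26754) D18319 (iv D15659) (iv D12583) (iv F21290)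
theorem F33169 : act 5 n18319 = n15661 := d13_2 F33151 D18319 (iv F33149)
def n18320 : Q := act 2 n15325
theorem D18320 : act 2 n15325 = n18320 := rfl
theorem F33170 : act 0 n18320 = n17116 := d1_1 D18320 (iv D17116) (iv F26759)
theorem F33171 : act 4 n18320 = n17110 := d10_2 (iv F26760) D18320 (iv D17110)
theorem F33172 : act 3 n18320 = n16390 := d15_1 D18320 F29056 F27790 F21537 (iv F26757) F26756 (iv F30557) (iv D17117) (iv F26759)
theorem F33173 : act 1 n16391 = n18320 := d6_3 F33172 (iv D16390) D16391
def n18321 : Q := act 5 n15325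
theorem D18321 : act 5 n15325 = n18321 := rfl
theorem F33174 : act 0 n18321 = n17117 := d4_1 D18321 (iv D17117) (iv F26759)
theorem F33175 : act 3 n18321 = n15326 := d13_1 D18321 (iv D15326) D15325
def n18322 : Q := act 3 n15327
theorem D18322 : act 3 n15327 = n18322 := rfl
theorem F33176 : act 0 n18322 = n15328 := d2_1 D18322 (iv D15328) D15327
theorem F33177 : act 1 n18322 = n15332 := d6_1 D18322 (iv D15332) (iv F26764)
theorem F33178 : act 2 n18322 = n16890 := d15_2 (iv F26765) D18322 (iv D16890) (iv D13814) (iv D10859) (iv F16049) (iv F20720) (iv D12255) D12254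
def n18323 : Q := act 2 n15328
theorem D18323 : act 2 n15328 = n18323 := rfl
theorem F33179 : act 0 n18323 = n16890 := d1_1 D18323 (iv F33178) F33176
theorem F33180 : act 3 n18323 = n16887 := d15_3 (iv F20666) D15328 D18323 (iv D16887) (iv D13812) (iv F20802) (iv F26834) (iv D15355) (iv D12254)
def n18324 : Q := act 4 n15329
theorem D18324 : act 4 n15329 = n18324 := rfl
theorem F33181 : act 1 n18324 = n15331 := d7_1 D18324 (iv D15331) (iv F26768)
theorem F33182 : act 2 n18324 = n15356 := d10_1 D18324 (iv D15356) (iv F26769)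
theorem F33183 : act 5 n18324 = n18252 := d14_2 D15329 D18324 (iv D18252) (iv D15259) (iv F20667)
def n18325 : Q := act 5 n15330
theorem D18325 : act 5 n15330 = n18325 := rfl
theorem F33184 : act 0 n18325 = n15337 := d4_1 D18325 (iv D15337) (iv F26770)
theorem F33185 : act 2 n18325 = n15640 := d11_1 D18325 (iv F33098) F33097
theorem F33186 : act 3 n18325 = n15694 := d13_1 D18325 F27555 (iv F26771)
def n18326 : Q := act 3 n15331
theorem D18326 : act 3 n15331 = n18326 := rfl
theorem F33187 : act 0 n18326 = n15339 := d2_1 D18326 (iv D15339) (iv F26772)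
theorem F33188 : act 5 n18326 = n18253 := d13_2 (iv F26774) D18326 (iv D18253)
def n18327 : Q := act 4 n15337
theorem D18327 : act 4 n15337 = n18327 := rfl
theorem F33189 : act 2 n18327 = n15641 := d10_1 D18327 (iv D15641) (iv F27439)
theorem F33190 : act 5 n18327 = n15338 := d14_2 D15337 D18327 (iv D15338) (iv D12238) D12237
def n18328 : Q := act 3 n15338
theorem D18328 : act 3 n15338 = n18328 := rfl
theorem F33191 : act 4 n18328 = n15339 := d12_2 D15338 D18328 (iv D15339) (iv D12239) (iv F20680)
def n18329 : Q := act 2 n15339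
theorem D18329 : act 2 n15339 = n18329 := rfl
def n18330 : Q := act 1 n15340
theorem D18330 : act 1 n15340 = n18330 := rfl
theorem F33192 : act 0 n18330 = n16943 := d0_1 D18330 F30220 F23790 (iv F21177) (iv F26781)
theorem F33193 : act 2 n18330 = n15345 := d5_2 D15340 D18330 (iv D15345) (iv D12244) (iv F20683)
theorem F33194 : act 4 n18330 = n15341 := d7_2 (iv F26782) D18330 (iv D15341)
theorem F33195 : act 5 n18330 = n15433 := d8_2 (iv F26783) D18330 F27002
theorem F33196 : act 3 n17311 = n18330 := d13_3 F33195 F27004 D17311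
def n18331 : Q := act 3 n15340
theorem D18331 : act 3 n15340 = n18331 := rfl
theorem F33197 : act 0 n18331 = n15610 := d2_1 D18331 (iv D15610) (iv F26781)
theorem F33198 : act 1 n18331 = n17311 := d6_1 D18331 F33196 (iv D18330)
theorem F33199 : act 4 n18331 = n15636 := d12_2 (iv F26782) D18331 (iv D15636) (iv D12556) (iv F20688)
theorem F33200 : act 5 n18331 = n15434 := d13_2 (iv F26783) D18331 (iv D15434)
def n18332 : Q := act 0 n15345
theorem D18332 : act 0 n15345 = n18332 := rfl
theorem F33201 : act 1 n18332 = n15385 := d0_2 D15345 D18332 (iv D15385) (iv D12283) (iv F20694)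
theorem F33202 : act 2 n18332 = n16943 := d1_2 F33193 D18332 (iv F33192)
theorem F33203 : act 3 n18332 = n17309 := d2_2 F32482 D18332 (iv F32479)
theorem F33204 : act 4 n18332 = n15346 := d3_2 (iv F26800) D18332 (iv D15346)
theorem F33205 : act 5 n18332 = n15437 := d4_2 (iv F26801) D18332 F27011
def n18333 : Q := act 4 n15347
theorem D18333 : act 4 n15347 = n18333 := rfl
theorem F33206 : act 0 n18333 = n15348 := d3_1 D18333 (iv D15348) (iv F26806)
theorem F33207 : act 1 n18333 = n15387 := d7_1 D18333 (iv D15387) (iv F26807)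
theorem F33208 : act 2 n18333 = n17193 := d10_1 D18333 (iv D17193) F26809
theorem F33209 : act 3 n18333 = n15436 := d12_1 D18333 (iv D15436) (iv D12346) (iv F20700) D15347
def n18334 : Q := act 4 n15349
theorem D18334 : act 4 n15349 = n18334 := rfl
theorem F33210 : act 0 n18334 = n17191 := d3_1 D18334 (iv D17191) (iv F26813)
theorem F33211 : act 1 n18334 = n15388 := d7_1 D18334 (iv D15388) (iv F26814)
theorem F33212 : act 2 n18334 = n15350 := d10_1 D18334 (iv D15350) D15349
def n18335 : Q := act 4 n15353
theorem D18335 : act 4 n15353 = n18335 := rfl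
theorem F33213 : act 1 n18335 = n18000 := d7_1 D18335 (iv D18000) (iv F26826)
def n18336 : Q := act 4 n15355
theorem D18336 : act 4 n15355 = n18336 := rfl
theorem F33214 : act 0 n18336 = n15356 := d3_1 D18336 (iv D15356) (iv F26832)
theorem F33215 : act 1 n18336 = n15364 := d7_1 D18336 (iv D15364) (iv F26833)
theorem F33216 : act 5 n18336 = n18255 := d14_2 D15355 D18336 (iv D18255) (iv D15263) (iv F20718)
def n18337 : Q := act 4 n15357
theorem D18337 : act 4 n15357 = n18337 := rfl
theorem F33217 : act 0 n18337 = n15360 := d3_1 D18337 (iv D15360) (iv F26837)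
theorem F33218 : act 1 n18337 = n18254 := d7_1 D18337 (iv D18254) (iv F26838)
theorem F33219 : act 3 n18337 = n15362 := d12_1 D18337 (iv D15362) (iv D12261) (iv F20726) D15357
theorem F33220 : act 5 n18337 = n18022 := d14_2 F26839 D18337 (iv D18022) F25973 (iv F26662)
def n18338 : Q := act 3 n15359
theorem D18338 : act 3 n15359 = n18338 := rfl
theorem F33221 : act 1 n18338 = n18259 := d6_1 D18338 F33053 (iv F26844)
theorem F33222 : act 5 n18338 = n18256 := d13_2 (iv F26845) D18338 (iv D18256)
def n18339 : Q := act 4 n15359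
theorem D18339 : act 4 n15359 = n18339 := rfl
theorem F33223 : act 1 n18339 = n18260 := d7_1 D18339 (iv D18260) (iv F26844)
theorem F33224 : act 2 n18339 = n15360 := d10_1 D18339 (iv D15360) D15359
theorem F33225 : act 5 n18339 = n18023 := d14_2 (iv F26845) D18339 (iv D18023) F25978 (iv F26651)
def n18340 : Q := act 1 n15361
theorem D18340 : act 1 n15361 = n18340 := rfl
theorem F33226 : act 0 n18340 = n16828 := d0_1 D18340 F30000 (iv F24141) F24142 (iv F26849)
theorem F33227 : act 2 n18340 = n16826 := d5_2 D15361 D18340 F29994 (iv F24171) F24170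
theorem F33228 : act 5 n16862 = n18340 := d11_0 F33227 (iv F29995) (iv F30078)
def n18341 : Q := act 4 n15361
theorem D18341 : act 4 n15361 = n18341 := rfl
theorem F33229 : act 0 n18341 = n15366 := d3_1 D18341 (iv D15366) (iv F26849)
theorem F33230 : act 2 n18341 = n15362 := d10_1 D18341 (iv D15362) D15361
def n18342 : Q := act 5 n15361
theorem D18342 : act 5 n15361 = n18342 := rfl
theorem F33231 : act 0 n18342 = n15367 := d4_1 D18342 (iv D15367) (iv F26849)
theorem F33232 : act 1 n18342 = n16862 := d8_1 D18342 F33228 (iv D18340)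
theorem F33233 : act 2 n18342 = n15363 := d11_1 D18342 (iv D15363) D15361
theorem F33234 : act 3 n18342 = n15382 := d13_1 D18342 (iv F32301) F32302
theorem F33235 : act 4 n17800 = n18342 := d10_0 F33233 (iv F26854) (iv F32005)
def n18343 : Q := act 5 n15362
theorem D18343 : act 5 n15362 = n18343 := rfl
theorem F33236 : act 0 n18343 = n15368 := d4_1 D18343 (iv D15368) (iv F26850)
theorem F33237 : act 3 n18343 = n18022 := d13_1 D18343 (iv F33220) F33219
theorem F33238 : act 4 n18343 = n17806 := d14_1 D18343 (iv D17806) F26854 (iv D15363) D15362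
def n18344 : Q := act 4 n15365
theorem D18344 : act 4 n15365 = n18344 := rfl
def n18345 : Q := act 5 n15365
theorem D18345 : act 5 n15365 = n18345 := rfl
theorem F33239 : act 0 n18345 = n15382 := d4_1 D18345 (iv F32301) F32300
theorem F33240 : act 1 n18345 = n15400 := d8_1 D18345 (iv F30654) F30652
theorem F33241 : act 2 n18345 = n15380 := d11_1 D18345 (iv F32298) F32299
theorem F33242 : act 3 n18345 = n15367 := d13_1 D18345 (iv D15367) D15365
def n18346 : Q := act 3 n15366
theorem D18346 : act 3 n15366 = n18346 := rfl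
def n18347 : Q := act 5 n15366
theorem D18347 : act 5 n15366 = n18347 := rfl
theorem F33243 : act 1 n18347 = n17804 := d8_1 D18347 F32010 F30641
theorem F33244 : act 2 n18347 = n15368 := d11_1 D18347 (iv D15368) (iv F26857)
theorem F33245 : act 4 n18347 = n17802 := d14_1 D18347 (iv D17802) F26860 (iv D15367) D15366
def n18348 : Q := act 1 n15369
theorem D18348 : act 1 n15369 = n18348 := rfl
def n18349 : Q := act 3 n15369
theorem D18349 : act 3 n15369 = n18349 := rfl
theorem F33246 : act 0 n18349 = n15372 := d2_1 D18349 (iv D15372) (iv F26864)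
theorem F33247 : act 2 n18349 = n18256 := d15_2 D15369 D18349 (iv D18256) F26650 (iv F20731) F20730 (iv F19570) F19571 (iv F20748)
def n18350 : Q := act 4 n15369
theorem D18350 : act 4 n15369 = n18350 := rfl
theorem F33248 : act 0 n18350 = n15373 := d3_1 D18350 (iv D15373) (iv F26864)
theorem F33249 : act 2 n18350 = n15370 := d10_1 D18350 (iv D15370) D15369
def n18351 : Q := act 4 n15372
theorem D18351 : act 4 n15372 = n18351 := rfl
theorem F33250 : act 2 n18351 = n18294 := d10_1 D18351 F33122 F30540
def n18352 : Q := act 3 n15373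
theorem D18352 : act 3 n15373 = n18352 := rfl
def n18353 : Q := act 0 n15374
theorem D18353 : act 0 n15374 = n18353 := rfl
theorem F33251 : act 1 n18353 = n15437 := d0_2 D15374 D18353 F27011 F20875 (iv F20754)
theorem F33252 : act 2 n18353 = n15623 := d1_2 (iv F26870) D18353 F27402
theorem F33253 : act 4 n18353 = n15375 := d3_2 (iv F26871) D18353 (iv D15375)
theorem F33254 : act 5 n18353 = n15385 := d4_2 (iv F26872) D18353 (iv D15385)
def n18354 : Q := act 2 n15376
theorem D18354 : act 2 n15376 = n18354 := rfl
theorem F33255 : act 0 n18354 = n15377 := d1_1 D18354 (iv D15377) (iv F26877)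
theorem F33256 : act 5 n18354 = n15444 := d11_2 (iv F26879) D18354 F27020
def n18355 : Q := act 4 n15376
theorem D18355 : act 4 n15376 = n18355 := rfl
theorem F33257 : act 0 n18355 = n15378 := d3_1 D18355 (iv D15378) (iv F26877)
theorem F33258 : act 1 n18355 = n15436 := d7_1 D18355 (iv D15436) (iv F26878)
theorem F33259 : act 3 n18355 = n15387 := d12_1 D18355 (iv D15387) (iv D12286) (iv F20762) D15376
def n18356 : Q := act 3 n15377
theorem D18356 : act 3 n15377 = n18356 := rfl
theorem F33260 : act 1 n18356 = n15448 := d6_1 D18356 F27024 (iv F26880)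
theorem F33261 : act 5 n18356 = n15445 := d13_2 (iv F26881) D18356 (iv D15445)
def n18357 : Q := act 4 n15377
theorem D18357 : act 4 n15377 = n18357 := rfl
theorem F33262 : act 1 n18357 = n15451 := d7_1 D18357 (iv D15451) (iv F26880)
theorem F33263 : act 2 n18357 = n15378 := d10_1 D18357 (iv D15378) D15377
def n18358 : Q := act 3 n15379
theorem D18358 : act 3 n15379 = n18358 := rfl
theorem F33264 : act 1 n18358 = n15380 := d6_1 D18358 (iv D15380) D15379
def n18359 : Q := act 4 n15379
theorem D18359 : act 4 n15379 = n18359 := rfl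
theorem F33265 : act 1 n18359 = n15381 := d7_1 D18359 (iv D15381) D15379
def n18360 : Q := act 4 n15380
theorem D18360 : act 4 n15380 = n18360 := rfl
theorem F33266 : act 0 n18360 = n15383 := d3_1 D18360 (iv D15383) (iv F26884)
def n18361 : Q := act 3 n15381
theorem D18361 : act 3 n15381 = n18361 := rfl
theorem F33267 : act 0 n18361 = n15384 := d2_1 D18361 (iv D15384) (iv F26885)
def n18362 : Q := act 4 n15382
theorem D18362 : act 4 n15382 = n18362 := rfl
theorem F33268 : act 2 n18362 = n15383 := d10_1 D18362 (iv D15383) D15382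
def n18363 : Q := act 3 n15383
theorem D18363 : act 3 n15383 = n18363 := rfl
theorem F33269 : act 1 n18363 = n17611 := d6_1 D18363 F31576 F30152
theorem F33270 : act 4 n18363 = n15384 := d12_2 D15383 D18363 (iv D15384) (iv D12282) D12281
theorem F33271 : act 5 n17621 = n18363 := d8_0 F33269 F31577 D17621
def n18364 : Q := act 5 n15383
theorem D18364 : act 5 n15383 = n18364 := rfl
theorem F33272 : act 1 n18364 = n17622 := d8_1 D18364 F31603 F30152
theorem F33273 : act 3 n18364 = n17621 := d13_1 D18364 F33271 (iv D18363)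
def n18365 : Q := act 2 n15384
theorem D18365 : act 2 n15384 = n18365 := rfl
def n18366 : Q := act 3 n15385
theorem D18366 : act 3 n15385 = n18366 := rfl
theorem F33274 : act 0 n18366 = n15386 := d2_1 D18366 (iv D15386) D15385
theorem F33275 : act 1 n18366 = n17309 := d6_1 D18366 (iv F33203) F33201
def n18367 : Q := act 2 n15386
theorem D18367 : act 2 n15386 = n18367 := rfl
theorem F33276 : act 5 n18367 = n16497 := d11_2 F32264 D18367 (iv F32261)
theorem F33277 : act 3 n18367 = n16498 := d15_3 (iv F20772) D15386 D18367 F29289 F22832 (iv F22829) F27405 F27404 F21217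
def n18368 : Q := act 5 n15387
theorem D18368 : act 5 n15387 = n18368 := rfl
theorem F33278 : act 0 n18368 = n15389 := d4_1 D18368 (iv D15389) (iv F26890)
theorem F33279 : act 2 n18368 = n18002 := d11_1 D18368 (iv D18002) (iv F26891)
def n18369 : Q := act 5 n15388
theorem D18369 : act 5 n15388 = n18369 := rfl
theorem F33280 : act 0 n18369 = n18002 := d4_1 D18369 (iv D18002) (iv F26892)
theorem F33281 : act 2 n18369 = n15389 := d11_1 D18369 (iv D15389) (iv F26893)
def n18370 : Q := act 4 n15391
theorem D18370 : act 4 n15391 = n18370 := rfl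
theorem F33282 : act 0 n18370 = n15392 := d3_1 D18370 (iv D15392) D15391
theorem F33283 : act 1 n18370 = n17171 := d7_1 D18370 (iv D17171) (iv F26899)
theorem F33284 : act 2 n18370 = n15394 := d10_1 D18370 (iv D15394) (iv F26900)
theorem F33285 : act 3 n18370 = n17294 := d12_1 D18370 F30913 F28847 F24952 (iv F26901)
theorem F33286 : act 5 n17296 = n18370 := d13_0 F33285 F30914 D17296
def n18371 : Q := act 3 n15395
theorem D18371 : act 3 n15395 = n18371 := rfl
theorem F33287 : act 0 n18371 = n15934 := d2_1 D18371 (iv D15934) (iv F26909)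
theorem F33288 : act 1 n18371 = n15396 := d6_1 D18371 (iv D15396) (iv F26910)
theorem F33289 : act 4 n18371 = n16777 := d12_2 D15395 D18371 (iv D16777) F23484 (iv F20795)
def n18372 : Q := act 5 n15395
theorem D18372 : act 5 n15395 = n18372 := rfl
theorem F33290 : act 0 n18372 = n15935 := d4_1 D18372 (iv D15935) (iv F26909)
theorem F33291 : act 1 n18372 = n15397 := d8_1 D18372 (iv D15397) (iv F26910)
theorem F33292 : act 2 n18372 = n15940 := d11_1 D18372 (iv D15940) (iv F26911)
def n18373 : Q := act 5 n15396
theorem D18373 : act 5 n15396 = n18373 := rfl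
theorem F33293 : act 0 n18373 = n15399 := d4_1 D18373 (iv D15399) (iv F26912)
theorem F33294 : act 3 n18373 = n15397 := d13_1 D18373 (iv D15397) D15396
def n18374 : Q := act 2 n15400
theorem D18374 : act 2 n15400 = n18374 := rfl
theorem F33295 : act 0 n18374 = n15647 := d1_1 D18374 F27464 (iv F26917)
theorem F33296 : act 3 n18374 = n15645 := d9_2 D15400 D18374 (iv D15645) (iv D12570) F16441 (iv F18204) (iv F23631) (iv F27477) (iv D15653) (iv D12575) (iv D9837) (iv D7585) (iv F12268) D9597 D12302
theorem F33297 : act 5 n18374 = n15650 := d11_2 F30654 D18374 (iv F30653)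
def n18375 : Q := act 4 n15400
theorem D18375 : act 4 n15400 = n18375 := rfl
theorem F33298 : act 0 n18375 = n16864 := d3_1 D18375 (iv D16864) (iv F26917)
theorem F33299 : act 3 n18375 = n17803 := d12_1 D18375 (iv D17803) (iv D14768) (iv F20801) D15400
def n18376 : Q := act 4 n15402
theorem D18376 : act 4 n15402 = n18376 := rfl
theorem F33300 : act 0 n18376 = n15404 := d3_1 D18376 (iv D15404) (iv F26921)
theorem F33301 : act 1 n18376 = n15421 := d7_1 D18376 (iv D15421) (iv F26922)
theorem F33302 : act 2 n18376 = n15403 := d10_1 D18376 (iv D15403) D15402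
def n18377 : Q := act 3 n15404
theorem D18377 : act 3 n15404 = n18377 := rfl
theorem F33303 : act 1 n18377 = n15405 := d6_1 D18377 (iv D15405) (iv F26927)
def n18378 : Q := act 5 n15404
theorem D18378 : act 5 n15404 = n18378 := rfl
theorem F33304 : act 1 n18378 = n15406 := d8_1 D18378 (iv D15406) (iv F26927)
theorem F33305 : act 2 n18378 = n16779 := d11_1 D18378 F29909 (iv F26928)
theorem F33306 : act 4 n18378 = n16778 := d14_1 D18378 (iv D16778) F23484 (iv F20810) D15404
def n18379 : Q := act 2 n15405
theorem D18379 : act 2 n15405 = n18379 := rfl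
def n18380 : Q := act 5 n15405
theorem D18380 : act 5 n15405 = n18380 := rfl
theorem F33307 : act 3 n18380 = n15406 := d13_1 D18380 (iv D15406) D15405
def n18381 : Q := act 4 n15409
theorem D18381 : act 4 n15409 = n18381 := rfl
theorem F33308 : act 1 n18381 = n15411 := d7_1 D18381 (iv D15411) (iv F26939)
theorem F33309 : act 2 n18381 = n15619 := d10_1 D18381 (iv D15619) (iv F26940)
theorem F33310 : act 3 n18381 = n16443 := d12_1 D18381 (iv D16443) (iv F25217) F29515 F29513
theorem F33311 : act 5 n18381 = n17799 := d14_2 D15409 D18381 (iv D17799) F25525 (iv F20815)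
def n18382 : Q := act 3 n15411
theorem D18382 : act 3 n15411 = n18382 := rfl
theorem F33312 : act 1 n18382 = n16443 := d6_1 D18382 (iv F33310) F33308
theorem F33313 : act 4 n18382 = n16442 := d12_2 D15411 D18382 F29520 (iv D16621) F23042
theorem F33314 : act 5 n18382 = n18203 := d13_2 (iv F26947) D18382 (iv D18203)
def n18383 : Q := act 3 n15413
theorem D18383 : act 3 n15413 = n18383 := rfl
theorem F33315 : act 0 n18383 = n16442 := d2_1 D18383 F29520 F29516
def n18384 : Q := act 3 n15420
theorem D18384 : act 3 n15420 = n18384 := rfl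
theorem F33316 : act 1 n18384 = n15422 := d6_1 D18384 (iv D15422) (iv F26971)
def n18385 : Q := act 5 n15420
theorem D18385 : act 5 n15420 = n18385 := rfl
theorem F33317 : act 1 n18385 = n15423 := d8_1 D18385 (iv D15423) (iv F26971)
theorem F33318 : act 2 n18385 = n15469 := d11_1 D18385 (iv D15469) (iv F26972)
theorem F33319 : act 4 n18385 = n15935 := d14_1 D18385 (iv D15935) (iv F25947) F25948 D15420
def n18386 : Q := act 3 n15421
theorem D18386 : act 3 n15421 = n18386 := rfl
theorem F33320 : act 0 n18386 = n15424 := d2_1 D18386 (iv D15424) (iv F26973)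
theorem F33321 : act 4 n18386 = n15422 := d12_2 D15421 D18386 (iv D15422) (iv D12330) D12329
def n18387 : Q := act 5 n15421
theorem D18387 : act 5 n15421 = n18387 := rfl
theorem F33322 : act 0 n18387 = n15425 := d4_1 D18387 (iv D15425) (iv F26973)
theorem F33323 : act 2 n18387 = n15425 := d11_1 D18387 (iv D15425) (iv F26974)
def n18388 : Q := act 2 n15422
theorem D18388 : act 2 n15422 = n18388 := rfl
theorem F33324 : act 0 n18388 = n15426 := d1_1 D18388 (iv D15426) (iv F26975)
def n18389 : Q := act 5 n15422
theorem D18389 : act 5 n15422 = n18389 := rfl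
theorem F33325 : act 0 n18389 = n15427 := d4_1 D18389 (iv D15427) (iv F26975)
theorem F33326 : act 3 n18389 = n15423 := d13_1 D18389 (iv D15423) D15422
def n18390 : Q := act 2 n15424
theorem D18390 : act 2 n15424 = n18390 := rfl
theorem F33327 : act 4 n18390 = n15426 := d10_2 (iv F26979) D18390 (iv D15426)
def n18391 : Q := act 5 n15424
theorem D18391 : act 5 n15424 = n18391 := rfl
theorem F33328 : act 3 n18391 = n15425 := d13_1 D18391 (iv D15425) D15424
def n18392 : Q := act 1 n15426
theorem D18392 : act 1 n15426 = n18392 := rfl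
def n18393 : Q := act 3 n15426
theorem D18393 : act 3 n15426 = n18393 := rfl
def n18394 : Q := act 5 n15426
theorem D18394 : act 5 n15426 = n18394 := rfl
theorem F33329 : act 2 n18394 = n15427 := d11_1 D18394 (iv D15427) D15426
def n18395 : Q := act 4 n15427
theorem D18395 : act 4 n15427 = n18395 := rfl
def n18396 : Q := act 3 n15432
theorem D18396 : act 3 n15432 = n18396 := rfl
theorem F33330 : act 0 n18396 = n15434 := d2_1 D18396 (iv D15434) (iv F26998)
theorem F33331 : act 1 n18396 = n16952 := d6_1 D18396 F30231 (iv F26999)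
theorem F33332 : act 4 n18396 = n17313 := d12_2 D15432 D18396 F30945 F24789 (iv F20856)
theorem F33333 : act 5 n18396 = n15610 := d13_2 (iv F27001) D18396 (iv D15610)
def n18397 : Q := act 2 n15434
theorem D18397 : act 2 n15434 = n18397 := rfl
theorem F33334 : act 1 n18397 = n17236 := d5_1 D18397 (iv D17236) F24254 D14236 (iv F27005)
theorem F33335 : act 4 n18397 = n17237 := d10_2 (iv F27006) D18397 F30787
def n18398 : Q := act 5 n15436
theorem D18398 : act 5 n15436 = n18398 := rfl
theorem F33336 : act 0 n18398 = n15439 := d4_1 D18398 (iv D15439) (iv F27010)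
def n18399 : Q := act 3 n15437
theorem D18399 : act 3 n15437 = n18399 := rfl
theorem F33337 : act 0 n18399 = n15440 := d2_1 D18399 (iv D15440) (iv F27011)
theorem F33338 : act 2 n18399 = n17310 := d9_1 D18399 F30940 F24404 (iv F24406) (iv F30941) F33196 F33193 (iv F32482) F32481 (iv D17291) F24367 D14229 (iv F26373) D18148 (iv F32767)
theorem F33339 : act 5 n18399 = n17309 := d13_2 F33205 D18399 (iv F33203)
def n18400 : Q := act 2 n15440
theorem D18400 : act 2 n15440 = n18400 := rfl
theorem F33340 : act 0 n18400 = n17310 := d1_1 D18400 (iv F33338) F33337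
theorem F33341 : act 1 n18400 = n17293 := d5_1 D18400 (iv F32190) F32187 F25695 (iv F27014)
theorem F33342 : act 3 n18400 = n17292 := d9_2 D15440 D18400 F30909 (iv F30932) (iv F32760) F32761 (iv F33202) F33203 (iv D17309) (iv D14234) F18793 D11212 D14236 (iv F27004) F27003
theorem F33343 : act 5 n18400 = n17291 := d11_2 F32483 D18400 (iv F32481)
def n18401 : Q := act 4 n15441
theorem D18401 : act 4 n15441 = n18401 := rfl
theorem F33344 : act 0 n18401 = n15451 := d3_1 D18401 (iv D15451) (iv F27015)
theorem F33345 : act 2 n18401 = n15442 := d10_1 D18401 (iv D15442) (iv F27016)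
def n18402 : Q := act 3 n15442
theorem D18402 : act 3 n15442 = n18402 := rfl
theorem F33346 : act 0 n18402 = n15453 := d2_1 D18402 (iv D15453) (iv F27017)
theorem F33347 : act 4 n18402 = n15443 := d12_2 D15442 D18402 (iv D15443) (iv D12355) (iv F20878)
def n18403 : Q := act 2 n15443
theorem D18403 : act 2 n15443 = n18403 := rfl
theorem F33348 : act 0 n18403 = n15454 := d1_1 D18403 (iv D15454) (iv F27018)
theorem F33349 : act 5 n18403 = n15459 := d11_2 (iv F27019) D18403 (iv D15459)
def n18404 : Q := act 3 n15444
theorem D18404 : act 3 n15444 = n18404 := rfl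
theorem F33350 : act 0 n18404 = n15445 := d2_1 D18404 (iv D15445) D15444
theorem F33351 : act 2 n18404 = n15625 := d15_2 (iv F27020) D18404 (iv D15625) (iv D12540) (iv D9805) (iv F16014) D12276 F20764 D12363
def n18405 : Q := act 2 n15445
theorem D18405 : act 2 n15445 = n18405 := rfl
theorem F33352 : act 0 n18405 = n15625 := d1_1 D18405 (iv F33351) F33350
theorem F33353 : act 3 n18405 = n15621 := d15_3 (iv F20881) D15445 D18405 (iv D15621) (iv D12538) (iv F20761) D15376 F26879 (iv D12363)
def n18406 : Q := act 4 n15445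
theorem D18406 : act 4 n15445 = n18406 := rfl
theorem F33354 : act 1 n18406 = n15447 := d7_1 D18406 (iv D15447) (iv F27021)
theorem F33355 : act 3 n18406 = n16245 := d12_1 D18406 (iv F32682) F32681 (iv D15446) D15445
theorem F33356 : act 5 n16244 = n18406 := d13_0 F33355 (iv D16245) D16244
def n18407 : Q := act 5 n15447
theorem D18407 : act 5 n15447 = n18407 := rfl
theorem F33357 : act 1 n18407 = n16244 := d8_1 D18407 F33356 F33354
theorem F33358 : act 3 n18407 = n16243 := d13_1 D18407 (iv F28700) F28342
def n18408 : Q := act 4 n15448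
theorem D18408 : act 4 n15448 = n18408 := rfl
def n18409 : Q := act 5 n15449
theorem D18409 : act 5 n15449 = n18409 := rfl
theorem F33359 : act 1 n18409 = n16253 := d8_1 D18409 (iv F32683) F32679
theorem F33360 : act 2 n18409 = n16259 := d11_1 D18409 F28734 F28345
theorem F33361 : act 3 n18409 = n15450 := d13_1 D18409 (iv D15450) D15449
theorem F33362 : act 4 n18409 = n16249 := d14_1 D18409 (iv D16249) (iv F28699) (iv F28700) (iv F28343)
def n18410 : Q := act 4 n15450
theorem D18410 : act 4 n15450 = n18410 := rfl
theorem F33363 : act 2 n18410 = n15452 := d10_1 D18410 (iv D15452) (iv F27025)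
theorem F33364 : act 5 n18410 = n15451 := d14_2 D15450 D18410 (iv D15451) (iv D12359) D12358
def n18411 : Q := act 3 n15451
theorem D18411 : act 3 n15451 = n18411 := rfl
def n18412 : Q := act 2 n15453
theorem D18412 : act 2 n15453 = n18412 := rfl
theorem F33365 : act 4 n18412 = n15454 := d10_2 (iv F27030) D18412 (iv D15454)
def n18413 : Q := act 1 n15454
theorem D18413 : act 1 n15454 = n18413 := rfl
theorem F33366 : act 2 n18413 = n15456 := d5_2 D15454 D18413 (iv D15456) (iv D12367) (iv F20887)
theorem F33367 : act 5 n18413 = n15464 := d8_2 (iv F27031) D18413 (iv D15464)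
def n18414 : Q := act 3 n15454
theorem D18414 : act 3 n15454 = n18414 := rfl
theorem F33368 : act 5 n18414 = n15465 := d13_2 (iv F27031) D18414 (iv D15465)
def n18415 : Q := act 0 n15456
theorem D18415 : act 0 n15456 = n18415 := rfl
theorem F33369 : act 5 n18415 = n15466 := d4_2 (iv F27033) D18415 (iv D15466)
def n18416 : Q := act 5 n15457
theorem D18416 : act 5 n15457 = n18416 := rfl
theorem F33370 : act 0 n18416 = n15462 := d4_1 D18416 (iv D15462) (iv F27034)
theorem F33371 : act 1 n18416 = n16235 := d8_1 D18416 F29419 F29417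
theorem F33372 : act 3 n18416 = n16234 := d13_1 D18416 (iv F28680) (iv F27043)
def n18417 : Q := act 1 n15459
theorem D18417 : act 1 n15459 = n18417 := rfl
def n18418 : Q := act 5 n15460
theorem D18418 : act 5 n15460 = n18418 := rfl
theorem F33373 : act 1 n18418 = n15797 := d8_1 D18418 F27776 (iv F27037)
theorem F33374 : act 2 n18418 = n15462 := d11_1 D18418 (iv D15462) (iv F27038)
theorem F33375 : act 3 n18418 = n15816 := d13_1 D18418 (iv D15816) F27039
def n18419 : Q := act 5 n15461
theorem D18419 : act 5 n15461 = n18419 := rfl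
theorem F33376 : act 0 n18419 = n16234 := d4_1 D18419 (iv F28680) F27042
theorem F33377 : act 2 n18419 = n16237 := d11_1 D18419 F28686 (iv F27041)
theorem F33378 : act 3 n18419 = n15462 := d13_1 D18419 (iv D15462) D15461
def n18420 : Q := act 1 n15463
theorem D18420 : act 1 n15463 = n18420 := rfl
theorem F33379 : act 0 n18420 = n16259 := d0_1 D18420 F28732 F22372 (iv F22413) (iv F27046)
theorem F33380 : act 4 n18420 = n16256 := d7_2 (iv F27047) D18420 F28724
theorem F33381 : act 3 n15463 = n18420 := d12_5 F33380 F28725 F22405 D13199 (iv F27047)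
def n18421 : Q := act 0 n15464
theorem D18421 : act 0 n15464 = n18421 := rfl
theorem F33382 : act 2 n18421 = n15466 := d1_2 (iv F27048) D18421 (iv D15466)
def n18422 : Q := act 3 n15464
theorem D18422 : act 3 n15464 = n18422 := rfl
theorem F33383 : act 1 n18422 = n15465 := d6_1 D18422 (iv D15465) D15464
def n18423 : Q := act 4 n15465
theorem D18423 : act 4 n15465 = n18423 := rfl
def n18424 : Q := act 3 n15466
theorem D18424 : act 3 n15466 = n18424 := rfl
theorem F33384 : act 0 n18424 = n15467 := d2_1 D18424 (iv D15467) D15466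
def n18425 : Q := act 2 n15467
theorem D18425 : act 2 n15467 = n18425 := rfl
def n18426 : Q := act 5 n15468
theorem D18426 : act 5 n15468 = n18426 := rfl
theorem F33385 : act 0 n18426 = n15469 := d4_1 D18426 (iv D15469) (iv F27050)
theorem F33386 : act 1 n18426 = n15471 := d8_1 D18426 (iv D15471) (iv F27051)
theorem F33387 : act 3 n18426 = n18336 := d13_1 D18426 F33216 F33045
theorem F33388 : act 4 n18426 = n15940 := d14_1 D18426 (iv D15940) (iv F25966) F25967 D15468
def n18427 : Q := act 3 n15472
theorem D18427 : act 3 n15472 = n18427 := rfl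
theorem F33389 : act 1 n18427 = n15473 := d6_1 D18427 (iv D15473) D15472
theorem F33390 : act 4 n17962 = n18427 := d7_0 F33389 (iv F27065) D17962
def n18428 : Q := act 5 n15472
theorem D18428 : act 5 n15472 = n18428 := rfl
theorem F33391 : act 1 n18428 = n15474 := d8_1 D18428 (iv D15474) D15472
theorem F33392 : act 2 n18428 = n15478 := d11_1 D18428 (iv D15478) (iv F27062)
def n18429 : Q := act 5 n15473
theorem D18429 : act 5 n15473 = n18429 := rfl
theorem F33393 : act 0 n18429 = n17967 := d4_1 D18429 (iv D17967) (iv F27063)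
theorem F33394 : act 2 n18429 = n17964 := d11_1 D18429 (iv D17964) (iv F27064)
theorem F33395 : act 3 n18429 = n15474 := d13_1 D18429 (iv D15474) D15473
def n18430 : Q := act 4 n15474
theorem D18430 : act 4 n15474 = n18430 := rfl
theorem F33396 : act 2 n18430 = n15475 := d10_1 D18430 (iv D15475) (iv F27066)
def n18431 : Q := act 3 n15476
theorem D18431 : act 3 n15476 = n18431 := rfl
theorem F33397 : act 0 n18431 = n15477 := d2_1 D18431 (iv D15477) D15476
def n18432 : Q := act 5 n15476
theorem D18432 : act 5 n15476 = n18432 := rfl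
theorem F33398 : act 0 n18432 = n15478 := d4_1 D18432 (iv D15478) D15476
def n18433 : Q := act 2 n15477
theorem D18433 : act 2 n15477 = n18433 := rfl
theorem F33399 : act 1 n18433 = n15890 := d5_1 D18433 F27931 (iv F25352) F25353 (iv F27068)
theorem F33400 : act 5 n18433 = n15888 := d11_2 F31873 D18433 (iv F31870)
def n18434 : Q := act 4 n15479
theorem D18434 : act 4 n15479 = n18434 := rfl
theorem F33401 : act 0 n18434 = n15483 := d3_1 D18434 (iv D15483) (iv F27070)
theorem F33402 : act 1 n18434 = n17119 := d7_1 D18434 (iv D17119) (iv F27071)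
theorem F33403 : act 2 n18434 = n15483 := d10_1 D18434 (iv D15483) (iv F27072)
def n18435 : Q := act 3 n15480
theorem D18435 : act 3 n15480 = n18435 := rfl
theorem F33404 : act 0 n18435 = n15484 := d2_1 D18435 (iv D15484) (iv F27074)
def n18436 : Q := act 3 n15481
theorem D18436 : act 3 n15481 = n18436 := rfl
theorem F33405 : act 0 n18436 = n15482 := d2_1 D18436 (iv D15482) (iv F27076)
theorem F33406 : act 1 n18436 = n18343 := d6_1 D18436 F33237 F32456
theorem F33407 : act 4 n18436 = n15939 := d12_2 D15481 D18436 (iv D15939) (iv F25966) F25965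
theorem F33408 : act 5 n18436 = n17190 := d13_2 F33042 D18436 (iv F33041)
def n18437 : Q := act 3 n15483
theorem D18437 : act 3 n15483 = n18437 := rfl
theorem F33409 : act 1 n18437 = n17036 := d6_1 D18437 (iv D17036) (iv F27081)
theorem F33410 : act 4 n18437 = n15484 := d12_2 D15483 D18437 (iv D15484) (iv D12399) D12398
def n18438 : Q := act 5 n15483
theorem D18438 : act 5 n15483 = n18438 := rfl
theorem F33411 : act 1 n18438 = n17037 := d8_1 D18438 (iv D17037) (iv F27081)
theorem F33412 : act 4 n18438 = n17114 := d14_1 D18438 (iv D17114) (iv D14032) (iv F20936) D15483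
def n18439 : Q := act 2 n15484
theorem D18439 : act 2 n15484 = n18439 := rfl
def n18440 : Q := act 5 n15484
theorem D18440 : act 5 n15484 = n18440 := rfl
theorem F33413 : act 1 n18440 = n17039 := d8_1 D18440 (iv D17039) (iv F27082)
theorem F33414 : act 3 n18440 = n15485 := d13_1 D18440 (iv D15485) D15484
def n18441 : Q := act 2 n15486
theorem D18441 : act 2 n15486 = n18441 := rfl
theorem F33415 : act 0 n18441 = n15488 := d1_1 D18441 (iv D15488) (iv F27086)
theorem F33416 : act 1 n18441 = n17763 := d5_1 D18441 F31908 F25406 (iv F23450) (iv F27087)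
theorem F33417 : act 4 n18441 = n16756 := d10_2 (iv F27088) D18441 F29845
theorem F33418 : act 5 n17761 = n18441 := d14_0 F33417 (iv D16756) F26625 (iv F26626) D17761
def n18442 : Q := act 5 n15486
theorem D18442 : act 5 n15486 = n18442 := rfl
theorem F33419 : act 0 n18442 = n15489 := d4_1 D18442 (iv D15489) (iv F27086)
theorem F33420 : act 1 n18442 = n16757 := d8_1 D18442 F29849 (iv F27087)
theorem F33421 : act 2 n18442 = n17761 := d11_1 D18442 F33418 (iv D18441)
theorem F33422 : act 3 n18442 = n15487 := d13_1 D18442 (iv D15487) D15486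
theorem F33423 : act 4 n18442 = n16754 := d14_1 D18442 (iv D16754) F23433 D13701 (iv F27088)
def n18443 : Q := act 1 n15488
theorem D18443 : act 1 n15488 = n18443 := rfl
theorem F33424 : act 2 n18443 = n15490 := d5_2 D15488 D18443 (iv D15490) (iv D12404) (iv F20943)
theorem F33425 : act 4 n18443 = n16977 := d7_2 (iv F27092) D18443 (iv D16977)
def n18444 : Q := act 3 n15488
theorem D18444 : act 3 n15488 = n18444 := rfl
def n18445 : Q := act 5 n15488
theorem D18445 : act 5 n15488 = n18445 := rfl
theorem F33426 : act 0 n18445 = n17761 := d4_1 D18445 F33418 F33415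
theorem F33427 : act 2 n18445 = n15489 := d11_1 D18445 (iv D15489) D15488
theorem F33428 : act 4 n18445 = n17760 := d14_1 D18445 (iv F33029) (iv F33030) F29565 (iv F27092)
def n18446 : Q := act 4 n15489
theorem D18446 : act 4 n15489 = n18446 := rfl
theorem F33429 : act 0 n18446 = n16754 := d3_1 D18446 (iv F33423) F33419
theorem F33430 : act 1 n18446 = n15493 := d7_1 D18446 (iv D15493) (iv F27093)
theorem F33431 : act 2 n18446 = n17760 := d10_1 D18446 (iv F33428) F33427
theorem F33432 : act 3 n18446 = n16619 := d12_1 D18446 F29510 F23089 (iv F20946) (iv F27094)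
theorem F33433 : act 5 n18446 = n16618 := d14_2 D15489 D18446 F29506 F23092 (iv F20944)
def n18447 : Q := act 0 n15490
theorem D18447 : act 0 n15490 = n18447 := rfl
theorem F33434 : act 1 n18447 = n17030 := d0_2 D15490 D18447 F30414 F23930 (iv F20947)
theorem F33435 : act 4 n18447 = n16979 := d3_2 (iv F27095) D18447 (iv D16979)
def n18448 : Q := act 3 n15490
theorem D18448 : act 3 n15490 = n18448 := rfl
theorem F33436 : act 1 n18448 = n15491 := d6_1 D18448 (iv D15491) D15490
theorem F33437 : act 4 n18448 = n17023 := d12_2 (iv F27095) D18448 (iv D17023) F23925 (iv F23855)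
def n18449 : Q := act 5 n15490
theorem D18449 : act 5 n15490 = n18449 := rfl
theorem F33438 : act 1 n18449 = n15492 := d8_1 D18449 (iv D15492) D15490
theorem F33439 : act 4 n18449 = n17029 := d14_1 D18449 (iv D17029) (iv D13949) (iv F23856) (iv F27095)
def n18450 : Q := act 3 n15495
theorem D18450 : act 3 n15495 = n18450 := rfl
theorem F33440 : act 0 n18450 = n18382 := d2_1 D18450 (iv D18382) (iv F27108)
theorem F33441 : act 4 n18450 = n18383 := d12_2 D15495 D18450 (iv D18383) (iv D15413) (iv F20958)
theorem F33442 : act 5 n18450 = n15500 := d13_2 (iv F27110) D18450 (iv D15500)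
def n18451 : Q := act 4 n15498
theorem D18451 : act 4 n15498 = n18451 := rfl
theorem F33443 : act 1 n18451 = n16948 := d7_1 D18451 (iv D16948) (iv F27120)
theorem F33444 : act 2 n18451 = n15532 := d10_1 D18451 F27195 (iv F27121)
theorem F33445 : act 5 n18451 = n15499 := d14_2 D15498 D18451 (iv D15499) (iv D12414) D12413
def n18452 : Q := act 3 n15499
theorem D18452 : act 3 n15499 = n18452 := rfl
theorem F33446 : act 4 n18452 = n15500 := d12_2 D15499 D18452 (iv D15500) (iv D12415) (iv F20968)
def n18453 : Q := act 2 n15500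
theorem D18453 : act 2 n15500 = n18453 := rfl
def n18454 : Q := act 1 n15506
theorem D18454 : act 1 n15506 = n18454 := rfl
theorem F33447 : act 0 n18454 = n17107 := d0_1 D18454 F30536 F27142 (iv D15510) (iv F27134)
theorem F33448 : act 2 n18454 = n17702 := d5_2 D15506 D18454 F31784 F28004 F27124
theorem F33449 : act 5 n17065 = n18454 := d11_0 F33448 (iv D17702) (iv F30476)
theorem F33450 : act 4 n18454 = n17064 := d14_1 F33449 (iv D17064) (iv D13989) D13990 D17065
theorem F33451 : act 3 n17106 = n18454 := d2_0 F33447 (iv D17107) D17106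
def n18455 : Q := act 3 n15506
theorem D18455 : act 3 n15506 = n18455 := rfl
theorem F33452 : act 0 n18455 = n15511 := d2_1 D18455 (iv D15511) (iv F27134)
theorem F33453 : act 1 n18455 = n17106 := d6_1 D18455 F33451 (iv D18454)
theorem F33454 : act 4 n15555 = n18455 := d3_0 F33452 (iv F27147) (iv F27253)
def n18456 : Q := act 4 n15506
theorem D18456 : act 4 n15506 = n18456 := rfl
theorem F33455 : act 0 n18456 = n15512 := d3_1 D18456 (iv D15512) (iv F27134)
theorem F33456 : act 1 n18456 = n17064 := d7_1 D18456 (iv F33450) (iv D18454)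
theorem F33457 : act 2 n18456 = n15507 := d10_1 D18456 (iv D15507) D15506
theorem F33458 : act 3 n18456 = n15556 := d12_1 D18456 (iv D15556) (iv F27254) F33454 (iv D18455)
theorem F33459 : act 5 n15568 = n18456 := d13_0 F33458 F27257 D15568
def n18457 : Q := act 5 n15506
theorem D18457 : act 5 n15506 = n18457 := rfl
theorem F33460 : act 0 n18457 = n15513 := d4_1 D18457 (iv D15513) (iv F27134)
theorem F33461 : act 1 n18457 = n17065 := d8_1 D18457 F33449 (iv D18454)
theorem F33462 : act 2 n18457 = n15508 := d11_1 D18457 (iv D15508) D15506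
theorem F33463 : act 4 n18457 = n17061 := d14_1 D18457 (iv D17061) (iv F27288) F33459 (iv D18456)
def n18458 : Q := act 5 n15507
theorem D18458 : act 5 n15507 = n18458 := rfl
theorem F33464 : act 0 n18458 = n15514 := d4_1 D18458 (iv D15514) (iv F27135)
theorem F33465 : act 2 n18458 = n15568 := d11_1 D18458 F33459 F33457
theorem F33466 : act 3 n18458 = n15522 := d13_1 D18458 (iv D15522) (iv F27136)
theorem F33467 : act 4 n17060 = n18458 := d10_0 F33465 F27288 D17060
def n18459 : Q := act 4 n15508
theorem D18459 : act 4 n15508 = n18459 := rfl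
theorem F33468 : act 0 n18459 = n15515 := d3_1 D18459 (iv D15515) (iv F27137)
theorem F33469 : act 1 n18459 = n17701 := d7_1 D18459 F31782 (iv F28001)
theorem F33470 : act 2 n18459 = n17061 := d10_1 D18459 (iv F33463) F33462
theorem F33471 : act 5 n18459 = n17060 := d14_2 D15508 D18459 F33467 (iv D18458) (iv D15507)
def n18460 : Q := act 3 n15509
theorem D18460 : act 3 n15509 = n18460 := rfl
theorem F33472 : act 0 n18460 = n15516 := d2_1 D18460 (iv D15516) (iv F27139)
theorem F33473 : act 5 n18460 = n15523 := d13_2 (iv F27140) D18460 (iv D15523)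
def n18461 : Q := act 2 n15511
theorem D18461 : act 2 n15511 = n18461 := rfl
theorem F33474 : act 1 n18461 = n17003 := d5_1 D18461 F30360 F23894 (iv F21083) (iv F27146)
theorem F33475 : act 4 n18461 = n15560 := d10_2 F27147 D18461 F27264
def n18462 : Q := act 5 n15511
theorem D18462 : act 5 n15511 = n18462 := rfl
theorem F33476 : act 1 n18462 = n15566 := d8_1 D18462 F27280 (iv F27146)
theorem F33477 : act 3 n18462 = n15513 := d13_1 D18462 (iv D15513) D15511
theorem F33478 : act 4 n18462 = n15561 := d14_1 D18462 (iv D15561) (iv D12476) D12477 F27147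
def n18463 : Q := act 4 n15513
theorem D18463 : act 4 n15513 = n18463 := rfl
theorem F33479 : act 0 n18463 = n17061 := d3_1 D18463 (iv F33463) F33460
theorem F33480 : act 1 n18463 = n15573 := d7_1 D18463 F27301 (iv F27152)
theorem F33481 : act 2 n18463 = n15515 := d10_1 D18463 (iv D15515) (iv F27153)
theorem F33482 : act 3 n18463 = n15571 := d12_1 D18463 (iv D15571) (iv F27266) (iv F33478) F33477
theorem F33483 : act 5 n18463 = n15572 := d14_2 D15513 D18463 F27298 F27151 (iv D15512)
def n18464 : Q := act 4 n15514
theorem D18464 : act 4 n15514 = n18464 := rfl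
theorem F33484 : act 0 n18464 = n17060 := d3_1 D18464 F33467 F33464
theorem F33485 : act 1 n18464 = n15519 := d7_1 D18464 (iv D15519) (iv F27154)
theorem F33486 : act 2 n18464 = n15572 := d10_1 D18464 F27298 (iv F27155)
theorem F33487 : act 5 n18464 = n15515 := d14_2 D15514 D18464 (iv D15515) (iv D12430) D12429
def n18465 : Q := act 3 n15515
theorem D18465 : act 3 n15515 = n18465 := rfl
theorem F33488 : act 1 n18465 = n15520 := d6_1 D18465 (iv D15520) (iv F27157)
theorem F33489 : act 4 n18465 = n15516 := d12_2 D15515 D18465 (iv D15516) (iv D12431) (iv F20994)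
theorem F33490 : act 2 n18465 = n17069 := d15_2 F33481 D18465 (iv D17069) (iv D13994) (iv D11013) (iv F18485) D13986 D17061 (iv F33479)
def n18466 : Q := act 2 n15516
theorem D18466 : act 2 n15516 = n18466 := rfl
theorem F33491 : act 4 n18466 = n17069 := d10_2 F33489 D18466 (iv F33490)
theorem F33492 : act 5 n18466 = n15526 := d11_2 (iv F27159) D18466 (iv D15526)
def n18467 : Q := act 1 n15521
theorem D18467 : act 1 n15521 = n18467 := rfl
theorem F33493 : act 5 n18467 = n15527 := d8_2 (iv F27171) D18467 (iv D15527)
def n18468 : Q := act 2 n15523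
theorem D18468 : act 2 n15523 = n18468 := rfl
theorem F33494 : act 0 n18468 = n15526 := d1_1 D18468 (iv D15526) (iv F27174)
def n18469 : Q := act 1 n15526
theorem D18469 : act 1 n15526 = n18469 := rfl
theorem F33495 : act 2 n18469 = n15527 := d5_2 D15526 D18469 (iv D15527) (iv D12444) (iv F21008)
def n18470 : Q := act 3 n15526
theorem D18470 : act 3 n15526 = n18470 := rfl
def n18471 : Q := act 0 n15527
theorem D18471 : act 0 n15527 = n18471 := rfl
def n18472 : Q := act 3 n15527
theorem D18472 : act 3 n15527 = n18472 := rfl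
theorem F33496 : act 1 n18472 = n15528 := d6_1 D18472 (iv D15528) D15527
def n18473 : Q := act 4 n15530
theorem D18473 : act 4 n15530 = n18473 := rfl
theorem F33497 : act 0 n18473 = n15637 := d3_1 D18473 F31972 F31968
theorem F33498 : act 1 n18473 = n16950 := d7_1 D18473 F32548 F32545
theorem F33499 : act 2 n18473 = n15531 := d10_1 D18473 (iv D15531) D15530
theorem F33500 : act 5 n18473 = n15609 := d14_2 (iv F27188) D18473 (iv D15609) (iv D12527) D12526
def n18474 : Q := act 1 n15534
theorem D18474 : act 1 n15534 = n18474 := rfl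
theorem F33501 : act 0 n18474 = n15774 := d0_1 D18474 F27725 F21472 (iv F21021) (iv F27201)
theorem F33502 : act 2 n18474 = n15771 := d5_2 D15534 D18474 (iv D15771) (iv D12703) (iv F21016)
theorem F33503 : act 5 n18474 = n15772 := d8_2 (iv F27202) D18474 F27721
theorem F33504 : act 3 n18124 = n18474 := d2_0 F33501 F27726 D18124
def n18475 : Q := act 3 n15534
theorem D18475 : act 3 n15534 = n18475 := rfl
theorem F33505 : act 0 n18475 = n15537 := d2_1 D18475 (iv D15537) (iv F27201)
theorem F33506 : act 1 n18475 = n18124 := d6_1 D18475 F33504 (iv D18474)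
theorem F33507 : act 5 n18475 = n15777 := d13_2 (iv F27202) D18475 (iv D15777)
def n18476 : Q := act 4 n15534
theorem D18476 : act 4 n15534 = n18476 := rfl
theorem F33508 : act 0 n18476 = n15538 := d3_1 D18476 (iv D15538) (iv F27201)
theorem F33509 : act 2 n18476 = n15535 := d10_1 D18476 (iv D15535) D15534
theorem F33510 : act 5 n18476 = n15683 := d14_2 (iv F27202) D18476 (iv D15683) (iv F27473) F27472
def n18477 : Q := act 2 n15537
theorem D18477 : act 2 n15537 = n18477 := rfl
theorem F33511 : act 1 n18477 = n18121 := d5_1 D18477 (iv D18121) F26324 (iv F21482) (iv F27211)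
theorem F33512 : act 5 n18477 = n15778 := d11_2 (iv F27212) D18477 (iv D15778)
def n18478 : Q := act 4 n15537
theorem D18478 : act 4 n15537 = n18478 := rfl
theorem F33513 : act 1 n18478 = n15783 := d7_1 D18478 (iv D15783) (iv F27211)
theorem F33514 : act 3 n18014 = n18478 := d6_0 F33513 F28025 (iv F32437)
theorem F33515 : act 5 n18478 = n18013 := d13_2 D18014 F33514 (iv D18013)
def n18479 : Q := act 3 n15538
theorem D18479 : act 3 n15538 = n18479 := rfl
theorem F33516 : act 1 n18479 = n15618 := d6_1 D18479 F27392 (iv F27213)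
theorem F33517 : act 4 n18479 = n18014 := d12_2 D15538 D18479 F33514 (iv D18478) (iv D15537)
theorem F33518 : act 5 n18479 = n15613 := d13_2 (iv F27215) D18479 F27381
theorem F33519 : act 2 n18479 = n15614 := d15_2 (iv F27214) D18479 F27383 (iv F26991) F26992 (iv F26385) F26386 (iv F27206) F27203
def n18480 : Q := act 2 n15539
theorem D18480 : act 2 n15539 = n18480 := rfl
theorem F33520 : act 0 n18480 = n15544 := d1_1 D18480 (iv D15544) (iv F27216)
theorem F33521 : act 3 n18480 = n15656 := d9_2 D15539 D18480 F27483 (iv D12702) F16606 F12677 (iv F15666) D12026 D15105 F27349 F27348 (iv F26424) F26423 F20369 (iv F21034)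
theorem F33522 : act 5 n18480 = n15660 := d11_2 (iv F27217) D18480 F27494
theorem F33523 : act 1 n15659 = n18480 := d8_3 F33522 F27492 (iv F27490)
def n18481 : Q := act 2 n15540
theorem D18481 : act 2 n15540 = n18481 := rfl
theorem F33524 : act 0 n18481 = n15545 := d1_1 D18481 (iv D15545) (iv F27218)
theorem F33525 : act 3 n18481 = n18115 := d15_1 D18481 (iv D18115) (iv D15121) F20288 (iv F20251) (iv F21047) (iv F27230) (iv D15546) (iv F27218)
theorem F33526 : act 5 n18118 = n18481 := d13_0 F33525 F32670 D18118
def n18482 : Q := act 5 n15540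
theorem D18482 : act 5 n15540 = n18482 := rfl
theorem F33527 : act 0 n18482 = n15546 := d4_1 D18482 (iv D15546) (iv F27218)
theorem F33528 : act 1 n18482 = n15555 := d8_1 D18482 (iv D15555) (iv F27219)
theorem F33529 : act 2 n18482 = n18118 := d11_1 D18482 F33526 (iv D18481)
theorem F33530 : act 3 n18482 = n15541 := d13_1 D18482 (iv D15541) D15540
theorem F33531 : act 4 n17106 = n18482 := d12_0 F33530 (iv F32942) F32941 (iv F33450) (iv F33451)
def n18483 : Q := act 3 n15542
theorem D18483 : act 3 n15542 = n18483 := rfl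
theorem F33532 : act 0 n18483 = n18087 := d2_1 D18483 (iv D18087) (iv F27223)
theorem F33533 : act 1 n18483 = n15600 := d6_1 D18483 F27363 (iv F27224)
theorem F33534 : act 4 n18483 = n18100 := d12_2 D15542 D18483 (iv D18100) (iv D15103) (iv F21041)
theorem F33535 : act 5 n18483 = n15543 := d13_2 (iv F27225) D18483 (iv D15543)
def n18484 : Q := act 2 n15543
theorem D18484 : act 2 n15543 = n18484 := rfl
theorem F33536 : act 4 n18484 = n15544 := d10_2 (iv F27227) D18484 (iv D15544)
def n18485 : Q := act 1 n15545
theorem D18485 : act 1 n15545 = n18485 := rfl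
theorem F33537 : act 2 n18485 = n15547 := d5_2 D15545 D18485 (iv D15547) (iv D12466) (iv F21045)
theorem F33538 : act 5 n15552 = n18485 := d11_0 F33537 F27233 D15552
theorem F33539 : act 0 n18407 = n18485 := d15_9 F33537 F27232 F21066 (iv D10522) (iv F17047) D13020 D16061 F28342 D18407
def n18486 : Q := act 3 n15545
theorem D18486 : act 3 n15545 = n18486 := rfl
theorem F33540 : act 0 n18486 = n18115 := d2_1 D18486 (iv F33525) F33524
theorem F33541 : act 2 n18486 = n18099 := d9_1 D18486 F32643 F26241 (iv F21041) (iv F27222) (iv F33530) F33529 (iv D18118) (iv D15127) (iv D12047) F20248 (iv D12015) (iv F16247) D12464 D15545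
theorem F33542 : act 5 n18486 = n17829 := d15_8 (iv D15127) (iv D12047) F20248 (iv D12015) (iv F16247) D12464 D15545 D18486 F32075
def n18487 : Q := act 5 n15545
theorem D18487 : act 5 n15545 = n18487 := rfl
theorem F33543 : act 0 n18487 = n18118 := d4_1 D18487 F33526 F33524
theorem F33544 : act 1 n18487 = n15552 := d8_1 D18487 F33538 (iv D18485)
theorem F33545 : act 2 n18487 = n15546 := d11_1 D18487 (iv D15546) D15545
theorem F33546 : act 3 n18487 = n17829 := d13_1 D18487 (iv F33542) (iv D18486)
theorem F33547 : act 4 n17105 = n18487 := d12_0 F33546 (iv D17829) (iv D14800) (iv F25588) (iv F30535)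
def n18488 : Q := act 0 n15547
theorem D18488 : act 0 n15547 = n18488 := rfl
theorem F33548 : act 1 n18488 = n15562 := d0_2 D15547 D18488 (iv D15562) (iv D12479) (iv F21048)
theorem F33549 : act 2 n18488 = n18407 := d1_2 F33537 D18488 F33539
theorem F33550 : act 3 n18488 = n15551 := d2_2 (iv F27232) D18488 F27243
theorem F33551 : act 5 n18488 = n15550 := d4_2 (iv F27233) D18488 F27239
def n18489 : Q := act 3 n15552
theorem D18489 : act 3 n15552 = n18489 := rfl
theorem F33552 : act 0 n18489 = n16061 := d2_1 D18489 F28342 (iv F27247)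
theorem F33553 : act 1 n18489 = n17829 := d6_1 D18489 (iv F33546) F33544
theorem F33554 : act 2 n18489 = n16059 := d9_1 D18489 (iv D16059) F22088 D13404 (iv F27245) (iv F33550) F33549 F33358 F28698 F22358 F22091 F17612 (iv F16257) D12471 D15552
theorem F33555 : act 4 n18489 = n17828 := d12_2 (iv F27248) D18489 (iv D17828) F25595 (iv F24037)
def n18490 : Q := act 1 n15553
theorem D18490 : act 1 n15553 = n18490 := rfl
theorem F33556 : act 3 n18490 = n16578 := d6_2 (iv F27250) D18490 (iv D16578)
theorem F33557 : act 5 n16587 = n18490 := d13_0 F33556 F29441 D16587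
def n18491 : Q := act 4 n15553
theorem D18491 : act 4 n15553 = n18491 := rfl
theorem F33558 : act 0 n18491 = n15559 := d3_1 D18491 (iv D15559) (iv F27249)
theorem F33559 : act 2 n18491 = n15554 := d10_1 D18491 (iv D15554) D15553
def n18492 : Q := act 5 n15553
theorem D18492 : act 5 n15553 = n18492 := rfl
theorem F33560 : act 0 n18492 = n15560 := d4_1 D18492 (iv D15560) (iv F27249)
theorem F33561 : act 1 n18492 = n16587 := d8_1 D18492 F33557 (iv D18490)
theorem F33562 : act 2 n18492 = n15555 := d11_1 D18492 (iv D15555) D15553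
theorem F33563 : act 3 n18492 = n15578 := d13_1 D18492 F27319 (iv F27250)
def n18493 : Q := act 5 n15554
theorem D18493 : act 5 n15554 = n18493 := rfl
theorem F33564 : act 0 n18493 = n15561 := d4_1 D18493 (iv D15561) (iv F27251)
theorem F33565 : act 1 n18493 = n17066 := d8_1 D18493 (iv F32946) F32944
theorem F33566 : act 3 n18493 = n15567 := d13_1 D18493 (iv D15567) (iv F27252)
def n18494 : Q := act 0 n15557
theorem D18494 : act 0 n15557 = n18494 := rfl
theorem F33567 : act 2 n18494 = n15562 := d1_2 (iv F27258) D18494 (iv D15562)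
theorem F33568 : act 5 n18494 = n16999 := d4_2 F27259 D18494 F30353
def n18495 : Q := act 3 n15557
theorem D18495 : act 3 n15557 = n18495 := rfl
theorem F33569 : act 1 n18495 = n15558 := d6_1 D18495 (iv D15558) D15557
theorem F33570 : act 5 n18495 = n17002 := d13_2 F27259 D18495 (iv D17002)
def n18496 : Q := act 4 n15557
theorem D18496 : act 4 n15557 = n18496 := rfl
theorem F33571 : act 1 n18496 = n15559 := d7_1 D18496 (iv D15559) D15557
theorem F33572 : act 2 n18496 = n15563 := d10_1 D18496 (iv D15563) (iv F27258)
def n18497 : Q := act 4 n15558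
theorem D18497 : act 4 n15558 = n18497 := rfl
theorem F33573 : act 0 n18497 = n16579 := d3_1 D18497 (iv D16579) (iv F27260)
theorem F33574 : act 2 n18497 = n16577 := d10_1 D18497 (iv D16577) (iv F27261)
def n18498 : Q := act 5 n15558
theorem D18498 : act 5 n15558 = n18498 := rfl
theorem F33575 : act 0 n18498 = n15578 := d4_1 D18498 F27319 (iv F27260)
theorem F33576 : act 1 n18498 = n17002 := d8_1 D18498 (iv F33570) F33569
theorem F33577 : act 2 n18498 = n15576 := d11_1 D18498 F27314 (iv F27261)
theorem F33578 : act 3 n18498 = n15560 := d13_1 D18498 (iv D15560) D15558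
def n18499 : Q := act 3 n15559
theorem D18499 : act 3 n15559 = n18499 := rfl
def n18500 : Q := act 5 n15559
theorem D18500 : act 5 n15559 = n18500 := rfl
theorem F33579 : act 2 n18500 = n15561 := d11_1 D18500 (iv D15561) (iv F27262)
def n18501 : Q := act 4 n15562
theorem D18501 : act 4 n15562 = n18501 := rfl
theorem F33580 : act 0 n18501 = n15563 := d3_1 D18501 (iv D15563) D15562
def n18502 : Q := act 3 n15563
theorem D18502 : act 3 n15563 = n18502 := rfl
theorem F33581 : act 1 n18502 = n15564 := d6_1 D18502 (iv D15564) (iv F27269)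
theorem F33582 : act 4 n18502 = n17005 := d12_2 D15563 D18502 (iv D17005) (iv D13929) (iv F21078)
theorem F33583 : act 5 n17058 = n18502 := d14_0 F33582 F30364 F23921 D13981 D17058
def n18503 : Q := act 5 n15563
theorem D18503 : act 5 n15563 = n18503 := rfl
theorem F33584 : act 1 n18503 = n15565 := d8_1 D18503 (iv D15565) (iv F27269)
theorem F33585 : act 3 n18503 = n17058 := d13_1 D18503 F33583 (iv D18502)
theorem F33586 : act 4 n18503 = n17004 := d14_1 D18503 (iv D17004) (iv D13928) (iv F21079) D15563
def n18504 : Q := act 2 n15569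
theorem D18504 : act 2 n15569 = n18504 := rfl
def n18505 : Q := act 5 n15569
theorem D18505 : act 5 n15569 = n18505 := rfl
theorem F33587 : act 0 n18505 = n17072 := d4_1 D18505 (iv F32972) F32969
theorem F33588 : act 3 n18505 = n15570 := d13_1 D18505 (iv D15570) D15569
def n18506 : Q := act 4 n15575
theorem D18506 : act 4 n15575 = n18506 := rfl
theorem F33589 : act 0 n18506 = n16574 := d3_1 D18506 (iv D16574) (iv F27308)
theorem F33590 : act 1 n18506 = n15577 := d7_1 D18506 (iv D15577) D15575
theorem F33591 : act 2 n18506 = n15601 := d10_1 D18506 F27364 (iv F27309)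
theorem F33592 : act 5 n18506 = n17162 := d14_2 (iv F27310) D18506 F30646 F30200 F24996
def n18507 : Q := act 4 n15576
theorem D18507 : act 4 n15576 = n18507 := rfl
theorem F33593 : act 0 n18507 = n15579 := d3_1 D18507 (iv D15579) (iv F27312)
theorem F33594 : act 1 n18507 = n16601 := d7_1 D18507 (iv D16601) (iv F27313)
def n18508 : Q := act 3 n15577
theorem D18508 : act 3 n15577 = n18508 := rfl
theorem F33595 : act 0 n18508 = n15580 := d2_1 D18508 (iv D15580) (iv F27315)
theorem F33596 : act 5 n18508 = n17163 := d13_2 (iv F27317) D18508 (iv D17163)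
theorem F33597 : act 2 n18508 = n17158 := d15_2 (iv F27316) D18508 (iv D17158) (iv D14069) (iv D11068) F14238 D8604 (iv F16300) (iv F21101)
def n18509 : Q := act 4 n15578
theorem D18509 : act 4 n15578 = n18509 := rfl
theorem F33598 : act 1 n18509 = n15819 := d7_1 D18509 F27823 (iv F27318)
theorem F33599 : act 2 n18509 = n15579 := d10_1 D18509 (iv D15579) D15578
theorem F33600 : act 3 n15860 = n18509 := d6_0 F33598 F27824 (iv F27896)
theorem F33601 : act 5 n15859 = n18509 := d8_0 F33598 (iv F27825) (iv F27895)
def n18510 : Q := act 3 n15579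
theorem D18510 : act 3 n15579 = n18510 := rfl
theorem F33602 : act 1 n18510 = n16585 := d6_1 D18510 (iv D16585) (iv F27320)
theorem F33603 : act 4 n18510 = n15580 := d12_2 D15579 D18510 (iv D15580) (iv D12497) D12496
def n18511 : Q := act 5 n15579
theorem D18511 : act 5 n15579 = n18511 := rfl
theorem F33604 : act 1 n18511 = n16584 := d8_1 D18511 F29452 (iv F27320)
theorem F33605 : act 2 n18511 = n15859 := d11_1 D18511 F33601 F33599
theorem F33606 : act 4 n18511 = n16580 := d14_1 D18511 (iv D16580) (iv D13499) (iv F21110) D15579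
def n18512 : Q := act 2 n15580
theorem D18512 : act 2 n15580 = n18512 := rfl
theorem F33607 : act 0 n18512 = n17158 := d1_1 D18512 (iv F33597) F33595
theorem F33608 : act 5 n18512 = n17164 := d11_2 (iv F27322) D18512 (iv D17164)
theorem F33609 : act 3 n18512 = n17144 := d15_1 D18512 (iv D17144) (iv D14058) F18547 D11080 D14081 D17163 (iv F33596) F33595
def n18513 : Q := act 2 n15581
theorem D18513 : act 2 n15581 = n18513 := rfl
theorem F33610 : act 0 n18513 = n15582 := d1_1 D18513 (iv D15582) (iv F27323)
theorem F33611 : act 3 n18513 = n17164 := d9_2 D15581 D18513 (iv D17164) (iv D14088) (iv D11085) (iv D8604) (iv F14238) D11068 D14069 D17158 (iv F33597) (iv D18508) F27316 F21103 (iv F21115)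
theorem F33612 : act 5 n18513 = n17144 := d11_2 (iv F27324) D18513 (iv D17144)
def n18514 : Q := act 1 n15582
theorem D18514 : act 1 n15582 = n18514 := rfl
theorem F33613 : act 2 n18514 = n15585 := d5_2 D15582 D18514 (iv D15585) (iv D12504) (iv F21117)
theorem F33614 : act 5 n18514 = n17157 := d8_2 (iv F27325) D18514 (iv D17157)
def n18515 : Q := act 3 n15582
theorem D18515 : act 3 n15582 = n18515 := rfl
theorem F33615 : act 0 n18515 = n17164 := d2_1 D18515 (iv F33611) F33610
theorem F33616 : act 2 n18515 = n17163 := d9_1 D18515 (iv D17163) (iv D14081) (iv D11080) (iv F18547) D14058 D17144 (iv F33609) (iv D18512) (iv D15580) F21112 F16299 (iv F16313) D12499 D15582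
theorem F33617 : act 5 n18515 = n17158 := d13_2 (iv F27325) D18515 (iv D17158)
def n18516 : Q := act 0 n15585
theorem D18516 : act 0 n15585 = n18516 := rfl
theorem F33618 : act 5 n18516 = n17161 := d4_2 (iv F27333) D18516 (iv D17161)
def n18517 : Q := act 4 n15586
theorem D18517 : act 4 n15586 = n18517 := rfl
theorem F33619 : act 1 n18517 = n15587 := d7_1 D18517 (iv D15587) D15586
def n18518 : Q := act 5 n15587
theorem D18518 : act 5 n15587 = n18518 := rfl
theorem F33620 : act 0 n18518 = n15591 := d4_1 D18518 (iv D15591) (iv F27336)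
theorem F33621 : act 2 n18518 = n15588 := d11_1 D18518 (iv D15588) (iv F27337)
theorem F33622 : act 3 n18518 = n15607 := d13_1 D18518 (iv F31592) F31593
theorem F33623 : act 4 n18518 = n16051 := d14_1 D18518 F28322 F25625 F21640 D15587
def n18519 : Q := act 3 n15589
theorem D18519 : act 3 n15589 = n18519 := rfl
theorem F33624 : act 0 n18519 = n15674 := d2_1 D18519 (iv D15674) (iv F27341)
theorem F33625 : act 4 n18519 = n15590 := d12_2 D15589 D18519 (iv D15590) (iv D12509) D12508
def n18520 : Q := act 5 n15589
theorem D18520 : act 5 n15589 = n18520 := rfl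
theorem F33626 : act 0 n18520 = n15675 := d4_1 D18520 (iv D15675) (iv F27341)
theorem F33627 : act 1 n18520 = n17984 := d8_1 D18520 (iv F32366) F27912
theorem F33628 : act 2 n18520 = n15672 := d11_1 D18520 (iv D15672) (iv F27342)
def n18521 : Q := act 5 n15590
theorem D18521 : act 5 n15590 = n18521 := rfl
theorem F33629 : act 0 n18521 = n15607 := d4_1 D18521 (iv F31592) F31590
theorem F33630 : act 1 n18521 = n15844 := d8_1 D18521 (iv F27914) F27913
theorem F33631 : act 2 n18521 = n15602 := d11_1 D18521 (iv F31585) F31586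
theorem F33632 : act 3 n18521 = n15591 := d13_1 D18521 (iv D15591) D15590
def n18522 : Q := act 3 n15593
theorem D18522 : act 3 n15593 = n18522 := rfl
theorem F33633 : act 0 n18522 = n15596 := d2_1 D18522 (iv D15596) (iv F27350)
theorem F33634 : act 1 n18522 = n15718 := d6_1 D18522 (iv D15718) (iv F27351)
theorem F33635 : act 4 n18522 = n15594 := d12_2 D15593 D18522 (iv D15594) (iv D12513) D12512
def n18523 : Q := act 5 n15593
theorem D18523 : act 5 n15593 = n18523 := rfl
theorem F33636 : act 0 n18523 = n15597 := d4_1 D18523 (iv D15597) (iv F27350)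
theorem F33637 : act 1 n18523 = n15719 := d8_1 D18523 (iv D15719) (iv F27351)
theorem F33638 : act 4 n18523 = n15672 := d14_1 D18523 (iv D15672) (iv D12599) (iv F21150) D15593
def n18524 : Q := act 2 n15594
theorem D18524 : act 2 n15594 = n18524 := rfl
theorem F33639 : act 0 n18524 = n15598 := d1_1 D18524 (iv D15598) (iv F27352)
theorem F33640 : act 1 n18524 = n15605 := d5_1 D18524 F27366 F21164 D15105 (iv F27353)
theorem F33641 : act 3 n18524 = n15605 := d9_2 D15594 D18524 F27366 F21165 F16355 (iv F14876) (iv F19381) D14583 D17629 F31625 (iv D15599) (iv D12517) F16349 (iv F16340) (iv F21152)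
theorem F33642 : act 5 n18524 = n15603 := d11_2 F31612 D18524 F31614
def n18525 : Q := act 3 n15595
theorem D18525 : act 3 n15595 = n18525 := rfl
theorem F33643 : act 0 n18525 = n17847 := d2_1 D18525 F32117 F27909
theorem F33644 : act 1 n18525 = n15711 := d6_1 D18525 (iv D15711) (iv F27354)
theorem F33645 : act 4 n18525 = n17845 := d12_2 D15595 D18525 (iv D17845) F25625 (iv F21641)
def n18526 : Q := act 5 n15595
theorem D18526 : act 5 n15595 = n18526 := rfl
theorem F33646 : act 1 n18526 = n15712 := d8_1 D18526 (iv D15712) (iv F27354)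
theorem F33647 : act 2 n18526 = n15597 := d11_1 D18526 (iv D15597) (iv F27355)
theorem F33648 : act 4 n18526 = n15675 := d14_1 D18526 (iv D15675) (iv D12601) (iv F21154) D15595
def n18527 : Q := act 2 n15596
theorem D18527 : act 2 n15596 = n18527 := rfl
theorem F33649 : act 4 n18527 = n15598 := d10_2 (iv F27357) D18527 (iv D15598)
def n18528 : Q := act 5 n15596
theorem D18528 : act 5 n15596 = n18528 := rfl
theorem F33650 : act 1 n18528 = n15679 := d8_1 D18528 F27532 (iv F27356)
theorem F33651 : act 3 n18528 = n15597 := d13_1 D18528 (iv D15597) D15596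
theorem F33652 : act 4 n18528 = n15680 := d14_1 D18528 F31619 F31618 F25093 (iv F27357)
def n18529 : Q := act 1 n15598
theorem D18529 : act 1 n15598 = n18529 := rfl
theorem F33653 : act 2 n18529 = n15680 := d5_2 D15598 D18529 (iv D15680) (iv D12608) (iv F21156)
def n18530 : Q := act 3 n15598
theorem D18530 : act 3 n15598 = n18530 := rfl
theorem F33654 : act 0 n18530 = n15605 := d2_1 D18530 (iv F33641) F33639
theorem F33655 : act 2 n18530 = n15600 := d9_1 D18530 F27363 F21160 (iv F19372) (iv F25088) D17625 (iv F31614) F31615 (iv D12520) (iv D9788) F12497 (iv F12490) (iv F16347) D12516 D15598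
theorem F33656 : act 5 n18530 = n15599 := d13_2 F31624 D18530 (iv F31625)
def n18531 : Q := act 1 n15599
theorem D18531 : act 1 n15599 = n18531 := rfl
theorem F33657 : act 4 n18531 = n15603 := d7_2 (iv F27361) D18531 (iv D15603)
def n18532 : Q := act 4 n15600
theorem D18532 : act 4 n15600 = n18532 := rfl
theorem F33658 : act 0 n18532 = n15606 := d3_1 D18532 (iv D15606) (iv F27362)
theorem F33659 : act 1 n18532 = n18100 := d7_1 D18532 (iv F33534) F33533
theorem F33660 : act 3 n18532 = n18090 := d12_1 D18532 (iv D18090) F26226 (iv F21161) (iv F27363)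
theorem F33661 : act 5 n18532 = n15606 := d14_2 D15600 D18532 (iv D15606) (iv D12521) (iv F21158)
def n18533 : Q := act 3 n15601
theorem D18533 : act 3 n15601 = n18533 := rfl
theorem F33662 : act 1 n18533 = n15602 := d6_1 D18533 (iv D15602) D15601
def n18534 : Q := act 4 n15602
theorem D18534 : act 4 n15602 = n18534 := rfl
theorem F33663 : act 0 n18534 = n15608 := d3_1 D18534 (iv D15608) (iv F27365)
theorem F33664 : act 3 n18534 = n18102 := d12_1 D18534 (iv D18102) (iv D15107) (iv F21163) D15602
def n18535 : Q := act 4 n15605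
theorem D18535 : act 4 n15605 = n18535 := rfl
theorem F33665 : act 2 n18535 = n15606 := d10_1 D18535 (iv D15606) (iv F27366)
def n18536 : Q := act 1 n15607
theorem D18536 : act 1 n15607 = n18536 := rfl
theorem F33666 : act 2 n18536 = n18363 := d5_2 D15607 D18536 F33269 (iv D17611) F25059
theorem F33667 : act 4 n18365 = n18536 := d10_0 F33666 F33270 D18365
def n18537 : Q := act 4 n15607
theorem D18537 : act 4 n15607 = n18537 := rfl
theorem F33668 : act 1 n18537 = n18365 := d7_1 D18537 F33667 (iv D18536)
theorem F33669 : act 2 n18537 = n15608 := d10_1 D18537 (iv D15608) D15607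
def n18538 : Q := act 5 n15608
theorem D18538 : act 5 n15608 = n18538 := rfl
theorem F33670 : act 1 n18538 = n17961 := d8_1 D18538 F32322 F31573
theorem F33671 : act 3 n18538 = n18104 := d13_1 D18538 (iv D18104) (iv F27369)
def n18539 : Q := act 3 n15609
theorem D18539 : act 3 n15609 = n18539 := rfl
theorem F33672 : act 0 n18539 = n15636 := d2_1 D18539 (iv D15636) (iv F27370)
theorem F33673 : act 1 n18539 = n16949 := d6_1 D18539 (iv D16949) (iv F27371)
theorem F33674 : act 4 n18539 = n15610 := d12_2 D15609 D18539 (iv D15610) (iv D12528) (iv F21176)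
def n18540 : Q := act 2 n15610
theorem D18540 : act 2 n15610 = n18540 := rfl
def n18541 : Q := act 2 n15611
theorem D18541 : act 2 n15611 = n18541 := rfl
theorem F33675 : act 0 n18541 = n15613 := d1_1 D18541 (iv D15613) (iv F27374)
theorem F33676 : act 3 n18541 = n15683 := d9_2 D15611 D18541 F27535 (iv F26386) F26385 (iv F26992) F26991 (iv F27383) (iv F33519) (iv D18479) F27214 F21024 (iv F21032) F26984 F26982
theorem F33677 : act 4 n18541 = n16947 := d10_2 (iv F27376) D18541 (iv D16947)
def n18542 : Q := act 5 n15611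
theorem D18542 : act 5 n15611 = n18542 := rfl
theorem F33678 : act 0 n18542 = n15614 := d4_1 D18542 (iv D15614) (iv F27374)
theorem F33679 : act 1 n18542 = n15622 := d8_1 D18542 (iv D15622) (iv F27375)
theorem F33680 : act 3 n18542 = n15612 := d13_1 D18542 (iv D15612) D15611
theorem F33681 : act 4 n18542 = n18011 := d14_1 D18542 (iv D18011) F25938 (iv F23795) (iv F27376)
def n18543 : Q := act 1 n15613
theorem D18543 : act 1 n15613 = n18543 := rfl
theorem F33682 : act 2 n18543 = n15615 := d5_2 D15613 D18543 (iv D15615) (iv D12532) (iv F21181)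
theorem F33683 : act 3 n18543 = n15648 := d6_2 (iv F27381) D18543 F27465
theorem F33684 : act 4 n18543 = n16953 := d7_2 (iv F27380) D18543 (iv D16953)
theorem F33685 : act 5 n18543 = n15618 := d8_2 F33518 D18543 (iv F33516)
def n18544 : Q := act 0 n15615
theorem D18544 : act 0 n15615 = n18544 := rfl
theorem F33686 : act 1 n18544 = n15627 := d0_2 D15615 D18544 (iv D15627) (iv D12543) (iv F21185)
theorem F33687 : act 3 n18544 = n15617 := d2_2 (iv F27385) D18544 F27390
theorem F33688 : act 4 n18544 = n16954 := d3_2 (iv F27386) D18544 (iv D16954)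
theorem F33689 : act 5 n18544 = n15616 := d4_2 (iv F27387) D18544 F27388
def n18545 : Q := act 2 n15616
theorem D18545 : act 2 n15616 = n18545 := rfl
theorem F33690 : act 0 n18545 = n15618 := d1_1 D18545 (iv D15618) (iv F27388)
theorem F33691 : act 3 n18545 = n15776 := d9_2 D15616 D18545 F27730 (iv F25220) (iv F29512) F29513 F26940 (iv F27385) (iv F33682) F33683 F27466 F21268 (iv F21498) F26934 F26932
theorem F33692 : act 4 n18545 = n18126 := d10_2 F28023 D18545 F32691
def n18546 : Q := act 4 n15617
theorem D18546 : act 4 n15617 = n18546 := rfl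
theorem F33693 : act 0 n18546 = n15619 := d3_1 D18546 (iv D15619) (iv F27390)
theorem F33694 : act 1 n18546 = n18206 := d7_1 D18546 (iv D18206) (iv F27391)
theorem F33695 : act 5 n18546 = n17797 := d14_2 D15617 D18546 (iv D17797) F25523 (iv F21194)
def n18547 : Q := act 3 n15619
theorem D18547 : act 3 n15619 = n18547 := rfl
theorem F33696 : act 1 n18547 = n15620 := d6_1 D18547 (iv D15620) (iv F27393)
theorem F33697 : act 4 n18547 = n16955 := d12_2 D15619 D18547 (iv D16955) (iv F27386) F27385
theorem F33698 : act 5 n18547 = n17795 := d13_2 (iv F27394) D18547 F31994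
def n18548 : Q := act 1 n15621
theorem D18548 : act 1 n15621 = n18548 := rfl
def n18549 : Q := act 5 n15621
theorem D18549 : act 5 n15621 = n18549 := rfl
theorem F33699 : act 0 n18549 = n15626 := d4_1 D18549 (iv D15626) (iv F27399)
theorem F33700 : act 2 n18549 = n15622 := d11_1 D18549 (iv D15622) D15621
def n18550 : Q := act 0 n15624
theorem D18550 : act 0 n15624 = n18550 := rfl
theorem F33701 : act 2 n18550 = n15627 := d1_2 (iv F27406) D18550 (iv D15627)
theorem F33702 : act 5 n18550 = n18204 := d4_2 F27407 D18550 F32910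
theorem F33703 : act 3 n18461 = n18550 := d15_7 (iv D15211) (iv D12117) F15771 D9696 D12428 D15511 D18461 F33702 F32910
def n18551 : Q := act 3 n15624
theorem D18551 : act 3 n15624 = n18551 := rfl
theorem F33704 : act 0 n18551 = n18461 := d2_1 D18551 F33703 (iv D18550)
theorem F33705 : act 1 n18551 = n15625 := d6_1 D18551 (iv D15625) D15624
theorem F33706 : act 4 n18551 = n18492 := d12_2 (iv F27898) D18551 F33563 D18509 (iv F33600)
theorem F33707 : act 5 n18551 = n18207 := d13_2 F27407 D18551 (iv D18207)
theorem F33708 : act 2 n18551 = n18455 := d15_2 (iv F27406) D18551 (iv D18455) (iv D15506) (iv D12426) (iv F20435) D15209 (iv F27411) (iv D15627)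
def n18552 : Q := act 5 n15625
theorem D18552 : act 5 n15625 = n18552 := rfl
theorem F33709 : act 1 n18552 = n18207 := d8_1 D18552 (iv F33707) F33705
theorem F33710 : act 3 n18552 = n15626 := d13_1 D18552 (iv D15626) D15625
def n18553 : Q := act 4 n15627
theorem D18553 : act 4 n15627 = n18553 := rfl
theorem F33711 : act 0 n18553 = n15628 := d3_1 D18553 (iv D15628) D15627
theorem F33712 : act 1 n18553 = n16954 := d7_1 D18553 (iv F33688) F33686
theorem F33713 : act 3 n18516 = n18553 := d2_0 F33711 (iv F27413) D18516
theorem F33714 : act 5 n17992 = n18553 := d4_0 F33711 (iv F27414) D17992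
def n18554 : Q := act 4 n15631
theorem D18554 : act 4 n15631 = n18554 := rfl
theorem F33715 : act 1 n18554 = n15632 := d7_1 D18554 (iv D15632) D15631
theorem F33716 : act 2 n18554 = n15635 := d10_1 D18554 (iv D15635) (iv F27420)
theorem F33717 : act 5 n18554 = n15928 := d14_2 (iv F27422) D18554 (iv D15928) (iv F25505) F26074
def n18555 : Q := act 3 n15632
theorem D18555 : act 3 n15632 = n18555 := rfl
theorem F33718 : act 0 n18555 = n17149 := d2_1 D18555 (iv D17149) (iv F27423)
theorem F33719 : act 4 n18555 = n17139 := d12_2 D15632 D18555 (iv D17139) (iv D14054) (iv F21235)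
def n18556 : Q := act 2 n15636
theorem D18556 : act 2 n15636 = n18556 := rfl
theorem F33720 : act 1 n18556 = n17528 := d5_1 D18556 F31402 (iv F30942) (iv F32716) F32715
theorem F33721 : act 5 n18556 = n17526 := d11_2 (iv F32713) D18556 (iv F32711)
def n18557 : Q := act 4 n15645
theorem D18557 : act 4 n15645 = n18557 := rfl
theorem F33722 : act 0 n18557 = n15648 := d3_1 D18557 (iv D15648) (iv F27456)
theorem F33723 : act 2 n18557 = n15646 := d10_1 D18557 (iv D15646) D15645
theorem F33724 : act 5 n18557 = n15776 := d14_2 (iv F27457) D18557 (iv D15776) (iv D12710) (iv F21271)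
def n18558 : Q := act 4 n15647
theorem D18558 : act 4 n15647 = n18558 := rfl
theorem F33725 : act 1 n18558 = n15685 := d7_1 D18558 (iv D15685) (iv F27462)
theorem F33726 : act 2 n18558 = n16864 := d10_1 D18558 (iv D16864) (iv F27464)
theorem F33727 : act 3 n18558 = n16953 := d12_1 D18558 (iv F33684) F33683 (iv D15648) D15647
def n18559 : Q := act 0 n15649
theorem D18559 : act 0 n15649 = n18559 := rfl
theorem F33728 : act 1 n18559 = n15651 := d0_2 D15649 D18559 (iv D15651) (iv D12574) (iv F21270)
theorem F33729 : act 2 n18559 = n15688 := d1_2 (iv F27468) D18559 (iv D15688)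
theorem F33730 : act 4 n18559 = n15772 := d3_2 (iv F27469) D18559 (iv D15772)
theorem F33731 : act 5 n18559 = n15681 := d4_2 F29887 D18559 (iv F29885)
def n18560 : Q := act 3 n15649
theorem D18560 : act 3 n15649 = n18560 := rfl
theorem F33732 : act 1 n18560 = n15650 := d6_1 D18560 (iv D15650) D15649
def n18561 : Q := act 4 n15650
theorem D18561 : act 4 n15650 = n18561 := rfl
theorem F33733 : act 0 n18561 = n15654 := d3_1 D18561 (iv D15654) (iv F27470)
theorem F33734 : act 3 n18561 = n15775 := d12_1 D18561 (iv D15775) (iv D12709) (iv F21271) D15650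
def n18562 : Q := act 4 n15652
theorem D18562 : act 4 n15652 = n18562 := rfl
theorem F33735 : act 1 n18562 = n15654 := d7_1 D18562 (iv D15654) (iv F27474)
theorem F33736 : act 3 n18562 = n15779 := d12_1 D18562 (iv D15779) (iv D12713) (iv F21273) D15652
def n18563 : Q := act 1 n15653
theorem D18563 : act 1 n15653 = n18563 := rfl
theorem F33737 : act 3 n18563 = n16828 := d6_2 (iv F27477) D18563 F30000
theorem F33738 : act 5 n18563 = n16863 := d8_2 (iv F27476) D18563 F30079
def n18564 : Q := act 4 n15653
theorem D18564 : act 4 n15653 = n18564 := rfl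
theorem F33739 : act 2 n18564 = n15654 := d10_1 D18564 (iv D15654) D15653
def n18565 : Q := act 5 n15654
theorem D18565 : act 5 n15654 = n18565 := rfl
theorem F33740 : act 3 n18565 = n15782 := d13_1 D18565 (iv D15782) (iv F27478)
def n18566 : Q := act 1 n15661
theorem D18566 : act 1 n15661 = n18566 := rfl
theorem F33741 : act 2 n18566 = n18087 := d5_2 D15661 D18566 F32608 (iv F27494) F27492
theorem F33742 : act 4 n18566 = n15720 := d7_2 (iv F27497) D18566 F27606
def n18567 : Q := act 3 n15667
theorem D18567 : act 3 n15667 = n18567 := rfl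
theorem F33743 : act 1 n18567 = n15668 := d6_1 D18567 (iv D15668) (iv F27511)
def n18568 : Q := act 5 n15667
theorem D18568 : act 5 n15667 = n18568 := rfl
theorem F33744 : act 0 n18568 = n17775 := d4_1 D18568 F31950 F27942
theorem F33745 : act 1 n18568 = n15669 := d8_1 D18568 (iv D15669) (iv F27511)
theorem F33746 : act 2 n18568 = n17773 := d11_1 D18568 (iv F31945) F27952
def n18569 : Q := act 3 n15673
theorem D18569 : act 3 n15673 = n18569 := rfl
theorem F33747 : act 1 n18569 = n15674 := d6_1 D18569 (iv D15674) (iv F27520)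
def n18570 : Q := act 5 n15673
theorem D18570 : act 5 n15673 = n18570 := rfl
theorem F33748 : act 1 n18570 = n15675 := d8_1 D18570 (iv D15675) (iv F27520)
theorem F33749 : act 2 n18570 = n15677 := d11_1 D18570 (iv D15677) (iv F27521)
theorem F33750 : act 4 n18570 = n15712 := d14_1 D18570 (iv D15712) (iv D12636) (iv F21313) D15673
def n18571 : Q := act 5 n15674
theorem D18571 : act 5 n15674 = n18571 := rfl
theorem F33751 : act 3 n18571 = n15675 := d13_1 D18571 (iv D15675) D15674
def n18572 : Q := act 2 n15676
theorem D18572 : act 2 n15676 = n18572 := rfl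
theorem F33752 : act 4 n18572 = n15713 := d10_2 (iv F27524) D18572 (iv D15713)
def n18573 : Q := act 5 n15676
theorem D18573 : act 5 n15676 = n18573 := rfl
theorem F33753 : act 1 n18573 = n15678 := d8_1 D18573 (iv D15678) (iv F27523)
theorem F33754 : act 3 n18573 = n15677 := d13_1 D18573 (iv D15677) D15676
def n18574 : Q := act 0 n15680
theorem D18574 : act 0 n15680 = n18574 := rfl
def n18575 : Q := act 3 n15681
theorem D18575 : act 3 n15681 = n18575 := rfl
theorem F33755 : act 1 n18575 = n15682 := d6_1 D18575 (iv D15682) D15681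
def n18576 : Q := act 4 n15681
theorem D18576 : act 4 n15681 = n18576 := rfl
theorem F33756 : act 1 n18576 = n15683 := d7_1 D18576 (iv D15683) D15681
def n18577 : Q := act 5 n15685
theorem D18577 : act 5 n15685 = n18577 := rfl
theorem F33757 : act 3 n18577 = n16941 := d13_1 D18577 F30217 (iv F27536)
def n18578 : Q := act 4 n15688
theorem D18578 : act 4 n15688 = n18578 := rfl
theorem F33758 : act 0 n18578 = n15689 := d3_1 D18578 (iv D15689) D15688
theorem F33759 : act 1 n18578 = n15693 := d7_1 D18578 (iv D15693) (iv F27545)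
theorem F33760 : act 2 n18578 = n15772 := d10_1 D18578 (iv F33730) F33729
theorem F33761 : act 5 n15771 = n18578 := d11_0 F33760 (iv F33503) F33502
def n18579 : Q := act 3 n15689
theorem D18579 : act 3 n15689 = n18579 := rfl
theorem F33762 : act 1 n18579 = n15690 := d6_1 D18579 (iv D15690) (iv F27546)
def n18580 : Q := act 5 n15689
theorem D18580 : act 5 n15689 = n18580 := rfl
theorem F33763 : act 0 n18580 = n15771 := d4_1 D18580 F33761 F33758
theorem F33764 : act 1 n18580 = n15691 := d8_1 D18580 (iv D15691) (iv F27546)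
theorem F33765 : act 2 n18580 = n15774 := d11_1 D18580 (iv D15774) (iv F27547)
def n18581 : Q := act 2 n15690
theorem D18581 : act 2 n15690 = n18581 := rfl
theorem F33766 : act 0 n18581 = n15697 := d1_1 D18581 (iv D15697) (iv F27548)
theorem F33767 : act 3 n18581 = n15705 := d15_1 D18581 F27575 F21368 F16525 (iv F16510) (iv F21348) (iv F27560) (iv D15698) (iv F27548)
theorem F33768 : act 1 n17957 = n18581 := d6_3 F33767 F27574 D17957
theorem F33769 : act 5 n15704 = n18581 := d13_0 F33767 (iv D15705) D15704
def n18582 : Q := act 5 n15690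
theorem D18582 : act 5 n15690 = n18582 := rfl
theorem F33770 : act 0 n18582 = n15698 := d4_1 D18582 (iv D15698) (iv F27548)
theorem F33771 : act 2 n18582 = n15704 := d11_1 D18582 F33769 (iv D18581)
theorem F33772 : act 3 n18582 = n15691 := d13_1 D18582 (iv D15691) D15690
theorem F33773 : act 4 n17482 = n18582 := d12_0 F33772 (iv F29893) (iv F31282) F31283 D17482
def n18583 : Q := act 2 n15696
theorem D18583 : act 2 n15696 = n18583 := rfl
theorem F33774 : act 4 n18583 = n15697 := d10_2 (iv F27558) D18583 (iv D15697)
def n18584 : Q := act 1 n15697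
theorem D18584 : act 1 n15697 = n18584 := rfl
def n18585 : Q := act 3 n15697
theorem D18585 : act 3 n15697 = n18585 := rfl
theorem F33775 : act 0 n18585 = n15705 := d2_1 D18585 (iv F33767) F33766
theorem F33776 : act 2 n18585 = n15700 := d9_1 D18585 F27566 F21358 (iv F21341) (iv F27550) (iv F33772) F33771 (iv D15704) (iv D12631) (iv D9887) F12634 (iv F12615) (iv F16508) D12624 D15697
theorem F33777 : act 5 n18585 = n15699 := d15_8 (iv D12631) (iv D9887) F12634 (iv F12615) (iv F16508) D12624 D15697 D18585 F27562
def n18586 : Q := act 5 n15697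
theorem D18586 : act 5 n15697 = n18586 := rfl
theorem F33778 : act 0 n18586 = n15704 := d4_1 D18586 F33769 F33766
theorem F33779 : act 2 n18586 = n15698 := d11_1 D18586 (iv D15698) D15697
theorem F33780 : act 3 n18586 = n15699 := d13_1 D18586 (iv F33777) (iv D18585)
theorem F33781 : act 4 n17483 = n18586 := d10_0 F33779 (iv F27561) D17483
def n18587 : Q := act 1 n15699
theorem D18587 : act 1 n15699 = n18587 := rfl
theorem F33782 : act 2 n18587 = n16348 := d5_2 D15699 D18587 (iv D16348) (iv D13271) (iv F21354)
theorem F33783 : act 4 n18587 = n16445 := d7_2 (iv F27563) D18587 (iv D16445)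
def n18588 : Q := act 4 n15700
theorem D18588 : act 4 n15700 = n18588 := rfl
theorem F33784 : act 0 n18588 = n15706 := d3_1 D18588 (iv D15706) (iv F27564)
theorem F33785 : act 1 n18588 = n16349 := d7_1 D18588 (iv D16349) (iv F27565)
theorem F33786 : act 3 n18588 = n15812 := d12_1 D18588 (iv D15812) F21553 (iv F21359) (iv F27566)
theorem F33787 : act 5 n18588 = n16448 := d14_2 D15700 D18588 (iv D16448) (iv D13373) (iv F21355)
def n18589 : Q := act 1 n15701
theorem D18589 : act 1 n15701 = n18589 := rfl
theorem F33788 : act 2 n18589 = n15757 := d5_2 D15701 D18589 F27683 F21441 (iv F21361)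
theorem F33789 : act 4 n18589 = n15703 := d7_2 (iv F27568) D18589 (iv D15703)
def n18590 : Q := act 3 n15701
theorem D18590 : act 3 n15701 = n18590 := rfl
theorem F33790 : act 0 n18590 = n16446 := d2_1 D18590 (iv D16446) (iv F27567)
theorem F33791 : act 2 n18590 = n16461 := d15_2 D15701 D18590 F29193 F22738 F17557 (iv F17546) (iv F22722) (iv D13373) (iv F21360)
theorem F33792 : act 4 n16753 = n18590 := d10_0 F33791 (iv F29194) D16753
theorem F33793 : act 5 n16459 = n18590 := d11_0 F33791 (iv D16461) D16459
def n18591 : Q := act 5 n15701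
theorem D18591 : act 5 n15701 = n18591 := rfl
theorem F33794 : act 0 n18591 = n16447 := d4_1 D18591 (iv D16447) (iv F27567)
theorem F33795 : act 2 n18591 = n15702 := d11_1 D18591 (iv D15702) D15701
theorem F33796 : act 3 n18591 = n16459 := d13_1 D18591 F33793 (iv D18590)
def n18592 : Q := act 4 n15702
theorem D18592 : act 4 n15702 = n18592 := rfl
theorem F33797 : act 0 n18592 = n16448 := d3_1 D18592 (iv D16448) (iv F27569)
theorem F33798 : act 1 n18592 = n15760 := d7_1 D18592 (iv D15760) (iv F27570)
theorem F33799 : act 3 n18592 = n15814 := d12_1 D18592 (iv D15814) F21557 (iv F21366) (iv F27571)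
theorem F33800 : act 5 n18592 = n15706 := d14_2 D15702 D18592 (iv D15706) (iv D12632) (iv F21362)
def n18593 : Q := act 0 n15703
theorem D18593 : act 0 n15703 = n18593 := rfl
theorem F33801 : act 2 n18593 = n15756 := d1_2 (iv F27572) D18593 (iv D15756)
theorem F33802 : act 5 n18593 = n17954 := d4_2 F27573 D18593 F32311
theorem F33803 : act 3 n17966 = n18593 := d15_7 (iv D14918) (iv D11847) F15372 D9224 D11854 D14926 D17966 F33802 F32311
def n18594 : Q := act 3 n15703
theorem D18594 : act 3 n15703 = n18594 := rfl
theorem F33804 : act 0 n18594 = n17966 := d2_1 D18594 F33803 (iv D18593)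
theorem F33805 : act 1 n18594 = n15704 := d6_1 D18594 (iv D15704) D15703
theorem F33806 : act 5 n18594 = n17957 := d13_2 F27573 D18594 (iv D17957)
theorem F33807 : act 2 n18594 = n17963 := d15_2 (iv F27572) D18594 (iv D17963) (iv D14923) (iv D11852) (iv F19950) D14916 (iv F27682) (iv D15756)
def n18595 : Q := act 4 n15704
theorem D18595 : act 4 n15704 = n18595 := rfl
theorem F33808 : act 0 n18595 = n17483 := d3_1 D18595 F33781 F33778
theorem F33809 : act 2 n18595 = n17482 := d10_1 D18595 F33773 F33771
theorem F33810 : act 3 n18595 = n16753 := d12_1 D18595 F33792 (iv D18590) F27568 D15704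
def n18596 : Q := act 4 n15705
theorem D18596 : act 4 n15705 = n18596 := rfl
theorem F33811 : act 1 n18596 = n17958 := d7_1 D18596 (iv D17958) (iv F27574)
theorem F33812 : act 2 n18596 = n15706 := d10_1 D18596 (iv D15706) (iv F27575)
def n18597 : Q := act 3 n15707
theorem D18597 : act 3 n15707 = n18597 := rfl
theorem F33813 : act 0 n18597 = n15711 := d2_1 D18597 (iv D15711) (iv F27578)
theorem F33814 : act 1 n18597 = n16042 := d6_1 D18597 (iv F28301) F27782
theorem F33815 : act 4 n18597 = n16046 := d12_2 D15707 D18597 F28308 F25623 F21631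
def n18598 : Q := act 5 n15707
theorem D18598 : act 5 n15707 = n18598 := rfl
theorem F33816 : act 0 n18598 = n15712 := d4_1 D18598 (iv D15712) (iv F27578)
theorem F33817 : act 2 n18598 = n15708 := d11_1 D18598 (iv D15708) (iv F27579)
def n18599 : Q := act 3 n15710
theorem D18599 : act 3 n15710 = n18599 := rfl
theorem F33818 : act 0 n18599 = n16046 := d2_1 D18599 F28308 (iv F27585)
theorem F33819 : act 1 n18599 = n17845 := d6_1 D18599 (iv D17845) (iv F27586)
theorem F33820 : act 4 n18599 = n15711 := d12_2 D15710 D18599 (iv D15711) (iv D12636) D12635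
theorem F33821 : act 5 n17865 = n18599 := d4_0 F33818 F28309 D17865
def n18600 : Q := act 5 n15710
theorem D18600 : act 5 n15710 = n18600 := rfl
theorem F33822 : act 0 n18600 = n16050 := d4_1 D18600 F28320 (iv F27585)
theorem F33823 : act 1 n18600 = n16051 := d8_1 D18600 F28322 (iv F27586)
theorem F33824 : act 3 n18600 = n17865 := d13_1 D18600 F33821 (iv D18599)
def n18601 : Q := act 2 n15711
theorem D18601 : act 2 n15711 = n18601 := rfl
def n18602 : Q := act 5 n15711
theorem D18602 : act 5 n15711 = n18602 := rfl
theorem F33825 : act 3 n18602 = n15712 := d13_1 D18602 (iv D15712) D15711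
def n18603 : Q := act 1 n15716
theorem D18603 : act 1 n15716 = n18603 := rfl
theorem F33826 : act 0 n18603 = n17766 := d0_1 D18603 F31916 (iv F29061) F29062 F27787
theorem F33827 : act 2 n18603 = n17838 := d5_2 D15716 D18603 F32094 (iv F27596) F27593
theorem F33828 : act 4 n18603 = n18418 := d7_2 F27775 D18603 F33373
theorem F33829 : act 5 n17764 = n18603 := d14_0 F33828 (iv D18418) (iv D15460) (iv F25416) D17764
def n18604 : Q := act 3 n15716
theorem D18604 : act 3 n15716 = n18604 := rfl
theorem F33830 : act 2 n18604 = n17117 := d9_1 D18604 F30557 (iv F26756) F26757 (iv F21537) (iv F27790) (iv F29056) (iv F33172) (iv D18320) (iv D15325) F20662 F15933 (iv F16535) D12642 D15716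
theorem F33831 : act 5 n18604 = n17116 := d15_8 (iv D18320) (iv D15325) F20662 F15933 (iv F16535) D12642 D15716 D18604 (iv F33170)
def n18605 : Q := act 5 n15716
theorem D18605 : act 5 n15716 = n18605 := rfl
theorem F33832 : act 0 n18605 = n16390 := d4_1 D18605 (iv F29058) F27787
theorem F33833 : act 1 n18605 = n17764 := d8_1 D18605 F33829 (iv D18603)
theorem F33834 : act 2 n18605 = n15717 := d11_1 D18605 (iv D15717) D15716
theorem F33835 : act 3 n18605 = n17116 := d13_1 D18605 (iv F33831) (iv D18604)
theorem F33836 : act 4 n18605 = n16396 := d14_1 D18605 (iv F29073) F25279 (iv F27776) F27775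
def n18606 : Q := act 5 n15718
theorem D18606 : act 5 n15718 = n18606 := rfl
theorem F33837 : act 0 n18606 = n15720 := d4_1 D18606 (iv D15720) (iv F27600)
theorem F33838 : act 2 n18606 = n18100 := d11_1 D18606 F32645 (iv F27602)
theorem F33839 : act 3 n18606 = n15719 := d13_1 D18606 (iv D15719) D15718
def n18607 : Q := act 1 n15721
theorem D18607 : act 1 n15721 = n18607 := rfl
theorem F33840 : act 5 n18607 = n15722 := d8_2 (iv F27609) D18607 (iv D15722)
def n18608 : Q := act 0 n15722
theorem D18608 : act 0 n15722 = n18608 := rfl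
theorem F33841 : act 4 n18608 = n15723 := d3_2 (iv F27610) D18608 (iv D15723)
def n18609 : Q := act 4 n15724
theorem D18609 : act 4 n15724 = n18609 := rfl
theorem F33842 : act 0 n18609 = n15726 := d3_1 D18609 (iv D15726) (iv F27611)
def n18610 : Q := act 4 n15725
theorem D18610 : act 4 n15725 = n18610 := rfl
theorem F33843 : act 0 n18610 = n15727 := d3_1 D18610 (iv D15727) (iv F27612)
def n18611 : Q := act 5 n15726
theorem D18611 : act 5 n15726 = n18611 := rfl
theorem F33844 : act 1 n18611 = n15728 := d8_1 D18611 (iv D15728) (iv F27613)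
def n18612 : Q := act 3 n15727
theorem D18612 : act 3 n15727 = n18612 := rfl
theorem F33845 : act 1 n18612 = n15729 := d6_1 D18612 (iv D15729) (iv F27614)
def n18613 : Q := act 2 n15729
theorem D18613 : act 2 n15729 = n18613 := rfl
def n18614 : Q := act 2 n15730
theorem D18614 : act 2 n15730 = n18614 := rfl
theorem F33846 : act 0 n18614 = n15732 := d1_1 D18614 (iv D15732) (iv F27616)
theorem F33847 : act 1 n18614 = n17435 := d5_1 D18614 (iv D17435) F24732 (iv F21791) (iv F27617)
theorem F33848 : act 5 n18614 = n17436 := d11_2 F27618 D18614 F31223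
def n18615 : Q := act 4 n15730
theorem D18615 : act 4 n15730 = n18615 := rfl
theorem F33849 : act 0 n18615 = n15733 := d3_1 D18615 (iv D15733) (iv F27616)
theorem F33850 : act 1 n18615 = n15735 := d7_1 D18615 F27628 (iv F27617)
theorem F33851 : act 5 n18615 = n15733 := d14_2 F27618 D18615 (iv D15733) (iv F21393) (iv F24812)
def n18616 : Q := act 4 n15731
theorem D18616 : act 4 n15731 = n18616 := rfl
theorem F33852 : act 0 n18616 = n15734 := d3_1 D18616 (iv D15734) (iv F27619)
theorem F33853 : act 1 n18616 = n15736 := d7_1 D18616 F27631 (iv F27620)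
theorem F33854 : act 3 n18616 = n15734 := d12_1 D18616 (iv D15734) F21395 (iv F24812) (iv F27621)
def n18617 : Q := act 3 n15732
theorem D18617 : act 3 n15732 = n18617 := rfl
theorem F33855 : act 1 n18617 = n17324 := d6_1 D18617 F30969 (iv F27622)
theorem F33856 : act 5 n18617 = n17325 := d13_2 (iv F27623) D18617 F30971
def n18618 : Q := act 4 n15732
theorem D18618 : act 4 n15732 = n18618 := rfl
theorem F33857 : act 1 n18618 = n17353 := d7_1 D18618 (iv D17353) (iv F27622)
theorem F33858 : act 2 n18618 = n15733 := d10_1 D18618 (iv D15733) D15732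
def n18619 : Q := act 0 n15737
theorem D18619 : act 0 n15737 = n18619 := rfl
theorem F33859 : act 1 n18619 = n17424 := d0_2 D15737 D18619 F31191 F24732 (iv F21803)
theorem F33860 : act 2 n18619 = n15739 := d1_2 (iv F27632) D18619 (iv D15739)
theorem F33861 : act 3 n18619 = n17423 := d2_2 (iv F27633) D18619 F31187
theorem F33862 : act 5 n18619 = n17422 := d4_2 (iv F27634) D18619 F31183
def n18620 : Q := act 4 n15737
theorem D18620 : act 4 n15737 = n18620 := rfl
theorem F33863 : act 1 n18620 = n15738 := d7_1 D18620 (iv D15738) D15737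
theorem F33864 : act 2 n18620 = n15740 := d10_1 D18620 (iv D15740) (iv F27632)
theorem F33865 : act 3 n18620 = n16813 := d12_1 D18620 F29968 (iv F31218) F31219 (iv F27633)
theorem F33866 : act 5 n18620 = n15740 := d14_2 (iv F27634) D18620 (iv D15740) F21409 (iv F24804)
def n18621 : Q := act 3 n15738
theorem D18621 : act 3 n15738 = n18621 := rfl
theorem F33867 : act 0 n18621 = n17358 := d2_1 D18621 F31038 (iv F27635)
theorem F33868 : act 1 n18621 = n16813 := d6_1 D18621 (iv F33865) F33863
theorem F33869 : act 4 n18621 = n17386 := d12_2 D15738 D18621 F31095 F24720 (iv F21804)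
theorem F33870 : act 5 n18621 = n15741 := d13_2 (iv F27637) D18621 (iv D15741)
theorem F33871 : act 2 n16815 = n18621 := d10_3 F33869 F31094 (iv F29972)
def n18622 : Q := act 4 n15739
theorem D18622 : act 4 n15739 = n18622 := rfl
theorem F33872 : act 0 n18622 = n15740 := d3_1 D18622 (iv D15740) D15739
theorem F33873 : act 1 n18622 = n17284 := d7_1 D18622 F30888 (iv F27638)
theorem F33874 : act 3 n18622 = n17283 := d12_1 D18622 (iv D17283) F24345 (iv F24438) (iv F27639)
def n18623 : Q := act 3 n15740
theorem D18623 : act 3 n15740 = n18623 := rfl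
theorem F33875 : act 0 n18623 = n17283 := d2_1 D18623 (iv F33874) F33872
theorem F33876 : act 1 n18623 = n15741 := d6_1 D18623 (iv D15741) (iv F27641)
theorem F33877 : act 4 n18623 = n17282 := d12_2 D15740 D18623 F30882 F24444 (iv F21408)
theorem F33878 : act 5 n18623 = n16813 := d13_2 F33866 D18623 (iv F33865)
theorem F33879 : act 2 n18623 = n16814 := d15_4 D16813 (iv F33865) F33864 D18623 F29971 F23552 (iv F29634) (iv D16668) (iv F23547)
def n18624 : Q := act 2 n15741
theorem D18624 : act 2 n15741 = n18624 := rfl
theorem F33880 : act 0 n18624 = n17357 := d1_1 D18624 F31036 (iv F27642)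
theorem F33881 : act 1 n18624 = n16817 := d5_1 D18624 F29975 (iv F29970) (iv F33879) F33876
theorem F33882 : act 4 n18624 = n17355 := d10_2 (iv F27643) D18624 (iv D17355)
theorem F33883 : act 5 n18624 = n16815 := d11_2 F33870 D18624 F33871
def n18625 : Q := act 3 n15742
theorem D18625 : act 3 n15742 = n18625 := rfl
theorem F33884 : act 0 n18625 = n15743 := d2_1 D18625 (iv D15743) D15742
theorem F33885 : act 1 n18625 = n17949 := d6_1 D18625 (iv D17949) (iv F27644)
theorem F33886 : act 5 n18625 = n18358 := d13_2 F27647 D18625 (iv D18358)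
theorem F33887 : act 2 n18625 = n18560 := d15_2 (iv F27645) D18625 (iv D18560) F27468 (iv F23471) F23470 (iv F23852) F23853 D13906
def n18626 : Q := act 2 n15743
theorem D18626 : act 2 n15743 = n18626 := rfl
theorem F33888 : act 0 n18626 = n18560 := d1_1 D18626 (iv F33887) F33884
theorem F33889 : act 1 n18626 = n18315 := d5_1 D18626 (iv D18315) F27654 (iv D15745) (iv F27648)
theorem F33890 : act 3 n18626 = n18559 := d15_1 D18626 F33729 (iv F29884) F29883 (iv F30286) F30285 D18358 (iv F33886) F33884
theorem F33891 : act 5 n18575 = n18626 := d13_0 F33890 F33731 D18575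
def n18627 : Q := act 4 n15743
theorem D18627 : act 4 n15743 = n18627 := rfl
theorem F33892 : act 1 n18627 = n15746 := d7_1 D18627 (iv D15746) (iv F27648)
theorem F33893 : act 3 n18627 = n15752 := d12_1 D18627 (iv D15752) (iv D12682) (iv F21421) D15743
def n18628 : Q := act 5 n15743
theorem D18628 : act 5 n15743 = n18628 := rfl
theorem F33894 : act 0 n18628 = n18358 := d4_1 D18628 (iv F33886) F33884
theorem F33895 : act 1 n18628 = n15747 := d8_1 D18628 (iv D15747) (iv F27648)
theorem F33896 : act 2 n18628 = n18575 := d11_1 D18628 F33891 (iv D18626)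
theorem F33897 : act 3 n18628 = n15744 := d13_1 D18628 (iv D15744) D15743
theorem F33898 : act 4 n17479 = n18628 := d7_0 F33895 (iv F27661) D17479
def n18629 : Q := act 4 n15744
theorem D18629 : act 4 n15744 = n18629 := rfl
theorem F33899 : act 0 n18629 = n18359 := d3_1 D18629 (iv D18359) (iv F27649)
theorem F33900 : act 1 n18629 = n15748 := d7_1 D18629 (iv D15748) (iv F27650)
theorem F33901 : act 2 n18629 = n16974 := d10_1 D18629 F30281 (iv F27651)
theorem F33902 : act 5 n18629 = n15753 := d14_2 D15744 D18629 (iv D15753) (iv D12683) (iv F21421)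
def n18630 : Q := act 4 n15745
theorem D18630 : act 4 n15745 = n18630 := rfl
theorem F33903 : act 0 n18630 = n16907 := d3_1 D18630 (iv D16907) (iv F27652)
theorem F33904 : act 1 n18630 = n18316 := d7_1 D18630 (iv D18316) F27654
theorem F33905 : act 2 n18630 = n15746 := d10_1 D18630 (iv D15746) D15745
theorem F33906 : act 3 n18630 = n17471 := d12_1 D18630 (iv D17471) F24769 (iv F23679) (iv F27653)
theorem F33907 : act 5 n18630 = n17472 := d14_2 F27655 D18630 F31264 F24770 (iv F23675)
def n18631 : Q := act 5 n15746
theorem D18631 : act 5 n15746 = n18631 := rfl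
theorem F33908 : act 0 n18631 = n17952 := d4_1 D18631 (iv D17952) (iv F27656)
theorem F33909 : act 2 n18631 = n17472 := d11_1 D18631 (iv F33907) F33905
theorem F33910 : act 3 n18631 = n15754 := d13_1 D18631 (iv D15754) (iv F27657)
theorem F33911 : act 4 n18631 = n17473 := d14_1 D18631 F31265 F27661 (iv D15747) D15746
def n18632 : Q := act 3 n15748
theorem D18632 : act 3 n15748 = n18632 := rfl
theorem F33912 : act 0 n18632 = n17953 := d2_1 D18632 (iv D17953) (iv F27662)
theorem F33913 : act 2 n18632 = n18086 := d9_1 D18632 (iv D18086) (iv D15090) (iv D12014) F15648 (iv F15375) (iv F19954) D14922 D17961 F32323 F31571 F29246 F22804 (iv F21427) (iv F27663)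
theorem F33914 : act 4 n18632 = n17480 := d12_2 D15748 D18632 (iv D17480) F27661 F27660
theorem F33915 : act 5 n18632 = n15755 := d13_2 (iv F27664) D18632 (iv D15755)
def n18633 : Q := act 2 n15749
theorem D18633 : act 2 n15749 = n18633 := rfl
theorem F33916 : act 0 n18633 = n15751 := d1_1 D18633 (iv D15751) (iv F27665)
theorem F33917 : act 5 n18633 = n16355 := d11_2 F27667 D18633 F28954
def n18634 : Q := act 4 n15749
theorem D18634 : act 4 n15749 = n18634 := rfl
theorem F33918 : act 0 n18634 = n15752 := d3_1 D18634 (iv D15752) (iv F27665)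
theorem F33919 : act 1 n18634 = n17955 := d7_1 D18634 (iv D17955) (iv F27666)
def n18635 : Q := act 4 n15750
theorem D18635 : act 4 n15750 = n18635 := rfl
theorem F33920 : act 0 n18635 = n15753 := d3_1 D18635 (iv D15753) (iv F27668)
theorem F33921 : act 1 n18635 = n17956 := d7_1 D18635 (iv D17956) (iv F27669)
theorem F33922 : act 5 n18635 = n18359 := d14_2 D15750 D18635 (iv D18359) F27647 F27646
def n18636 : Q := act 3 n15751
theorem D18636 : act 3 n15751 = n18636 := rfl
theorem F33923 : act 1 n18636 = n16335 := d6_1 D18636 F28910 (iv F27671)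
theorem F33924 : act 5 n18636 = n16356 := d13_2 (iv F27672) D18636 (iv D16356)
def n18637 : Q := act 4 n15751
theorem D18637 : act 4 n15751 = n18637 := rfl
theorem F33925 : act 1 n18637 = n16358 := d7_1 D18637 (iv D16358) (iv F27671)
theorem F33926 : act 2 n18637 = n15752 := d10_1 D18637 (iv D15752) D15751
def n18638 : Q := act 5 n15752
theorem D18638 : act 5 n15752 = n18638 := rfl
theorem F33927 : act 1 n18638 = n15754 := d8_1 D18638 (iv D15754) (iv F27673)
theorem F33928 : act 4 n18638 = n17988 := d14_1 D18638 (iv D17988) (iv D14949) F21431 D15752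
def n18639 : Q := act 3 n15753
theorem D18639 : act 3 n15753 = n18639 := rfl
theorem F33929 : act 1 n18639 = n15755 := d6_1 D18639 (iv D15755) (iv F27674)
theorem F33930 : act 4 n18639 = n17987 := d12_2 D15753 D18639 (iv D17987) (iv D14949) (iv F21433)
def n18640 : Q := act 4 n15756
theorem D18640 : act 4 n15756 = n18640 := rfl
theorem F33931 : act 0 n18640 = n15757 := d3_1 D18640 (iv D15757) D15756
theorem F33932 : act 1 n18640 = n17986 := d7_1 D18640 (iv D17986) (iv F27680)
def n18641 : Q := act 3 n15757
theorem D18641 : act 3 n15757 = n18641 := rfl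
theorem F33933 : act 1 n18641 = n15758 := d6_1 D18641 (iv D15758) (iv F27683)
theorem F33934 : act 4 n18641 = n17960 := d12_2 D15757 D18641 (iv D17960) (iv D14920) (iv F21438)
def n18642 : Q := act 5 n15757
theorem D18642 : act 5 n15757 = n18642 := rfl
theorem F33935 : act 1 n18642 = n15759 := d8_1 D18642 (iv D15759) (iv F27683)
theorem F33936 : act 4 n18642 = n17959 := d14_1 D18642 (iv D17959) (iv D14919) (iv F21439) D15757
def n18643 : Q := act 2 n15761
theorem D18643 : act 2 n15761 = n18643 := rfl
theorem F33937 : act 0 n18643 = n15763 := d1_1 D18643 (iv D15763) (iv F27692)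
theorem F33938 : act 5 n18643 = n17818 := d11_2 F27694 D18643 F32055
def n18644 : Q := act 3 n15763
theorem D18644 : act 3 n15763 = n18644 := rfl
theorem F33939 : act 1 n18644 = n17821 := d6_1 D18644 F32060 (iv F27699)
theorem F33940 : act 5 n18644 = n17819 := d13_2 (iv F27700) D18644 (iv D17819)
def n18645 : Q := act 4 n15763
theorem D18645 : act 4 n15763 = n18645 := rfl
theorem F33941 : act 1 n18645 = n17822 := d7_1 D18645 (iv D17822) (iv F27699)
theorem F33942 : act 2 n18645 = n15764 := d10_1 D18645 (iv D15764) D15763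
def n18646 : Q := act 4 n15767
theorem D18646 : act 4 n15767 = n18646 := rfl
theorem F33943 : act 0 n18646 = n15768 := d3_1 D18646 (iv D15768) D15767
theorem F33944 : act 1 n18646 = n17814 := d7_1 D18646 (iv D17814) (iv F27709)
theorem F33945 : act 2 n18646 = n17404 := d10_1 D18646 F31144 F30212
theorem F33946 : act 3 n18646 = n17851 := d12_1 D18646 (iv D17851) F25636 (iv F25541) (iv F27710)
theorem F33947 : act 5 n18646 = n17400 := d14_2 (iv F27711) D18646 (iv D17400) (iv D14324) D14323
def n18647 : Q := act 3 n15768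
theorem D18647 : act 3 n15768 = n18647 := rfl
theorem F33948 : act 0 n18647 = n17851 := d2_1 D18647 (iv F33946) F33943
theorem F33949 : act 1 n18647 = n15769 := d6_1 D18647 (iv D15769) (iv F27712)
theorem F33950 : act 4 n18647 = n17807 := d12_2 D15768 D18647 (iv D17807) (iv D14775) (iv F21461)
theorem F33951 : act 5 n18647 = n17405 := d13_2 (iv F27714) D18647 (iv D17405)
theorem F33952 : act 2 n18398 = n18647 := d15_0 (iv D18647) F27713 (iv F30799) (iv F31130) (iv D17194) (iv F26811) F26812 D15439 (iv F33336)
def n18648 : Q := act 2 n15769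
theorem D18648 : act 2 n15769 = n18648 := rfl
theorem F33953 : act 0 n18648 = n17826 := d1_1 D18648 (iv D17826) (iv F27715)
theorem F33954 : act 4 n18648 = n17809 := d10_2 (iv F27716) D18648 (iv D17809)
def n18649 : Q := act 5 n15769
theorem D18649 : act 5 n15769 = n18649 := rfl
theorem F33955 : act 0 n18649 = n17824 := d4_1 D18649 F32066 (iv F27715)
theorem F33956 : act 1 n18649 = n17405 := d8_1 D18649 (iv F33951) F33949
theorem F33957 : act 3 n18649 = n15770 := d13_1 D18649 (iv D15770) D15769
theorem F33958 : act 4 n18649 = n17704 := d14_1 D18649 (iv D17704) F25251 (iv F25550) (iv F27716)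
def n18650 : Q := act 3 n15772
theorem D18650 : act 3 n15772 = n18650 := rfl
theorem F33959 : act 0 n18650 = n15773 := d2_1 D18650 (iv D15773) D15772
theorem F33960 : act 1 n18650 = n15777 := d6_1 D18650 (iv D15777) (iv F27721)
theorem F33961 : act 5 n18650 = n18124 := d13_2 F33503 D18650 F33504
theorem F33962 : act 2 n17938 = n18650 := d1_0 F33959 (iv F27723) D17938
def n18651 : Q := act 4 n15773
theorem D18651 : act 4 n15773 = n18651 := rfl
theorem F33963 : act 1 n18651 = n15775 := d7_1 D18651 (iv D15775) (iv F27722)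
theorem F33964 : act 2 n18651 = n17939 := d10_1 D18651 (iv D17939) F27723
def n18652 : Q := act 4 n15774
theorem D18652 : act 4 n15774 = n18652 := rfl
theorem F33965 : act 1 n18652 = n15776 := d7_1 D18652 (iv D15776) (iv F27725)
def n18653 : Q := act 5 n15775
theorem D18653 : act 5 n15775 = n18653 := rfl
theorem F33966 : act 0 n18653 = n15782 := d4_1 D18653 (iv D15782) (iv F27727)
theorem F33967 : act 2 n18653 = n17937 := d11_1 D18653 (iv D17937) (iv F27728)
theorem F33968 : act 4 n18653 = n18127 := d14_1 D18653 (iv D18127) (iv D15137) F21471 D15775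
def n18654 : Q := act 4 n15777
theorem D18654 : act 4 n15777 = n18654 := rfl
theorem F33969 : act 0 n18654 = n15779 := d3_1 D18654 (iv D15779) (iv F27731)
def n18655 : Q := act 1 n15778
theorem D18655 : act 1 n15778 = n18655 := rfl
theorem F33970 : act 2 n18655 = n15780 := d5_2 D15778 D18655 (iv D15780) (iv D12714) (iv F21477)
theorem F33971 : act 5 n18655 = n18121 := d8_2 F33512 D18655 (iv F33511)
theorem F33972 : act 0 n17934 = n18655 := d1_3 F33970 F27733 D17934
def n18656 : Q := act 4 n15778
theorem D18656 : act 4 n15778 = n18656 := rfl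
theorem F33973 : act 2 n18656 = n15779 := d10_1 D18656 (iv D15779) D15778
def n18657 : Q := act 5 n15779
theorem D18657 : act 5 n15779 = n18657 := rfl
theorem F33974 : act 1 n18657 = n15782 := d8_1 D18657 (iv D15782) (iv F27732)
theorem F33975 : act 4 n18657 = n18013 := d14_1 D18657 (iv F33515) (iv D18478) F27212 D15779
def n18658 : Q := act 4 n15780
theorem D18658 : act 4 n15780 = n18658 := rfl
theorem F33976 : act 0 n18658 = n17935 := d3_1 D18658 (iv D17935) (iv F27733)
theorem F33977 : act 1 n18658 = n15781 := d7_1 D18658 (iv D15781) D15780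
def n18659 : Q := act 3 n15781
theorem D18659 : act 3 n15781 = n18659 := rfl
theorem F33978 : act 0 n18659 = n16176 := d2_1 D18659 F28577 (iv F27736)
theorem F33979 : act 4 n18659 = n16174 := d12_2 D15781 D18659 (iv D16174) F22279 (iv F21479)
def n18660 : Q := act 5 n15781
theorem D18660 : act 5 n15781 = n18660 := rfl
theorem F33980 : act 0 n18660 = n17937 := d4_1 D18660 (iv D17937) (iv F27736)
theorem F33981 : act 2 n18660 = n15782 := d11_1 D18660 (iv D15782) (iv F27737)
theorem F33982 : act 4 n18660 = n18123 := d14_1 D18660 (iv D18123) (iv D15135) F21480 D15781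
def n18661 : Q := act 4 n15782
theorem D18661 : act 4 n15782 = n18661 := rfl
theorem F33983 : act 0 n18661 = n18127 := d3_1 D18661 (iv F33968) F33966
theorem F33984 : act 1 n18661 = n18013 := d7_1 D18661 (iv F33975) F33974
theorem F33985 : act 2 n18661 = n18123 := d10_1 D18661 (iv F33982) F33981
theorem F33986 : act 5 n18661 = n15783 := d14_2 D15782 D18661 (iv D15783) (iv D12716) D12715
theorem F33987 : act 3 n18012 = n18661 := d13_3 F33986 F28025 F32436
def n18662 : Q := act 4 n15785
theorem D18662 : act 4 n15785 = n18662 := rfl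
theorem F33988 : act 0 n18662 = n18451 := d3_1 D18662 (iv D18451) (iv F27744)
theorem F33989 : act 1 n18662 = n15786 := d7_1 D18662 (iv D15786) (iv F27745)
theorem F33990 : act 2 n18662 = n18164 := d10_1 D18662 F32806 (iv F27746)
theorem F33991 : act 5 n18662 = n18163 := d14_2 (iv F27747) D18662 (iv D18163) (iv F26413) D15207
def n18663 : Q := act 5 n15786
theorem D18663 : act 5 n15786 = n18663 := rfl
theorem F33992 : act 0 n18663 = n15790 := d4_1 D18663 (iv D15790) (iv F27748)
theorem F33993 : act 1 n18663 = n18163 := d8_1 D18663 (iv F33991) F33989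
theorem F33994 : act 4 n18663 = n17798 := d14_1 D18663 F32001 (iv F26492) F24139 D15786
def n18664 : Q := act 5 n15787
theorem D18664 : act 5 n15787 = n18664 := rfl
theorem F33995 : act 0 n18664 = n18199 := d4_1 D18664 F32900 F30228
theorem F33996 : act 1 n18664 = n15790 := d8_1 D18664 (iv D15790) (iv F27749)
theorem F33997 : act 2 n18664 = n18063 := d11_1 D18664 F32552 F30222
theorem F33998 : act 4 n18664 = n15794 := d14_1 D18664 (iv D15794) (iv D12734) (iv F21494) D15787
def n18665 : Q := act 4 n15788
theorem D18665 : act 4 n15788 = n18665 := rfl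
theorem F33999 : act 0 n18665 = n18554 := d3_1 D18665 (iv D18554) (iv F27750)
theorem F34000 : act 1 n18665 = n15789 := d7_1 D18665 (iv D15789) D15788
theorem F34001 : act 2 n18665 = n18064 := d10_1 D18665 F32556 (iv F27751)
theorem F34002 : act 5 n18665 = n18043 := d14_2 (iv F27752) D18665 (iv D18043) F26028 D15039
def n18666 : Q := act 3 n15789
theorem D18666 : act 3 n15789 = n18666 := rfl
def n18667 : Q := act 5 n15789
theorem D18667 : act 5 n15789 = n18667 := rfl
theorem F34003 : act 1 n18667 = n18043 := d8_1 D18667 (iv F34002) F34000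
theorem F34004 : act 2 n18667 = n15790 := d11_1 D18667 (iv D15790) (iv F27753)
theorem F34005 : act 4 n18667 = n18042 := d14_1 D18667 F32514 F26066 F24136 D15789
def n18668 : Q := act 4 n15790
theorem D18668 : act 4 n15790 = n18668 := rfl
theorem F34006 : act 0 n18668 = n17798 := d3_1 D18668 (iv F33994) F33992
theorem F34007 : act 1 n18668 = n15794 := d7_1 D18668 (iv F33998) F33996
theorem F34008 : act 2 n18668 = n18042 := d10_1 D18668 (iv F34005) F34004
theorem F34009 : act 5 n18668 = n15791 := d14_2 D15790 D18668 (iv D15791) (iv D12726) D12725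
theorem F34010 : act 3 n17796 = n18668 := d13_3 F34009 F27757 (iv F31997)
def n18669 : Q := act 1 n15792
theorem D18669 : act 1 n15792 = n18669 := rfl
theorem F34011 : act 0 n18669 = n16914 := d0_1 D18669 F30169 F23712 (iv F21508) (iv F27758)
theorem F34012 : act 4 n18669 = n17446 := d7_2 (iv F27759) D18669 F31239
theorem F34013 : act 5 n18669 = n16910 := d8_2 (iv F27760) D18669 F30162
def n18670 : Q := act 3 n15792
theorem D18670 : act 3 n15792 = n18670 := rfl
theorem F34014 : act 0 n18670 = n15796 := d2_1 D18670 (iv D15796) (iv F27758)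
theorem F34015 : act 2 n18670 = n18577 := d9_1 D18670 F33757 (iv D16941) (iv D13871) F18307 (iv F18957) (iv F19083) D14418 D17478 F31279 (iv D16947) (iv D13877) F18320 D12732 D15792
theorem F34016 : act 5 n18670 = n17476 := d13_2 (iv F27760) D18670 (iv D17476)
def n18671 : Q := act 4 n15795
theorem D18671 : act 4 n15795 = n18671 := rfl
theorem F34017 : act 0 n18671 = n18201 := d3_1 D18671 F32904 (iv F27769)
theorem F34018 : act 2 n18671 = n18197 := d10_1 D18671 F32894 (iv F27770)
theorem F34019 : act 5 n18671 = n18196 := d14_2 D15795 D18671 (iv D18196) F26472 (iv F21818)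
def n18672 : Q := act 2 n15796
theorem D18672 : act 2 n15796 = n18672 := rfl
theorem F34020 : act 0 n18672 = n18577 := d1_1 D18672 (iv F34015) F34014
theorem F34021 : act 3 n18672 = n15846 := d9_2 D15796 D18672 (iv D15846) (iv D12792) (iv F19787) (iv F24631) (iv F24775) D17476 F31274 F27536 (iv D13882) (iv D10919) F14095 D9973 D12737
theorem F34022 : act 5 n18672 = n17478 := d11_2 (iv F27773) D18672 (iv D17478)
def n18673 : Q := act 4 n15796
theorem D18673 : act 4 n15796 = n18673 := rfl
theorem F34023 : act 1 n18673 = n17472 := d7_1 D18673 F31264 (iv F27772)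
theorem F34024 : act 3 n18673 = n17466 := d12_1 D18673 (iv D17466) F24767 (iv F21509) D15796
theorem F34025 : act 5 n18673 = n18316 := d14_2 (iv F27773) D18673 (iv D18316) (iv F30135) F30134
def n18674 : Q := act 5 n15799
theorem D18674 : act 5 n15799 = n18674 := rfl
theorem F34026 : act 0 n18674 = n15871 := d4_1 D18674 (iv D15871) (iv F27781)
theorem F34027 : act 1 n18674 = n18598 := d8_1 D18674 (iv D18598) (iv F27782)
theorem F34028 : act 2 n18674 = n15801 := d11_1 D18674 (iv D15801) (iv F27783)
def n18675 : Q := act 3 n15802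
theorem D18675 : act 3 n15802 = n18675 := rfl
theorem F34029 : act 0 n18675 = n18604 := d2_1 D18675 (iv D18604) (iv F27787)
theorem F34030 : act 2 n18675 = n18321 := d9_1 D18675 F33175 F26762 F20664 (iv F21379) (iv F27598) (iv F33834) F33835 (iv D17116) (iv D14035) (iv F20659) F20660 (iv F16653) D12750 D15802
theorem F34031 : act 5 n18675 = n18320 := d13_2 (iv F29058) D18675 F33172
def n18676 : Q := act 3 n15806
theorem D18676 : act 3 n15806 = n18676 := rfl
theorem F34032 : act 1 n18676 = n15807 := d6_1 D18676 (iv D15807) D15806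
theorem F34033 : act 5 n18676 = n15811 := d13_2 F29083 D18676 (iv F29082)
def n18677 : Q := act 4 n15807
theorem D18677 : act 4 n15807 = n18677 := rfl
theorem F34034 : act 0 n18677 = n15817 := d3_1 D18677 (iv D15817) (iv F27799)
theorem F34035 : act 2 n18677 = n15812 := d10_1 D18677 (iv D15812) (iv F27800)
theorem F34036 : act 5 n18677 = n16637 := d14_2 (iv F27801) D18677 (iv D16637) (iv D13564) (iv F21551)
def n18678 : Q := act 1 n15809
theorem D18678 : act 1 n15809 = n18678 := rfl
theorem F34037 : act 2 n18678 = n15811 := d5_2 D15809 D18678 (iv D15811) (iv D12759) (iv F21544)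
theorem F34038 : act 4 n18678 = n16415 := d7_2 (iv F27806) D18678 (iv D16415)
def n18679 : Q := act 3 n15809
theorem D18679 : act 3 n15809 = n18679 := rfl
theorem F34039 : act 0 n18679 = n16285 := d2_1 D18679 (iv D16285) (iv F27805)
theorem F34040 : act 2 n18679 = n16121 := d15_2 D15809 D18679 (iv D16121) F22186 F17144 (iv F17309) (iv F22427) (iv D13208) (iv F21543)
theorem F34041 : act 5 n16297 = n18679 := d11_0 F34040 F28472 D16297
def n18680 : Q := act 5 n15809
theorem D18680 : act 5 n15809 = n18680 := rfl
theorem F34042 : act 0 n18680 = n16287 := d4_1 D18680 (iv D16287) (iv F27805)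
theorem F34043 : act 2 n18680 = n15810 := d11_1 D18680 (iv D15810) D15809
theorem F34044 : act 3 n18680 = n16297 := d13_1 D18680 F34041 (iv D18679)
def n18681 : Q := act 4 n15810
theorem D18681 : act 4 n15810 = n18681 := rfl
theorem F34045 : act 0 n18681 = n16289 := d3_1 D18681 (iv D16289) (iv F27807)
theorem F34046 : act 1 n18681 = n15812 := d7_1 D18681 (iv D15812) (iv F27808)
theorem F34047 : act 3 n18681 = n16349 := d12_1 D18681 (iv D16349) F22564 (iv F21549) (iv F27809)
theorem F34048 : act 5 n18681 = n16418 := d14_2 D15810 D18681 (iv D16418) (iv D13353) (iv F21545)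
def n18682 : Q := act 5 n15815
theorem D18682 : act 5 n15815 = n18682 := rfl
theorem F34049 : act 0 n18682 = n15816 := d4_1 D18682 (iv D15816) D15815
theorem F34050 : act 2 n18682 = n16275 := d11_1 D18682 (iv F31686) F31684
def n18683 : Q := act 4 n15816
theorem D18683 : act 4 n15816 = n18683 := rfl
theorem F34051 : act 1 n18683 = n15817 := d7_1 D18683 (iv D15817) (iv F27816)
theorem F34052 : act 2 n18683 = n16277 := d10_1 D18683 (iv D16277) (iv F27817)
def n18684 : Q := act 3 n15817
theorem D18684 : act 3 n15817 = n18684 := rfl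
theorem F34053 : act 4 n18684 = n18604 := d12_2 D15817 D18684 (iv D18604) (iv F27775) F27777
def n18685 : Q := act 4 n15820
theorem D18685 : act 4 n15820 = n18685 := rfl
theorem F34054 : act 0 n18685 = n15835 := d3_1 D18685 (iv D15835) (iv F27826)
theorem F34055 : act 1 n18685 = n16583 := d7_1 D18685 F29449 (iv F27827)
theorem F34056 : act 2 n18685 = n15861 := d10_1 D18685 (iv D15861) (iv F27828)
theorem F34057 : act 5 n18685 = n16581 := d14_2 D15820 D18685 (iv D16581) F22946 (iv F21564)
def n18686 : Q := act 3 n15821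
theorem D18686 : act 3 n15821 = n18686 := rfl
theorem F34058 : act 0 n18686 = n15836 := d2_1 D18686 (iv D15836) (iv F27830)
theorem F34059 : act 5 n18686 = n15822 := d13_2 (iv F27832) D18686 (iv D15822)
def n18687 : Q := act 2 n15822
theorem D18687 : act 2 n15822 = n18687 := rfl
theorem F34060 : act 0 n18687 = n15837 := d1_1 D18687 (iv D15837) (iv F27833)
def n18688 : Q := act 1 n15823
theorem D18688 : act 1 n15823 = n18688 := rfl
theorem F34061 : act 4 n18688 = n15824 := d7_2 (iv F27835) D18688 (iv D15824)
theorem F34062 : act 5 n18688 = n18335 := d8_2 F32410 D18688 F33213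
def n18689 : Q := act 3 n15823
theorem D18689 : act 3 n15823 = n18689 := rfl
theorem F34063 : act 0 n18689 = n15839 := d2_1 D18689 (iv D15839) (iv F27834)
def n18690 : Q := act 0 n15824
theorem D18690 : act 0 n15824 = n18690 := rfl
theorem F34064 : act 1 n18690 = n15840 := d0_2 D15824 D18690 (iv D15840) (iv D12785) (iv F21573)
theorem F34065 : act 2 n18690 = n18600 := d1_2 F28318 D18690 F33822
theorem F34066 : act 5 n18690 = n15850 := d4_2 (iv F27836) D18690 (iv D15850)
def n18691 : Q := act 1 n15826
theorem D18691 : act 1 n15826 = n18691 := rfl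
theorem F34067 : act 2 n18691 = n15832 := d5_2 D15826 D18691 (iv D15832) (iv D12780) (iv F21580)
theorem F34068 : act 4 n18691 = n16589 := d7_2 (iv F27843) D18691 (iv D16589)
def n18692 : Q := act 3 n15826
theorem D18692 : act 3 n15826 = n18692 := rfl
theorem F34069 : act 0 n18692 = n16597 := d2_1 D18692 (iv D16597) (iv F27842)
theorem F34070 : act 4 n18692 = n17979 := d12_2 (iv F27843) D18692 (iv D17979) (iv D14940) (iv F22958)
def n18693 : Q := act 5 n15826
theorem D18693 : act 5 n15826 = n18693 := rfl
theorem F34071 : act 0 n18693 = n16598 := d4_1 D18693 (iv D16598) (iv F27842)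
theorem F34072 : act 2 n18693 = n15827 := d11_1 D18693 (iv D15827) D15826
def n18694 : Q := act 4 n15827
theorem D18694 : act 4 n15827 = n18694 := rfl
theorem F34073 : act 0 n18694 = n16600 := d3_1 D18694 (iv D16600) (iv F27844)
theorem F34074 : act 1 n18694 = n15835 := d7_1 D18694 (iv D15835) (iv F27845)
theorem F34075 : act 3 n18694 = n16067 := d12_1 D18694 (iv D16067) F22093 (iv F21584) (iv F27846)
theorem F34076 : act 5 n18694 = n16591 := d14_2 D15827 D18694 (iv D16591) (iv D13510) (iv F21581)
def n18695 : Q := act 1 n15828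
theorem D18695 : act 1 n15828 = n18695 := rfl
theorem F34077 : act 0 n18695 = n17002 := d0_1 D18695 (iv F33576) F33575 F27318 (iv F27847)
theorem F34078 : act 2 n18695 = n16589 := d5_2 D15828 D18695 (iv D16589) (iv D13509) (iv F21586)
theorem F34079 : act 4 n18695 = n15832 := d7_2 (iv F27848) D18695 (iv D15832)
theorem F34080 : act 3 n16999 = n18695 := d15_1 D16999 F34078 F29458 F25852 (iv F23873) F23872 (iv F21078) F21079 (iv F23892)
def n18696 : Q := act 3 n15828
theorem D18696 : act 3 n15828 = n18696 := rfl
theorem F34081 : act 0 n18696 = n16587 := d2_1 D18696 (iv D16587) (iv F27847)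
theorem F34082 : act 1 n18696 = n16999 := d6_1 D18696 F34080 (iv D18695)
theorem F34083 : act 4 n18696 = n18405 := d12_2 (iv F27848) D18696 F33353 F27861 (iv D15833)
theorem F34084 : act 2 n18696 = n18406 := d15_2 D15828 D18696 F33355 F28702 F22354 (iv F17738) (iv F22945) F22946 (iv F21585)
def n18697 : Q := act 5 n15828
theorem D18697 : act 5 n15828 = n18697 := rfl
theorem F34085 : act 0 n18697 = n16578 := d4_1 D18697 F29441 (iv F27847)
theorem F34086 : act 2 n18697 = n15829 := d11_1 D18697 (iv D15829) D15828
def n18698 : Q := act 4 n15829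
theorem D18698 : act 4 n15829 = n18698 := rfl
theorem F34087 : act 0 n18698 = n16581 := d3_1 D18698 (iv D16581) (iv F27849)
theorem F34088 : act 1 n18698 = n16591 := d7_1 D18698 (iv D16591) (iv F27850)
theorem F34089 : act 5 n18698 = n15835 := d14_2 D15829 D18698 (iv D15835) (iv D12781) (iv F21587)
def n18699 : Q := act 3 n15830
theorem D18699 : act 3 n15830 = n18699 := rfl
theorem F34090 : act 0 n18699 = n16588 := d2_1 D18699 (iv D16588) (iv F27852)
theorem F34091 : act 1 n18699 = n16000 := d6_1 D18699 F28169 (iv F27853)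
theorem F34092 : act 5 n18699 = n15831 := d13_2 (iv F27855) D18699 (iv D15831)
def n18700 : Q := act 2 n15831
theorem D18700 : act 2 n15831 = n18700 := rfl
theorem F34093 : act 4 n18700 = n15837 := d10_2 (iv F27857) D18700 (iv D15837)
def n18701 : Q := act 0 n15832
theorem D18701 : act 0 n15832 = n18701 := rfl
theorem F34094 : act 4 n18701 = n17002 := d3_2 F34079 D18701 (iv F34077)
def n18702 : Q := act 3 n15832
theorem D18702 : act 3 n15832 = n18702 := rfl
theorem F34095 : act 1 n18702 = n15833 := d6_1 D18702 (iv D15833) D15832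
theorem F34096 : act 4 n18548 = n18702 := d7_0 F34095 (iv F27861) D18548
theorem F34097 : act 5 n15849 = n18702 := d8_0 F34095 F27860 D15849
def n18703 : Q := act 5 n15832
theorem D18703 : act 5 n15832 = n18703 := rfl
theorem F34098 : act 1 n18703 = n15834 := d8_1 D18703 (iv D15834) D15832
theorem F34099 : act 3 n18703 = n15849 := d13_1 D18703 F34097 (iv D18702)
def n18704 : Q := act 4 n15834
theorem D18704 : act 4 n15834 = n18704 := rfl
theorem F34100 : act 0 n18704 = n15861 := d3_1 D18704 (iv D15861) (iv F27862)
theorem F34101 : act 2 n18704 = n15835 := d10_1 D18704 (iv D15835) (iv F27863)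
def n18705 : Q := act 3 n15835
theorem D18705 : act 3 n15835 = n18705 := rfl
theorem F34102 : act 1 n18705 = n16067 := d6_1 D18705 (iv F34075) F34074
theorem F34103 : act 4 n18705 = n15836 := d12_2 D15835 D18705 (iv D15836) (iv D12782) (iv F21592)
def n18706 : Q := act 2 n15836
theorem D18706 : act 2 n15836 = n18706 := rfl
theorem F34104 : act 5 n18706 = n15837 := d11_2 (iv F27866) D18706 (iv D15837)
def n18707 : Q := act 1 n15837
theorem D18707 : act 1 n15837 = n18707 := rfl
theorem F34105 : act 2 n18707 = n16064 := d5_2 D15837 D18707 (iv D16064) (iv D13024) (iv F21596)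
def n18708 : Q := act 3 n15837
theorem D18708 : act 3 n15837 = n18708 := rfl
def n18709 : Q := act 0 n15838
theorem D18709 : act 0 n15838 = n18709 := rfl
theorem F34106 : act 2 n18709 = n15845 := d1_2 (iv F27867) D18709 (iv D15845)
theorem F34107 : act 4 n18709 = n15840 := d3_2 (iv F27868) D18709 (iv D15840)
theorem F34108 : act 5 n18709 = n15875 := d4_2 (iv F27869) D18709 F27919
def n18710 : Q := act 3 n15838
theorem D18710 : act 3 n15838 = n18710 := rfl
theorem F34109 : act 1 n18710 = n15839 := d6_1 D18710 (iv D15839) D15838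
theorem F34110 : act 5 n18710 = n15877 := d13_2 (iv F27869) D18710 (iv D15877)
def n18711 : Q := act 2 n15839
theorem D18711 : act 2 n15839 = n18711 := rfl
def n18712 : Q := act 4 n15839
theorem D18712 : act 4 n15839 = n18712 := rfl
theorem F34111 : act 3 n18712 = n15842 := d12_1 D18712 (iv D15842) (iv D12786) (iv F21597) D15839
def n18713 : Q := act 3 n15840
theorem D18713 : act 3 n15840 = n18713 := rfl
theorem F34112 : act 0 n18713 = n15841 := d2_1 D18713 (iv D15841) D15840
theorem F34113 : act 5 n18713 = n15862 := d13_2 (iv F27871) D18713 (iv D15862)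
def n18714 : Q := act 2 n15841
theorem D18714 : act 2 n15841 = n18714 := rfl
theorem F34114 : act 5 n18714 = n15863 := d11_2 (iv F27873) D18714 (iv D15863)
def n18715 : Q := act 4 n15841
theorem D18715 : act 4 n15841 = n18715 := rfl
theorem F34115 : act 1 n18715 = n15842 := d7_1 D18715 (iv D15842) (iv F27872)
def n18716 : Q := act 5 n15842
theorem D18716 : act 5 n15842 = n18716 := rfl
theorem F34116 : act 4 n18716 = n15867 := d14_1 D18716 (iv D15867) (iv D12809) (iv F21600) D15842
def n18717 : Q := act 1 n15843
theorem D18717 : act 1 n15843 = n18717 := rfl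
theorem F34117 : act 2 n18717 = n18688 := d5_2 D15843 D18717 (iv D18688) (iv D15823) (iv F21602)
theorem F34118 : act 4 n18717 = n16050 := d7_2 (iv F27875) D18717 (iv D16050)
def n18718 : Q := act 3 n15843
theorem D18718 : act 3 n15843 = n18718 := rfl
theorem F34119 : act 0 n18718 = n15844 := d2_1 D18718 (iv D15844) (iv F27874)
theorem F34120 : act 4 n18718 = n17867 := d12_2 (iv F27875) D18718 (iv D17867) (iv D14839) (iv F22062)
def n18719 : Q := act 2 n15844
theorem D18719 : act 2 n15844 = n18719 := rfl
theorem F34121 : act 5 n18719 = n16597 := d11_2 F27914 D18719 F29472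
theorem F34122 : act 3 n18719 = n16598 := d15_3 D12789 D15844 D18719 F29473 (iv F27840) F27839 (iv F21636) F21637 F21601
def n18720 : Q := act 4 n15844
theorem D18720 : act 4 n15844 = n18720 := rfl
theorem F34123 : act 0 n18720 = n17867 := d3_1 D18720 (iv F34120) F34119
theorem F34124 : act 3 n18720 = n16053 := d12_1 D18720 (iv D16053) (iv D13010) (iv F21607) D15844
def n18721 : Q := act 1 n15846
theorem D18721 : act 1 n15846 = n18721 := rfl
theorem F34125 : act 2 n18721 = n15849 := d5_2 D15846 D18721 (iv D15849) (iv D12795) (iv F21613)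
def n18722 : Q := act 1 n15847
theorem D18722 : act 1 n15847 = n18722 := rfl
theorem F34126 : act 4 n18722 = n15849 := d7_2 (iv F27881) D18722 (iv D15849)
def n18723 : Q := act 3 n15847
theorem D18723 : act 3 n15847 = n18723 := rfl
theorem F34127 : act 0 n18723 = n15856 := d2_1 D18723 (iv D15856) (iv F27880)
def n18724 : Q := act 5 n15847
theorem D18724 : act 5 n15847 = n18724 := rfl
theorem F34128 : act 0 n18724 = n15857 := d4_1 D18724 (iv D15857) (iv F27880)
theorem F34129 : act 2 n18724 = n15848 := d11_1 D18724 (iv D15848) D15847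
theorem F34130 : act 4 n18724 = n18549 := d14_1 D18724 (iv D18549) F27861 F27860 (iv F27881)
def n18725 : Q := act 0 n15849
theorem D18725 : act 0 n15849 = n18725 := rfl
theorem F34131 : act 1 n18725 = n15858 := d0_2 D15849 D18725 (iv D15858) (iv D12803) (iv F21617)
def n18726 : Q := act 3 n15850
theorem D18726 : act 3 n15850 = n18726 := rfl
theorem F34132 : act 0 n18726 = n15851 := d2_1 D18726 (iv D15851) D15850
theorem F34133 : act 1 n18726 = n15862 := d6_1 D18726 (iv D15862) (iv F27885)
def n18727 : Q := act 2 n15851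
theorem D18727 : act 2 n15851 = n18727 := rfl
def n18728 : Q := act 4 n15851
theorem D18728 : act 4 n15851 = n18728 := rfl
theorem F34134 : act 1 n18728 = n15852 := d7_1 D18728 (iv D15852) (iv F27888)
theorem F34135 : act 3 n18728 = n18334 := d12_1 D18728 (iv D18334) F26816 F25905 D15851
def n18729 : Q := act 5 n15852
theorem D18729 : act 5 n15852 = n18729 := rfl
theorem F34136 : act 0 n18729 = n15867 := d4_1 D18729 (iv D15867) (iv F27889)
theorem F34137 : act 3 n18729 = n18369 := d13_1 D18729 (iv D18369) (iv F27890)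
def n18730 : Q := act 1 n15853
theorem D18730 : act 1 n15853 = n18730 := rfl
def n18731 : Q := act 3 n15853
theorem D18731 : act 3 n15853 = n18731 := rfl
def n18732 : Q := act 5 n15853
theorem D18732 : act 5 n15853 = n18732 := rfl
theorem F34138 : act 2 n18732 = n15854 := d11_1 D18732 (iv D15854) D15853
def n18733 : Q := act 4 n15854
theorem D18733 : act 4 n15854 = n18733 := rfl
def n18734 : Q := act 0 n15855
theorem D18734 : act 0 n15855 = n18734 := rfl
theorem F34139 : act 4 n18734 = n15858 := d3_2 (iv F27892) D18734 (iv D15858)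
def n18735 : Q := act 3 n15855
theorem D18735 : act 3 n15855 = n18735 := rfl
theorem F34140 : act 1 n18735 = n15856 := d6_1 D18735 (iv D15856) D15855
def n18736 : Q := act 2 n15856
theorem D18736 : act 2 n15856 = n18736 := rfl
def n18737 : Q := act 4 n15856
theorem D18737 : act 4 n15856 = n18737 := rfl
theorem F34141 : act 3 n18737 = n15861 := d12_1 D18737 (iv D15861) (iv D12804) (iv F21623) D15856
def n18738 : Q := act 5 n15856
theorem D18738 : act 5 n15856 = n18738 := rfl
theorem F34142 : act 3 n18738 = n15857 := d13_1 D18738 (iv D15857) D15856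
def n18739 : Q := act 3 n15858
theorem D18739 : act 3 n15858 = n18739 := rfl
theorem F34143 : act 0 n18739 = n15859 := d2_1 D18739 (iv D15859) D15858
def n18740 : Q := act 5 n15858
theorem D18740 : act 5 n15858 = n18740 := rfl
theorem F34144 : act 0 n18740 = n15860 := d4_1 D18740 (iv D15860) D15858
theorem F34145 : act 2 n18740 = n18553 := d11_1 D18740 (iv F33714) F32388
theorem F34146 : act 4 n18550 = n18740 := d10_0 F34145 (iv D18553) (iv F33701)
def n18741 : Q := act 4 n15859
theorem D18741 : act 4 n15859 = n18741 := rfl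
theorem F34147 : act 1 n18741 = n15861 := d7_1 D18741 (iv D15861) (iv F27895)
theorem F34148 : act 2 n18741 = n16580 := d10_1 D18741 (iv F33606) F33605
theorem F34149 : act 5 n18741 = n16579 := d14_2 (iv F33601) D18741 (iv D16579) (iv F27319) D18509
def n18742 : Q := act 5 n15861
theorem D18742 : act 5 n15861 = n18742 := rfl
theorem F34150 : act 1 n18742 = n16579 := d8_1 D18742 (iv F34149) F34147
theorem F34151 : act 2 n18742 = n16581 := d11_1 D18742 (iv F34057) F34056
theorem F34152 : act 4 n18742 = n16578 := d14_1 D18742 F29441 (iv F27823) (iv F27825) D15861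
def n18743 : Q := act 2 n15862
theorem D18743 : act 2 n15862 = n18743 := rfl
theorem F34153 : act 0 n18743 = n15863 := d1_1 D18743 (iv D15863) (iv F27899)
theorem F34154 : act 3 n18743 = n15863 := d15_1 D18743 (iv D15863) (iv D12807) F16732 (iv F16718) (iv F21598) D15841 F27873 (iv F27899)
def n18744 : Q := act 4 n15862
theorem D18744 : act 4 n15862 = n18744 := rfl
theorem F34155 : act 0 n18744 = n15864 := d3_1 D18744 (iv D15864) (iv F27899)
def n18745 : Q := act 1 n15863
theorem D18745 : act 1 n15863 = n18745 := rfl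
theorem F34156 : act 2 n18745 = n15865 := d5_2 D15863 D18745 (iv D15865) (iv D12808) (iv F21630)
def n18746 : Q := act 4 n15863
theorem D18746 : act 4 n15863 = n18746 := rfl
theorem F34157 : act 2 n18746 = n15864 := d10_1 D18746 (iv D15864) D15863
def n18747 : Q := act 5 n15864
theorem D18747 : act 5 n15864 = n18747 := rfl
theorem F34158 : act 1 n18747 = n15867 := d8_1 D18747 (iv D15867) (iv F27900)
def n18748 : Q := act 0 n15865
theorem D18748 : act 0 n15865 = n18748 := rfl
def n18749 : Q := act 4 n15865
theorem D18749 : act 4 n15865 = n18749 := rfl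
theorem F34159 : act 1 n18749 = n15866 := d7_1 D18749 (iv D15866) D15865
def n18750 : Q := act 5 n15866
theorem D18750 : act 5 n15866 = n18750 := rfl
theorem F34160 : act 2 n18750 = n15867 := d11_1 D18750 (iv D15867) (iv F27901)
def n18751 : Q := act 4 n15868
theorem D18751 : act 4 n15868 = n18751 := rfl
theorem F34161 : act 0 n18751 = n18517 := d3_1 D18751 (iv D18517) (iv F27902)
theorem F34162 : act 1 n18751 = n15869 := d7_1 D18751 (iv D15869) (iv F27903)
theorem F34163 : act 2 n18751 = n18335 := d10_1 D18751 (iv D18335) (iv F27904)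
theorem F34164 : act 5 n18751 = n18717 := d14_2 D15868 D18751 F34118 F28320 F25623
def n18752 : Q := act 3 n15869
theorem D18752 : act 3 n15869 = n18752 := rfl
theorem F34165 : act 0 n18752 = n15873 := d2_1 D18752 (iv D15873) (iv F27906)
theorem F34166 : act 2 n18752 = n18692 := d9_1 D18752 (iv D18692) (iv D15826) (iv D12775) F16695 D10014 D12789 D15844 D18719 F34122 F29473 (iv F27840) F27839 (iv F21636) (iv F27907)
theorem F34167 : act 5 n18752 = n18718 := d13_2 (iv F27908) D18752 (iv D18718)
def n18753 : Q := act 5 n15870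
theorem D18753 : act 5 n15870 = n18753 := rfl
theorem F34168 : act 0 n18753 = n18526 := d4_1 D18753 (iv D18526) (iv F27909)
theorem F34169 : act 1 n18753 = n15871 := d8_1 D18753 (iv D15871) (iv F27910)
theorem F34170 : act 2 n18753 = n18523 := d11_1 D18753 (iv D18523) (iv F27911)
theorem F34171 : act 4 n18753 = n18520 := d14_1 D18753 (iv D18520) (iv D15589) (iv F21645) D15870
def n18754 : Q := act 3 n15872
theorem D18754 : act 3 n15872 = n18754 := rfl
theorem F34172 : act 1 n18754 = n18519 := d6_1 D18754 (iv D18519) (iv F27912)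
theorem F34173 : act 4 n18754 = n15873 := d12_2 D15872 D18754 (iv D15873) (iv D12817) (iv F21647)
def n18755 : Q := act 4 n15874
theorem D18755 : act 4 n15874 = n18755 := rfl
theorem F34174 : act 0 n18755 = n18335 := d3_1 D18755 (iv D18335) (iv F27915)
theorem F34175 : act 1 n18755 = n15875 := d7_1 D18755 (iv D15875) D15874
theorem F34176 : act 2 n18755 = n18517 := d10_1 D18755 (iv D18517) (iv F27916)
def n18756 : Q := act 3 n15875
theorem D18756 : act 3 n15875 = n18756 := rfl
theorem F34177 : act 0 n18756 = n15877 := d2_1 D18756 (iv D15877) (iv F27919)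
def n18757 : Q := act 3 n15876
theorem D18757 : act 3 n15876 = n18757 := rfl
theorem F34178 : act 4 n18757 = n15877 := d12_2 D15876 D18757 (iv D15877) (iv D12822) D12821
def n18758 : Q := act 5 n15876
theorem D18758 : act 5 n15876 = n18758 := rfl
def n18759 : Q := act 2 n15877
theorem D18759 : act 2 n15877 = n18759 := rfl
def n18760 : Q := act 2 n15878
theorem D18760 : act 2 n15878 = n18760 := rfl
def n18761 : Q := act 4 n15878
theorem D18761 : act 4 n15878 = n18761 := rfl
theorem F34179 : act 3 n18761 = n15928 := d12_1 D18761 (iv D15928) (iv D12906) (iv F21659) D15878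
def n18762 : Q := act 5 n15878
theorem D18762 : act 5 n15878 = n18762 := rfl
theorem F34180 : act 3 n18762 = n15879 := d13_1 D18762 (iv D15879) D15878
def n18763 : Q := act 1 n15880
theorem D18763 : act 1 n15880 = n18763 := rfl
theorem F34181 : act 2 n18763 = n15884 := d5_2 D15880 D18763 (iv D15884) (iv D12829) (iv F21662)
def n18764 : Q := act 3 n15880
theorem D18764 : act 3 n15880 = n18764 := rfl
def n18765 : Q := act 5 n15880
theorem D18765 : act 5 n15880 = n18765 := rfl
theorem F34182 : act 2 n18765 = n15881 := d11_1 D18765 (iv D15881) D15880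
def n18766 : Q := act 4 n15881
theorem D18766 : act 4 n15881 = n18766 := rfl
theorem F34183 : act 1 n18766 = n15885 := d7_1 D18766 (iv D15885) (iv F27922)
def n18767 : Q := act 1 n15882
theorem D18767 : act 1 n15882 = n18767 := rfl
theorem F34184 : act 4 n18767 = n15884 := d7_2 (iv F27925) D18767 (iv D15884)
def n18768 : Q := act 3 n15882
theorem D18768 : act 3 n15882 = n18768 := rfl
theorem F34185 : act 0 n18768 = n15889 := d2_1 D18768 (iv D15889) (iv F27924)
def n18769 : Q := act 5 n15882
theorem D18769 : act 5 n15882 = n18769 := rfl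
theorem F34186 : act 0 n18769 = n15890 := d4_1 D18769 (iv D15890) (iv F27924)
theorem F34187 : act 2 n18769 = n15883 := d11_1 D18769 (iv D15883) D15882
def n18770 : Q := act 4 n15883
theorem D18770 : act 4 n15883 = n18770 := rfl
theorem F34188 : act 0 n18770 = n15891 := d3_1 D18770 (iv D15891) (iv F27926)
theorem F34189 : act 5 n18770 = n15885 := d14_2 D15883 D18770 (iv D15885) (iv D12830) (iv F21666)
def n18771 : Q := act 0 n15884
theorem D18771 : act 0 n15884 = n18771 := rfl
theorem F34190 : act 1 n18771 = n15892 := d0_2 D15884 D18771 (iv D15892) (iv D12836) (iv F21668)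
def n18772 : Q := act 1 n15886
theorem D18772 : act 1 n15886 = n18772 := rfl
def n18773 : Q := act 3 n15886
theorem D18773 : act 3 n15886 = n18773 := rfl
def n18774 : Q := act 5 n15886
theorem D18774 : act 5 n15886 = n18774 := rfl
theorem F34191 : act 2 n18774 = n15887 := d11_1 D18774 (iv D15887) D15886
def n18775 : Q := act 4 n15887
theorem D18775 : act 4 n15887 = n18775 := rfl
def n18776 : Q := act 0 n15888
theorem D18776 : act 0 n15888 = n18776 := rfl
theorem F34192 : act 4 n18776 = n15892 := d3_2 (iv F27930) D18776 (iv D15892)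
def n18777 : Q := act 3 n15888
theorem D18777 : act 3 n15888 = n18777 := rfl
theorem F34193 : act 1 n18777 = n15889 := d6_1 D18777 (iv D15889) D15888
def n18778 : Q := act 2 n15889
theorem D18778 : act 2 n15889 = n18778 := rfl
def n18779 : Q := act 4 n15889
theorem D18779 : act 4 n15889 = n18779 := rfl
theorem F34194 : act 3 n18779 = n15895 := d12_1 D18779 (iv D15895) (iv D12837) (iv F21673) D15889
def n18780 : Q := act 5 n15889
theorem D18780 : act 5 n15889 = n18780 := rfl
theorem F34195 : act 3 n18780 = n15890 := d13_1 D18780 (iv D15890) D15889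
def n18781 : Q := act 4 n15890
theorem D18781 : act 4 n15890 = n18781 := rfl
theorem F34196 : act 2 n18781 = n15891 := d10_1 D18781 (iv D15891) (iv F27931)
theorem F34197 : act 5 n18781 = n15896 := d14_2 D15890 D18781 (iv D15896) (iv D12838) (iv F21673)
def n18782 : Q := act 3 n15892
theorem D18782 : act 3 n15892 = n18782 := rfl
theorem F34198 : act 0 n18782 = n15893 := d2_1 D18782 (iv D15893) D15892
def n18783 : Q := act 5 n15892
theorem D18783 : act 5 n15892 = n18783 := rfl
theorem F34199 : act 0 n18783 = n15894 := d4_1 D18783 (iv D15894) D15892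
def n18784 : Q := act 4 n15893
theorem D18784 : act 4 n15893 = n18784 := rfl
theorem F34200 : act 1 n18784 = n15895 := d7_1 D18784 (iv D15895) (iv F27933)
theorem F34201 : act 2 n18784 = n18638 := d10_1 D18784 F33928 F32376
theorem F34202 : act 5 n18784 = n18637 := d14_2 F28949 D18784 (iv D18637) F27672 (iv F28948)
def n18785 : Q := act 4 n15894
theorem D18785 : act 4 n15894 = n18785 := rfl
theorem F34203 : act 1 n18785 = n15896 := d7_1 D18785 (iv D15896) (iv F27934)
def n18786 : Q := act 3 n15898
theorem D18786 : act 3 n15898 = n18786 := rfl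
theorem F34204 : act 0 n18786 = n15901 := d2_1 D18786 (iv D15901) (iv F27936)
theorem F34205 : act 1 n18786 = n18310 := d6_1 D18786 F33142 (iv F27937)
theorem F34206 : act 4 n18786 = n17477 := d12_2 (iv F27938) D18786 (iv D17477) (iv D14416) D14415
theorem F34207 : act 5 n18153 = n18786 := d14_0 F34206 F31276 (iv D15312) (iv F26389) D18153
def n18787 : Q := act 5 n15898
theorem D18787 : act 5 n15898 = n18787 := rfl
theorem F34208 : act 0 n18787 = n15902 := d4_1 D18787 (iv D15902) (iv F27936)
theorem F34209 : act 1 n18787 = n18311 := d8_1 D18787 F33147 (iv F27937)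
theorem F34210 : act 2 n18787 = n15899 := d11_1 D18787 (iv D15899) D15898
theorem F34211 : act 3 n18787 = n18153 := d13_1 D18787 F34207 (iv D18786)
theorem F34212 : act 4 n18787 = n18154 := d14_1 D18787 F32779 F26752 (iv F24777) (iv F27938)
theorem F34213 : act 2 n18764 = n18153 := d15_6 (iv D12843) (iv D10059) (iv F16762) D12825 D15880 D18764 (iv F34211) (iv D18787) F27936
theorem F34214 : act 4 n18152 = n18764 := d10_0 F34213 (iv D18153) D18152
def n18788 : Q := act 4 n15899
theorem D18788 : act 4 n15899 = n18788 := rfl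
theorem F34215 : act 0 n18788 = n15903 := d3_1 D18788 (iv D15903) (iv F27939)
theorem F34216 : act 1 n18788 = n15910 := d7_1 D18788 (iv D15910) (iv F27940)
theorem F34217 : act 2 n18788 = n18154 := d10_1 D18788 (iv F34212) F34210
theorem F34218 : act 5 n18788 = n18317 := d14_2 D15899 D18788 F33162 F27504 F25568
def n18789 : Q := act 3 n15900
theorem D18789 : act 3 n15900 = n18789 := rfl
theorem F34219 : act 0 n18789 = n18567 := d2_1 D18789 (iv D18567) (iv F27942)
theorem F34220 : act 1 n18789 = n15901 := d6_1 D18789 (iv D15901) D15900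
def n18790 : Q := act 2 n15901
theorem D18790 : act 2 n15901 = n18790 := rfl
def n18791 : Q := act 4 n15901
theorem D18791 : act 4 n15901 = n18791 := rfl
theorem F34221 : act 0 n18791 = n17477 := d3_1 D18791 (iv F34206) F34204
theorem F34222 : act 3 n18791 = n17474 := d12_1 D18791 (iv D17474) (iv F26165) F26164 D15901
theorem F34223 : act 5 n18303 = n18791 := d13_0 F34222 F31268 (iv F33136)
def n18792 : Q := act 5 n15901
theorem D18792 : act 5 n15901 = n18792 := rfl
theorem F34224 : act 0 n18792 = n18153 := d4_1 D18792 F34207 F34204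
theorem F34225 : act 3 n18792 = n15902 := d13_1 D18792 (iv D15902) D15901
theorem F34226 : act 4 n18792 = n18150 := d14_1 D18792 F32772 D18303 F34223 (iv D18791)
def n18793 : Q := act 4 n15902
theorem D18793 : act 4 n15902 = n18793 := rfl
theorem F34227 : act 0 n18793 = n18154 := d3_1 D18793 (iv F34212) F34208
theorem F34228 : act 2 n18793 = n15903 := d10_1 D18793 (iv D15903) (iv F27945)
theorem F34229 : act 3 n18793 = n18151 := d12_1 D18793 (iv D18151) D18150 (iv F34226) F34225
theorem F34230 : act 5 n18793 = n18314 := d14_2 D15902 D18793 F33156 F27500 F26164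
def n18794 : Q := act 3 n15903
theorem D18794 : act 3 n15903 = n18794 := rfl
theorem F34231 : act 1 n18794 = n15907 := d6_1 D18794 (iv D15907) (iv F27946)
theorem F34232 : act 4 n18794 = n15904 := d12_2 D15903 D18794 (iv D15904) (iv D12845) (iv F21681)
theorem F34233 : act 5 n18794 = n15926 := d13_2 F31164 D18794 (iv F31163)
theorem F34234 : act 2 n18794 = n18188 := d15_2 F34228 D18794 (iv D18188) F26460 F21027 (iv F20654) D15322 (iv F32779) (iv F34227)
def n18795 : Q := act 2 n15904
theorem D18795 : act 2 n15904 = n18795 := rfl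
theorem F34235 : act 1 n18795 = n18194 := d5_1 D18795 F32883 F27960 (iv D15908) (iv F27947)
theorem F34236 : act 4 n18795 = n18188 := d10_2 F34232 D18795 (iv F34234)
theorem F34237 : act 5 n18795 = n15905 := d11_2 (iv F27948) D18795 (iv D15905)
theorem F34238 : act 3 n18187 = n18795 := d12_5 F34236 (iv D18188) (iv D15191) (iv F26458) D18187
theorem F34239 : act 2 n17713 = n18187 := d15_2 D14668 D17713 F34238 (iv D18795) (iv D15904) (iv F25290) (iv F31805) (iv D17709) F25286
theorem F34240 : act 4 n18185 = n17713 := d10_0 F34239 (iv D18187) (iv F32861)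
def n18796 : Q := act 3 n15905
theorem D18796 : act 3 n15905 = n18796 := rfl
theorem F34241 : act 1 n18796 = n18193 := d6_1 D18796 F32880 (iv F27949)
theorem F34242 : act 4 n18796 = n18186 := d12_2 (iv F27950) D18796 F32863 F26483 F21814
theorem F34243 : act 5 n18796 = n18187 := d13_2 F34237 D18796 F34238
def n18797 : Q := act 2 n15907
theorem D18797 : act 2 n15907 = n18797 := rfl
theorem F34244 : act 0 n18797 = n15922 := d1_1 D18797 (iv D15922) (iv F27954)
theorem F34245 : act 1 n18797 = n18195 := d5_1 D18797 (iv D18195) (iv F32865) (iv F34234) F34231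
theorem F34246 : act 4 n18797 = n15908 := d10_2 (iv F27955) D18797 (iv D15908)
theorem F34247 : act 5 n18797 = n15927 := d11_2 (iv F27956) D18797 F28009
theorem F34248 : act 3 n18797 = n15922 := d15_1 D18797 (iv D15922) (iv D12872) (iv F21737) (iv F26157) F26156 D15915 F27979 (iv F27954)
def n18798 : Q := act 4 n15909
theorem D18798 : act 4 n15909 = n18798 := rfl
theorem F34249 : act 0 n18798 = n15914 := d3_1 D18798 (iv D15914) (iv F27961)
theorem F34250 : act 1 n18798 = n18312 := d7_1 D18798 F33150 (iv F27962)
theorem F34251 : act 2 n18798 = n15910 := d10_1 D18798 (iv D15910) (iv F27963)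
theorem F34252 : act 3 n18798 = n18566 := d12_1 D18798 F33742 F27608 F21755 (iv F27964)
theorem F34253 : act 5 n18798 = n18318 := d14_2 D15909 D18798 F33165 (iv D15655) (iv F21721)
def n18799 : Q := act 4 n15911
theorem D18799 : act 4 n15911 = n18799 := rfl
theorem F34254 : act 0 n18799 = n18318 := d3_1 D18799 F33165 (iv F27966)
theorem F34255 : act 1 n18799 = n17624 := d7_1 D18799 (iv D17624) (iv F27967)
theorem F34256 : act 2 n18799 = n15912 := d10_1 D18799 (iv D15912) (iv F27968)
theorem F34257 : act 3 n18799 = n18484 := d12_1 D18799 F33536 F31608 (iv D17623) (iv F27969)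
theorem F34258 : act 5 n18799 = n15914 := d14_2 D15911 D18799 (iv D15914) (iv D12861) (iv F21701)
def n18800 : Q := act 4 n15913
theorem D18800 : act 4 n15913 = n18800 := rfl
theorem F34259 : act 0 n18800 = n17628 := d3_1 D18800 F31622 (iv F27972)
theorem F34260 : act 1 n18800 = n15914 := d7_1 D18800 (iv D15914) (iv F27973)
theorem F34261 : act 2 n18800 = n15921 := d10_1 D18800 (iv D15921) (iv F27974)
theorem F34262 : act 5 n18800 = n17624 := d14_2 D15913 D18800 (iv D17624) F25086 (iv F21712)
theorem F34263 : act 3 n18574 = n18800 := d2_0 F34259 F31621 D18574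
def n18801 : Q := act 3 n15914
theorem D18801 : act 3 n15914 = n18801 := rfl
theorem F34264 : act 0 n18801 = n18566 := d2_1 D18801 (iv F34252) F34249
theorem F34265 : act 1 n18801 = n18574 := d6_1 D18801 F34263 F34260
theorem F34266 : act 4 n18801 = n18606 := d12_2 D15914 D18801 F33839 F27605 F26964
theorem F34267 : act 5 n18801 = n18484 := d13_2 F34258 D18801 (iv F34257)
theorem F34268 : act 2 n18801 = n18483 := d15_4 F26535 F25260 (iv F27976) D18801 (iv D18483) (iv F32940) F32941 (iv D17064) (iv F26533)
def n18802 : Q := act 2 n15915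
theorem D18802 : act 2 n15915 = n18802 := rfl
theorem F34269 : act 0 n18802 = n15927 := d1_1 D18802 F28009 (iv F27977)
theorem F34270 : act 1 n18802 = n18202 := d5_1 D18802 F32906 (iv F32948) F32949 F31792
theorem F34271 : act 3 n18802 = n15927 := d9_2 D15915 D18802 F28009 (iv F26168) (iv F31936) F31937 F25446 D15907 D18797 F34248 (iv D15922) (iv D12872) (iv F21737) (iv F26157) F26156
theorem F34272 : act 4 n18802 = n15916 := d10_2 (iv F27978) D18802 (iv D15916)
theorem F34273 : act 5 n18802 = n15922 := d11_2 (iv F27979) D18802 (iv D15922)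
def n18803 : Q := act 2 n15917
theorem D18803 : act 2 n15917 = n18803 := rfl
theorem F34274 : act 0 n18803 = n15919 := d1_1 D18803 (iv D15919) (iv F27984)
theorem F34275 : act 5 n18803 = n17615 := d11_2 F31921 D18803 (iv F31918)
theorem F34276 : act 1 n17645 = n18803 := d8_3 F34275 F31583 D17645
theorem F34277 : act 4 n17614 = n18803 := d14_5 F34275 (iv D17615) (iv D14568) D14567 D17614
def n18804 : Q := act 4 n15917
theorem D18804 : act 4 n15917 = n18804 := rfl
theorem F34278 : act 0 n18804 = n15920 := d3_1 D18804 (iv D15920) (iv F27984)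
theorem F34279 : act 2 n18804 = n17614 := d10_1 D18804 F34277 (iv D18803)
theorem F34280 : act 3 n18804 = n17613 := d12_1 D18804 (iv D17613) F25062 (iv F21734) D15917
theorem F34281 : act 5 n18804 = n17613 := d14_2 F31921 D18804 (iv D17613) (iv F26150) (iv F31920)
def n18805 : Q := act 4 n15918
theorem D18805 : act 4 n15918 = n18805 := rfl
theorem F34282 : act 0 n18805 = n15921 := d3_1 D18805 (iv D15921) (iv F27985)
theorem F34283 : act 2 n18805 = n17628 := d10_1 D18805 F31622 (iv F27986)
theorem F34284 : act 3 n18805 = n17626 := d12_1 D18805 (iv D17626) F26151 (iv F31920) F31919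
theorem F34285 : act 5 n18805 = n17626 := d14_2 D15918 D18805 (iv D17626) F25090 (iv F21734)
def n18806 : Q := act 3 n15919
theorem D18806 : act 3 n15919 = n18806 := rfl
theorem F34286 : act 1 n18806 = n17619 := d6_1 D18806 (iv D17619) (iv F27987)
theorem F34287 : act 4 n18806 = n18538 := d12_2 F27989 D18806 F33671 F32652 F31558
theorem F34288 : act 5 n18806 = n17617 := d13_2 (iv F27988) D18806 (iv D17617)
theorem F34289 : act 2 n18806 = n18571 := d15_2 D15919 D18806 F33751 F27522 (iv F27508) (iv F27986) (iv F31919) F31921 F27984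
def n18807 : Q := act 1 n15923
theorem D18807 : act 1 n15923 = n18807 := rfl
theorem F34290 : act 3 n18807 = n16648 := d6_2 (iv F27998) D18807 F29587
def n18808 : Q := act 4 n15925
theorem D18808 : act 4 n15925 = n18808 := rfl
theorem F34291 : act 0 n18808 = n15926 := d3_1 D18808 (iv D15926) (iv F28003)
theorem F34292 : act 2 n18808 = n18198 := d10_1 D18808 F32897 (iv F28004)
theorem F34293 : act 3 n18808 = n18317 := d12_1 D18808 F33162 F27503 (iv F24623) (iv F28005)
def n18809 : Q := act 0 n15929
theorem D18809 : act 0 n15929 = n18809 := rfl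
theorem F34294 : act 2 n18809 = n15933 := d1_2 (iv F28010) D18809 (iv D15933)
def n18810 : Q := act 3 n15929
theorem D18810 : act 3 n15929 = n18810 := rfl
theorem F34295 : act 1 n18810 = n15930 := d6_1 D18810 (iv D15930) D15929
def n18811 : Q := act 4 n15930
theorem D18811 : act 4 n15930 = n18811 := rfl
def n18812 : Q := act 4 n15931
theorem D18812 : act 4 n15931 = n18812 := rfl
theorem F34296 : act 2 n18812 = n15932 := d10_1 D18812 (iv D15932) (iv F28011)
def n18813 : Q := act 2 n15934
theorem D18813 : act 2 n15934 = n18813 := rfl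
def n18814 : Q := act 5 n15934
theorem D18814 : act 5 n15934 = n18814 := rfl
theorem F34297 : act 1 n18814 = n15938 := d8_1 D18814 (iv D15938) (iv F28013)
theorem F34298 : act 3 n18814 = n15935 := d13_1 D18814 (iv D15935) D15934
def n18815 : Q := act 1 n15936
theorem D18815 : act 1 n15936 = n18815 := rfl
def n18816 : Q := act 4 n15936
theorem D18816 : act 4 n15936 = n18816 := rfl
theorem F34299 : act 2 n18816 = n15937 := d10_1 D18816 (iv D15937) D15936
def n18817 : Q := act 5 n15937
theorem D18817 : act 5 n15937 = n18817 := rfl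
def n18818 : Q := act 4 n15938
theorem D18818 : act 4 n15938 = n18818 := rfl
def n18819 : Q := act 0 n15947
theorem D18819 : act 0 n15947 = n18819 := rfl
theorem F34300 : act 1 n18819 = n15950 := d0_2 D15947 D18819 F28042 (iv D12927) (iv F21876)
theorem F34301 : act 2 n18819 = n16324 := d1_2 (iv F28036) D18819 F28885
theorem F34302 : act 4 n18819 = n16325 := d3_2 F28882 D18819 F28889
theorem F34303 : act 3 n18056 = n18819 := d12_5 F34302 F28891 F22858 D15023 D18056
theorem F34304 : act 5 n15947 = n18819 := d14_0 F34302 F28890 (iv F29328) F29329 F28882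
theorem E33 : n18056 = n15981 := ((c6_4 F34303 F34300 F28044 D15981)).symm
theorem F34305 : act 3 n15981 = n18819 := (sb E33 F34303)
theorem F34306 : act 4 n15981 = n15023 := (sb E33 (iv D18056))
theorem E34 : n18054 = n15982 := (c7_2 F34306 (iv F32534) (iv D15982) D15981)
theorem F34307 : act 1 n15982 = n15023 := (sb E34 F32534)
theorem F34308 : act 3 n15982 = n15022 := (sb E34 (iv D18054))
def n18820 : Q := act 3 n15947
theorem D18820 : act 3 n15947 = n18820 := rfl
theorem F34309 : act 0 n18820 = n15981 := d2_1 D18820 F34305 (iv D18819)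
theorem F34310 : act 1 n18820 = n15948 := d6_1 D18820 (iv D15948) D15947
theorem F34311 : act 4 n18820 = n16539 := d12_2 F28882 D18820 (iv D16539) F22887 D13464
theorem F34312 : act 5 n18820 = n15981 := d13_2 (iv F34304) D18820 F34305
theorem F34313 : act 2 n18820 = n16024 := d15_2 (iv F28036) D18820 F28246 (iv F28804) (iv F28806) (iv F28830) (iv F28832) (iv F28888) F28885
def n18821 : Q := act 4 n15948
theorem D18821 : act 4 n15948 = n18821 := rfl
theorem F34314 : act 0 n18821 = n15956 := d3_1 D18821 (iv D15956) (iv F28037)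
theorem F34315 : act 1 n18821 = n16539 := d7_1 D18821 (iv F34311) F34310
theorem F34316 : act 2 n18821 = n15984 := d10_1 D18821 (iv D15984) (iv F28038)
theorem F34317 : act 3 n18821 = n16538 := d12_1 D18821 F29367 (iv F28883) (iv D15949) D15948
theorem F34318 : act 5 n18060 = n18821 := d8_0 F34315 F29369 D18060
def n18822 : Q := act 5 n15949
theorem D18822 : act 5 n15949 = n18822 := rfl
theorem F34319 : act 0 n18822 = n15958 := d4_1 D18822 (iv D15958) (iv F28040)
theorem F34320 : act 1 n18822 = n16517 := d8_1 D18822 F29329 F28881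
theorem F34321 : act 2 n18822 = n15951 := d11_1 D18822 (iv D15951) (iv F28041)
theorem F34322 : act 3 n18822 = n16546 := d13_1 D18822 F29382 (iv F28883)
theorem F34323 : act 4 n16547 = n18822 := d7_0 F34320 F29328 D16547
def n18823 : Q := act 4 n15950
theorem D18823 : act 4 n15950 = n18823 := rfl
theorem F34324 : act 0 n18823 = n15954 := d3_1 D18823 (iv D15954) (iv F28042)
theorem F34325 : act 1 n18823 = n16325 := d7_1 D18823 (iv F34302) F34300
theorem F34326 : act 2 n18823 = n15952 := d10_1 D18823 (iv D15952) (iv F28043)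
theorem F34327 : act 3 n18823 = n16516 := d12_1 D18823 F29325 (iv F34308) (iv D15982) (iv F28044)
theorem F34328 : act 5 n18823 = n16547 := d14_2 D15950 D18823 F34323 (iv D18822) (iv D15949)
def n18824 : Q := act 4 n15951
theorem D18824 : act 4 n15951 = n18824 := rfl
theorem F34329 : act 0 n18824 = n15959 := d3_1 D18824 (iv D15959) (iv F28045)
theorem F34330 : act 1 n18824 = n16366 := d7_1 D18824 (iv D16366) (iv F28046)
theorem F34331 : act 2 n18824 = n16547 := d10_1 D18824 F34323 F34321
theorem F34332 : act 3 n18824 = n16185 := d12_1 D18824 (iv D16185) F22295 (iv F21901) (iv F28047)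
theorem F34333 : act 5 n18824 = n15952 := d14_2 D15951 D18824 (iv D15952) (iv D12926) D12925
def n18825 : Q := act 4 n15953
theorem D18825 : act 4 n15953 = n18825 := rfl
theorem F34334 : act 0 n18825 = n15982 := d3_1 D18825 (iv D15982) (iv F28051)
theorem F34335 : act 1 n18825 = n15956 := d7_1 D18825 (iv D15956) (iv F28052)
theorem F34336 : act 2 n18825 = n15977 := d10_1 D18825 (iv D15977) (iv F28053)
theorem F34337 : act 3 n18053 = n18825 := d2_0 F34334 F34308 D18053
def n18826 : Q := act 3 n15954
theorem D18826 : act 3 n15954 = n18826 := rfl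
theorem F34338 : act 0 n18826 = n16516 := d2_1 D18826 (iv F34327) F34324
theorem F34339 : act 1 n18826 = n15957 := d6_1 D18826 (iv D15957) (iv F28055)
theorem F34340 : act 4 n18826 = n18053 := d12_2 D15954 D18826 F34337 (iv D18825) (iv D15953)
def n18827 : Q := act 5 n15954
theorem D18827 : act 5 n15954 = n18827 := rfl
theorem F34341 : act 0 n18827 = n16547 := d4_1 D18827 (iv F34328) F34324
theorem F34342 : act 1 n18827 = n15958 := d8_1 D18827 (iv D15958) (iv F28055)
theorem F34343 : act 2 n18827 = n15959 := d11_1 D18827 F28063 (iv F28056)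
theorem F34344 : act 4 n18827 = n15958 := d14_1 D18827 (iv D15958) (iv D12929) F21884 D15954
def n18828 : Q := act 1 n15955
theorem D18828 : act 1 n15955 = n18828 := rfl
theorem F34345 : act 0 n18828 = n16021 := d0_1 D18828 F28240 F22006 (iv F21933) (iv F28057)
theorem F34346 : act 2 n18828 = n15975 := d5_2 D15955 D18828 F28110 (iv F28053) F28052
theorem F34347 : act 3 n18828 = n15976 := d6_2 (iv F28058) D18828 F28112
theorem F34348 : act 5 n18828 = n15975 := d8_2 (iv F28059) D18828 F28110
def n18829 : Q := act 4 n15955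
theorem D18829 : act 4 n15955 = n18829 := rfl
theorem F34349 : act 0 n18829 = n15984 := d3_1 D18829 (iv D15984) (iv F28057)
theorem F34350 : act 2 n18829 = n15956 := d10_1 D18829 (iv D15956) D15955
theorem F34351 : act 3 n18829 = n17917 := d12_1 D18829 (iv D17917) F25733 (iv F21926) (iv F28058)
def n18830 : Q := act 3 n15956
theorem D18830 : act 3 n15956 = n18830 := rfl
theorem F34352 : act 0 n18830 = n16538 := d2_1 D18830 (iv F34317) F34314
theorem F34353 : act 1 n18830 = n18053 := d6_1 D18830 F34337 F34335
theorem F34354 : act 4 n18830 = n15957 := d12_2 D15956 D18830 (iv D15957) (iv D12929) D12928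
def n18831 : Q := act 5 n15956
theorem D18831 : act 5 n15956 = n18831 := rfl
theorem F34355 : act 0 n18831 = n18060 := d4_1 D18831 F34318 F34314
def n18832 : Q := act 2 n15957
theorem D18832 : act 2 n15957 = n18832 := rfl
theorem F34356 : act 0 n18832 = n16132 := d1_1 D18832 F28499 F28884
theorem F34357 : act 3 n18832 = n16144 := d15_1 D18832 F28521 F22229 (iv F21900) (iv F28047) (iv F34321) F34322 F29382 F28884
theorem F34358 : act 5 n16143 = n18832 := d13_0 F34357 (iv D16144) D16143
def n18833 : Q := act 5 n15957
theorem D18833 : act 5 n15957 = n18833 := rfl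
theorem F34359 : act 0 n18833 = n16546 := d4_1 D18833 F29382 F28884
theorem F34360 : act 2 n18833 = n16143 := d11_1 D18833 F34358 (iv D18832)
theorem F34361 : act 3 n18833 = n15958 := d13_1 D18833 (iv D15958) D15957
def n18834 : Q := act 1 n15960
theorem D18834 : act 1 n15960 = n18834 := rfl
theorem F34362 : act 0 n18834 = n16229 := d0_1 D18834 F28660 (iv F22438) F26279 (iv F28064)
theorem F34363 : act 2 n18834 = n16208 := d5_2 D15960 D18834 F28635 F22309 (iv F21891)
theorem F34364 : act 3 n18834 = n16228 := d6_2 F28097 D18834 F28657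
theorem F34365 : act 4 n18834 = n15962 := d7_2 (iv F28065) D18834 (iv D15962)
def n18835 : Q := act 0 n15962
theorem D18835 : act 0 n15962 = n18835 := rfl
theorem F34366 : act 1 n18835 = n16231 := d0_2 D15962 D18835 F28667 (iv D13300) (iv F21896)
theorem F34367 : act 2 n18835 = n16205 := d1_2 (iv F28070) D18835 F28633
theorem F34368 : act 3 n18835 = n15973 := d2_2 (iv F28071) D18835 (iv D15973)
theorem F34369 : act 4 n18835 = n16229 := d3_2 F34365 D18835 (iv F34362)
theorem F34370 : act 5 n18835 = n15973 := d4_2 (iv F28072) D18835 (iv D15973)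
def n18836 : Q := act 5 n15963
theorem D18836 : act 5 n15963 = n18836 := rfl
theorem F34371 : act 1 n18836 = n15966 := d8_1 D18836 (iv D15966) (iv F28073)
theorem F34372 : act 2 n18836 = n16137 := d11_1 D18836 (iv D16137) F28086
theorem F34373 : act 3 n18836 = n15964 := d13_1 D18836 (iv D15964) D15963
def n18837 : Q := act 3 n15965
theorem D18837 : act 3 n15965 = n18837 := rfl
theorem F34374 : act 0 n18837 = n16143 := d2_1 D18837 (iv D16143) (iv F28078)
theorem F34375 : act 1 n18837 = n16134 := d6_1 D18837 F28505 (iv F28087)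
theorem F34376 : act 2 n18837 = n16546 := d9_1 D18837 (iv F34322) F34321 F28047 F21900 (iv F22229) (iv F28521) (iv F34357) (iv D18832) (iv D15957) F21885 F16865 (iv F16881) D12937 D15965
theorem F34377 : act 5 n18837 = n16132 := d15_8 (iv D18832) (iv D15957) F21885 F16865 (iv F16881) D12937 D15965 D18837 (iv F34356)
def n18838 : Q := act 5 n15965
theorem D18838 : act 5 n15965 = n18838 := rfl
theorem F34378 : act 0 n18838 = n16144 := d4_1 D18838 (iv D16144) (iv F28078)
theorem F34379 : act 1 n18838 = n16133 := d8_1 D18838 F28502 (iv F28087)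
theorem F34380 : act 2 n18838 = n15966 := d11_1 D18838 (iv D15966) D15965
theorem F34381 : act 3 n18838 = n16132 := d13_1 D18838 (iv F34377) (iv D18837)
def n18839 : Q := act 4 n15966
theorem D18839 : act 4 n15966 = n18839 := rfl
theorem F34382 : act 0 n18839 = n16145 := d3_1 D18839 (iv D16145) (iv F28080)
theorem F34383 : act 3 n18839 = n16196 := d12_1 D18839 (iv D16196) F22303 (iv F21908) (iv F28081)
theorem F34384 : act 5 n18839 = n16138 := d14_2 D15966 D18839 (iv D16138) (iv D13084) (iv F21905)
def n18840 : Q := act 3 n15971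
theorem D18840 : act 3 n15971 = n18840 := rfl
theorem F34385 : act 0 n18840 = n16226 := d2_1 D18840 (iv F28665) F28662
theorem F34386 : act 1 n18840 = n15972 := d6_1 D18840 (iv D15972) D15971
theorem F34387 : act 4 n18840 = n16228 := d12_2 (iv F28100) D18840 (iv F34364) F34365 F28071
theorem F34388 : act 5 n18840 = n18834 := d13_2 (iv F28659) D18840 F34364
def n18841 : Q := act 3 n15974
theorem D18841 : act 3 n15974 = n18841 := rfl
theorem F34389 : act 0 n18841 = n15975 := d2_1 D18841 (iv D15975) D15974
theorem F34390 : act 1 n18841 = n15978 := d6_1 D18841 (iv D15978) (iv F28106)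
theorem F34391 : act 2 n18841 = n16021 := d9_1 D18841 (iv D16021) F22004 D13258 (iv F28155) F28156 (iv F28113) (iv F34347) F34346 (iv D15975) F21921 D12990 (iv F22020) F22016 (iv F28107)
theorem F34392 : act 5 n18841 = n16021 := d13_2 F28109 D18841 (iv D16021)
def n18842 : Q := act 4 n15975
theorem D18842 : act 4 n15975 = n18842 := rfl
theorem F34393 : act 1 n18842 = n15977 := d7_1 D18842 (iv D15977) (iv F28110)
theorem F34394 : act 3 n18842 = n16189 := d12_1 D18842 (iv D16189) (iv D13124) (iv F21922) D15975
def n18843 : Q := act 5 n15977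
theorem D18843 : act 5 n15977 = n18843 := rfl
theorem F34395 : act 0 n18843 = n15983 := d4_1 D18843 (iv D15983) (iv F28115)
theorem F34396 : act 3 n18843 = n16190 := d13_1 D18843 (iv D16190) (iv F28116)
def n18844 : Q := act 4 n15978
theorem D18844 : act 4 n15978 = n18844 := rfl
theorem F34397 : act 0 n18844 = n15980 := d3_1 D18844 (iv D15980) (iv F28117)
theorem F34398 : act 2 n18844 = n16013 := d10_1 D18844 (iv D16013) (iv F28119)
theorem F34399 : act 3 n18844 = n16212 := d12_1 D18844 (iv D16212) (iv D13139) (iv F21928) D15978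
def n18845 : Q := act 1 n15979
theorem D18845 : act 1 n15979 = n18845 := rfl
theorem F34400 : act 0 n18845 = n16024 := d0_1 D18845 (iv D16024) (iv F28206) F28207 (iv F28120)
theorem F34401 : act 2 n18845 = n15981 := d5_2 D15979 D18845 (iv D15981) (iv D12951) (iv F21930)
theorem F34402 : act 3 n18845 = n16008 := d6_2 (iv F28122) D18845 (iv D16008)
theorem F34403 : act 5 n18845 = n16024 := d8_2 (iv F28121) D18845 (iv D16024)
theorem F34404 : act 4 n18048 = n18845 := d14_5 F34403 (iv F28247) (iv D15030) (iv F26031) D18048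
def n18846 : Q := act 4 n15979
theorem D18846 : act 4 n15979 = n18846 := rfl
theorem F34405 : act 0 n18846 = n16013 := d3_1 D18846 (iv D16013) (iv F28120)
theorem F34406 : act 1 n18846 = n18048 := d7_1 D18846 F34404 (iv D18845)
theorem F34407 : act 2 n18846 = n15980 := d10_1 D18846 (iv D15980) D15979
theorem F34408 : act 3 n18846 = n18046 := d12_1 D18846 F32522 F26092 (iv F21979) (iv F28122)
theorem F34409 : act 5 n18846 = n18045 := d14_2 (iv F28121) D18846 F32520 F28251 (iv D16025)
def n18847 : Q := act 5 n15980
theorem D18847 : act 5 n15980 = n18847 := rfl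
theorem F34410 : act 1 n18847 = n15983 := d8_1 D18847 (iv D15983) (iv F28123)
theorem F34411 : act 2 n18847 = n18045 := d11_1 D18847 (iv F34409) F34407
theorem F34412 : act 3 n18847 = n16216 := d13_1 D18847 (iv D16216) (iv F28124)
theorem F34413 : act 4 n18847 = n16026 := d14_1 D18847 (iv D16026) (iv D12987) (iv F21931) D15980
def n18848 : Q := act 5 n15982
theorem D18848 : act 5 n15982 = n18848 := rfl
theorem F34414 : act 1 n18848 = n18047 := d8_1 D18848 (iv F32526) (iv F34307)
theorem F34415 : act 2 n18848 = n15983 := d11_1 D18848 (iv D15983) (iv F28125)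
theorem F34416 : act 3 n18848 = n18055 := d13_1 D18848 (iv D18055) (iv F34308)
theorem F34417 : act 4 n18848 = n18060 := d14_1 D18848 F34318 (iv D18821) (iv F28039) D15982
def n18849 : Q := act 4 n15983
theorem D18849 : act 4 n15983 = n18849 := rfl
theorem F34418 : act 1 n18849 = n16026 := d7_1 D18849 (iv F34413) F34410
theorem F34419 : act 2 n18849 = n18060 := d10_1 D18849 (iv F34417) F34415
theorem F34420 : act 3 n18849 = n17942 := d12_1 D18849 (iv D17942) (iv F28578) F28579 (iv F28126)
theorem F34421 : act 5 n18849 = n15984 := d14_2 D15983 D18849 (iv D15984) (iv D12953) D12952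
def n18850 : Q := act 2 n15985
theorem D18850 : act 2 n15985 = n18850 := rfl
theorem F34422 : act 1 n18850 = n17689 := d5_1 D18850 (iv D17689) F28173 (iv D16001) (iv F28129)
theorem F34423 : act 4 n18850 = n15987 := d10_2 (iv F28130) D18850 (iv D15987)
def n18851 : Q := act 5 n15985
theorem D18851 : act 5 n15985 = n18851 := rfl
theorem F34424 : act 1 n18851 = n16002 := d8_1 D18851 (iv D16002) (iv F28129)
theorem F34425 : act 3 n18851 = n15986 := d13_1 D18851 (iv D15986) D15985
theorem F34426 : act 4 n18851 = n16606 := d14_1 D18851 F29481 F22971 (iv F21938) (iv F28130)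
def n18852 : Q := act 1 n15987
theorem D18852 : act 1 n15987 = n18852 := rfl
theorem F34427 : act 2 n18852 = n16003 := d5_2 D15987 D18852 (iv D16003) (iv D12969) (iv F21937)
theorem F34428 : act 4 n18852 = n17689 := d7_2 F34423 D18852 (iv F34422)
theorem F34429 : act 5 n18852 = n16608 := d8_2 (iv F28134) D18852 (iv D16608)
def n18853 : Q := act 3 n15987
theorem D18853 : act 3 n15987 = n18853 := rfl
theorem F34430 : act 0 n18853 = n16092 := d2_1 D18853 (iv F28792) F28791
theorem F34431 : act 2 n18853 = n16087 := d9_1 D18853 F28407 F22135 F17096 (iv F17741) D13508 (iv F28413) (iv D16091) (iv D13045) (iv D10233) F13102 (iv F12940) (iv F16924) D12955 D15987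
theorem F34432 : act 5 n18853 = n16086 := d13_2 (iv F28134) D18853 F28405
def n18854 : Q := act 2 n15988
theorem D18854 : act 2 n15988 = n18854 := rfl
theorem F34433 : act 0 n18854 = n18850 := d1_1 D18854 (iv D18850) (iv F28135)
theorem F34434 : act 4 n18854 = n16299 := d10_2 (iv F28137) D18854 (iv D16299)
def n18855 : Q := act 5 n15988
theorem D18855 : act 5 n15988 = n18855 := rfl
theorem F34435 : act 0 n18855 = n18851 := d4_1 D18855 (iv D18851) (iv F28135)
theorem F34436 : act 1 n18855 = n18686 := d8_1 D18855 F34059 (iv F28136)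
theorem F34437 : act 3 n18855 = n15989 := d13_1 D18855 (iv D15989) D15988
def n18856 : Q := act 4 n15990
theorem D18856 : act 4 n15990 = n18856 := rfl
theorem F34438 : act 0 n18856 = n16338 := d3_1 D18856 (iv D16338) (iv F28142)
theorem F34439 : act 1 n18856 = n15992 := d7_1 D18856 (iv D15992) (iv F28143)
theorem F34440 : act 2 n18856 = n16338 := d10_1 D18856 (iv D16338) F28145
def n18857 : Q := act 3 n15991
theorem D18857 : act 3 n15991 = n18857 := rfl
theorem F34441 : act 0 n18857 = n16375 := d2_1 D18857 (iv D16375) (iv F28146)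
theorem F34442 : act 1 n18857 = n15993 := d6_1 D18857 (iv D15993) (iv F28147)
theorem F34443 : act 5 n18857 = n17989 := d13_2 (iv F28149) D18857 (iv D17989)
def n18858 : Q := act 3 n15992
theorem D18858 : act 3 n15992 = n18858 := rfl
theorem F34444 : act 0 n18858 = n15996 := d2_1 D18858 (iv D15996) (iv F28150)
theorem F34445 : act 4 n18858 = n15993 := d12_2 D15992 D18858 (iv D15993) (iv D12960) D12959
theorem F34446 : act 5 n17681 = n18858 := d14_0 F34445 F28153 F31739 (iv D17682) D17681
theorem F34447 : act 2 n18858 = n17683 := d11_1 F34446 (iv D17683) (iv F31734)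
def n18859 : Q := act 5 n15992
theorem D18859 : act 5 n15992 = n18859 := rfl
theorem F34448 : act 0 n18859 = n15997 := d4_1 D18859 (iv D15997) (iv F28150)
theorem F34449 : act 2 n18859 = n16044 := d11_1 D18859 F28305 (iv F28151)
theorem F34450 : act 3 n18859 = n17681 := d13_1 D18859 F34446 (iv D18858)
theorem F34451 : act 4 n18859 = n16041 := d14_1 D18859 (iv D16041) (iv D13000) (iv F21948) D15992
def n18860 : Q := act 2 n15993
theorem D18860 : act 2 n15993 = n18860 := rfl
theorem F34452 : act 0 n18860 = n15998 := d1_1 D18860 (iv D15998) (iv F28152)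
theorem F34453 : act 3 n18860 = n16005 := d9_2 D15993 D18860 F28184 F21973 F16960 F12976 (iv F15410) D11884 D14958 (iv F28167) (iv D15999) (iv D12964) F16948 (iv F16935) (iv F21950)
theorem F34454 : act 4 n18860 = n17683 := d10_2 F34445 D18860 (iv F34447)
theorem F34455 : act 5 n18860 = n16004 := d11_2 (iv F28153) D18860 F28183
theorem F34456 : act 1 n17688 = n18860 := d8_3 F34455 F28181 (iv F31752)
def n18861 : Q := act 4 n15994
theorem D18861 : act 4 n15994 = n18861 := rfl
theorem F34457 : act 0 n18861 = n16330 := d3_1 D18861 (iv D16330) (iv F28154)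
theorem F34458 : act 1 n18861 = n15995 := d7_1 D18861 (iv D15995) D15994
theorem F34459 : act 2 n18861 = n16330 := d10_1 D18861 (iv D16330) (iv F28155)
def n18862 : Q := act 3 n15995
theorem D18862 : act 3 n15995 = n18862 := rfl
theorem F34460 : act 0 n18862 = n16045 := d2_1 D18862 (iv D16045) (iv F28158)
theorem F34461 : act 4 n18862 = n16034 := d12_2 D15995 D18862 (iv D16034) (iv D12995) (iv F21953)
theorem F34462 : act 2 n17820 = n18862 := d10_3 F34461 F28277 D17820
def n18863 : Q := act 5 n15995
theorem D18863 : act 5 n15995 = n18863 := rfl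
theorem F34463 : act 0 n18863 = n16044 := d4_1 D18863 F28305 (iv F28158)
theorem F34464 : act 2 n18863 = n15997 := d11_1 D18863 (iv D15997) (iv F28159)
theorem F34465 : act 4 n18863 = n16033 := d14_1 D18863 (iv D16033) (iv D12993) (iv F21954) D15995
def n18864 : Q := act 2 n15996
theorem D18864 : act 2 n15996 = n18864 := rfl
theorem F34466 : act 0 n18864 = n17683 := d1_1 D18864 (iv F34447) F34444
theorem F34467 : act 4 n18864 = n15998 := d10_2 (iv F28161) D18864 (iv D15998)
theorem F34468 : act 5 n17677 = n18864 := d14_0 F34467 F28164 F31728 (iv D17678) D17677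
def n18865 : Q := act 5 n15996
theorem D18865 : act 5 n15996 = n18865 := rfl
theorem F34469 : act 0 n18865 = n17681 := d4_1 D18865 F34446 F34444
theorem F34470 : act 1 n18865 = n16394 := d8_1 D18865 F29068 (iv F28160)
theorem F34471 : act 2 n18865 = n17677 := d11_1 D18865 F34468 (iv D18864)
theorem F34472 : act 3 n18865 = n15997 := d13_1 D18865 (iv D15997) D15996
theorem F34473 : act 4 n18865 = n17676 := d14_1 D18865 (iv F31722) F25877 (iv F21957) (iv F28161)
def n18866 : Q := act 1 n15998
theorem D18866 : act 1 n15998 = n18866 := rfl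
theorem F34474 : act 2 n18866 = n16401 := d5_2 D15998 D18866 (iv D16401) (iv D13341) (iv F21956)
theorem F34475 : act 5 n18866 = n17990 := d8_2 (iv F28164) D18866 (iv D17990)
def n18867 : Q := act 3 n15998
theorem D18867 : act 3 n15998 = n18867 := rfl
theorem F34476 : act 0 n18867 = n16005 := d2_1 D18867 (iv F34453) F34452
theorem F34477 : act 2 n18867 = n16000 := d9_1 D18867 F28169 F21961 F16951 (iv F19992) D14955 (iv F28183) (iv D16004) (iv D12969) (iv D10171) F12974 (iv F12961) (iv F16945) D12963 D15998
theorem F34478 : act 5 n18867 = n15999 := d13_2 (iv F28164) D18867 F28167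
def n18868 : Q := act 1 n15999
theorem D18868 : act 1 n15999 = n18868 := rfl
theorem F34479 : act 3 n18868 = n17990 := d6_2 (iv F28167) D18868 (iv D17990)
theorem F34480 : act 4 n18868 = n16064 := d7_2 (iv F28166) D18868 (iv D16064)
def n18869 : Q := act 4 n16000
theorem D18869 : act 4 n16000 = n18869 := rfl
theorem F34481 : act 0 n18869 = n16006 := d3_1 D18869 (iv D16006) (iv F28168)
theorem F34482 : act 3 n18869 = n16591 := d12_1 D18869 (iv D16591) F22960 (iv F21962) (iv F28169)
theorem F34483 : act 5 n18869 = n16067 := d14_2 D16000 D18869 (iv D16067) (iv D13025) (iv F21959)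
def n18870 : Q := act 4 n16002
theorem D18870 : act 4 n16002 = n18870 := rfl
theorem F34484 : act 0 n18870 = n16067 := d3_1 D18870 (iv D16067) (iv F28175)
theorem F34485 : act 1 n18870 = n16606 := d7_1 D18870 (iv F34426) F34424
theorem F34486 : act 2 n18870 = n17844 := d10_1 D18870 (iv D17844) (iv F28176)
theorem F34487 : act 3 n18870 = n16600 := d12_1 D18870 (iv D16600) (iv F27840) F27841 (iv F28177)
theorem F34488 : act 5 n18870 = n16006 := d14_2 D16002 D18870 (iv D16006) (iv D12970) (iv F21969)
def n18871 : Q := act 5 n16003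
theorem D18871 : act 5 n16003 = n18871 := rfl
theorem F34489 : act 1 n18871 = n16005 := d8_1 D18871 (iv D16005) D16003
theorem F34490 : act 2 n18871 = n16608 := d11_1 D18871 (iv F34429) F34427
theorem F34491 : act 3 n18871 = n17688 := d13_1 D18871 F31752 F28179
def n18872 : Q := act 4 n16005
theorem D18872 : act 4 n16005 = n18872 := rfl
theorem F34492 : act 2 n18872 = n16006 := d10_1 D18872 (iv D16006) (iv F28184)
theorem F34493 : act 5 n18872 = n17844 := d14_2 D16005 D18872 (iv D17844) F28174 F28171
def n18873 : Q := act 4 n16011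
theorem D18873 : act 4 n16011 = n18873 := rfl
theorem F34494 : act 0 n18873 = n16025 := d3_1 D18873 (iv D16025) (iv F28206)
theorem F34495 : act 1 n18873 = n16013 := d7_1 D18873 (iv D16013) (iv F28207)
theorem F34496 : act 2 n18873 = n16022 := d10_1 D18873 (iv D16022) (iv F28208)
theorem F34497 : act 3 n18873 = n18059 := d12_1 D18873 F32540 F28213 (iv D16012) D16011
theorem F34498 : act 5 n18058 = n18873 := d13_0 F34497 (iv D18059) D18058
def n18874 : Q := act 3 n16013
theorem D18874 : act 3 n16013 = n18874 := rfl
theorem F34499 : act 0 n18874 = n18046 := d2_1 D18874 (iv F34408) F34405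
theorem F34500 : act 1 n18874 = n18059 := d6_1 D18874 (iv F34497) F34495
theorem F34501 : act 4 n18874 = n16014 := d12_2 D16013 D18874 (iv D16014) (iv D12976) D12975
theorem F34502 : act 5 n18044 = n18874 := d14_0 F34501 F28217 F26086 (iv F26037) (iv F32518)
def n18875 : Q := act 5 n16013
theorem D18875 : act 5 n16013 = n18875 := rfl
theorem F34503 : act 0 n18875 = n18045 := d4_1 D18875 (iv F34409) F34405
theorem F34504 : act 1 n18875 = n18058 := d8_1 D18875 F34498 F34495
theorem F34505 : act 3 n18875 = n18044 := d13_1 D18875 F34502 (iv D18874)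
theorem F34506 : act 4 n18875 = n18058 := d14_1 D18875 F34498 (iv D18873) F28209 D16013
def n18876 : Q := act 2 n16017
theorem D18876 : act 2 n16017 = n18876 := rfl
theorem F34507 : act 0 n18876 = n16557 := d1_1 D18876 F29395 (iv F28228)
theorem F34508 : act 4 n18876 = n16018 := d10_2 (iv F28230) D18876 (iv D16018)
theorem F34509 : act 5 n18876 = n17218 := d11_2 (iv F28231) D18876 F30741
theorem F34510 : act 3 n18876 = n17794 := d15_1 D18876 (iv D17794) (iv D14761) F19685 D11971 (iv F26106) (iv F29391) F29392 (iv F28228)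
def n18877 : Q := act 1 n16018
theorem D18877 : act 1 n16018 = n18877 := rfl
theorem F34511 : act 2 n18877 = n16020 := d5_2 D16018 D18877 (iv D16020) (iv D12982) (iv F21992)
theorem F34512 : act 5 n18877 = n16301 := d8_2 (iv F28233) D18877 (iv D16301)
def n18878 : Q := act 3 n16018
theorem D18878 : act 3 n16018 = n18878 := rfl
theorem F34513 : act 0 n18878 = n16328 := d2_1 D18878 F28896 (iv F28232)
theorem F34514 : act 2 n18878 = n16327 := d9_1 D18878 (iv D16327) (iv D13255) (iv D10399) F13358 D8192 D10571 D13473 (iv F28256) (iv D16027) (iv D12988) (iv D10186) (iv F16979) D12979 D16018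
theorem F34515 : act 5 n18878 = n16302 := d13_2 (iv F28233) D18878 (iv D16302)
def n18879 : Q := act 1 n16019
theorem D18879 : act 1 n16019 = n18879 := rfl
theorem F34516 : act 3 n18879 = n16317 := d6_2 (iv F28235) D18879 F28853
theorem F34517 : act 4 n18879 = n16020 := d7_2 (iv F28236) D18879 (iv D16020)
theorem F34518 : act 5 n18879 = n16316 := d8_2 (iv F28237) D18879 F28851
def n18880 : Q := act 0 n16020
theorem D18880 : act 0 n16020 = n18880 := rfl
theorem F34519 : act 1 n18880 = n16311 := d0_2 D16020 D18880 (iv D16311) (iv D13237) (iv F22001)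
theorem F34520 : act 3 n18880 = n16303 := d2_2 (iv F28238) D18880 (iv D16303)
theorem F34521 : act 5 n18880 = n16303 := d4_2 (iv F28239) D18880 (iv D16303)
def n18881 : Q := act 4 n16021
theorem D18881 : act 4 n16021 = n18881 := rfl
theorem F34522 : act 1 n18881 = n16022 := d7_1 D18881 (iv D16022) (iv F28240)
theorem F34523 : act 3 n18881 = n18122 := d12_1 D18881 (iv D18122) (iv D15134) (iv F22005) D16021
def n18882 : Q := act 5 n16022
theorem D18882 : act 5 n16022 = n18882 := rfl
theorem F34524 : act 0 n18882 = n16026 := d4_1 D18882 (iv D16026) (iv F28241)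
theorem F34525 : act 2 n18882 = n18058 := d11_1 D18882 F34498 F34496
theorem F34526 : act 3 n18882 = n18123 := d13_1 D18882 (iv D18123) (iv F28242)
def n18883 : Q := act 1 n16023
theorem D18883 : act 1 n16023 = n18883 := rfl
theorem F34527 : act 0 n18883 = n16436 := d0_1 D18883 (iv D16436) F22718 (iv F22012) (iv F28243)
theorem F34528 : act 2 n18883 = n16337 := d5_2 D16023 D18883 (iv D16337) (iv D13263) (iv F22008)
theorem F34529 : act 4 n18883 = n16221 := d7_2 (iv F28244) D18883 (iv D16221)
theorem F34530 : act 5 n18883 = n16326 := d8_2 (iv F28245) D18883 (iv D16326)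
def n18884 : Q := act 3 n16023
theorem D18884 : act 3 n16023 = n18884 := rfl
theorem F34531 : act 0 n18884 = n16027 := d2_1 D18884 (iv D16027) (iv F28243)
theorem F34532 : act 2 n18884 = n16302 := d9_1 D18884 (iv D16302) (iv D13222) (iv D10371) F13301 D8056 D10400 D13256 D16328 F28896 F22905 F17693 (iv F16991) D12985 D16023
theorem F34533 : act 5 n18884 = n16327 := d13_2 (iv F28245) D18884 (iv D16327)
def n18885 : Q := act 4 n16027
theorem D18885 : act 4 n16027 = n18885 := rfl
theorem F34534 : act 1 n18885 = n16439 := d7_1 D18885 (iv D16439) (iv F28254)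
theorem F34535 : act 2 n18885 = n16556 := d10_1 D18885 (iv D16556) (iv F28256)
theorem F34536 : act 3 n18885 = n16224 := d12_1 D18885 (iv D16224) (iv D13146) (iv F22013) D16027
def n18886 : Q := act 3 n16028
theorem D18886 : act 3 n16028 = n18886 := rfl
theorem F34537 : act 0 n18886 = n16030 := d2_1 D18886 (iv D16030) (iv F28257)
theorem F34538 : act 1 n18886 = n16035 := d6_1 D18886 (iv D16035) (iv F28258)
theorem F34539 : act 4 n18886 = n16386 := d12_2 D16028 D18886 (iv D16386) (iv D13330) F22016
theorem F34540 : act 5 n18886 = n17853 := d13_2 F28260 D18886 (iv D17853)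
def n18887 : Q := act 3 n16029
theorem D18887 : act 3 n16029 = n18887 := rfl
theorem F34541 : act 0 n18887 = n16386 := d2_1 D18887 (iv D16386) (iv F28261)
theorem F34542 : act 1 n18887 = n16032 := d6_1 D18887 (iv D16032) (iv F28262)
theorem F34543 : act 4 n18887 = n16030 := d12_2 D16029 D18887 (iv D16030) (iv D12991) D12990
def n18888 : Q := act 5 n16029
theorem D18888 : act 5 n16029 = n18888 := rfl
theorem F34544 : act 0 n18888 = n16387 := d4_1 D18888 (iv D16387) (iv F28261)
theorem F34545 : act 1 n18888 = n16033 := d8_1 D18888 (iv D16033) (iv F28262)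
theorem F34546 : act 2 n18888 = n16387 := d11_1 D18888 (iv D16387) (iv F28263)
def n18889 : Q := act 2 n16030
theorem D18889 : act 2 n16030 = n18889 := rfl
theorem F34547 : act 1 n18889 = n17846 := d5_1 D18889 (iv D17846) F25626 (iv F22030) (iv F28264)
theorem F34548 : act 5 n18889 = n17854 := d11_2 (iv F28265) D18889 (iv D17854)
def n18890 : Q := act 3 n16031
theorem D18890 : act 3 n16031 = n18890 := rfl
theorem F34549 : act 0 n18890 = n16331 := d2_1 D18890 (iv D16331) (iv F28266)
theorem F34550 : act 1 n18890 = n16034 := d6_1 D18890 (iv D16034) (iv F28267)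
theorem F34551 : act 5 n18890 = n17833 := d13_2 (iv F28269) D18890 (iv D17833)
def n18891 : Q := act 5 n16032
theorem D18891 : act 5 n16032 = n18891 := rfl
theorem F34552 : act 0 n18891 = n16043 := d4_1 D18891 (iv D16043) (iv F28270)
theorem F34553 : act 2 n18891 = n17848 := d11_1 D18891 (iv D17848) F28272
theorem F34554 : act 3 n18891 = n16033 := d13_1 D18891 (iv D16033) D16032
theorem F34555 : act 4 n18891 = n17856 := d14_1 D18891 (iv D17856) (iv D14829) (iv F22029) (iv F28271)
def n18892 : Q := act 2 n16035
theorem D18892 : act 2 n16035 = n18892 := rfl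
theorem F34556 : act 0 n18892 = n16038 := d1_1 D18892 (iv D16038) (iv F28278)
theorem F34557 : act 4 n18892 = n16388 := d10_2 (iv F28279) D18892 (iv D16388)
theorem F34558 : act 5 n18892 = n17859 := d11_2 (iv F28280) D18892 (iv D17859)
theorem F34559 : act 3 n18892 = n16151 := d15_1 D18892 (iv D16151) (iv D13094) F17177 F13168 (iv F15270) D11779 (iv F22041) (iv F28278)
def n18893 : Q := act 2 n16036
theorem D18893 : act 2 n16036 = n18893 := rfl
theorem F34560 : act 0 n18893 = n16388 := d1_1 D18893 (iv D16388) (iv F28281)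
theorem F34561 : act 4 n18893 = n16038 := d10_2 (iv F28283) D18893 (iv D16038)
def n18894 : Q := act 5 n16036
theorem D18894 : act 5 n16036 = n18894 := rfl
theorem F34562 : act 0 n18894 = n16389 := d4_1 D18894 (iv D16389) (iv F28281)
theorem F34563 : act 1 n18894 = n16043 := d8_1 D18894 (iv D16043) (iv F28282)
theorem F34564 : act 3 n18894 = n16037 := d13_1 D18894 (iv D16037) D16036
theorem F34565 : act 4 n18894 = n17864 := d14_1 D18894 (iv D17864) (iv D14837) (iv F22041) (iv F28283)
def n18895 : Q := act 1 n16038
theorem D18895 : act 1 n16038 = n18895 := rfl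
theorem F34566 : act 2 n18895 = n16046 := d5_2 D16038 D18895 (iv D16046) (iv D13004) (iv F22040)
theorem F34567 : act 5 n18895 = n17861 := d8_2 (iv F28288) D18895 (iv D17861)
def n18896 : Q := act 3 n16038
theorem D18896 : act 3 n16038 = n18896 := rfl
theorem F34568 : act 0 n18896 = n16151 := d2_1 D18896 (iv F34559) F34556
theorem F34569 : act 5 n18896 = n17862 := d13_2 (iv F28288) D18896 (iv D17862)
theorem F34570 : act 2 n18896 = n16150 := d15_2 D16038 D18896 (iv D16150) F22231 F17178 (iv F19839) D14835 (iv F28280) F28278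
def n18897 : Q := act 5 n16039
theorem D18897 : act 5 n16039 = n18897 := rfl
theorem F34571 : act 0 n18897 = n16372 := d4_1 D18897 (iv D16372) (iv F28289)
theorem F34572 : act 1 n18897 = n16041 := d8_1 D18897 (iv D16041) (iv F28290)
theorem F34573 : act 2 n18897 = n16372 := d11_1 D18897 (iv D16372) (iv F28291)
theorem F34574 : act 3 n18897 = n17840 := d13_1 D18897 (iv D17840) (iv F28292)
def n18898 : Q := act 5 n16040
theorem D18898 : act 5 n16040 = n18898 := rfl
theorem F34575 : act 0 n18898 = n16384 := d4_1 D18898 (iv D16384) (iv F28293)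
theorem F34576 : act 1 n18898 = n17840 := d8_1 D18898 (iv D17840) (iv F28294)
theorem F34577 : act 2 n18898 = n17842 := d11_1 D18898 (iv D17842) F28296
theorem F34578 : act 3 n18898 = n16041 := d13_1 D18898 (iv D16041) D16040
theorem F34579 : act 4 n18898 = n17680 := d14_1 D18898 F31733 (iv D14954) (iv F22656) (iv F28295)
def n18899 : Q := act 5 n16042
theorem D18899 : act 5 n16042 = n18899 := rfl
theorem F34580 : act 0 n18899 = n17848 := d4_1 D18899 (iv D17848) (iv F28299)
theorem F34581 : act 2 n18899 = n16043 := d11_1 D18899 (iv D16043) D16042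
theorem F34582 : act 3 n18899 = n18674 := d13_1 D18899 (iv D18674) F28301
theorem F34583 : act 4 n18899 = n17868 := d14_1 D18899 (iv D17868) (iv D14839) (iv F22050) (iv F28300)
def n18900 : Q := act 3 n16044
theorem D18900 : act 3 n16044 = n18900 := rfl
theorem F34584 : act 1 n18900 = n16342 := d6_1 D18900 F28925 (iv F28304)
theorem F34585 : act 4 n18900 = n17837 := d12_2 D16044 D18900 F32093 (iv F28303) F28302
theorem F34586 : act 5 n18900 = n16045 := d13_2 (iv F28305) D18900 (iv D16045)
def n18901 : Q := act 2 n16045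
theorem D18901 : act 2 n16045 = n18901 := rfl
theorem F34587 : act 0 n18901 = n17820 := d1_1 D18901 F34462 F34460
theorem F34588 : act 4 n18901 = n16047 := d10_2 (iv F28307) D18901 (iv D16047)
def n18902 : Q := act 1 n16047
theorem D18902 : act 1 n16047 = n18902 := rfl
theorem F34589 : act 2 n18902 = n16343 := d5_2 D16047 D18902 (iv D16343) (iv D13268) (iv F22052)
theorem F34590 : act 3 n18902 = n17812 := d6_2 (iv F28312) D18902 (iv D17812)
theorem F34591 : act 5 n18902 = n17835 := d8_2 (iv F28311) D18902 (iv D17835)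
def n18903 : Q := act 1 n16048
theorem D18903 : act 1 n16048 = n18903 := rfl
theorem F34592 : act 0 n18903 = n16129 := d0_1 D18903 (iv D16129) F22204 (iv F22058) (iv F28313)
theorem F34593 : act 2 n18903 = n16221 := d5_2 D16048 D18903 (iv D16221) (iv D13145) (iv F22055)
theorem F34594 : act 4 n18903 = n16337 := d7_2 (iv F28314) D18903 (iv D16337)
theorem F34595 : act 5 n18903 = n16139 := d8_2 (iv F28315) D18903 F28514
theorem F34596 : act 3 n16217 = n18903 := d2_0 F34592 F28491 D16217
def n18904 : Q := act 3 n16048
theorem D18904 : act 3 n16048 = n18904 := rfl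
theorem F34597 : act 0 n18904 = n16049 := d2_1 D18904 (iv D16049) (iv F28313)
theorem F34598 : act 1 n18904 = n16217 := d6_1 D18904 F34596 (iv D18903)
theorem F34599 : act 2 n18904 = n17862 := d9_1 D18904 (iv D17862) (iv D14836) (iv D11779) F15270 (iv F13168) (iv F17177) D13094 D16151 (iv F34559) (iv D18892) (iv D16035) F22035 D13006 D16048
theorem F34600 : act 4 n18904 = n16434 := d12_2 (iv F28314) D18904 (iv D16434) (iv D13364) (iv F22549)
theorem F34601 : act 5 n18904 = n16150 := d13_2 (iv F28315) D18904 (iv D16150)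
def n18905 : Q := act 2 n16049
theorem D18905 : act 2 n16049 = n18905 := rfl
theorem F34602 : act 0 n18905 = n17862 := d1_1 D18905 (iv F34599) F34597
theorem F34603 : act 1 n18905 = n16188 := d5_1 D18905 (iv D16188) F22298 (iv F22219) (iv F28316)
theorem F34604 : act 3 n18905 = n17859 := d9_2 D16049 D18905 (iv D17859) (iv D14835) F19839 (iv F17178) (iv F22231) D16150 (iv F34570) (iv D18896) (iv D16038) (iv D12998) F17015 D10201 D13007
theorem F34605 : act 5 n18905 = n16151 := d11_2 (iv F28317) D18905 (iv D16151)
def n18906 : Q := act 4 n16049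
theorem D18906 : act 4 n16049 = n18906 := rfl
theorem F34606 : act 0 n18906 = n16434 := d3_1 D18906 (iv F34600) F34597
theorem F34607 : act 1 n18906 = n16136 := d7_1 D18906 (iv D16136) (iv F28316)
theorem F34608 : act 3 n18906 = n16347 := d12_1 D18906 (iv D16347) (iv D13270) (iv F22059) D16049
def n18907 : Q := act 3 n16051
theorem D18907 : act 3 n16051 = n18907 := rfl
theorem F34609 : act 0 n18907 = n16052 := d2_1 D18907 (iv D16052) D16051
theorem F34610 : act 1 n18907 = n17865 := d6_1 D18907 (iv F33824) F33823
theorem F34611 : act 5 n18907 = n17845 := d13_2 (iv F28322) D18907 (iv D17845)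
def n18908 : Q := act 2 n16052
theorem D18908 : act 2 n16052 = n18908 := rfl
theorem F34612 : act 1 n18908 = n17854 := d5_1 D18908 (iv D17854) F25643 (iv F22067) (iv F28323)
theorem F34613 : act 5 n18908 = n17846 := d11_2 (iv F28324) D18908 (iv D17846)
def n18909 : Q := act 4 n16052
theorem D18909 : act 4 n16052 = n18909 := rfl
theorem F34614 : act 1 n18909 = n16053 := d7_1 D18909 (iv D16053) (iv F28323)
def n18910 : Q := act 5 n16053
theorem D18910 : act 5 n16053 = n18910 := rfl
theorem F34615 : act 0 n18910 = n17868 := d4_1 D18910 (iv D17868) (iv F28325)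
theorem F34616 : act 2 n18910 = n17856 := d11_1 D18910 (iv D17856) (iv F28326)
theorem F34617 : act 4 n18910 = n17848 := d14_1 D18910 (iv D17848) (iv D14821) (iv F22068) D16053
def n18911 : Q := act 0 n16054
theorem D18911 : act 0 n16054 = n18911 := rfl
theorem F34618 : act 1 n18911 = n18099 := d0_2 D16054 D18911 F32642 F26300 (iv F22072)
theorem F34619 : act 2 n18911 = n16055 := d1_2 (iv F28327) D18911 (iv D16055)
theorem F34620 : act 3 n18911 = n18098 := d2_2 (iv F28328) D18911 F32639
theorem F34621 : act 4 n18911 = n18419 := d3_2 F28679 D18911 F33376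
theorem F34622 : act 5 n18911 = n18097 := d4_2 (iv F28329) D18911 F32636
def n18912 : Q := act 3 n16055
theorem D18912 : act 3 n16055 = n18912 := rfl
theorem F34623 : act 0 n18912 = n16056 := d2_1 D18912 (iv D16056) D16055
theorem F34624 : act 1 n18912 = n16060 := d6_1 D18912 (iv F28717) F28716
theorem F34625 : act 2 n16475 = n18912 := d5_0 F34624 F28341 F22796 D15084 (iv F29236)
theorem F34626 : act 5 n16058 = n18912 := d8_0 F34624 (iv D16060) (iv F28336)
def n18913 : Q := act 5 n16055
theorem D18913 : act 5 n16055 = n18913 := rfl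
theorem F34627 : act 0 n18913 = n16057 := d4_1 D18913 (iv D16057) D16055
theorem F34628 : act 1 n18913 = n16059 := d8_1 D18913 (iv F28719) F28716
theorem F34629 : act 2 n18913 = n18097 := d11_1 D18913 (iv F34622) F34619
theorem F34630 : act 3 n18913 = n16058 := d13_1 D18913 F34626 (iv D18912)
theorem F34631 : act 4 n18913 = n18114 := d14_1 D18913 F32667 F27047 (iv F28686) F28685
def n18914 : Q := act 4 n16059
theorem D18914 : act 4 n16059 = n18914 := rfl
theorem F34632 : act 0 n18914 = n16062 := d3_1 D18914 (iv D16062) (iv F28339)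
theorem F34633 : act 1 n18914 = n18114 := d7_1 D18914 (iv F34631) F34628
theorem F34634 : act 2 n18914 = n17828 := d10_1 D18914 (iv F33555) F33554
theorem F34635 : act 3 n18914 = n18114 := d12_1 D18914 (iv F34631) F34630 F28338 D16059
theorem F34636 : act 5 n18914 = n18420 := d14_2 F28719 D18914 F33380 (iv D16256) (iv F28718)
def n18915 : Q := act 4 n16060
theorem D18915 : act 4 n16060 = n18915 := rfl
theorem F34637 : act 0 n18915 = n16063 := d3_1 D18915 (iv D16063) (iv F28340)
theorem F34638 : act 2 n18915 = n16482 := d10_1 D18915 (iv D16482) (iv F28341)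
def n18916 : Q := act 0 n16064
theorem D18916 : act 0 n16064 = n18916 := rfl
theorem F34639 : act 1 n18916 = n17675 := d0_2 D16064 D18916 F31717 F28173 F28170
theorem F34640 : act 3 n17673 = n18916 := d6_0 F34639 (iv D17675) (iv F31710)
def n18917 : Q := act 3 n16064
theorem D18917 : act 3 n16064 = n18917 := rfl
theorem F34641 : act 0 n18917 = n17673 := d2_1 D18917 F34640 (iv D18916)
theorem F34642 : act 1 n18917 = n16065 := d6_1 D18917 (iv D16065) D16064
theorem F34643 : act 4 n18917 = n17670 := d12_2 F34480 D18917 F31705 (iv F32383) (iv F34479)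
theorem F34644 : act 2 n18669 = n18917 := d10_3 F34643 F31704 (iv F34012)
theorem F34645 : act 5 n17843 = n18917 := d14_0 F34643 (iv D17670) F25159 (iv F30160) (iv F32112)
def n18918 : Q := act 5 n16064
theorem D18918 : act 5 n16064 = n18918 := rfl
theorem F34646 : act 1 n18918 = n16066 := d8_1 D18918 (iv D16066) D16064
theorem F34647 : act 3 n18918 = n17843 := d13_1 D18918 F34645 (iv D18917)
def n18919 : Q := act 4 n16066
theorem D18919 : act 4 n16066 = n18919 := rfl
theorem F34648 : act 0 n18919 = n17844 := d3_1 D18919 (iv D17844) (iv F28352)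
theorem F34649 : act 2 n18919 = n16067 := d10_1 D18919 (iv D16067) (iv F28353)
def n18920 : Q := act 0 n16068
theorem D18920 : act 0 n16068 = n18920 := rfl
theorem F34650 : act 1 n18920 = n16069 := d0_2 D16068 D18920 (iv D16069) (iv D13028) (iv F22097)
theorem F34651 : act 2 n18920 = n16139 := d1_2 (iv F28355) D18920 (iv D16139)
theorem F34652 : act 3 n18920 = n18748 := d2_2 (iv F28356) D18920 (iv D18748)
theorem F34653 : act 4 n18920 = n16260 := d3_2 (iv F28357) D18920 (iv D16260)
theorem F34654 : act 5 n18920 = n16221 := d4_2 (iv F28358) D18920 F28645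
def n18921 : Q := act 3 n16069
theorem D18921 : act 3 n16069 = n18921 := rfl
theorem F34655 : act 0 n18921 = n16070 := d2_1 D18921 (iv D16070) D16069
theorem F34656 : act 1 n18921 = n18748 := d6_1 D18921 (iv F34652) F34650
theorem F34657 : act 5 n18921 = n16222 := d13_2 (iv F28361) D18921 (iv D16222)
theorem F34658 : act 2 n18921 = n16214 := d15_2 (iv F28359) D18921 (iv D16214) (iv D13140) (iv D10307) F13212 D7979 (iv F17065) D13030
def n18922 : Q := act 2 n16070
theorem D18922 : act 2 n16070 = n18922 := rfl
theorem F34659 : act 0 n18922 = n16214 := d1_1 D18922 (iv F34658) F34655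
theorem F34660 : act 1 n18922 = n18727 := d5_1 D18922 (iv D18727) F27888 (iv F22106) (iv F28362)
theorem F34661 : act 5 n18922 = n16223 := d11_2 (iv F28363) D18922 (iv D16223)
theorem F34662 : act 3 n18922 = n16211 := d15_1 D18922 (iv D16211) (iv D13139) F17228 D10310 D13145 D16222 (iv F34657) F34655
def n18923 : Q := act 4 n16070
theorem D18923 : act 4 n16070 = n18923 := rfl
theorem F34663 : act 1 n18923 = n16071 := d7_1 D18923 (iv D16071) (iv F28362)
theorem F34664 : act 3 n18923 = n16265 := d12_1 D18923 (iv D16265) (iv D13184) (iv F22102) D16070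
def n18924 : Q := act 5 n16071
theorem D18924 : act 5 n16071 = n18924 := rfl
theorem F34665 : act 0 n18924 = n18750 := d4_1 D18924 (iv D18750) (iv F28364)
theorem F34666 : act 2 n18924 = n18729 := d11_1 D18924 (iv D18729) (iv F28365)
theorem F34667 : act 3 n18924 = n16268 := d13_1 D18924 (iv D16268) (iv F28366)
theorem F34668 : act 4 n18924 = n16504 := d14_1 D18924 (iv D16504) (iv D13428) (iv F22105) D16071
def n18925 : Q := act 2 n16074
theorem D18925 : act 2 n16074 = n18925 := rfl
theorem F34669 : act 0 n18925 = n16078 := d1_1 D18925 (iv D16078) (iv F28374)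
theorem F34670 : act 4 n18925 = n16075 := d10_2 (iv F28376) D18925 (iv D16075)
def n18926 : Q := act 2 n16077
theorem D18926 : act 2 n16077 = n18926 := rfl
theorem F34671 : act 0 n18926 = n18700 := d1_1 D18926 (iv D18700) (iv F28383)
theorem F34672 : act 4 n18926 = n18687 := d10_2 (iv F28385) D18926 (iv D18687)
def n18927 : Q := act 1 n16078
theorem D18927 : act 1 n16078 = n18927 := rfl
theorem F34673 : act 2 n18927 = n16226 := d5_2 D16078 D18927 (iv D16226) (iv D13151) (iv F22124)
theorem F34674 : act 4 n18927 = n16080 := d7_2 (iv F28386) D18927 (iv D16080)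
def n18928 : Q := act 3 n16078
theorem D18928 : act 3 n16078 = n18928 := rfl
def n18929 : Q := act 5 n16078
theorem D18929 : act 5 n16078 = n18929 := rfl
theorem F34675 : act 2 n18929 = n16079 := d11_1 D18929 (iv D16079) D16078
def n18930 : Q := act 4 n16079
theorem D18930 : act 4 n16079 = n18930 := rfl
theorem F34676 : act 1 n18930 = n16227 := d7_1 D18930 (iv D16227) (iv F28387)
theorem F34677 : act 3 n18930 = n16246 := d12_1 D18930 (iv D16246) F22354 (iv F22127) (iv F28388)
theorem F34678 : act 5 n18930 = n16083 := d14_2 D16079 D18930 (iv D16083) (iv D13039) (iv F22125)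
def n18931 : Q := act 3 n16080
theorem D18931 : act 3 n16080 = n18931 := rfl
theorem F34679 : act 1 n18931 = n16081 := d6_1 D18931 (iv D16081) D16080
theorem F34680 : act 5 n18931 = n16491 := d13_2 (iv F28624) D18931 F29273
def n18932 : Q := act 4 n16081
theorem D18932 : act 4 n16081 = n18932 := rfl
theorem F34681 : act 0 n18932 = n16501 := d3_1 D18932 (iv D16501) (iv F28390)
theorem F34682 : act 2 n18932 = n16492 := d10_1 D18932 (iv D16492) (iv F28391)
def n18933 : Q := act 5 n16084
theorem D18933 : act 5 n16084 = n18933 := rfl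
theorem F34683 : act 0 n18933 = n16137 := d4_1 D18933 (iv D16137) (iv F28398)
theorem F34684 : act 1 n18933 = n16087 := d8_1 D18933 (iv D16087) (iv F28399)
theorem F34685 : act 3 n18933 = n16085 := d13_1 D18933 (iv D16085) D16084
def n18934 : Q := act 1 n16088
theorem D18934 : act 1 n16088 = n18934 := rfl
theorem F34686 : act 0 n18934 = n16090 := d0_1 D18934 (iv D16090) (iv F28404) (iv F28454) F28453
theorem F34687 : act 2 n18934 = n16142 := d5_2 D16088 D18934 (iv D16142) (iv D13087) (iv F22137)
theorem F34688 : act 4 n18934 = n16090 := d7_2 (iv F28408) D18934 (iv D16090)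
def n18935 : Q := act 3 n16088
theorem D18935 : act 3 n16088 = n18935 := rfl
theorem F34689 : act 0 n18935 = n16608 := d2_1 D18935 F29483 F28453
def n18936 : Q := act 5 n16088
theorem D18936 : act 5 n16088 = n18936 := rfl
theorem F34690 : act 2 n18936 = n16089 := d11_1 D18936 (iv D16089) D16088
def n18937 : Q := act 4 n16089
theorem D18937 : act 4 n16089 = n18937 := rfl
theorem F34691 : act 1 n18937 = n16145 := d7_1 D18937 (iv D16145) (iv F28409)
theorem F34692 : act 3 n18937 = n16115 := d12_1 D18937 (iv D16115) F22179 (iv F22140) (iv F28410)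
theorem F34693 : act 5 n18937 = n16093 := d14_2 D16089 D18937 (iv D16093) (iv D13046) (iv F22138)
def n18938 : Q := act 3 n16090
theorem D18938 : act 3 n16090 = n18938 := rfl
theorem F34694 : act 1 n18938 = n16091 := d6_1 D18938 (iv D16091) D16090
def n18939 : Q := act 5 n16090
theorem D18939 : act 5 n16090 = n18939 := rfl
theorem F34695 : act 1 n18939 = n16092 := d8_1 D18939 (iv D16092) D16090
theorem F34696 : act 2 n18939 = n16147 := d11_1 D18939 (iv D16147) (iv F28411)
def n18940 : Q := act 4 n16091
theorem D18940 : act 4 n16091 = n18940 := rfl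
theorem F34697 : act 0 n18940 = n16607 := d3_1 D18940 F29482 (iv F28412)
theorem F34698 : act 2 n18940 = n16582 := d10_1 D18940 F29446 (iv F28413)
def n18941 : Q := act 4 n16092
theorem D18941 : act 4 n16092 = n18941 := rfl
theorem F34699 : act 2 n18941 = n16093 := d10_1 D18941 (iv D16093) (iv F28414)
def n18942 : Q := act 2 n16094
theorem D18942 : act 2 n16094 = n18942 := rfl
theorem F34700 : act 0 n18942 = n16098 := d1_1 D18942 (iv D16098) (iv F28417)
theorem F34701 : act 4 n18942 = n16191 := d10_2 (iv F28419) D18942 (iv D16191)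
def n18943 : Q := act 5 n16096
theorem D18943 : act 5 n16096 = n18943 := rfl
theorem F34702 : act 0 n18943 = n16192 := d4_1 D18943 (iv D16192) (iv F28424)
theorem F34703 : act 1 n18943 = n16099 := d8_1 D18943 (iv D16099) (iv F28425)
theorem F34704 : act 2 n18943 = n18857 := d11_1 D18943 F34443 F32380
theorem F34705 : act 3 n18943 = n16097 := d13_1 D18943 (iv D16097) D16096
def n18944 : Q := act 1 n16100
theorem D18944 : act 1 n16100 = n18944 := rfl
theorem F34706 : act 4 n18944 = n16193 := d7_2 (iv F28433) D18944 (iv D16193)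
def n18945 : Q := act 3 n16100
theorem D18945 : act 3 n16100 = n18945 := rfl
theorem F34707 : act 0 n18945 = n16105 := d2_1 D18945 (iv D16105) (iv F28432)
theorem F34708 : act 2 n18945 = n16124 := d15_2 D16100 D18945 F28475 F22190 F17142 (iv F17124) (iv F22169) (iv D13058) (iv F22156)
theorem F34709 : act 5 n16122 = n18945 := d11_0 F34708 (iv D16124) D16122
def n18946 : Q := act 5 n16100
theorem D18946 : act 5 n16100 = n18946 := rfl
theorem F34710 : act 0 n18946 = n16106 := d4_1 D18946 (iv D16106) (iv F28432)
theorem F34711 : act 2 n18946 = n16101 := d11_1 D18946 (iv D16101) D16100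
theorem F34712 : act 3 n18946 = n16122 := d13_1 D18946 F34709 (iv D18945)
def n18947 : Q := act 4 n16101
theorem D18947 : act 4 n16101 = n18947 := rfl
theorem F34713 : act 0 n18947 = n16107 := d3_1 D18947 (iv D16107) (iv F28434)
theorem F34714 : act 3 n18947 = n16138 := d12_1 D18947 (iv D16138) F22224 (iv F22160) (iv F28435)
theorem F34715 : act 5 n18947 = n16196 := d14_2 D16101 D18947 (iv D16196) (iv D13129) (iv F22157)
def n18948 : Q := act 1 n16102
theorem D18948 : act 1 n16102 = n18948 := rfl
theorem F34716 : act 2 n18948 = n16112 := d5_2 D16102 D18948 (iv D16112) (iv D13062) (iv F22162)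
theorem F34717 : act 4 n18948 = n16104 := d7_2 (iv F28437) D18948 (iv D16104)
def n18949 : Q := act 3 n16102
theorem D18949 : act 3 n16102 = n18949 := rfl
theorem F34718 : act 0 n18949 = n16194 := d2_1 D18949 (iv D16194) (iv F28436)
theorem F34719 : act 2 n18949 = n16202 := d9_1 D18949 F28629 F22305 F17226 (iv F17224) (iv F22303) (iv F28621) (iv F29231) F29230 F28586 (iv D13119) (iv D10291) (iv F17121) D13055 D16102
theorem F34720 : act 5 n18949 = n16200 := d15_8 F29230 F28586 (iv D13119) (iv D10291) (iv F17121) D13055 D16102 D18949 (iv F29233)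
def n18950 : Q := act 5 n16102
theorem D18950 : act 5 n16102 = n18950 := rfl
theorem F34721 : act 0 n18950 = n16195 := d4_1 D18950 (iv D16195) (iv F28436)
theorem F34722 : act 2 n18950 = n16103 := d11_1 D18950 (iv D16103) D16102
theorem F34723 : act 3 n18950 = n16200 := d13_1 D18950 (iv F34720) (iv D18949)
def n18951 : Q := act 4 n16103
theorem D18951 : act 4 n16103 = n18951 := rfl
theorem F34724 : act 0 n18951 = n16196 := d3_1 D18951 (iv D16196) (iv F28438)
theorem F34725 : act 1 n18951 = n16115 := d7_1 D18951 (iv D16115) (iv F28439)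
theorem F34726 : act 3 n18951 = n16145 := d12_1 D18951 (iv D16145) F22229 (iv F22167) (iv F28440)
theorem F34727 : act 5 n18951 = n16107 := d14_2 D16103 D18951 (iv D16107) (iv D13058) (iv F22163)
def n18952 : Q := act 0 n16104
theorem D18952 : act 0 n16104 = n18952 := rfl
theorem F34728 : act 2 n18952 = n16116 := d1_2 (iv F28441) D18952 (iv D16116)
def n18953 : Q := act 3 n16104
theorem D18953 : act 3 n16104 = n18953 := rfl
theorem F34729 : act 1 n18953 = n16105 := d6_1 D18953 (iv D16105) D16104
def n18954 : Q := act 2 n16105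
theorem D18954 : act 2 n16105 = n18954 := rfl
theorem F34730 : act 0 n18954 = n16124 := d1_1 D18954 (iv F34708) F34707
theorem F34731 : act 3 n18954 = n16119 := d9_2 D16105 D18954 F28466 F22184 (iv F22159) (iv F28435) (iv F34711) F34712 (iv D16122) (iv D13069) (iv D10253) (iv D7933) (iv F13122) D10243 D13057
theorem F34732 : act 5 n16118 = n18954 := d13_0 F34731 (iv D16119) D16118
def n18955 : Q := act 4 n16105
theorem D18955 : act 4 n16105 = n18955 := rfl
def n18956 : Q := act 5 n16105
theorem D18956 : act 5 n16105 = n18956 := rfl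
theorem F34733 : act 0 n18956 = n16122 := d4_1 D18956 F34709 F34707
theorem F34734 : act 2 n18956 = n16118 := d11_1 D18956 F34732 (iv D18954)
theorem F34735 : act 3 n18956 = n16106 := d13_1 D18956 (iv D16106) D16105
def n18957 : Q := act 4 n16106
theorem D18957 : act 4 n16106 = n18957 := rfl
theorem F34736 : act 2 n18957 = n16107 := d10_1 D18957 (iv D16107) (iv F28442)
def n18958 : Q := act 5 n16108
theorem D18958 : act 5 n16108 = n18958 := rfl
theorem F34737 : act 0 n18958 = n18836 := d4_1 D18958 (iv D18836) (iv F28445)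
theorem F34738 : act 1 n18958 = n16111 := d8_1 D18958 (iv D16111) (iv F28446)
theorem F34739 : act 2 n18958 = n18933 := d11_1 D18958 (iv D18933) (iv F28448)
theorem F34740 : act 3 n18958 = n16109 := d13_1 D18958 (iv D16109) D16108
def n18959 : Q := act 5 n16110
theorem D18959 : act 5 n16110 = n18959 := rfl
theorem F34741 : act 0 n18959 = n18936 := d4_1 D18959 (iv D18936) (iv F28453)
theorem F34742 : act 1 n18959 = n18853 := d8_1 D18959 F34432 (iv F28454)
theorem F34743 : act 2 n18959 = n16111 := d11_1 D18959 (iv D16111) D16110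
theorem F34744 : act 3 n18959 = n18852 := d13_1 D18959 F34429 F29483
def n18960 : Q := act 4 n16111
theorem D18960 : act 4 n16111 = n18960 := rfl
theorem F34745 : act 0 n18960 = n18937 := d3_1 D18960 (iv D18937) (iv F28456)
theorem F34746 : act 3 n18960 = n17687 := d12_1 D18960 F31749 F28431 (iv F22177) (iv F28457)
theorem F34747 : act 5 n18960 = n17686 := d14_2 D16111 D18960 F31746 (iv D16087) (iv F22174)
def n18961 : Q := act 3 n16112
theorem D18961 : act 3 n16112 = n18961 := rfl
theorem F34748 : act 0 n18961 = n18868 := d2_1 D18961 F34479 F32382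
theorem F34749 : act 1 n18961 = n16113 := d6_1 D18961 (iv D16113) D16112
theorem F34750 : act 4 n18961 = n18916 := d12_2 (iv F28458) D18961 (iv F34640) (iv D17673) F25164
def n18962 : Q := act 5 n16112
theorem D18962 : act 5 n16112 = n18962 := rfl
theorem F34751 : act 0 n18962 = n18866 := d4_1 D18962 F34475 F32382
theorem F34752 : act 1 n18962 = n16114 := d8_1 D18962 (iv D16114) D16112
def n18963 : Q := act 2 n16113
theorem D18963 : act 2 n16113 = n18963 := rfl
theorem F34753 : act 0 n18963 = n18852 := d1_1 D18963 F34427 (iv F28459)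
theorem F34754 : act 3 n18963 = n18936 := d9_2 D16113 D18963 F34690 F28410 (iv F22155) (iv F28431) (iv F31751) (iv F34491) F34490 F29483 (iv D16110) (iv D13060) F17131 D10247 D13062
theorem F34755 : act 5 n18935 = n18963 := d13_0 F34754 (iv D18936) D18935
def n18964 : Q := act 5 n16113
theorem D18964 : act 5 n16113 = n18964 := rfl
theorem F34756 : act 0 n18964 = n18871 := d4_1 D18964 (iv D18871) (iv F28459)
theorem F34757 : act 2 n18964 = n18935 := d11_1 D18964 F34755 (iv D18963)
theorem F34758 : act 3 n18964 = n16114 := d13_1 D18964 (iv D16114) D16113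
def n18965 : Q := act 0 n16117
theorem D18965 : act 0 n16117 = n18965 := rfl
theorem F34759 : act 1 n18965 = n16120 := d0_2 D16117 D18965 (iv D16120) (iv D13068) (iv F22180)
theorem F34760 : act 2 n18965 = n16260 := d1_2 (iv F28462) D18965 (iv D16260)
theorem F34761 : act 4 n18965 = n16139 := d3_2 (iv F28463) D18965 (iv D16139)
theorem F34762 : act 5 n16295 = n18965 := d14_0 F34761 (iv F34595) F34594 F28917 (iv F28788)
def n18966 : Q := act 3 n16117
theorem D18966 : act 3 n16117 = n18966 := rfl
theorem F34763 : act 1 n18966 = n16118 := d6_1 D18966 (iv D16118) D16117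
def n18967 : Q := act 5 n16117
theorem D18967 : act 5 n16117 = n18967 := rfl
theorem F34764 : act 0 n18967 = n16295 := d4_1 D18967 F34762 (iv D18965)
theorem F34765 : act 1 n18967 = n16119 := d8_1 D18967 (iv D16119) D16117
theorem F34766 : act 2 n18967 = n16262 := d11_1 D18967 (iv D16262) (iv F28462)
theorem F34767 : act 4 n18967 = n16350 := d14_1 D18967 F28941 (iv F28492) F28493 (iv F28463)
def n18968 : Q := act 4 n16118
theorem D18968 : act 4 n16118 = n18968 := rfl
theorem F34768 : act 0 n18968 = n16123 := d3_1 D18968 (iv D16123) (iv F28464)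
theorem F34769 : act 3 n18968 = n16141 := d12_1 D18968 (iv D16141) (iv D13086) (iv F22181) D16118
def n18969 : Q := act 3 n16120
theorem D18969 : act 3 n16120 = n18969 := rfl
theorem F34770 : act 0 n18969 = n16121 := d2_1 D18969 (iv D16121) D16120
theorem F34771 : act 2 n18969 = n16285 := d9_1 D18969 (iv D16285) (iv D13206) (iv D10357) F13272 D8020 D10364 D13214 D16297 (iv F34044) F34043 F27809 F21548 (iv F22193) (iv F28468)
theorem F34772 : act 5 n18969 = n16296 := d13_2 (iv F28470) D18969 (iv D16296)
def n18970 : Q := act 4 n16121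
theorem D18970 : act 4 n16121 = n18970 := rfl
theorem F34773 : act 1 n18970 = n16123 := d7_1 D18970 (iv D16123) (iv F28471)
theorem F34774 : act 3 n18970 = n16152 := d12_1 D18970 (iv D16152) (iv D13094) (iv F22187) D16121
def n18971 : Q := act 1 n16122
theorem D18971 : act 1 n16122 = n18971 := rfl
def n18972 : Q := act 4 n16122
theorem D18972 : act 4 n16122 = n18972 := rfl
theorem F34775 : act 2 n18972 = n16123 := d10_1 D18972 (iv D16123) D16122
def n18973 : Q := act 5 n16123
theorem D18973 : act 5 n16123 = n18973 := rfl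
theorem F34776 : act 3 n18973 = n16155 := d13_1 D18973 (iv D16155) (iv F28473)
def n18974 : Q := act 4 n16124
theorem D18974 : act 4 n16124 = n18974 := rfl
theorem F34777 : act 1 n18974 = n16298 := d7_1 D18974 (iv D16298) (iv F28474)
theorem F34778 : act 3 n18974 = n16361 := d12_1 D18974 (iv D16361) (iv D13282) (iv F22191) (iv F28475)
def n18975 : Q := act 2 n16125
theorem D18975 : act 2 n16125 = n18975 := rfl
theorem F34779 : act 0 n18975 = n16512 := d1_1 D18975 (iv D16512) (iv F28476)
theorem F34780 : act 4 n18975 = n17897 := d10_2 (iv F28478) D18975 (iv D17897)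
def n18976 : Q := act 5 n16125
theorem D18976 : act 5 n16125 = n18976 := rfl
theorem F34781 : act 0 n18976 = n16511 := d4_1 D18976 F29313 (iv F28476)
theorem F34782 : act 1 n18976 = n16128 := d8_1 D18976 (iv D16128) (iv F28477)
theorem F34783 : act 3 n18976 = n16126 := d13_1 D18976 (iv D16126) D16125
def n18977 : Q := act 1 n16127
theorem D18977 : act 1 n16127 = n18977 := rfl
theorem F34784 : act 3 n18977 = n16147 := d6_2 (iv F28485) D18977 F28524
theorem F34785 : act 4 n18977 = n17899 := d7_2 (iv F28484) D18977 (iv D17899)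
theorem F34786 : act 5 n18977 = n16146 := d8_2 F28486 D18977 F28523
def n18978 : Q := act 4 n16128
theorem D18978 : act 4 n16128 = n18978 := rfl
theorem F34787 : act 0 n18978 = n16135 := d3_1 D18978 (iv D16135) (iv F28487)
theorem F34788 : act 2 n18978 = n16148 := d10_1 D18978 (iv D16148) (iv F28488)
theorem F34789 : act 3 n18978 = n16520 := d12_1 D18978 (iv D16520) F22868 (iv F22203) (iv F28489)
theorem F34790 : act 5 n18978 = n17902 := d14_2 D16128 D18978 (iv D17902) (iv D14869) (iv F22200)
def n18979 : Q := act 1 n16130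
theorem D18979 : act 1 n16130 = n18979 := rfl
theorem F34791 : act 2 n18979 = n16538 := d5_2 D16130 D18979 (iv D16538) (iv D13455) (iv F22209)
theorem F34792 : act 4 n18979 = n16132 := d7_2 (iv F28495) D18979 (iv D16132)
def n18980 : Q := act 3 n16130
theorem D18980 : act 3 n16130 = n18980 := rfl
theorem F34793 : act 0 n18980 = n17900 := d2_1 D18980 (iv D17900) (iv F28494)
theorem F34794 : act 2 n18980 = n17908 := d15_2 D16130 D18980 F32227 F25725 F19883 (iv F19880) (iv F25722) (iv D14869) (iv F22208)
theorem F34795 : act 5 n17906 = n18980 := d11_0 F34794 (iv D17908) D17906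
def n18981 : Q := act 5 n16130
theorem D18981 : act 5 n16130 = n18981 := rfl
theorem F34796 : act 0 n18981 = n17901 := d4_1 D18981 (iv D17901) (iv F28494)
theorem F34797 : act 2 n18981 = n16131 := d11_1 D18981 (iv D16131) D16130
theorem F34798 : act 3 n18981 = n17906 := d13_1 D18981 F34795 (iv D18980)
def n18982 : Q := act 4 n16131
theorem D18982 : act 4 n16131 = n18982 := rfl
theorem F34799 : act 0 n18982 = n17902 := d3_1 D18982 (iv D17902) (iv F28496)
theorem F34800 : act 1 n18982 = n16536 := d7_1 D18982 F29362 (iv F28497)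
theorem F34801 : act 3 n18982 = n16524 := d12_1 D18982 (iv D16524) F22871 (iv F22214) (iv F28498)
theorem F34802 : act 5 n18982 = n16135 := d14_2 D16131 D18982 (iv D16135) (iv D13079) (iv F22210)
def n18983 : Q := act 4 n16133
theorem D18983 : act 4 n16133 = n18983 := rfl
theorem F34803 : act 0 n18983 = n16149 := d3_1 D18983 (iv D16149) (iv F28500)
theorem F34804 : act 2 n18983 = n16138 := d10_1 D18983 (iv D16138) (iv F28501)
def n18984 : Q := act 4 n16134
theorem D18984 : act 4 n16134 = n18984 := rfl
theorem F34805 : act 0 n18984 = n16148 := d3_1 D18984 (iv D16148) (iv F28503)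
theorem F34806 : act 2 n18984 = n16135 := d10_1 D18984 (iv D16135) (iv F28504)
def n18985 : Q := act 5 n16136
theorem D18985 : act 5 n16136 = n18985 := rfl
theorem F34807 : act 0 n18985 = n16220 := d4_1 D18985 (iv D16220) (iv F28508)
theorem F34808 : act 2 n18985 = n16190 := d11_1 D18985 (iv D16190) (iv F28509)
theorem F34809 : act 3 n18985 = n16549 := d13_1 D18985 (iv D16549) (iv F28510)
theorem F34810 : act 4 n18985 = n16155 := d14_1 D18985 (iv D16155) (iv D13096) (iv F22218) D16136
def n18986 : Q := act 4 n16137
theorem D18986 : act 4 n16137 = n18986 := rfl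
theorem F34811 : act 1 n18986 = n16138 := d7_1 D18986 (iv D16138) (iv F28511)
def n18987 : Q := act 3 n16139
theorem D18987 : act 3 n16139 = n18987 := rfl
theorem F34812 : act 0 n18987 = n16140 := d2_1 D18987 (iv D16140) D16139
theorem F34813 : act 1 n18987 = n16150 := d6_1 D18987 (iv D16150) (iv F28514)
theorem F34814 : act 5 n18987 = n16217 := d13_2 F34595 D18987 F34596
def n18988 : Q := act 2 n16140
theorem D18988 : act 2 n16140 = n18988 := rfl
theorem F34815 : act 1 n18988 = n16175 := d5_1 D18988 (iv D16175) F22281 (iv F22226) (iv F28515)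
theorem F34816 : act 5 n18988 = n16213 := d11_2 (iv F28516) D18988 F28638
def n18989 : Q := act 4 n16140
theorem D18989 : act 4 n16140 = n18989 := rfl
theorem F34817 : act 1 n18989 = n16141 := d7_1 D18989 (iv D16141) (iv F28515)
def n18990 : Q := act 5 n16141
theorem D18990 : act 5 n16141 = n18990 := rfl
theorem F34818 : act 0 n18990 = n16155 := d4_1 D18990 (iv D16155) (iv F28517)
theorem F34819 : act 2 n18990 = n16177 := d11_1 D18990 (iv D16177) (iv F28518)
theorem F34820 : act 4 n18990 = n16220 := d14_1 D18990 (iv D16220) (iv D13143) (iv F22227) D16141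
def n18991 : Q := act 3 n16142
theorem D18991 : act 3 n16142 = n18991 := rfl
theorem F34821 : act 0 n18991 = n16146 := d2_1 D18991 (iv D16146) (iv F28519)
theorem F34822 : act 1 n18991 = n16143 := d6_1 D18991 (iv D16143) D16142
def n18992 : Q := act 5 n16142
theorem D18992 : act 5 n16142 = n18992 := rfl
theorem F34823 : act 0 n18992 = n16147 := d4_1 D18992 (iv D16147) (iv F28519)
theorem F34824 : act 1 n18992 = n16144 := d8_1 D18992 (iv D16144) D16142
def n18993 : Q := act 4 n16143
theorem D18993 : act 4 n16143 = n18993 := rfl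
theorem F34825 : act 3 n18993 = n16148 := d12_1 D18993 (iv D16148) (iv D13090) (iv F22228) D16143
def n18994 : Q := act 4 n16144
theorem D18994 : act 4 n16144 = n18994 := rfl
theorem F34826 : act 2 n18994 = n16145 := d10_1 D18994 (iv D16145) (iv F28521)
theorem F34827 : act 5 n18994 = n16149 := d14_2 D16144 D18994 (iv D16149) (iv D13091) (iv F22228)
def n18995 : Q := act 2 n16146
theorem D18995 : act 2 n16146 = n18995 := rfl
def n18996 : Q := act 4 n16146
theorem D18996 : act 4 n16146 = n18996 := rfl
theorem F34828 : act 1 n18996 = n16148 := d7_1 D18996 (iv D16148) (iv F28523)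
def n18997 : Q := act 4 n16147
theorem D18997 : act 4 n16147 = n18997 := rfl
theorem F34829 : act 1 n18997 = n16149 := d7_1 D18997 (iv D16149) (iv F28524)
def n18998 : Q := act 5 n16148
theorem D18998 : act 5 n16148 = n18998 := rfl
theorem F34830 : act 2 n18998 = n17902 := d11_1 D18998 (iv F34790) F34788
theorem F34831 : act 4 n18998 = n17901 := d14_1 D18998 (iv D17901) (iv F28484) (iv F28486) D16148
def n18999 : Q := act 3 n16149
theorem D18999 : act 3 n16149 = n18999 := rfl
theorem F34832 : act 4 n18999 = n17900 := d12_2 D16149 D18999 (iv D17900) (iv F28484) F28485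
def n19000 : Q := act 4 n16150
theorem D19000 : act 4 n16150 = n19000 := rfl
theorem F34833 : act 0 n19000 = n16152 := d3_1 D19000 (iv D16152) (iv F28526)
def n19001 : Q := act 1 n16151
theorem D19001 : act 1 n16151 = n19001 := rfl
theorem F34834 : act 2 n19001 = n16153 := d5_2 D16151 D19001 (iv D16153) (iv D13095) (iv F22232)
theorem F34835 : act 5 n19001 = n16188 := d8_2 F34605 D19001 (iv F34603)
def n19002 : Q := act 4 n16151
theorem D19002 : act 4 n16151 = n19002 := rfl
theorem F34836 : act 2 n19002 = n16152 := d10_1 D19002 (iv D16152) D16151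
def n19003 : Q := act 5 n16152
theorem D19003 : act 5 n16152 = n19003 := rfl
theorem F34837 : act 1 n19003 = n16155 := d8_1 D19003 (iv D16155) (iv F28527)
def n19004 : Q := act 0 n16153
theorem D19004 : act 0 n16153 = n19004 := rfl
theorem F34838 : act 1 n19004 = n16174 := d0_2 D16153 D19004 F28573 F22281 (iv F22233)
theorem F34839 : act 3 n19004 = n16162 := d2_2 (iv F28528) D19004 (iv D16162)
theorem F34840 : act 5 n19004 = n16187 := d4_2 (iv F28529) D19004 F28615
def n19005 : Q := act 4 n16153
theorem D19005 : act 4 n16153 = n19005 := rfl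
theorem F34841 : act 1 n19005 = n16154 := d7_1 D19005 (iv D16154) D16153
theorem F34842 : act 3 n19005 = n17935 := d12_1 D19005 (iv D17935) (iv D14899) (iv F22257) (iv F28528)
def n19006 : Q := act 5 n16154
theorem D19006 : act 5 n16154 = n19006 := rfl
theorem F34843 : act 0 n19006 = n16177 := d4_1 D19006 (iv D16177) (iv F28530)
theorem F34844 : act 2 n19006 = n16155 := d11_1 D19006 (iv D16155) (iv F28531)
theorem F34845 : act 3 n19006 = n17936 := d13_1 D19006 (iv D17936) (iv F28532)
theorem F34846 : act 4 n19006 = n16190 := d14_1 D19006 (iv D16190) (iv D13125) (iv F22235) D16154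
def n19007 : Q := act 1 n16156
theorem D19007 : act 1 n16156 = n19007 := rfl
theorem F34847 : act 2 n19007 = n16160 := d5_2 D16156 D19007 (iv D16160) (iv D13101) (iv F22237)
theorem F34848 : act 4 n19007 = n18024 := d7_2 (iv F28534) D19007 (iv D18024)
theorem F34849 : act 5 n16206 = n19007 := d11_0 F34847 F28544 D16206
def n19008 : Q := act 3 n16156
theorem D19008 : act 3 n16156 = n19008 := rfl
theorem F34850 : act 0 n19008 = n17885 := d2_1 D19008 (iv F32195) (iv F28533)
theorem F34851 : act 4 n19008 = n18026 := d12_2 (iv F28534) D19008 F32466 (iv D17289) (iv F25981)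
theorem F34852 : act 2 n17887 = n19008 := d15_0 (iv D19008) (iv D16156) (iv D13097) F17181 D11761 D14823 D17849 (iv F32121) D17887
def n19009 : Q := act 5 n16156
theorem D19009 : act 5 n16156 = n19009 := rfl
theorem F34853 : act 0 n19009 = n17884 := d4_1 D19009 F32192 (iv F28533)
theorem F34854 : act 1 n19009 = n16206 := d8_1 D19009 F34849 (iv D19007)
theorem F34855 : act 2 n19009 = n16157 := d11_1 D19009 (iv D16157) D16156
def n19010 : Q := act 4 n16157
theorem D19010 : act 4 n16157 = n19010 := rfl
theorem F34856 : act 0 n19010 = n17883 := d3_1 D19010 F32188 (iv F28535)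
theorem F34857 : act 1 n19010 = n16161 := d7_1 D19010 (iv D16161) (iv F28536)
theorem F34858 : act 3 n19010 = n17874 := d12_1 D19010 (iv D17874) F25672 (iv F22242) (iv F28537)
theorem F34859 : act 5 n19010 = n18025 := d14_2 D16157 D19010 (iv D18025) (iv D14998) (iv F22238)
def n19011 : Q := act 1 n16158
theorem D19011 : act 1 n16158 = n19011 := rfl
theorem F34860 : act 2 n19011 = n18024 := d5_2 D16158 D19011 (iv D18024) (iv D14997) (iv F22244)
theorem F34861 : act 4 n19011 = n16160 := d7_2 (iv F28539) D19011 (iv D16160)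
def n19012 : Q := act 3 n16158
theorem D19012 : act 3 n16158 = n19012 := rfl
theorem F34862 : act 0 n19012 = n16166 := d2_1 D19012 (iv D16166) (iv F28538)
theorem F34863 : act 4 n19012 = n16210 := d12_2 (iv F28539) D19012 (iv D16210) (iv D13138) (iv F22251)
def n19013 : Q := act 5 n16158
theorem D19013 : act 5 n16158 = n19013 := rfl
theorem F34864 : act 0 n19013 = n16167 := d4_1 D19013 (iv D16167) (iv F28538)
theorem F34865 : act 2 n19013 = n16159 := d11_1 D19013 (iv D16159) D16158
theorem F34866 : act 4 n19013 = n16209 := d14_1 D19013 (iv D16209) (iv D13137) F22252 (iv F28539)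
def n19014 : Q := act 4 n16159
theorem D19014 : act 4 n16159 = n19014 := rfl
theorem F34867 : act 0 n19014 = n16168 := d3_1 D19014 (iv D16168) (iv F28540)
theorem F34868 : act 1 n19014 = n18025 := d7_1 D19014 (iv D18025) (iv F28541)
theorem F34869 : act 2 n19014 = n16209 := d10_1 D19014 (iv F34866) F34865
theorem F34870 : act 3 n19014 = n17891 := d12_1 D19014 (iv D17891) F25708 (iv F22249) (iv F28542)
theorem F34871 : act 5 n19014 = n16161 := d14_2 D16159 D19014 (iv D16161) (iv D13102) (iv F22245)
def n19015 : Q := act 0 n16160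
theorem D19015 : act 0 n16160 = n19015 := rfl
theorem F34872 : act 1 n19015 = n16169 := d0_2 D16160 D19015 (iv D16169) (iv D13108) (iv F22250)
theorem F34873 : act 3 n19015 = n16205 := d2_2 (iv F28543) D19015 F28633
theorem F34874 : act 5 n19015 = n16204 := d4_2 (iv F28544) D19015 F28632
def n19016 : Q := act 1 n16163
theorem D19016 : act 1 n16163 = n19016 := rfl
theorem F34875 : act 2 n19016 = n18016 := d5_2 D16163 D19016 (iv D18016) (iv D14988) (iv F22260)
theorem F34876 : act 4 n19016 = n16518 := d7_2 (iv F28553) D19016 (iv D16518)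
def n19017 : Q := act 3 n16163
theorem D19017 : act 3 n16163 = n19017 := rfl
theorem F34877 : act 0 n19017 = n16522 := d2_1 D19017 (iv D16522) (iv F28552)
def n19018 : Q := act 5 n16163
theorem D19018 : act 5 n16163 = n19018 := rfl
theorem F34878 : act 0 n19018 = n16523 := d4_1 D19018 (iv D16523) (iv F28552)
theorem F34879 : act 2 n19018 = n16164 := d11_1 D19018 (iv D16164) D16163
def n19019 : Q := act 4 n16164
theorem D19019 : act 4 n16164 = n19019 := rfl
theorem F34880 : act 0 n19019 = n16524 := d3_1 D19019 (iv D16524) (iv F28554)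
theorem F34881 : act 1 n19019 = n18019 := d7_1 D19019 (iv D18019) (iv F28555)
theorem F34882 : act 3 n19019 = n17902 := d12_1 D19019 (iv D17902) F25722 (iv F22265) (iv F28556)
theorem F34883 : act 5 n19019 = n16520 := d14_2 D16164 D19019 (iv D16520) (iv D13443) (iv F22261)
def n19020 : Q := act 0 n16165
theorem D19020 : act 0 n16165 = n19020 := rfl
theorem F34884 : act 2 n19020 = n17925 := d1_2 (iv F28557) D19020 (iv D17925)
theorem F34885 : act 4 n19020 = n16169 := d3_2 (iv F28558) D19020 (iv D16169)
def n19021 : Q := act 3 n16165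
theorem D19021 : act 3 n16165 = n19021 := rfl
theorem F34886 : act 1 n19021 = n16166 := d6_1 D19021 (iv D16166) D16165
def n19022 : Q := act 5 n16165
theorem D19022 : act 5 n16165 = n19022 := rfl
theorem F34887 : act 1 n19022 = n16167 := d8_1 D19022 (iv D16167) D16165
theorem F34888 : act 2 n19022 = n17924 := d11_1 D19022 F32249 (iv F28557)
theorem F34889 : act 4 n19022 = n18367 := d14_1 D19022 F33276 F29288 (iv D16171) (iv F28558)
def n19023 : Q := act 2 n16166
theorem D19023 : act 2 n16166 = n19023 := rfl
theorem F34890 : act 3 n19023 = n16523 := d15_3 D13106 D16166 D19023 F29336 F22871 (iv F22248) (iv F28542) (iv D16159) F22243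
theorem F34891 : act 5 n16522 = n19023 := d13_0 F34890 (iv D16523) D16522
def n19024 : Q := act 4 n16166
theorem D19024 : act 4 n16166 = n19024 := rfl
theorem F34892 : act 0 n19024 = n16210 := d3_1 D19024 (iv F34863) F34862
theorem F34893 : act 3 n19024 = n16172 := d12_1 D19024 (iv D16172) (iv D13109) (iv F22266) D16166
def n19025 : Q := act 5 n16166
theorem D19025 : act 5 n16166 = n19025 := rfl
theorem F34894 : act 2 n19025 = n16522 := d11_1 D19025 F34891 (iv D19023)
theorem F34895 : act 3 n19025 = n16167 := d13_1 D19025 (iv D16167) D16166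
def n19026 : Q := act 4 n16167
theorem D19026 : act 4 n16167 = n19026 := rfl
theorem F34896 : act 0 n19026 = n16209 := d3_1 D19026 (iv F34866) F34864
theorem F34897 : act 1 n19026 = n18367 := d7_1 D19026 (iv F34889) F34887
theorem F34898 : act 2 n19026 = n16168 := d10_1 D19026 (iv D16168) (iv F28559)
theorem F34899 : act 5 n19026 = n16173 := d14_2 D16167 D19026 (iv D16173) (iv D13110) (iv F22266)
def n19027 : Q := act 3 n16169
theorem D19027 : act 3 n16169 = n19027 := rfl
theorem F34900 : act 0 n19027 = n16170 := d2_1 D19027 (iv D16170) D16169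
theorem F34901 : act 1 n19027 = n16205 := d6_1 D19027 (iv F34873) F34872
theorem F34902 : act 2 n19027 = n18930 := d15_2 (iv F28563) D19027 F34677 (iv F32680) F32681 F27023 (iv F25769) F25770 D14894
theorem F34903 : act 4 n18929 = n19027 := d10_0 F34902 (iv D18930) (iv F34675)
theorem F34904 : act 5 n16186 = n19027 := d11_0 F34902 F34678 (iv F28613)
def n19028 : Q := act 5 n16169
theorem D19028 : act 5 n16169 = n19028 := rfl
theorem F34905 : act 0 n19028 = n16171 := d4_1 D19028 (iv D16171) D16169
theorem F34906 : act 1 n19028 = n16204 := d8_1 D19028 (iv F34874) F34872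
theorem F34907 : act 2 n19028 = n17930 := d11_1 D19028 F32266 (iv F28563)
theorem F34908 : act 3 n19028 = n16186 := d13_1 D19028 F34904 (iv D19027)
def n19029 : Q := act 2 n16170
theorem D19029 : act 2 n16170 = n19029 := rfl
theorem F34909 : act 0 n19029 = n18930 := d1_1 D19029 (iv F34902) F34900
theorem F34910 : act 1 n19029 = n16182 := d5_1 D19029 F28600 F22290 (iv F22271) (iv F28564)
theorem F34911 : act 3 n19029 = n18116 := d9_2 D16170 D19029 F32672 (iv F32030) F32029 (iv F32265) (iv F34907) F34908 F28613 F28397 (iv F28715) F32271 (iv D17932) (iv D14895) (iv F22269)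
theorem F34912 : act 5 n19029 = n16180 := d11_2 F28565 D19029 F28593
theorem F34913 : act 4 n18120 = n19029 := d14_5 F34912 F28594 (iv D16076) (iv F28376) (iv F32686)
def n19030 : Q := act 4 n16170
theorem D19030 : act 4 n16170 = n19030 := rfl
theorem F34914 : act 0 n19030 = n18929 := d3_1 D19030 F34903 F34900
theorem F34915 : act 1 n19030 = n16172 := d7_1 D19030 (iv D16172) (iv F28564)
theorem F34916 : act 2 n19030 = n18120 := d10_1 D19030 F34913 (iv D19029)
theorem F34917 : act 5 n19030 = n18925 := d14_2 F28565 D19030 F34670 (iv F28379) F28587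
def n19031 : Q := act 5 n16172
theorem D19031 : act 5 n16172 = n19031 := rfl
theorem F34918 : act 0 n19031 = n16203 := d4_1 D19031 F28631 (iv F28569)
theorem F34919 : act 1 n19031 = n18925 := d8_1 D19031 (iv F34917) F34915
theorem F34920 : act 2 n19031 = n16185 := d11_1 D19031 F28611 (iv F28570)
theorem F34921 : act 4 n19031 = n16184 := d14_1 D19031 (iv D16184) F22293 (iv F22272) D16172
def n19032 : Q := act 2 n16174
theorem D19032 : act 2 n16174 = n19032 := rfl
theorem F34922 : act 0 n19032 = n16175 := d1_1 D19032 (iv D16175) (iv F28573)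
theorem F34923 : act 3 n19032 = n16223 := d9_2 D16174 D19032 (iv D16223) (iv D13146) (iv D10311) (iv D7979) (iv F13212) D10307 D13140 D16214 (iv F34658) (iv D18921) F28359 F22108 (iv F22278)
theorem F34924 : act 5 n19032 = n16211 := d11_2 (iv F28574) D19032 (iv D16211)
def n19033 : Q := act 3 n16175
theorem D19033 : act 3 n16175 = n19033 := rfl
theorem F34925 : act 0 n19033 = n16223 := d2_1 D19033 (iv F34923) F34922
theorem F34926 : act 2 n19033 = n16222 := d9_1 D19033 (iv D16222) (iv D13145) (iv D10310) (iv F17228) D13139 D16211 (iv F34662) (iv D18922) (iv D16070) F22101 F17063 (iv F17201) D13113 D16175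
theorem F34927 : act 5 n19033 = n16214 := d13_2 (iv F28575) D19033 (iv D16214)
def n19034 : Q := act 4 n16175
theorem D19034 : act 4 n16175 = n19034 := rfl
theorem F34928 : act 2 n19034 = n16176 := d10_1 D19034 (iv D16176) D16175
def n19035 : Q := act 5 n16176
theorem D19035 : act 5 n16176 = n19035 := rfl
theorem F34929 : act 1 n19035 = n16177 := d8_1 D19035 (iv D16177) (iv F28576)
theorem F34930 : act 3 n19035 = n17937 := d13_1 D19035 (iv D17937) (iv F28577)
theorem F34931 : act 4 n19035 = n16216 := d14_1 D19035 (iv D16216) (iv D13141) (iv F22282) D16176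
def n19036 : Q := act 2 n16187
theorem D19036 : act 2 n16187 = n19036 := rfl
theorem F34932 : act 0 n19036 = n16188 := d1_1 D19036 (iv D16188) (iv F28615)
def n19037 : Q := act 4 n16187
theorem D19037 : act 4 n16187 = n19037 := rfl
theorem F34933 : act 0 n19037 = n16189 := d3_1 D19037 (iv D16189) (iv F28615)
theorem F34934 : act 1 n19037 = n16212 := d7_1 D19037 (iv D16212) (iv F28616)
def n19038 : Q := act 3 n16188
theorem D19038 : act 3 n16188 = n19038 := rfl
theorem F34935 : act 1 n19038 = n17859 := d6_1 D19038 (iv F34604) F34603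
def n19039 : Q := act 4 n16188
theorem D19039 : act 4 n16188 = n19039 := rfl
theorem F34936 : act 2 n19039 = n16189 := d10_1 D19039 (iv D16189) D16188
def n19040 : Q := act 5 n16189
theorem D19040 : act 5 n16189 = n19040 := rfl
theorem F34937 : act 1 n19040 = n16190 := d8_1 D19040 (iv D16190) (iv F28617)
def n19041 : Q := act 4 n16192
theorem D19041 : act 4 n16192 = n19041 := rfl
theorem F34938 : act 1 n19041 = n16196 := d7_1 D19041 (iv D16196) (iv F28619)
def n19042 : Q := act 4 n16194
theorem D19042 : act 4 n16194 = n19042 := rfl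
def n19043 : Q := act 4 n16195
theorem D19043 : act 4 n16195 = n19043 := rfl
theorem F34939 : act 2 n19043 = n16196 := d10_1 D19043 (iv D16196) (iv F28621)
def n19044 : Q := act 2 n16198
theorem D19044 : act 2 n16198 = n19044 := rfl
def n19045 : Q := act 4 n16198
theorem D19045 : act 4 n16198 = n19045 := rfl
theorem F34940 : act 1 n19045 = n16201 := d7_1 D19045 (iv D16201) (iv F28625)
theorem F34941 : act 3 n19045 = n16207 := d12_1 D19045 (iv D16207) (iv D13135) (iv F22304) D16198
def n19046 : Q := act 5 n16198
theorem D19046 : act 5 n16198 = n19046 := rfl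
theorem F34942 : act 0 n19046 = n18931 := d4_1 D19046 F34680 F29272
theorem F34943 : act 1 n19046 = n16202 := d8_1 D19046 (iv D16202) (iv F28625)
theorem F34944 : act 3 n19046 = n16199 := d13_1 D19046 (iv D16199) D16198
def n19047 : Q := act 4 n16199
theorem D19047 : act 4 n16199 = n19047 := rfl
theorem F34945 : act 0 n19047 = n18927 := d3_1 D19047 F34674 (iv F28626)
theorem F34946 : act 1 n19047 = n16203 := d7_1 D19047 (iv D16203) (iv F28627)
theorem F34947 : act 2 n19047 = n18840 := d10_1 D19047 F34387 F28658
theorem F34948 : act 5 n19047 = n16208 := d14_2 D16199 D19047 (iv D16208) (iv D13136) (iv F22304)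
def n19048 : Q := act 1 n16200
theorem D19048 : act 1 n16200 = n19048 := rfl
def n19049 : Q := act 4 n16200
theorem D19049 : act 4 n16200 = n19049 := rfl
theorem F34949 : act 2 n19049 = n16201 := d10_1 D19049 (iv D16201) D16200
def n19050 : Q := act 5 n16201
theorem D19050 : act 5 n16201 = n19050 := rfl
theorem F34950 : act 3 n19050 = n16209 := d13_1 D19050 (iv D16209) (iv F28628)
def n19051 : Q := act 4 n16202
theorem D19051 : act 4 n16202 = n19051 := rfl
def n19052 : Q := act 3 n16203
theorem D19052 : act 3 n16203 = n19052 := rfl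
theorem F34951 : act 5 n19052 = n16210 := d13_2 (iv F28631) D19052 (iv D16210)
def n19053 : Q := act 2 n16204
theorem D19053 : act 2 n16204 = n19053 := rfl
theorem F34952 : act 0 n19053 = n16206 := d1_1 D19053 (iv D16206) (iv F28632)
theorem F34953 : act 3 n19053 = n16206 := d15_1 D19053 (iv D16206) (iv D13135) (iv F21920) (iv F28071) F28070 (iv F28543) F28544 (iv F28632)
def n19054 : Q := act 4 n16204
theorem D19054 : act 4 n16204 = n19054 := rfl
theorem F34954 : act 0 n19054 = n16207 := d3_1 D19054 (iv D16207) (iv F28632)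
def n19055 : Q := act 4 n16205
theorem D19055 : act 4 n16205 = n19055 := rfl
theorem F34955 : act 0 n19055 = n16208 := d3_1 D19055 (iv D16208) (iv F28633)
theorem F34956 : act 1 n19055 = n18929 := d7_1 D19055 F34903 F34901
theorem F34957 : act 2 n19055 = n16229 := d10_1 D19055 (iv F34369) F34367
theorem F34958 : act 5 n19055 = n18927 := d14_2 D16205 D19055 F34674 F28624 F28623
def n19056 : Q := act 4 n16206
theorem D19056 : act 4 n16206 = n19056 := rfl
theorem F34959 : act 2 n19056 = n16207 := d10_1 D19056 (iv D16207) D16206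
def n19057 : Q := act 5 n16207
theorem D19057 : act 5 n16207 = n19057 := rfl
theorem F34960 : act 1 n19057 = n16209 := d8_1 D19057 (iv D16209) (iv F28634)
def n19058 : Q := act 3 n16208
theorem D19058 : act 3 n16208 = n19058 := rfl
theorem F34961 : act 1 n19058 = n16210 := d6_1 D19058 (iv D16210) (iv F28635)
def n19059 : Q := act 2 n16210
theorem D19059 : act 2 n16210 = n19059 := rfl
def n19060 : Q := act 1 n16211
theorem D19060 : act 1 n16211 = n19060 := rfl
theorem F34962 : act 3 n19060 = n18727 := d6_2 F34662 D19060 (iv F34660)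
def n19061 : Q := act 4 n16211
theorem D19061 : act 4 n16211 = n19061 := rfl
theorem F34963 : act 0 n19061 = n16215 := d3_1 D19061 (iv D16215) (iv F28636)
theorem F34964 : act 2 n19061 = n16212 := d10_1 D19061 (iv D16212) D16211
def n19062 : Q := act 5 n16212
theorem D19062 : act 5 n16212 = n19062 := rfl
theorem F34965 : act 0 n19062 = n16216 := d4_1 D19062 (iv D16216) (iv F28637)
def n19063 : Q := act 0 n16213
theorem D19063 : act 0 n16213 = n19063 := rfl
theorem F34966 : act 2 n19063 = n16217 := d1_2 (iv F28638) D19063 (iv D16217)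
def n19064 : Q := act 3 n16213
theorem D19064 : act 3 n16213 = n19064 := rfl
theorem F34967 : act 1 n19064 = n16214 := d6_1 D19064 (iv D16214) D16213
def n19065 : Q := act 4 n16213
theorem D19065 : act 4 n16213 = n19065 := rfl
theorem F34968 : act 1 n19065 = n16215 := d7_1 D19065 (iv D16215) D16213
theorem F34969 : act 2 n19065 = n16218 := d10_1 D19065 (iv D16218) (iv F28638)
def n19066 : Q := act 4 n16214
theorem D19066 : act 4 n16214 = n19066 := rfl
def n19067 : Q := act 3 n16215
theorem D19067 : act 3 n16215 = n19067 := rfl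
def n19068 : Q := act 5 n16215
theorem D19068 : act 5 n16215 = n19068 := rfl
theorem F34970 : act 2 n19068 = n16216 := d11_1 D19068 (iv D16216) (iv F28639)
def n19069 : Q := act 4 n16217
theorem D19069 : act 4 n16217 = n19069 := rfl
theorem F34971 : act 0 n19069 = n16218 := d3_1 D19069 (iv D16218) D16217
theorem F34972 : act 1 n19069 = n16434 := d7_1 D19069 (iv F34600) F34598
theorem F34973 : act 3 n19069 = n16433 := d12_1 D19069 (iv D16433) (iv F28916) (iv F34594) (iv F34596)
def n19070 : Q := act 3 n16218
theorem D19070 : act 3 n16218 = n19070 := rfl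
theorem F34974 : act 0 n19070 = n16433 := d2_1 D19070 (iv F34973) F34971
theorem F34975 : act 1 n19070 = n16219 := d6_1 D19070 (iv D16219) (iv F28641)
theorem F34976 : act 4 n19070 = n16432 := d12_2 D16218 D19070 F29159 (iv F28492) F28491
def n19071 : Q := act 5 n16218
theorem D19071 : act 5 n16218 = n19071 := rfl
theorem F34977 : act 1 n19071 = n16220 := d8_1 D19071 (iv D16220) (iv F28641)
def n19072 : Q := act 2 n16219
theorem D19072 : act 2 n16219 = n19072 := rfl
theorem F34978 : act 0 n19072 = n16548 := d1_1 D19072 F29383 (iv F28642)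
theorem F34979 : act 4 n19072 = n16529 := d10_2 (iv F28643) D19072 F29344
def n19073 : Q := act 5 n16219
theorem D19073 : act 5 n16219 = n19073 := rfl
theorem F34980 : act 0 n19073 = n16549 := d4_1 D19073 (iv D16549) (iv F28642)
theorem F34981 : act 3 n19073 = n16220 := d13_1 D19073 (iv D16220) D16219
def n19074 : Q := act 3 n16221
theorem D19074 : act 3 n16221 = n19074 := rfl
theorem F34982 : act 0 n19074 = n16493 := d2_1 D19074 (iv D16493) (iv F28645)
theorem F34983 : act 1 n19074 = n16222 := d6_1 D19074 (iv D16222) D16221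
theorem F34984 : act 5 n19074 = n18748 := d13_2 F34654 D19074 (iv F34652)
def n19075 : Q := act 4 n16222
theorem D19075 : act 4 n16222 = n19075 := rfl
theorem F34985 : act 0 n19075 = n16224 := d3_1 D19075 (iv D16224) (iv F28646)
def n19076 : Q := act 1 n16223
theorem D19076 : act 1 n16223 = n19076 := rfl
theorem F34986 : act 2 n19076 = n16502 := d5_2 D16223 D19076 (iv D16502) (iv D13427) (iv F22314)
theorem F34987 : act 5 n19076 = n18727 := d8_2 F34661 D19076 (iv F34660)
def n19077 : Q := act 4 n16223
theorem D19077 : act 4 n16223 = n19077 := rfl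
theorem F34988 : act 2 n19077 = n16224 := d10_1 D19077 (iv D16224) D16223
def n19078 : Q := act 5 n16224
theorem D19078 : act 5 n16224 = n19078 := rfl
theorem F34989 : act 1 n19078 = n16504 := d8_1 D19078 (iv D16504) (iv F28647)
def n19079 : Q := act 2 n16235
theorem D19079 : act 2 n16235 = n19079 := rfl
def n19080 : Q := act 3 n16238
theorem D19080 : act 3 n16238 = n19080 := rfl
theorem F34990 : act 0 n19080 = n16244 := d2_1 D19080 (iv D16244) (iv F28687)
theorem F34991 : act 1 n19080 = n18481 := d6_1 D19080 F33525 F32668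
theorem F34992 : act 2 n19080 = n18490 := d9_1 D19080 F33556 F29440 F22945 F17738 (iv F22354) (iv F28702) (iv F33355) (iv F34084) (iv D18696) (iv D15828) (iv D12777) (iv F17258) D13163 D16238
def n19081 : Q := act 0 n16239
theorem D19081 : act 0 n16239 = n19081 := rfl
theorem F34993 : act 1 n19081 = n16247 := d0_2 D16239 D19081 (iv D16247) (iv D13168) (iv F22349)
theorem F34994 : act 4 n19081 = n18486 := d3_2 F32669 D19081 F33540
def n19082 : Q := act 3 n16239
theorem D19082 : act 3 n16239 = n19082 := rfl
theorem F34995 : act 1 n19082 = n16240 := d6_1 D19082 (iv D16240) D16239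
theorem F34996 : act 5 n19082 = n16266 := d13_2 (iv F32084) D19082 F32083
theorem F34997 : act 2 n19082 = n16442 := d15_4 (iv F25601) (iv F32087) F32086 D19082 F29520 F29518 F23046 D14663 F25283
def n19083 : Q := act 4 n16240
theorem D19083 : act 4 n16240 = n19083 := rfl
theorem F34998 : act 0 n19083 = n16251 := d3_1 D19083 (iv D16251) (iv F28689)
theorem F34999 : act 2 n19083 = n16269 := d10_1 D19083 (iv D16269) (iv F28690)
def n19084 : Q := act 0 n16243
theorem D19084 : act 0 n16243 = n19084 := rfl
theorem F35000 : act 1 n19084 = n18486 := d0_2 D16243 D19084 F33540 F32668 F28687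
theorem F35001 : act 2 n19084 = n16254 := d1_2 (iv F28698) D19084 (iv D16254)
theorem F35002 : act 3 n19084 = n18485 := d2_2 F33358 D19084 (iv F33539)
theorem F35003 : act 4 n19084 = n16247 := d3_2 (iv F28699) D19084 (iv D16247)
theorem F35004 : act 5 n19084 = n18489 := d4_2 F28700 D19084 F33552
def n19085 : Q := act 2 n16244
theorem D19085 : act 2 n16244 = n19085 := rfl
theorem F35005 : act 0 n19085 = n18490 := d1_1 D19085 (iv F34992) F34990
theorem F35006 : act 1 n19085 = n18494 := d5_1 D19085 F33567 (iv F33548) F33549 F33357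
theorem F35007 : act 5 n19085 = n18696 := d11_2 (iv F33356) D19085 F34084
theorem F35008 : act 3 n19085 = n18697 := d15_3 D13166 D16244 D19085 F34086 F27851 F21590 D15129 F26316 F22346
def n19086 : Q := act 4 n16244
theorem D19086 : act 4 n16244 = n19086 := rfl
theorem F35009 : act 3 n19086 = n16251 := d12_1 D19086 (iv D16251) (iv D13169) (iv F22352) D16244
def n19087 : Q := act 3 n16247
theorem D19087 : act 3 n16247 = n19087 := rfl
theorem F35010 : act 0 n19087 = n16248 := d2_1 D19087 (iv D16248) D16247
def n19088 : Q := act 5 n16247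
theorem D19088 : act 5 n16247 = n19088 := rfl
theorem F35011 : act 0 n19088 = n16249 := d4_1 D19088 (iv D16249) D16247
theorem F35012 : act 2 n19088 = n16256 := d11_1 D19088 (iv D16256) (iv F28705)
def n19089 : Q := act 2 n16248
theorem D19089 : act 2 n16248 = n19089 := rfl
def n19090 : Q := act 4 n16248
theorem D19090 : act 4 n16248 = n19090 := rfl
theorem F35013 : act 1 n19090 = n16251 := d7_1 D19090 (iv D16251) (iv F28706)
def n19091 : Q := act 5 n16248
theorem D19091 : act 5 n16248 = n19091 := rfl
theorem F35014 : act 1 n19091 = n16252 := d8_1 D19091 (iv D16252) (iv F28706)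
theorem F35015 : act 3 n19091 = n16249 := d13_1 D19091 (iv D16249) D16248
def n19092 : Q := act 1 n16250
theorem D19092 : act 1 n16250 = n19092 := rfl
theorem F35016 : act 0 n19092 = n16440 := d0_1 D19092 F29166 F22720 (iv F22387) (iv F28709)
theorem F35017 : act 3 n19092 = n16262 := d6_2 (iv F28710) D19092 F28739
theorem F35018 : act 5 n19092 = n16261 := d8_2 F28711 D19092 F28737
def n19093 : Q := act 4 n16250
theorem D19093 : act 4 n16250 = n19093 := rfl
theorem F35019 : act 0 n19093 = n16269 := d3_1 D19093 (iv D16269) (iv F28709)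
theorem F35020 : act 2 n19093 = n16251 := d10_1 D19093 (iv D16251) D16250
def n19094 : Q := act 5 n16251
theorem D19094 : act 5 n16251 = n19094 := rfl
def n19095 : Q := act 4 n16252
theorem D19095 : act 4 n16252 = n19095 := rfl
theorem F35021 : act 0 n19095 = n16267 := d3_1 D19095 (iv D16267) (iv F28712)
theorem F35022 : act 2 n19095 = n16263 := d10_1 D19095 (iv D16263) (iv F28713)
def n19096 : Q := act 2 n16255
theorem D19096 : act 2 n16255 = n19096 := rfl
theorem F35023 : act 0 n19096 = n16257 := d1_1 D19096 (iv D16257) (iv F28720)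
theorem F35024 : act 1 n19096 = n17452 := d5_1 D19096 (iv F31667) F31666 F28763 (iv F28721)
theorem F35025 : act 5 n19096 = n16271 := d11_2 F28722 D19096 F28751
theorem F35026 : act 3 n17467 = n19096 := d2_0 F35023 (iv F28728) D17467
def n19097 : Q := act 4 n16255
theorem D19097 : act 4 n16255 = n19097 := rfl
theorem F35027 : act 0 n19097 = n16258 := d3_1 D19097 (iv D16258) (iv F28720)
theorem F35028 : act 1 n19097 = n16281 := d7_1 D19097 (iv D16281) (iv F28721)
theorem F35029 : act 3 n19097 = n18915 := d12_1 D19097 (iv D18915) (iv F28717) F28718 D16255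
theorem F35030 : act 5 n19097 = n16281 := d14_2 F28722 D19097 (iv D16281) (iv D13200) (iv F22405)
def n19098 : Q := act 4 n16257
theorem D19098 : act 4 n16257 = n19098 := rfl
theorem F35031 : act 1 n19098 = n16274 := d7_1 D19098 (iv D16274) (iv F28726)
theorem F35032 : act 2 n19098 = n16258 := d10_1 D19098 (iv D16258) D16257
theorem F35033 : act 5 n19098 = n16278 := d14_2 (iv F28727) D19098 (iv D16278) (iv D13196) (iv F22393)
def n19099 : Q := act 2 n16261
theorem D19099 : act 2 n16261 = n19099 := rfl
def n19100 : Q := act 4 n16261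
theorem D19100 : act 4 n16261 = n19100 := rfl
theorem F35034 : act 1 n19100 = n16263 := d7_1 D19100 (iv D16263) (iv F28737)
theorem F35035 : act 3 n19100 = n18749 := d12_1 D19100 (iv D18749) (iv F28356) F28357 D16261
def n19101 : Q := act 4 n16262
theorem D19101 : act 4 n16262 = n19101 := rfl
theorem F35036 : act 0 n19101 = n16326 := d3_1 D19101 F28893 (iv F28738)
theorem F35037 : act 1 n19101 = n16264 := d7_1 D19101 (iv D16264) (iv F28739)
theorem F35038 : act 2 n19101 = n16350 := d10_1 D19101 (iv F34767) F34766
theorem F35039 : act 5 n19101 = n16436 := d14_2 D16262 D19101 F29163 (iv F28358) F28357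
def n19102 : Q := act 5 n16263
theorem D19102 : act 5 n16263 = n19102 := rfl
theorem F35040 : act 0 n19102 = n16268 := d4_1 D19102 (iv D16268) (iv F28740)
theorem F35041 : act 3 n19102 = n18750 := d13_1 D19102 (iv D18750) (iv F28741)
def n19103 : Q := act 3 n16264
theorem D19103 : act 3 n16264 = n19103 := rfl
theorem F35042 : act 0 n19103 = n16270 := d2_1 D19103 (iv D16270) (iv F28742)
theorem F35043 : act 5 n19103 = n16437 := d13_2 (iv F28744) D19103 (iv D16437)
theorem F35044 : act 2 n19103 = n16429 := d15_2 (iv F28743) D19103 (iv D16429) (iv D13361) (iv D10484) F13460 D8121 (iv F17289) (iv F22379)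
def n19104 : Q := act 5 n16265
theorem D19104 : act 5 n16265 = n19104 := rfl
theorem F35045 : act 1 n19104 = n16268 := d8_1 D19104 (iv D16268) (iv F28745)
theorem F35046 : act 4 n19104 = n16444 := d14_1 D19104 (iv D16444) (iv D13371) (iv F22386) D16265
def n19105 : Q := act 0 n16266
theorem D19105 : act 0 n16266 = n19105 := rfl
def n19106 : Q := act 4 n16266
theorem D19106 : act 4 n16266 = n19106 := rfl
theorem F35047 : act 1 n19106 = n16267 := d7_1 D19106 (iv D16267) D16266
theorem F35048 : act 3 n19106 = n18648 := d12_1 D19106 F33954 F32026 D17831 (iv F32083)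
def n19107 : Q := act 3 n16267
theorem D19107 : act 3 n16267 = n19107 := rfl
theorem F35049 : act 1 n19107 = n18648 := d6_1 D19107 (iv F35048) F35047
def n19108 : Q := act 5 n16267
theorem D19108 : act 5 n16267 = n19108 := rfl
theorem F35050 : act 2 n19108 = n16268 := d11_1 D19108 (iv D16268) (iv F28746)
def n19109 : Q := act 4 n16268
theorem D19109 : act 4 n16268 = n19109 := rfl
theorem F35051 : act 1 n19109 = n16444 := d7_1 D19109 (iv F35046) F35045
theorem F35052 : act 5 n19109 = n16269 := d14_2 D16268 D19109 (iv D16269) (iv D13187) D13186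
def n19110 : Q := act 3 n16269
theorem D19110 : act 3 n16269 = n19110 := rfl
theorem F35053 : act 1 n19110 = n16329 := d6_1 D19110 F28897 (iv F28747)
theorem F35054 : act 4 n19110 = n16270 := d12_2 D16269 D19110 (iv D16270) (iv D13188) (iv F22388)
def n19111 : Q := act 2 n16270
theorem D19111 : act 2 n16270 = n19111 := rfl
theorem F35055 : act 0 n19111 = n16429 := d1_1 D19111 (iv F35044) F35042
theorem F35056 : act 5 n19111 = n16438 := d11_2 (iv F28749) D19111 (iv D16438)
theorem F35057 : act 3 n19111 = n16427 := d15_1 D19111 (iv D16427) (iv D13360) F17535 D10487 D13366 D16437 (iv F35043) F35042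
def n19112 : Q := act 3 n16271
theorem D19112 : act 3 n16271 = n19112 := rfl
theorem F35058 : act 0 n19112 = n16272 := d2_1 D19112 (iv D16272) D16271
theorem F35059 : act 1 n19112 = n17451 := d6_1 D19112 (iv D17451) (iv F28750)
theorem F35060 : act 5 n19112 = n17467 := d13_2 F35025 D19112 F35026
def n19113 : Q := act 2 n16272
theorem D19113 : act 2 n16272 = n19113 := rfl
theorem F35061 : act 1 n19113 = n17464 := d5_1 D19113 F31257 F24766 (iv F22395) (iv F28753)
theorem F35062 : act 5 n19113 = n17461 := d11_2 (iv F28754) D19113 F31255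
def n19114 : Q := act 4 n16272
theorem D19114 : act 4 n16272 = n19114 := rfl
theorem F35063 : act 1 n19114 = n16273 := d7_1 D19114 (iv D16273) (iv F28753)
theorem F35064 : act 3 n19114 = n16277 := d12_1 D19114 (iv D16277) (iv D13195) (iv F22393) D16272
def n19115 : Q := act 5 n16273
theorem D19115 : act 5 n16273 = n19115 := rfl
theorem F35065 : act 0 n19115 = n17456 := d4_1 D19115 (iv D17456) (iv F28755)
theorem F35066 : act 2 n19115 = n17471 := d11_1 D19115 F31263 (iv F28756)
theorem F35067 : act 3 n19115 = n16279 := d13_1 D19115 (iv D16279) (iv F28757)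
theorem F35068 : act 4 n19115 = n17470 := d14_1 D19115 (iv D17470) (iv D14408) F22396 D16273
def n19116 : Q := act 3 n16274
theorem D19116 : act 3 n16274 = n19116 := rfl
theorem F35069 : act 0 n19116 = n17457 := d2_1 D19116 (iv D17457) (iv F28758)
theorem F35070 : act 4 n19116 = n17469 := d12_2 D16274 D19116 (iv D17469) (iv D14408) (iv F22399)
theorem F35071 : act 5 n19116 = n16280 := d13_2 (iv F28760) D19116 (iv D16280)
theorem F35072 : act 2 n19116 = n18074 := d15_2 (iv F28759) D19116 (iv D18074) F26202 F20232 (iv F17605) (iv F19417) F19418 (iv F22400)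
def n19117 : Q := act 4 n16275
theorem D19117 : act 4 n16275 = n19117 := rfl
theorem F35073 : act 0 n19117 = n16277 := d3_1 D19117 (iv D16277) (iv F28761)
def n19118 : Q := act 4 n16276
theorem D19118 : act 4 n16276 = n19118 := rfl
theorem F35074 : act 0 n19118 = n16278 := d3_1 D19118 (iv D16278) (iv F28762)
theorem F35075 : act 2 n19118 = n16281 := d10_1 D19118 (iv D16281) (iv F28763)
def n19119 : Q := act 5 n16277
theorem D19119 : act 5 n16277 = n19119 := rfl
theorem F35076 : act 1 n19119 = n16279 := d8_1 D19119 (iv D16279) (iv F28764)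
def n19120 : Q := act 3 n16278
theorem D19120 : act 3 n16278 = n19120 := rfl
theorem F35077 : act 1 n19120 = n16280 := d6_1 D19120 (iv D16280) (iv F28765)
def n19121 : Q := act 2 n16280
theorem D19121 : act 2 n16280 = n19121 := rfl
theorem F35078 : act 4 n19121 = n18131 := d10_2 F31690 D19121 F32704
theorem F35079 : act 5 n19121 = n18074 := d11_2 F35071 D19121 (iv F35072)
theorem F35080 : act 3 n19121 = n18075 := d15_1 D19121 F32580 F26203 F20242 F19342 (iv F24760) D17457 (iv F31682) F31680
def n19122 : Q := act 3 n16281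
theorem D19122 : act 3 n16281 = n19122 := rfl
theorem F35081 : act 0 n19122 = n16283 := d2_1 D19122 (iv D16283) (iv F28767)
theorem F35082 : act 1 n19122 = n18915 := d6_1 D19122 (iv F35029) F35028
theorem F35083 : act 4 n19122 = n18912 := d12_2 D16281 D19122 (iv D18912) (iv F28685) F28684
theorem F35084 : act 5 n19122 = n18915 := d13_2 F35030 D19122 (iv F35029)
def n19123 : Q := act 0 n16284
theorem D19123 : act 0 n16284 = n19123 := rfl
theorem F35085 : act 2 n19123 = n16290 := d1_2 (iv F28774) D19123 (iv D16290)
def n19124 : Q := act 3 n16284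
theorem D19124 : act 3 n16284 = n19124 := rfl
theorem F35086 : act 1 n19124 = n16285 := d6_1 D19124 (iv D16285) D16284
def n19125 : Q := act 4 n16284
theorem D19125 : act 4 n16284 = n19125 := rfl
theorem F35087 : act 1 n19125 = n16286 := d7_1 D19125 (iv D16286) D16284
theorem F35088 : act 2 n19125 = n16291 := d10_1 D19125 (iv D16291) (iv F28774)
def n19126 : Q := act 4 n16285
theorem D19126 : act 4 n16285 = n19126 := rfl
def n19127 : Q := act 5 n16285
theorem D19127 : act 5 n16285 = n19127 := rfl
theorem F35089 : act 0 n19127 = n16297 := d4_1 D19127 F34041 F34039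
theorem F35090 : act 2 n19127 = n16296 := d11_1 D19127 (iv F34772) F34771
theorem F35091 : act 3 n19127 = n16287 := d13_1 D19127 (iv D16287) D16285
def n19128 : Q := act 3 n16286
theorem D19128 : act 3 n16286 = n19128 := rfl
theorem F35092 : act 0 n19128 = n16416 := d2_1 D19128 (iv D16416) (iv F28775)
theorem F35093 : act 2 n19128 = n16424 := d9_1 D19128 F29143 F22702 F17530 (iv F17526) (iv F22699) (iv F29121) (iv F29122) F29120 (iv F23361) (iv D13346) (iv D10472) (iv F17397) (iv F22425) (iv F28776)
theorem F35094 : act 5 n19128 = n16422 := d15_8 F29120 (iv F23361) (iv D13346) (iv D10472) (iv F17397) (iv F22425) (iv F28776) D19128 F29139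
def n19129 : Q := act 5 n16286
theorem D19129 : act 5 n16286 = n19129 := rfl
theorem F35095 : act 0 n19129 = n16417 := d4_1 D19129 (iv D16417) (iv F28775)
theorem F35096 : act 2 n19129 = n16288 := d11_1 D19129 (iv D16288) (iv F28776)
theorem F35097 : act 3 n19129 = n16422 := d13_1 D19129 (iv F35094) (iv D19128)
def n19130 : Q := act 4 n16287
theorem D19130 : act 4 n16287 = n19130 := rfl
theorem F35098 : act 2 n19130 = n16289 := d10_1 D19130 (iv D16289) (iv F28777)
def n19131 : Q := act 4 n16288
theorem D19131 : act 4 n16288 = n19131 := rfl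
theorem F35099 : act 0 n19131 = n16418 := d3_1 D19131 (iv D16418) (iv F28778)
theorem F35100 : act 1 n19131 = n16294 := d7_1 D19131 (iv D16294) (iv F28779)
theorem F35101 : act 3 n19131 = n16354 := d12_1 D19131 (iv D16354) F22575 (iv F22536) (iv F28780)
theorem F35102 : act 5 n19131 = n16289 := d14_2 D16288 D19131 (iv D16289) (iv D13208) D13207
def n19132 : Q := act 4 n16290
theorem D19132 : act 4 n16290 = n19132 := rfl
theorem F35103 : act 0 n19132 = n16291 := d3_1 D19132 (iv D16291) D16290
def n19133 : Q := act 3 n16291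
theorem D19133 : act 3 n16291 = n19133 := rfl
theorem F35104 : act 1 n19133 = n16292 := d6_1 D19133 (iv D16292) (iv F28783)
def n19134 : Q := act 5 n16291
theorem D19134 : act 5 n16291 = n19134 := rfl
theorem F35105 : act 1 n19134 = n16293 := d8_1 D19134 (iv D16293) (iv F28783)
def n19135 : Q := act 2 n16292
theorem D19135 : act 2 n16292 = n19135 := rfl
theorem F35106 : act 0 n19135 = n18131 := d1_1 D19135 F32704 F31689
theorem F35107 : act 3 n19135 = n16737 := d9_2 D16292 D19135 F29792 F23323 (iv F19431) (iv F25152) (iv F31692) (iv F32701) (iv D18130) (iv D15140) (iv D12059) (iv D9404) (iv F13366) (iv F17311) (iv F22428)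
theorem F35108 : act 5 n16736 = n19135 := d13_0 F35107 (iv D16737) D16736
def n19136 : Q := act 5 n16292
theorem D19136 : act 5 n16292 = n19136 := rfl
theorem F35109 : act 0 n19136 = n18130 := d4_1 D19136 (iv F32702) F31689
theorem F35110 : act 2 n19136 = n16736 := d11_1 D19136 F35108 (iv D19135)
theorem F35111 : act 3 n19136 = n16293 := d13_1 D19136 (iv D16293) D16292
theorem F35112 : act 4 n18613 = n19136 := d10_0 F35110 F29790 D18613
def n19137 : Q := act 3 n16295
theorem D19137 : act 3 n16295 = n19137 := rfl
theorem F35113 : act 1 n19137 = n16296 := d6_1 D19137 (iv D16296) D16295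
def n19138 : Q := act 4 n16296
theorem D19138 : act 4 n16296 = n19138 := rfl
theorem F35114 : act 0 n19138 = n16298 := d3_1 D19138 (iv D16298) (iv F28789)
theorem F35115 : act 3 n19138 = n16352 := d12_1 D19138 (iv D16352) (iv D13274) (iv F22432) D16296
def n19139 : Q := act 1 n16297
theorem D19139 : act 1 n16297 = n19139 := rfl
def n19140 : Q := act 4 n16297
theorem D19140 : act 4 n16297 = n19140 := rfl
theorem F35116 : act 2 n19140 = n16298 := d10_1 D19140 (iv D16298) D16297
def n19141 : Q := act 5 n16298
theorem D19141 : act 5 n16298 = n19141 := rfl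
theorem F35117 : act 3 n19141 = n16364 := d13_1 D19141 (iv D16364) (iv F28790)
def n19142 : Q := act 1 n16299
theorem D19142 : act 1 n16299 = n19142 := rfl
theorem F35118 : act 3 n19142 = n18939 := d6_2 (iv F28792) D19142 F34695
theorem F35119 : act 5 n19142 = n18938 := d8_2 (iv F28793) D19142 F34694
def n19143 : Q := act 0 n16301
theorem D19143 : act 0 n16301 = n19143 := rfl
theorem F35120 : act 1 n19143 = n16554 := d0_2 D16301 D19143 (iv D16554) (iv D13472) (iv F22442)
theorem F35121 : act 2 n19143 = n16303 := d1_2 (iv F28798) D19143 (iv D16303)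
theorem F35122 : act 4 n19143 = n17212 := d3_2 (iv F28799) D19143 (iv D17212)
def n19144 : Q := act 3 n16301
theorem D19144 : act 3 n16301 = n19144 := rfl
theorem F35123 : act 1 n19144 = n16302 := d6_1 D19144 (iv D16302) D16301
def n19145 : Q := act 4 n16302
theorem D19145 : act 4 n16302 = n19145 := rfl
theorem F35124 : act 0 n19145 = n16556 := d3_1 D19145 (iv D16556) (iv F28800)
theorem F35125 : act 3 n19145 = n17216 := d12_1 D19145 (iv D17216) (iv D14142) (iv F22443) D16302
def n19146 : Q := act 0 n16310
theorem D19146 : act 0 n16310 = n19146 := rfl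
theorem F35126 : act 2 n19146 = n16566 := d1_2 (iv F28833) D19146 F29414
theorem F35127 : act 3 n19146 = n17222 := d2_2 (iv F28834) D19146 (iv D17222)
theorem F35128 : act 4 n19146 = n16311 := d3_2 (iv F28835) D19146 (iv D16311)
theorem F35129 : act 5 n19146 = n17223 := d4_2 (iv F28836) D19146 F30753
def n19147 : Q := act 2 n16313
theorem D19147 : act 2 n16313 = n19147 := rfl
theorem F35130 : act 0 n19147 = n17534 := d1_1 D19147 (iv D17534) (iv F28843)
theorem F35131 : act 3 n19147 = n16652 := d9_2 D16313 D19147 F29597 F23136 F17868 (iv F19234) (iv F24920) F24921 (iv F24939) (iv F24941) (iv D11956) (iv D9313) (iv F13327) D10383 D13238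
theorem F35132 : act 5 n19147 = n16651 := d11_2 (iv F28844) D19147 F29595
def n19148 : Q := act 4 n16313
theorem D19148 : act 4 n16313 = n19148 := rfl
theorem F35133 : act 0 n19148 = n17535 := d3_1 D19148 (iv D17535) (iv F28843)
theorem F35134 : act 3 n19148 = n17200 := d12_1 D19148 (iv D17200) (iv D14126) (iv F22488) D16313
def n19149 : Q := act 3 n16315
theorem D19149 : act 3 n16315 = n19149 := rfl
theorem F35135 : act 0 n19149 = n16316 := d2_1 D19149 (iv D16316) D16315
theorem F35136 : act 1 n19149 = n17223 := d6_1 D19149 (iv D17223) (iv F28848)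
theorem F35137 : act 4 n19149 = n17220 := d12_2 (iv F28850) D19149 (iv F30925) F30926 F24386
def n19150 : Q := act 0 n16318
theorem D19150 : act 0 n16318 = n19150 := rfl
theorem F35138 : act 1 n19150 = n17220 := d0_2 D16318 D19150 F30746 F24217 (iv F22499)
theorem F35139 : act 2 n19150 = n16560 := d1_2 (iv F28855) D19150 F29400
theorem F35140 : act 3 n19150 = n17211 := d2_2 (iv F28856) D19150 (iv D17211)
theorem F35141 : act 4 n19150 = n17223 := d3_2 (iv F28857) D19150 F30753
theorem F35142 : act 5 n19150 = n16319 := d4_2 (iv F28858) D19150 (iv D16319)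
def n19151 : Q := act 3 n16319
theorem D19151 : act 3 n16319 = n19151 := rfl
theorem F35143 : act 0 n19151 = n16320 := d2_1 D19151 (iv D16320) D16319
theorem F35144 : act 1 n19151 = n17219 := d6_1 D19151 (iv D17219) (iv F28859)
theorem F35145 : act 4 n19151 = n17222 := d12_2 (iv F28861) D19151 (iv F35127) F35128 F28838
theorem F35146 : act 5 n19151 = n17211 := d13_2 F35142 D19151 (iv F35140)
theorem F35147 : act 2 n17544 = n19151 := d11_3 F35146 F30729 (iv F31449)
def n19152 : Q := act 3 n16326
theorem D19152 : act 3 n16326 = n19152 := rfl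
theorem F35148 : act 1 n19152 = n16327 := d6_1 D19152 (iv D16327) D16326
def n19153 : Q := act 4 n16327
theorem D19153 : act 4 n16327 = n19153 := rfl
theorem F35149 : act 0 n19153 = n16329 := d3_1 D19153 (iv D16329) (iv F28894)
theorem F35150 : act 3 n19153 = n16441 := d12_1 D19153 (iv D16441) (iv D13369) (iv F22532) D16327
def n19154 : Q := act 1 n16328
theorem D19154 : act 1 n16328 = n19154 := rfl
theorem F35151 : act 3 n19154 = n16542 := d6_2 (iv F28896) D19154 F29377
theorem F35152 : act 5 n19154 = n16555 := d8_2 (iv F28895) D19154 F29394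
def n19155 : Q := act 4 n16328
theorem D19155 : act 4 n16328 = n19155 := rfl
theorem F35153 : act 2 n19155 = n16329 := d10_1 D19155 (iv D16329) D16328
def n19156 : Q := act 5 n16329
theorem D19156 : act 5 n16329 = n19156 := rfl
theorem F35154 : act 3 n19156 = n16444 := d13_1 D19156 (iv D16444) (iv F28897)
def n19157 : Q := act 3 n16330
theorem D19157 : act 3 n16330 = n19157 := rfl
theorem F35155 : act 1 n19157 = n16333 := d6_1 D19157 (iv D16333) (iv F28898)
theorem F35156 : act 4 n19157 = n16331 := d12_2 D16330 D19157 (iv D16331) (iv D13259) D13258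
def n19158 : Q := act 5 n16330
theorem D19158 : act 5 n16330 = n19158 := rfl
theorem F35157 : act 1 n19158 = n16334 := d8_1 D19158 (iv D16334) (iv F28898)
theorem F35158 : act 4 n19158 = n16387 := d14_1 D19158 (iv D16387) (iv D13330) (iv F22538) D16330
def n19159 : Q := act 2 n16331
theorem D19159 : act 2 n16331 = n19159 := rfl
def n19160 : Q := act 5 n16331
theorem D19160 : act 5 n16331 = n19160 := rfl
theorem F35159 : act 0 n19160 = n17833 := d4_1 D19160 (iv F34551) F34549
theorem F35160 : act 1 n19160 = n16336 := d8_1 D19160 (iv D16336) (iv F28899)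
theorem F35161 : act 3 n19160 = n16332 := d13_1 D19160 (iv D16332) D16331
def n19161 : Q := act 2 n16333
theorem D19161 : act 2 n16333 = n19161 := rfl
theorem F35162 : act 0 n19161 = n16341 := d1_1 D19161 (iv D16341) (iv F28904)
theorem F35163 : act 4 n19161 = n16335 := d10_2 (iv F28905) D19161 (iv D16335)
def n19162 : Q := act 5 n16333
theorem D19162 : act 5 n16333 = n19162 := rfl
theorem F35164 : act 0 n19162 = n16342 := d4_1 D19162 (iv D16342) (iv F28904)
theorem F35165 : act 3 n19162 = n16334 := d13_1 D19162 (iv D16334) D16333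
def n19163 : Q := act 4 n16336
theorem D19163 : act 4 n16336 = n19163 := rfl
theorem F35166 : act 0 n19163 = n16346 := d3_1 D19163 (iv D16346) (iv F28912)
theorem F35167 : act 2 n19163 = n16357 := d10_1 D19163 (iv D16357) (iv F28913)
theorem F35168 : act 3 n19163 = n17860 := d12_1 D19163 (iv D17860) (iv D14835) (iv F22546) (iv F28914)
def n19164 : Q := act 3 n16338
theorem D19164 : act 3 n16338 = n19164 := rfl
theorem F35169 : act 1 n19164 = n16339 := d6_1 D19164 (iv D16339) (iv F28918)
theorem F35170 : act 4 n19164 = n16375 := d12_2 D16338 D19164 (iv D16375) (iv D13318) (iv F22550)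
theorem F35171 : act 2 n19041 = n19164 := d10_3 F35170 F29015 D19041
def n19165 : Q := act 5 n16338
theorem D19165 : act 5 n16338 = n19165 := rfl
theorem F35172 : act 1 n19165 = n16340 := d8_1 D19165 (iv D16340) (iv F28918)
theorem F35173 : act 4 n19165 = n16372 := d14_1 D19165 (iv D16372) (iv D13315) (iv F22551) D16338
def n19166 : Q := act 2 n16339
theorem D19166 : act 2 n16339 = n19166 := rfl
theorem F35174 : act 0 n19166 = n16395 := d1_1 D19166 (iv D16395) (iv F28919)
theorem F35175 : act 1 n19166 = n19043 := d5_1 D19166 F34939 (iv F34938) F35171 F35169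
theorem F35176 : act 4 n19166 = n16379 := d10_2 (iv F28920) D19166 (iv D16379)
def n19167 : Q := act 5 n16339
theorem D19167 : act 5 n16339 = n19167 := rfl
theorem F35177 : act 0 n19167 = n16394 := d4_1 D19167 F29068 (iv F28919)
theorem F35178 : act 3 n19167 = n16340 := d13_1 D19167 (iv D16340) D16339
def n19168 : Q := act 1 n16341
theorem D19168 : act 1 n16341 = n19168 := rfl
theorem F35179 : act 4 n19168 = n16343 := d7_2 (iv F28924) D19168 (iv D16343)
def n19169 : Q := act 3 n16341
theorem D19169 : act 3 n16341 = n19169 := rfl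
def n19170 : Q := act 5 n16341
theorem D19170 : act 5 n16341 = n19170 := rfl
theorem F35180 : act 2 n19170 = n16342 := d11_1 D19170 (iv D16342) D16341
def n19171 : Q := act 4 n16342
theorem D19171 : act 4 n16342 = n19171 := rfl
theorem F35181 : act 1 n19171 = n17837 := d7_1 D19171 (iv F34585) F34584
theorem F35182 : act 3 n19171 = n17864 := d12_1 D19171 (iv F34565) F34564 F28287 (iv F28925)
theorem F35183 : act 5 n19171 = n16346 := d14_2 D16342 D19171 (iv D16346) (iv D13269) (iv F22554)
def n19172 : Q := act 0 n16343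
theorem D19172 : act 0 n16343 = n19172 := rfl
def n19173 : Q := act 3 n16343
theorem D19173 : act 3 n16343 = n19173 := rfl
theorem F35184 : act 1 n19173 = n16344 := d6_1 D19173 (iv D16344) D16343
theorem F35185 : act 5 n16348 = n19173 := d8_0 F35184 F28928 D16348
def n19174 : Q := act 5 n16343
theorem D19174 : act 5 n16343 = n19174 := rfl
theorem F35186 : act 1 n19174 = n16345 := d8_1 D19174 (iv D16345) D16343
theorem F35187 : act 2 n19174 = n17835 := d11_1 D19174 (iv F34591) F34589
theorem F35188 : act 3 n19174 = n16348 := d13_1 D19174 F35185 (iv D19173)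
def n19175 : Q := act 4 n16344
theorem D19175 : act 4 n16344 = n19175 := rfl
theorem F35189 : act 0 n19175 = n16358 := d3_1 D19175 (iv D16358) (iv F28926)
theorem F35190 : act 2 n19175 = n16349 := d10_1 D19175 (iv D16349) (iv F28927)
theorem F35191 : act 5 n19175 = n16453 := d14_2 (iv F28928) D19175 (iv D16453) (iv D13376) (iv F22562)
def n19176 : Q := act 4 n16345
theorem D19176 : act 4 n16345 = n19176 := rfl
theorem F35192 : act 0 n19176 = n16357 := d3_1 D19176 (iv D16357) (iv F28929)
theorem F35193 : act 2 n19176 = n16346 := d10_1 D19176 (iv D16346) (iv F28930)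
theorem F35194 : act 3 n19176 = n16452 := d12_1 D19176 (iv D16452) (iv D13375) (iv F22562) (iv F28931)
def n19177 : Q := act 5 n16347
theorem D19177 : act 5 n16347 = n19177 := rfl
theorem F35195 : act 0 n19177 = n16435 := d4_1 D19177 (iv D16435) (iv F28934)
theorem F35196 : act 1 n19177 = n16549 := d8_1 D19177 (iv D16549) (iv F28935)
theorem F35197 : act 2 n19177 = n16414 := d11_1 D19177 (iv D16414) (iv F28936)
theorem F35198 : act 4 n19177 = n16364 := d14_1 D19177 (iv D16364) (iv D13284) (iv F22559) D16347
def n19178 : Q := act 0 n16348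
theorem D19178 : act 0 n16348 = n19178 := rfl
theorem F35199 : act 1 n19178 = n16355 := d0_2 D16348 D19178 (iv D16355) (iv D13277) (iv F22561)
theorem F35200 : act 4 n19178 = n16449 := d3_2 (iv F28937) D19178 (iv D16449)
def n19179 : Q := act 3 n16350
theorem D19179 : act 3 n16350 = n19179 := rfl
theorem F35201 : act 0 n19179 = n16351 := d2_1 D19179 (iv D16351) D16350
theorem F35202 : act 1 n19179 = n16359 := d6_1 D19179 (iv D16359) (iv F28940)
theorem F35203 : act 5 n19179 = n16432 := d13_2 (iv F28941) D19179 F29159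
def n19180 : Q := act 2 n16351
theorem D19180 : act 2 n16351 = n19180 := rfl
theorem F35204 : act 1 n19180 = n16406 := d5_1 D19180 (iv D16406) F22682 (iv F22566) (iv F28942)
theorem F35205 : act 5 n19180 = n16428 := d11_2 (iv F28943) D19180 F29152
def n19181 : Q := act 4 n16351
theorem D19181 : act 4 n16351 = n19181 := rfl
theorem F35206 : act 1 n19181 = n16352 := d7_1 D19181 (iv D16352) (iv F28942)
def n19182 : Q := act 5 n16352
theorem D19182 : act 5 n16352 = n19182 := rfl
theorem F35207 : act 0 n19182 = n16364 := d4_1 D19182 (iv D16364) (iv F28944)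
theorem F35208 : act 2 n19182 = n16408 := d11_1 D19182 (iv D16408) (iv F28945)
theorem F35209 : act 4 n19182 = n16435 := d14_1 D19182 (iv D16435) (iv D13364) (iv F22567) D16352
def n19183 : Q := act 0 n16353
theorem D19183 : act 0 n16353 = n19183 := rfl
theorem F35210 : act 1 n19183 = n16449 := d0_2 D16353 D19183 (iv D16449) (iv D13374) (iv F22568)
theorem F35211 : act 2 n19183 = n17986 := d1_2 (iv F28946) D19183 F32372
theorem F35212 : act 3 n19183 = n18783 := d2_2 (iv F28947) D19183 F34199
theorem F35213 : act 4 n19183 = n16355 := d3_2 (iv F28948) D19183 (iv D16355)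
theorem F35214 : act 5 n19183 = n18782 := d4_2 (iv F28949) D19183 F34198
def n19184 : Q := act 3 n16355
theorem D19184 : act 3 n16355 = n19184 := rfl
theorem F35215 : act 0 n19184 = n16356 := d2_1 D19184 (iv D16356) D16355
def n19185 : Q := act 2 n16356
theorem D19185 : act 2 n16356 = n19185 := rfl
def n19186 : Q := act 4 n16356
theorem D19186 : act 4 n16356 = n19186 := rfl
theorem F35216 : act 1 n19186 = n16357 := d7_1 D19186 (iv D16357) (iv F28955)
theorem F35217 : act 3 n19186 = n18785 := d12_1 D19186 (iv D18785) (iv F28947) F28948 D16356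
def n19187 : Q := act 5 n16357
theorem D19187 : act 5 n16357 = n19187 := rfl
theorem F35218 : act 3 n19187 = n18781 := d13_1 D19187 F34197 (iv F28956)
def n19188 : Q := act 3 n16358
theorem D19188 : act 3 n16358 = n19188 := rfl
theorem F35219 : act 5 n19188 = n18779 := d13_2 (iv F28958) D19188 F34194
def n19189 : Q := act 4 n16359
theorem D19189 : act 4 n16359 = n19189 := rfl
theorem F35220 : act 0 n19189 = n16361 := d3_1 D19189 (iv D16361) (iv F28959)
theorem F35221 : act 2 n19189 = n16528 := d10_1 D19189 (iv D16528) (iv F28961)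
def n19190 : Q := act 1 n16360
theorem D19190 : act 1 n16360 = n19190 := rfl
theorem F35222 : act 2 n19190 = n16362 := d5_2 D16360 D19190 (iv D16362) (iv D13283) (iv F22581)
theorem F35223 : act 3 n19190 = n16518 := d6_2 (iv F28964) D19190 (iv D16518)
theorem F35224 : act 5 n19190 = n16412 := d8_2 (iv F28963) D19190 F29114
def n19191 : Q := act 4 n16360
theorem D19191 : act 4 n16360 = n19191 := rfl
theorem F35225 : act 0 n19191 = n16528 := d3_1 D19191 (iv D16528) (iv F28962)
theorem F35226 : act 2 n19191 = n16361 := d10_1 D19191 (iv D16361) D16360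
def n19192 : Q := act 5 n16361
theorem D19192 : act 5 n16361 = n19192 := rfl
theorem F35227 : act 1 n19192 = n16364 := d8_1 D19192 (iv D16364) (iv F28965)
theorem F35228 : act 4 n19192 = n16549 := d14_1 D19192 (iv D16549) (iv D13469) (iv F22582) D16361
def n19193 : Q := act 0 n16362
theorem D19193 : act 0 n16362 = n19193 := rfl
theorem F35229 : act 1 n19193 = n16405 := d0_2 D16362 D19193 F29096 F22682 (iv F22583)
theorem F35230 : act 3 n19193 = n16382 := d2_2 (iv F28966) D19193 (iv D16382)
theorem F35231 : act 5 n19193 = n16411 := d4_2 (iv F28967) D19193 F29111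
def n19194 : Q := act 4 n16362
theorem D19194 : act 4 n16362 = n19194 := rfl
theorem F35232 : act 1 n19194 = n16363 := d7_1 D19194 (iv D16363) D16362
def n19195 : Q := act 3 n16363
theorem D19195 : act 3 n16363 = n19195 := rfl
theorem F35233 : act 0 n19195 = n16404 := d2_1 D19195 F29095 (iv F28968)
theorem F35234 : act 4 n19195 = n16381 := d12_2 D16363 D19195 (iv D16381) F22649 (iv F22584)
theorem F35235 : act 5 n18775 = n19195 := d14_0 F35234 F29034 F22761 D15887 D18775
def n19196 : Q := act 5 n16363
theorem D19196 : act 5 n16363 = n19196 := rfl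
theorem F35236 : act 0 n19196 = n16408 := d4_1 D19196 (iv D16408) (iv F28968)
theorem F35237 : act 2 n19196 = n16364 := d11_1 D19196 (iv D16364) (iv F28969)
theorem F35238 : act 3 n19196 = n18775 := d13_1 D19196 F35235 (iv D19195)
theorem F35239 : act 4 n19196 = n16414 := d14_1 D19196 (iv D16414) (iv D13351) (iv F22585) D16363
def n19197 : Q := act 5 n16371
theorem D19197 : act 5 n16371 = n19197 := rfl
theorem F35240 : act 0 n19197 = n17840 := d4_1 D19197 (iv D17840) (iv F28999)
theorem F35241 : act 1 n19197 = n16376 := d8_1 D19197 (iv D16376) (iv F29000)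
theorem F35242 : act 2 n19197 = n17839 := d11_1 D19197 (iv D17839) (iv F29002)
theorem F35243 : act 3 n19197 = n16372 := d13_1 D19197 (iv D16372) D16371
theorem F35244 : act 4 n19079 = n19197 := d10_0 F35242 F32099 D19079
def n19198 : Q := act 4 n16373
theorem D19198 : act 4 n16373 = n19198 := rfl
theorem F35245 : act 0 n19198 = n16569 := d3_1 D19198 (iv D16569) (iv F29004)
theorem F35246 : act 1 n19198 = n16377 := d7_1 D19198 (iv D16377) (iv F29005)
theorem F35247 : act 2 n19198 = n16568 := d10_1 D19198 (iv D16568) (iv F29006)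
theorem F35248 : act 3 n19198 = n18942 := d12_1 D19198 F34701 F29012 (iv D16374) (iv F29007)
theorem F35249 : act 5 n19198 = n19079 := d14_2 D16373 D19198 F35244 (iv D19197) F29001
def n19199 : Q := act 4 n16376
theorem D19199 : act 4 n16376 = n19199 := rfl
theorem F35250 : act 0 n19199 = n16393 := d3_1 D19199 (iv D16393) (iv F29016)
theorem F35251 : act 1 n19199 = n19079 := d7_1 D19199 F35244 F35241
theorem F35252 : act 2 n19199 = n16426 := d10_1 D19199 F29149 (iv F29017)
theorem F35253 : act 5 n19199 = n16377 := d14_2 D16376 D19199 (iv D16377) (iv D13321) (iv F22638)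
def n19200 : Q := act 3 n16377
theorem D19200 : act 3 n16377 = n19200 := rfl
theorem F35254 : act 0 n19200 = n16399 := d2_1 D19200 (iv D16399) (iv F29019)
theorem F35255 : act 1 n19200 = n18942 := d6_1 D19200 (iv F35248) F35246
theorem F35256 : act 4 n19200 = n16378 := d12_2 D16377 D19200 (iv D16378) (iv D13322) (iv F22643)
theorem F35257 : act 2 n18944 = n19200 := d10_3 F35256 (iv F29024) (iv F34706)
def n19201 : Q := act 3 n16380
theorem D19201 : act 3 n16380 = n19201 := rfl
theorem F35258 : act 0 n19201 = n16488 := d2_1 D19201 F29267 (iv F29029)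
theorem F35259 : act 1 n19201 = n16381 := d6_1 D19201 (iv D16381) D16380
theorem F35260 : act 5 n19201 = n16466 := d13_2 (iv F29032) D19201 (iv D16466)
def n19202 : Q := act 2 n16381
theorem D19202 : act 2 n16381 = n19202 := rfl
theorem F35261 : act 0 n19202 = n16403 := d1_1 D19202 (iv D16403) (iv F29033)
theorem F35262 : act 3 n19202 = n16400 := d9_2 D16381 D19202 (iv D16400) (iv D13340) F17501 F13434 (iv F13519) D10514 D13397 (iv F29028) (iv D16379) (iv D13323) F17477 D10454 D13324
theorem F35263 : act 5 n19202 = n16402 := d11_2 (iv F29034) D19202 F29089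
def n19203 : Q := act 2 n16386
theorem D19203 : act 2 n16386 = n19203 := rfl
def n19204 : Q := act 5 n16386
theorem D19204 : act 5 n16386 = n19204 := rfl
theorem F35264 : act 1 n19204 = n16389 := d8_1 D19204 (iv D16389) (iv F29053)
theorem F35265 : act 3 n19204 = n16387 := d13_1 D19204 (iv D16387) D16386
def n19205 : Q := act 1 n16388
theorem D19205 : act 1 n16388 = n19205 := rfl
def n19206 : Q := act 3 n16388
theorem D19206 : act 3 n16388 = n19206 := rfl
theorem F35266 : act 2 n19206 = n17747 := d15_2 D16388 D19206 F31883 (iv F29017) F29018 (iv F28286) (iv F34564) (iv D18894) F28281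
theorem F35267 : act 5 n17746 = n19206 := d11_0 F35266 (iv D17747) (iv F31882)
def n19207 : Q := act 5 n16388
theorem D19207 : act 5 n16388 = n19207 := rfl
theorem F35268 : act 2 n19207 = n16389 := d11_1 D19207 (iv D16389) D16388
theorem F35269 : act 3 n19207 = n17746 := d13_1 D19207 F35267 (iv D19206)
def n19208 : Q := act 4 n16389
theorem D19208 : act 4 n16389 = n19208 := rfl
theorem F35270 : act 0 n19208 = n17864 := d3_1 D19208 (iv F34565) F34562
theorem F35271 : act 5 n19208 = n17860 := d14_2 D16389 D19208 (iv D17860) (iv F28280) F28279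
def n19209 : Q := act 2 n16391
theorem D19209 : act 2 n16391 = n19209 := rfl
theorem F35272 : act 0 n19209 = n17746 := d1_1 D19209 F31882 (iv F29059)
theorem F35273 : act 1 n19209 = n18351 := d5_1 D19209 F33250 F33121 D18320 (iv F33173)
theorem F35274 : act 4 n19209 = n17735 := d10_2 (iv F29060) D19209 F31859
def n19210 : Q := act 5 n16391
theorem D19210 : act 5 n16391 = n19210 := rfl
theorem F35275 : act 0 n19210 = n17747 := d4_1 D19210 (iv D17747) (iv F29059)
theorem F35276 : act 1 n19210 = n18675 := d8_1 D19210 F34031 (iv F33173)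
theorem F35277 : act 3 n19210 = n16392 := d13_1 D19210 (iv D16392) D16391
def n19211 : Q := act 3 n16393
theorem D19211 : act 3 n16393 = n19211 := rfl
theorem F35278 : act 1 n19211 = n17676 := d6_1 D19211 F31721 (iv F29065)
theorem F35279 : act 4 n19211 = n16394 := d12_2 D16393 D19211 (iv D16394) (iv D13335) (iv F22667)
theorem F35280 : act 5 n19211 = n16399 := d13_2 (iv F29067) D19211 (iv D16399)
def n19212 : Q := act 2 n16394
theorem D19212 : act 2 n16394 = n19212 := rfl
theorem F35281 : act 5 n19212 = n16395 := d11_2 (iv F29068) D19212 (iv D16395)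
def n19213 : Q := act 1 n16395
theorem D19213 : act 1 n16395 = n19213 := rfl
theorem F35282 : act 4 n19213 = n16401 := d7_2 (iv F29069) D19213 (iv D16401)
def n19214 : Q := act 3 n16395
theorem D19214 : act 3 n16395 = n19214 := rfl
theorem F35283 : act 4 n19214 = n18773 := d12_2 (iv F29069) D19214 (iv D18773) F29090 (iv D16402)
def n19215 : Q := act 2 n16399
theorem D19215 : act 2 n16399 = n19215 := rfl
theorem F35284 : act 0 n19215 = n18944 := d1_1 D19215 F35257 F35254
theorem F35285 : act 1 n19215 = n18952 := d5_1 D19215 F34728 (iv F31725) F31726 (iv F29084)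
theorem F35286 : act 4 n19215 = n16400 := d10_2 (iv F29085) D19215 (iv D16400)
def n19216 : Q := act 1 n16400
theorem D19216 : act 1 n16400 = n19216 := rfl
theorem F35287 : act 0 n19216 = n18948 := d0_1 D19216 (iv D18948) F28436 D16193 (iv F29086)
theorem F35288 : act 2 n19216 = n17990 := d5_2 D16400 D19216 (iv D17990) (iv D14958) (iv F22675)
theorem F35289 : act 4 n19216 = n18952 := d7_2 F35286 D19216 (iv F35285)
theorem F35290 : act 5 n19216 = n16401 := d8_2 (iv F29087) D19216 (iv D16401)
def n19217 : Q := act 0 n16401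
theorem D19217 : act 0 n16401 = n19217 := rfl
theorem F35291 : act 1 n19217 = n18950 := d0_2 D16401 D19217 F34721 (iv F29026) F29025
theorem F35292 : act 2 n19217 = n18962 := d1_2 F34474 D19217 F34751
theorem F35293 : act 5 n19217 = n18948 := d4_2 F35290 D19217 (iv F35287)
theorem F35294 : act 3 n19048 = n19217 := d6_0 F35291 F34723 D19048
def n19218 : Q := act 3 n16401
theorem D19218 : act 3 n16401 = n19218 := rfl
theorem F35295 : act 0 n19218 = n19048 := d2_1 D19218 F35294 (iv D19217)
theorem F35296 : act 1 n19218 = n16402 := d6_1 D19218 (iv D16402) D16401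
theorem F35297 : act 4 n18772 = n19218 := d7_0 F35296 (iv F29090) D18772
def n19219 : Q := act 4 n16403
theorem D19219 : act 4 n16403 = n19219 := rfl
theorem F35298 : act 1 n19219 = n19042 := d7_1 D19219 (iv D19042) F29093
theorem F35299 : act 2 n19219 = n16404 := d10_1 D19219 (iv D16404) D16403
def n19220 : Q := act 5 n16404
theorem D19220 : act 5 n16404 = n19220 := rfl
theorem F35300 : act 0 n19220 = n18775 := d4_1 D19220 F35235 F35233
theorem F35301 : act 1 n19220 = n16499 := d8_1 D19220 F29290 (iv F29094)
theorem F35302 : act 3 n19220 = n16408 := d13_1 D19220 (iv D16408) (iv F29095)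
theorem F35303 : act 4 n19220 = n16471 := d14_1 D19220 F29227 F22780 (iv F22678) D16404
def n19221 : Q := act 2 n16405
theorem D19221 : act 2 n16405 = n19221 := rfl
theorem F35304 : act 0 n19221 = n16406 := d1_1 D19221 (iv D16406) (iv F29096)
theorem F35305 : act 3 n19221 = n16438 := d9_2 D16405 D19221 (iv D16438) (iv D13367) (iv D10488) (iv D8121) (iv F13460) D10484 D13361 D16429 (iv F35044) (iv D19103) F28743 F22381 (iv F22679)
theorem F35306 : act 5 n19221 = n16427 := d11_2 (iv F29097) D19221 (iv D16427)
def n19222 : Q := act 4 n16405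
theorem D19222 : act 4 n16405 = n19222 := rfl
theorem F35307 : act 0 n19222 = n16407 := d3_1 D19222 (iv D16407) (iv F29096)
theorem F35308 : act 3 n19222 = n16492 := d12_1 D19222 (iv D16492) F22820 (iv F22680) D16405
theorem F35309 : act 5 n19222 = n18733 := d14_2 (iv F29097) D19222 (iv D18733) (iv D15854) (iv F22712)
def n19223 : Q := act 3 n16406
theorem D19223 : act 3 n16406 = n19223 := rfl
theorem F35310 : act 0 n19223 = n16438 := d2_1 D19223 (iv F35305) F35304
theorem F35311 : act 2 n19223 = n16437 := d9_1 D19223 (iv D16437) (iv D13366) (iv D10487) (iv F17535) D13360 D16427 (iv F35057) (iv D19111) (iv D16270) F22390 F17288 (iv F17506) D13344 D16406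
theorem F35312 : act 5 n19223 = n16429 := d13_2 (iv F29098) D19223 (iv D16429)
def n19224 : Q := act 4 n16406
theorem D19224 : act 4 n16406 = n19224 := rfl
theorem F35313 : act 2 n19224 = n16407 := d10_1 D19224 (iv D16407) D16406
def n19225 : Q := act 5 n16407
theorem D19225 : act 5 n16407 = n19225 := rfl
theorem F35314 : act 0 n19225 = n18733 := d4_1 D19225 (iv F35309) F35307
theorem F35315 : act 1 n19225 = n16408 := d8_1 D19225 (iv D16408) (iv F29099)
theorem F35316 : act 3 n19225 = n16499 := d13_1 D19225 F29290 (iv F29100)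
theorem F35317 : act 4 n19225 = n16431 := d14_1 D19225 (iv D16431) (iv D13362) (iv F22683) D16407
def n19226 : Q := act 2 n16411
theorem D19226 : act 2 n16411 = n19226 := rfl
theorem F35318 : act 0 n19226 = n16412 := d1_1 D19226 (iv D16412) (iv F29111)
theorem F35319 : act 4 n19226 = n18005 := d10_2 (iv F29113) D19226 (iv D18005)
def n19227 : Q := act 3 n16412
theorem D19227 : act 3 n16412 = n19227 := rfl
theorem F35320 : act 1 n19227 = n16519 := d6_1 D19227 F29332 (iv F29114)
theorem F35321 : act 5 n19227 = n16518 := d13_2 F35224 D19227 (iv F35223)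
def n19228 : Q := act 4 n16412
theorem D19228 : act 4 n16412 = n19228 := rfl
theorem F35322 : act 0 n19228 = n18005 := d3_1 D19228 (iv F35319) F35318
theorem F35323 : act 1 n19228 = n16548 := d7_1 D19228 (iv D16548) (iv F29114)
theorem F35324 : act 2 n19228 = n16413 := d10_1 D19228 (iv D16413) D16412
theorem F35325 : act 3 n18051 = n19228 := d15_1 (iv F32531) F35324 F29117 F22753 F19556 (iv F19879) D14866 D17898 F32217
theorem F35326 : act 5 n19228 = n18050 := d13_2 D18051 F35325 (iv D18050)
def n19229 : Q := act 5 n16413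
theorem D19229 : act 5 n16413 = n19229 := rfl
theorem F35327 : act 0 n19229 = n18006 := d4_1 D19229 (iv D18006) (iv F29115)
theorem F35328 : act 1 n19229 = n16414 := d8_1 D19229 (iv D16414) (iv F29116)
theorem F35329 : act 2 n19229 = n18050 := d11_1 D19229 (iv F35326) F35324
theorem F35330 : act 3 n19229 = n16465 := d13_1 D19229 (iv D16465) (iv F29117)
def n19230 : Q := act 4 n16416
theorem D19230 : act 4 n16416 = n19230 := rfl
def n19231 : Q := act 4 n16417
theorem D19231 : act 4 n16417 = n19231 := rfl
theorem F35331 : act 1 n19231 = n19230 := d7_1 D19231 (iv D19230) (iv F29123)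
theorem F35332 : act 2 n19231 = n16418 := d10_1 D19231 (iv D16418) (iv F29121)
def n19232 : Q := act 2 n16420
theorem D19232 : act 2 n16420 = n19232 := rfl
theorem F35333 : act 0 n19232 = n17665 := d1_1 D19232 F31688 (iv F29132)
theorem F35334 : act 4 n19232 = n17664 := d10_2 F29134 D19232 F31684
theorem F35335 : act 1 n19132 = n19232 := d7_3 F35334 F31683 D19132
def n19233 : Q := act 5 n16420
theorem D19233 : act 5 n16420 = n19233 := rfl
theorem F35336 : act 0 n19233 = n16749 := d4_1 D19233 F29825 (iv F29132)
theorem F35337 : act 1 n19233 = n16424 := d8_1 D19233 (iv D16424) (iv F29133)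
theorem F35338 : act 3 n19233 = n16421 := d13_1 D19233 (iv D16421) D16420
def n19234 : Q := act 1 n16422
theorem D19234 : act 1 n16422 = n19234 := rfl
theorem F35339 : act 0 n19234 = n19125 := d0_1 D19234 F35087 F28775 D16415 (iv F29139)
theorem F35340 : act 2 n19234 = n19132 := d5_2 D16422 D19234 F35335 (iv D19232) F29133
theorem F35341 : act 4 n19123 = n19234 := d10_0 F35340 (iv D19132) (iv F35085)
def n19235 : Q := act 4 n16422
theorem D19235 : act 4 n16422 = n19235 := rfl
theorem F35342 : act 0 n19235 = n18678 := d3_1 D19235 F34038 (iv F29139)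
theorem F35343 : act 1 n19235 = n19123 := d7_1 D19235 F35341 (iv D19234)
theorem F35344 : act 2 n19235 = n16423 := d10_1 D19235 (iv D16423) D16422
def n19236 : Q := act 5 n16423
theorem D19236 : act 5 n16423 = n19236 := rfl
theorem F35345 : act 0 n19236 = n18676 := d4_1 D19236 F34033 (iv F29140)
theorem F35346 : act 1 n19236 = n18682 := d8_1 D19236 (iv D18682) (iv F29141)
theorem F35347 : act 3 n19236 = n16426 := d13_1 D19236 (iv D16426) (iv F29142)
def n19237 : Q := act 4 n16424
theorem D19237 : act 4 n16424 = n19237 := rfl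
theorem F35348 : act 3 n19237 = n17748 := d12_1 D19237 (iv D17748) F25379 (iv F22703) (iv F29143)
def n19238 : Q := act 5 n16425
theorem D19238 : act 5 n16425 = n19238 := rfl
theorem F35349 : act 0 n19238 = n18418 := d4_1 D19238 (iv D18418) (iv F29144)
theorem F35350 : act 1 n19238 = n16426 := d8_1 D19238 (iv D16426) (iv F29145)
theorem F35351 : act 2 n19238 = n18416 := d11_1 D19238 (iv D18416) (iv F29146)
theorem F35352 : act 3 n19238 = n18682 := d13_1 D19238 (iv D18682) (iv F29147)
theorem F35353 : act 4 n19238 = n17766 := d14_1 D19238 (iv D17766) (iv D14726) (iv F22709) D16425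
def n19239 : Q := act 1 n16427
theorem D19239 : act 1 n16427 = n19239 := rfl
theorem F35354 : act 4 n19239 = n18730 := d7_2 (iv F29151) D19239 (iv D18730)
def n19240 : Q := act 0 n16428
theorem D19240 : act 0 n16428 = n19240 := rfl
theorem F35355 : act 2 n19240 = n16432 := d1_2 (iv F29152) D19240 (iv D16432)
def n19241 : Q := act 3 n16428
theorem D19241 : act 3 n16428 = n19241 := rfl
theorem F35356 : act 1 n19241 = n16429 := d6_1 D19241 (iv D16429) D16428
def n19242 : Q := act 4 n16428
theorem D19242 : act 4 n16428 = n19242 := rfl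
theorem F35357 : act 1 n19242 = n16430 := d7_1 D19242 (iv D16430) D16428
theorem F35358 : act 2 n19242 = n16433 := d10_1 D19242 (iv D16433) (iv F29152)
def n19243 : Q := act 4 n16429
theorem D19243 : act 4 n16429 = n19243 := rfl
def n19244 : Q := act 3 n16430
theorem D19244 : act 3 n16430 = n19244 := rfl
theorem F35359 : act 0 n19244 = n18731 := d2_1 D19244 (iv D18731) (iv F29153)
theorem F35360 : act 2 n19244 = n18738 := d15_2 (iv F29154) D19244 F34142 F27893 F21625 (iv F21622) (iv F27891) (iv D15854) (iv F22713)
theorem F35361 : act 5 n18736 = n19244 := d11_0 F35360 (iv D18738) D18736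
def n19245 : Q := act 5 n16430
theorem D19245 : act 5 n16430 = n19245 := rfl
theorem F35362 : act 0 n19245 = n18732 := d4_1 D19245 (iv D18732) (iv F29153)
theorem F35363 : act 2 n19245 = n16431 := d11_1 D19245 (iv D16431) (iv F29154)
theorem F35364 : act 3 n19245 = n18736 := d13_1 D19245 F35361 (iv D19244)
def n19246 : Q := act 5 n16433
theorem D19246 : act 5 n16433 = n19246 := rfl
theorem F35365 : act 1 n19246 = n16435 := d8_1 D19246 (iv D16435) (iv F29160)
def n19247 : Q := act 2 n16434
theorem D19247 : act 2 n16434 = n19247 := rfl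
theorem F35366 : act 4 n19247 = n17862 := d10_2 F34600 D19247 (iv F34599)
theorem F35367 : act 3 n19247 = n17729 := d15_3 (iv F22716) D16434 D19247 F31846 F25329 (iv F22758) (iv F29119) (iv D16414) F22696
theorem F35368 : act 5 n17728 = n19247 := d13_0 F35367 (iv D17729) D17728
def n19248 : Q := act 5 n16434
theorem D19248 : act 5 n16434 = n19248 := rfl
theorem F35369 : act 2 n19248 = n17728 := d11_1 D19248 F35368 (iv D19247)
theorem F35370 : act 3 n19248 = n16435 := d13_1 D19248 (iv D16435) D16434
def n19249 : Q := act 3 n16436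
theorem D19249 : act 3 n16436 = n19249 := rfl
theorem F35371 : act 1 n19249 = n16437 := d6_1 D19249 (iv D16437) D16436
def n19250 : Q := act 4 n16437
theorem D19250 : act 4 n16437 = n19250 := rfl
theorem F35372 : act 0 n19250 = n16439 := d3_1 D19250 (iv D16439) (iv F29164)
theorem F35373 : act 3 n19250 = n16494 := d12_1 D19250 (iv D16494) (iv D13418) (iv F22719) D16437
def n19251 : Q := act 1 n16438
theorem D19251 : act 1 n16438 = n19251 := rfl
theorem F35374 : act 2 n19251 = n16555 := d5_2 D16438 D19251 F29394 (iv F28256) F28254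
def n19252 : Q := act 4 n16438
theorem D19252 : act 4 n16438 = n19252 := rfl
theorem F35375 : act 2 n19252 = n16439 := d10_1 D19252 (iv D16439) D16438
def n19253 : Q := act 5 n16439
theorem D19253 : act 5 n16439 = n19253 := rfl
theorem F35376 : act 3 n19253 = n16504 := d13_1 D19253 (iv D16504) (iv F29165)
def n19254 : Q := act 2 n16440
theorem D19254 : act 2 n16440 = n19254 := rfl
def n19255 : Q := act 4 n16440
theorem D19255 : act 4 n16440 = n19255 := rfl
theorem F35377 : act 1 n19255 = n16441 := d7_1 D19255 (iv D16441) (iv F29166)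
def n19256 : Q := act 5 n16441
theorem D19256 : act 5 n16441 = n19256 := rfl
theorem F35378 : act 0 n19256 = n16444 := d4_1 D19256 (iv D16444) (iv F29167)
def n19257 : Q := act 5 n16443
theorem D19257 : act 5 n16443 = n19257 := rfl
theorem F35379 : act 1 n19257 = n18203 := d8_1 D19257 (iv F33314) F33312
theorem F35380 : act 2 n19257 = n16444 := d11_1 D19257 (iv D16444) (iv F29168)
theorem F35381 : act 3 n19257 = n17799 := d13_1 D19257 (iv F33311) F33310
def n19258 : Q := act 0 n16445
theorem D19258 : act 0 n16445 = n19258 := rfl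
theorem F35382 : act 2 n19258 = n16449 := d1_2 (iv F29169) D19258 (iv D16449)
def n19259 : Q := act 3 n16445
theorem D19259 : act 3 n16445 = n19259 := rfl
theorem F35383 : act 1 n19259 = n16446 := d6_1 D19259 (iv D16446) D16445
def n19260 : Q := act 5 n16445
theorem D19260 : act 5 n16445 = n19260 := rfl
theorem F35384 : act 1 n19260 = n16447 := d8_1 D19260 (iv D16447) D16445
theorem F35385 : act 2 n19260 = n16451 := d11_1 D19260 (iv D16451) (iv F29169)
def n19261 : Q := act 2 n16446
theorem D19261 : act 2 n16446 = n19261 := rfl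
theorem F35386 : act 0 n19261 = n16461 := d1_1 D19261 (iv F33791) F33790
theorem F35387 : act 3 n19261 = n16456 := d9_2 D16446 D19261 F29185 F22733 (iv F21365) (iv F27571) (iv F33795) F33796 (iv D16459) (iv D13381) (iv D10497) (iv D8130) (iv F13473) D10491 D13372
theorem F35388 : act 4 n16752 = n19261 := d12_0 F35387 (iv F29807) (iv F29830) F29831 D16752
theorem F35389 : act 5 n16455 = n19261 := d13_0 F35387 (iv D16456) D16455
def n19262 : Q := act 4 n16446
theorem D19262 : act 4 n16446 = n19262 := rfl
theorem F35390 : act 0 n19262 = n16753 := d3_1 D19262 F33792 F33790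
theorem F35391 : act 2 n19262 = n16752 := d10_1 D19262 F35388 (iv D19261)
theorem F35392 : act 3 n19262 = n17483 := d12_1 D19262 F33781 F33780 F27563 D16446
def n19263 : Q := act 5 n16446
theorem D19263 : act 5 n16446 = n19263 := rfl
theorem F35393 : act 0 n19263 = n16459 := d4_1 D19263 F33793 F33790
theorem F35394 : act 2 n19263 = n16455 := d11_1 D19263 F35389 (iv D19261)
theorem F35395 : act 3 n19263 = n16447 := d13_1 D19263 (iv D16447) D16446
def n19264 : Q := act 4 n16447
theorem D19264 : act 4 n16447 = n19264 := rfl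
theorem F35396 : act 2 n19264 = n16448 := d10_1 D19264 (iv D16448) (iv F29170)
def n19265 : Q := act 3 n16449
theorem D19265 : act 3 n16449 = n19265 := rfl
theorem F35397 : act 0 n19265 = n16450 := d2_1 D19265 (iv D16450) D16449
theorem F35398 : act 1 n19265 = n18783 := d6_1 D19265 (iv F35212) F35210
theorem F35399 : act 5 n18771 = n19265 := d8_0 F35398 (iv D18783) (iv F34190)
def n19266 : Q := act 5 n16449
theorem D19266 : act 5 n16449 = n19266 := rfl
theorem F35400 : act 0 n19266 = n16451 := d4_1 D19266 (iv D16451) D16449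
theorem F35401 : act 1 n19266 = n18782 := d8_1 D19266 (iv F35214) F35210
theorem F35402 : act 3 n19266 = n18771 := d13_1 D19266 F35399 (iv D19265)
def n19267 : Q := act 2 n16450
theorem D19267 : act 2 n16450 = n19267 := rfl
theorem F35403 : act 1 n19267 = n18765 := d5_1 D19267 F34182 F27922 (iv F22724) (iv F29173)
theorem F35404 : act 5 n19267 = n18763 := d11_2 F29174 D19267 F34181
def n19268 : Q := act 4 n16450
theorem D19268 : act 4 n16450 = n19268 := rfl
theorem F35405 : act 1 n19268 = n16452 := d7_1 D19268 (iv D16452) (iv F29173)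
def n19269 : Q := act 4 n16451
theorem D19269 : act 4 n16451 = n19269 := rfl
theorem F35406 : act 1 n19269 = n16453 := d7_1 D19269 (iv D16453) (iv F29175)
def n19270 : Q := act 5 n16452
theorem D19270 : act 5 n16452 = n19270 := rfl
theorem F35407 : act 0 n19270 = n18781 := d4_1 D19270 F34197 (iv F29177)
theorem F35408 : act 2 n19270 = n18770 := d11_1 D19270 F34189 (iv F29178)
theorem F35409 : act 4 n19270 = n18769 := d14_1 D19270 (iv D18769) F27925 (iv F22725) D16452
def n19271 : Q := act 3 n16453
theorem D19271 : act 3 n16453 = n19271 := rfl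
theorem F35410 : act 0 n19271 = n18779 := d2_1 D19271 F34194 (iv F29179)
theorem F35411 : act 4 n19271 = n18768 := d12_2 D16453 D19271 (iv D18768) F27925 (iv F22728)
def n19272 : Q := act 0 n16454
theorem D19272 : act 0 n16454 = n19272 := rfl
theorem F35412 : act 1 n19272 = n16457 := d0_2 D16454 D19272 (iv D16457) (iv D13380) (iv F22729)
theorem F35413 : act 2 n19272 = n17359 := d1_2 (iv F29181) D19272 (iv D17359)
theorem F35414 : act 4 n19272 = n16631 := d3_2 (iv F29182) D19272 (iv D16631)
theorem F35415 : act 5 n18807 = n19272 := d8_0 F35412 F29188 D18807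
def n19273 : Q := act 3 n16454
theorem D19273 : act 3 n16454 = n19273 := rfl
theorem F35416 : act 1 n19273 = n16455 := d6_1 D19273 (iv D16455) D16454
def n19274 : Q := act 5 n16454
theorem D19274 : act 5 n16454 = n19274 := rfl
theorem F35417 : act 0 n19274 = n18807 := d4_1 D19274 F35415 (iv D19272)
theorem F35418 : act 1 n19274 = n16456 := d8_1 D19274 (iv D16456) D16454
theorem F35419 : act 2 n19274 = n17361 := d11_1 D19274 (iv D17361) (iv F29181)
def n19275 : Q := act 1 n16459
theorem D19275 : act 1 n16459 = n19275 := rfl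
def n19276 : Q := act 4 n16459
theorem D19276 : act 4 n16459 = n19276 := rfl
theorem F35420 : act 2 n19276 = n16460 := d10_1 D19276 (iv D16460) D16459
def n19277 : Q := act 2 n16463
theorem D19277 : act 2 n16463 = n19277 := rfl
theorem F35421 : act 0 n19277 = n16464 := d1_1 D19277 (iv D16464) (iv F29200)
theorem F35422 : act 4 n19277 = n17373 := d10_2 (iv F29202) D19277 F31072
theorem F35423 : act 5 n19277 = n16627 := d11_2 (iv F29203) D19277 F29538
def n19278 : Q := act 3 n16464
theorem D19278 : act 3 n16464 = n19278 := rfl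
theorem F35424 : act 1 n19278 = n17381 := d6_1 D19278 (iv D17381) (iv F29204)
theorem F35425 : act 5 n19278 = n16630 := d13_2 (iv F29206) D19278 (iv D16630)
def n19279 : Q := act 2 n16466
theorem D19279 : act 2 n16466 = n19279 := rfl
theorem F35426 : act 0 n19279 = n16487 := d1_1 D19279 (iv D16487) (iv F29211)
theorem F35427 : act 4 n19279 = n17778 := d10_2 (iv F29213) D19279 (iv D17778)
def n19280 : Q := act 2 n16467
theorem D19280 : act 2 n16467 = n19280 := rfl
theorem F35428 : act 0 n19280 = n17710 := d1_1 D19280 (iv D17710) (iv F29214)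
theorem F35429 : act 4 n19280 = n17708 := d10_2 (iv F29216) D19280 (iv D17708)
def n19281 : Q := act 5 n16467
theorem D19281 : act 5 n16467 = n19281 := rfl
theorem F35430 : act 0 n19281 = n17711 := d4_1 D19281 (iv D17711) (iv F29214)
theorem F35431 : act 1 n19281 = n16470 := d8_1 D19281 (iv D16470) (iv F29215)
theorem F35432 : act 3 n19281 = n16468 := d13_1 D19281 (iv D16468) D16467
def n19282 : Q := act 1 n16469
theorem D19282 : act 1 n16469 = n19282 := rfl
theorem F35433 : act 4 n19282 = n17723 := d7_2 (iv F29222) D19282 (iv D17723)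
def n19283 : Q := act 3 n16469
theorem D19283 : act 3 n16469 = n19283 := rfl
theorem F35434 : act 0 n19283 = n17728 := d2_1 D19283 (iv D17728) (iv F29221)
def n19284 : Q := act 5 n16469
theorem D19284 : act 5 n16469 = n19284 := rfl
theorem F35435 : act 0 n19284 = n17729 := d4_1 D19284 (iv D17729) (iv F29221)
theorem F35436 : act 2 n19284 = n16470 := d11_1 D19284 (iv D16470) D16469
def n19285 : Q := act 4 n16470
theorem D19285 : act 4 n16470 = n19285 := rfl
theorem F35437 : act 0 n19285 = n17730 := d3_1 D19285 (iv D17730) (iv F29223)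
theorem F35438 : act 3 n19285 = n18770 := d12_1 D19285 (iv D18770) F27927 (iv F22773) (iv F29224)
theorem F35439 : act 5 n19285 = n17726 := d14_2 D16470 D19285 (iv D17726) (iv D14679) (iv F22770)
def n19286 : Q := act 2 n16471
theorem D19286 : act 2 n16471 = n19286 := rfl
theorem F35440 : act 0 n19286 = n18774 := d1_1 D19286 F34191 (iv F29225)
theorem F35441 : act 5 n19286 = n16472 := d11_2 (iv F29227) D19286 (iv D16472)
theorem F35442 : act 3 n19286 = n18778 := d15_1 D19286 (iv D18778) (iv D15889) (iv D12834) (iv D10053) (iv F16768) D12832 D15887 (iv F29225)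
def n19287 : Q := act 1 n16472
theorem D19287 : act 1 n16472 = n19287 := rfl
theorem F35443 : act 2 n19287 = n16496 := d5_2 D16472 D19287 (iv D16496) (iv D13421) (iv F22779)
theorem F35444 : act 4 n19287 = n16473 := d7_2 (iv F29229) D19287 (iv D16473)
theorem F35445 : act 0 n19049 = n19287 := d3_3 F35444 F29233 D19049
def n19288 : Q := act 3 n16472
theorem D19288 : act 3 n16472 = n19288 := rfl
theorem F35446 : act 0 n19288 = n18773 := d2_1 D19288 (iv D18773) (iv F29228)
theorem F35447 : act 5 n19288 = n18778 := d13_2 F35441 D19288 (iv F35442)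
theorem F35448 : act 2 n19288 = n18780 := d15_2 D16472 D19288 F34195 F27931 F21674 (iv F21672) (iv F27929) (iv D15887) (iv F22778)
def n19289 : Q := act 2 n16474
theorem D19289 : act 2 n16474 = n19289 := rfl
theorem F35449 : act 0 n19289 = n16476 := d1_1 D19289 (iv D16476) (iv F29234)
theorem F35450 : act 3 n19289 = n18105 := d9_2 D16474 D19289 F32653 (iv F28328) F28327 D16056 (iv F28331) (iv F25054) (iv F31554) (iv F32611) F32610 D18097 (iv F34629) F34630 F28337
theorem F35451 : act 1 n18106 = n19289 := d6_3 F35450 (iv D18105) D18106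
def n19290 : Q := act 4 n16474
theorem D19290 : act 4 n16474 = n19290 := rfl
theorem F35452 : act 0 n19290 = n16477 := d3_1 D19290 (iv D16477) (iv F29234)
theorem F35453 : act 1 n19290 = n18081 := d7_1 D19290 F32599 F31551
theorem F35454 : act 3 n19290 = n16481 := d12_1 D19290 (iv D16481) (iv D13404) (iv F22784) D16474
theorem F35455 : act 5 n17099 = n19290 := d13_0 F35454 F29252 D17099
def n19291 : Q := act 4 n16475
theorem D19291 : act 4 n16475 = n19291 := rfl
theorem F35456 : act 0 n19291 = n16478 := d3_1 D19291 (iv D16478) (iv F29235)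
theorem F35457 : act 1 n19291 = n18080 := d7_1 D19291 (iv D18080) (iv F29236)
theorem F35458 : act 2 n19291 = n19122 := d10_1 D19291 F35083 (iv F34625)
theorem F35459 : act 5 n19291 = n16482 := d14_2 D16475 D19291 (iv D16482) (iv D13405) (iv F22784)
def n19292 : Q := act 3 n16476
theorem D19292 : act 3 n16476 = n19292 := rfl
theorem F35460 : act 0 n19292 = n18105 := d2_1 D19292 (iv F35450) F35449
theorem F35461 : act 1 n19292 = n18089 := d6_1 D19292 F32615 (iv F29237)
theorem F35462 : act 5 n19292 = n18088 := d13_2 F31555 D19292 F32611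
theorem F35463 : act 2 n19292 = n18098 := d15_2 D16476 D19292 (iv F34620) F34619 D18912 (iv F34625) (iv F31559) F31560 F29234
theorem F35464 : act 4 n18113 = n19292 := d10_0 F35463 F32641 (iv F32665)
def n19293 : Q := act 4 n16476
theorem D19293 : act 4 n16476 = n19293 := rfl
theorem F35465 : act 1 n19293 = n18103 := d7_1 D19293 (iv D18103) (iv F29237)
theorem F35466 : act 2 n19293 = n16477 := d10_1 D19293 (iv D16477) D16476
theorem F35467 : act 5 n17104 = n19293 := d11_0 F35466 (iv F29240) D17104
def n19294 : Q := act 3 n16478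
theorem D19294 : act 3 n16478 = n19294 := rfl
theorem F35468 : act 1 n19294 = n16480 := d6_1 D19294 (iv D16480) (iv F29241)
theorem F35469 : act 4 n19294 = n17103 := d12_2 D16478 D19294 F31563 (iv D17606) F25054
theorem F35470 : act 5 n19294 = n16483 := d13_2 (iv F29243) D19294 (iv D16483)
def n19295 : Q := act 2 n16480
theorem D19295 : act 2 n16480 = n19295 := rfl
theorem F35471 : act 0 n19295 = n18075 := d1_1 D19295 F32580 (iv F29247)
theorem F35472 : act 4 n19295 = n18069 := d10_2 F31565 D19295 F32569
theorem F35473 : act 5 n19295 = n16484 := d11_2 (iv F29248) D19295 (iv D16484)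
def n19296 : Q := act 3 n16482
theorem D19296 : act 3 n16482 = n19296 := rfl
theorem F35474 : act 0 n19296 = n16483 := d2_1 D19296 (iv D16483) (iv F29253)
theorem F35475 : act 1 n19296 = n17315 := d6_1 D19296 (iv F30950) (iv F29254)
theorem F35476 : act 4 n19296 = n16628 := d12_2 D16482 D19296 F29541 F23839 (iv F22797)
theorem F35477 : act 2 n16629 = n19296 := d10_3 F35476 (iv D16628) D16629
def n19297 : Q := act 2 n16483
theorem D19297 : act 2 n16483 = n19297 := rfl
theorem F35478 : act 0 n19297 = n16629 := d1_1 D19297 F35477 F35474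
theorem F35479 : act 4 n19297 = n16626 := d10_2 (iv F29256) D19297 F29535
theorem F35480 : act 1 n17334 = n19297 := d7_3 F35479 F29534 (iv F30987)
def n19298 : Q := act 1 n16484
theorem D19298 : act 1 n16484 = n19298 := rfl
theorem F35481 : act 0 n19298 = n17327 := d0_1 D19298 (iv D17327) (iv F24456) (iv F26201) (iv F29257)
theorem F35482 : act 2 n19298 = n17334 := d5_2 D16484 D19298 F35480 (iv D19297) F29255
theorem F35483 : act 4 n19298 = n16972 := d7_2 (iv F29258) D19298 (iv D16972)
def n19299 : Q := act 3 n16484
theorem D19299 : act 3 n16484 = n19299 := rfl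
theorem F35484 : act 0 n19299 = n18074 := d2_1 D19299 (iv D18074) (iv F29257)
theorem F35485 : act 2 n19299 = n17457 := d9_1 D19299 (iv D17457) F24760 (iv F19342) (iv F20242) (iv F26203) (iv F32580) (iv F35080) (iv D19121) (iv D16280) F22410 F17303 (iv F17616) D13409 D16484
theorem F35486 : act 4 n19299 = n18070 := d12_2 (iv F29258) D19299 (iv D18070) (iv D15076) (iv F23844)
def n19300 : Q := act 2 n16485
theorem D19300 : act 2 n16485 = n19300 := rfl
theorem F35487 : act 0 n19300 = n17778 := d1_1 D19300 (iv D17778) (iv F29259)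
theorem F35488 : act 4 n19300 = n16487 := d10_2 (iv F29261) D19300 (iv D16487)
theorem F35489 : act 3 n19300 = n18394 := d15_1 D19300 F33329 F26980 F20848 (iv F19650) (iv F25455) (iv F31954) (iv D17779) (iv F29259)
theorem F35490 : act 5 n18393 = n19300 := d13_0 F35489 (iv D18394) D18393
def n19301 : Q := act 5 n16485
theorem D19301 : act 5 n16485 = n19301 := rfl
theorem F35491 : act 0 n19301 = n17779 := d4_1 D19301 (iv D17779) (iv F29259)
theorem F35492 : act 1 n19301 = n16490 := d8_1 D19301 (iv D16490) (iv F29260)
theorem F35493 : act 2 n19301 = n18393 := d11_1 D19301 F35490 (iv D19300)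
theorem F35494 : act 3 n19301 = n16486 := d13_1 D19301 (iv D16486) D16485
def n19302 : Q := act 1 n16487
theorem D19302 : act 1 n16487 = n19302 := rfl
theorem F35495 : act 2 n19302 = n16491 := d5_2 D16487 D19302 (iv D16491) (iv D13415) (iv F22811)
theorem F35496 : act 0 n19044 = n19302 := d1_3 F35495 F29272 D19044
def n19303 : Q := act 3 n16487
theorem D19303 : act 3 n16487 = n19303 := rfl
def n19304 : Q := act 5 n16487
theorem D19304 : act 5 n16487 = n19304 := rfl
theorem F35497 : act 2 n19304 = n16488 := d11_1 D19304 (iv D16488) D16487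
def n19305 : Q := act 4 n16488
theorem D19305 : act 4 n16488 = n19305 := rfl
theorem F35498 : act 1 n19305 = n16492 := d7_1 D19305 (iv D16492) (iv F29266)
def n19306 : Q := act 1 n16489
theorem D19306 : act 1 n16489 = n19306 := rfl
theorem F35499 : act 0 n19306 = n19045 := d0_1 D19306 F34940 F29285 (iv D16496) (iv F29268)
theorem F35500 : act 4 n19306 = n16491 := d7_2 (iv F29269) D19306 (iv D16491)
theorem F35501 : act 3 n19054 = n19306 := d12_5 F35500 F29273 F28623 D16204 D19054
def n19307 : Q := act 3 n16489
theorem D19307 : act 3 n16489 = n19307 := rfl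
theorem F35502 : act 0 n19307 = n16497 := d2_1 D19307 (iv D16497) (iv F29268)
theorem F35503 : act 1 n19307 = n19054 := d6_1 D19307 F35501 (iv D19306)
theorem F35504 : act 4 n19307 = n19028 := d12_2 (iv F29269) D19307 F34908 F28614 F28395
def n19308 : Q := act 5 n16489
theorem D19308 : act 5 n16489 = n19308 := rfl
theorem F35505 : act 0 n19308 = n16498 := d4_1 D19308 (iv D16498) (iv F29268)
theorem F35506 : act 2 n19308 = n16490 := d11_1 D19308 (iv D16490) D16489
def n19309 : Q := act 4 n16490
theorem D19309 : act 4 n16490 = n19309 := rfl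
theorem F35507 : act 0 n19309 = n16499 := d3_1 D19309 (iv D16499) (iv F29270)
theorem F35508 : act 3 n19309 = n18733 := d12_1 D19309 (iv D18733) F27891 (iv F22817) (iv F29271)
theorem F35509 : act 5 n19309 = n16492 := d14_2 D16490 D19309 (iv D16492) (iv D13416) (iv F22814)
def n19310 : Q := act 2 n16493
theorem D19310 : act 2 n16493 = n19310 := rfl
theorem F35510 : act 1 n19310 = n18714 := d5_1 D19310 (iv D18714) F27872 (iv F22822) (iv F29275)
theorem F35511 : act 5 n19310 = n18745 := d11_2 (iv F29276) D19310 F34156
def n19311 : Q := act 4 n16493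
theorem D19311 : act 4 n16493 = n19311 := rfl
theorem F35512 : act 1 n19311 = n16494 := d7_1 D19311 (iv D16494) (iv F29275)
def n19312 : Q := act 5 n16494
theorem D19312 : act 5 n16494 = n19312 := rfl
theorem F35513 : act 0 n19312 = n16504 := d4_1 D19312 (iv D16504) (iv F29277)
theorem F35514 : act 2 n19312 = n18716 := d11_1 D19312 (iv D18716) (iv F29278)
theorem F35515 : act 4 n19312 = n18750 := d14_1 D19312 (iv D18750) (iv D15866) (iv F22823) D16494
def n19313 : Q := act 5 n16496
theorem D19313 : act 5 n16496 = n19313 := rfl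
theorem F35516 : act 0 n19313 = n19050 := d4_1 D19313 (iv D19050) F29285
theorem F35517 : act 1 n19313 = n16498 := d8_1 D19313 (iv D16498) D16496
theorem F35518 : act 3 n19313 = n19026 := d13_1 D19313 F34899 F29286
def n19314 : Q := act 4 n16498
theorem D19314 : act 4 n16498 = n19314 := rfl
theorem F35519 : act 2 n19314 = n16499 := d10_1 D19314 (iv D16499) (iv F29289)
theorem F35520 : act 5 n19314 = n16501 := d14_2 D16498 D19314 (iv D16501) (iv D13425) (iv F22831)
def n19315 : Q := act 4 n16500
theorem D19315 : act 4 n16500 = n19315 := rfl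
theorem F35521 : act 0 n19315 = n19051 := d3_1 D19315 (iv D19051) (iv F29291)
theorem F35522 : act 1 n19315 = n16501 := d7_1 D19315 (iv D16501) (iv F29292)
theorem F35523 : act 2 n19315 = n19042 := d10_1 D19315 (iv D19042) (iv F29293)
def n19316 : Q := act 3 n16501
theorem D19316 : act 3 n16501 = n19316 := rfl
def n19317 : Q := act 0 n16502
theorem D19317 : act 0 n16502 = n19317 := rfl
theorem F35524 : act 1 n19317 = n18713 := d0_2 D16502 D19317 F34112 F27872 (iv F22834)
theorem F35525 : act 3 n19317 = n18690 := d2_2 (iv F29296) D19317 (iv D18690)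
theorem F35526 : act 5 n19317 = n18726 := d4_2 (iv F29297) D19317 F34132
def n19318 : Q := act 4 n16502
theorem D19318 : act 4 n16502 = n19318 := rfl
theorem F35527 : act 1 n19318 = n16503 := d7_1 D19318 (iv D16503) D16502
def n19319 : Q := act 3 n16503
theorem D19319 : act 3 n16503 = n19319 := rfl
theorem F35528 : act 0 n19319 = n18712 := d2_1 D19319 F34111 (iv F29298)
theorem F35529 : act 4 n19319 = n18689 := d12_2 D16503 D19319 (iv D18689) F27835 (iv F22835)
def n19320 : Q := act 5 n16503
theorem D19320 : act 5 n16503 = n19320 := rfl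
theorem F35530 : act 0 n19320 = n18716 := d4_1 D19320 (iv D18716) (iv F29298)
theorem F35531 : act 2 n19320 = n16504 := d11_1 D19320 (iv D16504) (iv F29299)
theorem F35532 : act 4 n19320 = n18729 := d14_1 D19320 (iv D18729) (iv D15852) (iv F22836) D16503
def n19321 : Q := act 1 n16505
theorem D19321 : act 1 n16505 = n19321 := rfl
theorem F35533 : act 2 n19321 = n16518 := d5_2 D16505 D19321 (iv D16518) (iv D13442) (iv F22838)
theorem F35534 : act 4 n19321 = n18016 := d7_2 (iv F29301) D19321 (iv D18016)
theorem F35535 : act 3 n16505 = n19321 := d15_1 D16505 F35533 (iv F35223) F35222 F28966 F22651 (iv F22844) (iv D13432) (iv F22837)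
theorem F35536 : act 0 n19321 = n16508 := d2_1 F35535 (iv D16508) (iv F29300)
def n19322 : Q := act 5 n16505
theorem D19322 : act 5 n16505 = n19322 := rfl
theorem F35537 : act 0 n19322 = n16509 := d4_1 D19322 (iv D16509) (iv F29300)
theorem F35538 : act 2 n19322 = n16506 := d11_1 D19322 (iv D16506) D16505
def n19323 : Q := act 4 n16506
theorem D19323 : act 4 n16506 = n19323 := rfl
theorem F35539 : act 0 n19323 = n16510 := d3_1 D19323 (iv D16510) (iv F29302)
theorem F35540 : act 1 n19323 = n16520 := d7_1 D19323 (iv D16520) (iv F29303)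
theorem F35541 : act 5 n19323 = n18019 := d14_2 D16506 D19323 (iv D18019) (iv D14989) (iv F22839)
def n19324 : Q := act 0 n16507
theorem D19324 : act 0 n16507 = n19324 := rfl
theorem F35542 : act 1 n19324 = n16508 := d0_2 D16507 D19324 (iv F35536) (iv D19321) F29300
theorem F35543 : act 2 n19324 = n16513 := d1_2 (iv F29305) D19324 (iv D16513)
theorem F35544 : act 4 n19324 = n18809 := d3_2 (iv F29306) D19324 (iv D18809)
theorem F35545 : act 5 n19324 = n16564 := d4_2 F29307 D19324 F29411
theorem F35546 : act 3 n16507 = n19324 := d13_3 F35545 F29412 F29307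
def n19325 : Q := act 2 n16508
theorem D19325 : act 2 n16508 = n19325 := rfl
theorem F35547 : act 0 n19325 = n16518 := d1_1 D19325 (iv F35533) F35536
theorem F35548 : act 1 n19325 = n16525 := d5_1 D19325 F29339 (iv F29315) (iv F35543) F35542
def n19326 : Q := act 4 n16508
theorem D19326 : act 4 n16508 = n19326 := rfl
theorem F35549 : act 0 n19326 = n18016 := d3_1 D19326 (iv F35534) F35536
theorem F35550 : act 1 n19326 = n18809 := d7_1 D19326 (iv F35544) F35542
theorem F35551 : act 3 n19326 = n18811 := d12_1 D19326 (iv D18811) (iv D15930) (iv F22842) D16508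
def n19327 : Q := act 5 n16508
theorem D19327 : act 5 n16508 = n19327 := rfl
theorem F35552 : act 1 n19327 = n16564 := d8_1 D19327 (iv F35545) F35542
theorem F35553 : act 3 n19327 = n16509 := d13_1 D19327 (iv D16509) D16508
def n19328 : Q := act 4 n16509
theorem D19328 : act 4 n16509 = n19328 := rfl
theorem F35554 : act 1 n19328 = n16567 := d7_1 D19328 (iv D16567) (iv F29308)
theorem F35555 : act 2 n19328 = n16510 := d10_1 D19328 (iv D16510) (iv F29309)
theorem F35556 : act 5 n19328 = n18812 := d14_2 D16509 D19328 (iv D18812) (iv D15931) (iv F22842)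
def n19329 : Q := act 3 n16510
theorem D19329 : act 3 n16510 = n19329 := rfl
theorem F35557 : act 1 n19329 = n16514 := d6_1 D19329 (iv D16514) (iv F29310)
theorem F35558 : act 4 n19329 = n16511 := d12_2 D16510 D19329 (iv D16511) (iv D13433) (iv F22844)
theorem F35559 : act 5 n19329 = n18052 := d13_2 (iv F29311) D19329 F32533
def n19330 : Q := act 2 n16511
theorem D19330 : act 2 n16511 = n19330 := rfl
theorem F35560 : act 5 n19330 = n16512 := d11_2 (iv F29313) D19330 (iv D16512)
def n19331 : Q := act 1 n16512
theorem D19331 : act 1 n16512 = n19331 := rfl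
theorem F35561 : act 2 n19331 = n16516 := d5_2 D16512 D19331 (iv D16516) (iv D13438) (iv F22847)
theorem F35562 : act 4 n19331 = n18049 := d7_2 (iv F29314) D19331 (iv D18049)
def n19332 : Q := act 3 n16512
theorem D19332 : act 3 n16512 = n19332 := rfl
def n19333 : Q := act 2 n16514
theorem D19333 : act 2 n16514 = n19333 := rfl
theorem F35563 : act 0 n19333 = n16545 := d1_1 D19333 (iv D16545) (iv F29319)
theorem F35564 : act 4 n19333 = n16515 := d10_2 (iv F29320) D19333 (iv D16515)
theorem F35565 : act 5 n19333 = n18057 := d11_2 (iv F29321) D19333 F32536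
theorem F35566 : act 3 n19333 = n16545 := d15_1 D19333 (iv D16545) (iv D13461) (iv F22895) (iv F29359) F29358 D16536 F29363 (iv F29319)
def n19334 : Q := act 1 n16515
theorem D19334 : act 1 n16515 = n19334 := rfl
theorem F35567 : act 3 n19334 = n16547 := d6_2 (iv F29323) D19334 (iv D16547)
theorem F35568 : act 5 n19334 = n16516 := d8_2 (iv F29324) D19334 (iv D16516)
def n19335 : Q := act 4 n16519
theorem D19335 : act 4 n16519 = n19335 := rfl
theorem F35569 : act 0 n19335 = n16530 := d3_1 D19335 (iv D16530) (iv F29330)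
theorem F35570 : act 2 n19335 = n16520 := d10_1 D19335 (iv D16520) (iv F29331)
def n19336 : Q := act 0 n16521
theorem D19336 : act 0 n16521 = n19336 := rfl
theorem F35571 : act 2 n19336 = n16531 := d1_2 (iv F29334) D19336 (iv D16531)
theorem F35572 : act 4 n19336 = n16525 := d3_2 (iv F29335) D19336 (iv D16525)
def n19337 : Q := act 3 n16521
theorem D19337 : act 3 n16521 = n19337 := rfl
theorem F35573 : act 1 n19337 = n16522 := d6_1 D19337 (iv D16522) D16521
def n19338 : Q := act 5 n16521
theorem D19338 : act 5 n16521 = n19338 := rfl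
theorem F35574 : act 1 n19338 = n16523 := d8_1 D19338 (iv D16523) D16521
theorem F35575 : act 2 n19338 = n16533 := d11_1 D19338 (iv D16533) (iv F29334)
def n19339 : Q := act 4 n16522
theorem D19339 : act 4 n16522 = n19339 := rfl
theorem F35576 : act 3 n19339 = n16528 := d12_1 D19339 (iv D16528) (iv D13447) (iv F22869) D16522
def n19340 : Q := act 4 n16523
theorem D19340 : act 4 n16523 = n19340 := rfl
theorem F35577 : act 2 n19340 = n16524 := d10_1 D19340 (iv D16524) (iv F29336)
theorem F35578 : act 5 n19340 = n16530 := d14_2 D16523 D19340 (iv D16530) (iv D13448) (iv F22869)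
def n19341 : Q := act 3 n16525
theorem D19341 : act 3 n16525 = n19341 := rfl
theorem F35579 : act 0 n19341 = n16526 := d2_1 D19341 (iv D16526) D16525
def n19342 : Q := act 5 n16525
theorem D19342 : act 5 n16525 = n19342 := rfl
theorem F35580 : act 0 n19342 = n16527 := d4_1 D19342 (iv D16527) D16525
theorem F35581 : act 2 n19342 = n16541 := d11_1 D19342 (iv D16541) (iv F29339)
def n19343 : Q := act 2 n16526
theorem D19343 : act 2 n16526 = n19343 := rfl
def n19344 : Q := act 4 n16526
theorem D19344 : act 4 n16526 = n19344 := rfl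
theorem F35582 : act 1 n19344 = n16528 := d7_1 D19344 (iv D16528) (iv F29340)
def n19345 : Q := act 5 n16526
theorem D19345 : act 5 n16526 = n19345 := rfl
theorem F35583 : act 1 n19345 = n16529 := d8_1 D19345 (iv D16529) (iv F29340)
theorem F35584 : act 3 n19345 = n16527 := d13_1 D19345 (iv D16527) D16526
def n19346 : Q := act 4 n16527
theorem D19346 : act 4 n16527 = n19346 := rfl
theorem F35585 : act 1 n19346 = n16530 := d7_1 D19346 (iv D16530) (iv F29341)
theorem F35586 : act 2 n19346 = n16544 := d10_1 D19346 (iv D16544) (iv F29342)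
def n19347 : Q := act 5 n16528
theorem D19347 : act 5 n16528 = n19347 := rfl
def n19348 : Q := act 3 n16530
theorem D19348 : act 3 n16530 = n19348 := rfl
def n19349 : Q := act 3 n16531
theorem D19349 : act 3 n16531 = n19349 := rfl
theorem F35587 : act 0 n19349 = n16532 := d2_1 D19349 (iv D16532) D16531
theorem F35588 : act 1 n19349 = n16560 := d6_1 D19349 F29401 (iv F29347)
theorem F35589 : act 5 n16558 = n19349 := d8_0 F35588 (iv D16560) (iv F29396)
def n19350 : Q := act 5 n16531
theorem D19350 : act 5 n16531 = n19350 := rfl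
theorem F35590 : act 0 n19350 = n16533 := d4_1 D19350 (iv D16533) D16531
theorem F35591 : act 1 n19350 = n16559 := d8_1 D19350 (iv F29399) (iv F29347)
theorem F35592 : act 3 n19350 = n16558 := d13_1 D19350 F35589 (iv D19349)
def n19351 : Q := act 2 n16532
theorem D19351 : act 2 n16532 = n19351 := rfl
theorem F35593 : act 1 n19351 = n16552 := d5_1 D19351 F29388 F22902 (iv F22877) (iv F29349)
theorem F35594 : act 5 n19351 = n16550 := d11_2 F29350 D19351 F29384
def n19352 : Q := act 4 n16532
theorem D19352 : act 4 n16532 = n19352 := rfl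
theorem F35595 : act 1 n19352 = n16534 := d7_1 D19352 (iv D16534) (iv F29349)
theorem F35596 : act 3 n19352 = n16543 := d12_1 D19352 (iv D16543) (iv D13457) (iv F22875) D16532
theorem F35597 : act 5 n19352 = n16543 := d14_2 F29350 D19352 (iv D16543) (iv F22889) (iv F22907)
def n19353 : Q := act 4 n16533
theorem D19353 : act 4 n16533 = n19353 := rfl
theorem F35598 : act 1 n19353 = n16535 := d7_1 D19353 (iv D16535) (iv F29351)
theorem F35599 : act 3 n19353 = n16544 := d12_1 D19353 (iv D16544) F22891 (iv F22907) (iv F29352)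
theorem F35600 : act 5 n19353 = n16544 := d14_2 D16533 D19353 (iv D16544) (iv D13458) (iv F22875)
def n19354 : Q := act 2 n16536
theorem D19354 : act 2 n16536 = n19354 := rfl
theorem F35601 : act 0 n19354 = n18057 := d1_1 D19354 F32536 (iv F29361)
theorem F35602 : act 3 n19354 = n18057 := d9_2 D16536 D19354 F32536 F26041 (iv F22917) F22918 (iv F22853) D16514 D19333 F35566 (iv D16545) (iv D13461) (iv F22895) (iv F29359) F29358
theorem F35603 : act 4 n19354 = n16537 := d10_2 (iv F29362) D19354 (iv D16537)
theorem F35604 : act 5 n19354 = n16545 := d11_2 (iv F29363) D19354 (iv D16545)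
def n19355 : Q := act 1 n16537
theorem D19355 : act 1 n16537 = n19355 := rfl
theorem F35605 : act 3 n19355 = n18060 := d6_2 (iv F29366) D19355 (iv D18060)
theorem F35606 : act 5 n19355 = n16538 := d8_2 (iv F29365) D19355 (iv D16538)
def n19356 : Q := act 2 n16540
theorem D19356 : act 2 n16540 = n19356 := rfl
theorem F35607 : act 0 n19356 = n16542 := d1_1 D19356 (iv D16542) (iv F29371)
theorem F35608 : act 5 n19356 = n16554 := d11_2 F29373 D19356 F29393
def n19357 : Q := act 4 n16540
theorem D19357 : act 4 n16540 = n19357 := rfl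
theorem F35609 : act 0 n19357 = n16543 := d3_1 D19357 (iv D16543) (iv F29371)
theorem F35610 : act 1 n19357 = n16566 := d7_1 D19357 (iv D16566) (iv F29372)
def n19358 : Q := act 4 n16541
theorem D19358 : act 4 n16541 = n19358 := rfl
theorem F35611 : act 0 n19358 = n16544 := d3_1 D19358 (iv D16544) (iv F29374)
theorem F35612 : act 1 n19358 = n16565 := d7_1 D19358 (iv D16565) (iv F29375)
def n19359 : Q := act 4 n16542
theorem D19359 : act 4 n16542 = n19359 := rfl
theorem F35613 : act 1 n19359 = n16557 := d7_1 D19359 (iv D16557) (iv F29377)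
theorem F35614 : act 2 n19359 = n16543 := d10_1 D19359 (iv D16543) D16542
def n19360 : Q := act 1 n16545
theorem D19360 : act 1 n16545 = n19360 := rfl
theorem F35615 : act 4 n19360 = n16546 := d7_2 (iv F29381) D19360 (iv D16546)
def n19361 : Q := act 3 n16548
theorem D19361 : act 3 n16548 = n19361 := rfl
theorem F35616 : act 1 n19361 = n18051 := d6_1 D19361 F35325 F35323
theorem F35617 : act 2 n19361 = n18055 := d15_2 (iv F29383) D19361 (iv F34416) F34415 F28126 (iv F28644) (iv F34981) (iv D19073) F28642
theorem F35618 : act 5 n18049 = n19361 := d11_0 F35617 (iv D18055) (iv F32530)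
def n19362 : Q := act 5 n16548
theorem D19362 : act 5 n16548 = n19362 := rfl
theorem F35619 : act 1 n19362 = n18050 := d8_1 D19362 (iv F35326) F35323
theorem F35620 : act 2 n19362 = n16549 := d11_1 D19362 (iv D16549) (iv F29383)
theorem F35621 : act 3 n19362 = n18049 := d13_1 D19362 F35618 (iv D19361)
def n19363 : Q := act 0 n16550
theorem D19363 : act 0 n16550 = n19363 := rfl
theorem F35622 : act 1 n19363 = n17212 := d0_2 D16550 D19363 (iv D17212) (iv D14141) (iv F22899)
theorem F35623 : act 2 n19363 = n16558 := d1_2 (iv F29384) D19363 (iv D16558)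
theorem F35624 : act 4 n19363 = n16554 := d3_2 (iv F29385) D19363 (iv D16554)
def n19364 : Q := act 3 n16550
theorem D19364 : act 3 n16550 = n19364 := rfl
theorem F35625 : act 1 n19364 = n16551 := d6_1 D19364 (iv D16551) D16550
def n19365 : Q := act 2 n16551
theorem D19365 : act 2 n16551 = n19365 := rfl
theorem F35626 : act 0 n19365 = n17215 := d1_1 D19365 (iv D17215) (iv F29386)
theorem F35627 : act 3 n19365 = n16860 := d9_2 D16551 D19365 F30073 F23629 F18201 (iv F18653) (iv F24214) (iv F30739) F30738 (iv D14768) (iv D11707) (iv D9100) (iv F13588) D10569 D13470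
theorem F35628 : act 5 n16859 = n19365 := d13_0 F35627 (iv D16860) D16859
def n19366 : Q := act 4 n16551
theorem D19366 : act 4 n16551 = n19366 := rfl
theorem F35629 : act 0 n19366 = n17216 := d3_1 D19366 (iv D17216) (iv F29386)
theorem F35630 : act 3 n19366 = n16556 := d12_1 D19366 (iv D16556) (iv D13473) (iv F22900) D16551
def n19367 : Q := act 5 n16551
theorem D19367 : act 5 n16551 = n19367 := rfl
theorem F35631 : act 0 n19367 = n17217 := d4_1 D19367 (iv D17217) (iv F29386)
theorem F35632 : act 2 n19367 = n16859 := d11_1 D19367 F35628 (iv D19365)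
theorem F35633 : act 3 n19367 = n16552 := d13_1 D19367 (iv D16552) D16551
def n19368 : Q := act 4 n16552
theorem D19368 : act 4 n16552 = n19368 := rfl
theorem F35634 : act 0 n19368 = n17218 := d3_1 D19368 (iv D17218) (iv F29387)
theorem F35635 : act 2 n19368 = n16553 := d10_1 D19368 (iv D16553) (iv F29388)
theorem F35636 : act 5 n19368 = n16557 := d14_2 D16552 D19368 (iv D16557) (iv D13474) (iv F22900)
def n19369 : Q := act 3 n16554
theorem D19369 : act 3 n16554 = n19369 := rfl
theorem F35637 : act 0 n19369 = n16555 := d2_1 D19369 (iv D16555) D16554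
def n19370 : Q := act 4 n16555
theorem D19370 : act 4 n16555 = n19370 := rfl
theorem F35638 : act 1 n19370 = n16556 := d7_1 D19370 (iv D16556) (iv F29394)
def n19371 : Q := act 5 n16556
theorem D19371 : act 5 n16556 = n19371 := rfl
def n19372 : Q := act 3 n16557
theorem D19372 : act 3 n16557 = n19372 := rfl
theorem F35639 : act 0 n19372 = n17794 := d2_1 D19372 (iv F34510) F34507
theorem F35640 : act 2 n19372 = n17792 := d9_1 D19372 (iv D17792) F25510 D15047 (iv F28225) F28226 (iv F30741) (iv F30742) F30685 (iv F25516) F25515 (iv F26112) (iv F28203) F28204 (iv F29395)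
def n19373 : Q := act 2 n16559
theorem D19373 : act 2 n16559 = n19373 := rfl
theorem F35641 : act 0 n19373 = n16561 := d1_1 D19373 (iv D16561) (iv F29398)
theorem F35642 : act 5 n19373 = n18809 := d11_2 F29399 D19373 F34294
theorem F35643 : act 3 n19373 = n17549 := d15_1 D19373 (iv D17549) (iv D14512) (iv F24208) (iv F28856) F28855 F22916 F22914 (iv F29398)
def n19374 : Q := act 4 n16559
theorem D19374 : act 4 n16559 = n19374 := rfl
theorem F35644 : act 0 n19374 = n16562 := d3_1 D19374 (iv D16562) (iv F29398)
theorem F35645 : act 3 n19374 = n16565 := d12_1 D19374 (iv D16565) (iv D13484) (iv F22912) D16559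
theorem F35646 : act 5 n19374 = n16565 := d14_2 F29399 D19374 (iv D16565) (iv F29318) F29317
def n19375 : Q := act 4 n16560
theorem D19375 : act 4 n16560 = n19375 := rfl
theorem F35647 : act 0 n19375 = n16563 := d3_1 D19375 (iv D16563) (iv F29400)
theorem F35648 : act 2 n19375 = n17223 := d10_1 D19375 (iv F35141) F35139
theorem F35649 : act 3 n19375 = n16566 := d12_1 D19375 (iv D16566) (iv F29316) F29317 (iv F29401)
theorem F35650 : act 5 n19375 = n16566 := d14_2 D16560 D19375 (iv D16566) (iv D13485) (iv F22912)
def n19376 : Q := act 3 n16561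
theorem D19376 : act 3 n16561 = n19376 := rfl
theorem F35651 : act 0 n19376 = n17549 := d2_1 D19376 (iv F35643) F35641
theorem F35652 : act 1 n19376 = n18020 := d6_1 D19376 F32449 (iv F29402)
theorem F35653 : act 5 n19376 = n18810 := d13_2 (iv F29403) D19376 (iv D18810)
theorem F35654 : act 2 n19376 = n17548 := d15_2 D16561 D19376 (iv D17548) (iv F30729) (iv F35140) F35139 F29401 F29399 F29398
def n19377 : Q := act 4 n16561
theorem D19377 : act 4 n16561 = n19377 := rfl
theorem F35655 : act 1 n19377 = n18812 := d7_1 D19377 (iv D18812) (iv F29402)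
theorem F35656 : act 2 n19377 = n16562 := d10_1 D19377 (iv D16562) D16561
theorem F35657 : act 5 n19377 = n16567 := d14_2 (iv F29403) D19377 (iv D16567) F29307 F29306
def n19378 : Q := act 4 n16564
theorem D19378 : act 4 n16564 = n19378 := rfl
theorem F35658 : act 0 n19378 = n16567 := d3_1 D19378 (iv D16567) (iv F29411)
theorem F35659 : act 2 n19378 = n16565 := d10_1 D19378 (iv D16565) D16564
def n19379 : Q := act 3 n16567
theorem D19379 : act 3 n16567 = n19379 := rfl
def n19380 : Q := act 5 n16569
theorem D19380 : act 5 n16569 = n19380 := rfl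
theorem F35660 : act 0 n19380 = n19079 := d4_1 D19380 (iv F35249) F35245
theorem F35661 : act 1 n19380 = n17680 := d8_1 D19380 F31733 (iv F29420)
theorem F35662 : act 2 n19380 = n16570 := d11_1 D19380 (iv D16570) (iv F29421)
theorem F35663 : act 3 n19380 = n17679 := d13_1 D19380 (iv F31730) F29422
theorem F35664 : act 4 n19380 = n17840 := d14_1 D19380 (iv D17840) (iv D14811) (iv F22932) D16569
def n19381 : Q := act 2 n16571
theorem D19381 : act 2 n16571 = n19381 := rfl
theorem F35665 : act 0 n19381 = n16572 := d1_1 D19381 (iv D16572) (iv F29427)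
theorem F35666 : act 5 n19381 = n16592 := d11_2 (iv F29429) D19381 F29463
def n19382 : Q := act 4 n16571
theorem D19382 : act 4 n16571 = n19382 := rfl
theorem F35667 : act 0 n19382 = n16573 := d3_1 D19382 (iv D16573) (iv F29427)
theorem F35668 : act 1 n19382 = n16577 := d7_1 D19382 (iv D16577) (iv F29428)
def n19383 : Q := act 3 n16572
theorem D19383 : act 3 n16572 = n19383 := rfl
theorem F35669 : act 1 n19383 = n16596 := d6_1 D19383 F29471 (iv F29430)
theorem F35670 : act 5 n19383 = n16593 := d13_2 (iv F29431) D19383 (iv D16593)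
def n19384 : Q := act 4 n16572
theorem D19384 : act 4 n16572 = n19384 := rfl
theorem F35671 : act 1 n19384 = n16599 := d7_1 D19384 (iv D16599) (iv F29430)
theorem F35672 : act 2 n19384 = n16573 := d10_1 D19384 (iv D16573) D16572
def n19385 : Q := act 5 n16573
theorem D19385 : act 5 n16573 = n19385 := rfl
theorem F35673 : act 1 n19385 = n16575 := d8_1 D19385 (iv D16575) (iv F29432)
theorem F35674 : act 4 n19385 = n16603 := d14_1 D19385 (iv D16603) (iv D13518) F22936 D16573
def n19386 : Q := act 3 n16574
theorem D19386 : act 3 n16574 = n19386 := rfl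
theorem F35675 : act 1 n19386 = n16576 := d6_1 D19386 (iv D16576) (iv F29433)
theorem F35676 : act 4 n19386 = n16602 := d12_2 D16574 D19386 (iv D16602) (iv D13518) (iv F22938)
def n19387 : Q := act 2 n16576
theorem D19387 : act 2 n16576 = n19387 := rfl
theorem F35677 : act 0 n19387 = n16586 := d1_1 D19387 (iv D16586) (iv F29437)
theorem F35678 : act 4 n19387 = n16604 := d10_2 (iv F29438) D19387 (iv D16604)
def n19388 : Q := act 5 n16577
theorem D19388 : act 5 n16577 = n19388 := rfl
theorem F35679 : act 0 n19388 = n16580 := d4_1 D19388 (iv D16580) (iv F29439)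
def n19389 : Q := act 3 n16579
theorem D19389 : act 3 n16579 = n19389 := rfl
def n19390 : Q := act 3 n16581
theorem D19390 : act 3 n16581 = n19390 := rfl
theorem F35680 : act 1 n19390 = n16582 := d6_1 D19390 (iv D16582) (iv F29444)
theorem F35681 : act 4 n19390 = n16588 := d12_2 D16581 D19390 (iv D16588) (iv D13506) (iv F22945)
def n19391 : Q := act 5 n16582
theorem D19391 : act 5 n16582 = n19391 := rfl
theorem F35682 : act 0 n19391 = n16606 := d4_1 D19391 F29481 (iv F29445)
theorem F35683 : act 3 n19391 = n16583 := d13_1 D19391 (iv D16583) D16582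
theorem F35684 : act 4 n19391 = n18855 := d14_1 D19391 (iv D18855) F28137 (iv F22956) (iv F29446)
def n19392 : Q := act 3 n16584
theorem D19392 : act 3 n16584 = n19392 := rfl
theorem F35685 : act 0 n19392 = n16605 := d2_1 D19392 F29480 (iv F29450)
theorem F35686 : act 5 n19392 = n16585 := d13_2 (iv F29452) D19392 (iv D16585)
def n19393 : Q := act 2 n16585
theorem D19393 : act 2 n16585 = n19393 := rfl
theorem F35687 : act 0 n19393 = n16604 := d1_1 D19393 (iv D16604) (iv F29453)
theorem F35688 : act 4 n19393 = n16586 := d10_2 (iv F29454) D19393 (iv D16586)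
def n19394 : Q := act 1 n16586
theorem D19394 : act 1 n16586 = n19394 := rfl
def n19395 : Q := act 3 n16586
theorem D19395 : act 3 n16586 = n19395 := rfl
theorem F35689 : act 2 n19395 = n17444 := d15_2 D16586 D19395 (iv D17444) F24747 (iv F19304) (iv F25003) D17571 F31494 F29437
def n19396 : Q := act 2 n16587
theorem D19396 : act 2 n16587 = n19396 := rfl
theorem F35690 : act 0 n19396 = n18406 := d1_1 D19396 (iv F34084) F34081
theorem F35691 : act 1 n19396 = n18118 := d5_1 D19396 (iv F33529) F33528 (iv F33562) F33561
theorem F35692 : act 3 n19396 = n18117 := d9_2 D16587 D19396 F32675 (iv D15129) (iv F21590) (iv F27851) (iv F34086) (iv F35008) (iv D19085) (iv D16244) (iv D13166) (iv D10327) (iv F13623) D10600 D13505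
theorem F35693 : act 4 n19396 = n18404 := d10_2 (iv F29455) D19396 F33351
theorem F35694 : act 5 n19396 = n19080 := d11_2 (iv F33557) D19396 F34992
def n19397 : Q := act 2 n16588
theorem D19397 : act 2 n16588 = n19397 := rfl
theorem F35695 : act 5 n19397 = n18926 := d11_2 (iv F29457) D19397 (iv D18926)
def n19398 : Q := act 0 n16589
theorem D19398 : act 0 n16589 = n19398 := rfl
theorem F35696 : act 1 n19398 = n16592 := d0_2 D16589 D19398 (iv D16592) (iv D13511) (iv F22957)
theorem F35697 : act 2 n19398 = n17002 := d1_2 F34078 D19398 (iv F34077)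
theorem F35698 : act 3 n19398 = n17977 := d2_2 (iv F29458) D19398 (iv D17977)
def n19399 : Q := act 5 n16589
theorem D19399 : act 5 n16589 = n19399 := rfl
theorem F35699 : act 1 n19399 = n16590 := d8_1 D19399 (iv D16590) D16589
theorem F35700 : act 3 n19399 = n16611 := d13_1 D19399 F29490 (iv F29458)
def n19400 : Q := act 4 n16590
theorem D19400 : act 4 n16590 = n19400 := rfl
theorem F35701 : act 0 n19400 = n16599 := d3_1 D19400 (iv D16599) (iv F29459)
theorem F35702 : act 2 n19400 = n16591 := d10_1 D19400 (iv D16591) (iv F29460)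
def n19401 : Q := act 3 n16592
theorem D19401 : act 3 n16592 = n19401 := rfl
theorem F35703 : act 0 n19401 = n16593 := d2_1 D19401 (iv D16593) D16592
theorem F35704 : act 1 n19401 = n17977 := d6_1 D19401 (iv F35698) F35696
def n19402 : Q := act 4 n16592
theorem D19402 : act 4 n16592 = n19402 := rfl
theorem F35705 : act 0 n19402 = n16594 := d3_1 D19402 (iv D16594) D16592
theorem F35706 : act 2 n19402 = n16601 := d10_1 D19402 (iv D16601) (iv F29463)
def n19403 : Q := act 2 n16593
theorem D19403 : act 2 n16593 = n19403 := rfl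
theorem F35707 : act 1 n19403 = n17945 := d5_1 D19403 (iv D17945) F25797 (iv F22963) (iv F29464)
theorem F35708 : act 4 n18417 = n19403 := d7_0 F35707 F32289 D18417
def n19404 : Q := act 4 n16593
theorem D19404 : act 4 n16593 = n19404 := rfl
theorem F35709 : act 1 n19404 = n16595 := d7_1 D19404 (iv D16595) (iv F29464)
theorem F35710 : act 2 n19404 = n18417 := d10_1 D19404 F35708 (iv D19403)
def n19405 : Q := act 3 n16594
theorem D19405 : act 3 n16594 = n19405 := rfl
theorem F35711 : act 1 n19405 = n16597 := d6_1 D19405 (iv D16597) (iv F29465)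
def n19406 : Q := act 5 n16594
theorem D19406 : act 5 n16594 = n19406 := rfl
theorem F35712 : act 1 n19406 = n16598 := d8_1 D19406 (iv D16598) (iv F29465)
theorem F35713 : act 2 n19406 = n16603 := d11_1 D19406 (iv D16603) (iv F29466)
def n19407 : Q := act 3 n16595
theorem D19407 : act 3 n16595 = n19407 := rfl
theorem F35714 : act 0 n19407 = n17979 := d2_1 D19407 (iv D17979) (iv F29467)
theorem F35715 : act 4 n19407 = n16597 := d12_2 D16595 D19407 (iv D16597) (iv D13513) D13512
theorem F35716 : act 2 n19407 = n18754 := d15_2 (iv F29468) D19407 (iv D18754) (iv F32369) F32370 F25865 (iv F25855) (iv D14941) (iv F25849)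
def n19408 : Q := act 5 n16595
theorem D19408 : act 5 n16595 = n19408 := rfl
theorem F35717 : act 0 n19408 = n17980 := d4_1 D19408 (iv D17980) (iv F29467)
theorem F35718 : act 2 n19408 = n17976 := d11_1 D19408 (iv D17976) (iv F29468)
def n19409 : Q := act 4 n16596
theorem D19409 : act 4 n16596 = n19409 := rfl
theorem F35719 : act 0 n19409 = n16612 := d3_1 D19409 (iv D16612) (iv F29469)
theorem F35720 : act 2 n19409 = n16610 := d10_1 D19409 (iv D16610) (iv F29470)
def n19410 : Q := act 4 n16598
theorem D19410 : act 4 n16598 = n19410 := rfl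
theorem F35721 : act 2 n19410 = n16600 := d10_1 D19410 (iv D16600) (iv F29473)
theorem F35722 : act 5 n19410 = n16599 := d14_2 D16598 D19410 (iv D16599) (iv D13514) D13513
def n19411 : Q := act 3 n16599
theorem D19411 : act 3 n16599 = n19411 := rfl
def n19412 : Q := act 3 n16601
theorem D19412 : act 3 n16601 = n19412 := rfl
theorem F35723 : act 0 n19412 = n16602 := d2_1 D19412 (iv D16602) (iv F29477)
def n19413 : Q := act 5 n16601
theorem D19413 : act 5 n16601 = n19413 := rfl
theorem F35724 : act 0 n19413 = n16603 := d4_1 D19413 (iv D16603) (iv F29477)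
def n19414 : Q := act 2 n16602
theorem D19414 : act 2 n16602 = n19414 := rfl
def n19415 : Q := act 5 n16602
theorem D19415 : act 5 n16602 = n19415 := rfl
theorem F35725 : act 1 n19415 = n16605 := d8_1 D19415 (iv D16605) (iv F29478)
theorem F35726 : act 3 n19415 = n16603 := d13_1 D19415 (iv D16603) D16602
def n19416 : Q := act 1 n16604
theorem D19416 : act 1 n16604 = n19416 := rfl
def n19417 : Q := act 3 n16604
theorem D19417 : act 3 n16604 = n19417 := rfl
theorem F35727 : act 2 n19417 = n18851 := d15_2 D16604 D19417 F34425 F28132 F27821 (iv F29451) D19392 F35686 F29453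
theorem F35728 : act 5 n19417 = n18850 := d15_8 (iv D18854) (iv D15988) F21941 F16930 (iv F17749) D13519 D16604 D19417 (iv F34433)
def n19418 : Q := act 5 n16604
theorem D19418 : act 5 n16604 = n19418 := rfl
theorem F35729 : act 2 n19418 = n16605 := d11_1 D19418 (iv D16605) D16604
theorem F35730 : act 3 n19418 = n18850 := d13_1 D19418 (iv F35728) (iv D19417)
def n19419 : Q := act 4 n16605
theorem D19419 : act 4 n16605 = n19419 := rfl
def n19420 : Q := act 2 n16606
theorem D19420 : act 2 n16606 = n19420 := rfl
theorem F35731 : act 4 n19420 = n19417 := d10_2 F34426 D19420 F35727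
theorem F35732 : act 5 n19420 = n16607 := d11_2 (iv F29481) D19420 (iv D16607)
def n19421 : Q := act 1 n16607
theorem D19421 : act 1 n16607 = n19421 := rfl
theorem F35733 : act 4 n19421 = n16608 := d7_2 (iv F29482) D19421 (iv D16608)
theorem F35734 : act 3 n16607 = n19421 := d12_5 F35733 F29483 F28455 F28405 (iv F29482)
def n19422 : Q := act 2 n16609
theorem D19422 : act 2 n16609 = n19422 := rfl
theorem F35735 : act 0 n19422 = n17943 := d1_1 D19422 (iv D17943) (iv F29484)
theorem F35736 : act 5 n19422 = n17945 := d11_2 (iv F29486) D19422 (iv D17945)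
theorem F35737 : act 3 n19422 = n18110 := d15_1 D19422 (iv D18110) (iv D15113) (iv D12031) (iv D9382) (iv F15362) D11840 (iv F25791) (iv F29484)
def n19423 : Q := act 4 n16609
theorem D19423 : act 4 n16609 = n19423 := rfl
theorem F35738 : act 0 n19423 = n17944 := d3_1 D19423 (iv D17944) (iv F29484)
theorem F35739 : act 1 n19423 = n16610 := d7_1 D19423 (iv D16610) (iv F29485)
theorem F35740 : act 3 n19423 = n17858 := d12_1 D19423 (iv D17858) F25657 (iv F22974) D16609
theorem F35741 : act 5 n19423 = n18402 := d14_2 (iv F29486) D19423 F33347 F27019 (iv F25798)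
def n19424 : Q := act 5 n16610
theorem D19424 : act 5 n16610 = n19424 := rfl
theorem F35742 : act 0 n19424 = n16613 := d4_1 D19424 (iv D16613) (iv F29487)
theorem F35743 : act 1 n19424 = n18402 := d8_1 D19424 (iv F35741) F35739
theorem F35744 : act 3 n19424 = n17857 := d13_1 D19424 F32140 (iv F29488)
theorem F35745 : act 4 n19424 = n17976 := d14_1 D19424 (iv D17976) (iv D14938) (iv F22977) D16610
def n19425 : Q := act 0 n16611
theorem D19425 : act 0 n16611 = n19425 := rfl
theorem F35746 : act 2 n19425 = n16983 := d1_2 (iv F29489) D19425 F30305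
theorem F35747 : act 5 n19425 = n17977 := d4_2 (iv F29490) D19425 (iv D17977)
def n19426 : Q := act 4 n16611
theorem D19426 : act 4 n16611 = n19426 := rfl
theorem F35748 : act 1 n19426 = n16612 := d7_1 D19426 (iv D16612) D16611
theorem F35749 : act 2 n19426 = n16985 := d10_1 D19426 (iv D16985) (iv F29489)
def n19427 : Q := act 3 n16612
theorem D19427 : act 3 n16612 = n19427 := rfl
def n19428 : Q := act 5 n16612
theorem D19428 : act 5 n16612 = n19428 := rfl
theorem F35750 : act 2 n19428 = n16613 := d11_1 D19428 (iv D16613) (iv F29491)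
theorem F35751 : act 4 n19428 = n17980 := d14_1 D19428 (iv D17980) (iv D14940) (iv F22978) D16612
def n19429 : Q := act 2 n16614
theorem D19429 : act 2 n16614 = n19429 := rfl
theorem F35752 : act 0 n19429 = n16615 := d1_1 D19429 (iv D16615) (iv F29495)
theorem F35753 : act 3 n19429 = n16633 := d9_2 D16614 D19429 (iv D16633) (iv D13560) F17818 (iv F14703) (iv F19110) D14426 D17483 (iv F35392) F35391 (iv D16752) F23422 F18032 (iv F22981)
theorem F35754 : act 5 n19429 = n18595 := d11_2 F31287 D19429 F33809
def n19430 : Q := act 4 n16614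
theorem D19430 : act 4 n16614 = n19430 := rfl
theorem F35755 : act 0 n19430 = n16616 := d3_1 D19430 (iv D16616) (iv F29495)
theorem F35756 : act 1 n19430 = n17050 := d7_1 D19430 (iv D17050) (iv F29496)
theorem F35757 : act 3 n19430 = n16765 := d12_1 D19430 (iv D16765) F23463 (iv F22982) D16614
theorem F35758 : act 5 n19430 = n16772 := d14_2 F31287 D19430 F29895 D18582 (iv F33773)
def n19431 : Q := act 3 n16615
theorem D19431 : act 3 n16615 = n19431 := rfl
theorem F35759 : act 0 n19431 = n16633 := d2_1 D19431 (iv F35753) F35752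
theorem F35760 : act 2 n19431 = n16632 := d9_1 D19431 (iv D16632) F23081 (iv F19119) (iv F24795) D17482 (iv F33809) F33810 (iv D16753) (iv D13695) F18025 F13881 (iv F17754) D13529 D16615
theorem F35761 : act 5 n19431 = n19262 := d13_2 F31289 D19431 F35392
def n19432 : Q := act 4 n16615
theorem D19432 : act 4 n16615 = n19432 := rfl
theorem F35762 : act 2 n19432 = n16616 := d10_1 D19432 (iv D16616) D16615
theorem F35763 : act 5 n19432 = n18583 := d14_2 F31289 D19432 F33774 D18586 (iv F33781)
theorem F35764 : act 3 n17038 = n19432 := d15_3 (iv F18448) D13959 D17038 F35762 F29498 (iv F29847) F29848 (iv D13957) F18444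
def n19433 : Q := act 1 n16622
theorem D19433 : act 1 n16622 = n19433 := rfl
theorem F35765 : act 0 n19433 = n17018 := d0_1 D19433 F30389 F23967 (iv F23060) (iv F29521)
theorem F35766 : act 2 n19433 = n17015 := d5_2 D16622 D19433 F30382 F24010 (iv F23054)
theorem F35767 : act 3 n19433 = n16769 := d6_2 (iv F29522) D19433 F29888
theorem F35768 : act 4 n19433 = n16763 := d7_2 (iv F29523) D19433 F29868
theorem F35769 : act 5 n19433 = n17014 := d8_2 F31284 D19433 (iv F31280)
def n19434 : Q := act 3 n16623
theorem D19434 : act 3 n16623 = n19434 := rfl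
theorem F35770 : act 0 n19434 = n16624 := d2_1 D19434 (iv D16624) (iv F29524)
theorem F35771 : act 1 n19434 = n16747 := d6_1 D19434 (iv D16747) (iv F29525)
theorem F35772 : act 2 n19434 = n17085 := d9_1 D19434 F30502 F24014 F18496 (iv F17803) F17804 (iv F19580) D14702 (iv F30483) (iv D17074) (iv D13999) (iv D11017) (iv F17808) D13552 D16623
theorem F35773 : act 5 n19434 = n17083 := d13_2 (iv F29527) D19434 F30501
def n19435 : Q := act 2 n16624
theorem D19435 : act 2 n16624 = n19435 := rfl
theorem F35774 : act 0 n19435 = n17085 := d1_1 D19435 (iv F35772) F35770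
theorem F35775 : act 3 n19435 = n17076 := d9_2 D16624 D19435 F30487 F24008 (iv F23064) F23065 (iv F25375) (iv F30501) (iv D17083) (iv D14004) (iv D11019) (iv D8556) (iv F13697) D10640 D13553
theorem F35776 : act 5 n19435 = n17074 := d11_2 (iv F29529) D19435 F30483
def n19436 : Q := act 4 n16624
theorem D19436 : act 4 n16624 = n19436 := rfl
theorem F35777 : act 1 n19436 = n17748 := d7_1 D19436 (iv D17748) (iv F29528)
def n19437 : Q := act 4 n16625
theorem D19437 : act 4 n16625 = n19437 := rfl
theorem F35778 : act 0 n19437 = n17345 := d3_1 D19437 (iv D17345) (iv F29530)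
theorem F35779 : act 1 n19437 = n16627 := d7_1 D19437 (iv D16627) D16625
def n19438 : Q := act 3 n16627
theorem D19438 : act 3 n16627 = n19438 := rfl
theorem F35780 : act 0 n19438 = n16630 := d2_1 D19438 (iv D16630) (iv F29537)
def n19439 : Q := act 3 n16629
theorem D19439 : act 3 n16629 = n19439 := rfl
theorem F35781 : act 1 n19439 = n17320 := d6_1 D19439 (iv D17320) (iv F29543)
theorem F35782 : act 4 n19439 = n16630 := d12_2 D16629 D19439 (iv D16630) (iv D13557) D13556
theorem F35783 : act 2 n19439 = n19120 := d15_2 (iv F35477) D19439 (iv D19120) F28766 D16283 (iv F29242) D19294 F35470 (iv F35474)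
def n19440 : Q := act 5 n16629
theorem D19440 : act 5 n16629 = n19440 := rfl
theorem F35784 : act 1 n19440 = n17321 := d8_1 D19440 (iv D17321) (iv F29543)
theorem F35785 : act 4 n19440 = n17382 := d14_1 D19440 (iv D17382) (iv D14304) (iv F23077) D16629
def n19441 : Q := act 2 n16630
theorem D19441 : act 2 n16630 = n19441 := rfl
theorem F35786 : act 1 n19441 = n17666 := d5_1 D19441 (iv F32704) F32703 (iv D17383) (iv F29544)
theorem F35787 : act 4 n19441 = n19120 := d10_2 F35782 D19441 (iv F35783)
theorem F35788 : act 3 n19441 = n17665 := d15_3 (iv F23079) D16630 D19441 F31688 F29130 F29128 D16463 F29203 F23075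
def n19442 : Q := act 4 n16632
theorem D19442 : act 4 n16632 = n19442 := rfl
theorem F35789 : act 0 n19442 = n16634 := d3_1 D19442 (iv D16634) (iv F29547)
theorem F35790 : act 3 n19442 = n16776 := d12_1 D19442 F29904 F29591 F29187 D16632
theorem F35791 : act 5 n19442 = n16775 := d14_2 F29835 D19442 F29901 F35389 (iv F35388)
def n19443 : Q := act 4 n16633
theorem D19443 : act 4 n16633 = n19443 := rfl
theorem F35792 : act 2 n19443 = n16634 := d10_1 D19443 (iv D16634) D16633
theorem F35793 : act 5 n19443 = n19276 := d14_2 F29837 D19443 (iv D19276) F33793 (iv F33792)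
theorem F35794 : act 3 n17123 = n19443 := d15_3 (iv F18522) D14043 D17123 F35792 (iv F29551) (iv F29860) F29861 (iv D14041) F18520
def n19444 : Q := act 4 n16636
theorem D19444 : act 4 n16636 = n19444 := rfl
theorem F35795 : act 0 n19444 = n19237 := d3_1 D19444 (iv D19237) (iv F29553)
theorem F35796 : act 1 n19444 = n16637 := d7_1 D19444 (iv D16637) (iv F29554)
theorem F35797 : act 2 n19444 = n19230 := d10_1 D19444 (iv D19230) (iv F29555)
def n19445 : Q := act 3 n16637
theorem D19445 : act 3 n16637 = n19445 := rfl
def n19446 : Q := act 3 n16639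
theorem D19446 : act 3 n16639 = n19446 := rfl
theorem F35798 : act 0 n19446 = n16755 := d2_1 D19446 (iv D16755) (iv F29563)
theorem F35799 : act 1 n19446 = n17027 := d6_1 D19446 (iv D17027) (iv F29564)
theorem F35800 : act 4 n19446 = n18322 := d12_2 (iv F33030) D19446 (iv D18322) F26766 D18250
theorem F35801 : act 5 n19446 = n16978 := d13_2 (iv F29565) D19446 (iv D16978)
def n19447 : Q := act 3 n16640
theorem D19447 : act 3 n16640 = n19447 := rfl
theorem F35802 : act 0 n19447 = n16747 := d2_1 D19447 (iv D16747) (iv F29566)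
theorem F35803 : act 1 n19447 = n17733 := d6_1 D19447 F31855 (iv F29567)
theorem F35804 : act 2 n19447 = n17111 := d9_1 D19447 F30548 F24041 (iv F23095) F23094 (iv F23401) (iv F29821) F29822 (iv D14037) (iv D11043) F14213 (iv F13731) (iv F17844) D13571 D16640
theorem F35805 : act 4 n19447 = n19445 := d12_2 (iv F29568) D19447 (iv D19445) (iv D16637) (iv F23352)
theorem F35806 : act 5 n19447 = n17110 := d13_2 (iv F29569) D19447 F30545
def n19448 : Q := act 1 n16641
theorem D19448 : act 1 n16641 = n19448 := rfl
theorem F35807 : act 2 n19448 = n16764 := d5_2 D16641 D19448 F29872 F23462 (iv F23116)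
theorem F35808 : act 4 n19448 = n17032 := d7_2 (iv F29571) D19448 F30416
theorem F35809 : act 5 n19448 = n16642 := d8_2 (iv F29572) D19448 (iv D16642)
theorem F35810 : act 0 n19448 = n17044 := d15_9 (iv D17044) (iv D13967) F18459 D11000 D13980 D17056 F32831 F32830 (iv F35809)
def n19449 : Q := act 0 n16642
theorem D19449 : act 0 n16642 = n19449 := rfl
theorem F35811 : act 1 n19449 = n17026 := d0_2 D16642 D19449 F30405 F23929 (iv F23119)
theorem F35812 : act 2 n19449 = n16762 := d1_2 (iv F29573) D19449 (iv D16762)
theorem F35813 : act 4 n19449 = n16643 := d3_2 (iv F29574) D19449 (iv D16643)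
theorem F35814 : act 5 n19449 = n17044 := d4_2 F35809 D19449 (iv F35810)
def n19450 : Q := act 3 n16644
theorem D19450 : act 3 n16644 = n19450 := rfl
theorem F35815 : act 0 n19450 = n17555 := d2_1 D19450 F31465 (iv F29579)
theorem F35816 : act 1 n19450 = n18595 := d6_1 D19450 F33810 F29836
theorem F35817 : act 2 n19450 = n17040 := d15_2 D16644 D19450 (iv D17040) (iv D13961) (iv D10987) (iv F18168) D13773 F23584 (iv F23124)
theorem F35818 : act 4 n18594 = n19450 := d10_0 F35817 (iv F32325) (iv F33807)
def n19451 : Q := act 4 n16644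
theorem D19451 : act 4 n16644 = n19451 := rfl
theorem F35819 : act 0 n19451 = n18572 := d3_1 D19451 F33752 (iv F29579)
theorem F35820 : act 1 n19451 = n18590 := d7_1 D19451 (iv F33792) F29836
theorem F35821 : act 2 n19451 = n16645 := d10_1 D19451 (iv D16645) D16644
theorem F35822 : act 3 n19451 = n18589 := d12_1 D19451 F33789 D18594 F35818 (iv D19450)
theorem F35823 : act 5 n19275 = n19451 := d8_0 F35820 (iv F33793) D19275
def n19452 : Q := act 5 n16645
theorem D19452 : act 5 n16645 = n19452 := rfl
theorem F35824 : act 0 n19452 = n18573 := d4_1 D19452 (iv D18573) (iv F29580)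
theorem F35825 : act 1 n19452 = n16646 := d8_1 D19452 (iv D16646) (iv F29581)
theorem F35826 : act 2 n19452 = n19275 := d11_1 D19452 F35823 F35821
theorem F35827 : act 3 n19452 = n16896 := d13_1 D19452 (iv D16896) (iv F29582)
def n19453 : Q := act 4 n16647
theorem D19453 : act 4 n16647 = n19453 := rfl
theorem F35828 : act 0 n19453 = n16648 := d3_1 D19453 (iv D16648) D16647
theorem F35829 : act 1 n19453 = n19261 := d7_1 D19453 (iv F35388) F29834
theorem F35830 : act 2 n19453 = n18608 := d10_1 D19453 F33841 (iv F29586)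
theorem F35831 : act 3 n19274 = n19453 := d6_0 F35829 F35387 (iv F35418)
theorem F35832 : act 5 n19273 = n19453 := d8_0 F35829 (iv F35389) (iv F35416)
def n19454 : Q := act 5 n16648
theorem D19454 : act 5 n16648 = n19454 := rfl
theorem F35833 : act 0 n19454 = n19273 := d4_1 D19454 F35832 F35828
theorem F35834 : act 1 n19454 = n16649 := d8_1 D19454 (iv D16649) (iv F29587)
theorem F35835 : act 2 n19454 = n18607 := d11_1 D19454 F33840 (iv F29588)
theorem F35836 : act 3 n19454 = n19272 := d13_1 D19454 (iv F35415) F34290
def n19455 : Q := act 5 n16650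
theorem D19455 : act 5 n16650 = n19455 := rfl
theorem F35837 : act 1 n19455 = n16652 := d8_1 D19455 (iv D16652) D16650
theorem F35838 : act 2 n19455 = n16655 := d11_1 D19455 (iv D16655) (iv F29592)
theorem F35839 : act 4 n19455 = n18215 := d14_1 D19455 (iv D18215) (iv D15219) (iv F25503) (iv F29593)
def n19456 : Q := act 3 n16653
theorem D19456 : act 3 n16653 = n19456 := rfl
theorem F35840 : act 0 n19456 = n16654 := d2_1 D19456 (iv D16654) D16653
theorem F35841 : act 1 n19456 = n17792 := d6_1 D19456 (iv D17792) (iv F29599)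
theorem F35842 : act 4 n19456 = n18212 := d12_2 (iv F29600) D19456 (iv D18212) (iv D15217) (iv F25508)
def n19457 : Q := act 5 n16653
theorem D19457 : act 5 n16653 = n19457 := rfl
theorem F35843 : act 0 n19457 = n16655 := d4_1 D19457 (iv D16655) D16653
theorem F35844 : act 1 n19457 = n17793 := d8_1 D19457 (iv D17793) (iv F29599)
theorem F35845 : act 4 n19457 = n18211 := d14_1 D19457 (iv D18211) (iv D15216) (iv F25509) (iv F29600)
def n19458 : Q := act 2 n16654
theorem D19458 : act 2 n16654 = n19458 := rfl
theorem F35846 : act 4 n19458 = n18216 := d10_2 (iv F29602) D19458 (iv D18216)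
def n19459 : Q := act 2 n16656
theorem D19459 : act 2 n16656 = n19459 := rfl
theorem F35847 : act 0 n19459 = n16657 := d1_1 D19459 (iv D16657) (iv F29605)
theorem F35848 : act 1 n19459 = n17555 := d5_1 D19459 (iv D17555) F24975 (iv F23154) (iv F29606)
theorem F35849 : act 5 n19459 = n17561 := d11_2 (iv F29607) D19459 (iv D17561)
theorem F35850 : act 3 n19459 = n16835 := d15_1 D19459 (iv D16835) (iv D13771) F18164 (iv F17900) (iv F19128) D14430 F24808 (iv F29605)
def n19460 : Q := act 4 n16656
theorem D19460 : act 4 n16656 = n19460 := rfl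
theorem F35851 : act 0 n19460 = n16658 := d3_1 D19460 (iv D16658) (iv F29605)
theorem F35852 : act 1 n19460 = n16660 := d7_1 D19460 (iv D16660) (iv F29606)
theorem F35853 : act 3 n19460 = n16932 := d12_1 D19460 (iv D16932) (iv D13859) (iv F23146) D16656
def n19461 : Q := act 3 n16657
theorem D19461 : act 3 n16657 = n19461 := rfl
theorem F35854 : act 0 n19461 = n16835 := d2_1 D19461 (iv F35850) F35847
theorem F35855 : act 1 n19461 = n19262 := d6_1 D19461 F35392 F31288
theorem F35856 : act 2 n19461 = n16834 := d15_2 D16657 D19461 (iv D16834) F23578 (iv F23180) F23179 D14525 (iv F29607) F29605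
theorem F35857 : act 4 n19259 = n19461 := d7_0 F35855 (iv D19262) (iv F35383)
def n19462 : Q := act 4 n16657
theorem D19462 : act 4 n16657 = n19462 := rfl
theorem F35858 : act 1 n19462 = n18586 := d7_1 D19462 (iv F33781) F31288
theorem F35859 : act 2 n19462 = n16658 := d10_1 D19462 (iv D16658) D16657
theorem F35860 : act 3 n19462 = n18587 := d12_1 D19462 F33783 D19259 F35857 (iv D19461)
theorem F35861 : act 5 n18584 = n19462 := d8_0 F35858 (iv D18586) D18584
def n19463 : Q := act 5 n16658
theorem D19463 : act 5 n16658 = n19463 := rfl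
theorem F35862 : act 1 n19463 = n16659 := d8_1 D19463 (iv D16659) (iv F29608)
theorem F35863 : act 2 n19463 = n18584 := d11_1 D19463 F35861 F35859
theorem F35864 : act 3 n19463 = n16935 := d13_1 D19463 (iv D16935) (iv F29609)
def n19464 : Q := act 0 n16661
theorem D19464 : act 0 n16661 = n19464 := rfl
theorem F35865 : act 1 n19464 = n17040 := d0_2 D16661 D19464 F30429 F24975 (iv F23155)
theorem F35866 : act 2 n19464 = n16664 := d1_2 (iv F29616) D19464 (iv D16664)
theorem F35867 : act 3 n19464 = n16995 := d2_2 (iv F29617) D19464 F30340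
theorem F35868 : act 5 n19464 = n16993 := d4_2 (iv F29618) D19464 F30337
def n19465 : Q := act 4 n16661
theorem D19465 : act 4 n16661 = n19465 := rfl
theorem F35869 : act 1 n19465 = n16662 := d7_1 D19465 (iv D16662) D16661
theorem F35870 : act 2 n19465 = n16665 := d10_1 D19465 (iv D16665) (iv F29616)
def n19466 : Q := act 4 n16664
theorem D19466 : act 4 n16664 = n19466 := rfl
theorem F35871 : act 0 n19466 = n16665 := d3_1 D19466 (iv D16665) D16664
theorem F35872 : act 1 n19466 = n18582 := d7_1 D19466 (iv F33773) F31286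
theorem F35873 : act 3 n18580 = n19466 := d6_0 F35872 F33772 (iv F33764)
theorem F35874 : act 5 n18579 = n19466 := d8_0 F35872 (iv D18582) (iv F33762)
def n19467 : Q := act 5 n16665
theorem D19467 : act 5 n16665 = n19467 := rfl
theorem F35875 : act 0 n19467 = n18579 := d4_1 D19467 F35874 F35871
theorem F35876 : act 1 n19467 = n16666 := d8_1 D19467 (iv D16666) (iv F29626)
theorem F35877 : act 3 n19467 = n18578 := d13_1 D19467 (iv F33761) F29627
theorem F35878 : act 4 n19467 = n17052 := d14_1 D19467 (iv D17052) (iv D13975) (iv F23161) D16665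
def n19468 : Q := act 3 n16667
theorem D19468 : act 3 n16667 = n19468 := rfl
theorem F35879 : act 0 n19468 = n18620 := d2_1 D19468 F33865 F29967
theorem F35880 : act 2 n19468 = n18622 := d9_1 D19468 F33874 F30885 F29634 (iv F23552) (iv F29971) (iv F33879) (iv D18623) (iv F33864) F33865 (iv D16813) (iv D13755) F18142 D13596 D16667
theorem F35881 : act 4 n19468 = n18619 := d12_2 (iv F29632) D19468 F33861 F31190 F24715
theorem F35882 : act 5 n19468 = n18622 := d13_2 F30886 D19468 F33874
def n19469 : Q := act 2 n16669
theorem D19469 : act 2 n16669 = n19469 := rfl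
theorem F35883 : act 0 n19469 = n16679 := d1_1 D19469 (iv D16679) (iv F29635)
theorem F35884 : act 3 n19469 = n16674 := d9_2 D16669 D19469 F29647 F23189 F17906 (iv F17909) (iv F23191) (iv F29661) F29660 F23298 (iv D10798) (iv D8384) (iv F13765) D10682 D13600
theorem F35885 : act 4 n19469 = n16718 := d10_2 (iv F29637) D19469 (iv D16718)
theorem F35886 : act 5 n19469 = n16673 := d11_2 (iv F29638) D19469 F29645
def n19470 : Q := act 1 n16670
theorem D19470 : act 1 n16670 = n19470 := rfl
theorem F35887 : act 2 n19470 = n16672 := d5_2 D16670 D19470 (iv D16672) (iv D13606) (iv F23182)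
theorem F35888 : act 4 n19470 = n16782 := d7_2 (iv F29639) D19470 (iv D16782)
def n19471 : Q := act 3 n16670
theorem D19471 : act 3 n16670 = n19471 := rfl
def n19472 : Q := act 5 n16670
theorem D19472 : act 5 n16670 = n19472 := rfl
theorem F35889 : act 2 n19472 = n16671 := d11_1 D19472 (iv D16671) D16670
def n19473 : Q := act 4 n16671
theorem D19473 : act 4 n16671 = n19473 := rfl
theorem F35890 : act 1 n19473 = n16675 := d7_1 D19473 (iv D16675) (iv F29640)
theorem F35891 : act 3 n19473 = n16779 := d12_1 D19473 (iv D16779) F23486 (iv F23185) (iv F29641)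
theorem F35892 : act 5 n19473 = n16780 := d14_2 D16671 D19473 F29911 F23489 (iv F23183)
def n19474 : Q := act 0 n16672
theorem D19474 : act 0 n16672 = n19474 := rfl
theorem F35893 : act 1 n19474 = n16791 := d0_2 D16672 D19474 (iv D16791) (iv D13736) (iv F23186)
theorem F35894 : act 4 n19474 = n16786 := d3_2 (iv F29642) D19474 (iv D16786)
def n19475 : Q := act 3 n16672
theorem D19475 : act 3 n16672 = n19475 := rfl
theorem F35895 : act 1 n19475 = n16673 := d6_1 D19475 (iv D16673) D16672
theorem F35896 : act 4 n19475 = n16694 := d12_2 (iv F29642) D19475 (iv D16694) F23228 (iv F23498)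
theorem F35897 : act 2 n17654 = n19475 := d10_3 F35896 (iv F29702) D17654
def n19476 : Q := act 5 n16672
theorem D19476 : act 5 n16672 = n19476 := rfl
theorem F35898 : act 1 n19476 = n16674 := d8_1 D19476 (iv D16674) D16672
def n19477 : Q := act 4 n16674
theorem D19477 : act 4 n16674 = n19477 := rfl
theorem F35899 : act 0 n19477 = n16789 := d3_1 D19477 F29922 (iv F29646)
theorem F35900 : act 2 n19477 = n16675 := d10_1 D19477 (iv D16675) (iv F29647)
theorem F35901 : act 5 n19477 = n16784 := d14_2 D16674 D19477 F29915 F23497 (iv F23187)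
def n19478 : Q := act 3 n16676
theorem D19478 : act 3 n16676 = n19478 := rfl
theorem F35902 : act 0 n19478 = n16677 := d2_1 D19478 (iv D16677) D16676
theorem F35903 : act 1 n19478 = n17652 := d6_1 D19478 F31659 F30857
theorem F35904 : act 5 n19478 = n17651 := d13_2 F30855 D19478 F31657
def n19479 : Q := act 2 n16677
theorem D19479 : act 2 n16677 = n19479 := rfl
def n19480 : Q := act 4 n16677
theorem D19480 : act 4 n16677 = n19480 := rfl
theorem F35905 : act 1 n19480 = n16680 := d7_1 D19480 (iv D16680) (iv F29652)
theorem F35906 : act 3 n19480 = n16684 := d12_1 D19480 (iv D16684) (iv D13612) (iv F23190) D16677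
theorem F35907 : act 5 n16698 = n19480 := d13_0 F35906 F29670 (iv F29710)
def n19481 : Q := act 5 n16677
theorem D19481 : act 5 n16677 = n19481 := rfl
theorem F35908 : act 0 n19481 = n17651 := d4_1 D19481 (iv F35904) F35902
theorem F35909 : act 1 n19481 = n16681 := d8_1 D19481 (iv D16681) (iv F29652)
theorem F35910 : act 3 n19481 = n16678 := d13_1 D19481 (iv D16678) D16677
theorem F35911 : act 4 n19481 = n16695 := d14_1 D19481 F29705 D16698 F35907 (iv D19480)
def n19482 : Q := act 1 n16679
theorem D19482 : act 1 n16679 = n19482 := rfl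
theorem F35912 : act 3 n19482 = n16790 := d6_2 (iv F29654) D19482 (iv D16790)
theorem F35913 : act 5 n19482 = n16724 := d8_2 F29655 D19482 F29767
def n19483 : Q := act 4 n16679
theorem D19483 : act 4 n16679 = n19483 := rfl
theorem F35914 : act 0 n19483 = n16718 := d3_1 D19483 (iv F35885) F35883
theorem F35915 : act 2 n19483 = n16680 := d10_1 D19483 (iv D16680) D16679
theorem F35916 : act 5 n19483 = n16700 := d14_2 F29655 D19483 (iv D16700) F23245 D13653
def n19484 : Q := act 2 n16682
theorem D19484 : act 2 n16682 = n19484 := rfl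
theorem F35917 : act 0 n19484 = n16683 := d1_1 D19484 (iv D16683) (iv F29663)
theorem F35918 : act 1 n19484 = n18297 := d5_1 D19484 F33128 (iv F29734) F29735 (iv F29664)
theorem F35919 : act 5 n19484 = n16687 := d11_2 (iv F29665) D19484 F29681
theorem F35920 : act 3 n18306 = n19484 := d2_0 F35917 (iv F29668) D18306
def n19485 : Q := act 4 n16682
theorem D19485 : act 4 n16682 = n19485 := rfl
theorem F35921 : act 0 n19485 = n16684 := d3_1 D19485 (iv D16684) (iv F29663)
theorem F35922 : act 1 n19485 = n16716 := d7_1 D19485 (iv D16716) (iv F29664)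
theorem F35923 : act 5 n19485 = n16702 := d14_2 (iv F29665) D19485 (iv D16702) F23250 (iv F23219)
def n19486 : Q := act 4 n16683
theorem D19486 : act 4 n16683 = n19486 := rfl
theorem F35924 : act 1 n19486 = n16690 := d7_1 D19486 (iv D16690) (iv F29666)
theorem F35925 : act 2 n19486 = n16684 := d10_1 D19486 (iv D16684) D16683
theorem F35926 : act 5 n19486 = n16704 := d14_2 (iv F29667) D19486 (iv D16704) F23252 (iv F23207)
def n19487 : Q := act 4 n16686
theorem D19487 : act 4 n16686 = n19487 := rfl
theorem F35927 : act 0 n19487 = n16741 := d3_1 D19487 (iv D16741) (iv F29676)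
theorem F35928 : act 1 n19487 = n16705 := d7_1 D19487 (iv D16705) (iv F29677)
theorem F35929 : act 2 n19487 = n16739 := d10_1 D19487 (iv D16739) (iv F29678)
theorem F35930 : act 3 n19487 = n16709 := d12_1 D19487 (iv D16709) (iv D13639) (iv F23204) D16686
def n19488 : Q := act 3 n16687
theorem D19488 : act 3 n16687 = n19488 := rfl
theorem F35931 : act 0 n19488 = n16688 := d2_1 D19488 (iv D16688) D16687
theorem F35932 : act 1 n19488 = n18296 := d6_1 D19488 (iv D18296) (iv F29680)
theorem F35933 : act 5 n19488 = n18306 := d13_2 F35919 D19488 F35920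
def n19489 : Q := act 2 n16688
theorem D19489 : act 2 n16688 = n19489 := rfl
theorem F35934 : act 1 n19489 = n18152 := d5_1 D19489 (iv D18152) F26388 (iv F23209) (iv F29683)
theorem F35935 : act 5 n19489 = n18304 := d11_2 (iv F29684) D19489 F33137
def n19490 : Q := act 4 n16688
theorem D19490 : act 4 n16688 = n19490 := rfl
theorem F35936 : act 1 n19490 = n16689 := d7_1 D19490 (iv D16689) (iv F29683)
theorem F35937 : act 3 n19490 = n16836 := d12_1 D19490 (iv D16836) (iv D13771) (iv F23207) D16688
def n19491 : Q := act 5 n16689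
theorem D19491 : act 5 n16689 = n19491 := rfl
theorem F35938 : act 0 n19491 = n18301 := d4_1 D19491 (iv D18301) (iv F29685)
theorem F35939 : act 2 n19491 = n18310 := d11_1 D19491 F33143 (iv F29686)
theorem F35940 : act 3 n19491 = n16837 := d13_1 D19491 (iv D16837) (iv F29687)
theorem F35941 : act 4 n19491 = n18309 := d14_1 D19491 (iv D18309) (iv D15314) F23210 D16689
def n19492 : Q := act 3 n16690
theorem D19492 : act 3 n16690 = n19492 := rfl
theorem F35942 : act 0 n19492 = n18302 := d2_1 D19492 (iv D18302) (iv F29688)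
theorem F35943 : act 4 n19492 = n18308 := d12_2 D16690 D19492 (iv D18308) (iv D15314) (iv F23213)
theorem F35944 : act 5 n19492 = n16801 := d13_2 (iv F29690) D19492 (iv D16801)
theorem F35945 : act 2 n19492 = n18308 := d15_2 (iv F29689) D19492 (iv D18308) F26744 F20645 (iv F18329) (iv F23516) F23517 (iv F23214)
def n19493 : Q := act 1 n16691
theorem D19493 : act 1 n16691 = n19493 := rfl
theorem F35946 : act 2 n19493 = n16961 := d5_2 D16691 D19493 F30246 F23820 (iv F23221)
theorem F35947 : act 4 n19493 = n16692 := d7_2 (iv F29692) D19493 (iv D16692)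
theorem F35948 : act 5 n19493 = n16796 := d8_2 (iv F29693) D19493 F29930
def n19494 : Q := act 3 n16691
theorem D19494 : act 3 n16691 = n19494 := rfl
theorem F35949 : act 0 n19494 = n16720 := d2_1 D19494 (iv D16720) (iv F29691)
theorem F35950 : act 4 n19494 = n16730 := d12_2 (iv F29692) D19494 (iv D16730) (iv D13659) (iv F23226)
theorem F35951 : act 5 n19494 = n16797 := d13_2 (iv F29693) D19494 (iv D16797)
theorem F35952 : act 2 n19494 = n16730 := d15_2 D16691 D19494 (iv D16730) F23308 F17983 (iv F17960) D13643 F23282 (iv F23220)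
def n19495 : Q := act 0 n16692
theorem D19495 : act 0 n16692 = n19495 := rfl
theorem F35953 : act 1 n19495 = n16721 := d0_2 D16692 D19495 (iv D16721) (iv D13650) (iv F23224)
theorem F35954 : act 2 n19495 = n16958 := d1_2 (iv F29694) D19495 F30239
theorem F35955 : act 3 n19495 = n16728 := d2_2 (iv F29695) D19495 (iv D16728)
theorem F35956 : act 5 n19495 = n16693 := d4_2 (iv F29696) D19495 (iv D16693)
def n19496 : Q := act 3 n16693
theorem D19496 : act 3 n16693 = n19496 := rfl
theorem F35957 : act 0 n19496 = n16694 := d2_1 D19496 (iv D16694) D16693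
theorem F35958 : act 1 n19496 = n16722 := d6_1 D19496 (iv D16722) (iv F29697)
theorem F35959 : act 5 n19496 = n16728 := d13_2 F35956 D19496 (iv F35955)
theorem F35960 : act 2 n17653 = n19496 := d15_0 (iv D19496) F29698 D16957 (iv F31929) (iv D17769) F25430 (iv F29773) F29774 D17653
def n19497 : Q := act 2 n16695
theorem D19497 : act 2 n16695 = n19497 := rfl
theorem F35961 : act 0 n19497 = n17650 := d1_1 D19497 (iv D17650) (iv F29703)
theorem F35962 : act 1 n19497 = n16723 := d5_1 D19497 (iv D16723) F23297 (iv F23236) (iv F29704)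
theorem F35963 : act 5 n19497 = n16697 := d11_2 (iv F29705) D19497 (iv D16697)
def n19498 : Q := act 2 n16696
theorem D19498 : act 2 n16696 = n19498 := rfl
theorem F35964 : act 0 n19498 = n16697 := d1_1 D19498 (iv D16697) (iv F29706)
theorem F35965 : act 1 n19498 = n17635 := d5_1 D19498 (iv D17635) F25102 (iv F23302) (iv F29707)
theorem F35966 : act 5 n19498 = n17650 := d11_2 (iv F29708) D19498 (iv D17650)
def n19499 : Q := act 4 n16696
theorem D19499 : act 4 n16696 = n19499 := rfl
theorem F35967 : act 0 n19499 = n16698 := d3_1 D19499 (iv D16698) (iv F29706)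
theorem F35968 : act 1 n19499 = n16725 := d7_1 D19499 (iv D16725) (iv F29707)
theorem F35969 : act 3 n19499 = n16702 := d12_1 D19499 (iv D16702) (iv D13632) (iv F23240) D16696
def n19500 : Q := act 1 n16697
theorem D19500 : act 1 n16697 = n19500 := rfl
theorem F35970 : act 2 n19500 = n16699 := d5_2 D16697 D19500 (iv D16699) (iv D13630) (iv F23242)
theorem F35971 : act 5 n19500 = n16723 := d8_2 F35963 D19500 (iv F35962)
def n19501 : Q := act 3 n16697
theorem D19501 : act 3 n16697 = n19501 := rfl
def n19502 : Q := act 4 n16697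
theorem D19502 : act 4 n16697 = n19502 := rfl
theorem F35972 : act 2 n19502 = n16698 := d10_1 D19502 (iv D16698) D16697
def n19503 : Q := act 0 n16699
theorem D19503 : act 0 n16699 = n19503 := rfl
theorem F35973 : act 1 n19503 = n16728 := d0_2 D16699 D19503 (iv D16728) (iv D13658) (iv F23243)
theorem F35974 : act 3 n19503 = n16721 := d2_2 (iv F29711) D19503 (iv D16721)
theorem F35975 : act 5 n19503 = n16722 := d4_2 (iv F29712) D19503 F29766
def n19504 : Q := act 4 n16699
theorem D19504 : act 4 n16699 = n19504 := rfl
theorem F35976 : act 1 n19504 = n16700 := d7_1 D19504 (iv D16700) D16699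
def n19505 : Q := act 3 n16700
theorem D19505 : act 3 n16700 = n19505 := rfl
theorem F35977 : act 0 n19505 = n16730 := d2_1 D19505 (iv D16730) (iv F29713)
theorem F35978 : act 4 n19505 = n16720 := d12_2 D16700 D19505 (iv D16720) F23293 (iv F23244)
theorem F35979 : act 2 n19505 = n16720 := d15_2 (iv F29714) D19505 (iv D16720) (iv D13649) (iv D10723) (iv F17970) D13648 F23292 (iv F23246)
def n19506 : Q := act 1 n16701
theorem D19506 : act 1 n16701 = n19506 := rfl
theorem F35980 : act 0 n19506 = n16798 := d0_1 D19506 (iv D16798) F23511 (iv F23251) (iv F29715)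
theorem F35981 : act 2 n19506 = n16731 := d5_2 D16701 D19506 (iv D16731) (iv D13660) (iv F23249)
theorem F35982 : act 5 n19506 = n16833 := d8_2 (iv F29716) D19506 F30010
theorem F35983 : act 3 n16841 = n19506 := d13_3 F35982 F30012 (iv F30029)
def n19507 : Q := act 3 n16701
theorem D19507 : act 3 n16701 = n19507 := rfl
theorem F35984 : act 0 n19507 = n16703 := d2_1 D19507 (iv D16703) (iv F29715)
theorem F35985 : act 1 n19507 = n16841 := d6_1 D19507 F35983 (iv D19506)
theorem F35986 : act 5 n19507 = n16834 := d13_2 (iv F29716) D19507 (iv D16834)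
def n19508 : Q := act 4 n16701
theorem D19508 : act 4 n16701 = n19508 := rfl
theorem F35987 : act 0 n19508 = n16704 := d3_1 D19508 (iv D16704) (iv F29715)
theorem F35988 : act 2 n19508 = n16702 := d10_1 D19508 (iv D16702) D16701
def n19509 : Q := act 2 n16703
theorem D19509 : act 2 n16703 = n19509 := rfl
theorem F35989 : act 1 n19509 = n16838 := d5_1 D19509 (iv D16838) F23583 (iv F23519) (iv F29719)
theorem F35990 : act 3 n19509 = n17561 := d9_2 D16703 D19509 (iv D17561) (iv D14525) (iv F23179) F23180 (iv F23578) D16834 (iv F35856) (iv D19461) (iv D16657) (iv D13588) F17875 D10708 D13633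
theorem F35991 : act 5 n19509 = n16835 := d11_2 (iv F29720) D19509 (iv D16835)
def n19510 : Q := act 4 n16703
theorem D19510 : act 4 n16703 = n19510 := rfl
theorem F35992 : act 1 n19510 = n16800 := d7_1 D19510 (iv D16800) (iv F29719)
def n19511 : Q := act 3 n16704
theorem D19511 : act 3 n16704 = n19511 := rfl
theorem F35993 : act 1 n19511 = n16801 := d6_1 D19511 (iv D16801) (iv F29721)
def n19512 : Q := act 5 n16705
theorem D19512 : act 5 n16705 = n19512 := rfl
theorem F35994 : act 0 n19512 = n18069 := d4_1 D19512 (iv D18069) (iv F29723)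
theorem F35995 : act 2 n19512 = n18076 := d11_1 D19512 F32583 (iv F29724)
theorem F35996 : act 3 n19512 = n16711 := d13_1 D19512 (iv D16711) (iv F29725)
theorem F35997 : act 4 n19512 = n18075 := d14_1 D19512 (iv D18075) (iv D15080) F23256 D16705
def n19513 : Q := act 3 n16706
theorem D19513 : act 3 n16706 = n19513 := rfl
theorem F35998 : act 0 n19513 = n18070 := d2_1 D19513 (iv D18070) (iv F29726)
theorem F35999 : act 1 n19513 = n16733 := d6_1 D19513 (iv D16733) (iv F29727)
theorem F36000 : act 4 n19513 = n18074 := d12_2 D16706 D19513 (iv D18074) (iv D15080) (iv F23260)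
theorem F36001 : act 5 n19513 = n16712 := d13_2 (iv F29729) D19513 (iv D16712)
theorem F36002 : act 2 n19513 = n17469 := d15_2 (iv F29728) D19513 (iv D17469) F24768 F19072 (iv F18243) F18244 (iv F20228) (iv F23261)
def n19514 : Q := act 4 n16707
theorem D19514 : act 4 n16707 = n19514 := rfl
theorem F36003 : act 0 n19514 = n16709 := d3_1 D19514 (iv D16709) (iv F29730)
theorem F36004 : act 1 n19514 = n18609 := d7_1 D19514 (iv D18609) (iv F29731)
theorem F36005 : act 3 n19514 = n16741 := d12_1 D19514 (iv D16741) (iv F29672) F29673 D16707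
def n19515 : Q := act 4 n16708
theorem D19515 : act 4 n16708 = n19515 := rfl
theorem F36006 : act 0 n19515 = n16710 := d3_1 D19515 (iv D16710) (iv F29733)
theorem F36007 : act 1 n19515 = n18610 := d7_1 D19515 (iv D18610) (iv F29734)
theorem F36008 : act 2 n19515 = n16716 := d10_1 D19515 (iv D16716) (iv F29735)
theorem F36009 : act 5 n19515 = n16732 := d14_2 D16708 D19515 (iv D16732) (iv F29674) F29673
def n19516 : Q := act 5 n16709
theorem D19516 : act 5 n16709 = n19516 := rfl
theorem F36010 : act 1 n19516 = n16711 := d8_1 D19516 (iv D16711) (iv F29737)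
theorem F36011 : act 4 n19516 = n18129 := d14_1 D19516 (iv D18129) F26328 F23268 D16709
def n19517 : Q := act 3 n16710
theorem D19517 : act 3 n16710 = n19517 := rfl
theorem F36012 : act 1 n19517 = n16712 := d6_1 D19517 (iv D16712) (iv F29738)
theorem F36013 : act 4 n19517 = n18128 := d12_2 D16710 D19517 (iv D18128) F26328 (iv F23271)
theorem F36014 : act 5 n19517 = n16733 := d13_2 (iv F29740) D19517 (iv D16733)
def n19518 : Q := act 2 n16712
theorem D19518 : act 2 n16712 = n19518 := rfl
theorem F36015 : act 0 n19518 = n18613 := d1_1 D19518 (iv D18613) (iv F29744)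
theorem F36016 : act 4 n19518 = n18130 := d10_2 (iv F29745) D19518 (iv D18130)
theorem F36017 : act 5 n19518 = n17469 := d11_2 F36001 D19518 (iv F36002)
theorem F36018 : act 3 n19518 = n17470 := d15_1 D19518 F31262 F24769 (iv F23682) F23683 (iv F26192) D18070 F32571 (iv F29744)
def n19519 : Q := act 1 n16713
theorem D19519 : act 1 n16713 = n19519 := rfl
theorem F36019 : act 2 n19519 = n16904 := d5_2 D16713 D19519 F30149 F23700 (iv F23280)
theorem F36020 : act 4 n19519 = n16714 := d7_2 (iv F29747) D19519 (iv D16714)
theorem F36021 : act 5 n19519 = n16719 := d8_2 (iv F29748) D19519 (iv D16719)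
def n19520 : Q := act 3 n16713
theorem D19520 : act 3 n16713 = n19520 := rfl
theorem F36022 : act 0 n19520 = n16797 := d2_1 D19520 (iv D16797) (iv F29746)
theorem F36023 : act 4 n19520 = n16793 := d12_2 (iv F29747) D19520 (iv D16793) F23506 (iv F23284)
theorem F36024 : act 5 n19520 = n16720 := d13_2 (iv F29748) D19520 (iv D16720)
def n19521 : Q := act 0 n16714
theorem D19521 : act 0 n16714 = n19521 := rfl
theorem F36025 : act 1 n19521 = n16795 := d0_2 D16714 D19521 (iv D16795) (iv D13740) (iv F23283)
theorem F36026 : act 2 n19521 = n16900 := d1_2 (iv F29749) D19521 F30140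
theorem F36027 : act 3 n19521 = n16794 := d2_2 (iv F29750) D19521 (iv D16794)
theorem F36028 : act 5 n19521 = n16715 := d4_2 (iv F29751) D19521 (iv D16715)
def n19522 : Q := act 3 n16716
theorem D19522 : act 3 n16716 = n19522 := rfl
theorem F36029 : act 0 n19522 = n16717 := d2_1 D19522 (iv D16717) (iv F29756)
theorem F36030 : act 4 n19522 = n17652 := d12_2 D16716 D19522 F31659 F30859 F24545
theorem F36031 : act 5 n19522 = n16725 := d13_2 (iv F29757) D19522 F29771
theorem F36032 : act 2 n17640 = n19522 := d11_3 F36031 F29770 D17640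
def n19523 : Q := act 2 n16717
theorem D19523 : act 2 n16717 = n19523 := rfl
theorem F36033 : act 0 n19523 = n17640 := d1_1 D19523 F36032 F36029
theorem F36034 : act 4 n19523 = n17656 := d10_2 (iv F29759) D19523 F31661
theorem F36035 : act 5 n19523 = n16727 := d11_2 (iv F29760) D19523 F29776
def n19524 : Q := act 1 n16718
theorem D19524 : act 1 n16718 = n19524 := rfl
theorem F36036 : act 5 n19524 = n16729 := d8_2 (iv F29761) D19524 F29777
def n19525 : Q := act 3 n16718
theorem D19525 : act 3 n16718 = n19525 := rfl
theorem F36037 : act 2 n19525 = n16797 := d9_1 D19525 (iv D16797) F23510 F18104 (iv F17943) (iv F23247) (iv F29714) D19505 F35979 (iv D16720) (iv D13649) (iv D10723) (iv F17970) D13648 D16718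
theorem F36038 : act 5 n19525 = n16730 := d13_2 (iv F29761) D19525 (iv D16730)
def n19526 : Q := act 0 n16719
theorem D19526 : act 0 n16719 = n19526 := rfl
theorem F36039 : act 2 n19526 = n16911 := d1_2 (iv F29762) D19526 F30163
theorem F36040 : act 4 n19526 = n16721 := d3_2 (iv F29763) D19526 (iv D16721)
def n19527 : Q := act 3 n16719
theorem D19527 : act 3 n16719 = n19527 := rfl
theorem F36041 : act 1 n19527 = n16720 := d6_1 D19527 (iv D16720) D16719
def n19528 : Q := act 2 n16722
theorem D19528 : act 2 n16722 = n19528 := rfl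
theorem F36042 : act 0 n19528 = n16723 := d1_1 D19528 (iv D16723) (iv F29766)
theorem F36043 : act 3 n19528 = n17438 := d15_1 D19528 (iv D17438) (iv D14387) F19053 (iv F18251) (iv F23294) (iv F29711) F29712 (iv F29766)
def n19529 : Q := act 4 n16722
theorem D19529 : act 4 n16722 = n19529 := rfl
theorem F36044 : act 0 n19529 = n16724 := d3_1 D19529 (iv D16724) (iv F29766)
theorem F36045 : act 3 n19529 = n16791 := d12_1 D19529 F29925 (iv F29754) F29755 D16722
def n19530 : Q := act 3 n16723
theorem D19530 : act 3 n16723 = n19530 := rfl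
theorem F36046 : act 0 n19530 = n17438 := d2_1 D19530 (iv F36043) F36042
theorem F36047 : act 2 n19530 = n17437 := d15_2 D16723 D19530 (iv D17437) F24737 (iv F23707) (iv F29764) (iv F35974) F35975 F29766
def n19531 : Q := act 4 n16723
theorem D19531 : act 4 n16723 = n19531 := rfl
theorem F36048 : act 2 n19531 = n16724 := d10_1 D19531 (iv D16724) D16723
def n19532 : Q := act 0 n16726
theorem D19532 : act 0 n16726 = n19532 := rfl
theorem F36049 : act 1 n19532 = n17633 := d0_2 D16726 D19532 F31633 F25102 (iv F23303)
theorem F36050 : act 2 n19532 = n16728 := d1_2 (iv F29772) D19532 (iv D16728)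
theorem F36051 : act 3 n19532 = n17630 := d2_2 (iv F29773) D19532 (iv D17630)
theorem F36052 : act 5 n19532 = n17653 := d4_2 (iv F29774) D19532 (iv D17653)
def n19533 : Q := act 4 n16726
theorem D19533 : act 4 n16726 = n19533 := rfl
theorem F36053 : act 1 n19533 = n16727 := d7_1 D19533 (iv D16727) D16726
theorem F36054 : act 2 n19533 = n16729 := d10_1 D19533 (iv D16729) (iv F29772)
def n19534 : Q := act 4 n16728
theorem D19534 : act 4 n16728 = n19534 := rfl
theorem F36055 : act 0 n19534 = n16729 := d3_1 D19534 (iv D16729) D16728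
def n19535 : Q := act 3 n16729
theorem D19535 : act 3 n16729 = n19535 := rfl
theorem F36056 : act 1 n19535 = n16730 := d6_1 D19535 (iv D16730) (iv F29777)
def n19536 : Q := act 4 n16731
theorem D19536 : act 4 n16731 = n19536 := rfl
theorem F36057 : act 0 n19536 = n18068 := d3_1 D19536 (iv D18068) (iv F29778)
theorem F36058 : act 1 n19536 = n16732 := d7_1 D19536 (iv D16732) D16731
theorem F36059 : act 5 n19536 = n18610 := d14_2 (iv F29780) D19536 (iv D18610) (iv D15725) (iv F26188)
def n19537 : Q := act 3 n16732
theorem D19537 : act 3 n16732 = n19537 := rfl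
theorem F36060 : act 0 n19537 = n16733 := d2_1 D19537 (iv D16733) (iv F29781)
theorem F36061 : act 4 n19537 = n17328 := d12_2 D16732 D19537 (iv D17328) F24446 (iv F23310)
def n19538 : Q := act 2 n16733
theorem D19538 : act 2 n16733 = n19538 := rfl
def n19539 : Q := act 3 n16735
theorem D19539 : act 3 n16735 = n19539 := rfl
theorem F36062 : act 1 n19539 = n16736 := d6_1 D19539 (iv D16736) (iv F29787)
theorem F36063 : act 4 n19539 = n18612 := d12_2 D16735 D19539 (iv D18612) (iv D15727) (iv F23317)
def n19540 : Q := act 5 n16735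
theorem D19540 : act 5 n16735 = n19540 := rfl
theorem F36064 : act 1 n19540 = n16737 := d8_1 D19540 (iv D16737) (iv F29787)
theorem F36065 : act 2 n19540 = n17271 := d11_1 D19540 (iv D17271) (iv F29788)
theorem F36066 : act 4 n19540 = n18611 := d14_1 D19540 (iv D18611) (iv D15726) (iv F23318) D16735
def n19541 : Q := act 4 n16738
theorem D19541 : act 4 n16738 = n19541 := rfl
theorem F36067 : act 0 n19541 = n17317 := d3_1 D19541 (iv D17317) (iv F29794)
theorem F36068 : act 1 n19541 = n16739 := d7_1 D19541 (iv D16739) (iv F29795)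
theorem F36069 : act 2 n19541 = n18072 := d10_1 D19541 (iv D18072) (iv F29797)
def n19542 : Q := act 4 n16740
theorem D19542 : act 4 n16740 = n19542 := rfl
theorem F36070 : act 0 n19542 = n18067 := d3_1 D19542 (iv D18067) (iv F29799)
theorem F36071 : act 1 n19542 = n16741 := d7_1 D19542 (iv D16741) D16740
theorem F36072 : act 2 n19542 = n17346 := d10_1 D19542 (iv D17346) (iv F29800)
theorem F36073 : act 3 n19542 = n18609 := d12_1 D19542 (iv D18609) (iv D15724) (iv F26188) (iv F29801)
def n19543 : Q := act 5 n16741
theorem D19543 : act 5 n16741 = n19543 := rfl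
theorem F36074 : act 2 n19543 = n16742 := d11_1 D19543 (iv D16742) (iv F29803)
theorem F36075 : act 4 n19543 = n17329 := d14_1 D19543 (iv D17329) F24446 (iv F23329) D16741
def n19544 : Q := act 1 n16743
theorem D19544 : act 1 n16743 = n19544 := rfl
theorem F36076 : act 4 n19544 = n19274 := d7_2 (iv F29807) D19544 F35418
theorem F36077 : act 5 n19544 = n16744 := d8_2 (iv F29808) D19544 (iv D16744)
def n19545 : Q := act 0 n16744
theorem D19545 : act 0 n16744 = n19545 := rfl
theorem F36078 : act 1 n19545 = n16751 := d0_2 D16744 D19545 (iv D16751) (iv D13692) (iv F23376)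
theorem F36079 : act 2 n19545 = n19437 := d1_2 F31006 D19545 F35778
theorem F36080 : act 4 n19545 = n16746 := d3_2 (iv F29809) D19545 (iv D16746)
theorem F36081 : act 3 n19544 = n19545 := d12_5 F36080 F29815 D19453 (iv F35831) (iv F36076)
def n19546 : Q := act 3 n16744
theorem D19546 : act 3 n16744 = n19546 := rfl
theorem F36082 : act 0 n19546 = n19544 := d2_1 D19546 F36081 (iv D19545)
theorem F36083 : act 1 n19546 = n16745 := d6_1 D19546 (iv D16745) D16744
theorem F36084 : act 4 n19546 = n18807 := d12_2 (iv F29809) D19546 F34290 (iv D16648) (iv F23378)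
theorem F36085 : act 5 n19546 = n19545 := d13_2 F36077 D19546 (iv F36081)
def n19547 : Q := act 4 n16747
theorem D19547 : act 4 n16747 = n19547 := rfl
theorem F36086 : act 0 n19547 = n19445 := d3_1 D19547 (iv F35805) F35802
theorem F36087 : act 2 n19547 = n17118 := d10_1 D19547 (iv D17118) (iv F29817)
theorem F36088 : act 3 n19547 = n16750 := d12_1 D19547 (iv D16750) (iv D13688) (iv F23398) D16747
theorem F36089 : act 5 n19547 = n18684 := d14_2 F29818 D19547 F34053 F33831 F30556
def n19548 : Q := act 2 n16749
theorem D19548 : act 2 n16749 = n19548 := rfl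
theorem F36090 : act 1 n19548 = n17667 := d5_1 D19548 F31692 F25151 (iv F23404) (iv F29824)
theorem F36091 : act 5 n19548 = n17665 := d11_2 (iv F29825) D19548 F31688
theorem F36092 : act 4 n19119 = n19548 := d14_5 F36091 (iv D17665) F25147 D16277 D19119
def n19549 : Q := act 4 n16749
theorem D19549 : act 4 n16749 = n19549 := rfl
theorem F36093 : act 1 n19549 = n16750 := d7_1 D19549 (iv D16750) (iv F29824)
theorem F36094 : act 2 n19549 = n19119 := d10_1 D19549 F36092 (iv D19548)
theorem F36095 : act 5 n19549 = n18683 := d14_2 (iv F29825) D19549 (iv D18683) (iv D15816) (iv F27813)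
def n19550 : Q := act 2 n16755
theorem D19550 : act 2 n16755 = n19550 := rfl
theorem F36096 : act 3 n19550 = n16781 := d9_2 D16755 D19550 (iv D16781) (iv D13724) F18078 D10943 D13907 D16978 F30290 (iv D16805) (iv D13749) (iv D10810) F13949 D10761 D13700
theorem F36097 : act 4 n19550 = n18323 := d10_2 (iv F29842) D19550 (iv D18323)
theorem F36098 : act 5 n16783 = n19550 := d13_0 F36096 F29912 D16783
def n19551 : Q := act 5 n16755
theorem D19551 : act 5 n16755 = n19551 := rfl
theorem F36099 : act 0 n19551 = n16978 := d4_1 D19551 (iv F35801) F35798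
theorem F36100 : act 1 n19551 = n18325 := d8_1 D19551 (iv D18325) (iv F29841)
theorem F36101 : act 2 n19551 = n16783 := d11_1 D19551 F36098 (iv D19550)
theorem F36102 : act 3 n19551 = n16756 := d13_1 D19551 (iv D16756) D16755
def n19552 : Q := act 3 n16759
theorem D19552 : act 3 n16759 = n19552 := rfl
theorem F36103 : act 1 n19552 = n19429 := d6_1 D19552 F35753 (iv F29855)
theorem F36104 : act 5 n19552 = n19450 := d13_2 (iv F29856) D19552 (iv D19450)
def n19553 : Q := act 4 n16759
theorem D19553 : act 4 n16759 = n19553 := rfl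
theorem F36105 : act 1 n19553 = n19443 := d7_1 D19553 (iv D19443) (iv F29855)
theorem F36106 : act 2 n19553 = n16760 := d10_1 D19553 (iv D16760) D16759
def n19554 : Q := act 5 n16760
theorem D19554 : act 5 n16760 = n19554 := rfl
theorem F36107 : act 1 n19554 = n16761 := d8_1 D19554 (iv D16761) (iv F29857)
theorem F36108 : act 3 n19554 = n17120 := d13_1 D19554 (iv D17120) (iv F29858)
theorem F36109 : act 4 n19554 = n19452 := d14_1 D19554 (iv D19452) (iv D16645) (iv F23453) D16760
def n19555 : Q := act 4 n16764
theorem D19555 : act 4 n16764 = n19555 := rfl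
theorem F36110 : act 0 n19555 = n17045 := d3_1 D19555 (iv D17045) (iv F29871)
theorem F36111 : act 1 n19555 = n16765 := d7_1 D19555 (iv D16765) (iv F29872)
theorem F36112 : act 2 n19555 = n17032 := d10_1 D19555 (iv F35808) F35807
theorem F36113 : act 3 n19555 = n17050 := d12_1 D19555 (iv D17050) (iv D13973) (iv F23955) (iv F29873)
theorem F36114 : act 5 n19555 = n16770 := d14_2 D16764 D19555 (iv D16770) (iv D13714) (iv F23457)
def n19556 : Q := act 4 n16766
theorem D19556 : act 4 n16766 = n19556 := rfl
theorem F36115 : act 0 n19556 = n16769 := d3_1 D19556 (iv D16769) (iv F29877)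
theorem F36116 : act 1 n19556 = n17049 := d7_1 D19556 F30449 (iv F29878)
theorem F36117 : act 2 n19556 = n18576 := d10_1 D19556 (iv D18576) F29879
theorem F36118 : act 3 n19556 = n17018 := d12_1 D19556 F30391 F29865 F29864 D16766
theorem F36119 : act 5 n19556 = n17017 := d14_2 F29880 D19556 F30388 F33761 (iv D18578)
def n19557 : Q := act 4 n16767
theorem D19557 : act 4 n16767 = n19557 := rfl
theorem F36120 : act 0 n19557 = n16770 := d3_1 D19557 (iv D16770) (iv F29881)
theorem F36121 : act 1 n19557 = n17048 := d7_1 D19557 F30446 (iv F29882)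
theorem F36122 : act 2 n19557 = n17030 := d10_1 D19557 (iv D17030) (iv F29883)
theorem F36123 : act 3 n19557 = n17052 := d12_1 D19557 (iv F35878) F35877 (iv D18578) (iv F29884)
theorem F36124 : act 5 n19557 = n17045 := d14_2 D16767 D19557 (iv D17045) F29866 F29864
def n19558 : Q := act 3 n16768
theorem D19558 : act 3 n16768 = n19558 := rfl
theorem F36125 : act 0 n19558 = n18575 := d2_1 D19558 (iv D18575) (iv F29885)
theorem F36126 : act 1 n19558 = n18374 := d6_1 D19558 F33296 (iv F29886)
theorem F36127 : act 2 n19558 = n18358 := d9_1 D19558 (iv D18358) (iv F30285) F30286 (iv F29883) F29884 (iv F33729) (iv F33890) (iv D18626) (iv D15743) F21420 (iv F23122) F23121 D13713 D16768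
theorem F36128 : act 5 n19558 = n18560 := d13_2 (iv F29887) D19558 (iv D18560)
def n19559 : Q := act 4 n16768
theorem D19559 : act 4 n16768 = n19559 := rfl
theorem F36129 : act 0 n19559 = n18576 := d3_1 D19559 (iv D18576) (iv F29885)
theorem F36130 : act 1 n19559 = n18557 := d7_1 D19559 (iv D18557) (iv F29886)
theorem F36131 : act 2 n19559 = n16769 := d10_1 D19559 (iv D16769) D16768
theorem F36132 : act 5 n19559 = n18652 := d14_2 (iv F29887) D19559 (iv D18652) (iv D15774) (iv F27469)
def n19560 : Q := act 5 n16769
theorem D19560 : act 5 n16769 = n19560 := rfl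
theorem F36133 : act 0 n19560 = n17017 := d4_1 D19560 (iv F36119) F36115
theorem F36134 : act 1 n19560 = n16771 := d8_1 D19560 (iv D16771) (iv F29888)
theorem F36135 : act 2 n19560 = n18652 := d11_1 D19560 (iv F36132) F36131
theorem F36136 : act 3 n19560 = n17014 := d13_1 D19560 (iv F35769) F35767
theorem F36137 : act 4 n19560 = n18580 := d14_1 D19560 (iv D18580) (iv D15689) F23468 D16769
def n19561 : Q := act 3 n16770
theorem D19561 : act 3 n16770 = n19561 := rfl
theorem F36138 : act 0 n19561 = n17052 := d2_1 D19561 (iv F36123) F36120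
theorem F36139 : act 1 n19561 = n16772 := d6_1 D19561 (iv D16772) (iv F29889)
theorem F36140 : act 4 n19561 = n18579 := d12_2 D16770 D19561 (iv D18579) (iv D15689) (iv F23471)
theorem F36141 : act 5 n19561 = n17050 := d13_2 F36114 D19561 (iv F36113)
def n19562 : Q := act 2 n16772
theorem D19562 : act 2 n16772 = n19562 := rfl
theorem F36142 : act 0 n19562 = n18583 := d1_1 D19562 (iv D18583) (iv F29894)
theorem F36143 : act 4 n19562 = n18581 := d10_2 (iv F29895) D19562 (iv D18581)
def n19563 : Q := act 4 n16773
theorem D19563 : act 4 n16773 = n19563 := rfl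
theorem F36144 : act 0 n19563 = n16774 := d3_1 D19563 (iv D16774) D16773
theorem F36145 : act 1 n19563 = n19442 := d7_1 D19563 (iv D19442) (iv F29896)
def n19564 : Q := act 3 n16774
theorem D19564 : act 3 n16774 = n19564 := rfl
theorem F36146 : act 1 n19564 = n16775 := d6_1 D19564 (iv D16775) (iv F29899)
theorem F36147 : act 4 n19564 = n19273 := d12_2 D16774 D19564 (iv D19273) F29182 (iv F23476)
theorem F36148 : act 5 n19563 = n19564 := d14_0 F36147 F35832 (iv D19453) (iv F29898) D19563
def n19565 : Q := act 5 n16774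
theorem D19565 : act 5 n16774 = n19565 := rfl
theorem F36149 : act 0 n19565 = n19564 := d4_1 D19565 (iv F36148) F36144
theorem F36150 : act 1 n19565 = n16776 := d8_1 D19565 (iv D16776) (iv F29899)
theorem F36151 : act 3 n19565 = n19563 := d13_1 D19565 F36148 (iv D19564)
theorem F36152 : act 4 n19565 = n19454 := d14_1 D19565 (iv D19454) (iv D16648) (iv F23477) D16774
def n19566 : Q := act 2 n16775
theorem D19566 : act 2 n16775 = n19566 := rfl
theorem F36153 : act 0 n19566 = n19276 := d1_1 D19566 F35420 (iv F29900)
theorem F36154 : act 4 n19566 = n19263 := d10_2 (iv F29901) D19566 F35394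
def n19567 : Q := act 2 n16780
theorem D19567 : act 2 n16780 = n19567 := rfl
theorem F36155 : act 4 n19567 = n16781 := d10_2 (iv F29911) D19567 (iv D16781)
def n19568 : Q := act 1 n16781
theorem D19568 : act 1 n16781 = n19568 := rfl
theorem F36156 : act 2 n19568 = n16785 := d5_2 D16781 D19568 (iv D16785) (iv D13728) (iv F23488)
theorem F36157 : act 5 n19568 = n16782 := d8_2 (iv F29912) D19568 (iv D16782)
def n19569 : Q := act 0 n16782
theorem D19569 : act 0 n16782 = n19569 := rfl
theorem F36158 : act 2 n19569 = n16786 := d1_2 (iv F29913) D19569 (iv D16786)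
theorem F36159 : act 3 n18280 = n19569 := d15_3 (iv F20608) D15291 D18280 F36158 F29919 F23574 D13893 (iv F23824) (iv D12205)
def n19570 : Q := act 3 n16782
theorem D19570 : act 3 n16782 = n19570 := rfl
theorem F36160 : act 0 n19570 = n18280 := d2_1 D19570 F36159 (iv D19569)
theorem F36161 : act 1 n19570 = n16783 := d6_1 D19570 (iv D16783) D16782
theorem F36162 : act 2 n19570 = n18279 := d15_4 (iv F18160) (iv F23498) (iv F29913) D19570 (iv D18279) F26698 (iv F23827) (iv D13894) (iv D10929)
def n19571 : Q := act 4 n16783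
theorem D19571 : act 4 n16783 = n19571 := rfl
def n19572 : Q := act 1 n16784
theorem D19572 : act 1 n16784 = n19572 := rfl
theorem F36163 : act 4 n19572 = n16785 := d7_2 (iv F29915) D19572 (iv D16785)
def n19573 : Q := act 3 n16784
theorem D19573 : act 3 n16784 = n19573 := rfl
theorem F36164 : act 0 n19573 = n16793 := d2_1 D19573 (iv D16793) (iv F29914)
theorem F36165 : act 4 n19573 = n16797 := d12_2 (iv F29915) D19573 (iv D16797) (iv D13741) (iv F23496)
def n19574 : Q := act 0 n16785
theorem D19574 : act 0 n16785 = n19574 := rfl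
theorem F36166 : act 1 n19574 = n16794 := d0_2 D16785 D19574 (iv D16794) (iv D13738) (iv F23495)
theorem F36167 : act 3 n19574 = n16795 := d2_2 (iv F29916) D19574 (iv D16795)
theorem F36168 : act 5 n19574 = n16786 := d4_2 (iv F29917) D19574 (iv D16786)
def n19575 : Q := act 3 n16787
theorem D19575 : act 3 n16787 = n19575 := rfl
theorem F36169 : act 1 n19575 = n16788 := d6_1 D19575 (iv D16788) D16787
theorem F36170 : act 4 n19575 = n16788 := d12_2 F31297 D19575 (iv D16788) (iv F24817) F31298
theorem F36171 : act 5 n19575 = n16788 := d13_2 F29921 D19575 (iv D16788)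
theorem F36172 : act 2 n19575 = n16788 := d15_2 (iv F29920) D19575 (iv D16788) (iv D13732) (iv D10793) (iv F14723) D11415 D14438 F24823
def n19576 : Q := act 1 n16789
theorem D19576 : act 1 n16789 = n19576 := rfl
theorem F36173 : act 4 n19576 = n16790 := d7_2 (iv F29922) D19576 (iv D16790)
theorem F36174 : act 5 n19576 = n16792 := d8_2 (iv F29923) D19576 (iv D16792)
def n19577 : Q := act 3 n16789
theorem D19577 : act 3 n16789 = n19577 := rfl
theorem F36175 : act 5 n19577 = n16793 := d13_2 (iv F29923) D19577 (iv D16793)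
theorem F36176 : act 2 n19577 = n16793 := d15_2 D16789 D19577 (iv D16793) (iv D13737) (iv D10799) (iv F18085) D13727 (iv F29650) F29648
def n19578 : Q := act 0 n16790
theorem D19578 : act 0 n16790 = n19578 := rfl
theorem F36177 : act 5 n19578 = n16791 := d4_2 (iv F29924) D19578 (iv D16791)
def n19579 : Q := act 0 n16792
theorem D19579 : act 0 n16792 = n19579 := rfl
theorem F36178 : act 4 n19579 = n16794 := d3_2 (iv F29926) D19579 (iv D16794)
def n19580 : Q := act 3 n16792
theorem D19580 : act 3 n16792 = n19580 := rfl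
theorem F36179 : act 1 n19580 = n16793 := d6_1 D19580 (iv D16793) D16792
def n19581 : Q := act 4 n16795
theorem D19581 : act 4 n16795 = n19581 := rfl
theorem F36180 : act 0 n19581 = n16796 := d3_1 D19581 (iv D16796) D16795
theorem F36181 : act 2 n19581 = n16966 := d10_1 D19581 (iv D16966) (iv F29928)
def n19582 : Q := act 3 n16796
theorem D19582 : act 3 n16796 = n19582 := rfl
theorem F36182 : act 1 n19582 = n16797 := d6_1 D19582 (iv D16797) (iv F29930)
def n19583 : Q := act 4 n16798
theorem D19583 : act 4 n16798 = n19583 := rfl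
theorem F36183 : act 1 n19583 = n16799 := d7_1 D19583 (iv D16799) D16798
theorem F36184 : act 2 n19583 = n18068 := d10_1 D19583 (iv D18068) (iv F29932)
theorem F36185 : act 5 n19583 = n18300 := d14_2 (iv F29934) D19583 (iv D18300) (iv D15307) (iv F23577)
def n19584 : Q := act 3 n16799
theorem D19584 : act 3 n16799 = n19584 := rfl
theorem F36186 : act 0 n19584 = n16801 := d2_1 D19584 (iv D16801) (iv F29935)
theorem F36187 : act 4 n19584 = n16843 := d12_2 D16799 D19584 (iv D16843) (iv D13776) (iv F23512)
theorem F36188 : act 5 n19584 = n18302 := d13_2 (iv F29937) D19584 (iv D18302)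
def n19585 : Q := act 3 n16800
theorem D19585 : act 3 n16800 = n19585 := rfl
theorem F36189 : act 0 n19585 = n16843 := d2_1 D19585 (iv D16843) (iv F29938)
theorem F36190 : act 4 n19585 = n16801 := d12_2 D16800 D19585 (iv D16801) (iv D13745) D13744
def n19586 : Q := act 5 n16800
theorem D19586 : act 5 n16800 = n19586 := rfl
theorem F36191 : act 0 n19586 = n16844 := d4_1 D19586 (iv D16844) (iv F29938)
theorem F36192 : act 2 n19586 = n16840 := d11_1 D19586 (iv D16840) (iv F29939)
theorem F36193 : act 4 n19586 = n16837 := d14_1 D19586 (iv D16837) (iv D13772) (iv F23520) D16800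
def n19587 : Q := act 2 n16801
theorem D19587 : act 2 n16801 = n19587 := rfl
theorem F36194 : act 5 n19587 = n18308 := d11_2 F35944 D19587 (iv F35945)
theorem F36195 : act 3 n19587 = n18309 := d15_1 D19587 F33140 F26745 F20655 (iv F20641) (iv F26740) D18302 (iv F36188) F36186
def n19588 : Q := act 1 n16802
theorem D19588 : act 1 n16802 = n19588 := rfl
theorem F36196 : act 2 n19588 = n16808 := d5_2 D16802 D19588 (iv D16808) (iv D13751) (iv F23528)
theorem F36197 : act 4 n19588 = n16804 := d7_2 (iv F29941) D19588 (iv D16804)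
def n19589 : Q := act 3 n16802
theorem D19589 : act 3 n16802 = n19589 := rfl
theorem F36198 : act 0 n19589 = n19471 := d2_1 D19589 (iv D19471) (iv F29940)
def n19590 : Q := act 5 n16802
theorem D19590 : act 5 n16802 = n19590 := rfl
theorem F36199 : act 0 n19590 = n19472 := d4_1 D19590 (iv D19472) (iv F29940)
theorem F36200 : act 2 n19590 = n16803 := d11_1 D19590 (iv D16803) D16802
def n19591 : Q := act 4 n16803
theorem D19591 : act 4 n16803 = n19591 := rfl
theorem F36201 : act 0 n19591 = n19473 := d3_1 D19591 (iv D19473) (iv F29942)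
theorem F36202 : act 1 n19591 = n16811 := d7_1 D19591 (iv D16811) (iv F29943)
theorem F36203 : act 3 n19591 = n17505 := d12_1 D19591 (iv D17505) F24868 (iv F23533) (iv F29944)
theorem F36204 : act 5 n19591 = n16807 := d14_2 D16803 D19591 (iv D16807) (iv D13750) (iv F23529)
def n19592 : Q := act 0 n16804
theorem D19592 : act 0 n16804 = n19592 := rfl
theorem F36205 : act 1 n19592 = n19569 := d0_2 D16804 D19592 (iv D19569) (iv D16782) (iv F23534)
theorem F36206 : act 2 n19592 = n16812 := d1_2 (iv F29945) D19592 (iv D16812)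
theorem F36207 : act 5 n19592 = n16887 := d4_2 F29946 D19592 F30116
def n19593 : Q := act 3 n16804
theorem D19593 : act 3 n16804 = n19593 := rfl
theorem F36208 : act 1 n19593 = n16805 := d6_1 D19593 (iv D16805) D16804
theorem F36209 : act 5 n19593 = n16890 := d13_2 F29946 D19593 (iv D16890)
def n19594 : Q := act 4 n16805
theorem D19594 : act 4 n16805 = n19594 := rfl
theorem F36210 : act 0 n19594 = n19571 := d3_1 D19594 (iv D19571) (iv F29947)
def n19595 : Q := act 5 n16805
theorem D19595 : act 5 n16805 = n19595 := rfl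
theorem F36211 : act 0 n19595 = n19550 := d4_1 D19595 (iv F36098) (iv F29947)
theorem F36212 : act 1 n19595 = n16890 := d8_1 D19595 (iv F36209) F36208
theorem F36213 : act 2 n19595 = n19446 := d11_1 D19595 F35801 F30290
theorem F36214 : act 3 n19595 = n16806 := d13_1 D19595 (iv D16806) D16805
theorem F36215 : act 4 n16890 = n19595 := d10_0 F36213 F35800 F33178
def n19596 : Q := act 4 n16806
theorem D19596 : act 4 n16806 = n19596 := rfl
theorem F36216 : act 0 n19596 = n19567 := d3_1 D19596 F36155 (iv F29948)
theorem F36217 : act 1 n19596 = n16891 := d7_1 D19596 (iv D16891) (iv F29949)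
theorem F36218 : act 2 n19596 = n16807 := d10_1 D19596 (iv D16807) (iv F29950)
theorem F36219 : act 3 n19596 = n16891 := d12_1 D19596 (iv D16891) D16890 F36215 F36214
def n19597 : Q := act 0 n16808
theorem D19597 : act 0 n16808 = n19597 := rfl
theorem F36220 : act 1 n19597 = n16819 := d0_2 D16808 D19597 (iv D16819) (iv D13759) (iv F23538)
theorem F36221 : act 4 n19597 = n16812 := d3_2 (iv F29954) D19597 (iv D16812)
def n19598 : Q := act 3 n16808
theorem D19598 : act 3 n16808 = n19598 := rfl
theorem F36222 : act 1 n19598 = n16809 := d6_1 D19598 (iv D16809) D16808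
theorem F36223 : act 4 n19598 = n16893 := d12_2 (iv F29954) D19598 (iv D16893) (iv D13816) (iv F23542)
def n19599 : Q := act 5 n16808
theorem D19599 : act 5 n16808 = n19599 := rfl
theorem F36224 : act 1 n19599 = n16810 := d8_1 D19599 (iv D16810) D16808
theorem F36225 : act 4 n19599 = n16892 := d14_1 D19599 (iv D16892) (iv D13815) (iv F23543) (iv F29954)
def n19600 : Q := act 2 n16809
theorem D19600 : act 2 n16809 = n19600 := rfl
theorem F36226 : act 0 n19600 = n16822 := d1_1 D19600 (iv D16822) (iv F29955)
theorem F36227 : act 3 n19600 = n16817 := d9_2 D16809 D19600 F29975 F23557 F18146 (iv F18150) (iv F23560) (iv F29989) F29988 (iv D14469) (iv D11443) (iv D8892) (iv F13951) D10812 D13751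
theorem F36228 : act 4 n19600 = n16894 := d10_2 (iv F29956) D19600 (iv D16894)
theorem F36229 : act 5 n16816 = n19600 := d13_0 F36227 (iv D16817) D16816
def n19601 : Q := act 5 n16809
theorem D19601 : act 5 n16809 = n19601 := rfl
theorem F36230 : act 0 n19601 = n16824 := d4_1 D19601 (iv D16824) (iv F29955)
theorem F36231 : act 2 n19601 = n16816 := d11_1 D19601 F36229 (iv D19600)
theorem F36232 : act 3 n19601 = n16810 := d13_1 D19601 (iv D16810) D16809
def n19602 : Q := act 4 n16814
theorem D19602 : act 4 n16814 = n19602 := rfl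
theorem F36233 : act 0 n19602 = n17281 := d3_1 D19602 F30879 (iv F29969)
theorem F36234 : act 1 n19602 = n16818 := d7_1 D19602 (iv D16818) (iv F29970)
theorem F36235 : act 2 n19602 = n17282 := d10_1 D19602 (iv F33877) F33879
theorem F36236 : act 3 n19602 = n17492 := d12_1 D19602 (iv D17492) F24825 (iv F23553) (iv F29971)
theorem F36237 : act 5 n19602 = n17364 := d14_2 D16814 D19602 (iv F31052) F24833 (iv F23549)
def n19603 : Q := act 0 n16815
theorem D19603 : act 0 n16815 = n19603 := rfl
theorem F36238 : act 1 n19603 = n17514 := d0_2 D16815 D19603 (iv D17514) (iv D14468) (iv F23554)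
theorem F36239 : act 2 n19603 = n17358 := d1_2 (iv F33871) D19603 (iv F33867)
theorem F36240 : act 4 n19603 = n17392 := d3_2 (iv F29972) D19603 F31107
theorem F36241 : act 5 n19603 = n17357 := d4_2 F33883 D19603 (iv F33880)
def n19604 : Q := act 3 n16815
theorem D19604 : act 3 n16815 = n19604 := rfl
theorem F36242 : act 1 n19604 = n16816 := d6_1 D19604 (iv D16816) D16815
def n19605 : Q := act 4 n16816
theorem D19605 : act 4 n16816 = n19605 := rfl
theorem F36243 : act 0 n19605 = n17516 := d3_1 D19605 (iv D17516) (iv F29973)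
theorem F36244 : act 3 n19605 = n17236 := d12_1 D19605 F30786 F24258 (iv F23555) D16816
def n19606 : Q := act 4 n16817
theorem D19606 : act 4 n16817 = n19606 := rfl
theorem F36245 : act 0 n19606 = n17501 := d3_1 D19606 F31335 (iv F29974)
theorem F36246 : act 1 n19606 = n17355 := d7_1 D19606 (iv F33882) F33881
theorem F36247 : act 2 n19606 = n16818 := d10_1 D19606 (iv D16818) (iv F29975)
theorem F36248 : act 5 n19606 = n17384 := d14_2 D16817 D19606 (iv F31086) F24851 (iv F23555)
theorem F36249 : act 3 n17395 = n19606 := d13_3 F36248 F31084 (iv F31116)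
def n19607 : Q := act 3 n16819
theorem D19607 : act 3 n16819 = n19607 := rfl
theorem F36250 : act 0 n19607 = n16820 := d2_1 D19607 (iv D16820) D16819
def n19608 : Q := act 5 n16819
theorem D19608 : act 5 n16819 = n19608 := rfl
theorem F36251 : act 0 n19608 = n16821 := d4_1 D19608 (iv D16821) D16819
theorem F36252 : act 2 n19608 = n19578 := d11_1 D19608 F36177 (iv F29979)
def n19609 : Q := act 2 n16820
theorem D19609 : act 2 n16820 = n19609 := rfl
def n19610 : Q := act 4 n16820
theorem D19610 : act 4 n16820 = n19610 := rfl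
theorem F36253 : act 1 n19610 = n16823 := d7_1 D19610 (iv D16823) (iv F29981)
theorem F36254 : act 3 n19610 = n16829 := d12_1 D19610 (iv D16829) (iv D13764) (iv F23559) D16820
def n19611 : Q := act 5 n16820
theorem D19611 : act 5 n16820 = n19611 := rfl
theorem F36255 : act 1 n19611 = n16824 := d8_1 D19611 (iv D16824) (iv F29981)
theorem F36256 : act 3 n19611 = n16821 := d13_1 D19611 (iv D16821) D16820
def n19612 : Q := act 4 n16821
theorem D19612 : act 4 n16821 = n19612 := rfl
theorem F36257 : act 1 n19612 = n16825 := d7_1 D19612 (iv D16825) (iv F29982)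
theorem F36258 : act 2 n19612 = n19576 := d10_1 D19612 F36173 (iv F29983)
theorem F36259 : act 5 n19612 = n16830 := d14_2 D16821 D19612 (iv D16830) (iv D13765) (iv F23559)
def n19613 : Q := act 1 n16822
theorem D19613 : act 1 n16822 = n19613 := rfl
theorem F36260 : act 3 n19613 = n17513 := d6_2 (iv F29984) D19613 (iv D17513)
theorem F36261 : act 5 n19613 = n17515 := d8_2 F29985 D19613 F31373
def n19614 : Q := act 4 n16822
theorem D19614 : act 4 n16822 = n19614 := rfl
theorem F36262 : act 0 n19614 = n16894 := d3_1 D19614 (iv F36228) F36226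
theorem F36263 : act 2 n19614 = n16823 := d10_1 D19614 (iv D16823) D16822
def n19615 : Q := act 5 n16823
theorem D19615 : act 5 n16823 = n19615 := rfl
theorem F36264 : act 0 n19615 = n16886 := d4_1 D19615 F30115 (iv F29986)
theorem F36265 : act 3 n19615 = n16831 := d13_1 D19615 (iv D16831) (iv F29987)
def n19616 : Q := act 4 n16824
theorem D19616 : act 4 n16824 = n19616 := rfl
theorem F36266 : act 2 n19616 = n17516 := d10_1 D19616 (iv D17516) (iv F29988)
def n19617 : Q := act 3 n16825
theorem D19617 : act 3 n16825 = n19617 := rfl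
theorem F36267 : act 0 n19617 = n16884 := d2_1 D19617 F30113 (iv F29990)
theorem F36268 : act 5 n19617 = n16832 := d13_2 (iv F29992) D19617 (iv D16832)
def n19618 : Q := act 4 n16826
theorem D19618 : act 4 n16826 = n19618 := rfl
theorem F36269 : act 0 n19618 = n16829 := d3_1 D19618 (iv D16829) (iv F29993)
theorem F36270 : act 1 n19618 = n16889 := d7_1 D19618 (iv D16889) (iv F29994)
def n19619 : Q := act 4 n16827
theorem D19619 : act 4 n16827 = n19619 := rfl
theorem F36271 : act 0 n19619 = n16830 := d3_1 D19619 (iv D16830) (iv F29996)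
theorem F36272 : act 1 n19619 = n16888 := d7_1 D19619 (iv D16888) (iv F29997)
theorem F36273 : act 2 n19619 = n19579 := d10_1 D19619 F36178 (iv F29998)
def n19620 : Q := act 4 n16828
theorem D19620 : act 4 n16828 = n19620 := rfl
theorem F36274 : act 1 n19620 = n16865 := d7_1 D19620 (iv D16865) (iv F30000)
theorem F36275 : act 2 n19620 = n16829 := d10_1 D19620 (iv D16829) D16828
def n19621 : Q := act 5 n16829
theorem D19621 : act 5 n16829 = n19621 := rfl
theorem F36276 : act 1 n19621 = n16831 := d8_1 D19621 (iv D16831) (iv F30002)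
theorem F36277 : act 4 n19621 = n16868 := d14_1 D19621 (iv D16868) F23633 F23566 D16829
def n19622 : Q := act 3 n16830
theorem D19622 : act 3 n16830 = n19622 := rfl
theorem F36278 : act 1 n19622 = n16832 := d6_1 D19622 (iv D16832) (iv F30003)
theorem F36279 : act 4 n19622 = n16867 := d12_2 D16830 D19622 (iv D16867) F23633 (iv F23569)
def n19623 : Q := act 2 n16832
theorem D19623 : act 2 n16832 = n19623 := rfl
theorem F36280 : act 0 n19623 = n16883 := d1_1 D19623 F30112 (iv F30008)
theorem F36281 : act 4 n19623 = n16869 := d10_2 (iv F30009) D19623 (iv D16869)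
def n19624 : Q := act 4 n16834
theorem D19624 : act 4 n16834 = n19624 := rfl
theorem F36282 : act 0 n19624 = n16836 := d3_1 D19624 (iv D16836) (iv F30014)
theorem F36283 : act 1 n19624 = n18608 := d7_1 D19624 F33841 (iv F30015)
theorem F36284 : act 2 n19624 = n19259 := d10_1 D19624 F35857 F35856
def n19625 : Q := act 4 n16835
theorem D19625 : act 4 n16835 = n19625 := rfl
theorem F36285 : act 0 n19625 = n19259 := d3_1 D19625 F35857 F35854
theorem F36286 : act 1 n19625 = n18572 := d7_1 D19625 F33752 (iv F30016)
theorem F36287 : act 2 n19625 = n16836 := d10_1 D19625 (iv D16836) D16835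
theorem F36288 : act 3 n19258 = n19625 := d2_0 F36285 (iv D19259) D19258
def n19626 : Q := act 5 n16836
theorem D19626 : act 5 n16836 = n19626 := rfl
theorem F36289 : act 1 n19626 = n16837 := d8_1 D19626 (iv D16837) (iv F30017)
def n19627 : Q := act 3 n16838
theorem D19627 : act 3 n16838 = n19627 := rfl
theorem F36290 : act 0 n19627 = n19552 := d2_1 D19627 (iv D19552) (iv F30020)
theorem F36291 : act 1 n19627 = n17561 := d6_1 D19627 (iv F35990) F35989
theorem F36292 : act 2 n19627 = n16847 := d9_1 D19627 (iv D16847) (iv D13779) (iv D10835) (iv F17858) D13577 D16644 D19450 F35817 (iv D17040) (iv D13961) (iv D10987) (iv F18168) D13773 D16838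
theorem F36293 : act 5 n19627 = n17555 := d13_2 (iv F30021) D19627 F31465
def n19628 : Q := act 4 n16838
theorem D19628 : act 4 n16838 = n19628 := rfl
theorem F36294 : act 0 n19628 = n19553 := d3_1 D19628 (iv D19553) (iv F30020)
theorem F36295 : act 2 n19628 = n16839 := d10_1 D19628 (iv D16839) D16838
def n19629 : Q := act 5 n16839
theorem D19629 : act 5 n16839 = n19629 := rfl
theorem F36296 : act 0 n19629 = n19554 := d4_1 D19629 (iv D19554) (iv F30022)
theorem F36297 : act 1 n19629 = n16840 := d8_1 D19629 (iv D16840) (iv F30023)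
theorem F36298 : act 3 n19629 = n16956 := d13_1 D19629 (iv D16956) (iv F30024)
theorem F36299 : act 4 n19629 = n18573 := d14_1 D19629 (iv D18573) F27524 (iv F23584) D16839
def n19630 : Q := act 4 n16841
theorem D19630 : act 4 n16841 = n19630 := rfl
theorem F36300 : act 0 n19630 = n16842 := d3_1 D19630 (iv D16842) D16841
theorem F36301 : act 2 n19630 = n19563 := d10_1 D19630 (iv D19563) (iv F30028)
def n19631 : Q := act 3 n16842
theorem D19631 : act 3 n16842 = n19631 := rfl
theorem F36302 : act 1 n19631 = n16843 := d6_1 D19631 (iv D16843) (iv F30030)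
def n19632 : Q := act 5 n16842
theorem D19632 : act 5 n16842 = n19632 := rfl
theorem F36303 : act 1 n19632 = n16844 := d8_1 D19632 (iv D16844) (iv F30030)
theorem F36304 : act 2 n19632 = n19565 := d11_1 D19632 (iv D19565) (iv F30031)
theorem F36305 : act 4 n19632 = n18607 := d14_1 D19632 F33840 F27610 (iv F23588) D16842
def n19633 : Q := act 2 n16843
theorem D19633 : act 2 n16843 = n19633 := rfl
theorem F36306 : act 3 n19633 = n16844 := d15_3 (iv F23589) D16843 D19633 F30032 F23591 (iv F23808) (iv F30026) (iv D16840) F23585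
theorem F36307 : act 5 n16843 = n19633 := d13_0 F36306 (iv D16844) D16843
def n19634 : Q := act 3 n16845
theorem D19634 : act 3 n16845 = n19634 := rfl
theorem F36308 : act 0 n19634 = n16847 := d2_1 D19634 (iv D16847) (iv F30034)
theorem F36309 : act 1 n19634 = n16993 := d6_1 D19634 (iv D16993) (iv F30035)
theorem F36310 : act 2 n19634 = n19552 := d9_1 D19634 (iv D19552) (iv D16759) (iv D13706) (iv F18112) F18113 (iv F19284) D14517 D17555 F31465 (iv D15713) (iv D12638) (iv F18177) D13778 D16845
theorem F36311 : act 5 n19634 = n17040 := d13_2 (iv F30036) D19634 (iv D17040)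
def n19635 : Q := act 4 n16845
theorem D19635 : act 4 n16845 = n19635 := rfl
theorem F36312 : act 0 n19635 = n16848 := d3_1 D19635 (iv D16848) (iv F30034)
theorem F36313 : act 1 n19635 = n16994 := d7_1 D19635 (iv D16994) (iv F30035)
theorem F36314 : act 2 n19635 = n16846 := d10_1 D19635 (iv D16846) D16845
theorem F36315 : act 5 n19635 = n18430 := d14_2 (iv F30036) D19635 (iv D18430) (iv D15474) (iv F23943)
def n19636 : Q := act 4 n16847
theorem D19636 : act 4 n16847 = n19636 := rfl
theorem F36316 : act 1 n19636 = n17531 := d7_1 D19636 (iv D17531) (iv F30041)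
def n19637 : Q := act 3 n16848
theorem D19637 : act 3 n16848 = n19637 := rfl
theorem F36317 : act 1 n19637 = n17532 := d6_1 D19637 (iv D17532) (iv F30043)
def n19638 : Q := act 5 n16848
theorem D19638 : act 5 n16848 = n19638 := rfl
theorem F36318 : act 0 n19638 = n18430 := d4_1 D19638 (iv F36315) F36312
theorem F36319 : act 1 n19638 = n17533 := d8_1 D19638 (iv D17533) (iv F30043)
theorem F36320 : act 2 n19638 = n16849 := d11_1 D19638 (iv D16849) (iv F30044)
theorem F36321 : act 4 n19638 = n17556 := d14_1 D19638 (iv D17556) (iv D14518) (iv F23597) D16848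
def n19639 : Q := act 4 n16850
theorem D19639 : act 4 n16850 = n19639 := rfl
theorem F36322 : act 0 n19639 = n16851 := d3_1 D19639 (iv D16851) D16850
theorem F36323 : act 1 n19639 = n16990 := d7_1 D19639 (iv D16990) (iv F30048)
theorem F36324 : act 2 n19639 = n16853 := d10_1 D19639 (iv D16853) (iv F30049)
theorem F36325 : act 3 n19639 = n17972 := d12_1 D19639 (iv D17972) (iv D14933) (iv F23859) (iv F30050)
def n19640 : Q := act 5 n16851
theorem D19640 : act 5 n16851 = n19640 := rfl
theorem F36326 : act 1 n19640 = n16852 := d8_1 D19640 (iv D16852) (iv F30052)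
theorem F36327 : act 2 n19640 = n16855 := d11_1 D19640 (iv D16855) (iv F30053)
theorem F36328 : act 3 n19640 = n17975 := d13_1 D19640 (iv D17975) (iv F30054)
theorem F36329 : act 4 n19640 = n17043 := d14_1 D19640 (iv D17043) (iv D13963) (iv F23608) D16851
def n19641 : Q := act 5 n16853
theorem D19641 : act 5 n16853 = n19641 := rfl
theorem F36330 : act 0 n19641 = n16855 := d4_1 D19641 (iv D16855) (iv F30059)
theorem F36331 : act 1 n19641 = n17530 := d8_1 D19641 (iv D17530) (iv F30060)
theorem F36332 : act 4 n19641 = n17541 := d14_1 D19641 (iv D17541) (iv D14496) (iv F23618) D16853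
def n19642 : Q := act 2 n16854
theorem D19642 : act 2 n16854 = n19642 := rfl
theorem F36333 : act 4 n19642 = n17499 := d10_2 (iv F30062) D19642 (iv D17499)
def n19643 : Q := act 5 n16854
theorem D19643 : act 5 n16854 = n19643 := rfl
theorem F36334 : act 1 n19643 = n16857 := d8_1 D19643 (iv D16857) (iv F30061)
theorem F36335 : act 3 n19643 = n16855 := d13_1 D19643 (iv D16855) D16854
def n19644 : Q := act 1 n16856
theorem D19644 : act 1 n16856 = n19644 := rfl
theorem F36336 : act 4 n19644 = n17500 := d7_2 (iv F30066) D19644 (iv D17500)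
def n19645 : Q := act 3 n16856
theorem D19645 : act 3 n16856 = n19645 := rfl
theorem F36337 : act 0 n19645 = n17527 := d2_1 D19645 (iv D17527) (iv F30065)
theorem F36338 : act 4 n19645 = n17521 := d12_2 (iv F30066) D19645 (iv D17521) F24895 (iv F24854)
def n19646 : Q := act 5 n16856
theorem D19646 : act 5 n16856 = n19646 := rfl
theorem F36339 : act 0 n19646 = n17528 := d4_1 D19646 (iv D17528) (iv F30065)
theorem F36340 : act 2 n19646 = n16857 := d11_1 D19646 (iv D16857) D16856
theorem F36341 : act 4 n19646 = n17525 := d14_1 D19646 (iv D17525) (iv D14478) (iv F24855) (iv F30066)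
def n19647 : Q := act 4 n16857
theorem D19647 : act 4 n16857 = n19647 := rfl
theorem F36342 : act 0 n19647 = n17235 := d3_1 D19647 F30783 (iv F30067)
theorem F36343 : act 2 n19647 = n17525 := d10_1 D19647 (iv F36341) F36340
theorem F36344 : act 3 n19647 = n17209 := d12_1 D19647 F30727 F24234 (iv F23624) (iv F30068)
theorem F36345 : act 5 n19647 = n17208 := d14_2 D16857 D19647 F30723 F24236 (iv F23621)
def n19648 : Q := act 0 n16858
theorem D19648 : act 0 n16858 = n19648 := rfl
theorem F36346 : act 1 n19648 = n17800 := d0_2 D16858 D19648 (iv D17800) (iv D14767) (iv F23625)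
theorem F36347 : act 2 n19648 = n16866 := d1_2 (iv F30069) D19648 (iv D16866)
theorem F36348 : act 4 n19648 = n16862 := d3_2 (iv F30070) D19648 (iv D16862)
def n19649 : Q := act 3 n16858
theorem D19649 : act 3 n16858 = n19649 := rfl
theorem F36349 : act 1 n19649 = n16859 := d6_1 D19649 (iv D16859) D16858
def n19650 : Q := act 5 n16858
theorem D19650 : act 5 n16858 = n19650 := rfl
theorem F36350 : act 1 n19650 = n16860 := d8_1 D19650 (iv D16860) D16858
theorem F36351 : act 2 n19650 = n16868 := d11_1 D19650 (iv D16868) (iv F30069)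
def n19651 : Q := act 4 n16859
theorem D19651 : act 4 n16859 = n19651 := rfl
theorem F36352 : act 0 n19651 = n17803 := d3_1 D19651 (iv D17803) (iv F30071)
theorem F36353 : act 3 n19651 = n16864 := d12_1 D19651 (iv D16864) (iv D13793) (iv F23626) D16859
def n19652 : Q := act 4 n16860
theorem D19652 : act 4 n16860 = n19652 := rfl
theorem F36354 : act 0 n19652 = n17804 := d3_1 D19652 (iv D17804) (iv F30072)
theorem F36355 : act 2 n19652 = n16861 := d10_1 D19652 (iv D16861) (iv F30073)
theorem F36356 : act 5 n19652 = n16865 := d14_2 D16860 D19652 (iv D16865) (iv D13794) (iv F23626)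
def n19653 : Q := act 4 n16863
theorem D19653 : act 4 n16863 = n19653 := rfl
theorem F36357 : act 1 n19653 = n16864 := d7_1 D19653 (iv D16864) (iv F30079)
def n19654 : Q := act 5 n16864
theorem D19654 : act 5 n16864 = n19654 := rfl
def n19655 : Q := act 3 n16865
theorem D19655 : act 3 n16865 = n19655 := rfl
def n19656 : Q := act 3 n16866
theorem D19656 : act 3 n16866 = n19656 := rfl
theorem F36358 : act 0 n19656 = n16867 := d2_1 D19656 (iv D16867) D16866
theorem F36359 : act 1 n19656 = n16876 := d6_1 D19656 (iv D16876) (iv F30081)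
def n19657 : Q := act 5 n16866
theorem D19657 : act 5 n16866 = n19657 := rfl
theorem F36360 : act 0 n19657 = n16868 := d4_1 D19657 (iv D16868) D16866
theorem F36361 : act 1 n19657 = n16877 := d8_1 D19657 (iv D16877) (iv F30081)
def n19658 : Q := act 2 n16867
theorem D19658 : act 2 n16867 = n19658 := rfl
def n19659 : Q := act 5 n16867
theorem D19659 : act 5 n16867 = n19659 := rfl
theorem F36362 : act 1 n19659 = n16870 := d8_1 D19659 (iv D16870) (iv F30083)
theorem F36363 : act 3 n19659 = n16868 := d13_1 D19659 (iv D16868) D16867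
def n19660 : Q := act 1 n16869
theorem D19660 : act 1 n16869 = n19660 := rfl
theorem F36364 : act 3 n19660 = n16873 := d6_2 (iv F30086) D19660 F30094
theorem F36365 : act 5 n19660 = n16872 := d8_2 F30087 D19660 F30093
def n19661 : Q := act 4 n16870
theorem D19661 : act 4 n16870 = n19661 := rfl
theorem F36366 : act 0 n19661 = n16885 := d3_1 D19661 (iv D16885) (iv F30088)
theorem F36367 : act 2 n19661 = n16874 := d10_1 D19661 (iv D16874) (iv F30089)
def n19662 : Q := act 3 n16871
theorem D19662 : act 3 n16871 = n19662 := rfl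
theorem F36368 : act 0 n19662 = n16872 := d2_1 D19662 (iv D16872) D16871
theorem F36369 : act 1 n19662 = n17203 := d6_1 D19662 (iv D17203) (iv F30091)
theorem F36370 : act 4 n19662 = n17231 := d12_2 (iv F30092) D19662 (iv D17231) (iv D14160) F24184
def n19663 : Q := act 5 n16871
theorem D19663 : act 5 n16871 = n19663 := rfl
theorem F36371 : act 0 n19663 = n16873 := d4_1 D19663 (iv D16873) D16871
theorem F36372 : act 1 n19663 = n16875 := d8_1 D19663 F30099 (iv F30091)
theorem F36373 : act 4 n19663 = n16873 := d14_1 D19663 (iv D16873) F23641 F24185 (iv F30092)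
def n19664 : Q := act 2 n16872
theorem D19664 : act 2 n16872 = n19664 := rfl
def n19665 : Q := act 4 n16872
theorem D19665 : act 4 n16872 = n19665 := rfl
theorem F36374 : act 0 n19665 = n17231 := d3_1 D19665 (iv F36370) F36368
theorem F36375 : act 1 n19665 = n16874 := d7_1 D19665 (iv D16874) (iv F30093)
theorem F36376 : act 3 n19665 = n17201 := d12_1 D19665 (iv D17201) (iv D14129) (iv F23641) D16872
def n19666 : Q := act 5 n16874
theorem D19666 : act 5 n16874 = n19666 := rfl
theorem F36377 : act 0 n19666 = n17210 := d4_1 D19666 (iv D17210) (iv F30095)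
theorem F36378 : act 3 n19666 = n17202 := d13_1 D19666 (iv D17202) (iv F30096)
def n19667 : Q := act 3 n16875
theorem D19667 : act 3 n16875 = n19667 := rfl
theorem F36379 : act 0 n19667 = n16882 := d2_1 D19667 F30110 (iv F30097)
theorem F36380 : act 5 n19667 = n17203 := d13_2 (iv F30099) D19667 (iv D17203)
theorem F36381 : act 2 n19667 = n17551 := d15_2 (iv F30098) D19667 (iv D17551) (iv D14513) (iv D11489) F14814 (iv F14305) (iv F18644) (iv F23645)
def n19668 : Q := act 2 n16876
theorem D19668 : act 2 n16876 = n19668 := rfl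
theorem F36382 : act 0 n19668 = n16878 := d1_1 D19668 (iv D16878) (iv F30100)
theorem F36383 : act 3 n19668 = n18813 := d15_1 D19668 (iv D18813) (iv D15934) F21855 D12915 (iv F23651) (iv F30106) (iv D16880) (iv F30100)
def n19669 : Q := act 4 n16876
theorem D19669 : act 4 n16876 = n19669 := rfl
theorem F36384 : act 0 n19669 = n16879 := d3_1 D19669 (iv D16879) (iv F30100)
theorem F36385 : act 3 n19669 = n16888 := d12_1 D19669 (iv D16888) (iv D13812) (iv F23648) D16876
def n19670 : Q := act 5 n16876
theorem D19670 : act 5 n16876 = n19670 := rfl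
theorem F36386 : act 0 n19670 = n16880 := d4_1 D19670 (iv D16880) (iv F30100)
theorem F36387 : act 3 n19670 = n16877 := d13_1 D19670 (iv D16877) D16876
def n19671 : Q := act 4 n16877
theorem D19671 : act 4 n16877 = n19671 := rfl
theorem F36388 : act 0 n19671 = n16881 := d3_1 D19671 (iv D16881) (iv F30101)
theorem F36389 : act 2 n19671 = n18436 := d10_1 D19671 F33407 (iv F30102)
theorem F36390 : act 5 n19671 = n16889 := d14_2 D16877 D19671 (iv D16889) (iv D13813) (iv F23648)
def n19672 : Q := act 1 n16878
theorem D19672 : act 1 n16878 = n19672 := rfl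
theorem F36391 : act 2 n19672 = n16882 := d5_2 D16878 D19672 (iv D16882) (iv D13808) (iv F23649)
theorem F36392 : act 0 n17551 = n19672 := d1_3 F36391 (iv F36379) F36381
theorem F36393 : act 5 n17206 = n19672 := d11_0 F36391 F30111 D17206
theorem F36394 : act 3 n17511 = n19672 := d15_1 (iv F31366) F36391 F30110 F24199 F18643 (iv F19275) D14509 F24966 (iv F24881)
theorem F36395 : act 4 n19672 = n18380 := d12_2 D17511 F36394 F33307 F26930 (iv F24880)
def n19673 : Q := act 3 n16878
theorem D19673 : act 3 n16878 = n19673 := rfl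
theorem F36396 : act 0 n19673 = n18813 := d2_1 D19673 (iv F36383) F36382
theorem F36397 : act 1 n19673 = n17511 := d6_1 D19673 F36394 (iv D19672)
theorem F36398 : act 2 n19673 = n18371 := d15_2 D16878 D19673 (iv D18371) F26911 D15939 (iv F30102) (iv F36387) (iv D19670) F30100
theorem F36399 : act 4 n17510 = n19673 := d10_0 F36398 F33289 (iv F31362)
def n19674 : Q := act 4 n16878
theorem D19674 : act 4 n16878 = n19674 := rfl
theorem F36400 : act 1 n19674 = n18380 := d7_1 D19674 (iv F36395) (iv D19672)
theorem F36401 : act 2 n19674 = n16879 := d10_1 D19674 (iv D16879) D16878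
theorem F36402 : act 3 n19674 = n18378 := d12_1 D19674 F33306 (iv F31363) F36399 (iv D19673)
theorem F36403 : act 5 n18377 = n19674 := d13_0 F36402 (iv D18378) D18377
def n19675 : Q := act 5 n16878
theorem D19675 : act 5 n16878 = n19675 := rfl
theorem F36404 : act 1 n19675 = n17206 := d8_1 D19675 F36393 (iv D19672)
theorem F36405 : act 2 n19675 = n16880 := d11_1 D19675 (iv D16880) D16878
def n19676 : Q := act 5 n16879
theorem D19676 : act 5 n16879 = n19676 := rfl
theorem F36406 : act 1 n19676 = n16884 := d8_1 D19676 (iv D16884) (iv F30103)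
theorem F36407 : act 2 n19676 = n18377 := d11_1 D19676 F36403 F36401
theorem F36408 : act 3 n19676 = n16892 := d13_1 D19676 (iv D16892) (iv F30104)
def n19677 : Q := act 4 n16880
theorem D19677 : act 4 n16880 = n19677 := rfl
theorem F36409 : act 1 n19677 = n16885 := d7_1 D19677 (iv D16885) (iv F30105)
def n19678 : Q := act 3 n16881
theorem D19678 : act 3 n16881 = n19678 := rfl
theorem F36410 : act 1 n19678 = n16886 := d6_1 D19678 (iv D16886) (iv F30107)
theorem F36411 : act 5 n19678 = n16893 := d13_2 (iv F30109) D19678 (iv D16893)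
def n19679 : Q := act 4 n16882
theorem D19679 : act 4 n16882 = n19679 := rfl
theorem F36412 : act 1 n19679 = n16883 := d7_1 D19679 (iv D16883) D16882
theorem F36413 : act 2 n19679 = n18380 := d10_1 D19679 (iv F36395) F36391
theorem F36414 : act 3 n19679 = n16883 := d12_1 D19679 (iv D16883) F23652 (iv F24200) (iv F30110)
theorem F36415 : act 5 n18379 = n19679 := d11_0 F36413 (iv D18380) D18379
def n19680 : Q := act 5 n16883
theorem D19680 : act 5 n16883 = n19680 := rfl
theorem F36416 : act 1 n19680 = n18379 := d8_1 D19680 F36415 F36412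
theorem F36417 : act 2 n19680 = n16884 := d11_1 D19680 (iv D16884) (iv F30112)
theorem F36418 : act 3 n19680 = n18379 := d13_1 D19680 F36415 F36414
theorem F36419 : act 4 n19680 = n17210 := d14_1 D19680 (iv D17210) F24207 F23653 D16883
def n19681 : Q := act 4 n16884
theorem D19681 : act 4 n16884 = n19681 := rfl
theorem F36420 : act 2 n19681 = n17210 := d10_1 D19681 (iv F36419) F36417
theorem F36421 : act 5 n19681 = n16885 := d14_2 D16884 D19681 (iv D16885) (iv D13810) D13809
def n19682 : Q := act 3 n16885
theorem D19682 : act 3 n16885 = n19682 := rfl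
theorem F36422 : act 4 n19682 = n16886 := d12_2 D16885 D19682 (iv D16886) (iv D13811) (iv F23656)
def n19683 : Q := act 2 n16886
theorem D19683 : act 2 n16886 = n19683 := rfl
theorem F36423 : act 5 n19683 = n16894 := d11_2 (iv F30115) D19683 (iv D16894)
def n19684 : Q := act 1 n16887
theorem D19684 : act 1 n16887 = n19684 := rfl
theorem F36424 : act 0 n19684 = n19568 := d0_1 D19684 (iv D19568) (iv F29948) F29949 (iv F30116)
theorem F36425 : act 2 n19684 = n19574 := d5_2 D16887 D19684 F36166 (iv F29998) F29997
theorem F36426 : act 5 n19684 = n19569 := d8_2 F36207 D19684 (iv F36205)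
def n19685 : Q := act 4 n16887
theorem D19685 : act 4 n16887 = n19685 := rfl
theorem F36427 : act 0 n19685 = n16891 := d3_1 D19685 (iv D16891) (iv F30116)
theorem F36428 : act 2 n19685 = n16888 := d10_1 D19685 (iv D16888) D16887
theorem F36429 : act 3 n19685 = n19567 := d12_1 D19685 F36155 (iv F36096) F36097 F33180
def n19686 : Q := act 5 n16888
theorem D19686 : act 5 n16888 = n19686 := rfl
theorem F36430 : act 0 n19686 = n16892 := d4_1 D19686 (iv D16892) (iv F30117)
def n19687 : Q := act 3 n16889
theorem D19687 : act 3 n16889 = n19687 := rfl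
theorem F36431 : act 0 n19687 = n16893 := d2_1 D19687 (iv D16893) (iv F30118)
theorem F36432 : act 2 n19687 = n18444 := d15_2 F30690 D19687 (iv D18444) (iv D15488) (iv D12402) (iv F20930) D15482 F27080 D17190
def n19688 : Q := act 5 n16891
theorem D19688 : act 5 n16891 = n19688 := rfl
theorem F36433 : act 2 n19688 = n16892 := d11_1 D19688 (iv D16892) (iv F30119)
def n19689 : Q := act 2 n16893
theorem D19689 : act 2 n16893 = n19689 := rfl
theorem F36434 : act 0 n19689 = n18444 := d1_1 D19689 (iv F36432) F36431
theorem F36435 : act 3 n19689 = n18441 := d15_3 F24168 D16893 D19689 (iv D18441) (iv D15486) (iv F27077) D18436 F33408 (iv D17190)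
def n19690 : Q := act 1 n16894
theorem D19690 : act 1 n16894 = n19690 := rfl
def n19691 : Q := act 3 n16894
theorem D19691 : act 3 n16894 = n19691 := rfl
theorem F36436 : act 4 n19691 = n17395 := d12_2 F36228 D19691 F36249 (iv D19606) (iv F36227)
theorem F36437 : act 2 n19691 = n17538 := d15_2 D16894 D19691 F31427 F24956 (iv F23638) (iv F30006) (iv F36265) (iv D19615) F29986
theorem F36438 : act 1 n17396 = n19691 := d5_5 F36437 F31426 F24929 (iv F24553) (iv F31117)
theorem F36439 : act 3 n19690 = n17396 := d6_0 F36438 (iv D19691) D19690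
def n19692 : Q := act 3 n16895
theorem D19692 : act 3 n16895 = n19692 := rfl
theorem F36440 : act 0 n19692 = n18569 := d2_1 D19692 (iv D18569) (iv F30122)
def n19693 : Q := act 5 n16895
theorem D19693 : act 5 n16895 = n19693 := rfl
theorem F36441 : act 0 n19693 = n18570 := d4_1 D19693 (iv D18570) (iv F30122)
theorem F36442 : act 2 n19693 = n16896 := d11_1 D19693 (iv D16896) (iv F30123)
theorem F36443 : act 4 n19693 = n18598 := d14_1 D19693 (iv D18598) (iv D15707) (iv F23664) D16895
def n19694 : Q := act 4 n16899
theorem D19694 : act 4 n16899 = n19694 := rfl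
theorem F36444 : act 0 n19694 = n16902 := d3_1 D19694 (iv D16902) (iv F30137)
theorem F36445 : act 1 n19694 = n17476 := d7_1 D19694 F31273 (iv F30138)
theorem F36446 : act 2 n19694 = n19653 := d10_1 D19694 (iv D19653) (iv F30139)
theorem F36447 : act 3 n19694 = n16910 := d12_1 D19694 (iv D16910) (iv D13835) (iv F23689) D16899
def n19695 : Q := act 5 n16899
theorem D19695 : act 5 n16899 = n19695 := rfl
theorem F36448 : act 0 n19695 = n16903 := d4_1 D19695 (iv D16903) (iv F30137)
theorem F36449 : act 1 n19695 = n18313 := d8_1 D19695 F33154 (iv F30138)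
theorem F36450 : act 2 n19695 = n18563 := d11_1 D19695 F33738 (iv F30139)
theorem F36451 : act 3 n19695 = n16900 := d13_1 D19695 (iv D16900) D16899
def n19696 : Q := act 4 n16900
theorem D19696 : act 4 n16900 = n19696 := rfl
theorem F36452 : act 0 n19696 = n16904 := d3_1 D19696 (iv D16904) (iv F30140)
theorem F36453 : act 1 n19696 = n17475 := d7_1 D19696 F31271 (iv F30141)
theorem F36454 : act 5 n19696 = n16911 := d14_2 D16900 D19696 (iv D16911) (iv D13836) (iv F23689)
def n19697 : Q := act 4 n16901
theorem D19697 : act 4 n16901 = n19697 := rfl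
theorem F36455 : act 0 n19697 = n19653 := d3_1 D19697 (iv D19653) (iv F30142)
theorem F36456 : act 1 n19697 = n18362 := d7_1 D19697 (iv D18362) (iv F30143)
theorem F36457 : act 2 n19697 = n16902 := d10_1 D19697 (iv D16902) D16901
def n19698 : Q := act 5 n16901
theorem D19698 : act 5 n16901 = n19698 := rfl
theorem F36458 : act 0 n19698 = n18563 := d4_1 D19698 F33738 (iv F30142)
theorem F36459 : act 1 n19698 = n17950 := d8_1 D19698 F32301 (iv F30143)
theorem F36460 : act 2 n19698 = n16903 := d11_1 D19698 (iv D16903) D16901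
theorem F36461 : act 3 n19698 = n18340 := d13_1 D19698 (iv F33228) (iv F30144)
def n19699 : Q := act 5 n16902
theorem D19699 : act 5 n16902 = n19699 := rfl
theorem F36462 : act 1 n19699 = n16906 := d8_1 D19699 (iv D16906) (iv F30145)
theorem F36463 : act 3 n19699 = n16914 := d13_1 D19699 (iv D16914) (iv F30146)
def n19700 : Q := act 4 n16903
theorem D19700 : act 4 n16903 = n19700 := rfl
theorem F36464 : act 1 n19700 = n16907 := d7_1 D19700 (iv D16907) (iv F30147)
def n19701 : Q := act 3 n16904
theorem D19701 : act 3 n16904 = n19701 := rfl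
theorem F36465 : act 1 n19701 = n16908 := d6_1 D19701 (iv D16908) (iv F30149)
theorem F36466 : act 5 n19701 = n16915 := d13_2 (iv F30150) D19701 (iv D16915)
def n19702 : Q := act 4 n16906
theorem D19702 : act 4 n16906 = n19702 := rfl
theorem F36467 : act 0 n19702 = n17472 := d3_1 D19702 F31264 (iv F30154)
theorem F36468 : act 2 n19702 = n17952 := d10_1 D19702 F32306 F31602
theorem F36469 : act 3 n19702 = n17450 := d12_1 D19702 (iv D17450) F24757 (iv F23714) (iv F30155)
theorem F36470 : act 5 n19702 = n16907 := d14_2 D16906 D19702 (iv D16907) (iv D13833) D13832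
def n19703 : Q := act 3 n16907
theorem D19703 : act 3 n16907 = n19703 := rfl
theorem F36471 : act 0 n19703 = n17471 := d2_1 D19703 (iv F33906) F33903
theorem F36472 : act 2 n19703 = n17456 := d9_1 D19703 (iv F31678) F31677 F28785 (iv F27676) (iv F33910) F33909 (iv D17472) (iv F28756) F28757 (iv F25155) F25156 F21445 (iv F25808) (iv F30156)
theorem F36473 : act 4 n19703 = n16908 := d12_2 D16907 D19703 (iv D16908) (iv D13834) (iv F23698)
theorem F36474 : act 5 n19703 = n17450 := d13_2 F36470 D19703 (iv F36469)
def n19704 : Q := act 2 n16908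
theorem D19704 : act 2 n16908 = n19704 := rfl
theorem F36475 : act 0 n19704 = n17470 := d1_1 D19704 F31262 (iv F30157)
theorem F36476 : act 3 n19704 = n18613 := d9_2 D16908 D19704 (iv D18613) (iv D15729) F21390 (iv F18244) F18243 (iv F19072) (iv F24768) D17469 (iv F36002) (iv D19513) F29728 F23263 (iv F23700)
theorem F36477 : act 4 n19704 = n17456 := d10_2 F36473 D19704 (iv F36472)
theorem F36478 : act 5 n19704 = n16916 := d11_2 (iv F30158) D19704 (iv D16916)
def n19705 : Q := act 3 n16909
theorem D19705 : act 3 n16909 = n19705 := rfl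
theorem F36479 : act 0 n19705 = n16912 := d2_1 D19705 (iv D16912) (iv F30159)
theorem F36480 : act 1 n19705 = n17576 := d6_1 D19705 F31502 F31136
theorem F36481 : act 5 n19705 = n17437 := d13_2 (iv F30160) D19705 (iv D17437)
def n19706 : Q := act 3 n16911
theorem D19706 : act 3 n16911 = n19706 := rfl
theorem F36482 : act 0 n19706 = n16915 := d2_1 D19706 (iv D16915) (iv F30163)
theorem F36483 : act 1 n19706 = n17459 := d6_1 D19706 F31252 (iv F30164)
theorem F36484 : act 4 n19706 = n17445 := d12_2 D16911 D19706 (iv D17445) F24749 (iv F23707)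
def n19707 : Q := act 2 n16912
theorem D19707 : act 2 n16912 = n19707 := rfl
theorem F36485 : act 1 n19707 = n17567 := d5_1 D19707 (iv D17567) F24997 (iv F24744) (iv F30165)
theorem F36486 : act 5 n19707 = n17438 := d11_2 (iv F30166) D19707 (iv D17438)
def n19708 : Q := act 4 n16912
theorem D19708 : act 4 n16912 = n19708 := rfl
theorem F36487 : act 1 n19708 = n17443 := d7_1 D19708 (iv D17443) (iv F30165)
def n19709 : Q := act 3 n16913
theorem D19709 : act 3 n16913 = n19709 := rfl
theorem F36488 : act 0 n19709 = n18918 := d2_1 D19709 F34647 F32110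
theorem F36489 : act 1 n19709 = n17444 := d6_1 D19709 (iv D17444) (iv F30167)
theorem F36490 : act 5 n19709 = n18916 := d13_2 F31712 D19709 (iv F34640)
def n19710 : Q := act 2 n16915
theorem D19710 : act 2 n16915 = n19710 := rfl
theorem F36491 : act 4 n19710 = n17447 := d10_2 (iv F30172) D19710 (iv D17447)
def n19711 : Q := act 1 n16916
theorem D19711 : act 1 n16916 = n19711 := rfl
theorem F36492 : act 4 n19711 = n17449 := d7_2 (iv F30174) D19711 (iv D17449)
def n19712 : Q := act 3 n16916
theorem D19712 : act 3 n16916 = n19712 := rfl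
theorem F36493 : act 0 n19712 = n17469 := d2_1 D19712 (iv D17469) (iv F30173)
theorem F36494 : act 2 n19712 = n18070 := d9_1 D19712 (iv D18070) F26192 (iv F23683) F23682 (iv F24769) (iv F31262) (iv F36018) (iv D19518) (iv D16712) F23278 F17958 (iv F18255) D13841 D16916
theorem F36495 : act 4 n19712 = n17457 := d12_2 (iv F30174) D19712 (iv D17457) (iv D14401) (iv F24753)
theorem F36496 : act 5 n19712 = n18613 := d13_2 F36478 D19712 (iv F36476)
def n19713 : Q := act 4 n16917
theorem D19713 : act 4 n16917 = n19713 := rfl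
theorem F36497 : act 0 n19713 = n16921 := d3_1 D19713 (iv D16921) (iv F30175)
theorem F36498 : act 2 n19713 = n16918 := d10_1 D19713 (iv D16918) D16917
theorem F36499 : act 5 n19713 = n18645 := d14_2 (iv F32047) D19713 (iv D18645) F27700 (iv F32046)
def n19714 : Q := act 3 n16919
theorem D19714 : act 3 n16919 = n19714 := rfl
theorem F36500 : act 1 n19714 = n16920 := d6_1 D19714 (iv D16920) D16919
theorem F36501 : act 5 n19714 = n16933 := d13_2 F30182 D19714 (iv D16933)
def n19715 : Q := act 4 n16919
theorem D19715 : act 4 n16919 = n19715 := rfl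
theorem F36502 : act 1 n19715 = n16921 := d7_1 D19715 (iv D16921) D16919
theorem F36503 : act 2 n19715 = n16924 := d10_1 D19715 (iv D16924) (iv F30181)
def n19716 : Q := act 4 n16920
theorem D19716 : act 4 n16920 = n19716 := rfl
theorem F36504 : act 0 n19716 = n17574 := d3_1 D19716 (iv D17574) (iv F30183)
theorem F36505 : act 2 n19716 = n17572 := d10_1 D19716 (iv D17572) (iv F30184)
def n19717 : Q := act 5 n16920
theorem D19717 : act 5 n16920 = n19717 := rfl
theorem F36506 : act 0 n19717 = n16929 := d4_1 D19717 F30203 (iv F30183)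
theorem F36507 : act 1 n19717 = n16933 := d8_1 D19717 (iv F36501) F36500
theorem F36508 : act 2 n19717 = n16928 := d11_1 D19717 F30202 (iv F30184)
theorem F36509 : act 3 n19717 = n16922 := d13_1 D19717 (iv D16922) D16920
def n19718 : Q := act 3 n16921
theorem D19718 : act 3 n16921 = n19718 := rfl
def n19719 : Q := act 5 n16921
theorem D19719 : act 5 n16921 = n19719 := rfl
theorem F36510 : act 0 n19719 = n18645 := d4_1 D19719 (iv F36499) F36497
theorem F36511 : act 2 n19719 = n16923 := d11_1 D19719 (iv D16923) (iv F30185)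
theorem F36512 : act 4 n19719 = n18643 := d14_1 D19719 F33938 F32056 (iv D16922) D16921
def n19720 : Q := act 3 n16924
theorem D19720 : act 3 n16924 = n19720 := rfl
theorem F36513 : act 1 n19720 = n16925 := d6_1 D19720 (iv D16925) (iv F30192)
theorem F36514 : act 4 n19720 = n16936 := d12_2 D16924 D19720 (iv D16936) (iv D13862) (iv F23744)
def n19721 : Q := act 5 n16924
theorem D19721 : act 5 n16924 = n19721 := rfl
theorem F36515 : act 1 n19721 = n16926 := d8_1 D19721 (iv D16926) (iv F30192)
theorem F36516 : act 4 n19721 = n16935 := d14_1 D19721 (iv D16935) (iv D13861) (iv F23745) D16924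
def n19722 : Q := act 5 n16925
theorem D19722 : act 5 n16925 = n19722 := rfl
theorem F36517 : act 0 n19722 = n16938 := d4_1 D19722 F30213 (iv F30193)
theorem F36518 : act 3 n19722 = n16926 := d13_1 D19722 (iv D16926) D16925
def n19723 : Q := act 3 n16927
theorem D19723 : act 3 n16927 = n19723 := rfl
theorem F36519 : act 0 n19723 = n17440 := d2_1 D19723 F31228 (iv F30198)
theorem F36520 : act 1 n19723 = n16928 := d6_1 D19723 (iv D16928) D16927
theorem F36521 : act 5 n19723 = n17566 := d13_2 (iv F30200) D19723 (iv D17566)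
def n19724 : Q := act 4 n16928
theorem D19724 : act 4 n16928 = n19724 := rfl
theorem F36522 : act 0 n19724 = n16930 := d3_1 D19724 (iv D16930) (iv F30201)
def n19725 : Q := act 4 n16929
theorem D19725 : act 4 n16929 = n19725 := rfl
theorem F36523 : act 2 n19725 = n16930 := d10_1 D19725 (iv D16930) D16929
def n19726 : Q := act 5 n16930
theorem D19726 : act 5 n16930 = n19726 := rfl
theorem F36524 : act 1 n19726 = n17580 := d8_1 D19726 F31509 (iv F30204)
theorem F36525 : act 4 n19726 = n17575 := d14_1 D19726 (iv D17575) (iv D14536) (iv F23762) D16930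
def n19727 : Q := act 3 n16931
theorem D19727 : act 3 n16931 = n19727 := rfl
theorem F36526 : act 0 n19727 = n16933 := d2_1 D19727 (iv D16933) (iv F30205)
def n19728 : Q := act 5 n16932
theorem D19728 : act 5 n16932 = n19728 := rfl
theorem F36527 : act 0 n19728 = n16935 := d4_1 D19728 (iv D16935) (iv F30206)
theorem F36528 : act 1 n19728 = n16937 := d8_1 D19728 (iv D16937) (iv F30207)
def n19729 : Q := act 2 n16933
theorem D19729 : act 2 n16933 = n19729 := rfl
theorem F36529 : act 3 n19729 = n17650 := d15_3 D13860 D16933 D19729 (iv D17650) (iv D14602) F19403 D14329 F24593 F23763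
def n19730 : Q := act 4 n16933
theorem D19730 : act 4 n16933 = n19730 := rfl
def n19731 : Q := act 3 n16934
theorem D19731 : act 3 n16934 = n19731 := rfl
theorem F36530 : act 0 n19731 = n18902 := d2_1 D19731 F34590 (iv F32037)
theorem F36531 : act 2 n19172 = n19731 := d15_0 (iv D19731) F30208 (iv F29609) (iv F35859) F35860 F33782 (iv F35188) (iv D19174) D19172
def n19732 : Q := act 5 n16934
theorem D19732 : act 5 n16934 = n19732 := rfl
theorem F36532 : act 1 n19732 = n18643 := d8_1 D19732 F33938 F32054
theorem F36533 : act 2 n19732 = n16935 := d11_1 D19732 (iv D16935) (iv F30208)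
def n19733 : Q := act 2 n16936
theorem D19733 : act 2 n16936 = n19733 := rfl
def n19734 : Q := act 2 n16938
theorem D19734 : act 2 n16938 = n19734 := rfl
theorem F36534 : act 1 n19734 = n17196 := d5_1 D19734 (iv D17196) (iv F30696) F31130 F30798
theorem F36535 : act 5 n19734 = n16939 := d11_2 (iv F30213) D19734 (iv D16939)
theorem F36536 : act 3 n19734 = n18556 := d15_1 D19734 (iv D18556) (iv D15636) F21237 (iv F18279) (iv F23747) D16925 D19722 F36517
def n19735 : Q := act 1 n16941
theorem D19735 : act 1 n16941 = n19735 := rfl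
theorem F36537 : act 2 n19735 = n16942 := d5_2 D16941 D19735 (iv D16942) (iv D13872) (iv F23781)
theorem F36538 : act 4 n19735 = n18012 := d7_2 (iv F30216) D19735 (iv D18012)
theorem F36539 : act 5 n19735 = n16953 := d8_2 (iv F30217) D19735 (iv D16953)
def n19736 : Q := act 0 n16942
theorem D19736 : act 0 n16942 = n19736 := rfl
theorem F36540 : act 1 n19736 = n17992 := d0_2 D16942 D19736 (iv D17992) (iv D14960) (iv F23784)
theorem F36541 : act 4 n19736 = n18015 := d3_2 (iv F30218) D19736 (iv D18015)
theorem F36542 : act 5 n19736 = n16954 := d4_2 (iv F30219) D19736 (iv D16954)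
def n19737 : Q := act 2 n16945
theorem D19737 : act 2 n16945 = n19737 := rfl
theorem F36543 : act 0 n19737 = n16951 := d1_1 D19737 (iv D16951) (iv F30223)
theorem F36544 : act 5 n19737 = n17783 := d11_2 F32742 D19737 (iv F32744)
theorem F36545 : act 3 n19737 = n17784 := d15_1 D19737 F31961 F25462 (iv F23777) F23778 (iv F23799) (iv F30231) (iv D16952) (iv F30223)
def n19738 : Q := act 1 n16947
theorem D19738 : act 1 n16947 = n19738 := rfl
theorem F36546 : act 2 n19738 = n18702 := d5_2 D16947 D19738 F34095 F27859 (iv F23794)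
theorem F36547 : act 5 n19738 = n18721 := d8_2 (iv F30227) D19738 (iv D18721)
def n19739 : Q := act 3 n16948
theorem D19739 : act 3 n16948 = n19739 := rfl
theorem F36548 : act 0 n19739 = n17695 := d2_1 D19739 F31768 (iv F30228)
theorem F36549 : act 4 n19739 = n17693 := d12_2 D16948 D19739 (iv D17693) F25223 (iv F23797)
def n19740 : Q := act 2 n16949
theorem D19740 : act 2 n16949 = n19740 := rfl
theorem F36550 : act 4 n19740 = n16951 := d10_2 (iv F30230) D19740 (iv D16951)
def n19741 : Q := act 1 n16951
theorem D19741 : act 1 n16951 = n19741 := rfl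
def n19742 : Q := act 3 n16951
theorem D19742 : act 3 n16951 = n19742 := rfl
theorem F36551 : act 0 n19742 = n17784 := d2_1 D19742 (iv F36545) F36543
theorem F36552 : act 2 n19742 = n17781 := d9_1 D19742 F31959 (iv F29281) F29282 (iv F30225) F32743 F32744 (iv D17783) (iv D14743) (iv D11685) (iv F18303) F18304 (iv F18322) D13880 D16951
theorem F36553 : act 5 n19742 = n17780 := d15_8 (iv D14743) (iv D11685) (iv F18303) F18304 (iv F18322) D13880 D16951 D19742 F31955
def n19743 : Q := act 5 n16951
theorem D19743 : act 5 n16951 = n19743 := rfl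
theorem F36554 : act 0 n19743 = n17783 := d4_1 D19743 (iv F36544) F36543
theorem F36555 : act 2 n19743 = n16952 := d11_1 D19743 (iv D16952) D16951
theorem F36556 : act 3 n19743 = n17780 := d13_1 D19743 (iv F36553) (iv D19742)
def n19744 : Q := act 0 n16953
theorem D19744 : act 0 n16953 = n19744 := rfl
theorem F36557 : act 2 n19744 = n16954 := d1_2 (iv F30232) D19744 (iv D16954)
def n19745 : Q := act 3 n16954
theorem D19745 : act 3 n16954 = n19745 := rfl
theorem F36558 : act 0 n19745 = n16955 := d2_1 D19745 (iv D16955) D16954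
theorem F36559 : act 1 n19745 = n18516 := d6_1 D19745 F33713 F33712
def n19746 : Q := act 2 n16955
theorem D19746 : act 2 n16955 = n19746 := rfl
theorem F36560 : act 1 n19746 = n17994 := d5_1 D19746 (iv D17994) F25889 (iv F23801) (iv F30233)
def n19747 : Q := act 4 n16957
theorem D19747 : act 4 n16957 = n19747 := rfl
theorem F36561 : act 0 n19747 = n16960 := d3_1 D19747 (iv D16960) (iv F30236)
theorem F36562 : act 1 n19747 = n18314 := d7_1 D19747 F33156 (iv F30237)
theorem F36563 : act 3 n19747 = n16965 := d12_1 D19747 (iv D16965) (iv D13893) (iv F23811) D16957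
def n19748 : Q := act 4 n16958
theorem D19748 : act 4 n16958 = n19748 := rfl
theorem F36564 : act 0 n19748 = n16961 := d3_1 D19748 (iv D16961) (iv F30239)
theorem F36565 : act 1 n19748 = n17474 := d7_1 D19748 (iv D17474) (iv F30240)
theorem F36566 : act 5 n19748 = n16966 := d14_2 D16958 D19748 (iv D16966) (iv D13894) (iv F23811)
def n19749 : Q := act 4 n16959
theorem D19749 : act 4 n16959 = n19749 := rfl
theorem F36567 : act 1 n19749 = n17626 := d7_1 D19749 (iv D17626) (iv F30242)
theorem F36568 : act 2 n19749 = n16960 := d10_1 D19749 (iv D16960) D16959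
def n19750 : Q := act 5 n16960
theorem D19750 : act 5 n16960 = n19750 := rfl
theorem F36569 : act 1 n19750 = n16962 := d8_1 D19750 (iv D16962) (iv F30244)
theorem F36570 : act 3 n19750 = n16969 := d13_1 D19750 (iv D16969) (iv F30245)
theorem F36571 : act 4 n19750 = n18568 := d14_1 D19750 (iv D18568) (iv D15667) F23813 D16960
def n19751 : Q := act 3 n16961
theorem D19751 : act 3 n16961 = n19751 := rfl
theorem F36572 : act 1 n19751 = n16963 := d6_1 D19751 (iv D16963) (iv F30246)
theorem F36573 : act 4 n19751 = n18567 := d12_2 D16961 D19751 (iv D18567) (iv D15667) (iv F23815)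
theorem F36574 : act 5 n19751 = n16970 := d13_2 (iv F30247) D19751 (iv D16970)
def n19752 : Q := act 2 n16963
theorem D19752 : act 2 n16963 = n19752 := rfl
theorem F36575 : act 0 n19752 = n18309 := d1_1 D19752 F33140 (iv F30252)
theorem F36576 : act 4 n19752 = n18301 := d10_2 (iv F30253) D19752 F33133
theorem F36577 : act 5 n19752 = n16971 := d11_2 (iv F30254) D19752 (iv D16971)
def n19753 : Q := act 3 n16964
theorem D19753 : act 3 n16964 = n19753 := rfl
theorem F36578 : act 0 n19753 = n16967 := d2_1 D19753 (iv D16967) (iv F30255)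
theorem F36579 : act 1 n19753 = n18285 := d6_1 D19753 (iv F33099) (iv F30256)
theorem F36580 : act 5 n19753 = n18279 := d13_2 (iv F30257) D19753 (iv D18279)
theorem F36581 : act 4 n16967 = n19753 := d7_0 F36579 (iv D18285) (iv F30262)
def n19754 : Q := act 4 n16964
theorem D19754 : act 4 n16964 = n19754 := rfl
theorem F36582 : act 0 n19754 = n16968 := d3_1 D19754 (iv D16968) (iv F30255)
theorem F36583 : act 1 n19754 = n18286 := d7_1 D19754 F33102 (iv F30256)
theorem F36584 : act 2 n19754 = n16965 := d10_1 D19754 (iv D16965) D16964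
theorem F36585 : act 3 n19754 = n16968 := d12_1 D19754 (iv D16968) D16967 F36581 (iv D19753)
theorem F36586 : act 5 n19754 = n18616 := d14_2 (iv F30257) D19754 (iv D18616) (iv D15731) (iv F26699)
def n19755 : Q := act 5 n16965
theorem D19755 : act 5 n16965 = n19755 := rfl
theorem F36587 : act 0 n19755 = n16969 := d4_1 D19755 (iv D16969) (iv F30258)
theorem F36588 : act 1 n19755 = n18151 := d8_1 D19755 F32775 (iv F30259)
theorem F36589 : act 2 n19755 = n18616 := d11_1 D19755 (iv F36586) F36584
theorem F36590 : act 4 n19755 = n18149 := d14_1 D19755 F32770 F26714 F23824 D16965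
def n19756 : Q := act 3 n16966
theorem D19756 : act 3 n16966 = n19756 := rfl
theorem F36591 : act 0 n19756 = n16970 := d2_1 D19756 (iv D16970) (iv F30260)
theorem F36592 : act 1 n19756 = n18303 := d6_1 D19756 F33136 (iv F30261)
theorem F36593 : act 4 n19756 = n18287 := d12_2 D16966 D19756 (iv D18287) F26714 (iv F23827)
def n19757 : Q := act 2 n16967
theorem D19757 : act 2 n16967 = n19757 := rfl
theorem F36594 : act 1 n19757 = n18323 := d5_1 D19757 (iv D18323) F26767 (iv F26707) (iv F30262)
theorem F36595 : act 3 n19757 = n19684 := d9_2 D16967 D19757 F36425 F36167 F29928 F23827 (iv F26698) D18279 (iv F36162) (iv D19570) F29913 F23498 F18160 D10930 D13895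
theorem F36596 : act 5 n19757 = n18280 := d11_2 (iv F30263) D19757 (iv D18280)
def n19758 : Q := act 2 n16970
theorem D19758 : act 2 n16970 = n19758 := rfl
theorem F36597 : act 4 n19758 = n18288 := d10_2 (iv F30271) D19758 (iv D18288)
def n19759 : Q := act 1 n16971
theorem D19759 : act 1 n16971 = n19759 := rfl
theorem F36598 : act 4 n19759 = n18290 := d7_2 (iv F30273) D19759 (iv D18290)
def n19760 : Q := act 3 n16971
theorem D19760 : act 3 n16971 = n19760 := rfl
theorem F36599 : act 0 n19760 = n18308 := d2_1 D19760 (iv D18308) (iv F30272)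
theorem F36600 : act 2 n19760 = n18302 := d9_1 D19760 (iv D18302) F26740 F20641 (iv F20655) (iv F26745) (iv F33140) (iv F36195) (iv D19587) (iv D16801) F23521 F18110 (iv F18351) D13899 D16971
theorem F36601 : act 4 n19760 = n18302 := d12_2 (iv F30273) D19760 (iv D18302) (iv D15309) (iv F26719)
def n19761 : Q := act 0 n16974
theorem D19761 : act 0 n16974 = n19761 := rfl
theorem F36602 : act 1 n19761 = n17022 := d0_2 D16974 D19761 (iv D17022) (iv D13944) (iv F23850)
theorem F36603 : act 2 n19761 = n18359 := d1_2 F33901 D19761 (iv F33899)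
theorem F36604 : act 4 n19761 = n16976 := d3_2 (iv F30281) D19761 (iv D16976)
def n19762 : Q := act 3 n16974
theorem D19762 : act 3 n16974 = n19762 := rfl
theorem F36605 : act 1 n19762 = n16975 := d6_1 D19762 (iv D16975) D16974
theorem F36606 : act 4 n19762 = n17031 := d12_2 (iv F30281) D19762 (iv D17031) (iv D13952) (iv F23852)
def n19763 : Q := act 0 n16977
theorem D19763 : act 0 n16977 = n19763 := rfl
theorem F36607 : act 1 n19763 = n17751 := d0_2 D16977 D19763 F31889 (iv F29844) F29843
theorem F36608 : act 2 n19763 = n16979 := d1_2 (iv F30288) D19763 (iv D16979)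
theorem F36609 : act 5 n19763 = n17025 := d4_2 (iv F30289) D19763 F30401
theorem F36610 : act 3 n18158 = n19763 := d13_3 F36609 F30403 (iv F32788)
def n19764 : Q := act 3 n16977
theorem D19764 : act 3 n16977 = n19764 := rfl
theorem F36611 : act 0 n19764 = n18158 := d2_1 D19764 F36610 (iv D19763)
theorem F36612 : act 1 n19764 = n16978 := d6_1 D19764 (iv D16978) D16977
theorem F36613 : act 2 n19764 = n18156 := d9_1 D19764 (iv D18156) (iv D15165) (iv D12079) (iv F18437) D13947 D17025 F30403 (iv D15333) (iv D12235) F15940 (iv F15719) (iv F18435) (iv F23855) (iv F30288)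
theorem F36614 : act 5 n19764 = n17027 := d13_2 (iv F30289) D19764 (iv D17027)
def n19765 : Q := act 4 n16978
theorem D19765 : act 4 n16978 = n19765 := rfl
theorem F36615 : act 2 n19765 = n19594 := d10_1 D19765 (iv D19594) (iv F30290)
def n19766 : Q := act 4 n16980
theorem D19766 : act 4 n16980 = n19766 := rfl
theorem F36616 : act 0 n19766 = n16981 := d3_1 D19766 (iv D16981) (iv F30294)
theorem F36617 : act 1 n19766 = n16992 := d7_1 D19766 (iv D16992) (iv F30295)
theorem F36618 : act 2 n19766 = n17097 := d10_1 D19766 (iv D17097) (iv F30296)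
theorem F36619 : act 5 n19766 = n17969 := d14_2 D16980 D19766 F32336 F25841 (iv F23859)
def n19767 : Q := act 3 n16981
theorem D19767 : act 3 n16981 = n19767 := rfl
theorem F36620 : act 1 n19767 = n16982 := d6_1 D19767 (iv D16982) (iv F30298)
theorem F36621 : act 4 n19767 = n17042 := d12_2 D16981 D19767 (iv D17042) (iv D13963) (iv F23862)
theorem F36622 : act 5 n19767 = n17970 := d13_2 (iv F30300) D19767 (iv D17970)
def n19768 : Q := act 4 n16983
theorem D19768 : act 4 n16983 = n19768 := rfl
theorem F36623 : act 0 n19768 = n16985 := d3_1 D19768 (iv D16985) (iv F30305)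
theorem F36624 : act 1 n19768 = n17972 := d7_1 D19768 (iv D17972) (iv F30306)
theorem F36625 : act 3 n19768 = n16990 := d12_1 D19768 (iv D16990) (iv D13917) (iv F23868) D16983
def n19769 : Q := act 4 n16984
theorem D19769 : act 4 n16984 = n19769 := rfl
theorem F36626 : act 0 n19769 = n16986 := d3_1 D19769 (iv D16986) (iv F30308)
theorem F36627 : act 1 n19769 = n17969 := d7_1 D19769 F32336 (iv F30309)
theorem F36628 : act 2 n19769 = n17001 := d10_1 D19769 (iv D17001) (iv F30310)
theorem F36629 : act 5 n19769 = n16992 := d14_2 D16984 D19769 (iv D16992) (iv D13918) (iv F23868)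
def n19770 : Q := act 5 n16985
theorem D19770 : act 5 n16985 = n19770 := rfl
theorem F36630 : act 1 n19770 = n16987 := d8_1 D19770 (iv D16987) (iv F30312)
theorem F36631 : act 3 n19770 = n16996 := d13_1 D19770 (iv D16996) (iv F30313)
theorem F36632 : act 4 n19770 = n17743 := d14_1 D19770 F31879 (iv D14943) F23870 D16985
def n19771 : Q := act 3 n16986
theorem D19771 : act 3 n16986 = n19771 := rfl
theorem F36633 : act 1 n19771 = n16988 := d6_1 D19771 (iv D16988) (iv F30314)
theorem F36634 : act 4 n19771 = n17741 := d12_2 D16986 D19771 F31875 (iv D14943) (iv F23873)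
theorem F36635 : act 5 n19771 = n16997 := d13_2 (iv F30316) D19771 (iv D16997)
theorem F36636 : act 2 n18785 = n19771 := d10_3 F36634 F31874 D18785
def n19772 : Q := act 4 n16989
theorem D19772 : act 4 n16989 = n19772 := rfl
theorem F36637 : act 0 n19772 = n16994 := d3_1 D19772 (iv D16994) (iv F30325)
theorem F36638 : act 1 n19772 = n17529 := d7_1 D19772 (iv D17529) (iv F30326)
theorem F36639 : act 2 n19772 = n16990 := d10_1 D19772 (iv D16990) D16989
def n19773 : Q := act 5 n16990
theorem D19773 : act 5 n16990 = n19773 := rfl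
theorem F36640 : act 0 n19773 = n16996 := d4_1 D19773 (iv D16996) (iv F30329)
theorem F36641 : act 4 n19773 = n18432 := d14_1 D19773 (iv D18432) F30334 (iv D16991) D16990
def n19774 : Q := act 3 n16992
theorem D19774 : act 3 n16992 = n19774 := rfl
theorem F36642 : act 0 n19774 = n16997 := d2_1 D19774 (iv D16997) (iv F30335)
theorem F36643 : act 4 n19774 = n18431 := d12_2 D16992 D19774 (iv D18431) F30334 F30333
def n19775 : Q := act 4 n16993
theorem D19775 : act 4 n16993 = n19775 := rfl
theorem F36644 : act 0 n19775 = n17051 := d3_1 D19775 (iv D17051) (iv F30337)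
theorem F36645 : act 2 n19775 = n17050 := d10_1 D19775 (iv D17050) (iv F30338)
def n19776 : Q := act 3 n16994
theorem D19776 : act 3 n16994 = n19776 := rfl
def n19777 : Q := act 5 n16994
theorem D19777 : act 5 n16994 = n19777 := rfl
theorem F36646 : act 1 n19777 = n18430 := d8_1 D19777 (iv F36315) F36313
theorem F36647 : act 2 n19777 = n16996 := d11_1 D19777 (iv D16996) (iv F30339)
theorem F36648 : act 4 n19777 = n18428 := d14_1 D19777 (iv D18428) F30343 (iv D16995) D16994
def n19778 : Q := act 2 n16997
theorem D19778 : act 2 n16997 = n19778 := rfl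
theorem F36649 : act 1 n19778 = n18781 := d5_1 D19778 F34196 F30352 (iv D16998) (iv F30346)
theorem F36650 : act 4 n19778 = n18433 := d10_2 (iv F30347) D19778 (iv D18433)
theorem F36651 : act 5 n19778 = n18785 := d11_2 F36635 D19778 F36636
def n19779 : Q := act 4 n16999
theorem D19779 : act 4 n16999 = n19779 := rfl
theorem F36652 : act 0 n19779 = n17003 := d3_1 D19779 (iv D17003) (iv F30353)
theorem F36653 : act 1 n19779 = n18405 := d7_1 D19779 (iv F34083) F34082
theorem F36654 : act 2 n19779 = n17000 := d10_1 D19779 (iv D17000) D16999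
theorem F36655 : act 3 n19779 = n18548 := d12_1 D19779 F34096 (iv D18702) (iv F34079) (iv F34080)
def n19780 : Q := act 5 n17000
theorem D19780 : act 5 n17000 = n19780 := rfl
theorem F36656 : act 0 n19780 = n17004 := d4_1 D19780 (iv D17004) (iv F30354)
theorem F36657 : act 1 n19780 = n17079 := d8_1 D19780 F30493 (iv F30355)
theorem F36658 : act 3 n19780 = n17015 := d13_1 D19780 (iv D17015) (iv F30356)
def n19781 : Q := act 3 n17001
theorem D19781 : act 3 n17001 = n19781 := rfl
theorem F36659 : act 0 n19781 = n17005 := d2_1 D19781 (iv D17005) (iv F30357)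
theorem F36660 : act 1 n19781 = n17077 := d6_1 D19781 F30489 (iv F30358)
theorem F36661 : act 5 n19781 = n17016 := d13_2 (iv F30359) D19781 (iv D17016)
def n19782 : Q := act 3 n17003
theorem D19782 : act 3 n17003 = n19782 := rfl
theorem F36662 : act 0 n19782 = n18548 := d2_1 D19782 (iv F36655) F36652
theorem F36663 : act 1 n19782 = n18550 := d6_1 D19782 (iv F33703) F33474
def n19783 : Q := act 5 n17003
theorem D19783 : act 5 n17003 = n19783 := rfl
theorem F36664 : act 2 n19783 = n17004 := d11_1 D19783 (iv D17004) (iv F30360)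
def n19784 : Q := act 2 n17005
theorem D19784 : act 2 n17005 = n19784 := rfl
theorem F36665 : act 5 n19784 = n17019 := d11_2 (iv F30364) D19784 (iv D17019)
def n19785 : Q := act 1 n17006
theorem D19785 : act 1 n17006 = n19785 := rfl
theorem F36666 : act 4 n19785 = n17071 := d7_2 (iv F30366) D19785 F30480
theorem F36667 : act 5 n19785 = n17020 := d8_2 (iv F30367) D19785 (iv D17020)
def n19786 : Q := act 0 n17007
theorem D19786 : act 0 n17007 = n19786 := rfl
theorem F36668 : act 2 n19786 = n17927 := d1_2 (iv F30368) D19786 F32255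
theorem F36669 : act 4 n19786 = n17009 := d3_2 (iv F30369) D19786 (iv D17009)
theorem F36670 : act 5 n19786 = n17022 := d4_2 (iv F30370) D19786 (iv D17022)
def n19787 : Q := act 3 n17007
theorem D19787 : act 3 n17007 = n19787 := rfl
theorem F36671 : act 1 n19787 = n17008 := d6_1 D19787 (iv D17008) D17007
theorem F36672 : act 5 n19787 = n17023 := d13_2 (iv F30370) D19787 (iv D17023)
def n19788 : Q := act 2 n17010
theorem D19788 : act 2 n17010 = n19788 := rfl
theorem F36673 : act 0 n19788 = n17011 := d1_1 D19788 (iv D17011) (iv F30375)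
theorem F36674 : act 3 n19788 = n17912 := d15_1 D19788 (iv D17912) (iv D14875) F19884 D11818 (iv F23904) (iv F26462) F26463 (iv F30375)
def n19789 : Q := act 4 n17010
theorem D19789 : act 4 n17010 = n19789 := rfl
theorem F36675 : act 0 n19789 = n17012 := d3_1 D19789 (iv D17012) (iv F30375)
theorem F36676 : act 3 n19789 = n17026 := d12_1 D19789 (iv D17026) (iv D13947) (iv F23907) D17010
def n19790 : Q := act 3 n17011
theorem D19790 : act 3 n17011 = n19790 := rfl
theorem F36677 : act 0 n19790 = n17912 := d2_1 D19790 (iv F36674) F36673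
theorem F36678 : act 2 n19790 = n17910 := d15_2 D17011 D19790 (iv D17910) F25728 D14888 (iv F30373) (iv F32867) F32868 F30375
def n19791 : Q := act 4 n17011
theorem D19791 : act 4 n17011 = n19791 := rfl
theorem F36679 : act 1 n19791 = n17713 := d7_1 D19791 (iv F34240) F32860
theorem F36680 : act 2 n19791 = n17012 := d10_1 D19791 (iv D17012) D17011
theorem F36681 : act 3 n17712 = n19791 := d15_1 (iv F31809) F36680 F30377 (iv F30411) F30412 F25380 D14711 (iv F31828) (iv D17720)
theorem F36682 : act 5 n19791 = n17756 := d13_2 F31810 F36681 (iv D17756)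
def n19792 : Q := act 5 n17012
theorem D19792 : act 5 n17012 = n19792 := rfl
theorem F36683 : act 1 n19792 = n17013 := d8_1 D19792 (iv D17013) (iv F30376)
theorem F36684 : act 2 n19792 = n17756 := d11_1 D19792 (iv F36682) F36680
theorem F36685 : act 3 n19792 = n17029 := d13_1 D19792 (iv D17029) (iv F30377)
def n19793 : Q := act 2 n17016
theorem D19793 : act 2 n17016 = n19793 := rfl
theorem F36686 : act 0 n19793 = n17019 := d1_1 D19793 (iv D17019) (iv F30384)
theorem F36687 : act 4 n19793 = n17053 := d10_2 (iv F30386) D19793 (iv D17053)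
def n19794 : Q := act 2 n17017
theorem D19794 : act 2 n17017 = n19794 := rfl
theorem F36688 : act 0 n19794 = n18652 := d1_1 D19794 (iv F36135) F36133
theorem F36689 : act 1 n19794 = n18476 := d5_1 D19794 F33509 F27204 F23975 (iv F30387)
theorem F36690 : act 4 n19794 = n18474 := d10_2 (iv F30388) D19794 F33502
theorem F36691 : act 5 n19794 = n18576 := d11_2 F36119 D19794 (iv F36117)
def n19795 : Q := act 1 n17019
theorem D19795 : act 1 n17019 = n19795 := rfl
theorem F36692 : act 2 n19795 = n17020 := d5_2 D17019 D19795 (iv D17020) (iv D13943) (iv F23920)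
theorem F36693 : act 4 n19795 = n17055 := d7_2 (iv F30392) D19795 (iv D17055)
def n19796 : Q := act 3 n17019
theorem D19796 : act 3 n17019 = n19796 := rfl
def n19797 : Q := act 0 n17020
theorem D19797 : act 0 n17020 = n19797 := rfl
theorem F36694 : act 1 n19797 = n17092 := d0_2 D17020 D19797 F30512 F24020 (iv F23922)
theorem F36695 : act 4 n19797 = n17059 := d3_2 (iv F30393) D19797 (iv D17059)
def n19798 : Q := act 3 n17020
theorem D19798 : act 3 n17020 = n19798 := rfl
theorem F36696 : act 1 n19798 = n17021 := d6_1 D19798 (iv D17021) D17020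
theorem F36697 : act 4 n19798 = n17072 := d12_2 (iv F30393) D19798 (iv D17072) (iv D13996) (iv F23982)
def n19799 : Q := act 3 n17022
theorem D19799 : act 3 n17022 = n19799 := rfl
theorem F36698 : act 0 n19799 = n17023 := d2_1 D19799 (iv D17023) D17022
def n19800 : Q := act 2 n17023
theorem D19800 : act 2 n17023 = n19800 := rfl
def n19801 : Q := act 1 n17024
theorem D19801 : act 1 n17024 = n19801 := rfl
theorem F36699 : act 3 n19801 = n17094 := d6_2 (iv F30400) D19801 F30514
theorem F36700 : act 5 n19801 = n17093 := d8_2 (iv F30399) D19801 F30513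
def n19802 : Q := act 5 n17026
theorem D19802 : act 5 n17026 = n19802 := rfl
theorem F36701 : act 0 n19802 = n17029 := d4_1 D19802 (iv D17029) (iv F30405)
theorem F36702 : act 1 n19802 = n17044 := d8_1 D19802 (iv F35814) F35811
theorem F36703 : act 2 n19802 = n17046 := d11_1 D19802 F30441 (iv F30406)
def n19803 : Q := act 5 n17028
theorem D19803 : act 5 n17028 = n19803 := rfl
theorem F36704 : act 0 n19803 = n17046 := d4_1 D19803 F30441 (iv F30410)
theorem F36705 : act 1 n19803 = n17760 := d8_1 D19803 (iv F33029) F33027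
theorem F36706 : act 2 n19803 = n17029 := d11_1 D19803 (iv D17029) (iv F30411)
theorem F36707 : act 3 n19803 = n17749 := d13_1 D19803 (iv D17749) (iv F30412)
def n19804 : Q := act 3 n17030
theorem D19804 : act 3 n17030 = n19804 := rfl
theorem F36708 : act 0 n19804 = n17031 := d2_1 D19804 (iv D17031) (iv F30414)
def n19805 : Q := act 5 n17030
theorem D19805 : act 5 n17030 = n19805 := rfl
theorem F36709 : act 0 n19805 = n17032 := d4_1 D19805 (iv D17032) (iv F30414)
theorem F36710 : act 2 n19805 = n17045 := d11_1 D19805 (iv F36124) F36122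
theorem F36711 : act 4 n19805 = n17044 := d14_1 D19805 (iv F35814) F35813 F29578 D17030
def n19806 : Q := act 2 n17031
theorem D19806 : act 2 n17031 = n19806 := rfl
def n19807 : Q := act 3 n17033
theorem D19807 : act 3 n17033 = n19807 := rfl
theorem F36712 : act 1 n19807 = n17034 := d6_1 D19807 (iv D17034) (iv F30417)
theorem F36713 : act 4 n19807 = n17121 := d12_2 D17033 D19807 (iv D17121) (iv D14042) (iv F23932)
def n19808 : Q := act 5 n17033
theorem D19808 : act 5 n17033 = n19808 := rfl
theorem F36714 : act 0 n19808 = n18339 := d4_1 D19808 F33225 F32458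
theorem F36715 : act 1 n19808 = n17035 := d8_1 D19808 (iv D17035) (iv F30417)
theorem F36716 : act 2 n19808 = n18337 := d11_1 D19808 F33220 F32457
theorem F36717 : act 4 n19808 = n17109 := d14_1 D19808 (iv D17109) (iv D14028) (iv F23933) D17033
def n19809 : Q := act 2 n17034
theorem D19809 : act 2 n17034 = n19809 := rfl
theorem F36718 : act 0 n19809 = n17038 := d1_1 D19809 (iv D17038) (iv F30418)
theorem F36719 : act 4 n19809 = n17123 := d10_2 (iv F30419) D19809 (iv D17123)
def n19810 : Q := act 5 n17034
theorem D19810 : act 5 n17034 = n19810 := rfl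
theorem F36720 : act 0 n19810 = n17039 := d4_1 D19810 (iv D17039) (iv F30418)
theorem F36721 : act 3 n19810 = n17035 := d13_1 D19810 (iv D17035) D17034
def n19811 : Q := act 2 n17036
theorem D19811 : act 2 n17036 = n19811 := rfl
theorem F36722 : act 0 n19811 = n17123 := d1_1 D19811 (iv D17123) (iv F30423)
theorem F36723 : act 4 n19811 = n17038 := d10_2 (iv F30424) D19811 (iv D17038)
def n19812 : Q := act 5 n17036
theorem D19812 : act 5 n17036 = n19812 := rfl
theorem F36724 : act 0 n19812 = n17124 := d4_1 D19812 (iv D17124) (iv F30423)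
theorem F36725 : act 3 n19812 = n17037 := d13_1 D19812 (iv D17037) D17036
def n19813 : Q := act 1 n17038
theorem D19813 : act 1 n17038 = n19813 := rfl
def n19814 : Q := act 5 n17038
theorem D19814 : act 5 n17038 = n19814 := rfl
theorem F36726 : act 2 n19814 = n17039 := d11_1 D19814 (iv D17039) D17038
theorem F36727 : act 3 n19814 = n18583 := d13_1 D19814 (iv F35763) (iv F35764)
def n19815 : Q := act 4 n17039
theorem D19815 : act 4 n17039 = n19815 := rfl
theorem F36728 : act 3 n19815 = n17118 := d12_1 D19815 (iv D17118) F24049 (iv F23941) (iv F30428)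
def n19816 : Q := act 3 n17041
theorem D19816 : act 3 n17041 = n19816 := rfl
theorem F36729 : act 0 n19816 = n17042 := d2_1 D19816 (iv D17042) (iv F30430)
theorem F36730 : act 1 n19816 = n18431 := d6_1 D19816 (iv D18431) (iv F30431)
theorem F36731 : act 5 n17786 = n19816 := d4_0 F36729 (iv F30434) D17786
def n19817 : Q := act 5 n17041
theorem D19817 : act 5 n17041 = n19817 := rfl
theorem F36732 : act 0 n19817 = n17043 := d4_1 D19817 (iv D17043) (iv F30430)
theorem F36733 : act 1 n19817 = n18432 := d8_1 D19817 (iv D18432) (iv F30431)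
theorem F36734 : act 2 n19817 = n17541 := d11_1 D19817 (iv D17541) (iv F30432)
theorem F36735 : act 3 n19817 = n17786 := d13_1 D19817 F36731 (iv D19816)
def n19818 : Q := act 2 n17042
theorem D19818 : act 2 n17042 = n19818 := rfl
theorem F36736 : act 1 n19818 = n17784 := d5_1 D19818 F31961 F25461 (iv F23948) (iv F30433)
theorem F36737 : act 5 n19818 = n17782 := d11_2 F30434 D19818 F31960
def n19819 : Q := act 3 n17044
theorem D19819 : act 3 n17044 = n19819 := rfl
def n19820 : Q := act 4 n17046
theorem D19820 : act 4 n17046 = n19820 := rfl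
theorem F36738 : act 1 n19820 = n17047 := d7_1 D19820 (iv D17047) D17046
def n19821 : Q := act 3 n17047
theorem D19821 : act 3 n17047 = n19821 := rfl
theorem F36739 : act 0 n19821 = n17762 := d2_1 D19821 (iv D17762) (iv F30442)
theorem F36740 : act 4 n19821 = n17752 := d12_2 D17047 D19821 (iv D17752) (iv D14710) (iv F23960)
def n19822 : Q := act 5 n17047
theorem D19822 : act 5 n17047 = n19822 := rfl
theorem F36741 : act 0 n19822 = n17763 := d4_1 D19822 (iv D17763) (iv F30442)
theorem F36742 : act 2 n19822 = n17048 := d11_1 D19822 (iv D17048) (iv F30443)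
theorem F36743 : act 4 n19822 = n17751 := d14_1 D19822 (iv D17751) (iv D14709) F23961 D17047
def n19823 : Q := act 3 n17051
theorem D19823 : act 3 n17051 = n19823 := rfl
theorem F36744 : act 1 n19823 = n17564 := d6_1 D19823 (iv D17564) (iv F30452)
def n19824 : Q := act 5 n17051
theorem D19824 : act 5 n17051 = n19824 := rfl
theorem F36745 : act 1 n19824 = n17565 := d8_1 D19824 (iv D17565) (iv F30452)
theorem F36746 : act 2 n19824 = n17052 := d11_1 D19824 (iv D17052) (iv F30453)
def n19825 : Q := act 1 n17053
theorem D19825 : act 1 n17053 = n19825 := rfl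
theorem F36747 : act 2 n19825 = n17073 := d5_2 D17053 D19825 (iv D17073) (iv D13999) (iv F23977)
def n19826 : Q := act 3 n17053
theorem D19826 : act 3 n17053 = n19826 := rfl
theorem F36748 : act 0 n19826 = n17056 := d2_1 D19826 (iv D17056) (iv F30455)
def n19827 : Q := act 5 n17053
theorem D19827 : act 5 n17053 = n19827 := rfl
theorem F36749 : act 0 n19827 = n17057 := d4_1 D19827 (iv D17057) (iv F30455)
theorem F36750 : act 2 n19827 = n17054 := d11_1 D19827 (iv D17054) D17053
def n19828 : Q := act 4 n17054
theorem D19828 : act 4 n17054 = n19828 := rfl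
theorem F36751 : act 0 n19828 = n17058 := d3_1 D19828 (iv D17058) (iv F30456)
theorem F36752 : act 1 n19828 = n17078 := d7_1 D19828 (iv D17078) (iv F30457)
def n19829 : Q := act 0 n17055
theorem D19829 : act 0 n17055 = n19829 := rfl
theorem F36753 : act 2 n19829 = n17059 := d1_2 (iv F30459) D19829 (iv D17059)
theorem F36754 : act 5 n19829 = n17067 := d4_2 F30460 D19829 F30477
def n19830 : Q := act 3 n17055
theorem D19830 : act 3 n17055 = n19830 := rfl
theorem F36755 : act 1 n19830 = n17056 := d6_1 D19830 (iv D17056) D17055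
theorem F36756 : act 5 n19830 = n17069 := d13_2 F30460 D19830 (iv D17069)
def n19831 : Q := act 5 n17056
theorem D19831 : act 5 n17056 = n19831 := rfl
theorem F36757 : act 1 n19831 = n17069 := d8_1 D19831 (iv F36756) F36755
theorem F36758 : act 3 n19831 = n17057 := d13_1 D19831 (iv D17057) D17056
def n19832 : Q := act 4 n17057
theorem D19832 : act 4 n17057 = n19832 := rfl
theorem F36759 : act 1 n19832 = n17070 := d7_1 D19832 (iv D17070) (iv F30461)
theorem F36760 : act 2 n19832 = n17058 := d10_1 D19832 (iv D17058) (iv F30462)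
def n19833 : Q := act 1 n17060
theorem D19833 : act 1 n17060 = n19833 := rfl
theorem F36761 : act 0 n19833 = n18795 := d0_1 D19833 F34235 F32882 (iv F33485) F33484
theorem F36762 : act 2 n19833 = n17062 := d5_2 D17060 D19833 (iv D17062) (iv D13988) (iv F23990)
theorem F36763 : act 5 n19833 = n17701 := d8_2 F33471 D19833 (iv F33469)
def n19834 : Q := act 3 n17060
theorem D19834 : act 3 n17060 = n19834 := rfl
def n19835 : Q := act 4 n17062
theorem D19835 : act 4 n17062 = n19835 := rfl
theorem F36764 : act 0 n19835 = n18794 := d3_1 D19835 F34232 (iv F30469)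
theorem F36765 : act 1 n19835 = n17063 := d7_1 D19835 (iv D17063) D17062
theorem F36766 : act 3 n19835 = n18788 := d12_1 D19835 (iv D18788) F27941 (iv F25241) (iv F30470)
theorem F36767 : act 5 n19835 = n18808 := d14_2 (iv F30471) D19835 (iv D18808) (iv D15925) (iv F25237)
def n19836 : Q := act 5 n17063
theorem D19836 : act 5 n17063 = n19836 := rfl
theorem F36768 : act 0 n19836 = n17705 := d4_1 D19836 F31794 (iv F30472)
theorem F36769 : act 1 n19836 = n18808 := d8_1 D19836 (iv F36767) F36765
theorem F36770 : act 2 n19836 = n17064 := d11_1 D19836 (iv D17064) (iv F30473)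
theorem F36771 : act 3 n19836 = n17823 := d13_1 D19836 F32063 (iv F30474)
theorem F36772 : act 4 n19836 = n17702 := d14_1 D19836 (iv D17702) F25244 F23995 D17063
def n19837 : Q := act 3 n17065
theorem D19837 : act 3 n17065 = n19837 := rfl
theorem F36773 : act 0 n19837 = n17095 := d2_1 D19837 F30515 (iv F30475)
theorem F36774 : act 4 n19837 = n17066 := d12_2 D17065 D19837 (iv D17066) (iv D13991) (iv F23998)
theorem F36775 : act 5 n19837 = n17106 := d13_2 (iv F33449) D19837 F33451
def n19838 : Q := act 2 n17066
theorem D19838 : act 2 n17066 = n19838 := rfl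
def n19839 : Q := act 1 n17067
theorem D19839 : act 1 n17067 = n19839 := rfl
def n19840 : Q := act 3 n17067
theorem D19840 : act 3 n17067 = n19840 := rfl
theorem F36776 : act 0 n19840 = n17069 := d2_1 D19840 (iv D17069) (iv F30477)
def n19841 : Q := act 4 n17067
theorem D19841 : act 4 n17067 = n19841 := rfl
theorem F36777 : act 0 n19841 = n17070 := d3_1 D19841 (iv D17070) (iv F30477)
theorem F36778 : act 2 n19841 = n17068 := d10_1 D19841 (iv D17068) D17067
def n19842 : Q := act 5 n17068
theorem D19842 : act 5 n17068 = n19842 := rfl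
theorem F36779 : act 0 n19842 = n17071 := d4_1 D19842 (iv D17071) (iv F30478)
def n19843 : Q := act 3 n17070
theorem D19843 : act 3 n17070 = n19843 := rfl
def n19844 : Q := act 5 n17070
theorem D19844 : act 5 n17070 = n19844 := rfl
theorem F36780 : act 2 n19844 = n17071 := d11_1 D19844 (iv D17071) (iv F30479)
def n19845 : Q := act 2 n17072
theorem D19845 : act 2 n17072 = n19845 := rfl
def n19846 : Q := act 0 n17073
theorem D19846 : act 0 n17073 = n19846 := rfl
theorem F36781 : act 1 n19846 = n17080 := d0_2 D17073 D19846 (iv D17080) (iv D14003) (iv F24004)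
def n19847 : Q := act 3 n17073
theorem D19847 : act 3 n17073 = n19847 := rfl
theorem F36782 : act 1 n19847 = n17074 := d6_1 D19847 (iv D17074) D17073
theorem F36783 : act 2 n17745 = n19847 := d5_0 F36782 F30483 F25377 D14703 D17745
def n19848 : Q := act 4 n17073
theorem D19848 : act 4 n17073 = n19848 := rfl
theorem F36784 : act 1 n19848 = n17075 := d7_1 D19848 (iv D17075) D17073
def n19849 : Q := act 5 n17073
theorem D19849 : act 5 n17073 = n19849 := rfl
theorem F36785 : act 1 n19849 = n17076 := d8_1 D19849 (iv D17076) D17073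
def n19850 : Q := act 4 n17074
theorem D19850 : act 4 n17074 = n19850 := rfl
theorem F36786 : act 0 n19850 = n17084 := d3_1 D19850 (iv D17084) (iv F30482)
theorem F36787 : act 2 n19850 = n17744 := d10_1 D19850 (iv D17744) (iv F30483)
def n19851 : Q := act 3 n17075
theorem D19851 : act 3 n17075 = n19851 := rfl
theorem F36788 : act 0 n19851 = n17086 := d2_1 D19851 (iv D17086) (iv F30484)
def n19852 : Q := act 5 n17075
theorem D19852 : act 5 n17075 = n19852 := rfl
theorem F36789 : act 0 n19852 = n17087 := d4_1 D19852 (iv D17087) (iv F30484)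
theorem F36790 : act 2 n19852 = n17077 := d11_1 D19852 (iv D17077) (iv F30485)
def n19853 : Q := act 4 n17076
theorem D19853 : act 4 n17076 = n19853 := rfl
theorem F36791 : act 0 n19853 = n17088 := d3_1 D19853 (iv D17088) (iv F30486)
theorem F36792 : act 2 n19853 = n17078 := d10_1 D19853 (iv D17078) (iv F30487)
def n19854 : Q := act 4 n17077
theorem D19854 : act 4 n17077 = n19854 := rfl
theorem F36793 : act 0 n19854 = n17089 := d3_1 D19854 (iv D17089) (iv F30488)
theorem F36794 : act 5 n19854 = n17078 := d14_2 D17077 D19854 (iv D17078) (iv D14001) D14000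
def n19855 : Q := act 3 n17078
theorem D19855 : act 3 n17078 = n19855 := rfl
theorem F36795 : act 0 n19855 = n17090 := d2_1 D19855 (iv D17090) (iv F30490)
theorem F36796 : act 4 n19855 = n17079 := d12_2 D17078 D19855 (iv D17079) (iv D14002) (iv F24008)
theorem F36797 : act 2 n18408 = n19855 := d10_3 F36796 F30492 D18408
def n19856 : Q := act 4 n17080
theorem D19856 : act 4 n17080 = n19856 := rfl
theorem F36798 : act 0 n19856 = n17082 := d3_1 D19856 (iv D17082) D17080
theorem F36799 : act 2 n19856 = n17092 := d10_1 D19856 (iv D17092) (iv F30494)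
def n19857 : Q := act 4 n17081
theorem D19857 : act 4 n17081 = n19857 := rfl
theorem F36800 : act 1 n19857 = n17084 := d7_1 D19857 (iv D17084) (iv F30495)
theorem F36801 : act 2 n19857 = n17113 := d10_1 D19857 F30552 (iv F30496)
def n19858 : Q := act 3 n17082
theorem D19858 : act 3 n17082 = n19858 := rfl
theorem F36802 : act 1 n19858 = n17086 := d6_1 D19858 (iv D17086) (iv F30497)
def n19859 : Q := act 5 n17082
theorem D19859 : act 5 n17082 = n19859 := rfl
theorem F36803 : act 1 n19859 = n17087 := d8_1 D19859 (iv D17087) (iv F30497)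
theorem F36804 : act 2 n19859 = n17094 := d11_1 D19859 (iv D17094) (iv F30498)
def n19860 : Q := act 4 n17083
theorem D19860 : act 4 n17083 = n19860 := rfl
theorem F36805 : act 0 n19860 = n17744 := d3_1 D19860 (iv D17744) (iv F30499)
theorem F36806 : act 1 n19860 = n17116 := d7_1 D19860 F30556 (iv F30500)
theorem F36807 : act 2 n19860 = n17084 := d10_1 D19860 (iv D17084) D17083
theorem F36808 : act 3 n19860 = n17764 := d12_1 D19860 (iv D17764) (iv D14724) (iv F25376) (iv F30501)
def n19861 : Q := act 3 n17084
theorem D19861 : act 3 n17084 = n19861 := rfl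
theorem F36809 : act 4 n19861 = n17086 := d12_2 D17084 D19861 (iv D17086) (iv D14005) D14004
def n19862 : Q := act 5 n17084
theorem D19862 : act 5 n17084 = n19862 := rfl
def n19863 : Q := act 4 n17085
theorem D19863 : act 4 n17085 = n19863 := rfl
def n19864 : Q := act 2 n17086
theorem D19864 : act 2 n17086 = n19864 := rfl
def n19865 : Q := act 5 n17086
theorem D19865 : act 5 n17086 = n19865 := rfl
theorem F36810 : act 3 n19865 = n17087 := d13_1 D19865 (iv D17087) D17086
def n19866 : Q := act 4 n17087
theorem D19866 : act 4 n17087 = n19866 := rfl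
theorem F36811 : act 2 n19866 = n17089 := d10_1 D19866 (iv D17089) (iv F30503)
theorem F36812 : act 5 n19866 = n17088 := d14_2 D17087 D19866 (iv D17088) (iv D14006) D14005
def n19867 : Q := act 3 n17088
theorem D19867 : act 3 n17088 = n19867 := rfl
def n19868 : Q := act 2 n17090
theorem D19868 : act 2 n17090 = n19868 := rfl
theorem F36813 : act 0 n19868 = n18408 := d1_1 D19868 F36797 F36795
theorem F36814 : act 4 n19868 = n17091 := d10_2 (iv F30508) D19868 (iv D17091)
def n19869 : Q := act 1 n17091
theorem D19869 : act 1 n17091 = n19869 := rfl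
theorem F36815 : act 2 n19869 = n17095 := d5_2 D17091 D19869 (iv D17095) (iv D14016) (iv F24018)
theorem F36816 : act 3 n19869 = n17825 := d6_2 (iv F30510) D19869 F32067
theorem F36817 : act 5 n19869 = n17105 := d8_2 (iv F30511) D19869 (iv D17105)
def n19870 : Q := act 3 n17092
theorem D19870 : act 3 n17092 = n19870 := rfl
theorem F36818 : act 0 n19870 = n17093 := d2_1 D19870 (iv D17093) (iv F30512)
def n19871 : Q := act 5 n17092
theorem D19871 : act 5 n17092 = n19871 := rfl
theorem F36819 : act 0 n19871 = n17094 := d4_1 D19871 (iv D17094) (iv F30512)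
def n19872 : Q := act 2 n17093
theorem D19872 : act 2 n17093 = n19872 := rfl
def n19873 : Q := act 4 n17096
theorem D19873 : act 4 n17096 = n19873 := rfl
theorem F36820 : act 0 n19873 = n18072 := d3_1 D19873 (iv D18072) (iv F30517)
theorem F36821 : act 1 n19873 = n17098 := d7_1 D19873 (iv D17098) (iv F30518)
theorem F36822 : act 2 n19873 = n17317 := d10_1 D19873 (iv D17317) (iv F30519)
def n19874 : Q := act 3 n17097
theorem D19874 : act 3 n17097 = n19874 := rfl
theorem F36823 : act 0 n19874 = n18073 := d2_1 D19874 (iv D18073) (iv F30521)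
theorem F36824 : act 1 n19874 = n17099 := d6_1 D19874 (iv D17099) (iv F30522)
theorem F36825 : act 5 n19874 = n18081 := d13_2 (iv F30523) D19874 (iv D18081)
def n19875 : Q := act 3 n17098
theorem D19875 : act 3 n17098 = n19875 := rfl
theorem F36826 : act 0 n19875 = n17102 := d2_1 D19875 (iv D17102) (iv F30524)
theorem F36827 : act 4 n19875 = n17099 := d12_2 D17098 D19875 (iv D17099) (iv D14019) D14018
def n19876 : Q := act 5 n17098
theorem D19876 : act 5 n17098 = n19876 := rfl
theorem F36828 : act 0 n19876 = n17103 := d4_1 D19876 (iv D17103) (iv F30524)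
theorem F36829 : act 2 n19876 = n17382 := d11_1 D19876 (iv D17382) (iv F30525)
def n19877 : Q := act 2 n17099
theorem D19877 : act 2 n17099 = n19877 := rfl
theorem F36830 : act 0 n19877 = n17104 := d1_1 D19877 (iv D17104) (iv F30526)
def n19878 : Q := act 4 n17100
theorem D19878 : act 4 n17100 = n19878 := rfl
theorem F36831 : act 0 n19878 = n17346 := d3_1 D19878 (iv D17346) (iv F30527)
theorem F36832 : act 1 n19878 = n17101 := d7_1 D19878 (iv D17101) D17100
theorem F36833 : act 2 n19878 = n18067 := d10_1 D19878 (iv D18067) (iv F30528)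
def n19879 : Q := act 3 n17101
theorem D19879 : act 3 n17101 = n19879 := rfl
theorem F36834 : act 0 n19879 = n17375 := d2_1 D19879 F31076 (iv F30531)
theorem F36835 : act 4 n19879 = n17372 := d12_2 D17101 D19879 (iv D17372) F24516 (iv F24035)
theorem F36836 : act 2 n18423 = n19879 := d10_3 F36835 F31070 D18423
def n19880 : Q := act 5 n17101
theorem D19880 : act 5 n17101 = n19880 := rfl
theorem F36837 : act 0 n19880 = n17382 := d4_1 D19880 (iv D17382) (iv F30531)
theorem F36838 : act 2 n19880 = n17103 := d11_1 D19880 (iv D17103) (iv F30532)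
def n19881 : Q := act 2 n17102
theorem D19881 : act 2 n17102 = n19881 := rfl
theorem F36839 : act 4 n19881 = n17104 := d10_2 (iv F30533) D19881 (iv D17104)
def n19882 : Q := act 1 n17104
theorem D19882 : act 1 n17104 = n19882 := rfl
theorem F36840 : act 2 n19882 = n18104 := d5_2 D17104 D19882 F32651 F31571 F29245
theorem F36841 : act 5 n19882 = n18103 := d8_2 (iv F35467) D19882 (iv F35465)
def n19883 : Q := act 3 n17104
theorem D19883 : act 3 n17104 = n19883 := rfl
def n19884 : Q := act 0 n17105
theorem D19884 : act 0 n17105 = n19884 := rfl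
theorem F36842 : act 1 n19884 = n18404 := d0_2 D17105 D19884 F33350 F27021 (iv F24036)
theorem F36843 : act 2 n19884 = n17106 := d1_2 (iv F30534) D19884 (iv D17106)
theorem F36844 : act 3 n19884 = n17703 := d2_2 (iv F30535) D19884 F31786
theorem F36845 : act 4 n19884 = n18118 := d3_2 (iv F33547) D19884 (iv F33543)
def n19885 : Q := act 5 n17108
theorem D19885 : act 5 n17108 = n19885 := rfl
theorem F36846 : act 0 n19885 = n18338 := d4_1 D19885 F33222 F33046
theorem F36847 : act 1 n19885 = n17111 := d8_1 D19885 (iv D17111) (iv F30539)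
theorem F36848 : act 2 n19885 = n17732 := d11_1 D19885 F31853 (iv F30540)
theorem F36849 : act 3 n19885 = n17109 := d13_1 D19885 (iv D17109) D17108
def n19886 : Q := act 4 n17111
theorem D19886 : act 4 n17111 = n19886 := rfl
theorem F36850 : act 0 n19886 = n17118 := d3_1 D19886 (iv D17118) (iv F30547)
theorem F36851 : act 2 n19886 = n19445 := d10_1 D19886 (iv F35805) F35804
def n19887 : Q := act 5 n17112
theorem D19887 : act 5 n17112 = n19887 := rfl
theorem F36852 : act 0 n19887 = n17114 := d4_1 D19887 (iv D17114) (iv F30549)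
theorem F36853 : act 2 n19887 = n17114 := d11_1 D19887 (iv D17114) (iv F30550)
def n19888 : Q := act 5 n17113
theorem D19888 : act 5 n17113 = n19888 := rfl
theorem F36854 : act 1 n19888 = n17117 := d8_1 D19888 (iv D17117) (iv F30551)
theorem F36855 : act 3 n19888 = n17114 := d13_1 D19888 (iv D17114) D17113
def n19889 : Q := act 4 n17115
theorem D19889 : act 4 n17115 = n19889 := rfl
theorem F36856 : act 1 n19889 = n17118 := d7_1 D19889 (iv D17118) (iv F30554)
def n19890 : Q := act 4 n17117
theorem D19890 : act 4 n17117 = n19890 := rfl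
theorem F36857 : act 2 n19890 = n18684 := d10_1 D19890 F34053 F33830
theorem F36858 : act 5 n19890 = n17118 := d14_2 D17117 D19890 (iv D17118) (iv D14038) (iv F24048)
def n19891 : Q := act 3 n17119
theorem D19891 : act 3 n17119 = n19891 := rfl
theorem F36859 : act 0 n19891 = n17121 := d2_1 D19891 (iv D17121) (iv F30558)
def n19892 : Q := act 5 n17119
theorem D19892 : act 5 n17119 = n19892 := rfl
theorem F36860 : act 0 n19892 = n17122 := d4_1 D19892 (iv D17122) (iv F30558)
theorem F36861 : act 2 n19892 = n17120 := d11_1 D19892 (iv D17120) (iv F30559)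
def n19893 : Q := act 2 n17121
theorem D19893 : act 2 n17121 = n19893 := rfl
def n19894 : Q := act 5 n17121
theorem D19894 : act 5 n17121 = n19894 := rfl
theorem F36862 : act 1 n19894 = n17124 := d8_1 D19894 (iv D17124) (iv F30562)
theorem F36863 : act 3 n19894 = n17122 := d13_1 D19894 (iv D17122) D17121
def n19895 : Q := act 1 n17123
theorem D19895 : act 1 n17123 = n19895 := rfl
theorem F36864 : act 3 n19895 = n19553 := d6_2 (iv F35794) D19895 F36105
def n19896 : Q := act 5 n17123
theorem D19896 : act 5 n17123 = n19896 := rfl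
theorem F36865 : act 2 n19896 = n17124 := d11_1 D19896 (iv D17124) D17123
theorem F36866 : act 3 n19896 = n19276 := d13_1 D19896 (iv F35793) (iv F35794)
def n19897 : Q := act 4 n17124
theorem D19897 : act 4 n17124 = n19897 := rfl
def n19898 : Q := act 4 n17125
theorem D19898 : act 4 n17125 = n19898 := rfl
theorem F36867 : act 0 n19898 = n17169 := d3_1 D19898 (iv D17169) (iv F30566)
theorem F36868 : act 1 n19898 = n17127 := d7_1 D19898 (iv D17127) D17125
theorem F36869 : act 2 n19898 = n17137 := d10_1 D19898 (iv D17137) (iv F30567)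
theorem F36870 : act 5 n19898 = n19148 := d14_2 (iv F30568) D19898 (iv D19148) F28844 F24952
def n19899 : Q := act 4 n17126
theorem D19899 : act 4 n17126 = n19899 := rfl
theorem F36871 : act 0 n19899 = n17131 := d3_1 D19899 (iv D17131) (iv F30570)
theorem F36872 : act 1 n19899 = n17193 := d7_1 D19899 (iv D17193) (iv F30571)
theorem F36873 : act 2 n19899 = n18001 := d10_1 D19899 (iv D18001) (iv F30572)
def n19900 : Q := act 3 n17127
theorem D19900 : act 3 n17127 = n19900 := rfl
theorem F36874 : act 0 n19900 = n17132 := d2_1 D19900 (iv D17132) (iv F30574)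
def n19901 : Q := act 5 n17127
theorem D19901 : act 5 n17127 = n19901 := rfl
theorem F36875 : act 0 n19901 = n17133 := d4_1 D19901 (iv D17133) (iv F30574)
theorem F36876 : act 1 n19901 = n19148 := d8_1 D19901 (iv F36870) F36868
theorem F36877 : act 2 n19901 = n17128 := d11_1 D19901 (iv D17128) (iv F30575)
theorem F36878 : act 4 n19901 = n17173 := d14_1 D19901 (iv D17173) (iv D14100) (iv F24058) D17127
def n19902 : Q := act 2 n17129
theorem D19902 : act 2 n17129 = n19902 := rfl
theorem F36879 : act 0 n19902 = n17134 := d1_1 D19902 (iv D17134) (iv F30579)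
theorem F36880 : act 4 n19902 = n17183 := d10_2 (iv F30581) D19902 (iv D17183)
theorem F36881 : act 3 n19902 = n18759 := d15_1 D19902 (iv D18759) (iv D15877) F21658 F16750 (iv F20005) D14962 F25890 (iv F30579)
def n19903 : Q := act 4 n17130
theorem D19903 : act 4 n17130 = n19903 := rfl
theorem F36882 : act 0 n19903 = n18001 := d3_1 D19903 (iv D18001) (iv F30582)
theorem F36883 : act 1 n19903 = n17191 := d7_1 D19903 (iv D17191) (iv F30583)
theorem F36884 : act 2 n19903 = n17131 := d10_1 D19903 (iv D17131) D17130
theorem F36885 : act 3 n19903 = n18744 := d12_1 D19903 (iv D18744) (iv D15862) (iv F25913) (iv F30584)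
def n19904 : Q := act 3 n17131
theorem D19904 : act 3 n17131 = n19904 := rfl
theorem F36886 : act 1 n19904 = n17180 := d6_1 D19904 (iv D17180) (iv F30586)
theorem F36887 : act 4 n19904 = n17132 := d12_2 D17131 D19904 (iv D17132) (iv D14049) D14048
def n19905 : Q := act 5 n17131
theorem D19905 : act 5 n17131 = n19905 := rfl
theorem F36888 : act 1 n19905 = n17179 := d8_1 D19905 F30678 (iv F30586)
theorem F36889 : act 4 n19905 = n17176 := d14_1 D19905 (iv D17176) (iv D14102) (iv F24065) D17131
def n19906 : Q := act 2 n17132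
theorem D19906 : act 2 n17132 = n19906 := rfl
def n19907 : Q := act 5 n17132
theorem D19907 : act 5 n17132 = n19907 := rfl
theorem F36890 : act 1 n19907 = n17181 := d8_1 D19907 F30681 (iv F30587)
theorem F36891 : act 3 n19907 = n17133 := d13_1 D19907 (iv D17133) D17132
def n19908 : Q := act 1 n17134
theorem D19908 : act 1 n17134 = n19908 := rfl
theorem F36892 : act 2 n19908 = n17135 := d5_2 D17134 D19908 (iv D17135) (iv D14052) (iv F24070)
theorem F36893 : act 4 n19908 = n17185 := d7_2 (iv F30591) D19908 (iv D17185)
theorem F36894 : act 5 n19908 = n19746 := d8_2 F32393 D19908 F36560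
def n19909 : Q := act 3 n17134
theorem D19909 : act 3 n17134 = n19909 := rfl
theorem F36895 : act 0 n19909 = n18759 := d2_1 D19909 (iv F36881) F36879
theorem F36896 : act 2 n19909 = n18756 := d15_2 D17134 D19909 (iv D18756) F27920 F21654 (iv F25886) D17993 F32392 F30579
def n19910 : Q := act 0 n17135
theorem D19910 : act 0 n17135 = n19910 := rfl
theorem F36897 : act 1 n19910 = n17161 := d0_2 D17135 D19910 (iv D17161) (iv D14075) (iv F24072)
theorem F36898 : act 3 n19910 = n19736 := d2_2 (iv F30592) D19910 (iv D19736)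
theorem F36899 : act 4 n19910 = n17189 := d3_2 (iv F30593) D19910 (iv D17189)
theorem F36900 : act 5 n19910 = n19745 := d4_2 (iv F30594) D19910 F36558
def n19911 : Q := act 4 n17136
theorem D19911 : act 4 n17136 = n19911 := rfl
theorem F36901 : act 0 n19911 = n17137 := d3_1 D19911 (iv D17137) D17136
theorem F36902 : act 1 n19911 = n17145 := d7_1 D19911 (iv D17145) (iv F30595)
theorem F36903 : act 2 n19911 = n17169 := d10_1 D19911 (iv D17169) (iv F30596)
def n19912 : Q := act 3 n17137
theorem D19912 : act 3 n17137 = n19912 := rfl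
theorem F36904 : act 1 n19912 = n17139 := d6_1 D19912 (iv D17139) (iv F30599)
theorem F36905 : act 2 n19912 = n17564 := d15_2 F36869 D19912 (iv D17564) F24992 (iv F24409) (iv F24929) (iv F31416) F31417 (iv F36867)
def n19913 : Q := act 5 n17137
theorem D19913 : act 5 n17137 = n19913 := rfl
theorem F36906 : act 1 n19913 = n17140 := d8_1 D19913 (iv D17140) (iv F30599)
theorem F36907 : act 2 n19913 = n19148 := d11_1 D19913 (iv F36870) F36869
theorem F36908 : act 4 n19913 = n19147 := d14_1 D19913 F35132 F30604 (iv D17138) D17137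
def n19914 : Q := act 2 n17139
theorem D19914 : act 2 n17139 = n19914 := rfl
theorem F36909 : act 0 n19914 = n17151 := d1_1 D19914 (iv D17151) (iv F30605)
def n19915 : Q := act 5 n17139
theorem D19915 : act 5 n17139 = n19915 := rfl
theorem F36910 : act 0 n19915 = n17152 := d4_1 D19915 (iv D17152) (iv F30605)
theorem F36911 : act 3 n19915 = n17140 := d13_1 D19915 (iv D17140) D17139
def n19916 : Q := act 4 n17140
theorem D19916 : act 4 n17140 = n19916 := rfl
theorem F36912 : act 0 n19916 = n17153 := d3_1 D19916 (iv D17153) (iv F30606)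
theorem F36913 : act 1 n19916 = n19147 := d7_1 D19916 (iv F36908) F36906
theorem F36914 : act 2 n19916 = n17142 := d10_1 D19916 (iv D17142) (iv F30607)
theorem F36915 : act 5 n19916 = n17141 := d14_2 D17140 D19916 (iv D17141) (iv D14055) D14054
theorem F36916 : act 3 n19455 = n19916 := d13_3 F36915 F30611 D19455
def n19917 : Q := act 3 n17142
theorem D19917 : act 3 n17142 = n19917 := rfl
theorem F36917 : act 0 n19917 = n17155 := d2_1 D19917 (iv D17155) (iv F30612)
theorem F36918 : act 1 n19917 = n17184 := d6_1 D19917 F30684 (iv F30613)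
theorem F36919 : act 5 n19917 = n17143 := d13_2 (iv F30614) D19917 (iv D17143)
def n19918 : Q := act 2 n17143
theorem D19918 : act 2 n17143 = n19918 := rfl
theorem F36920 : act 0 n19918 = n17156 := d1_1 D19918 (iv D17156) (iv F30615)
theorem F36921 : act 4 n19918 = n17144 := d10_2 (iv F30617) D19918 (iv D17144)
def n19919 : Q := act 1 n17144
theorem D19919 : act 1 n17144 = n19919 := rfl
def n19920 : Q := act 3 n17145
theorem D19920 : act 3 n17145 = n19920 := rfl
theorem F36922 : act 0 n19920 = n17147 := d2_1 D19920 (iv D17147) (iv F30619)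
theorem F36923 : act 4 n19920 = n18666 := d12_2 D17145 D19920 (iv D18666) (iv D15789) F24087
def n19921 : Q := act 3 n17146
theorem D19921 : act 3 n17146 = n19921 := rfl
theorem F36924 : act 0 n19921 = n18666 := d2_1 D19921 (iv D18666) (iv F30621)
theorem F36925 : act 1 n19921 = n17149 := d6_1 D19921 (iv D17149) (iv F30622)
theorem F36926 : act 4 n19921 = n17147 := d12_2 D17146 D19921 (iv D17147) (iv D14061) D14060
def n19922 : Q := act 5 n17146
theorem D19922 : act 5 n17146 = n19922 := rfl
theorem F36927 : act 0 n19922 = n18667 := d4_1 D19922 (iv D18667) (iv F30621)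
theorem F36928 : act 1 n19922 = n17150 := d8_1 D19922 (iv D17150) (iv F30622)
theorem F36929 : act 2 n19922 = n18663 := d11_1 D19922 (iv D18663) (iv F30623)
theorem F36930 : act 4 n19922 = n17166 := d14_1 D19922 (iv D17166) (iv D14092) (iv F24090) D17146
def n19923 : Q := act 2 n17147
theorem D19923 : act 2 n17147 = n19923 := rfl
def n19924 : Q := act 5 n17147
theorem D19924 : act 5 n17147 = n19924 := rfl
theorem F36931 : act 1 n19924 = n17152 := d8_1 D19924 (iv D17152) (iv F30624)
theorem F36932 : act 3 n19924 = n17148 := d13_1 D19924 (iv D17148) D17147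
def n19925 : Q := act 2 n17149
theorem D19925 : act 2 n17149 = n19925 := rfl
theorem F36933 : act 4 n19925 = n17151 := d10_2 (iv F30628) D19925 (iv D17151)
def n19926 : Q := act 5 n17149
theorem D19926 : act 5 n17149 = n19926 := rfl
theorem F36934 : act 3 n19926 = n17150 := d13_1 D19926 (iv D17150) D17149
def n19927 : Q := act 1 n17151
theorem D19927 : act 1 n17151 = n19927 := rfl
def n19928 : Q := act 3 n17151
theorem D19928 : act 3 n17151 = n19928 := rfl
def n19929 : Q := act 5 n17151
theorem D19929 : act 5 n17151 = n19929 := rfl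
theorem F36935 : act 2 n19929 = n17152 := d11_1 D19929 (iv D17152) D17151
def n19930 : Q := act 4 n17152
theorem D19930 : act 4 n17152 = n19930 := rfl
def n19931 : Q := act 3 n17153
theorem D19931 : act 3 n17153 = n19931 := rfl
theorem F36936 : act 0 n19931 = n19455 := d2_1 D19931 F36916 F36912
theorem F36937 : act 1 n19931 = n17167 := d6_1 D19931 F30650 (iv F30630)
theorem F36938 : act 5 n19931 = n17154 := d13_2 (iv F30632) D19931 (iv D17154)
theorem F36939 : act 2 n19457 = n19931 := d11_3 F36938 (iv F30635) D19457
def n19932 : Q := act 2 n17155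
theorem D19932 : act 2 n17155 = n19932 := rfl
theorem F36940 : act 1 n19932 = n19458 := d5_1 D19932 (iv D19458) F29601 (iv F24114) (iv F30636)
theorem F36941 : act 5 n19932 = n17156 := d11_2 (iv F30637) D19932 (iv D17156)
theorem F36942 : act 3 n19932 = n19458 := d15_1 D19932 (iv D19458) (iv D16654) (iv F29592) (iv F30611) F30610 D17143 (iv F36919) F36917
def n19933 : Q := act 1 n17156
theorem D19933 : act 1 n17156 = n19933 := rfl
theorem F36943 : act 2 n19933 = n17160 := d5_2 D17156 D19933 (iv D17160) (iv D14074) (iv F24103)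
theorem F36944 : act 4 n19933 = n17157 := d7_2 (iv F30638) D19933 (iv D17157)
theorem F36945 : act 5 n19933 = n19458 := d8_2 F36941 D19933 (iv F36940)
theorem F36946 : act 3 n17156 = n19933 := d13_3 F36945 (iv F36942) F36941
def n19934 : Q := act 0 n17157
theorem D19934 : act 0 n17157 = n19934 := rfl
theorem F36947 : act 2 n19934 = n17161 := d1_2 (iv F30639) D19934 (iv D17161)
def n19935 : Q := act 3 n17157
theorem D19935 : act 3 n17157 = n19935 := rfl
theorem F36948 : act 1 n19935 = n17158 := d6_1 D19935 (iv D17158) D17157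
theorem F36949 : act 4 n19935 = n17158 := d12_2 F36944 D19935 (iv D17158) (iv F30638) F36946
def n19936 : Q := act 3 n17159
theorem D19936 : act 3 n17159 = n19936 := rfl
theorem F36950 : act 0 n19936 = n19655 := d2_1 D19936 (iv D19655) (iv F30640)
theorem F36951 : act 1 n19936 = n18346 := d6_1 D19936 (iv D18346) (iv F30641)
def n19937 : Q := act 0 n17160
theorem D19937 : act 0 n17160 = n19937 := rfl
theorem F36952 : act 1 n19937 = n17189 := d0_2 D17160 D19937 (iv D17189) (iv D14114) (iv F24116)
theorem F36953 : act 3 n19937 = n19457 := d2_2 (iv F30643) D19937 F35843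
theorem F36954 : act 4 n19937 = n17161 := d3_2 (iv F30644) D19937 (iv D17161)
theorem F36955 : act 5 n19937 = n19456 := d4_2 (iv F30645) D19937 F35840
def n19938 : Q := act 3 n17162
theorem D19938 : act 3 n17162 = n19938 := rfl
theorem F36956 : act 1 n19938 = n17163 := d6_1 D19938 (iv D17163) D17162
def n19939 : Q := act 4 n17163
theorem D19939 : act 4 n17163 = n19939 := rfl
theorem F36957 : act 0 n19939 = n17165 := d3_1 D19939 (iv D17165) (iv F30647)
theorem F36958 : act 3 n19939 = n19724 := d12_1 D19939 (iv D19724) (iv D16928) (iv F24128) D17163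
def n19940 : Q := act 1 n17164
theorem D19940 : act 1 n17164 = n19940 := rfl
def n19941 : Q := act 4 n17164
theorem D19941 : act 4 n17164 = n19941 := rfl
theorem F36959 : act 2 n19941 = n17165 := d10_1 D19941 (iv D17165) D17164
def n19942 : Q := act 5 n17165
theorem D19942 : act 5 n17165 = n19942 := rfl
theorem F36960 : act 3 n19942 = n19726 := d13_1 D19942 (iv D19726) (iv F30648)
def n19943 : Q := act 4 n17167
theorem D19943 : act 4 n17167 = n19943 := rfl
theorem F36961 : act 2 n19943 = n18874 := d10_1 D19943 F34501 (iv F30649)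
def n19944 : Q := act 4 n17168
theorem D19944 : act 4 n17168 = n19944 := rfl
theorem F36962 : act 0 n19944 = n18564 := d3_1 D19944 (iv D18564) (iv F30651)
theorem F36963 : act 1 n19944 = n18344 := d7_1 D19944 (iv D18344) (iv F30652)
theorem F36964 : act 2 n19944 = n18561 := d10_1 D19944 (iv D18561) (iv F30653)
def n19945 : Q := act 2 n17170
theorem D19945 : act 2 n17170 = n19945 := rfl
theorem F36965 : act 0 n19945 = n17182 := d1_1 D19945 (iv D17182) (iv F30656)
theorem F36966 : act 4 n19945 = n17196 := d10_2 (iv F30657) D19945 (iv D17196)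
theorem F36967 : act 5 n19945 = n19691 := d11_2 F31428 D19945 F36437
theorem F36968 : act 3 n19945 = n19683 := d15_1 D19945 (iv D19683) (iv D16886) F23657 (iv F18604) (iv F24162) D17181 F30681 (iv F30656)
def n19946 : Q := act 5 n17171
theorem D19946 : act 5 n17171 = n19946 := rfl
theorem F36969 : act 0 n19946 = n17176 := d4_1 D19946 (iv D17176) (iv F30658)
theorem F36970 : act 1 n19946 = n17296 := d8_1 D19946 F33286 F33283
theorem F36971 : act 2 n19946 = n18758 := d11_1 D19946 (iv D18758) (iv F30659)
theorem F36972 : act 3 n19946 = n17295 := d13_1 D19946 F30917 (iv F30749)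
def n19947 : Q := act 3 n17174
theorem D19947 : act 3 n17174 = n19947 := rfl
theorem F36973 : act 0 n19947 = n18757 := d2_1 D19947 (iv D18757) (iv F30668)
theorem F36974 : act 4 n19947 = n18756 := d12_2 D17174 D19947 (iv D18756) (iv D15875) (iv F24154)
def n19948 : Q := act 5 n17174
theorem D19948 : act 5 n17174 = n19948 := rfl
theorem F36975 : act 0 n19948 = n18758 := d4_1 D19948 (iv D18758) (iv F30668)
theorem F36976 : act 2 n19948 = n17176 := d11_1 D19948 (iv D17176) (iv F30669)
def n19949 : Q := act 5 n17175
theorem D19949 : act 5 n17175 = n19949 := rfl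
theorem F36977 : act 0 n19949 = n17295 := d4_1 D19949 F30917 F30747
theorem F36978 : act 1 n19949 = n17178 := d8_1 D19949 (iv D17178) (iv F30670)
theorem F36979 : act 2 n19949 = n17300 := d11_1 D19949 F30927 F30745
theorem F36980 : act 3 n19949 = n17176 := d13_1 D19949 (iv D17176) D17175
theorem F36981 : act 4 n19949 = n17297 := d14_1 D19949 F30919 F30701 F24964 (iv F30671)
def n19950 : Q := act 3 n17177
theorem D19950 : act 3 n17177 = n19950 := rfl
theorem F36982 : act 0 n19950 = n18879 := d2_1 D19950 F34516 (iv F30673)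
theorem F36983 : act 1 n19950 = n19146 := d6_1 D19950 F35127 F30750
theorem F36984 : act 4 n19950 = n18880 := d12_2 (iv F30744) D19950 F34520 F28802 D17219
theorem F36985 : act 5 n19950 = n19149 := d13_2 (iv F30674) D19950 (iv D19149)
def n19951 : Q := act 3 n17179
theorem D19951 : act 3 n17179 = n19951 := rfl
theorem F36986 : act 0 n19951 = n17197 := d2_1 D19951 F30698 (iv F30676)
theorem F36987 : act 2 n19951 = n19645 := d9_1 D19951 (iv D19645) (iv D16856) (iv D13788) F18195 (iv F14291) (iv F18621) D14123 D17196 (iv F31403) F31402 F24901 (iv F23600) (iv F24177) (iv F30677)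
theorem F36988 : act 5 n19951 = n17180 := d13_2 (iv F30678) D19951 (iv D17180)
def n19952 : Q := act 2 n17180
theorem D19952 : act 2 n17180 = n19952 := rfl
theorem F36989 : act 0 n19952 = n17196 := d1_1 D19952 (iv D17196) (iv F30679)
theorem F36990 : act 3 n19952 = n19646 := d9_2 D17180 D19952 F36340 F30068 F23623 (iv F18622) (iv F24179) (iv F30698) (iv F31400) (iv D17527) F24900 F19220 (iv F18183) (iv F18620) (iv F24161)
theorem F36991 : act 4 n19952 = n17182 := d10_2 (iv F30680) D19952 (iv D17182)
theorem F36992 : act 5 n19952 = n19645 := d11_2 F36988 D19952 (iv F36987)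
def n19953 : Q := act 2 n17181
theorem D19953 : act 2 n17181 = n19953 := rfl
theorem F36993 : act 0 n19953 = n19691 := d1_1 D19953 F36437 F31425
theorem F36994 : act 3 n19953 = n19614 := d9_2 D17181 D19953 F36263 F29987 F23571 (iv F18593) (iv F24148) D17170 D19945 F36968 (iv D19683) (iv D16886) F23657 (iv F18604) (iv F24162)
theorem F36995 : act 5 n19953 = n17182 := d11_2 (iv F30681) D19953 (iv D17182)
def n19954 : Q := act 1 n17182
theorem D19954 : act 1 n17182 = n19954 := rfl
def n19955 : Q := act 3 n17182
theorem D19955 : act 3 n17182 = n19955 := rfl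
theorem F36996 : act 0 n19955 = n19683 := d2_1 D19955 (iv F36968) F36965
theorem F36997 : act 2 n19955 = n19615 := d9_1 D19955 F36265 F30006 F23638 (iv F24956) (iv F31427) (iv F36437) (iv D19691) (iv D16894) (iv D13818) F18223 (iv F14279) (iv F18602) D14109 D17182
theorem F36998 : act 5 n19955 = n19614 := d13_2 F36995 D19955 (iv F36994)
def n19956 : Q := act 1 n17183
theorem D19956 : act 1 n17183 = n19956 := rfl
def n19957 : Q := act 3 n17183
theorem D19957 : act 3 n17183 = n19957 := rfl
theorem F36999 : act 0 n19957 = n17186 := d2_1 D19957 (iv D17186) (iv F30682)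
theorem F37000 : act 2 n19957 = n19149 := d15_2 D17183 D19957 (iv D19149) F28849 F24963 F24158 (iv F24167) (iv D14113) (iv F24164)
def n19958 : Q := act 5 n17183
theorem D19958 : act 5 n17183 = n19958 := rfl
theorem F37001 : act 0 n19958 = n17187 := d4_1 D19958 (iv D17187) (iv F30682)
theorem F37002 : act 2 n19958 = n17184 := d11_1 D19958 (iv D17184) D17183
def n19959 : Q := act 4 n17184
theorem D19959 : act 4 n17184 = n19959 := rfl
theorem F37003 : act 0 n19959 = n17188 := d3_1 D19959 (iv D17188) (iv F30683)
def n19960 : Q := act 0 n17185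
theorem D19960 : act 0 n17185 = n19960 := rfl
theorem F37004 : act 2 n19960 = n17189 := d1_2 (iv F30685) D19960 (iv D17189)
theorem F37005 : act 3 n19960 = n19368 := d2_2 (iv F30742) D19960 F35634
theorem F37006 : act 5 n19960 = n19372 := d4_2 F31992 D19960 F35639
def n19961 : Q := act 5 n17186
theorem D19961 : act 5 n17186 = n19961 := rfl
theorem F37007 : act 1 n19961 = n18876 := d8_1 D19961 F34509 F30740
theorem F37008 : act 2 n19961 = n18879 := d11_1 D19961 F34518 (iv F30686)
theorem F37009 : act 3 n19961 = n17187 := d13_1 D19961 (iv D17187) D17186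
theorem F37010 : act 4 n19961 = n18877 := d14_1 D19961 F34512 F28799 D17214 (iv F30735)
def n19962 : Q := act 4 n17187
theorem D19962 : act 4 n17187 = n19962 := rfl
theorem F37011 : act 2 n19962 = n17188 := d10_1 D19962 (iv D17188) (iv F30687)
def n19963 : Q := act 3 n17191
theorem D19963 : act 3 n17191 = n19963 := rfl
theorem F37012 : act 0 n19963 = n18728 := d2_1 D19963 F34135 F33210
theorem F37013 : act 1 n19963 = n18744 := d6_1 D19963 (iv F36885) F36883
theorem F37014 : act 4 n19963 = n18726 := d12_2 D17191 D19963 (iv D18726) F27887 F27584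
def n19964 : Q := act 5 n17191
theorem D19964 : act 5 n17191 = n19964 := rfl
theorem F37015 : act 2 n19964 = n17192 := d11_1 D19964 (iv D17192) (iv F30692)
def n19965 : Q := act 3 n17193
theorem D19965 : act 3 n17193 = n19965 := rfl
theorem F37016 : act 0 n19965 = n17194 := d2_1 D19965 (iv D17194) (iv F30695)
theorem F37017 : act 5 n19965 = n17299 := d15_8 F30797 F24266 (iv F24599) D17405 (iv F31147) (iv F33209) F33208 D19965 F30922
def n19966 : Q := act 5 n17193
theorem D19966 : act 5 n17193 = n19966 := rfl
theorem F37018 : act 0 n19966 = n17195 := d4_1 D19966 (iv D17195) (iv F30695)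
theorem F37019 : act 3 n19966 = n17299 := d13_1 D19966 (iv F37017) (iv D19965)
theorem F37020 : act 4 n19966 = n17296 := d14_1 D19966 F33286 (iv D18370) F26902 D17193
def n19967 : Q := act 3 n17198
theorem D19967 : act 3 n17198 = n19967 := rfl
theorem F37021 : act 0 n19967 = n17199 := d2_1 D19967 (iv D17199) D17198
theorem F37022 : act 1 n19967 = n17537 := d6_1 D19967 (iv D17537) (iv F30699)
theorem F37023 : act 4 n19967 = n19907 := d12_2 (iv F30701) D19967 F36891 F30590 (iv F24963)
def n19968 : Q := act 2 n17199
theorem D19968 : act 2 n17199 = n19968 := rfl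
def n19969 : Q := act 4 n17199
theorem D19969 : act 4 n17199 = n19969 := rfl
theorem F37024 : act 0 n19969 = n19907 := d3_1 D19969 (iv F37023) F37021
theorem F37025 : act 1 n19969 = n17200 := d7_1 D19969 (iv D17200) (iv F30702)
theorem F37026 : act 3 n19969 = n19901 := d12_1 D19969 F36878 F30667 F28842 D17199
theorem F37027 : act 5 n19900 = n19969 := d13_0 F37026 (iv D19901) D19900
def n19970 : Q := act 5 n17200
theorem D19970 : act 5 n17200 = n19970 := rfl
theorem F37028 : act 0 n19970 = n17539 := d4_1 D19970 (iv D17539) (iv F30703)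
theorem F37029 : act 1 n19970 = n19900 := d8_1 D19970 F37027 F37025
theorem F37030 : act 3 n19970 = n19898 := d13_1 D19970 F36870 F35134
theorem F37031 : act 4 n19970 = n19965 := d14_1 D19970 F37017 (iv D17299) F24381 D17200
def n19971 : Q := act 5 n17201
theorem D19971 : act 5 n17201 = n19971 := rfl
theorem F37032 : act 0 n19971 = n17232 := d4_1 D19971 (iv D17232) (iv F30704)
theorem F37033 : act 1 n19971 = n17202 := d8_1 D19971 (iv D17202) (iv F30705)
theorem F37034 : act 2 n19971 = n17308 := d11_1 D19971 (iv D17308) (iv F30706)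
theorem F37035 : act 4 n19971 = n17232 := d14_1 D19971 (iv D17232) (iv D14160) (iv F24188) D17201
def n19972 : Q := act 2 n17203
theorem D19972 : act 2 n17203 = n19972 := rfl
theorem F37036 : act 0 n19972 = n17206 := d1_1 D19972 (iv D17206) (iv F30710)
theorem F37037 : act 3 n19972 = n17547 := d9_2 D17203 D19972 (iv D17547) (iv D14509) F19275 (iv F18643) (iv F24199) (iv F30110) (iv F36391) (iv F36394) F31366 F24882 F19215 (iv F18631) (iv F24193)
theorem F37038 : act 4 n19972 = n17233 := d10_2 (iv F30711) D19972 (iv D17233)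
theorem F37039 : act 5 n19972 = n17551 := d11_2 F36380 D19972 (iv F36381)
theorem F37040 : act 1 n18395 = n19972 := d7_3 F37038 (iv F30778) D18395
def n19973 : Q := act 2 n17204
theorem D19973 : act 2 n17204 = n19973 := rfl
theorem F37041 : act 0 n19973 = n17233 := d1_1 D19973 (iv D17233) (iv F30712)
theorem F37042 : act 3 n19973 = n17560 := d9_2 D17204 D19973 F31476 F24987 F19293 (iv F18681) (iv F24251) (iv F30781) F30780 (iv D15033) F20150 (iv F18119) F18118 (iv F18668) (iv F24196)
theorem F37043 : act 4 n19973 = n17206 := d10_2 (iv F30714) D19973 (iv D17206)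
theorem F37044 : act 5 n17559 = n19973 := d14_0 F37043 F36393 F36395 (iv D18380) (iv F31474)
def n19974 : Q := act 5 n17204
theorem D19974 : act 5 n17204 = n19974 := rfl
theorem F37045 : act 0 n19974 = n17234 := d4_1 D19974 (iv D17234) (iv F30712)
theorem F37046 : act 1 n19974 = n17210 := d8_1 D19974 (iv D17210) (iv F30713)
theorem F37047 : act 2 n19974 = n17559 := d11_1 D19974 F37044 (iv D19973)
theorem F37048 : act 3 n19974 = n17205 := d13_1 D19974 (iv D17205) D17204
theorem F37049 : act 4 n19974 = n18379 := d14_1 D19974 F36415 (iv D19679) F30111 (iv F30714)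
def n19975 : Q := act 3 n17206
theorem D19975 : act 3 n17206 = n19975 := rfl
theorem F37050 : act 0 n19975 = n17547 := d2_1 D19975 (iv F37037) F37036
theorem F37051 : act 2 n19975 = n17512 := d9_1 D19975 F31368 F24893 (iv F23646) (iv F30098) D19667 F36381 (iv D17551) (iv D14513) (iv D11489) F14814 (iv F14305) (iv F18637) D14133 D17206
theorem F37052 : act 4 n19975 = n18373 := d12_2 F37043 D19975 F33294 (iv F31477) (iv F37042)
theorem F37053 : act 5 n19975 = n17511 := d13_2 (iv F36393) D19975 F36394
def n19976 : Q := act 3 n17207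
theorem D19976 : act 3 n17207 = n19976 := rfl
theorem F37054 : act 0 n19976 = n17301 := d2_1 D19976 (iv D17301) (iv F30719)
theorem F37055 : act 1 n19976 = n17208 := d6_1 D19976 (iv D17208) (iv F30720)
theorem F37056 : act 4 n19976 = n17226 := d12_2 D17207 D19976 (iv D17226) (iv D14153) (iv F24203)
def n19977 : Q := act 5 n17207
theorem D19977 : act 5 n17207 = n19977 := rfl
theorem F37057 : act 0 n19977 = n17302 := d4_1 D19977 (iv D17302) (iv F30719)
theorem F37058 : act 1 n19977 = n17209 := d8_1 D19977 (iv D17209) (iv F30720)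
theorem F37059 : act 2 n19977 = n17225 := d11_1 D19977 (iv D17225) (iv F30721)
theorem F37060 : act 4 n19977 = n17225 := d14_1 D19977 (iv D17225) (iv D14152) (iv F24204) D17207
def n19978 : Q := act 3 n17212
theorem D19978 : act 3 n17212 = n19978 := rfl
theorem F37061 : act 0 n19978 = n17213 := d2_1 D19978 (iv D17213) D17212
def n19979 : Q := act 5 n17212
theorem D19979 : act 5 n17212 = n19979 := rfl
theorem F37062 : act 0 n19979 = n17214 := d4_1 D19979 (iv D17214) D17212
theorem F37063 : act 2 n19979 = n17220 := d11_1 D19979 (iv D17220) (iv F30731)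
theorem F37064 : act 4 n19957 = n19979 := d10_0 F37063 (iv F35137) (iv F37000)
def n19980 : Q := act 2 n17213
theorem D19980 : act 2 n17213 = n19980 := rfl
theorem F37065 : act 3 n19980 = n19948 := d15_3 (iv F24213) D17213 D19980 F36976 (iv F36980) F36979 F30925 (iv D17220) (iv D14145)
theorem F37066 : act 5 n19947 = n19980 := d13_0 F37065 (iv D19948) D19947
def n19981 : Q := act 4 n17213
theorem D19981 : act 4 n17213 = n19981 := rfl
theorem F37067 : act 1 n19981 = n17216 := d7_1 D19981 (iv D17216) (iv F30732)
def n19982 : Q := act 5 n17213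
theorem D19982 : act 5 n17213 = n19982 := rfl
theorem F37068 : act 1 n19982 = n17217 := d8_1 D19982 (iv D17217) (iv F30732)
theorem F37069 : act 2 n19982 = n19947 := d11_1 D19982 F37066 (iv D19980)
theorem F37070 : act 3 n19982 = n17214 := d13_1 D19982 (iv D17214) D17213
theorem F37071 : act 4 n19909 = n19982 := d12_0 F37070 (iv F30735) (iv D17186) (iv F30591) D19909
def n19983 : Q := act 1 n17215
theorem D19983 : act 1 n17215 = n19983 := rfl
theorem F37072 : act 3 n19983 = n17802 := d6_2 (iv F30736) D19983 F32007
theorem F37073 : act 5 n19983 = n17801 := d8_2 F30737 D19983 F32006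
def n19984 : Q := act 4 n17215
theorem D19984 : act 4 n17215 = n19984 := rfl
theorem F37074 : act 2 n19984 = n17216 := d10_1 D19984 (iv D17216) D17215
def n19985 : Q := act 5 n17216
theorem D19985 : act 5 n17216 = n19985 := rfl
def n19986 : Q := act 4 n17217
theorem D19986 : act 4 n17217 = n19986 := rfl
theorem F37075 : act 1 n19986 = n19909 := d7_1 D19986 F37071 F37068
theorem F37076 : act 2 n19986 = n17803 := d10_1 D19986 (iv D17803) (iv F30738)
theorem F37077 : act 3 n19986 = n19908 := d12_1 D19986 F36893 F30742 (iv D17218) (iv F30739)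
def n19987 : Q := act 5 n17224
theorem D19987 : act 5 n17224 = n19987 := rfl
theorem F37078 : act 0 n19987 = n17225 := d4_1 D19987 (iv D17225) (iv F30754)
theorem F37079 : act 1 n19987 = n17227 := d8_1 D19987 (iv D17227) (iv F30755)
theorem F37080 : act 2 n19987 = n17302 := d11_1 D19987 (iv D17302) (iv F30756)
theorem F37081 : act 3 n19987 = n17541 := d13_1 D19987 (iv D17541) (iv F30757)
theorem F37082 : act 4 n19987 = n17302 := d14_1 D19987 (iv D17302) (iv D14226) (iv F24226) D17224
def n19988 : Q := act 2 n17226
theorem D19988 : act 2 n17226 = n19988 := rfl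
theorem F37083 : act 0 n19988 = n17303 := d1_1 D19988 (iv D17303) (iv F30760)
theorem F37084 : act 1 n19988 = n17523 := d5_1 D19988 (iv D17523) F24899 (iv F24237) (iv F30761)
theorem F37085 : act 5 n19988 = n17499 := d11_2 (iv F30762) D19988 (iv D17499)
def n19989 : Q := act 3 n17228
theorem D19989 : act 3 n17228 = n19989 := rfl
theorem F37086 : act 0 n19989 = n17307 := d2_1 D19989 (iv D17307) (iv F30767)
theorem F37087 : act 1 n19989 = n17229 := d6_1 D19989 (iv D17229) (iv F30768)
theorem F37088 : act 4 n19989 = n17287 := d12_2 D17228 D19989 (iv D17287) (iv D14210) (iv F24243)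
theorem F37089 : act 5 n19056 = n19989 := d14_0 F37088 (iv F32462) (iv F34848) (iv F34849) D19056
theorem F37090 : act 2 n19989 = n19057 := d11_1 F37089 (iv D19057) (iv F34959)
def n19990 : Q := act 5 n17228
theorem D19990 : act 5 n17228 = n19990 := rfl
theorem F37091 : act 0 n19990 = n17308 := d4_1 D19990 (iv D17308) (iv F30767)
theorem F37092 : act 1 n19990 = n17230 := d8_1 D19990 (iv D17230) (iv F30768)
theorem F37093 : act 2 n19990 = n17232 := d11_1 D19990 (iv D17232) (iv F30769)
theorem F37094 : act 3 n19990 = n19056 := d13_1 D19990 F37089 (iv D19989)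
theorem F37095 : act 4 n19990 = n17308 := d14_1 D19990 (iv D17308) (iv D14233) (iv F24244) D17228
def n19991 : Q := act 5 n17229
theorem D19991 : act 5 n17229 = n19991 := rfl
theorem F37096 : act 0 n19991 = n17293 := d4_1 D19991 (iv D17293) (iv F30770)
theorem F37097 : act 1 n19991 = n19056 := d8_1 D19991 F37089 F37087
theorem F37098 : act 2 n19991 = n19010 := d11_1 D19991 F34859 F32464
theorem F37099 : act 3 n19991 = n17230 := d13_1 D19991 (iv D17230) D17229
theorem F37100 : act 4 n19991 = n19009 := d14_1 D19991 (iv D19009) F28534 (iv F25982) (iv F30771)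
def n19992 : Q := act 2 n17231
theorem D19992 : act 2 n17231 = n19992 := rfl
theorem F37101 : act 1 n19992 = n18394 := d5_1 D19992 F33329 F30778 (iv D17233) (iv F30775)
theorem F37102 : act 5 n18392 = n19992 := d8_0 F37101 (iv D18394) D18392
def n19993 : Q := act 5 n17231
theorem D19993 : act 5 n17231 = n19993 := rfl
theorem F37103 : act 1 n19993 = n17234 := d8_1 D19993 (iv D17234) (iv F30775)
theorem F37104 : act 2 n19993 = n18392 := d11_1 D19993 F37102 (iv D19992)
theorem F37105 : act 3 n19993 = n17232 := d13_1 D19993 (iv D17232) D17231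
def n19994 : Q := act 4 n17234
theorem D19994 : act 4 n17234 = n19994 := rfl
theorem F37106 : act 0 n19994 = n18379 := d3_1 D19994 (iv F37049) F37045
theorem F37107 : act 2 n19994 = n18061 := d10_1 D19994 F32543 (iv F30780)
def n19995 : Q := act 2 n17235
theorem D19995 : act 2 n17235 = n19995 := rfl
theorem F37108 : act 0 n19995 = n17525 := d1_1 D19995 (iv F36343) F36342
theorem F37109 : act 4 n19995 = n17528 := d10_2 (iv F30783) D19995 F31402
theorem F37110 : act 5 n19995 = n17236 := d11_2 (iv F30784) D19995 (iv D17236)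
def n19996 : Q := act 0 n17237
theorem D19996 : act 0 n17237 = n19996 := rfl
theorem F37111 : act 1 n19996 = n17522 := d0_2 D17237 D19996 F31394 F24899 (iv F24256)
theorem F37112 : act 2 n19996 = n17313 := d1_2 (iv F30787) D19996 (iv D17313)
theorem F37113 : act 3 n19996 = n17392 := d2_2 (iv F30788) D19996 F31107
theorem F37114 : act 5 n19996 = n17391 := d4_2 (iv F30789) D19996 F31106
def n19997 : Q := act 2 n17238
theorem D19997 : act 2 n17238 = n19997 := rfl
theorem F37115 : act 0 n19997 = n19733 := d1_1 D19997 (iv D19733) (iv F30790)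
def n19998 : Q := act 4 n17238
theorem D19998 : act 4 n17238 = n19998 := rfl
theorem F37116 : act 0 n19998 = n19720 := d3_1 D19998 F36514 (iv F30790)
theorem F37117 : act 1 n19998 = n17239 := d7_1 D19998 (iv D17239) (iv F30791)
theorem F37118 : act 3 n19998 = n17403 := d12_1 D19998 (iv D17403) (iv D14329) (iv F24261) D17238
def n19999 : Q := act 5 n17239
theorem D19999 : act 5 n17239 = n19999 := rfl
theorem F37119 : act 0 n19999 = n17242 := d4_1 D19999 (iv D17242) (iv F30792)
theorem F37120 : act 2 n19999 = n19965 := d11_1 D19999 F37017 F30923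
theorem F37121 : act 3 n19999 = n17404 := d13_1 D19999 (iv D17404) (iv F30793)
def n20000 : Q := act 0 n17240
theorem D20000 : act 0 n17240 = n20000 := rfl
theorem F37122 : act 2 n20000 = n17521 := d1_2 (iv F30794) D20000 F31393
theorem F37123 : act 3 n20000 = n17517 := d2_2 (iv F30795) D20000 F31375
theorem F37124 : act 4 n20000 = n19951 := d3_2 F31134 D20000 F36986
theorem F37125 : act 5 n20000 = n17537 := d4_2 (iv F30796) D20000 F31423
def n20001 : Q := act 2 n17243
theorem D20001 : act 2 n17243 = n20001 := rfl
theorem F37126 : act 4 n20001 = n17245 := d10_2 (iv F30801) D20001 (iv D17245)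
def n20002 : Q := act 5 n17243
theorem D20002 : act 5 n17243 = n20002 := rfl
theorem F37127 : act 1 n20002 = n17248 := d8_1 D20002 (iv D17248) (iv F30800)
theorem F37128 : act 3 n20002 = n17244 := d13_1 D20002 (iv D17244) D17243
def n20003 : Q := act 1 n17245
theorem D20003 : act 1 n17245 = n20003 := rfl
theorem F37129 : act 2 n20003 = n17249 := d5_2 D17245 D20003 (iv D17249) (iv D14175) (iv F24268)
theorem F37130 : act 5 n17276 = n20003 := d11_0 F37129 F30811 D17276
def n20004 : Q := act 3 n17245
theorem D20004 : act 3 n17245 = n20004 := rfl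
def n20005 : Q := act 5 n17245
theorem D20005 : act 5 n17245 = n20005 := rfl
theorem F37131 : act 1 n20005 = n17276 := d8_1 D20005 F37130 (iv D20003)
theorem F37132 : act 2 n20005 = n17246 := d11_1 D20005 (iv D17246) D17245
def n20006 : Q := act 4 n17246
theorem D20006 : act 4 n17246 = n20006 := rfl
theorem F37133 : act 1 n20006 = n17250 := d7_1 D20006 (iv D17250) (iv F30804)
theorem F37134 : act 3 n20006 = n19541 := d12_1 D20006 (iv D19541) (iv D16738) (iv F24270) (iv F30805)
def n20007 : Q := act 1 n17247
theorem D20007 : act 1 n17247 = n20007 := rfl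
theorem F37135 : act 4 n20007 = n17249 := d7_2 (iv F30807) D20007 (iv D17249)
def n20008 : Q := act 3 n17247
theorem D20008 : act 3 n17247 = n20008 := rfl
theorem F37136 : act 0 n20008 = n17256 := d2_1 D20008 (iv D17256) (iv F30806)
theorem F37137 : act 4 n20008 = n17280 := d12_2 (iv F30807) D20008 (iv D17280) (iv D14202) (iv F24277)
def n20009 : Q := act 5 n17247
theorem D20009 : act 5 n17247 = n20009 := rfl
theorem F37138 : act 0 n20009 = n17257 := d4_1 D20009 (iv D17257) (iv F30806)
theorem F37139 : act 2 n20009 = n17248 := d11_1 D20009 (iv D17248) D17247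
theorem F37140 : act 4 n20009 = n17279 := d14_1 D20009 (iv D17279) (iv D14201) F24278 (iv F30807)
def n20010 : Q := act 4 n17248
theorem D20010 : act 4 n17248 = n20010 := rfl
theorem F37141 : act 0 n20010 = n17258 := d3_1 D20010 (iv D17258) (iv F30808)
theorem F37142 : act 2 n20010 = n17279 := d10_1 D20010 (iv F37140) F37139
theorem F37143 : act 3 n20010 = n17333 := d12_1 D20010 (iv D17333) F24459 (iv F24275) (iv F30809)
theorem F37144 : act 5 n20010 = n17250 := d14_2 D17248 D20010 (iv D17250) (iv D14176) (iv F24272)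
def n20011 : Q := act 0 n17249
theorem D20011 : act 0 n17249 = n20011 := rfl
theorem F37145 : act 1 n20011 = n17259 := d0_2 D17249 D20011 (iv D17259) (iv D14183) (iv F24276)
theorem F37146 : act 3 n20011 = n17275 := d2_2 (iv F30810) D20011 F30872
theorem F37147 : act 5 n20011 = n17274 := d4_2 (iv F30811) D20011 F30871
def n20012 : Q := act 2 n17251
theorem D20012 : act 2 n17251 = n20012 := rfl
theorem F37148 : act 0 n20012 = n20001 := d1_1 D20012 (iv D20001) (iv F30815)
theorem F37149 : act 4 n20012 = n17319 := d10_2 (iv F30817) D20012 (iv D17319)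
def n20013 : Q := act 5 n17251
theorem D20013 : act 5 n17251 = n20013 := rfl
theorem F37150 : act 0 n20013 = n20002 := d4_1 D20013 (iv D20002) (iv F30815)
theorem F37151 : act 1 n20013 = n17254 := d8_1 D20013 (iv D17254) (iv F30816)
theorem F37152 : act 3 n20013 = n17252 := d13_1 D20013 (iv D17252) D17251
def n20014 : Q := act 1 n17253
theorem D20014 : act 1 n17253 = n20014 := rfl
theorem F37153 : act 4 n20014 = n17325 := d7_2 (iv F30823) D20014 (iv D17325)
def n20015 : Q := act 3 n17253
theorem D20015 : act 3 n17253 = n20015 := rfl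
theorem F37154 : act 0 n20015 = n17343 := d2_1 D20015 F31022 (iv F30822)
theorem F37155 : act 4 n20015 = n17351 := d12_2 (iv F30823) D20015 F31017 F24734 (iv F24435)
def n20016 : Q := act 5 n17253
theorem D20016 : act 5 n17253 = n20016 := rfl
theorem F37156 : act 0 n20016 = n17342 := d4_1 D20016 F31002 (iv F30822)
theorem F37157 : act 2 n20016 = n17254 := d11_1 D20016 (iv D17254) D17253
def n20017 : Q := act 4 n17254
theorem D20017 : act 4 n17254 = n20017 := rfl
theorem F37158 : act 0 n20017 = n17341 := d3_1 D20017 F31000 (iv F30824)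
theorem F37159 : act 3 n20017 = n17322 := d12_1 D20017 (iv D17322) F24429 (iv F24293) (iv F30825)
theorem F37160 : act 5 n20017 = n17323 := d14_2 D17254 D20017 F30967 F24433 (iv F24290)
def n20018 : Q := act 0 n17255
theorem D20018 : act 0 n17255 = n20018 := rfl
theorem F37161 : act 2 n20018 = n20015 := d1_2 F31003 D20018 F37154
theorem F37162 : act 3 n20018 = n20009 := d2_2 F31023 D20018 F37138
theorem F37163 : act 4 n20018 = n17259 := d3_2 (iv F30826) D20018 (iv D17259)
theorem F37164 : act 5 n20018 = n20008 := d4_2 (iv F31025) D20018 F37136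
def n20019 : Q := act 2 n17256
theorem D20019 : act 2 n17256 = n20019 := rfl
theorem F37165 : act 1 n20019 = n17342 := d5_1 D20019 (iv D17342) F24463 (iv F30827) (iv F31024)
theorem F37166 : act 3 n20019 = n17342 := d9_2 D17256 D20019 (iv D17342) (iv D14267) (iv F24274) (iv F30809) (iv F37139) (iv F37162) F37161 (iv D20015) (iv D17253) (iv D14179) F18714 D11167 D14181
theorem F37167 : act 5 n20019 = n17343 := d11_2 F31025 D20019 F31003
def n20020 : Q := act 4 n17256
theorem D20020 : act 4 n17256 = n20020 := rfl
theorem F37168 : act 0 n20020 = n17280 := d3_1 D20020 (iv F37137) F37136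
theorem F37169 : act 3 n20020 = n17262 := d12_1 D20020 (iv D17262) (iv D14184) (iv F24294) D17256
theorem F37170 : act 5 n20020 = n17432 := d14_2 F31025 D20020 F31214 (iv D17261) (iv F30826)
def n20021 : Q := act 4 n17257
theorem D20021 : act 4 n17257 = n20021 := rfl
theorem F37171 : act 0 n20021 = n17279 := d3_1 D20021 (iv F37140) F37138
theorem F37172 : act 1 n20021 = n20020 := d7_1 D20021 (iv D20020) F31024
theorem F37173 : act 2 n20021 = n17258 := d10_1 D20021 (iv D17258) (iv F30827)
theorem F37174 : act 3 n20021 = n17431 := d12_1 D20021 F31212 (iv D17260) (iv F30826) (iv F31023)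
theorem F37175 : act 5 n20021 = n17263 := d14_2 D17257 D20021 (iv D17263) (iv D14185) (iv F24294)
def n20022 : Q := act 4 n17264
theorem D20022 : act 4 n17264 = n20022 := rfl
theorem F37176 : act 0 n20022 = n17790 := d3_1 D20022 (iv D17790) (iv F30840)
theorem F37177 : act 2 n20022 = n17265 := d10_1 D20022 (iv D17265) (iv F30841)
theorem F37178 : act 3 n20022 = n17790 := d12_1 D20022 (iv D17790) F25490 (iv F25500) (iv F30842)
theorem F37179 : act 5 n20022 = n17430 := d14_2 D17264 D20022 (iv D17430) (iv D14366) (iv F24304)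
def n20023 : Q := act 2 n17266
theorem D20023 : act 2 n17266 = n20023 := rfl
theorem F37180 : act 0 n20023 = n17267 := d1_1 D20023 (iv D17267) (iv F30847)
theorem F37181 : act 1 n20023 = n17501 := d5_1 D20023 (iv D17501) F24861 (iv F24334) (iv F30848)
theorem F37182 : act 4 n20023 = n17513 := d10_2 F30850 D20023 F31369
theorem F37183 : act 5 n20023 = n17387 := d11_2 (iv F30849) D20023 F31097
def n20024 : Q := act 3 n17267
theorem D20024 : act 3 n17267 = n20024 := rfl
theorem F37184 : act 1 n20024 = n17356 := d6_1 D20024 (iv D17356) (iv F30851)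
theorem F37185 : act 5 n20024 = n17388 := d13_2 (iv F30852) D20024 (iv D17388)
def n20025 : Q := act 4 n17267
theorem D20025 : act 4 n17267 = n20025 := rfl
theorem F37186 : act 0 n20025 = n17513 := d3_1 D20025 (iv F37182) F37180
theorem F37187 : act 1 n20025 = n17357 := d7_1 D20025 (iv D17357) (iv F30851)
theorem F37188 : act 2 n20025 = n17268 := d10_1 D20025 (iv D17268) D17267
theorem F37189 : act 5 n20025 = n17514 := d14_2 (iv F30852) D20025 F31372 F31103 (iv D17389)
def n20026 : Q := act 2 n17270
theorem D20026 : act 2 n17270 = n20026 := rfl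
theorem F37190 : act 0 n20026 = n19540 := d1_1 D20026 F36065 F30862
theorem F37191 : act 1 n20026 = n17420 := d5_1 D20026 F31180 F24666 (iv F24321) (iv F30860)
theorem F37192 : act 5 n20026 = n17418 := d11_2 F30861 D20026 F31178
def n20027 : Q := act 4 n17270
theorem D20027 : act 4 n17270 = n20027 := rfl
theorem F37193 : act 1 n20027 = n17272 := d7_1 D20027 (iv D17272) (iv F30860)
theorem F37194 : act 3 n20027 = n17277 := d12_1 D20027 (iv D17277) (iv D14199) (iv F24319) D17270
def n20028 : Q := act 4 n17271
theorem D20028 : act 4 n17271 = n20028 := rfl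
theorem F37195 : act 0 n20028 = n20027 := d3_1 D20028 (iv D20027) (iv F30862)
theorem F37196 : act 1 n20028 = n17273 := d7_1 D20028 (iv D17273) (iv F30863)
theorem F37197 : act 2 n20028 = n18611 := d10_1 D20028 (iv F36066) F36065
theorem F37198 : act 5 n20028 = n17278 := d14_2 D17271 D20028 (iv D17278) (iv D14200) (iv F24319)
def n20029 : Q := act 5 n17272
theorem D20029 : act 5 n17272 = n20029 := rfl
theorem F37199 : act 0 n20029 = n17431 := d4_1 D20029 (iv D17431) (iv F30865)
theorem F37200 : act 2 n20029 = n17427 := d11_1 D20029 F31200 (iv F30866)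
theorem F37201 : act 3 n20029 = n17279 := d13_1 D20029 (iv D17279) (iv F30867)
theorem F37202 : act 4 n20029 = n17426 := d14_1 D20029 (iv D17426) F24677 (iv F24322) D17272
def n20030 : Q := act 3 n17273
theorem D20030 : act 3 n17273 = n20030 := rfl
theorem F37203 : act 0 n20030 = n17432 := d2_1 D20030 (iv D17432) (iv F30868)
theorem F37204 : act 4 n20030 = n17425 := d12_2 D17273 D20030 (iv D17425) F24677 (iv F24325)
theorem F37205 : act 5 n20030 = n17280 := d13_2 (iv F30870) D20030 (iv D17280)
def n20031 : Q := act 2 n17274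
theorem D20031 : act 2 n17274 = n20031 := rfl
theorem F37206 : act 0 n20031 = n17276 := d1_1 D20031 (iv D17276) (iv F30871)
theorem F37207 : act 3 n20031 = n18298 := d15_1 D20031 (iv D18298) (iv D15306) F20638 D12652 (iv F24330) (iv F30810) F30811 (iv F30871)
def n20032 : Q := act 4 n17274
theorem D20032 : act 4 n17274 = n20032 := rfl
theorem F37208 : act 0 n20032 = n17277 := d3_1 D20032 (iv D17277) (iv F30871)
theorem F37209 : act 1 n20032 = n20030 := d7_1 D20032 F37204 F31194
theorem F37210 : act 3 n20032 = n20028 := d12_1 D20032 (iv D20028) F30864 F24681 D17274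
def n20033 : Q := act 4 n17275
theorem D20033 : act 4 n17275 = n20033 := rfl
theorem F37211 : act 0 n20033 = n17278 := d3_1 D20033 (iv D17278) (iv F30872)
theorem F37212 : act 1 n20033 = n20029 := d7_1 D20033 F37202 F31197
theorem F37213 : act 2 n20033 = n18609 := d10_1 D20033 (iv D18609) (iv F30873)
theorem F37214 : act 5 n20033 = n20027 := d14_2 D17275 D20033 (iv D20027) (iv F30861) F24681
def n20034 : Q := act 3 n17276
theorem D20034 : act 3 n17276 = n20034 := rfl
theorem F37215 : act 0 n20034 = n18298 := d2_1 D20034 (iv F37207) F37206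
theorem F37216 : act 2 n20034 = n18296 := d15_2 D17276 D20034 (iv D18296) F26735 D15724 (iv F30873) (iv F37146) F37147 F30871
def n20035 : Q := act 4 n17276
theorem D20035 : act 4 n17276 = n20035 := rfl
theorem F37217 : act 2 n20035 = n17277 := d10_1 D20035 (iv D17277) D17276
def n20036 : Q := act 5 n17277
theorem D20036 : act 5 n17277 = n20036 := rfl
theorem F37218 : act 1 n20036 = n17279 := d8_1 D20036 (iv D17279) (iv F30874)
theorem F37219 : act 3 n20036 = n20033 := d13_1 D20036 F37214 F37194
def n20037 : Q := act 3 n17278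
theorem D20037 : act 3 n17278 = n20037 := rfl
theorem F37220 : act 0 n20037 = n20036 := d2_1 D20037 F37219 F37211
theorem F37221 : act 1 n20037 = n17280 := d6_1 D20037 (iv D17280) (iv F30875)
theorem F37222 : act 5 n20037 = n20032 := d13_2 F37198 D20037 F37210
def n20038 : Q := act 2 n17280
theorem D20038 : act 2 n17280 = n20038 := rfl
def n20039 : Q := act 2 n17284
theorem D20039 : act 2 n17284 = n20039 := rfl
theorem F37223 : act 0 n20039 = n17353 := d1_1 D20039 F31026 (iv F30887)
theorem F37224 : act 4 n20039 = n17326 := d10_2 (iv F30888) D20039 (iv D17326)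
def n20040 : Q := act 5 n17284
theorem D20040 : act 5 n17284 = n20040 := rfl
theorem F37225 : act 0 n20040 = n17354 := d4_1 D20040 (iv D17354) (iv F30887)
theorem F37226 : act 1 n20040 = n19468 := d8_1 D20040 F35882 F33873
theorem F37227 : act 3 n20040 = n17285 := d13_1 D20040 (iv D17285) D17284
theorem F37228 : act 4 n20040 = n17424 := d14_1 D20040 (iv D17424) F24672 (iv F24441) (iv F30888)
def n20041 : Q := act 3 n17286
theorem D20041 : act 3 n17286 = n20041 := rfl
theorem F37229 : act 0 n20041 = n17287 := d2_1 D20041 (iv D17287) (iv F30893)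
theorem F37230 : act 1 n20041 = n17290 := d6_1 D20041 (iv D17290) (iv F30894)
theorem F37231 : act 4 n20041 = n17307 := d12_2 D17286 D20041 (iv D17307) (iv D14233) (iv F24353)
def n20042 : Q := act 5 n17286
theorem D20042 : act 5 n17286 = n20042 := rfl
theorem F37232 : act 0 n20042 = n17288 := d4_1 D20042 (iv D17288) (iv F30893)
theorem F37233 : act 1 n20042 = n17289 := d8_1 D20042 F30901 (iv F30894)
theorem F37234 : act 2 n20042 = n19663 := d11_1 D20042 (iv D19663) (iv F30895)
theorem F37235 : act 4 n20042 = n17288 := d14_1 D20042 (iv D17288) (iv D14210) (iv F24354) D17286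
def n20043 : Q := act 2 n17287
theorem D20043 : act 2 n17287 = n20043 := rfl
theorem F37236 : act 1 n20043 = n19013 := d5_1 D20043 F34865 F28541 F25984 (iv F30896)
theorem F37237 : act 4 n20043 = n19057 := d10_2 F37088 D20043 (iv F37090)
theorem F37238 : act 5 n20043 = n19011 := d11_2 F32462 D20043 F34860
def n20044 : Q := act 3 n17297
theorem D20044 : act 3 n17297 = n20044 := rfl
theorem F37239 : act 0 n20044 = n17298 := d2_1 D20044 (iv D17298) D17297
theorem F37240 : act 1 n20044 = n20000 := d6_1 D20044 F37123 F31376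
theorem F37241 : act 5 n20044 = n19967 := d13_2 (iv F30919) D20044 (iv D19967)
def n20045 : Q := act 2 n17298
theorem D20045 : act 2 n17298 = n20045 := rfl
theorem F37242 : act 1 n20045 = n19997 := d5_1 D20045 (iv D19997) F30791 (iv F24380) (iv F30920)
theorem F37243 : act 5 n20045 = n19968 := d11_2 (iv F30921) D20045 (iv D19968)
def n20046 : Q := act 4 n17298
theorem D20046 : act 4 n17298 = n20046 := rfl
theorem F37244 : act 1 n20046 = n17299 := d7_1 D20046 (iv D17299) (iv F30920)
def n20047 : Q := act 2 n17301
theorem D20047 : act 2 n17301 = n20047 := rfl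
theorem F37245 : act 1 n20047 = n17783 := d5_1 D20047 (iv F32744) F32741 F26373 (iv F30928)
theorem F37246 : act 4 n20047 = n17303 := d10_2 (iv F30929) D20047 (iv D17303)
theorem F37247 : act 3 n20047 = n17782 := d15_3 F30756 D17301 D20047 F31960 (iv F30437) F30436 (iv F30759) (iv D17225) (iv F30754)
def n20048 : Q := act 5 n17301
theorem D20048 : act 5 n17301 = n20048 := rfl
theorem F37248 : act 1 n20048 = n17304 := d8_1 D20048 (iv D17304) (iv F30928)
theorem F37249 : act 3 n20048 = n17302 := d13_1 D20048 (iv D17302) D17301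
def n20049 : Q := act 3 n17303
theorem D20049 : act 3 n17303 = n20049 := rfl
def n20050 : Q := act 2 n17305
theorem D20050 : act 2 n17305 = n20050 := rfl
theorem F37250 : act 1 n20050 = n19968 := d5_1 D20050 (iv D19968) F30702 (iv F24401) (iv F30933)
theorem F37251 : act 5 n20050 = n19997 := d11_2 (iv F30934) D20050 (iv D19997)
def n20051 : Q := act 4 n17305
theorem D20051 : act 4 n17305 = n20051 := rfl
theorem F37252 : act 1 n20051 = n17306 := d7_1 D20051 (iv D17306) (iv F30933)
theorem F37253 : act 3 n20051 = n17562 := d12_1 D20051 (iv D17562) (iv D14525) (iv F24398) D17305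
def n20052 : Q := act 5 n17306
theorem D20052 : act 5 n17306 = n20052 := rfl
theorem F37254 : act 0 n20052 = n17314 := d4_1 D20052 (iv D17314) (iv F30935)
theorem F37255 : act 2 n20052 = n19970 := d11_1 D20052 (iv D19970) (iv F30936)
theorem F37256 : act 3 n20052 = n17563 := d13_1 D20052 (iv D17563) (iv F30937)
theorem F37257 : act 4 n20052 = n19999 := d14_1 D20052 (iv D19999) (iv D17239) (iv F24402) D17306
def n20053 : Q := act 2 n17307
theorem D20053 : act 2 n17307 = n20053 := rfl
theorem F37258 : act 0 n20053 = n19057 := d1_1 D20053 (iv F37090) F37086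
theorem F37259 : act 5 n19054 = n20053 := d4_0 F37258 (iv D19057) (iv F34954)
def n20054 : Q := act 5 n17307
theorem D20054 : act 5 n17307 = n20054 := rfl
theorem F37260 : act 0 n20054 = n19056 := d4_1 D20054 F37089 F37086
theorem F37261 : act 1 n20054 = n17310 := d8_1 D20054 (iv D17310) (iv F30938)
theorem F37262 : act 2 n20054 = n19054 := d11_1 D20054 F37259 (iv D20053)
theorem F37263 : act 3 n20054 = n17308 := d13_1 D20054 (iv D17308) D17307
theorem F37264 : act 4 n19053 = n20054 := d12_0 F37263 (iv F37095) F37094 (iv D19056) (iv F34953)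
def n20055 : Q := act 4 n17310
theorem D20055 : act 4 n17310 = n20055 := rfl
theorem F37265 : act 1 n20055 = n19053 := d7_1 D20055 F37264 F37261
theorem F37266 : act 3 n20055 = n19009 := d12_1 D20055 (iv F37100) F37099 F30774 (iv F30940)
theorem F37267 : act 5 n20055 = n19008 := d14_2 D17310 D20055 F34851 F32467 F30903
def n20056 : Q := act 5 n17315
theorem D20056 : act 5 n17315 = n20056 := rfl
theorem F37268 : act 0 n20056 = n18071 := d4_1 D20056 (iv D18071) (iv F30948)
theorem F37269 : act 2 n20056 = n17316 := d11_1 D20056 (iv D17316) D17315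
theorem F37270 : act 3 n20056 = n18080 := d13_1 D20056 F32597 F30950
def n20057 : Q := act 4 n17316
theorem D20057 : act 4 n17316 = n20057 := rfl
theorem F37271 : act 1 n20057 = n17322 := d7_1 D20057 (iv D17322) (iv F30951)
theorem F37272 : act 5 n20057 = n17317 := d14_2 D17316 D20057 (iv D17317) (iv D14245) (iv F24414)
def n20058 : Q := act 3 n17317
theorem D20058 : act 3 n17317 = n20058 := rfl
theorem F37273 : act 0 n20058 = n20006 := d2_1 D20058 F37134 F36067
theorem F37274 : act 1 n20058 = n17323 := d6_1 D20058 (iv D17323) (iv F30953)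
theorem F37275 : act 4 n20058 = n17318 := d12_2 D17317 D20058 (iv D17318) (iv D14246) (iv F24419)
def n20059 : Q := act 2 n17318
theorem D20059 : act 2 n17318 = n20059 := rfl
theorem F37276 : act 0 n20059 = n20005 := d1_1 D20059 F37132 (iv F30954)
theorem F37277 : act 5 n20059 = n17319 := d11_2 (iv F30956) D20059 (iv D17319)
def n20060 : Q := act 1 n17319
theorem D20060 : act 1 n17319 = n20060 := rfl
theorem F37278 : act 2 n20060 = n17325 := d5_2 D17319 D20060 (iv D17325) (iv D14252) (iv F24425)
def n20061 : Q := act 3 n17319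
theorem D20061 : act 3 n17319 = n20061 := rfl
theorem F37279 : act 0 n20061 = n20004 := d2_1 D20061 (iv D20004) (iv F30957)
def n20062 : Q := act 2 n17320
theorem D20062 : act 2 n17320 = n20062 := rfl
theorem F37280 : act 0 n20062 = n17337 := d1_1 D20062 (iv D17337) (iv F30958)
theorem F37281 : act 1 n20062 = n19121 := d5_1 D20062 (iv D19121) (iv F35077) (iv F35783) F35781
theorem F37282 : act 3 n20062 = n17332 := d9_2 D17320 D20062 F30984 F24459 F18837 (iv F18839) (iv F24461) (iv F30995) F30994 (iv D17328) (iv D14256) (iv D11231) F14455 D11222 D14248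
theorem F37283 : act 4 n20062 = n17383 := d10_2 (iv F30959) D20062 (iv D17383)
theorem F37284 : act 5 n17331 = n20062 := d14_0 F37283 F32696 (iv F36013) F36014 (iv F30982)
def n20063 : Q := act 5 n17320
theorem D20063 : act 5 n17320 = n20063 := rfl
theorem F37285 : act 0 n20063 = n17339 := d4_1 D20063 (iv D17339) (iv F30958)
theorem F37286 : act 2 n20063 = n17331 := d11_1 D20063 F37284 (iv D20062)
theorem F37287 : act 3 n20063 = n17321 := d13_1 D20063 (iv D17321) D17320
theorem F37288 : act 4 n19538 = n20063 := d10_0 F37286 F30982 D19538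
def n20064 : Q := act 2 n17323
theorem D20064 : act 2 n17323 = n20064 := rfl
theorem F37289 : act 0 n20064 = n17349 := d1_1 D20064 (iv D17349) (iv F30966)
theorem F37290 : act 4 n20064 = n17324 := d10_2 (iv F30967) D20064 (iv D17324)
def n20065 : Q := act 0 n17325
theorem D20065 : act 0 n17325 = n20065 := rfl
theorem F37291 : act 1 n20065 = n17351 := d0_2 D17325 D20065 (iv D17351) (iv D14276) (iv F24434)
theorem F37292 : act 3 n20065 = n17436 := d2_2 (iv F30971) D20065 F31222
def n20066 : Q := act 1 n17326
theorem D20066 : act 1 n17326 = n20066 := rfl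
theorem F37293 : act 0 n20066 = n17435 := d0_1 D20066 (iv F33847) F33846 F27622 (iv F30972)
theorem F37294 : act 2 n20066 = n17424 := d5_2 D17326 D20066 (iv F33859) F33860 F27638
theorem F37295 : act 3 n20066 = n17350 := d6_2 (iv F30973) D20066 (iv D17350)
theorem F37296 : act 5 n20066 = n17352 := d8_2 (iv F30974) D20066 F31019
def n20067 : Q := act 3 n17327
theorem D20067 : act 3 n17327 = n20067 := rfl
theorem F37297 : act 1 n20067 = n17328 := d6_1 D20067 (iv D17328) D17327
def n20068 : Q := act 5 n17327
theorem D20068 : act 5 n17327 = n20068 := rfl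
theorem F37298 : act 1 n20068 = n17329 := d8_1 D20068 (iv D17329) D17327
theorem F37299 : act 2 n20068 = n17336 := d11_1 D20068 (iv D17336) (iv F30975)
def n20069 : Q := act 4 n17330
theorem D20069 : act 4 n17330 = n20069 := rfl
theorem F37300 : act 0 n20069 = n20057 := d3_1 D20069 (iv D20057) (iv F30978)
theorem F37301 : act 1 n20069 = n17333 := d7_1 D20069 (iv D17333) (iv F30979)
theorem F37302 : act 5 n20069 = n19541 := d14_2 D17330 D20069 (iv D19541) F29796 (iv F24452)
def n20070 : Q := act 4 n17332
theorem D20070 : act 4 n17332 = n20070 := rfl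
theorem F37303 : act 0 n20070 = n19543 := d3_1 D20070 F36075 (iv F30983)
theorem F37304 : act 1 n20070 = n19512 := d7_1 D20070 F35997 F32579
theorem F37305 : act 2 n20070 = n17333 := d10_1 D20070 (iv D17333) (iv F30984)
theorem F37306 : act 3 n20070 = n19516 := d12_1 D20070 F36011 F32700 (iv F37283) F37282
theorem F37307 : act 5 n20070 = n19487 := d14_2 D17332 D20070 (iv D19487) F29679 (iv F24457)
def n20071 : Q := act 3 n17334
theorem D20071 : act 3 n17334 = n20071 := rfl
theorem F37308 : act 0 n20071 = n17335 := d2_1 D20071 (iv D17335) D17334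
def n20072 : Q := act 5 n17334
theorem D20072 : act 5 n17334 = n20072 := rfl
theorem F37309 : act 0 n20072 = n17336 := d4_1 D20072 (iv D17336) D17334
def n20073 : Q := act 2 n17335
theorem D20073 : act 2 n17335 = n20073 := rfl
def n20074 : Q := act 4 n17335
theorem D20074 : act 4 n17335 = n20074 := rfl
theorem F37310 : act 1 n20074 = n17338 := d7_1 D20074 (iv D17338) (iv F30988)
theorem F37311 : act 3 n20074 = n17345 := d12_1 D20074 (iv D17345) (iv D14270) (iv F24460) D17335
def n20075 : Q := act 5 n17335
theorem D20075 : act 5 n17335 = n20075 := rfl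
theorem F37312 : act 1 n20075 = n17339 := d8_1 D20075 (iv D17339) (iv F30988)
theorem F37313 : act 3 n20075 = n17336 := d13_1 D20075 (iv D17336) D17335
def n20076 : Q := act 4 n17336
theorem D20076 : act 4 n17336 = n20076 := rfl
theorem F37314 : act 1 n20076 = n17340 := d7_1 D20076 (iv D17340) (iv F30989)
theorem F37315 : act 5 n20076 = n17346 := d14_2 D17336 D20076 (iv D17346) (iv D14271) (iv F24460)
def n20077 : Q := act 1 n17337
theorem D20077 : act 1 n17337 = n20077 := rfl
theorem F37316 : act 3 n20077 = n20068 := d6_2 (iv F30990) D20077 F37298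
theorem F37317 : act 5 n20077 = n20067 := d8_2 F30991 D20077 F37297
def n20078 : Q := act 4 n17337
theorem D20078 : act 4 n17337 = n20078 := rfl
theorem F37318 : act 0 n20078 = n17383 := d3_1 D20078 (iv F37283) F37280
theorem F37319 : act 2 n20078 = n17338 := d10_1 D20078 (iv D17338) D17337
theorem F37320 : act 3 n17420 = n20078 := d9_0 F37319 F30993 F24472 F18865 (iv F18975) D14352 (iv F26327) D18128 F32695 (iv D17381) F24522 F18879 (iv F18984) (iv F24667) (iv F31180)
theorem F37321 : act 5 n20078 = n17419 := d13_2 D17420 F37320 (iv D17419)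
def n20079 : Q := act 5 n17338
theorem D20079 : act 5 n17338 = n20079 := rfl
theorem F37322 : act 0 n20079 = n17381 := d4_1 D20079 F31081 (iv F30992)
theorem F37323 : act 2 n20079 = n17419 := d11_1 D20079 (iv F37321) F37319
theorem F37324 : act 3 n20079 = n17347 := d13_1 D20079 (iv D17347) (iv F30993)
def n20080 : Q := act 4 n17339
theorem D20080 : act 4 n17339 = n20080 := rfl
theorem F37325 : act 0 n20080 = n19538 := d3_1 D20080 F37288 F37285
theorem F37326 : act 2 n20080 = n19537 := d10_1 D20080 F36061 (iv F30994)
def n20081 : Q := act 3 n17340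
theorem D20081 : act 3 n17340 = n20081 := rfl
theorem F37327 : act 0 n20081 = n17379 := d2_1 D20081 F31080 (iv F30996)
theorem F37328 : act 5 n20081 = n17348 := d13_2 (iv F30998) D20081 (iv D17348)
def n20082 : Q := act 2 n17341
theorem D20082 : act 2 n17341 = n20082 := rfl
theorem F37329 : act 4 n20082 = n17342 := d10_2 (iv F31000) D20082 (iv D17342)
theorem F37330 : act 5 n20082 = n17349 := d11_2 (iv F31001) D20082 (iv D17349)
def n20083 : Q := act 5 n17345
theorem D20083 : act 5 n17345 = n20083 := rfl
theorem F37331 : act 1 n20083 = n17347 := d8_1 D20083 (iv D17347) (iv F31005)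
theorem F37332 : act 2 n20083 = n19544 := d11_1 D20083 F36077 (iv F31006)
theorem F37333 : act 4 n20083 = n17361 := d14_1 D20083 (iv D17361) F24490 F24468 D17345
def n20084 : Q := act 3 n17346
theorem D20084 : act 3 n17346 = n20084 := rfl
theorem F37334 : act 1 n20084 = n17348 := d6_1 D20084 (iv D17348) (iv F31007)
theorem F37335 : act 4 n20084 = n17360 := d12_2 D17346 D20084 (iv D17360) F24490 (iv F24470)
def n20085 : Q := act 2 n17348
theorem D20085 : act 2 n17348 = n20085 := rfl
theorem F37336 : act 0 n20085 = n17378 := d1_1 D20085 F31079 (iv F31011)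
theorem F37337 : act 4 n20085 = n17362 := d10_2 (iv F31012) D20085 (iv D17362)
def n20086 : Q := act 1 n17349
theorem D20086 : act 1 n17349 = n20086 := rfl
theorem F37338 : act 2 n20086 = n17432 := d5_2 D17349 D20086 F31213 F30838 (iv F24475)
theorem F37339 : act 4 n20086 = n17350 := d7_2 (iv F31013) D20086 (iv D17350)
def n20087 : Q := act 3 n17349
theorem D20087 : act 3 n17349 = n20087 := rfl
def n20088 : Q := act 0 n17350
theorem D20088 : act 0 n17350 = n20088 := rfl
theorem F37340 : act 2 n20088 = n17425 := d1_2 (iv F31014) D20088 F31193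
theorem F37341 : act 3 n20088 = n17435 := d2_2 F37295 D20088 (iv F37293)
theorem F37342 : act 5 n20088 = n17351 := d4_2 (iv F31015) D20088 (iv D17351)
def n20089 : Q := act 3 n17353
theorem D20089 : act 3 n17353 = n20089 := rfl
def n20090 : Q := act 5 n17353
theorem D20090 : act 5 n17353 = n20090 := rfl
theorem F37343 : act 2 n20090 = n17354 := d11_1 D20090 (iv D17354) (iv F31026)
theorem F37344 : act 4 n20090 = n17435 := d14_1 D20090 F31221 F24734 (iv F24481) D17353
def n20091 : Q := act 4 n17356
theorem D20091 : act 4 n17356 = n20091 := rfl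
theorem F37345 : act 0 n20091 = n17396 := d3_1 D20091 (iv D17396) (iv F31033)
theorem F37346 : act 2 n20091 = n17394 := d10_1 D20091 (iv D17394) (iv F31034)
def n20092 : Q := act 3 n17357
theorem D20092 : act 3 n17357 = n20092 := rfl
def n20093 : Q := act 3 n17359
theorem D20093 : act 3 n17359 = n20093 := rfl
theorem F37347 : act 0 n20093 = n17360 := d2_1 D20093 (iv D17360) D17359
theorem F37348 : act 1 n20093 = n17372 := d6_1 D20093 (iv D17372) (iv F31040)
def n20094 : Q := act 5 n17359
theorem D20094 : act 5 n17359 = n20094 := rfl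
theorem F37349 : act 0 n20094 = n17361 := d4_1 D20094 (iv D17361) D17359
theorem F37350 : act 1 n20094 = n17373 := d8_1 D20094 (iv D17373) (iv F31040)
theorem F37351 : act 2 n20094 = n18807 := d11_1 D20094 F35415 F35413
def n20095 : Q := act 2 n17360
theorem D20095 : act 2 n17360 = n20095 := rfl
def n20096 : Q := act 5 n17360
theorem D20096 : act 5 n17360 = n20096 := rfl
theorem F37352 : act 1 n20096 = n17363 := d8_1 D20096 (iv D17363) (iv F31042)
theorem F37353 : act 3 n20096 = n17361 := d13_1 D20096 (iv D17361) D17360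
def n20097 : Q := act 1 n17362
theorem D20097 : act 1 n17362 = n20097 := rfl
theorem F37354 : act 3 n20097 = n17369 := d6_2 (iv F31045) D20097 F31065
theorem F37355 : act 5 n20097 = n17368 := d8_2 F31046 D20097 F31064
def n20098 : Q := act 4 n17363
theorem D20098 : act 4 n17363 = n20098 := rfl
theorem F37356 : act 0 n20098 = n17380 := d3_1 D20098 (iv D17380) (iv F31047)
theorem F37357 : act 2 n20098 = n17370 := d10_1 D20098 (iv D17370) (iv F31048)
def n20099 : Q := act 2 n17366
theorem D20099 : act 2 n17366 = n20099 := rfl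
theorem F37358 : act 0 n20099 = n17494 := d1_1 D20099 F31317 (iv F31059)
theorem F37359 : act 1 n20099 = n17488 := d5_1 D20099 F31301 F24819 (iv F24858) (iv F31060)
theorem F37360 : act 3 n20099 = n17488 := d9_2 D17366 D20099 F31301 F24820 (iv F24443) (iv F30882) (iv F36235) F36236 F31310 (iv D14440) (iv D11417) (iv D8869) (iv F14488) D11256 D14290
theorem F37361 : act 4 n20099 = n17488 := d10_2 (iv F31061) D20099 F31301
theorem F37362 : act 5 n20099 = n17487 := d11_2 (iv F31062) D20099 F31296
def n20100 : Q := act 3 n17367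
theorem D20100 : act 3 n17367 = n20100 := rfl
theorem F37363 : act 0 n20100 = n17368 := d2_1 D20100 (iv D17368) D17367
def n20101 : Q := act 5 n17367
theorem D20101 : act 5 n17367 = n20101 := rfl
theorem F37364 : act 0 n20101 = n17369 := d4_1 D20101 (iv D17369) D17367
theorem F37365 : act 2 n20101 = n17774 := d11_1 D20101 (iv D17774) (iv F31063)
def n20102 : Q := act 2 n17368
theorem D20102 : act 2 n17368 = n20102 := rfl
def n20103 : Q := act 4 n17368
theorem D20103 : act 4 n17368 = n20103 := rfl
theorem F37366 : act 1 n20103 = n17370 := d7_1 D20103 (iv D17370) (iv F31064)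
theorem F37367 : act 3 n20103 = n19533 := d12_1 D20103 (iv D19533) F29773 F25094 D17368
def n20104 : Q := act 4 n17369
theorem D20104 : act 4 n17369 = n20104 := rfl
theorem F37368 : act 1 n20104 = n17371 := d7_1 D20104 (iv D17371) (iv F31065)
theorem F37369 : act 2 n20104 = n17777 := d10_1 D20104 (iv D17777) (iv F31066)
def n20105 : Q := act 5 n17370
theorem D20105 : act 5 n17370 = n20105 := rfl
theorem F37370 : act 3 n20105 = n19523 := d13_1 D20105 F36035 (iv F31067)
def n20106 : Q := act 3 n17371
theorem D20106 : act 3 n17371 = n20106 := rfl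
def n20107 : Q := act 5 n17372
theorem D20107 : act 5 n17372 = n20107 := rfl
theorem F37371 : act 0 n20107 = n17376 := d4_1 D20107 (iv D17376) (iv F31069)
theorem F37372 : act 2 n20107 = n18414 := d11_1 D20107 F33368 (iv F31070)
theorem F37373 : act 3 n20107 = n17373 := d13_1 D20107 (iv D17373) D17372
def n20108 : Q := act 1 n17374
theorem D20108 : act 1 n17374 = n20108 := rfl
theorem F37374 : act 2 n20108 = n17377 := d5_2 D17374 D20108 (iv D17377) (iv D14300) (iv F24517)
theorem F37375 : act 3 n20108 = n18417 := d6_2 (iv F31074) D20108 (iv D18417)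
def n20109 : Q := act 4 n17374
theorem D20109 : act 4 n17374 = n20109 := rfl
theorem F37376 : act 0 n20109 = n18423 := d3_1 D20109 (iv D18423) (iv F31073)
theorem F37377 : act 2 n20109 = n17375 := d10_1 D20109 (iv D17375) D17374
def n20110 : Q := act 5 n17374
theorem D20110 : act 5 n17374 = n20110 := rfl
theorem F37378 : act 0 n20110 = n18414 := d4_1 D20110 F33368 (iv F31073)
theorem F37379 : act 2 n20110 = n17376 := d11_1 D20110 (iv D17376) D17374
theorem F37380 : act 3 n20110 = n18403 := d13_1 D20110 F33349 (iv F31074)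
def n20111 : Q := act 5 n17375
theorem D20111 : act 5 n17375 = n20111 := rfl
theorem F37381 : act 1 n20111 = n17379 := d8_1 D20111 (iv D17379) (iv F31075)
theorem F37382 : act 3 n20111 = n17382 := d13_1 D20111 (iv D17382) (iv F31076)
def n20112 : Q := act 4 n17376
theorem D20112 : act 4 n17376 = n20112 := rfl
theorem F37383 : act 1 n20112 = n17380 := d7_1 D20112 (iv D17380) (iv F31077)
def n20113 : Q := act 0 n17377
theorem D20113 : act 0 n17377 = n20113 := rfl
def n20114 : Q := act 4 n17377
theorem D20114 : act 4 n17377 = n20114 := rfl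
theorem F37384 : act 1 n20114 = n17378 := d7_1 D20114 (iv D17378) D17377
def n20115 : Q := act 3 n17378
theorem D20115 : act 3 n17378 = n20115 := rfl
def n20116 : Q := act 5 n17378
theorem D20116 : act 5 n17378 = n20116 := rfl
theorem F37385 : act 2 n20116 = n17379 := d11_1 D20116 (iv D17379) (iv F31079)
def n20117 : Q := act 4 n17379
theorem D20117 : act 4 n17379 = n20117 := rfl
theorem F37386 : act 3 n20117 = n19538 := d12_1 D20117 F37288 F37287 F30962 (iv F31080)
theorem F37387 : act 5 n20117 = n17380 := d14_2 D17379 D20117 (iv D17380) (iv D14302) D14301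
def n20118 : Q := act 3 n17380
theorem D20118 : act 3 n17380 = n20118 := rfl
theorem F37388 : act 4 n20118 = n17381 := d12_2 D17380 D20118 (iv D17381) (iv D14303) (iv F24521)
theorem F37389 : act 5 n20118 = n19538 := d13_2 F37387 D20118 (iv F37386)
theorem F37390 : act 2 n20118 = n19517 := d15_2 (iv F31645) D20118 (iv D19517) F29739 D16717 D19523 (iv F37370) (iv D20105) (iv F31643)
def n20119 : Q := act 3 n17387
theorem D20119 : act 3 n17387 = n20119 := rfl
theorem F37391 : act 0 n20119 = n17388 := d2_1 D20119 (iv D17388) D17387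
theorem F37392 : act 1 n20119 = n17521 := d6_1 D20119 (iv D17521) (iv F31096)
def n20120 : Q := act 2 n17388
theorem D20120 : act 2 n17388 = n20120 := rfl
theorem F37393 : act 1 n20120 = n19733 := d5_1 D20120 (iv D19733) F30210 (iv F24531) (iv F31099)
theorem F37394 : act 3 n20120 = n19733 := d15_3 (iv F24529) D17388 D20120 (iv D19733) (iv D16936) (iv F24312) D17266 F30849 (iv D14313)
def n20121 : Q := act 4 n17388
theorem D20121 : act 4 n17388 = n20121 := rfl
theorem F37395 : act 1 n20121 = n17390 := d7_1 D20121 (iv D17390) (iv F31099)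
def n20122 : Q := act 3 n17389
theorem D20122 : act 3 n17389 = n20122 := rfl
theorem F37396 : act 0 n20122 = n17500 := d2_1 D20122 F31333 (iv F31100)
theorem F37397 : act 1 n20122 = n17391 := d6_1 D20122 (iv D17391) (iv F31101)
theorem F37398 : act 5 n20122 = n17522 := d13_2 F31103 D20122 (iv D17522)
def n20123 : Q := act 3 n17390
theorem D20123 : act 3 n17390 = n20123 := rfl
theorem F37399 : act 0 n20123 = n17526 := d2_1 D20123 F31397 (iv F31104)
theorem F37400 : act 4 n20123 = n17391 := d12_2 D17390 D20123 (iv D17391) (iv D14311) D14310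
def n20124 : Q := act 5 n17390
theorem D20124 : act 5 n17390 = n20124 := rfl
theorem F37401 : act 0 n20124 = n19734 := d4_1 D20124 F36535 (iv F31104)
theorem F37402 : act 2 n20124 = n19722 := d11_1 D20124 (iv D19722) (iv F31105)
def n20125 : Q := act 2 n17393
theorem D20125 : act 2 n17393 = n20125 := rfl
theorem F37403 : act 0 n20125 = n20050 := d1_1 D20125 (iv D20050) (iv F31110)
theorem F37404 : act 5 n20125 = n19733 := d11_2 (iv F31112) D20125 (iv D19733)
def n20126 : Q := act 4 n17393
theorem D20126 : act 4 n17393 = n20126 := rfl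
theorem F37405 : act 0 n20126 = n20051 := d3_1 D20126 (iv D20051) (iv F31110)
theorem F37406 : act 1 n20126 = n17394 := d7_1 D20126 (iv D17394) (iv F31111)
theorem F37407 : act 3 n20126 = n17485 := d12_1 D20126 (iv D17485) (iv D14430) (iv F24548) D17393
def n20127 : Q := act 5 n17394
theorem D20127 : act 5 n17394 = n20127 := rfl
theorem F37408 : act 0 n20127 = n17397 := d4_1 D20127 (iv D17397) (iv F31113)
theorem F37409 : act 3 n20127 = n17486 := d13_1 D20127 (iv D17486) (iv F31114)
theorem F37410 : act 4 n20127 = n19722 := d14_1 D20127 (iv D19722) F30194 (iv F24551) D17394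
def n20128 : Q := act 0 n17395
theorem D20128 : act 0 n17395 = n20128 := rfl
theorem F37411 : act 2 n20128 = n17537 := d1_2 (iv F31115) D20128 F31423
theorem F37412 : act 3 n20128 = n17501 := d2_2 (iv F36249) D20128 (iv F36245)
theorem F37413 : act 4 n20128 = n19953 := d3_2 F36436 D20128 F36993
theorem F37414 : act 5 n20128 = n17521 := d4_2 (iv F31116) D20128 F31393
def n20129 : Q := act 5 n17396
theorem D20129 : act 5 n17396 = n20129 := rfl
theorem F37415 : act 1 n20129 = n19945 := d8_1 D20129 F36967 (iv F36438)
theorem F37416 : act 2 n20129 = n17397 := d11_1 D20129 (iv D17397) (iv F31117)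
theorem F37417 : act 4 n20129 = n19734 := d14_1 D20129 F36535 F30214 (iv F24552) D17396
def n20130 : Q := act 3 n17398
theorem D20130 : act 3 n17398 = n20130 := rfl
theorem F37418 : act 0 n20130 = n17407 := d2_1 D20130 F31150 (iv F31121)
theorem F37419 : act 1 n20130 = n19727 := d6_1 D20130 (iv D19727) (iv F31122)
theorem F37420 : act 2 n20130 = n17406 := d9_1 D20130 (iv D17406) F24602 (iv F24586) F24585 (iv F25561) (iv F32049) F32050 F31497 F25008 (iv D14328) (iv D11283) (iv F18905) D14321 D17398
def n20131 : Q := act 5 n17398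
theorem D20131 : act 5 n17398 = n20131 := rfl
theorem F37421 : act 0 n20131 = n17816 := d4_1 D20131 (iv D17816) (iv F31121)
theorem F37422 : act 1 n20131 = n17402 := d8_1 D20131 F31140 (iv F31122)
theorem F37423 : act 2 n20131 = n17399 := d11_1 D20131 (iv D17399) D17398
def n20132 : Q := act 4 n17399
theorem D20132 : act 4 n17399 = n20132 := rfl
theorem F37424 : act 0 n20132 = n17817 := d3_1 D20132 (iv D17817) (iv F31124)
theorem F37425 : act 1 n20132 = n17400 := d7_1 D20132 (iv D17400) (iv F31125)
theorem F37426 : act 3 n20132 = n17852 := d12_1 D20132 (iv D17852) F25640 (iv F24566) (iv F31126)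
theorem F37427 : act 5 n20132 = n17814 := d14_2 D17399 D20132 (iv D17814) (iv D14781) (iv F24562)
def n20133 : Q := act 3 n17402
theorem D20133 : act 3 n17402 = n20133 := rfl
theorem F37428 : act 0 n20133 = n19714 := d2_1 D20133 (iv D19714) (iv F31139)
theorem F37429 : act 2 n20133 = n19501 := d9_1 D20133 (iv D19501) (iv D16697) (iv D13629) F17936 D10897 D13860 D16933 D19729 F36529 (iv D17650) (iv D14602) F19403 D14329 D17402
theorem F37430 : act 5 n20133 = n19727 := d13_2 (iv F31140) D20133 (iv D19727)
def n20134 : Q := act 4 n17402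
theorem D20134 : act 4 n17402 = n20134 := rfl
theorem F37431 : act 0 n20134 = n19715 := d3_1 D20134 (iv D19715) (iv F31139)
theorem F37432 : act 2 n20134 = n17403 := d10_1 D20134 (iv D17403) D17402
def n20135 : Q := act 5 n17403
theorem D20135 : act 5 n17403 = n20135 := rfl
theorem F37433 : act 0 n20135 = n19721 := d4_1 D20135 (iv D19721) (iv F31141)
theorem F37434 : act 1 n20135 = n17404 := d8_1 D20135 (iv D17404) (iv F31142)
theorem F37435 : act 4 n20135 = n19728 := d14_1 D20135 (iv D19728) (iv D16932) (iv F24593) D17403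
def n20136 : Q := act 4 n17406
theorem D20136 : act 4 n17406 = n20136 := rfl
theorem F37436 : act 0 n20136 = n17408 := d3_1 D20136 (iv D17408) (iv F31148)
theorem F37437 : act 3 n20136 = n17677 := d12_1 D20136 (iv D17677) (iv D14621) (iv F24603) D17406
def n20137 : Q := act 4 n17407
theorem D20137 : act 4 n17407 = n20137 := rfl
theorem F37438 : act 1 n20137 = n19725 := d7_1 D20137 (iv D19725) (iv F31149)
theorem F37439 : act 2 n20137 = n17408 := d10_1 D20137 (iv D17408) D17407
theorem F37440 : act 3 n20137 = n17820 := d12_1 D20137 (iv D17820) (iv D14785) (iv F25559) (iv F31150)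
def n20138 : Q := act 5 n17408
theorem D20138 : act 5 n17408 = n20138 := rfl
theorem F37441 : act 1 n20138 = n17409 := d8_1 D20138 (iv D17409) (iv F31151)
theorem F37442 : act 3 n20138 = n17683 := d13_1 D20138 (iv D17683) (iv F31152)
def n20139 : Q := act 2 n17410
theorem D20139 : act 2 n17410 = n20139 := rfl
theorem F37443 : act 0 n20139 = n19395 := d1_1 D20139 F35689 F31235
theorem F37444 : act 1 n20139 = n19417 := d5_1 D20139 F35727 F34424 F28176 (iv F31154)
theorem F37445 : act 5 n20139 = n17689 := d11_2 (iv F31155) D20139 (iv D17689)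
theorem F37446 : act 3 n20139 = n19387 := d15_1 D20139 (iv D19387) (iv D16576) F22942 (iv F19443) (iv F25169) D17675 F31719 F31235
theorem E35 : n19416 = n19387 := ((c6_1 F37446 (iv D19416) D19417 (iv F37444))).symm
theorem F37447 : act 1 n19387 = n16604 := (sb E35 (iv D19416))
theorem E36 : n19414 = n19386 := (c5_5 D19387 F37447 (iv D16604) (iv F29478) D19414 F35675)
theorem F37448 : act 2 n19386 = n16602 := (sb E36 (iv D19414))
def n20140 : Q := act 3 n17411
theorem D20140 : act 3 n17411 = n20140 := rfl
theorem F37449 : act 0 n20140 = n17412 := d2_1 D20140 (iv D17412) (iv F31156)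
theorem F37450 : act 1 n20140 = n18383 := d6_1 D20140 (iv D18383) (iv F31157)
theorem F37451 : act 5 n20140 = n17693 := d13_2 (iv F31159) D20140 (iv D17693)
def n20141 : Q := act 2 n17412
theorem D20141 : act 2 n17412 = n20141 := rfl
theorem F37452 : act 1 n20141 = n19254 := d5_1 D20141 (iv D19254) F29166 (iv F25230) (iv F31160)
theorem F37453 : act 5 n20141 = n17694 := d11_2 (iv F31161) D20141 (iv D17694)
def n20142 : Q := act 4 n17412
theorem D20142 : act 4 n17412 = n20142 := rfl
theorem F37454 : act 1 n20142 = n17699 := d7_1 D20142 (iv D17699) (iv F31160)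
theorem F37455 : act 3 n20142 = n18671 := d12_1 D20142 (iv D18671) F27771 (iv F24618) D17412
def n20143 : Q := act 4 n17414
theorem D20143 : act 4 n17414 = n20143 := rfl
theorem F37456 : act 0 n20143 = n17427 := d3_1 D20143 (iv D17427) (iv F31165)
theorem F37457 : act 1 n20143 = n20022 := d7_1 D20143 (iv D20022) (iv F31166)
theorem F37458 : act 2 n20143 = n17431 := d10_1 D20143 F31212 (iv F31167)
theorem F37459 : act 3 n20143 = n17434 := d12_1 D20143 (iv D17434) F24731 (iv F24650) (iv F31168)
theorem F37460 : act 5 n20143 = n17415 := d14_2 D17414 D20143 (iv D17415) (iv D14350) (iv F24646)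
def n20144 : Q := act 3 n17415
theorem D20144 : act 3 n17415 = n20144 := rfl
theorem F37461 : act 0 n20144 = n17421 := d2_1 D20144 F31182 (iv F31169)
theorem F37462 : act 4 n20144 = n17416 := d12_2 D17415 D20144 (iv D17416) (iv D14351) (iv F24653)
theorem F37463 : act 5 n20144 = n17434 := d13_2 F37460 D20144 (iv F37459)
theorem F37464 : act 2 n20144 = n19516 := d15_2 (iv F31170) D20144 (iv F37306) F37305 (iv F37143) F37142 (iv F37201) (iv D20029) F30865
def n20145 : Q := act 4 n17417
theorem D20145 : act 4 n17417 = n20145 := rfl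
theorem F37465 : act 0 n20145 = n17434 := d3_1 D20145 (iv D17434) (iv F31173)
theorem F37466 : act 1 n20145 = n17427 := d7_1 D20145 (iv D17427) (iv F31174)
theorem F37467 : act 2 n20145 = n19514 := d10_1 D20145 (iv D19514) (iv F31175)
theorem F37468 : act 3 n20145 = n17427 := d12_1 D20145 (iv D17427) F24679 (iv F24665) (iv F31176)
theorem F37469 : act 5 n20145 = n17421 := d14_2 D17417 D20145 (iv D17421) (iv D14356) (iv F24661)
def n20146 : Q := act 3 n17418
theorem D20146 : act 3 n17418 = n20146 := rfl
theorem F37470 : act 0 n20146 = n19539 := d2_1 D20146 (iv D19539) (iv F31177)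
theorem F37471 : act 1 n20146 = n17419 := d6_1 D20146 (iv D17419) D17418
def n20147 : Q := act 4 n17419
theorem D20147 : act 4 n17419 = n20147 := rfl
theorem F37472 : act 0 n20147 = n19517 := d3_1 D20147 F36013 F32693
theorem F37473 : act 3 n20147 = n19515 := d12_1 D20147 (iv D19515) F29736 F26335 D17419
theorem F37474 : act 5 n20147 = n19537 := d14_2 F37321 D20147 F36061 F30991 D20078
def n20148 : Q := act 4 n17420
theorem D20148 : act 4 n17420 = n20148 := rfl
theorem F37475 : act 0 n20148 = n19516 := d3_1 D20148 F36011 F32697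
theorem F37476 : act 2 n20148 = n17421 := d10_1 D20148 (iv D17421) (iv F31180)
theorem F37477 : act 3 n20148 = n19543 := d12_1 D20148 F36075 (iv F30990) D20078 (iv F37320)
theorem F37478 : act 5 n20148 = n19514 := d14_2 D17420 D20148 (iv D19514) F29732 F26335
def n20149 : Q := act 4 n17428
theorem D20149 : act 4 n17428 = n20149 := rfl
theorem F37479 : act 0 n20149 = n17430 := d3_1 D20149 (iv D17430) (iv F31201)
theorem F37480 : act 1 n20149 = n20144 := d7_1 D20149 F37462 (iv F31202)
theorem F37481 : act 2 n20149 = n17429 := d10_1 D20149 (iv D17429) (iv F31203)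
theorem F37482 : act 3 n20149 = n17430 := d12_1 D20149 (iv D17430) F24691 (iv F24698) (iv F31204)
theorem F37483 : act 5 n20149 = n17790 := d14_2 D17428 D20149 (iv D17790) (iv D14753) (iv F24683)
def n20150 : Q := act 4 n17437
theorem D20150 : act 4 n17437 = n20150 := rfl
theorem F37484 : act 0 n20150 = n17439 := d3_1 D20150 (iv D17439) (iv F31225)
theorem F37485 : act 1 n20150 = n20136 := d7_1 D20150 (iv D20136) (iv F31226)
def n20151 : Q := act 1 n17438
theorem D20151 : act 1 n17438 = n20151 := rfl
theorem F37486 : act 2 n20151 = n17440 := d5_2 D17438 D20151 (iv D17440) (iv D14388) (iv F24738)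
theorem F37487 : act 5 n20151 = n17567 := d8_2 F36486 D20151 (iv F36485)
def n20152 : Q := act 4 n17438
theorem D20152 : act 4 n17438 = n20152 := rfl
theorem F37488 : act 2 n20152 = n17439 := d10_1 D20152 (iv D17439) D17438
def n20153 : Q := act 5 n17439
theorem D20153 : act 5 n17439 = n20153 := rfl
theorem F37489 : act 1 n20153 = n17442 := d8_1 D20153 (iv D17442) (iv F31227)
def n20154 : Q := act 4 n17440
theorem D20154 : act 4 n17440 = n20154 := rfl
theorem F37490 : act 1 n20154 = n17441 := d7_1 D20154 (iv D17441) D17440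
def n20155 : Q := act 3 n17441
theorem D20155 : act 3 n17441 = n20155 := rfl
theorem F37491 : act 0 n20155 = n17581 := d2_1 D20155 (iv D17581) (iv F31230)
theorem F37492 : act 4 n20155 = n17571 := d12_2 D17441 D20155 (iv D17571) (iv D14533) (iv F24740)
theorem F37493 : act 5 n19419 = n20155 := d14_0 F37492 F31494 F29438 D16605 D19419
def n20156 : Q := act 5 n17441
theorem D20156 : act 5 n17441 = n20156 := rfl
theorem F37494 : act 0 n20156 = n17580 := d4_1 D20156 F31509 (iv F31230)
theorem F37495 : act 2 n20156 = n17442 := d11_1 D20156 (iv D17442) (iv F31231)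
theorem F37496 : act 3 n20156 = n19419 := d13_1 D20156 F37493 (iv D20155)
theorem F37497 : act 4 n20156 = n17570 := d14_1 D20156 (iv D17570) (iv D14532) F24741 D17441
def n20157 : Q := act 4 n17442
theorem D20157 : act 4 n17442 = n20157 := rfl
theorem F37498 : act 0 n20157 = n17579 := d3_1 D20157 F31507 (iv F31232)
theorem F37499 : act 2 n20157 = n17570 := d10_1 D20157 (iv F37497) F37495
theorem F37500 : act 5 n20157 = n17443 := d14_2 D17442 D20157 (iv D17443) (iv D14390) D14389
def n20158 : Q := act 3 n17443
theorem D20158 : act 3 n17443 = n20158 := rfl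
theorem F37501 : act 0 n20158 = n17578 := d2_1 D20158 (iv D17578) (iv F31233)
theorem F37502 : act 4 n20158 = n17444 := d12_2 D17443 D20158 (iv D17444) (iv D14391) (iv F24745)
def n20159 : Q := act 2 n17445
theorem D20159 : act 2 n17445 = n20159 := rfl
theorem F37503 : act 0 n20159 = n17447 := d1_1 D20159 (iv D17447) (iv F31236)
def n20160 : Q := act 5 n17445
theorem D20160 : act 5 n17445 = n20160 := rfl
theorem F37504 : act 0 n20160 = n17448 := d4_1 D20160 (iv D17448) (iv F31236)
theorem F37505 : act 1 n20160 = n17460 := d8_1 D20160 (iv D17460) (iv F31237)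
theorem F37506 : act 3 n20160 = n17446 := d13_1 D20160 (iv D17446) D17445
def n20161 : Q := act 1 n17447
theorem D20161 : act 1 n17447 = n20161 := rfl
theorem F37507 : act 2 n20161 = n17449 := d5_2 D17447 D20161 (iv D17449) (iv D14395) (iv F24750)
theorem F37508 : act 5 n17453 = n20161 := d11_0 F37507 F31243 D17453
def n20162 : Q := act 3 n17447
theorem D20162 : act 3 n17447 = n20162 := rfl
def n20163 : Q := act 5 n17447
theorem D20163 : act 5 n17447 = n20163 := rfl
theorem F37509 : act 1 n20163 = n17453 := d8_1 D20163 F37508 (iv D20161)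
theorem F37510 : act 2 n20163 = n17448 := d11_1 D20163 (iv D17448) D17447
def n20164 : Q := act 4 n17448
theorem D20164 : act 4 n17448 = n20164 := rfl
theorem F37511 : act 1 n20164 = n17450 := d7_1 D20164 (iv D17450) (iv F31240)
def n20165 : Q := act 0 n17449
theorem D20165 : act 0 n17449 = n20165 := rfl
theorem F37512 : act 1 n20165 = n17467 := d0_2 D17449 D20165 (iv D17467) (iv D14407) (iv F24752)
theorem F37513 : act 3 n20165 = n17452 := d2_2 (iv F31242) D20165 F31247
theorem F37514 : act 5 n20165 = n17451 := d4_2 (iv F31243) D20165 F31246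
def n20166 : Q := act 2 n17451
theorem D20166 : act 2 n17451 = n20166 := rfl
theorem F37515 : act 0 n20166 = n17453 := d1_1 D20166 (iv D17453) (iv F31246)
def n20167 : Q := act 4 n17451
theorem D20167 : act 4 n17451 = n20167 := rfl
theorem F37516 : act 0 n20167 = n17454 := d3_1 D20167 (iv D17454) (iv F31246)
def n20168 : Q := act 4 n17452
theorem D20168 : act 4 n17452 = n20168 := rfl
theorem F37517 : act 0 n20168 = n17455 := d3_1 D20168 (iv D17455) (iv F31247)
def n20169 : Q := act 3 n17453
theorem D20169 : act 3 n17453 = n20169 := rfl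
def n20170 : Q := act 4 n17453
theorem D20170 : act 4 n17453 = n20170 := rfl
theorem F37518 : act 2 n20170 = n17454 := d10_1 D20170 (iv D17454) D17453
def n20171 : Q := act 5 n17454
theorem D20171 : act 5 n17454 = n20171 := rfl
theorem F37519 : act 1 n20171 = n17456 := d8_1 D20171 (iv D17456) (iv F31248)
def n20172 : Q := act 3 n17455
theorem D20172 : act 3 n17455 = n20172 := rfl
theorem F37520 : act 1 n20172 = n17457 := d6_1 D20172 (iv D17457) (iv F31249)
def n20173 : Q := act 1 n17458
theorem D20173 : act 1 n17458 = n20173 := rfl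
def n20174 : Q := act 4 n17458
theorem D20174 : act 4 n17458 = n20174 := rfl
theorem F37521 : act 0 n20174 = n17463 := d3_1 D20174 (iv D17463) (iv F31250)
theorem F37522 : act 2 n20174 = n17459 := d10_1 D20174 (iv D17459) D17458
def n20175 : Q := act 5 n17458
theorem D20175 : act 5 n17458 = n20175 := rfl
theorem F37523 : act 0 n20175 = n17464 := d4_1 D20175 (iv D17464) (iv F31250)
theorem F37524 : act 2 n20175 = n17460 := d11_1 D20175 (iv D17460) D17458
theorem F37525 : act 3 n20175 = n20141 := d13_1 D20175 F37453 F31766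
def n20176 : Q := act 5 n17459
theorem D20176 : act 5 n17459 = n20176 := rfl
theorem F37526 : act 0 n20176 = n17465 := d4_1 D20176 (iv D17465) (iv F31251)
theorem F37527 : act 3 n20176 = n17475 := d13_1 D20176 (iv D17475) (iv F31252)
def n20177 : Q := act 4 n17460
theorem D20177 : act 4 n17460 = n20177 := rfl
theorem F37528 : act 0 n20177 = n17466 := d3_1 D20177 (iv D17466) (iv F31253)
def n20178 : Q := act 0 n17461
theorem D20178 : act 0 n17461 = n20178 := rfl
theorem F37529 : act 2 n20178 = n17467 := d1_2 (iv F31255) D20178 (iv D17467)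
def n20179 : Q := act 3 n17461
theorem D20179 : act 3 n17461 = n20179 := rfl
theorem F37530 : act 1 n20179 = n17462 := d6_1 D20179 (iv D17462) D17461
def n20180 : Q := act 4 n17461
theorem D20180 : act 4 n17461 = n20180 := rfl
theorem F37531 : act 1 n20180 = n17463 := d7_1 D20180 (iv D17463) D17461
theorem F37532 : act 2 n20180 = n17468 := d10_1 D20180 (iv D17468) (iv F31255)
def n20181 : Q := act 4 n17462
theorem D20181 : act 4 n17462 = n20181 := rfl
theorem F37533 : act 2 n20181 = n19739 := d10_1 D20181 F36549 F31764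
def n20182 : Q := act 5 n17462
theorem D20182 : act 5 n17462 = n20182 := rfl
theorem F37534 : act 0 n20182 = n20141 := d4_1 D20182 F37453 F31765
theorem F37535 : act 2 n20182 = n20140 := d11_1 D20182 F37451 F31764
theorem F37536 : act 3 n20182 = n17464 := d13_1 D20182 (iv D17464) D17462
def n20183 : Q := act 3 n17463
theorem D20183 : act 3 n17463 = n20183 := rfl
def n20184 : Q := act 5 n17463
theorem D20184 : act 5 n17463 = n20184 := rfl
theorem F37537 : act 2 n20184 = n17465 := d11_1 D20184 (iv D17465) (iv F31256)
def n20185 : Q := act 4 n17464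
theorem D20185 : act 4 n17464 = n20185 := rfl
theorem F37538 : act 2 n20185 = n17466 := d10_1 D20185 (iv D17466) (iv F31257)
def n20186 : Q := act 4 n17465
theorem D20186 : act 4 n17465 = n20186 := rfl
theorem F37539 : act 1 n20186 = n17471 := d7_1 D20186 (iv D17471) (iv F31258)
theorem F37540 : act 3 n20186 = n18316 := d12_1 D20186 (iv D18316) (iv D15321) (iv F24783) (iv F31259)
theorem F37541 : act 5 n20186 = n17466 := d14_2 D17465 D20186 (iv D17466) (iv D14406) D14405
def n20187 : Q := act 4 n17467
theorem D20187 : act 4 n17467 = n20187 := rfl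
theorem F37542 : act 0 n20187 = n17468 := d3_1 D20187 (iv D17468) D17467
def n20188 : Q := act 3 n17468
theorem D20188 : act 3 n17468 = n20188 := rfl
theorem F37543 : act 1 n20188 = n17469 := d6_1 D20188 (iv D17469) (iv F31261)
def n20189 : Q := act 5 n17468
theorem D20189 : act 5 n17468 = n20189 := rfl
theorem F37544 : act 1 n20189 = n17470 := d8_1 D20189 (iv D17470) (iv F31261)
def n20190 : Q := act 1 n17473
theorem D20190 : act 1 n17473 = n20190 := rfl
theorem F37545 : act 5 n20190 = n17479 := d8_2 (iv F31265) D20190 (iv D17479)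
def n20191 : Q := act 2 n17477
theorem D20191 : act 2 n17477 = n20191 := rfl
theorem F37546 : act 5 n20191 = n18305 := d11_2 (iv F31276) D20191 F33138
def n20192 : Q := act 1 n17478
theorem D20192 : act 1 n17478 = n20192 := rfl
theorem F37547 : act 2 n20192 = n17479 := d5_2 D17478 D20192 (iv D17479) (iv D14419) (iv F24784)
theorem F37548 : act 3 n20192 = n19738 := d6_2 (iv F31279) D20192 (iv D19738)
theorem F37549 : act 4 n20192 = n18575 := d7_2 (iv F31278) D20192 F33755
def n20193 : Q := act 0 n17479
theorem D20193 : act 0 n17479 = n20193 := rfl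
theorem F37550 : act 1 n20193 = n18360 := d0_2 D17479 D20193 F33266 (iv F30152) F30151
theorem F37551 : act 4 n20193 = n18358 := d3_2 (iv F33898) D20193 (iv F33894)
def n20194 : Q := act 3 n17479
theorem D20194 : act 3 n17479 = n20194 := rfl
theorem F37552 : act 1 n20194 = n17480 := d6_1 D20194 (iv D17480) D17479
def n20195 : Q := act 3 n17484
theorem D20195 : act 3 n17484 = n20195 := rfl
theorem F37553 : act 0 n20195 = n19509 := d2_1 D20195 F35990 F31478
theorem F37554 : act 1 n20195 = n19431 := d6_1 D20195 (iv D19431) (iv F31290)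
theorem F37555 : act 2 n20195 = n19507 := d9_1 D20195 (iv D19507) (iv D16701) (iv D13632) (iv F23145) D16656 D19459 F35850 (iv D16835) (iv D13771) F18164 (iv F17900) (iv F19128) D14430 D17484
theorem F37556 : act 5 n20195 = n19461 := d13_2 (iv F31291) D20195 (iv D19461)
def n20196 : Q := act 4 n17484
theorem D20196 : act 4 n17484 = n20196 := rfl
theorem F37557 : act 1 n20196 = n19432 := d7_1 D20196 (iv D19432) (iv F31290)
theorem F37558 : act 2 n20196 = n17485 := d10_1 D20196 (iv D17485) D17484
theorem F37559 : act 3 n19813 = n20196 := d6_0 F37557 (iv F35764) D19813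
def n20197 : Q := act 5 n17485
theorem D20197 : act 5 n17485 = n20197 := rfl
theorem F37560 : act 1 n20197 = n17486 := d8_1 D20197 (iv D17486) (iv F31292)
theorem F37561 : act 4 n20197 = n19463 := d14_1 D20197 (iv D19463) (iv D16658) (iv F24808) D17485
def n20198 : Q := act 0 n17489
theorem D20198 : act 0 n17489 = n20198 := rfl
theorem F37562 : act 1 n20198 = n17491 := d0_2 D17489 D20198 F31305 (iv D16787) (iv F24821)
theorem F37563 : act 2 n20198 = n17495 := d1_2 (iv F31302) D20198 (iv D17495)
theorem F37564 : act 4 n20198 = n17493 := d3_2 (iv F31303) D20198 (iv D17493)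
theorem F37565 : act 5 n17489 = n20198 := d14_0 F37564 F31314 F24968 F24827 (iv F31303)
def n20199 : Q := act 3 n17489
theorem D20199 : act 3 n17489 = n20199 := rfl
theorem F37566 : act 1 n20199 = n17490 := d6_1 D20199 (iv D17490) D17489
def n20200 : Q := act 2 n17490
theorem D20200 : act 2 n17490 = n20200 := rfl
theorem F37567 : act 0 n20200 = n19575 := d1_1 D20200 F36172 (iv F31304)
theorem F37568 : act 3 n20200 = n17491 := d9_2 D17490 D20200 F31306 F24825 F19149 (iv F23501) (iv F29920) D19575 F36172 (iv D16788) (iv D13732) (iv D10793) (iv F14723) D11415 D14437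
theorem F37569 : act 4 n17490 = n20200 := d12_0 F37568 (iv F31307) (iv D14440) (iv F24822) D17490
theorem F37570 : act 5 n17490 = n20200 := d13_0 F37568 (iv D17491) D17490
def n20201 : Q := act 3 n17495
theorem D20201 : act 3 n17495 = n20201 := rfl
theorem F37571 : act 0 n20201 = n17496 := d2_1 D20201 (iv D17496) D17495
theorem F37572 : act 1 n20201 = n17498 := d6_1 D20201 F31331 (iv F31320)
theorem F37573 : act 4 n20201 = n17548 := d12_2 (iv F31321) D20201 (iv D17548) (iv D14511) (iv F24845)
theorem F37574 : act 5 n20201 = n17496 := d13_2 F31322 D20201 (iv D17496)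
def n20202 : Q := act 2 n17496
theorem D20202 : act 2 n17496 = n20202 := rfl
theorem F37575 : act 4 n20202 = n17549 := d10_2 (iv F31324) D20202 (iv D17549)
def n20203 : Q := act 1 n17497
theorem D20203 : act 1 n17497 = n20203 := rfl
theorem F37576 : act 3 n20203 = n17507 := d6_2 (iv F31326) D20203 F31352
theorem F37577 : act 4 n20203 = n17550 := d7_2 (iv F31327) D20203 (iv D17550)
theorem F37578 : act 5 n20203 = n17506 := d8_2 F31328 D20203 F31350
theorem F37579 : act 0 n18817 = n20203 := d4_3 F37578 F31349 D18817
def n20204 : Q := act 1 n17499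
theorem D20204 : act 1 n17499 = n20204 := rfl
theorem F37580 : act 2 n20204 = n17500 := d5_2 D17499 D20204 (iv D17500) (iv D14454) (iv F24852)
theorem F37581 : act 5 n20204 = n17523 := d8_2 F37085 D20204 (iv F37084)
def n20205 : Q := act 3 n17499
theorem D20205 : act 3 n17499 = n20205 := rfl
theorem F37582 : act 2 n20205 = n20004 := d15_2 D17499 D20205 (iv D20004) (iv D17245) (iv D14171) (iv F18784) D14227 (iv F26368) F26366
def n20206 : Q := act 5 n17502
theorem D20206 : act 5 n17502 = n20206 := rfl
theorem F37583 : act 0 n20206 = n17507 := d4_1 D20206 (iv D17507) (iv F31337)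
theorem F37584 : act 1 n20206 = n17504 := d8_1 D20206 (iv D17504) D17502
theorem F37585 : act 2 n20206 = n17507 := d11_1 D20206 (iv D17507) (iv F31338)
theorem F37586 : act 3 n20206 = n18817 := d13_1 D20206 (iv D18817) F31340
theorem F37587 : act 4 n20206 = n18387 := d14_1 D20206 (iv D18387) (iv D15421) (iv F25953) (iv F31339)
def n20207 : Q := act 2 n17503
theorem D20207 : act 2 n17503 = n20207 := rfl
theorem F37588 : act 0 n20207 = n17510 := d1_1 D20207 F31362 (iv F31341)
theorem F37589 : act 3 n20207 = n17504 := d9_2 D17503 D20207 F31345 F24868 F19195 (iv F23486) (iv F29907) (iv F31363) F31362 (iv D16777) (iv D13721) (iv D10781) (iv F14761) D11436 D14458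
theorem F37590 : act 4 n20207 = n18813 := d10_2 (iv F31343) D20207 (iv D18813)
theorem F37591 : act 1 n18817 = n20207 := d6_3 F37589 (iv F37584) F37586
theorem F37592 : act 5 n17503 = n20207 := d13_0 F37589 (iv D17504) D17503
def n20208 : Q := act 4 n17504
theorem D20208 : act 4 n17504 = n20208 := rfl
theorem F37593 : act 0 n20208 = n18378 := d3_1 D20208 F33306 (iv F31344)
theorem F37594 : act 1 n20208 = n18387 := d7_1 D20208 (iv F37587) F37584
theorem F37595 : act 2 n20208 = n17505 := d10_1 D20208 (iv D17505) (iv F31345)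
theorem F37596 : act 5 n20208 = n18376 := d14_2 D17504 D20208 (iv D18376) F26924 (iv F24865)
def n20209 : Q := act 2 n17506
theorem D20209 : act 2 n17506 = n20209 := rfl
theorem F37597 : act 0 n20209 = n18816 := d1_1 D20209 F34299 (iv F31349)
theorem F37598 : act 4 n20209 = n18020 := d10_2 (iv F31351) D20209 (iv D18020)
def n20210 : Q := act 3 n17508
theorem D20210 : act 3 n17508 = n20210 := rfl
theorem F37599 : act 0 n20210 = n18380 := d2_1 D20210 F33307 (iv F31354)
theorem F37600 : act 1 n20210 = n18391 := d6_1 D20210 F33328 (iv F31355)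
theorem F37601 : act 4 n20210 = n17551 := d12_2 D17508 D20210 (iv D17551) (iv F31327) F31326
theorem F37602 : act 5 n20210 = n18061 := d13_2 (iv F31357) D20210 (iv D18061)
def n20211 : Q := act 5 n17509
theorem D20211 : act 5 n17509 = n20211 := rfl
theorem F37603 : act 0 n20211 = n17546 := d4_1 D20211 F31454 (iv F31358)
theorem F37604 : act 1 n20211 = n17512 := d8_1 D20211 (iv D17512) (iv F31359)
theorem F37605 : act 2 n20211 = n18373 := d11_1 D20211 (iv D18373) (iv F31360)
theorem F37606 : act 3 n20211 = n17520 := d13_1 D20211 (iv D17520) (iv F31361)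
theorem F37607 : act 4 n20211 = n17512 := d14_1 D20211 (iv D17512) (iv D14466) (iv F24877) D17509
def n20212 : Q := act 3 n17514
theorem D20212 : act 3 n17514 = n20212 := rfl
theorem F37608 : act 0 n20212 = n17515 := d2_1 D20212 (iv D17515) D17514
def n20213 : Q := act 2 n17515
theorem D20213 : act 2 n17515 = n20213 := rfl
def n20214 : Q := act 4 n17515
theorem D20214 : act 4 n17515 = n20214 := rfl
theorem F37609 : act 1 n20214 = n17516 := d7_1 D20214 (iv D17516) (iv F31373)
theorem F37610 : act 3 n20214 = n17524 := d12_1 D20214 (iv D17524) (iv D14477) (iv F24885) D17515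
def n20215 : Q := act 5 n17516
theorem D20215 : act 5 n17516 = n20215 := rfl
theorem F37611 : act 3 n20215 = n17525 := d13_1 D20215 (iv D17525) (iv F31374)
theorem F37612 : act 4 n20215 = n19955 := d14_1 D20215 F36998 (iv D19614) (iv F29985) D17516
def n20216 : Q := act 2 n17522
theorem D20216 : act 2 n17522 = n20216 := rfl
theorem F37613 : act 0 n20216 = n17523 := d1_1 D20216 (iv D17523) (iv F31394)
theorem F37614 : act 3 n20216 = n19489 := d15_1 D20216 (iv D19489) (iv D16688) F23206 (iv F23195) (iv F24896) (iv F31333) F31334 (iv F31394)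
def n20217 : Q := act 4 n17522
theorem D20217 : act 4 n17522 = n20217 := rfl
theorem F37615 : act 0 n20217 = n17524 := d3_1 D20217 (iv D17524) (iv F31394)
def n20218 : Q := act 3 n17523
theorem D20218 : act 3 n17523 = n20218 := rfl
theorem F37616 : act 0 n20218 = n19489 := d2_1 D20218 (iv F37614) F37613
theorem F37617 : act 2 n20218 = n19488 := d15_2 D17523 D20218 (iv D19488) F29681 (iv F24540) (iv F31102) D20122 F37398 F31394
def n20219 : Q := act 4 n17523
theorem D20219 : act 4 n17523 = n20219 := rfl
theorem F37618 : act 2 n20219 = n17524 := d10_1 D20219 (iv D17524) D17523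
def n20220 : Q := act 5 n17524
theorem D20220 : act 5 n17524 = n20220 := rfl
theorem F37619 : act 1 n20220 = n17525 := d8_1 D20220 (iv D17525) (iv F31395)
def n20221 : Q := act 3 n17529
theorem D20221 : act 3 n17529 = n20221 := rfl
theorem F37620 : act 0 n20221 = n17532 := d2_1 D20221 (iv D17532) (iv F31404)
theorem F37621 : act 4 n20221 = n17564 := d12_2 D17529 D20221 (iv D17564) (iv D14527) (iv F24903)
def n20222 : Q := act 5 n17529
theorem D20222 : act 5 n17529 = n20222 := rfl
theorem F37622 : act 0 n20222 = n17533 := d4_1 D20222 (iv D17533) (iv F31404)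
theorem F37623 : act 2 n20222 = n17530 := d11_1 D20222 (iv D17530) (iv F31405)
theorem F37624 : act 4 n20222 = n17554 := d14_1 D20222 (iv D17554) (iv D14515) (iv F24904) D17529
def n20223 : Q := act 3 n17531
theorem D20223 : act 3 n17531 = n20223 := rfl
theorem F37625 : act 0 n20223 = n17564 := d2_1 D20223 (iv D17564) (iv F31408)
theorem F37626 : act 4 n20223 = n17532 := d12_2 D17531 D20223 (iv D17532) (iv D14485) D14484
def n20224 : Q := act 2 n17532
theorem D20224 : act 2 n17532 = n20224 := rfl
theorem F37627 : act 3 n20224 = n18665 := d15_3 (iv F24909) D17532 D20224 F34001 F32555 (iv F32755) F32756 (iv D17530) F24905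
theorem F37628 : act 1 n18666 = n20224 := d6_3 F37627 F34000 D18666
def n20225 : Q := act 5 n17532
theorem D20225 : act 5 n17532 = n20225 := rfl
theorem F37629 : act 3 n20225 = n17533 := d13_1 D20225 (iv D17533) D17532
def n20226 : Q := act 4 n17534
theorem D20226 : act 4 n17534 = n20226 := rfl
theorem F37630 : act 0 n20226 = n19913 := d3_1 D20226 F36908 F35130
theorem F37631 : act 1 n20226 = n17543 := d7_1 D20226 (iv D17543) (iv F31412)
theorem F37632 : act 2 n20226 = n17535 := d10_1 D20226 (iv D17535) D17534
theorem F37633 : act 5 n20226 = n19911 := d14_2 (iv F31414) D20226 (iv D19911) (iv F30598) (iv F24940)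
def n20227 : Q := act 4 n17542
theorem D20227 : act 4 n17542 = n20227 := rfl
theorem F37634 : act 0 n20227 = n19943 := d3_1 D20227 (iv D19943) (iv F31440)
theorem F37635 : act 1 n20227 = n18040 := d7_1 D20227 F32507 (iv F31441)
theorem F37636 : act 2 n20227 = n18046 := d10_1 D20227 F32522 (iv F31442)
theorem F37637 : act 5 n20227 = n18038 := d14_2 D17542 D20227 F32503 F26025 F24945
def n20228 : Q := act 3 n17543
theorem D20228 : act 3 n17543 = n20228 := rfl
theorem F37638 : act 0 n20228 = n19924 := d2_1 D20228 F36932 (iv F31444)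
theorem F37639 : act 5 n20228 = n19920 := d13_2 (iv F31446) D20228 (iv D19920)
def n20229 : Q := act 3 n17544
theorem D20229 : act 3 n17544 = n20229 := rfl
theorem F37640 : act 0 n20229 = n17545 := d2_1 D20229 (iv D17545) (iv F31447)
theorem F37641 : act 1 n20229 = n17546 := d6_1 D20229 (iv D17546) (iv F31448)
theorem F37642 : act 2 n20229 = n18810 := d9_1 D20229 (iv D18810) F28010 (iv F22916) (iv F28855) F28856 F24208 D14512 D17549 (iv F35643) (iv D19373) (iv D16559) (iv F28860) D19151 (iv F35147)
theorem F37643 : act 4 n20229 = n17545 := d12_2 D17544 D20229 (iv D17545) (iv D14506) (iv F24960)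
theorem F37644 : act 5 n20229 = n17548 := d13_2 (iv F31449) D20229 (iv D17548)
def n20230 : Q := act 2 n17545
theorem D20230 : act 2 n17545 = n20230 := rfl
theorem F37645 : act 0 n20230 = n18810 := d1_1 D20230 (iv F37642) F37640
theorem F37646 : act 3 n20230 = n18809 := d9_2 D17545 D20230 F34294 (iv F29401) (iv F35139) F35140 F30729 D17548 (iv F35654) (iv D19376) (iv D16561) (iv D13480) (iv F22503) D16320 (iv F28865)
theorem F37647 : act 4 n20230 = n18810 := d10_2 F37643 D20230 (iv F37642)
theorem F37648 : act 5 n20230 = n17549 := d11_2 (iv F31451) D20230 (iv D17549)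
theorem F37649 : act 1 n18811 = n20230 := d7_3 F37647 F34295 D18811
def n20231 : Q := act 1 n17547
theorem D20231 : act 1 n17547 = n20231 := rfl
theorem F37650 : act 2 n20231 = n18811 := d5_2 D17547 D20231 F37649 (iv D20230) F31450
theorem F37651 : act 3 n20231 = n18395 := d6_2 F37037 D20231 F37040
theorem F37652 : act 4 n20231 = n18021 := d7_2 (iv F31455) D20231 F32452
theorem F37653 : act 5 n20231 = n17550 := d8_2 (iv F31456) D20231 (iv D17550)
theorem F37654 : act 0 n18818 = n20231 := d3_3 F37652 F32451 D18818
def n20232 : Q := act 1 n17549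
theorem D20232 : act 1 n17549 = n20232 := rfl
theorem F37655 : act 0 n20232 = n18815 := d0_1 D20232 (iv D18815) (iv F32448) (iv F35652) F35651
theorem F37656 : act 2 n20232 = n17550 := d5_2 D17549 D20232 (iv D17550) (iv D14513) (iv F24971)
theorem F37657 : act 5 n20232 = n18811 := d8_2 F37648 D20232 F37649
def n20233 : Q := act 0 n17550
theorem D20233 : act 0 n17550 = n20233 := rfl
theorem F37658 : act 1 n20233 = n18813 := d0_2 D17550 D20233 (iv F36396) F36397 F31365
theorem F37659 : act 2 n20233 = n18815 := d1_2 F37656 D20233 (iv F37655)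
theorem F37660 : act 4 n20233 = n18817 := d3_2 F37577 D20233 F37579
theorem F37661 : act 5 n20233 = n18818 := d4_2 F37653 D20233 F37654
def n20234 : Q := act 3 n17550
theorem D20234 : act 3 n17550 = n20234 := rfl
theorem F37662 : act 1 n20234 = n17551 := d6_1 D20234 (iv D17551) D17550
theorem F37663 : act 4 n20234 = n18391 := d12_2 F37577 D20234 F33328 (iv F31353) (iv F37576)
theorem F37664 : act 5 n20234 = n18395 := d13_2 F37653 D20234 (iv F37651)
def n20235 : Q := act 3 n17552
theorem D20235 : act 3 n17552 = n20235 := rfl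
theorem F37665 : act 0 n20235 = n18427 := d2_1 D20235 (iv D18427) (iv F31459)
theorem F37666 : act 1 n20235 = n17553 := d6_1 D20235 (iv D17553) (iv F31460)
def n20236 : Q := act 5 n17552
theorem D20236 : act 5 n17552 = n20236 := rfl
theorem F37667 : act 0 n20236 = n18428 := d4_1 D20236 (iv D18428) (iv F31459)
theorem F37668 : act 1 n20236 = n17554 := d8_1 D20236 (iv D17554) (iv F31460)
theorem F37669 : act 2 n20236 = n18432 := d11_1 D20236 (iv D18432) (iv F31461)
def n20237 : Q := act 5 n17553
theorem D20237 : act 5 n17553 = n20237 := rfl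
theorem F37670 : act 0 n20237 = n17557 := d4_1 D20237 (iv D17557) (iv F31462)
theorem F37671 : act 3 n20237 = n17554 := d13_1 D20237 (iv D17554) D17553
def n20238 : Q := act 3 n17558
theorem D20238 : act 3 n17558 = n20238 := rfl
theorem F37672 : act 0 n20238 = n18384 := d2_1 D20238 (iv D18384) (iv F31470)
theorem F37673 : act 1 n20238 = n17559 := d6_1 D20238 (iv D17559) D17558
theorem F37674 : act 4 n20238 = n18377 := d12_2 (iv F31472) D20238 (iv D18377) (iv D15404) (iv F26051)
def n20239 : Q := act 5 n17558
theorem D20239 : act 5 n17558 = n20239 := rfl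
theorem F37675 : act 0 n20239 = n18385 := d4_1 D20239 (iv D18385) (iv F31470)
theorem F37676 : act 1 n20239 = n17560 := d8_1 D20239 (iv D17560) D17558
theorem F37677 : act 2 n20239 = n18426 := d11_1 D20239 (iv D18426) (iv F31471)
theorem F37678 : act 4 n20239 = n18372 := d14_1 D20239 (iv D18372) (iv D15395) (iv F26052) (iv F31472)
def n20240 : Q := act 4 n17561
theorem D20240 : act 4 n17561 = n20240 := rfl
theorem F37679 : act 0 n20240 = n20196 := d3_1 D20240 (iv D20196) (iv F31478)
theorem F37680 : act 2 n20240 = n17562 := d10_1 D20240 (iv D17562) D17561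
def n20241 : Q := act 5 n17562
theorem D20241 : act 5 n17562 = n20241 := rfl
theorem F37681 : act 0 n20241 = n20197 := d4_1 D20241 (iv D20197) (iv F31479)
theorem F37682 : act 1 n20241 = n17563 := d8_1 D20241 (iv D17563) (iv F31480)
def n20242 : Q := act 5 n17564
theorem D20242 : act 5 n17564 = n20242 := rfl
theorem F37683 : act 3 n20242 = n17565 := d13_1 D20242 (iv D17565) D17564
def n20243 : Q := act 2 n17566
theorem D20243 : act 2 n17566 = n20243 := rfl
theorem F37684 : act 0 n20243 = n17567 := d1_1 D20243 (iv D17567) (iv F31483)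
theorem F37685 : act 3 n20243 = n17635 := d15_1 D20243 (iv D17635) (iv D14588) F19389 (iv F19330) (iv F24999) (iv F31228) F31229 (iv F31483)
def n20244 : Q := act 4 n17566
theorem D20244 : act 4 n17566 = n20244 := rfl
theorem F37686 : act 0 n20244 = n17568 := d3_1 D20244 (iv D17568) (iv F31483)
theorem F37687 : act 1 n20244 = n17572 := d7_1 D20244 (iv D17572) (iv F31484)
theorem F37688 : act 3 n20244 = n19382 := d12_1 D20244 (iv D19382) (iv D16571) (iv F24996) D17566
def n20245 : Q := act 3 n17567
theorem D20245 : act 3 n17567 = n20245 := rfl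
theorem F37689 : act 0 n20245 = n17635 := d2_1 D20245 (iv F37685) F37684
theorem F37690 : act 2 n20245 = n17633 := d15_2 D17567 D20245 (iv D17633) F25101 (iv F25037) (iv F30199) D19723 F36521 F31483
def n20246 : Q := act 4 n17567
theorem D20246 : act 4 n17567 = n20246 := rfl
theorem F37691 : act 2 n20246 = n17568 := d10_1 D20246 (iv D17568) D17567
def n20247 : Q := act 5 n17568
theorem D20247 : act 5 n17568 = n20247 := rfl
theorem F37692 : act 1 n20247 = n17570 := d8_1 D20247 (iv D17570) (iv F31485)
theorem F37693 : act 3 n20247 = n19385 := d13_1 D20247 (iv D19385) (iv F31486)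
def n20248 : Q := act 3 n17569
theorem D20248 : act 3 n17569 = n20248 := rfl
theorem F37694 : act 0 n20248 = n19938 := d2_1 D20248 (iv D19938) (iv F31487)
theorem F37695 : act 1 n20248 = n17571 := d6_1 D20248 (iv D17571) (iv F31488)
theorem F37696 : act 5 n20248 = n19386 := d13_2 (iv F31490) D20248 (iv D19386)
theorem F37697 : act 2 n19415 = n20248 := d11_3 F37696 F37448 D19415
def n20249 : Q := act 2 n17571
theorem D20249 : act 2 n17571 = n20249 := rfl
theorem F37698 : act 0 n20249 = n17582 := d1_1 D20249 (iv D17582) (iv F31493)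
theorem F37699 : act 1 n20249 = n19418 := d5_1 D20249 F35729 (iv F35725) F37697 F37695
theorem F37700 : act 3 n20249 = n17689 := d9_2 D17571 D20249 (iv D17689) (iv D14631) F19455 F14921 (iv F17735) D13504 D16586 D19395 F35689 (iv D17444) F24747 (iv F19304) (iv F25003)
theorem F37701 : act 5 n20249 = n19387 := d11_2 (iv F31494) D20249 (iv D19387)
def n20250 : Q := act 5 n17572
theorem D20250 : act 5 n17572 = n20250 := rfl
theorem F37702 : act 0 n20250 = n17575 := d4_1 D20250 (iv D17575) (iv F31495)
theorem F37703 : act 3 n20250 = n19388 := d13_1 D20250 (iv D19388) (iv F31496)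
def n20251 : Q := act 0 n17573
theorem D20251 : act 0 n17573 = n20251 := rfl
theorem F37704 : act 1 n20251 = n20133 := d0_2 D17573 D20251 F37428 F36500 F30183
theorem F37705 : act 2 n20251 = n17576 := d1_2 (iv F31497) D20251 (iv D17576)
theorem F37706 : act 3 n20251 = n20131 := d2_2 F32050 D20251 F37421
theorem F37707 : act 5 n20251 = n20130 := d4_2 (iv F31498) D20251 F37418
def n20252 : Q := act 4 n17573
theorem D20252 : act 4 n17573 = n20252 := rfl
theorem F37708 : act 1 n20252 = n17574 := d7_1 D20252 (iv D17574) D17573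
theorem F37709 : act 2 n20252 = n17577 := d10_1 D20252 (iv D17577) (iv F31497)
def n20253 : Q := act 3 n17574
theorem D20253 : act 3 n17574 = n20253 := rfl
def n20254 : Q := act 5 n17574
theorem D20254 : act 5 n17574 = n20254 := rfl
theorem F37710 : act 2 n20254 = n17575 := d11_1 D20254 (iv D17575) (iv F31499)
def n20255 : Q := act 4 n17576
theorem D20255 : act 4 n17576 = n20255 := rfl
theorem F37711 : act 0 n20255 = n17577 := d3_1 D20255 (iv D17577) D17576
theorem F37712 : act 3 n20255 = n18919 := d12_1 D20255 (iv D18919) F28354 (iv F31137) (iv F31502)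
def n20256 : Q := act 5 n17577
theorem D20256 : act 5 n17577 = n20256 := rfl
theorem F37713 : act 1 n20256 = n17579 := d8_1 D20256 (iv D17579) (iv F31504)
theorem F37714 : act 3 n20256 = n18872 := d13_1 D20256 F34493 F32114
theorem F37715 : act 4 n20256 = n20138 := d14_1 D20256 (iv D20138) (iv D17408) (iv F25009) D17577
def n20257 : Q := act 2 n17578
theorem D20257 : act 2 n17578 = n20257 := rfl
theorem F37716 : act 1 n20257 = n19420 := d5_1 D20257 (iv D19420) (iv F34485) F34486 F32113
theorem F37717 : act 4 n20257 = n20139 := d10_2 (iv F31505) D20257 (iv D20139)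
theorem F37718 : act 3 n20257 = n19420 := d15_3 (iv F25010) D17578 D20257 (iv D19420) (iv D16606) (iv F29435) (iv F31492) (iv D17570) F25000
theorem F37719 : act 5 n19421 = n20257 := d13_0 F37718 F35732 F35734
def n20258 : Q := act 5 n17578
theorem D20258 : act 5 n17578 = n20258 := rfl
theorem F37720 : act 1 n20258 = n18872 := d8_1 D20258 F34493 F32113
theorem F37721 : act 2 n20258 = n19421 := d11_1 D20258 F37719 (iv D20257)
theorem F37722 : act 3 n20258 = n17579 := d13_1 D20258 (iv D17579) D17578
theorem F37723 : act 4 n20258 = n18871 := d14_1 D20258 (iv D18871) F28178 (iv F31155) (iv F31505)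
def n20259 : Q := act 3 n17580
theorem D20259 : act 3 n17580 = n20259 := rfl
theorem F37724 : act 0 n20259 = n19419 := d2_1 D20259 (iv F37496) F37494
theorem F37725 : act 1 n20259 = n19942 := d6_1 D20259 F36960 F36524
theorem F37726 : act 4 n20259 = n19392 := d12_2 D17580 D20259 (iv D19392) (iv D16584) (iv F25011)
theorem F37727 : act 5 n20259 = n17581 := d13_2 (iv F31509) D20259 (iv D17581)
def n20260 : Q := act 2 n17581
theorem D20260 : act 2 n17581 = n20260 := rfl
theorem F37728 : act 4 n20260 = n17582 := d10_2 (iv F31511) D20260 (iv D17582)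
def n20261 : Q := act 1 n17582
theorem D20261 : act 1 n17582 = n20261 := rfl
theorem F37729 : act 2 n20261 = n19940 := d5_2 D17582 D20261 (iv D19940) (iv D17164) (iv F25013)
theorem F37730 : act 5 n20261 = n19394 := d8_2 (iv F31512) D20261 (iv D19394)
def n20262 : Q := act 3 n17582
theorem D20262 : act 3 n17582 = n20262 := rfl
theorem F37731 : act 0 n20262 = n17689 := d2_1 D20262 (iv F37700) F37698
theorem F37732 : act 2 n20262 = n17675 := d9_1 D20262 (iv D17675) F25169 F19443 (iv F22942) D16576 D19387 (iv F37446) (iv D20139) (iv D17410) F24607 F18933 (iv F19315) D14541 D17582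
theorem F37733 : act 5 n20262 = n19395 := d13_2 (iv F31512) D20262 (iv D19395)
theorem F37734 : act 4 n18963 = n20262 := d10_0 F37732 F31718 D18963
def n20263 : Q := act 2 n17583
theorem D20263 : act 2 n17583 = n20263 := rfl
theorem F37735 : act 0 n20263 = n17584 := d1_1 D20263 (iv D17584) (iv F31513)
theorem F37736 : act 3 n20263 = n19403 := d15_1 D20263 (iv D19403) (iv D16593) F22961 (iv F22938) (iv F25020) (iv F31518) (iv D17586) (iv F31513)
def n20264 : Q := act 4 n17583
theorem D20264 : act 4 n17583 = n20264 := rfl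
theorem F37737 : act 0 n20264 = n17585 := d3_1 D20264 (iv D17585) (iv F31513)
theorem F37738 : act 1 n20264 = n17601 := d7_1 D20264 (iv D17601) (iv F31514)
theorem F37739 : act 3 n20264 = n17592 := d12_1 D20264 (iv D17592) (iv D14549) (iv F25017) D17583
def n20265 : Q := act 3 n17584
theorem D20265 : act 3 n17584 = n20265 := rfl
theorem F37740 : act 0 n20265 = n19403 := d2_1 D20265 (iv F37736) F37735
theorem F37741 : act 2 n20265 = n19401 := d15_2 D17584 D20265 (iv D19401) F29463 F27311 F27309 D18101 F32648 F31513
def n20266 : Q := act 4 n17584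
theorem D20266 : act 4 n17584 = n20266 := rfl
theorem F37742 : act 2 n20266 = n17585 := d10_1 D20266 (iv D17585) D17584
def n20267 : Q := act 5 n17584
theorem D20267 : act 5 n17584 = n20267 := rfl
theorem F37743 : act 1 n20267 = n17600 := d8_1 D20267 (iv F32601) F32600
theorem F37744 : act 2 n20267 = n17586 := d11_1 D20267 (iv D17586) D17584
def n20268 : Q := act 5 n17585
theorem D20268 : act 5 n17585 = n20268 := rfl
theorem F37745 : act 1 n20268 = n17589 := d8_1 D20268 (iv D17589) (iv F31515)
theorem F37746 : act 3 n20268 = n17596 := d13_1 D20268 (iv D17596) (iv F31516)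
def n20269 : Q := act 3 n17587
theorem D20269 : act 3 n17587 = n20269 := rfl
theorem F37747 : act 0 n20269 = n18533 := d2_1 D20269 (iv D18533) (iv F31519)
theorem F37748 : act 1 n20269 = n17590 := d6_1 D20269 (iv D17590) (iv F31520)
theorem F37749 : act 5 n20269 = n17597 := d13_2 (iv F31522) D20269 (iv D17597)
def n20270 : Q := act 1 n17591
theorem D20270 : act 1 n17591 = n20270 := rfl
theorem F37750 : act 0 n20270 = n17631 := d0_1 D20270 F31628 F25095 (iv F25038) (iv F31530)
theorem F37751 : act 2 n20270 = n17612 := d5_2 D17591 D20270 (iv D17612) (iv D14566) (iv F25033)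
theorem F37752 : act 5 n20270 = n17630 := d8_2 (iv F31531) D20270 F31626
theorem F37753 : act 3 n17653 = n20270 := d13_3 F37752 (iv F36051) F36052
def n20271 : Q := act 3 n17591
theorem D20271 : act 3 n17591 = n20271 := rfl
theorem F37754 : act 0 n20271 = n17594 := d2_1 D20271 (iv D17594) (iv F31530)
theorem F37755 : act 1 n20271 = n17653 := d6_1 D20271 F37753 (iv D20270)
theorem F37756 : act 5 n20271 = n17633 := d13_2 (iv F31531) D20271 (iv D17633)
def n20272 : Q := act 4 n17591
theorem D20272 : act 4 n17591 = n20272 := rfl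
theorem F37757 : act 0 n20272 = n17595 := d3_1 D20272 (iv D17595) (iv F31530)
theorem F37758 : act 2 n20272 = n17592 := d10_1 D20272 (iv D17592) D17591
def n20273 : Q := act 5 n17592
theorem D20273 : act 5 n17592 = n20273 := rfl
theorem F37759 : act 0 n20273 = n17596 := d4_1 D20273 (iv D17596) (iv F31532)
theorem F37760 : act 1 n20273 = n17614 := d8_1 D20273 (iv D17614) (iv F31533)
theorem F37761 : act 4 n20273 = n17645 := d14_1 D20273 (iv D17645) (iv D14596) F25034 D17592
def n20274 : Q := act 3 n17593
theorem D20274 : act 3 n17593 = n20274 := rfl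
theorem F37762 : act 0 n20274 = n17597 := d2_1 D20274 (iv D17597) (iv F31534)
theorem F37763 : act 1 n20274 = n17616 := d6_1 D20274 (iv D17616) (iv F31535)
theorem F37764 : act 4 n20274 = n17644 := d12_2 D17593 D20274 (iv D17644) (iv D14596) (iv F25037)
theorem F37765 : act 5 n20274 = n18533 := d13_2 (iv F31537) D20274 (iv D18533)
theorem F37766 : act 2 n20274 = n19405 := d15_2 (iv F31536) D20274 (iv D19405) F29466 D16602 (iv F37448) (iv D19386) (iv F31490) F31487
def n20275 : Q := act 2 n17594
theorem D20275 : act 2 n17594 = n20275 := rfl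
theorem F37767 : act 1 n20275 = n17650 := d5_1 D20275 (iv D17650) F25126 (iv F25106) (iv F31538)
theorem F37768 : act 5 n20275 = n17635 := d11_2 (iv F31539) D20275 (iv D17635)
def n20276 : Q := act 4 n17594
theorem D20276 : act 4 n17594 = n20276 := rfl
theorem F37769 : act 1 n20276 = n17641 := d7_1 D20276 (iv D17641) (iv F31538)
def n20277 : Q := act 3 n17595
theorem D20277 : act 3 n17595 = n20277 := rfl
theorem F37770 : act 1 n20277 = n17643 := d6_1 D20277 (iv D17643) (iv F31540)
def n20278 : Q := act 5 n17595
theorem D20278 : act 5 n17595 = n20278 := rfl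
theorem F37771 : act 1 n20278 = n17642 := d8_1 D20278 F31650 (iv F31540)
theorem F37772 : act 2 n20278 = n17596 := d11_1 D20278 (iv D17596) (iv F31541)
theorem F37773 : act 4 n20278 = n17638 := d14_1 D20278 (iv D17638) (iv D14589) (iv F25039) D17595
def n20279 : Q := act 2 n17597
theorem D20279 : act 2 n17597 = n20279 := rfl
theorem F37774 : act 0 n20279 = n19405 := d1_1 D20279 (iv F37766) F37762
theorem F37775 : act 4 n20279 = n17646 := d10_2 (iv F31545) D20279 (iv D17646)
theorem F37776 : act 3 n19402 = n20279 := d15_1 (iv F35706) (iv D20279) (iv D17597) (iv F31489) D20248 (iv F37697) F35726 (iv D16603) (iv F29477)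
def n20280 : Q := act 1 n17598
theorem D20280 : act 1 n17598 = n20280 := rfl
theorem F37777 : act 3 n20280 = n20190 := d6_2 (iv F31549) D20280 (iv D20190)
theorem F37778 : act 4 n20280 = n17648 := d7_2 (iv F31547) D20280 (iv D17648)
theorem F37779 : act 5 n20280 = n20194 := d8_2 (iv F31548) D20280 F37552
def n20281 : Q := act 5 n17601
theorem D20281 : act 5 n17601 = n20281 := rfl
theorem F37780 : act 0 n20281 = n17604 := d4_1 D20281 (iv D17604) (iv F31552)
theorem F37781 : act 3 n20281 = n17614 := d13_1 D20281 (iv D17614) (iv F31553)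
def n20282 : Q := act 0 n17602
theorem D20282 : act 0 n17602 = n20282 := rfl
theorem F37782 : act 2 n20282 = n17605 := d1_2 (iv F31554) D20282 (iv D17605)
theorem F37783 : act 5 n20282 = n19289 := d4_2 (iv F31555) D20282 F35449
def n20283 : Q := act 4 n17602
theorem D20283 : act 4 n17602 = n20283 := rfl
theorem F37784 : act 1 n20283 = n17603 := d7_1 D20283 (iv D17603) D17602
theorem F37785 : act 2 n20283 = n17606 := d10_1 D20283 (iv D17606) (iv F31554)
theorem F37786 : act 5 n20283 = n19881 := d14_2 (iv F31555) D20283 F36839 F35467 (iv D19293)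
def n20284 : Q := act 5 n17603
theorem D20284 : act 5 n17603 = n20284 := rfl
theorem F37787 : act 1 n20284 = n19881 := d8_1 D20284 (iv F37786) F37784
theorem F37788 : act 2 n20284 = n17604 := d11_1 D20284 (iv D17604) (iv F31556)
theorem F37789 : act 4 n20284 = n19882 := d14_1 D20284 F36841 (iv D18103) F26252 D17603
def n20285 : Q := act 4 n17605
theorem D20285 : act 4 n17605 = n20285 := rfl
theorem F37790 : act 0 n20285 = n17606 := d3_1 D20285 (iv D17606) D17605
theorem F37791 : act 5 n20285 = n19875 := d14_2 (iv F31560) D20285 F36827 F35455 (iv D19290)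
theorem F37792 : act 3 n19876 = n20285 := d13_3 F37791 (iv D19875) D19876
def n20286 : Q := act 4 n17612
theorem D20286 : act 4 n17612 = n20286 := rfl
theorem F37793 : act 1 n20286 = n17613 := d7_1 D20286 (iv D17613) D17612
def n20287 : Q := act 3 n17615
theorem D20287 : act 3 n17615 = n20287 := rfl
theorem F37794 : act 0 n20287 = n17617 := d2_1 D20287 (iv D17617) (iv F31582)
theorem F37795 : act 1 n20287 = n17644 := d6_1 D20287 (iv D17644) (iv F31583)
theorem F37796 : act 2 n20287 = n18519 := d9_1 D20287 (iv D18519) F27342 F21714 F21704 D12868 D15919 D18806 F34289 F33751 F27522 (iv F27508) (iv F27986) (iv F31919) F31918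
theorem F37797 : act 4 n20287 = n17616 := d12_2 D17615 D20287 (iv D17616) (iv D14569) (iv F25066)
def n20288 : Q := act 1 n17618
theorem D20288 : act 1 n17618 = n20288 := rfl
theorem F37798 : act 2 n20288 = n17621 := d5_2 D17618 D20288 (iv D17621) (iv D14577) (iv F25073)
theorem F37799 : act 3 n20288 = n18517 := d6_2 (iv F31593) D20288 F33619
theorem F37800 : act 4 n20288 = n18569 := d7_2 (iv F31591) D20288 F33747
theorem F37801 : act 5 n20288 = n18536 := d8_2 (iv F31592) D20288 (iv D18536)
def n20289 : Q := act 1 n17620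
theorem D20289 : act 1 n17620 = n20289 := rfl
theorem F37802 : act 2 n20289 = n18569 := d5_2 D17620 D20289 F33747 (iv F31589) F31587
theorem F37803 : act 3 n20289 = n18642 := d6_2 (iv F31598) D20289 F33935
theorem F37804 : act 4 n20289 = n17621 := d7_2 (iv F31599) D20289 (iv D17621)
theorem F37805 : act 5 n20289 = n18641 := d8_2 (iv F31600) D20289 F33933
def n20290 : Q := act 0 n17621
theorem D20290 : act 0 n17621 = n20290 := rfl
def n20291 : Q := act 3 n17624
theorem D20291 : act 3 n17624 = n20291 := rfl
theorem F37806 : act 0 n20291 = n17627 := d2_1 D20291 (iv D17627) (iv F31609)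
theorem F37807 : act 1 n20291 = n18484 := d6_1 D20291 (iv F34257) F34255
theorem F37808 : act 4 n20291 = n17625 := d12_2 D17624 D20291 (iv D17625) (iv D14580) D14579
theorem F37809 : act 5 n20291 = n18574 := d13_2 F34262 D20291 F34263
theorem F37810 : act 2 n18531 = n20291 := d10_3 F37808 (iv F31614) (iv F33657)
def n20292 : Q := act 2 n17627
theorem D20292 : act 2 n17627 = n20292 := rfl
theorem F37811 : act 0 n20292 = n18531 := d1_1 D20292 F37810 F37806
theorem F37812 : act 1 n20292 = n17629 := d5_1 D20292 (iv D17629) F25092 (iv F27517) (iv F31617)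
theorem F37813 : act 4 n20292 = n17629 := d10_2 (iv F31618) D20292 (iv D17629)
theorem F37814 : act 5 n20292 = n18529 := d11_2 F31619 D20292 F33653
theorem F37815 : act 3 n20292 = n18531 := d15_1 D20292 F37810 (iv D20291) (iv F32559) F32560 (iv F34261) (iv F34263) (iv F37809) F37806
def n20293 : Q := act 4 n17631
theorem D20293 : act 4 n17631 = n20293 := rfl
theorem F37816 : act 1 n20293 = n17632 := d7_1 D20293 (iv D17632) (iv F31628)
theorem F37817 : act 5 n20293 = n20104 := d14_2 D17631 D20293 (iv D20104) (iv D17369) (iv F25094)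
def n20294 : Q := act 3 n17632
theorem D20294 : act 3 n17632 = n20294 := rfl
theorem F37818 : act 0 n20294 = n17643 := d2_1 D20294 (iv D17643) (iv F31630)
theorem F37819 : act 4 n20294 = n17655 := d12_2 D17632 D20294 (iv D17655) (iv D14605) (iv F25097)
theorem F37820 : act 5 n20294 = n20106 := d13_2 (iv F31632) D20294 (iv D20106)
def n20295 : Q := act 4 n17633
theorem D20295 : act 4 n17633 = n20295 := rfl
theorem F37821 : act 0 n20295 = n17636 := d3_1 D20295 (iv D17636) (iv F31633)
def n20296 : Q := act 3 n17634
theorem D20296 : act 3 n17634 = n20296 := rfl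
theorem F37822 : act 0 n20296 = n17637 := d2_1 D20296 (iv D17637) (iv F31634)
theorem F37823 : act 1 n20296 = n20100 := d6_1 D20296 (iv D20100) (iv F31635)
theorem F37824 : act 5 n20113 = n20296 := d4_0 F37822 (iv F31639) D20113
def n20297 : Q := act 5 n17634
theorem D20297 : act 5 n17634 = n20297 := rfl
theorem F37825 : act 0 n20297 = n17638 := d4_1 D20297 (iv D17638) (iv F31634)
theorem F37826 : act 1 n20297 = n20101 := d8_1 D20297 (iv D20101) (iv F31635)
theorem F37827 : act 2 n20297 = n17645 := d11_1 D20297 (iv D17645) (iv F31636)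
theorem F37828 : act 3 n20297 = n20113 := d13_1 D20297 F37824 (iv D20296)
def n20298 : Q := act 4 n17635
theorem D20298 : act 4 n17635 = n20298 := rfl
theorem F37829 : act 2 n20298 = n17636 := d10_1 D20298 (iv D17636) D17635
def n20299 : Q := act 3 n17636
theorem D20299 : act 3 n17636 = n20299 := rfl
theorem F37830 : act 1 n20299 = n17639 := d6_1 D20299 (iv D17639) (iv F31637)
theorem F37831 : act 4 n20299 = n17637 := d12_2 D17636 D20299 (iv D17637) (iv D14589) D14588
def n20300 : Q := act 5 n17636
theorem D20300 : act 5 n17636 = n20300 := rfl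
theorem F37832 : act 1 n20300 = n17640 := d8_1 D20300 (iv D17640) (iv F31637)
def n20301 : Q := act 2 n17637
theorem D20301 : act 2 n17637 = n20301 := rfl
theorem F37833 : act 1 n20301 = n20110 := d5_1 D20301 F37379 F31077 (iv F25109) (iv F31638)
theorem F37834 : act 5 n20301 = n20108 := d11_2 F31639 D20301 F37374
def n20302 : Q := act 5 n17639
theorem D20302 : act 5 n17639 = n20302 := rfl
theorem F37835 : act 0 n20302 = n20105 := d4_1 D20302 (iv D20105) (iv F31643)
theorem F37836 : act 2 n20302 = n20117 := d11_1 D20302 F37387 F31645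
theorem F37837 : act 3 n20302 = n17640 := d13_1 D20302 (iv D17640) D17639
theorem F37838 : act 4 n20302 = n20116 := d14_1 D20302 (iv D20116) (iv D17378) F25110 (iv F31644)
def n20303 : Q := act 4 n17640
theorem D20303 : act 4 n17640 = n20303 := rfl
theorem F37839 : act 0 n20303 = n17656 := d3_1 D20303 (iv F36034) F36033
theorem F37840 : act 2 n20303 = n17652 := d10_1 D20303 (iv F36030) (iv F36032)
theorem F37841 : act 5 n20303 = n17641 := d14_2 D17640 D20303 (iv D17641) (iv D14591) D14590
def n20304 : Q := act 3 n17641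
theorem D20304 : act 3 n17641 = n20304 := rfl
theorem F37842 : act 0 n20304 = n17655 := d2_1 D20304 (iv D17655) (iv F31646)
theorem F37843 : act 4 n20304 = n17643 := d12_2 D17641 D20304 (iv D17643) (iv D14594) (iv F25107)
def n20305 : Q := act 3 n17642
theorem D20305 : act 3 n17642 = n20305 := rfl
theorem F37844 : act 0 n20305 = n20106 := d2_1 D20305 (iv D20106) (iv F31648)
theorem F37845 : act 4 n20305 = n20115 := d12_2 D17642 D20305 (iv D20115) (iv D17378) (iv F25113)
theorem F37846 : act 5 n20305 = n17643 := d13_2 (iv F31650) D20305 (iv D17643)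
def n20306 : Q := act 2 n17643
theorem D20306 : act 2 n17643 = n20306 := rfl
theorem F37847 : act 3 n20306 = n20086 := d15_1 D20306 F37338 (iv D17432) F24695 (iv F24514) (iv F31068) D20106 (iv F37820) F37818
theorem F37848 : act 1 n20087 = n20306 := d6_3 F37847 (iv D20086) D20087
def n20307 : Q := act 2 n17644
theorem D20307 : act 2 n17644 = n20307 := rfl
theorem F37849 : act 0 n20307 = n17646 := d1_1 D20307 (iv D17646) (iv F31651)
theorem F37850 : act 1 n20307 = n19407 := d5_1 D20307 F35716 F34172 (iv F37796) F37795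
theorem F37851 : act 4 n20307 = n19405 := d10_2 F37764 D20307 (iv F37766)
theorem F37852 : act 3 n20307 = n19404 := d15_1 D20307 F35710 (iv F37375) F37374 (iv F31642) F31641 (iv F31654) (iv D17647) (iv F31651)
def n20308 : Q := act 5 n17644
theorem D20308 : act 5 n17644 = n20308 := rfl
theorem F37853 : act 0 n20308 = n17647 := d4_1 D20308 (iv D17647) (iv F31651)
theorem F37854 : act 3 n20308 = n17645 := d13_1 D20308 (iv D17645) D17644
def n20309 : Q := act 1 n17646
theorem D20309 : act 1 n17646 = n20309 := rfl
theorem F37855 : act 2 n20309 = n17648 := d5_2 D17646 D20309 (iv D17648) (iv D14599) (iv F25120)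
def n20310 : Q := act 3 n17646
theorem D20310 : act 3 n17646 = n20310 := rfl
theorem F37856 : act 0 n20310 = n19404 := d2_1 D20310 (iv F37852) F37849
theorem F37857 : act 4 n20310 = n19401 := d12_2 F37775 D20310 (iv D19401) D19402 F37776
def n20311 : Q := act 5 n17646
theorem D20311 : act 5 n17646 = n20311 := rfl
theorem F37858 : act 2 n20311 = n17647 := d11_1 D20311 (iv D17647) D17646
def n20312 : Q := act 4 n17647
theorem D20312 : act 4 n17647 = n20312 := rfl
theorem F37859 : act 1 n20312 = n17649 := d7_1 D20312 (iv D17649) (iv F31653)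
def n20313 : Q := act 0 n17648
theorem D20313 : act 0 n17648 = n20313 := rfl
def n20314 : Q := act 4 n17650
theorem D20314 : act 4 n17650 = n20314 := rfl
theorem F37860 : act 2 n20314 = n17651 := d10_1 D20314 (iv D17651) D17650
def n20315 : Q := act 4 n17653
theorem D20315 : act 4 n17653 = n20315 := rfl
theorem F37861 : act 0 n20315 = n17654 := d3_1 D20315 (iv D17654) D17653
def n20316 : Q := act 3 n17654
theorem D20316 : act 3 n17654 = n20316 := rfl
theorem F37862 : act 1 n20316 = n17655 := d6_1 D20316 (iv D17655) (iv F31660)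
def n20317 : Q := act 5 n17654
theorem D20317 : act 5 n17654 = n20317 := rfl
theorem F37863 : act 1 n20317 = n17656 := d8_1 D20317 (iv D17656) (iv F31660)
def n20318 : Q := act 2 n17655
theorem D20318 : act 2 n17655 = n20318 := rfl
theorem F37864 : act 3 n20318 = n20090 := d15_3 (iv F25129) D17655 D20318 F37343 F31028 (iv F30858) (iv F31659) (iv D17652) F25127
theorem F37865 : act 5 n20089 = n20318 := d13_0 F37864 (iv D20090) D20089
def n20319 : Q := act 5 n17655
theorem D20319 : act 5 n17655 = n20319 := rfl
theorem F37866 : act 2 n20319 = n20089 := d11_1 D20319 F37865 (iv D20318)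
theorem F37867 : act 3 n20319 = n17656 := d13_1 D20319 (iv D17656) D17655
def n20320 : Q := act 2 n17657
theorem D20320 : act 2 n17657 = n20320 := rfl
theorem F37868 : act 0 n20320 = n17659 := d1_1 D20320 (iv D17659) (iv F31662)
theorem F37869 : act 5 n20320 = n19123 := d11_2 F31664 D20320 F35085
def n20321 : Q := act 4 n17657
theorem D20321 : act 4 n17657 = n20321 := rfl
theorem F37870 : act 0 n20321 = n17660 := d3_1 D20321 (iv D17660) (iv F31662)
theorem F37871 : act 1 n20321 = n19117 := d7_1 D20321 (iv D19117) (iv F31663)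
theorem F37872 : act 3 n20321 = n20167 := d12_1 D20321 (iv D20167) (iv D17451) (iv F25133) D17657
def n20322 : Q := act 4 n17658
theorem D20322 : act 4 n17658 = n20322 := rfl
theorem F37873 : act 0 n20322 = n17661 := d3_1 D20322 (iv D17661) (iv F31665)
theorem F37874 : act 1 n20322 = n19118 := d7_1 D20322 (iv D19118) (iv F31666)
theorem F37875 : act 2 n20322 = n20168 := d10_1 D20322 (iv D20168) (iv F31667)
theorem F37876 : act 5 n20322 = n20168 := d14_2 D17658 D20322 (iv D20168) (iv D17452) (iv F25133)
def n20323 : Q := act 3 n17659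
theorem D20323 : act 3 n17659 = n20323 := rfl
theorem F37877 : act 1 n20323 = n19127 := d6_1 D20323 F35091 (iv F31669)
theorem F37878 : act 5 n20323 = n19124 := d13_2 (iv F31670) D20323 (iv D19124)
def n20324 : Q := act 4 n17659
theorem D20324 : act 4 n17659 = n20324 := rfl
theorem F37879 : act 1 n20324 = n19130 := d7_1 D20324 (iv D19130) (iv F31669)
theorem F37880 : act 2 n20324 = n17660 := d10_1 D20324 (iv D17660) D17659
def n20325 : Q := act 5 n17660
theorem D20325 : act 5 n17660 = n20325 := rfl
theorem F37881 : act 1 n20325 = n17662 := d8_1 D20325 (iv D17662) (iv F31671)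
theorem F37882 : act 3 n20325 = n20171 := d13_1 D20325 (iv D20171) (iv F31672)
theorem F37883 : act 4 n20325 = n19134 := d14_1 D20325 (iv D19134) (iv D16291) F25135 D17660
def n20326 : Q := act 3 n17661
theorem D20326 : act 3 n17661 = n20326 := rfl
theorem F37884 : act 1 n20326 = n17663 := d6_1 D20326 (iv D17663) (iv F31673)
theorem F37885 : act 4 n20326 = n19133 := d12_2 D17661 D20326 (iv D19133) (iv D16291) (iv F25138)
theorem F37886 : act 5 n20326 = n20172 := d13_2 (iv F31675) D20326 (iv D20172)
def n20327 : Q := act 2 n17663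
theorem D20327 : act 2 n17663 = n20327 := rfl
theorem F37887 : act 0 n20327 = n19121 := d1_1 D20327 (iv D19121) (iv F31680)
theorem F37888 : act 3 n20327 = n19295 := d9_2 D17663 D20327 (iv D19295) (iv D16480) F22790 (iv F22402) (iv F28759) D19116 F35072 (iv D18074) F26202 F20232 (iv F17605) (iv F19417) (iv F25143)
theorem F37889 : act 4 n20327 = n19135 := d10_2 (iv F31681) D20327 (iv D19135)
theorem F37890 : act 5 n20327 = n19299 := d11_2 (iv F31682) D20327 F35485
def n20328 : Q := act 2 n17669
theorem D20328 : act 2 n17669 = n20328 := rfl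
theorem F37891 : act 0 n20328 = n17671 := d1_1 D20328 (iv D17671) (iv F31699)
theorem F37892 : act 5 n20328 = n18952 := d11_2 F31701 D20328 F34728
def n20329 : Q := act 4 n17669
theorem D20329 : act 4 n17669 = n20329 := rfl
theorem F37893 : act 0 n20329 = n17672 := d3_1 D20329 (iv D17672) (iv F31699)
theorem F37894 : act 1 n20329 = n17677 := d7_1 D20329 (iv D17677) (iv F31700)
theorem F37895 : act 3 n20329 = n20150 := d12_1 D20329 (iv D20150) (iv D17437) (iv F25159) D17669
def n20330 : Q := act 3 n17671
theorem D20330 : act 3 n17671 = n20330 := rfl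
theorem F37896 : act 1 n20330 = n18956 := d6_1 D20330 F34735 (iv F31706)
theorem F37897 : act 5 n20330 = n18953 := d13_2 (iv F31707) D20330 (iv D18953)
def n20331 : Q := act 4 n17671
theorem D20331 : act 4 n17671 = n20331 := rfl
theorem F37898 : act 1 n20331 = n18957 := d7_1 D20331 (iv D18957) (iv F31706)
theorem F37899 : act 2 n20331 = n17672 := d10_1 D20331 (iv D17672) D17671
def n20332 : Q := act 5 n17672
theorem D20332 : act 5 n17672 = n20332 := rfl
theorem F37900 : act 1 n20332 = n17674 := d8_1 D20332 (iv D17674) (iv F31708)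
theorem F37901 : act 3 n20332 = n20153 := d13_1 D20332 (iv D20153) (iv F31709)
theorem F37902 : act 4 n20332 = n18962 := d14_1 D20332 (iv D18962) F28458 F25161 D17672
def n20333 : Q := act 0 n17679
theorem D20333 : act 0 n17679 = n20333 := rfl
theorem F37903 : act 2 n20333 = n17684 := d1_2 (iv F31729) D20333 (iv D17684)
theorem F37904 : act 3 n20333 = n19079 := d2_2 F35663 D20333 (iv F35660)
theorem F37905 : act 5 n20333 = n18942 := d4_2 F31730 D20333 F34700
def n20334 : Q := act 4 n17679
theorem D20334 : act 4 n17679 = n20334 := rfl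
theorem F37906 : act 1 n20334 = n17681 := d7_1 D20334 (iv D17681) D17679
theorem F37907 : act 2 n20334 = n17685 := d10_1 D20334 (iv D17685) (iv F31729)
def n20335 : Q := act 4 n17684
theorem D20335 : act 4 n17684 = n20335 := rfl
theorem F37908 : act 0 n20335 = n17685 := d3_1 D20335 (iv D17685) D17684
theorem F37909 : act 1 n20335 = n18947 := d7_1 D20335 (iv D18947) (iv F31741)
theorem F37910 : act 3 n20335 = n18986 := d12_1 D20335 (iv D18986) F28512 (iv F28423) (iv F31742)
theorem F37911 : act 5 n20335 = n19041 := d14_2 (iv F31743) D20335 (iv D19041) (iv D16192) (iv F28419)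
def n20336 : Q := act 3 n17685
theorem D20336 : act 3 n17685 = n20336 := rfl
theorem F37912 : act 0 n20336 = n18986 := d2_1 D20336 (iv F37910) F37908
theorem F37913 : act 1 n20336 = n17686 := d6_1 D20336 (iv D17686) (iv F31744)
theorem F37914 : act 4 n20336 = n18933 := d12_2 D17685 D20336 F34685 F28403 (iv F25180)
def n20337 : Q := act 5 n17685
theorem D20337 : act 5 n17685 = n20337 := rfl
theorem F37915 : act 0 n20337 = n19041 := d4_1 D20337 (iv F37911) F37908
theorem F37916 : act 1 n20337 = n17687 := d8_1 D20337 (iv D17687) (iv F31744)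
theorem F37917 : act 4 n20337 = n18943 := d14_1 D20337 (iv D18943) F28426 (iv F25181) D17685
def n20338 : Q := act 2 n17686
theorem D20338 : act 2 n17686 = n20338 := rfl
theorem F37918 : act 0 n20338 = n18941 := d1_1 D20338 F34699 (iv F31745)
theorem F37919 : act 4 n20338 = n18853 := d10_2 (iv F31746) D20338 F34431
def n20339 : Q := act 3 n17690
theorem D20339 : act 3 n17690 = n20339 := rfl
theorem F37920 : act 0 n20339 = n17691 := d2_1 D20339 (iv D17691) D17690
theorem F37921 : act 1 n20339 = n17693 := d6_1 D20339 (iv D17693) (iv F31753)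
theorem F37922 : act 5 n20339 = n18383 := d13_2 (iv F31756) D20339 (iv D18383)
theorem F37923 : act 2 n19105 = n20339 := d15_0 (iv D20339) F31754 F26954 (iv F25601) (iv F32087) F32086 D19082 F34996 D19105
def n20340 : Q := act 4 n17691
theorem D20340 : act 4 n17691 = n20340 := rfl
theorem F37924 : act 1 n20340 = n17692 := d7_1 D20340 (iv D17692) (iv F31757)
theorem F37925 : act 2 n20340 = n19106 := d10_1 D20340 (iv D19106) F31759
theorem F37926 : act 3 n20340 = n18662 := d12_1 D20340 (iv D18662) (iv D15785) (iv F25211) D17691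
def n20341 : Q := act 5 n17692
theorem D20341 : act 5 n17692 = n20341 := rfl
theorem F37927 : act 0 n20341 = n17698 := d4_1 D20341 (iv D17698) (iv F31760)
theorem F37928 : act 2 n20341 = n19104 := d11_1 D20341 (iv D19104) (iv F31761)
theorem F37929 : act 3 n20341 = n18663 := d13_1 D20341 (iv D18663) (iv F31762)
theorem F37930 : act 4 n20341 = n19257 := d14_1 D20341 (iv D19257) (iv D16443) F25214 D17692
def n20342 : Q := act 1 n17694
theorem D20342 : act 1 n17694 = n20342 := rfl
theorem F37931 : act 2 n20342 = n17696 := d5_2 D17694 D20342 (iv D17696) (iv D14643) (iv F25224)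
theorem F37932 : act 3 n20342 = n20173 := d6_2 (iv F31766) D20342 (iv D20173)
theorem F37933 : act 5 n20342 = n19254 := d8_2 F37453 D20342 (iv F37452)
theorem F37934 : act 0 n19099 = n20342 := d1_3 F37931 F31769 D19099
def n20343 : Q := act 4 n17694
theorem D20343 : act 4 n17694 = n20343 := rfl
theorem F37935 : act 0 n20343 = n20181 := d3_1 D20343 (iv D20181) (iv F31765)
theorem F37936 : act 2 n20343 = n17695 := d10_1 D20343 (iv D17695) D17694
def n20344 : Q := act 5 n17695
theorem D20344 : act 5 n17695 = n20344 := rfl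
theorem F37937 : act 1 n20344 = n17698 := d8_1 D20344 (iv D17698) (iv F31767)
theorem F37938 : act 3 n20344 = n18664 := d13_1 D20344 (iv D18664) (iv F31768)
def n20345 : Q := act 4 n17696
theorem D20345 : act 4 n17696 = n20345 := rfl
theorem F37939 : act 0 n20345 = n19100 := d3_1 D20345 (iv D19100) (iv F31769)
theorem F37940 : act 1 n20345 = n17697 := d7_1 D20345 (iv D17697) D17696
def n20346 : Q := act 3 n17697
theorem D20346 : act 3 n17697 = n20346 := rfl
theorem F37941 : act 0 n20346 = n18923 := d2_1 D20346 F34664 (iv F31772)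
theorem F37942 : act 4 n20346 = n18921 := d12_2 D17697 D20346 (iv D18921) F28360 (iv F25226)
theorem F37943 : act 2 n19066 = n20346 := d10_3 F37942 F34658 D19066
def n20347 : Q := act 5 n17697
theorem D20347 : act 5 n17697 = n20347 := rfl
theorem F37944 : act 0 n20347 = n19104 := d4_1 D20347 (iv D19104) (iv F31772)
theorem F37945 : act 2 n20347 = n17698 := d11_1 D20347 (iv D17698) (iv F31773)
theorem F37946 : act 4 n20347 = n19256 := d14_1 D20347 (iv D19256) (iv D16441) F25227 D17697
def n20348 : Q := act 4 n17698
theorem D20348 : act 4 n17698 = n20348 := rfl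
theorem F37947 : act 0 n20348 = n19257 := d3_1 D20348 (iv F37930) F37927
theorem F37948 : act 2 n20348 = n19256 := d10_1 D20348 (iv F37946) F37945
theorem F37949 : act 5 n20348 = n17699 := d14_2 D17698 D20348 (iv D17699) (iv D14645) D14644
def n20349 : Q := act 3 n17699
theorem D20349 : act 3 n17699 = n20349 := rfl
theorem F37950 : act 0 n20349 = n18381 := d2_1 D20349 F33310 (iv F31775)
theorem F37951 : act 1 n20349 = n18671 := d6_1 D20349 (iv F37455) F37454
theorem F37952 : act 4 n20349 = n17700 := d12_2 D17699 D20349 (iv D17700) (iv D14646) (iv F25231)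
theorem F37953 : act 2 n18546 = n20349 := d10_3 F37952 (iv F31780) D18546
def n20350 : Q := act 3 n17701
theorem D20350 : act 3 n17701 = n20350 := rfl
theorem F37954 : act 0 n20350 = n18796 := d2_1 D20350 (iv D18796) (iv F31781)
def n20351 : Q := act 5 n17703
theorem D20351 : act 5 n17703 = n20351 := rfl
theorem F37955 : act 0 n20351 = n17825 := d4_1 D20351 F32068 (iv F31786)
theorem F37956 : act 1 n20351 = n18354 := d8_1 D20351 F33256 (iv F31787)
theorem F37957 : act 2 n20351 = n17704 := d11_1 D20351 (iv D17704) D17703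
def n20352 : Q := act 2 n17706
theorem D20352 : act 2 n17706 = n20352 := rfl
theorem F37958 : act 0 n20352 = n17831 := d1_1 D20352 F32082 (iv F31795)
theorem F37959 : act 1 n20352 = n19088 := d5_1 D20352 F35012 F28724 (iv F27041) (iv F31796)
theorem F37960 : act 3 n20352 = n19105 := d9_2 D17706 D20352 F37923 (iv D20339) F31754 F26954 (iv F25601) (iv F32087) F32086 D19082 F34997 F29520 F29518 F23046 (iv F25282)
theorem F37961 : act 4 n20352 = n17811 := d10_2 (iv F31797) D20352 (iv D17811)
theorem F37962 : act 5 n19081 = n20352 := d14_0 F37961 F32034 D17829 (iv F33542) (iv F34994)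
def n20353 : Q := act 5 n17706
theorem D20353 : act 5 n17706 = n20353 := rfl
theorem F37963 : act 0 n20353 = n17832 := d4_1 D20353 (iv D17832) (iv F31795)
theorem F37964 : act 1 n20353 = n18419 := d8_1 D20353 (iv D18419) (iv F31796)
theorem F37965 : act 2 n20353 = n19081 := d11_1 D20353 F37962 (iv D20352)
theorem F37966 : act 3 n20353 = n17707 := d13_1 D20353 (iv D17707) D17706
theorem F37967 : act 4 n20353 = n18099 := d14_1 D20353 (iv D18099) F26239 (iv F25555) (iv F31797)
def n20354 : Q := act 1 n17708
theorem D20354 : act 1 n17708 = n20354 := rfl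
theorem F37968 : act 2 n20354 = n17723 := d5_2 D17708 D20354 (iv D17723) (iv D14678) (iv F25287)
def n20355 : Q := act 3 n17708
theorem D20355 : act 3 n17708 = n20355 := rfl
theorem F37969 : act 0 n20355 = n17713 := d2_1 D20355 (iv D17713) (iv F31802)
def n20356 : Q := act 5 n17708
theorem D20356 : act 5 n17708 = n20356 := rfl
theorem F37970 : act 0 n20356 = n17714 := d4_1 D20356 (iv D17714) (iv F31802)
theorem F37971 : act 2 n20356 = n17709 := d11_1 D20356 (iv D17709) D17708
def n20357 : Q := act 4 n17709
theorem D20357 : act 4 n17709 = n20357 := rfl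
theorem F37972 : act 0 n20357 = n17715 := d3_1 D20357 (iv D17715) (iv F31803)
theorem F37973 : act 1 n20357 = n17726 := d7_1 D20357 (iv D17726) (iv F31804)
theorem F37974 : act 3 n20357 = n18766 := d12_1 D20357 (iv D18766) F27923 (iv F25291) (iv F31805)
def n20358 : Q := act 1 n17710
theorem D20358 : act 1 n17710 = n20358 := rfl
theorem F37975 : act 2 n20358 = n17718 := d5_2 D17710 D20358 (iv D17718) (iv D14672) (iv F25292)
theorem F37976 : act 4 n20358 = n17712 := d7_2 (iv F31806) D20358 (iv D17712)
theorem F37977 : act 5 n17923 = n20358 := d11_0 F37975 F31821 D17923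
def n20359 : Q := act 3 n17710
theorem D20359 : act 3 n17710 = n20359 := rfl
def n20360 : Q := act 5 n17710
theorem D20360 : act 5 n17710 = n20360 := rfl
theorem F37978 : act 1 n20360 = n17923 := d8_1 D20360 F37977 (iv D20358)
theorem F37979 : act 2 n20360 = n17711 := d11_1 D20360 (iv D17711) D17710
def n20361 : Q := act 4 n17711
theorem D20361 : act 4 n17711 = n20361 := rfl
theorem F37980 : act 1 n20361 = n17719 := d7_1 D20361 (iv D17719) (iv F31807)
theorem F37981 : act 3 n20361 = n17785 := d12_1 D20361 (iv D17785) F25462 (iv F25296) (iv F31808)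
theorem F37982 : act 5 n20361 = n17715 := d14_2 D17711 D20361 (iv D17715) (iv D14669) (iv F25293)
def n20362 : Q := act 0 n17712
theorem D20362 : act 0 n17712 = n20362 := rfl
theorem F37983 : act 2 n20362 = n17720 := d1_2 (iv F31809) D20362 (iv D17720)
theorem F37984 : act 5 n20362 = n17753 := d4_2 F31810 D20362 F31893
def n20363 : Q := act 5 n17713
theorem D20363 : act 5 n17713 = n20363 := rfl
theorem F37985 : act 1 n20363 = n17756 := d8_1 D20363 (iv F36682) F36679
theorem F37986 : act 2 n20363 = n18796 := d11_1 D20363 F34243 (iv F34239)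
theorem F37987 : act 3 n20363 = n17714 := d13_1 D20363 (iv D17714) D17713
def n20364 : Q := act 4 n17714
theorem D20364 : act 4 n17714 = n20364 := rfl
theorem F37988 : act 1 n20364 = n17757 := d7_1 D20364 (iv D17757) (iv F31811)
theorem F37989 : act 2 n20364 = n17715 := d10_1 D20364 (iv D17715) (iv F31812)
def n20365 : Q := act 3 n17715
theorem D20365 : act 3 n17715 = n20365 := rfl
theorem F37990 : act 0 n20365 = n18766 := d2_1 D20365 (iv F37974) F37972
theorem F37991 : act 1 n20365 = n17721 := d6_1 D20365 (iv D17721) (iv F31813)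
theorem F37992 : act 4 n20365 = n17716 := d12_2 D17715 D20365 (iv D17716) (iv D14670) (iv F25298)
theorem F37993 : act 5 n20365 = n17785 := d13_2 F37982 D20365 (iv F37981)
def n20366 : Q := act 2 n17716
theorem D20366 : act 2 n17716 = n20366 := rfl
theorem F37994 : act 0 n20366 = n18765 := d1_1 D20366 F34182 (iv F31814)
theorem F37995 : act 1 n20366 = n18425 := d5_1 D20366 (iv D18425) F27049 (iv F25319) (iv F31815)
theorem F37996 : act 3 n20366 = n18790 := d9_2 D17716 D20366 (iv D18790) (iv D15901) (iv D12843) (iv D10059) (iv F16762) D12825 D15880 D18764 F34213 (iv F34211) F34210 F27941 (iv F25301)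
theorem F37997 : act 5 n20366 = n17717 := d11_2 (iv F31816) D20366 (iv D17717)
def n20367 : Q := act 1 n17717
theorem D20367 : act 1 n17717 = n20367 := rfl
theorem F37998 : act 2 n20367 = n17722 := d5_2 D17717 D20367 (iv D17722) (iv D14677) (iv F25304)
theorem F37999 : act 4 n20367 = n17782 := d7_2 (iv F31818) D20367 (iv D17782)
theorem F38000 : act 5 n20367 = n18425 := d8_2 F37997 D20367 (iv F37995)
def n20368 : Q := act 3 n17717
theorem D20368 : act 3 n17717 = n20368 := rfl
theorem F38001 : act 0 n20368 = n18764 := d2_1 D20368 (iv D18764) (iv F31817)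
theorem F38002 : act 5 n20368 = n18790 := d13_2 F37997 D20368 (iv F37996)
theorem F38003 : act 2 n20368 = n18792 := d15_2 D17717 D20368 F34225 F27945 F21681 (iv F21664) (iv F27923) (iv D15881) (iv F25303)
def n20369 : Q := act 0 n17718
theorem D20369 : act 0 n17718 = n20369 := rfl
theorem F38004 : act 1 n20369 = n17737 := d0_2 D17718 D20369 (iv D17737) (iv D14687) (iv F25306)
theorem F38005 : act 3 n20369 = n17922 := d2_2 (iv F31819) D20369 F32246
theorem F38006 : act 4 n20369 = n17720 := d3_2 (iv F31820) D20369 (iv D17720)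
theorem F38007 : act 5 n20369 = n17921 := d4_2 (iv F31821) D20369 F32245
def n20370 : Q := act 0 n17722
theorem D20370 : act 0 n17722 = n20370 := rfl
theorem F38008 : act 1 n20370 = n17742 := d0_2 D17722 D20370 (iv D17742) (iv D14696) (iv F25320)
theorem F38009 : act 3 n20370 = n18415 := d2_2 (iv F31833) D20370 (iv D18415)
theorem F38010 : act 4 n20370 = n17786 := d3_2 (iv F31834) D20370 (iv D17786)
theorem F38011 : act 5 n20370 = n18424 := d4_2 (iv F31835) D20370 F33384
def n20371 : Q := act 0 n17723
theorem D20371 : act 0 n17723 = n20371 := rfl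
theorem F38012 : act 1 n20371 = n17731 := d0_2 D17723 D20371 (iv D17731) (iv D14682) (iv F25324)
theorem F38013 : act 5 n18348 = n20371 := d8_0 F38012 F31851 D18348
def n20372 : Q := act 3 n17723
theorem D20372 : act 3 n17723 = n20372 := rfl
theorem F38014 : act 1 n20372 = n17724 := d6_1 D20372 (iv D17724) D17723
theorem F38015 : act 5 n17745 = n20372 := d8_0 F38014 (iv F31838) D17745
def n20373 : Q := act 5 n17723
theorem D20373 : act 5 n17723 = n20373 := rfl
theorem F38016 : act 0 n20373 = n18348 := d4_1 D20373 F38013 (iv D20371)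
theorem F38017 : act 1 n20373 = n17725 := d8_1 D20373 (iv D17725) D17723
theorem F38018 : act 3 n20373 = n17745 := d13_1 D20373 F38015 (iv D20372)
def n20374 : Q := act 4 n17724
theorem D20374 : act 4 n17724 = n20374 := rfl
theorem F38019 : act 0 n20374 = n17734 := d3_1 D20374 (iv D17734) (iv F31836)
theorem F38020 : act 2 n20374 = n17748 := d10_1 D20374 (iv D17748) (iv F31837)
def n20375 : Q := act 4 n17725
theorem D20375 : act 4 n17725 = n20375 := rfl
theorem F38021 : act 0 n20375 = n17736 := d3_1 D20375 (iv D17736) (iv F31839)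
theorem F38022 : act 2 n20375 = n17726 := d10_1 D20375 (iv D17726) (iv F31840)
def n20376 : Q := act 0 n17727
theorem D20376 : act 0 n17727 = n20376 := rfl
theorem F38023 : act 2 n20376 = n17737 := d1_2 (iv F31844) D20376 (iv D17737)
theorem F38024 : act 4 n20376 = n17731 := d3_2 (iv F31845) D20376 (iv D17731)
def n20377 : Q := act 3 n17727
theorem D20377 : act 3 n17727 = n20377 := rfl
theorem F38025 : act 1 n20377 = n17728 := d6_1 D20377 (iv D17728) D17727
def n20378 : Q := act 5 n17727
theorem D20378 : act 5 n17727 = n20378 := rfl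
theorem F38026 : act 1 n20378 = n17729 := d8_1 D20378 (iv D17729) D17727
theorem F38027 : act 2 n20378 = n17739 := d11_1 D20378 (iv D17739) (iv F31844)
theorem F38028 : act 4 n20378 = n17968 := d14_1 D20378 F32334 (iv D15373) F25331 (iv F31845)
def n20379 : Q := act 4 n17728
theorem D20379 : act 4 n17728 = n20379 := rfl
theorem F38029 : act 3 n20379 = n17734 := d12_1 D20379 (iv D17734) (iv D14683) (iv F25327) D17728
def n20380 : Q := act 4 n17729
theorem D20380 : act 4 n17729 = n20380 := rfl
theorem F38030 : act 1 n20380 = n17968 := d7_1 D20380 (iv F38028) F38026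
theorem F38031 : act 2 n20380 = n17730 := d10_1 D20380 (iv D17730) (iv F31846)
theorem F38032 : act 3 n20380 = n17863 := d12_1 D20380 (iv D17863) D17862 (iv F35366) F35367
theorem F38033 : act 5 n20380 = n17736 := d14_2 D17729 D20380 (iv D17736) (iv D14684) (iv F25327)
def n20381 : Q := act 3 n17731
theorem D20381 : act 3 n17731 = n20381 := rfl
theorem F38034 : act 0 n20381 = n17732 := d2_1 D20381 (iv D17732) D17731
theorem F38035 : act 2 n20381 = n18338 := d9_1 D20381 (iv D18338) (iv D15359) (iv D12258) F15980 D9567 D12270 D15372 (iv F30540) (iv D17108) (iv F26661) (iv F26843) F26842 (iv F25359) (iv F31850)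
theorem F38036 : act 5 n20381 = n18349 := d13_2 (iv F31851) D20381 (iv D18349)
def n20382 : Q := act 4 n17732
theorem D20382 : act 4 n17732 = n20382 := rfl
theorem F38037 : act 1 n20382 = n17734 := d7_1 D20382 (iv D17734) (iv F31852)
def n20383 : Q := act 4 n17733
theorem D20383 : act 4 n17733 = n20383 := rfl
theorem F38038 : act 0 n20383 = n17748 := d3_1 D20383 (iv D17748) (iv F31854)
theorem F38039 : act 1 n20383 = n19445 := d7_1 D20383 (iv F35805) F35803
theorem F38040 : act 2 n20383 = n17734 := d10_1 D20383 (iv D17734) D17733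
theorem F38041 : act 3 n20383 = n19444 := d12_1 D20383 (iv D19444) F29556 F29105 (iv F31855)
def n20384 : Q := act 5 n17734
theorem D20384 : act 5 n17734 = n20384 := rfl
def n20385 : Q := act 3 n17736
theorem D20385 : act 3 n17736 = n20385 := rfl
theorem F38042 : act 1 n20385 = n18352 := d6_1 D20385 (iv D18352) (iv F31861)
theorem F38043 : act 5 n20385 = n17863 := d13_2 F38033 D20385 (iv F38032)
theorem F38044 : act 2 n20385 = n17864 := d15_6 F35167 F28956 F27935 (iv F25335) (iv F31862) D20385 (iv F35182) F35183 (iv F35166)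
def n20386 : Q := act 3 n17737
theorem D20386 : act 3 n17737 = n20386 := rfl
theorem F38045 : act 0 n20386 = n17738 := d2_1 D20386 (iv D17738) D17737
theorem F38046 : act 1 n20386 = n17922 := d6_1 D20386 (iv F38005) F38004
theorem F38047 : act 4 n20386 = n17964 := d12_2 (iv F31863) D20386 F32327 (iv D15371) (iv F25359)
theorem F38048 : act 5 n17886 = n20386 := d14_0 F38047 (iv D17964) (iv D14924) (iv F25691) (iv F32197)
def n20387 : Q := act 5 n17737
theorem D20387 : act 5 n17737 = n20387 := rfl
theorem F38049 : act 0 n20387 = n17739 := d4_1 D20387 (iv D17739) D17737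
theorem F38050 : act 1 n20387 = n17921 := d8_1 D20387 (iv F38007) F38004
theorem F38051 : act 3 n20387 = n17886 := d13_1 D20387 F38048 (iv D20386)
theorem F38052 : act 4 n20387 = n17965 := d14_1 D20387 F32329 (iv D15370) (iv F25360) (iv F31863)
def n20388 : Q := act 2 n17738
theorem D20388 : act 2 n17738 = n20388 := rfl
theorem F38053 : act 1 n20388 = n17877 := d5_1 D20388 F32170 F25674 (iv F25342) (iv F31864)
theorem F38054 : act 4 n20388 = n17967 := d10_2 (iv F31865) D20388 F32332
theorem F38055 : act 5 n20388 = n17875 := d11_2 F31866 D20388 F32168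
def n20389 : Q := act 0 n17740
theorem D20389 : act 0 n17740 = n20389 := rfl
theorem F38056 : act 1 n20389 = n17786 := d0_2 D17740 D20389 (iv D17786) (iv D14745) (iv F25355)
theorem F38057 : act 2 n20389 = n18776 := d1_2 (iv F31870) D20389 (iv D18776)
theorem F38058 : act 3 n20389 = n18432 := d2_2 (iv F31871) D20389 F33398
theorem F38059 : act 4 n20389 = n17742 := d3_2 (iv F31872) D20389 (iv D17742)
theorem F38060 : act 5 n20389 = n18431 := d4_2 (iv F31873) D20389 F33397
def n20390 : Q := act 0 n17741
theorem D20390 : act 0 n17741 = n20390 := rfl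
theorem F38061 : act 1 n20390 = n18424 := d0_2 D17741 D20390 F33384 F27049 (iv F25363)
theorem F38062 : act 2 n20390 = n18783 := d1_2 (iv F31874) D20390 F34199
theorem F38063 : act 3 n20390 = n17981 := d2_2 (iv F31875) D20390 F32354
theorem F38064 : act 5 n20390 = n17742 := d4_2 (iv F31876) D20390 (iv D17742)
def n20391 : Q := act 3 n17742
theorem D20391 : act 3 n17742 = n20391 := rfl
theorem F38065 : act 0 n20391 = n17743 := d2_1 D20391 (iv D17743) D17742
theorem F38066 : act 1 n20391 = n18415 := d6_1 D20391 (iv F38009) F38008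
theorem F38067 : act 5 n20391 = n17981 := d13_2 F38064 D20391 (iv F38063)
def n20392 : Q := act 2 n17743
theorem D20392 : act 2 n17743 = n20392 := rfl
theorem F38068 : act 1 n20392 = n17980 := d5_1 D20392 F32353 F25854 (iv F25368) (iv F31878)
theorem F38069 : act 5 n20392 = n17978 := d11_2 (iv F31879) D20392 F32352
def n20393 : Q := act 5 n17744
theorem D20393 : act 5 n17744 = n20393 := rfl
theorem F38070 : act 1 n20393 = n17747 := d8_1 D20393 (iv D17747) (iv F31880)
theorem F38071 : act 3 n20393 = n17766 := d13_1 D20393 (iv D17766) (iv F31881)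
def n20394 : Q := act 0 n17745
theorem D20394 : act 0 n17745 = n20394 := rfl
theorem F38072 : act 1 n20394 = n18349 := d0_2 D17745 D20394 F33246 (iv F31858) F31857
theorem F38073 : act 3 n20394 = n18348 := d2_2 F38018 D20394 (iv F38016)
def n20395 : Q := act 4 n17745
theorem D20395 : act 4 n17745 = n20395 := rfl
theorem F38074 : act 1 n20395 = n17746 := d7_1 D20395 (iv D17746) D17745
def n20396 : Q := act 4 n17747
theorem D20396 : act 4 n17747 = n20396 := rfl
theorem F38075 : act 5 n20396 = n17748 := d14_2 D17747 D20396 (iv D17748) (iv D14705) D14704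
def n20397 : Q := act 4 n17749
theorem D20397 : act 4 n17749 = n20397 := rfl
theorem F38076 : act 0 n20397 = n17750 := d3_1 D20397 (iv D17750) (iv F31884)
theorem F38077 : act 2 n20397 = n17755 := d10_1 D20397 (iv D17755) (iv F31885)
theorem F38078 : act 5 n20397 = n18157 := d14_2 D17749 D20397 (iv D18157) F26394 (iv F25381)
def n20398 : Q := act 3 n17750
theorem D20398 : act 3 n17750 = n20398 := rfl
theorem F38079 : act 1 n20398 = n17752 := d6_1 D20398 (iv D17752) (iv F31886)
theorem F38080 : act 5 n20398 = n18160 := d13_2 (iv F31888) D20398 (iv D18160)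
def n20399 : Q := act 2 n17752
theorem D20399 : act 2 n17752 = n20399 := rfl
theorem F38081 : act 5 n20399 = n18329 := d11_2 (iv F31892) D20399 (iv D18329)
theorem F38082 : act 3 n20399 = n18540 := d15_1 D20399 (iv D18540) (iv D15610) F21178 (iv F20673) (iv F26773) D18326 F33188 F33037
def n20400 : Q := act 1 n17753
theorem D20400 : act 1 n17753 = n20400 := rfl
theorem F38083 : act 2 n20400 = n18348 := d5_2 D17753 D20400 (iv D18348) (iv D15369) (iv F25389)
def n20401 : Q := act 3 n17753
theorem D20401 : act 3 n17753 = n20401 := rfl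
theorem F38084 : act 0 n20401 = n17756 := d2_1 D20401 (iv D17756) (iv F31893)
def n20402 : Q := act 4 n17753
theorem D20402 : act 4 n17753 = n20402 := rfl
theorem F38085 : act 0 n20402 = n17757 := d3_1 D20402 (iv D17757) (iv F31893)
theorem F38086 : act 2 n20402 = n17754 := d10_1 D20402 (iv D17754) D17753
def n20403 : Q := act 5 n17754
theorem D20403 : act 5 n17754 = n20403 := rfl
theorem F38087 : act 0 n20403 = n17758 := d4_1 D20403 (iv D17758) (iv F31894)
theorem F38088 : act 1 n20403 = n17965 := d8_1 D20403 F32329 (iv F31895)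
theorem F38089 : act 3 n20403 = n17927 := d13_1 D20403 F32257 (iv F31896)
theorem F38090 : act 4 n20403 = n17921 := d14_1 D20403 (iv F38007) F38006 F31828 D17754
def n20404 : Q := act 3 n17755
theorem D20404 : act 3 n17755 = n20404 := rfl
theorem F38091 : act 0 n20404 = n17759 := d2_1 D20404 (iv D17759) (iv F31897)
theorem F38092 : act 1 n20404 = n17964 := d6_1 D20404 F32327 (iv F31898)
theorem F38093 : act 4 n20404 = n17922 := d12_2 D17755 D20404 (iv F38005) F38006 F31827
theorem F38094 : act 5 n20404 = n17928 := d13_2 (iv F31899) D20404 F32260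
def n20405 : Q := act 4 n17756
theorem D20405 : act 4 n17756 = n20405 := rfl
def n20406 : Q := act 3 n17757
theorem D20406 : act 3 n17757 = n20406 := rfl
def n20407 : Q := act 5 n17757
theorem D20407 : act 5 n17757 = n20407 := rfl
theorem F38095 : act 2 n20407 = n17758 := d11_1 D20407 (iv D17758) (iv F31900)
theorem F38096 : act 4 n20407 = n17923 := d14_1 D20407 F37977 F37976 (iv F31810) D17757
def n20408 : Q := act 2 n17759
theorem D20408 : act 2 n17759 = n20408 := rfl
theorem F38097 : act 1 n20408 = n17909 := d5_1 D20408 F32228 F25726 F25402 (iv F31904)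
theorem F38098 : act 4 n20408 = n17905 := d10_2 (iv F31905) D20408 F32225
theorem F38099 : act 5 n20408 = n17915 := d11_2 (iv F31906) D20408 F32237
def n20409 : Q := act 3 n17761
theorem D20409 : act 3 n17761 = n20409 := rfl
theorem F38100 : act 1 n20409 = n17762 := d6_1 D20409 (iv D17762) (iv F31907)
theorem F38101 : act 2 n20409 = n19678 := d9_1 D20409 (iv D19678) F30108 (iv D15482) F20930 D12402 D15488 D18444 (iv F36432) (iv D19687) (iv F30690) (iv F33041) F33040 (iv F33422) F33421
theorem F38102 : act 5 n20409 = n19689 := d13_2 (iv F33418) D20409 F36435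
def n20410 : Q := act 2 n17762
theorem D20410 : act 2 n17762 = n20410 := rfl
theorem F38103 : act 1 n20410 = n19683 := d5_1 D20410 (iv D19683) (iv F36410) (iv F38101) F38100
theorem F38104 : act 3 n20410 = n20129 := d15_3 (iv F25405) D17762 D20410 F37416 F31119 F24814 (iv F30445) (iv D17048) F23962
theorem F38105 : act 5 n19690 = n20410 := d13_0 F38104 (iv D20129) (iv F36439)
def n20411 : Q := act 5 n17762
theorem D20411 : act 5 n17762 = n20411 := rfl
theorem F38106 : act 1 n20411 = n19689 := d8_1 D20411 (iv F38102) F38100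
theorem F38107 : act 2 n20411 = n19690 := d11_1 D20411 F38105 (iv D20410)
theorem F38108 : act 3 n20411 = n17763 := d13_1 D20411 (iv D17763) D17762
def n20412 : Q := act 5 n17765
theorem D20412 : act 5 n17765 = n20412 := rfl
theorem F38109 : act 0 n20412 = n17838 := d4_1 D20412 (iv D17838) (iv F31912)
theorem F38110 : act 1 n20412 = n17839 := d8_1 D20412 (iv D17839) (iv F31913)
theorem F38111 : act 2 n20412 = n17766 := d11_1 D20412 (iv D17766) (iv F31914)
theorem F38112 : act 3 n20412 = n18108 := d13_1 D20412 (iv D18108) (iv F31915)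
theorem F38113 : act 4 n20412 = n18416 := d14_1 D20412 (iv D18416) (iv D15457) (iv F25420) D17765
def n20413 : Q := act 4 n17769
theorem D20413 : act 4 n17769 = n20413 := rfl
theorem F38114 : act 0 n20413 = n19749 := d3_1 D20413 (iv D19749) (iv F31927)
theorem F38115 : act 1 n20413 = n17771 := d7_1 D20413 (iv D17771) (iv F31928)
theorem F38116 : act 2 n20413 = n19747 := d10_1 D20413 (iv D19747) (iv F31929)
theorem F38117 : act 3 n20413 = n17776 := d12_1 D20413 (iv D17776) (iv D14734) (iv F25431) D17769
theorem F38118 : act 5 n20413 = n17776 := d14_2 (iv F31930) D20413 (iv D17776) (iv F25442) (iv F26166)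
def n20414 : Q := act 4 n17770
theorem D20414 : act 4 n17770 = n20414 := rfl
theorem F38119 : act 0 n20414 = n20286 := d3_1 D20414 (iv D20286) (iv F31931)
theorem F38120 : act 1 n20414 = n17772 := d7_1 D20414 (iv D17772) (iv F31932)
theorem F38121 : act 2 n20414 = n20293 := d10_1 D20414 (iv D20293) (iv F31933)
theorem F38122 : act 3 n20414 = n17777 := d12_1 D20414 (iv D17777) F25444 (iv F26166) (iv F31934)
theorem F38123 : act 5 n20414 = n17777 := d14_2 D17770 D20414 (iv D17777) (iv D14735) (iv F25431)
def n20415 : Q := act 4 n17773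
theorem D20415 : act 4 n17773 = n20415 := rfl
theorem F38124 : act 0 n20415 = n17776 := d3_1 D20415 (iv D17776) (iv F31943)
theorem F38125 : act 1 n20415 = n18805 := d7_1 D20415 (iv D18805) (iv F31944)
theorem F38126 : act 2 n20415 = n19750 := d10_1 D20415 F36571 F33746
theorem F38127 : act 3 n20415 = n19749 := d12_1 D20415 (iv D19749) (iv F31926) F31924 D17773
theorem F38128 : act 5 n20415 = n19749 := d14_2 F31945 D20415 (iv D19749) F30243 (iv F27953)
def n20416 : Q := act 4 n17774
theorem D20416 : act 4 n17774 = n20416 := rfl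
theorem F38129 : act 0 n20416 = n17777 := d3_1 D20416 (iv D17777) (iv F31946)
theorem F38130 : act 1 n20416 = n18804 := d7_1 D20416 (iv D18804) (iv F31947)
theorem F38131 : act 3 n20416 = n20286 := d12_1 D20416 (iv D20286) F31578 (iv F27953) (iv F31948)
theorem F38132 : act 5 n20416 = n20286 := d14_2 D17774 D20416 (iv D20286) F31925 F31924
def n20417 : Q := act 3 n17775
theorem D20417 : act 3 n17775 = n20417 := rfl
theorem F38133 : act 1 n20417 = n18792 := d6_1 D20417 F34225 (iv F31949)
theorem F38134 : act 5 n20417 = n18789 := d13_2 (iv F31950) D20417 (iv D18789)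
def n20418 : Q := act 4 n17775
theorem D20418 : act 4 n17775 = n20418 := rfl
theorem F38135 : act 0 n20418 = n19750 := d3_1 D20418 F36571 F33744
theorem F38136 : act 1 n20418 = n18793 := d7_1 D20418 (iv D18793) (iv F31949)
theorem F38137 : act 2 n20418 = n17776 := d10_1 D20418 (iv D17776) D17775
theorem F38138 : act 5 n20418 = n19747 := d14_2 (iv F31950) D20418 (iv D19747) (iv F30238) (iv F27944)
theorem F38139 : act 3 n19755 = n20418 := d13_3 F38138 F36563 D19755
def n20419 : Q := act 1 n17778
theorem D20419 : act 1 n17778 = n20419 := rfl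
theorem F38140 : act 2 n20419 = n18772 := d5_2 D17778 D20419 (iv D18772) (iv D15886) (iv F25453)
def n20420 : Q := act 3 n17778
theorem D20420 : act 3 n17778 = n20420 := rfl
theorem F38141 : act 0 n20420 = n18394 := d2_1 D20420 (iv F35489) F35487
theorem F38142 : act 2 n20420 = n18389 := d9_1 D20420 F33326 F26977 (iv F25451) (iv F29264) (iv F35494) F35493 (iv D18393) (iv D15426) (iv D12333) F16089 (iv F15093) (iv F19648) D14739 D17778
theorem F38143 : act 5 n20420 = n18388 := d15_8 (iv D15426) (iv D12333) F16089 (iv F15093) (iv F19648) D14739 D17778 D20420 F33324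
def n20421 : Q := act 5 n17778
theorem D20421 : act 5 n17778 = n20421 := rfl
theorem F38144 : act 0 n20421 = n18393 := d4_1 D20421 F35490 F35487
theorem F38145 : act 2 n20421 = n17779 := d11_1 D20421 (iv D17779) D17778
theorem F38146 : act 3 n20421 = n18388 := d13_1 D20421 (iv F38143) (iv D20420)
def n20422 : Q := act 4 n17779
theorem D20422 : act 4 n17779 = n20422 := rfl
theorem F38147 : act 1 n20422 = n18775 := d7_1 D20422 (iv D18775) (iv F31953)
def n20423 : Q := act 1 n17780
theorem D20423 : act 1 n17780 = n20423 := rfl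
theorem F38148 : act 2 n20423 = n18767 := d5_2 D17780 D20423 (iv D18767) (iv D15882) (iv F25457)
theorem F38149 : act 4 n20423 = n18763 := d7_2 (iv F31956) D20423 (iv D18763)
def n20424 : Q := act 4 n17781
theorem D20424 : act 4 n17781 = n20424 := rfl
theorem F38150 : act 0 n20424 = n17785 := d3_1 D20424 (iv D17785) (iv F31957)
theorem F38151 : act 1 n20424 = n18770 := d7_1 D20424 (iv D18770) (iv F31958)
theorem F38152 : act 5 n20424 = n18766 := d14_2 D17781 D20424 (iv D18766) (iv D15881) (iv F25458)
def n20425 : Q := act 0 n17782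
theorem D20425 : act 0 n17782 = n20425 := rfl
theorem F38153 : act 2 n20425 = n17786 := d1_2 (iv F31960) D20425 (iv D17786)
def n20426 : Q := act 4 n17784
theorem D20426 : act 4 n17784 = n20426 := rfl
theorem F38154 : act 2 n20426 = n17785 := d10_1 D20426 (iv D17785) (iv F31961)
def n20427 : Q := act 4 n17792
theorem D20427 : act 4 n17792 = n20427 := rfl
theorem F38155 : act 0 n20427 = n17795 := d3_1 D20427 (iv D17795) (iv F31985)
theorem F38156 : act 1 n20427 = n18212 := d7_1 D20427 (iv F35842) F35841
theorem F38157 : act 3 n20427 = n17797 := d12_1 D20427 (iv D17797) (iv D14764) (iv F25511) D17792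
def n20428 : Q := act 4 n17794
theorem D20428 : act 4 n17794 = n20428 := rfl
theorem F38158 : act 1 n20428 = n19962 := d7_1 D20428 (iv D19962) (iv F31991)
theorem F38159 : act 2 n20428 = n17795 := d10_1 D20428 (iv D17795) D17794
def n20429 : Q := act 4 n17796
theorem D20429 : act 4 n17796 = n20429 := rfl
theorem F38160 : act 0 n20429 = n17799 := d3_1 D20429 (iv D17799) (iv F31995)
theorem F38161 : act 1 n20429 = n18196 := d7_1 D20429 (iv D18196) (iv F31996)
theorem F38162 : act 2 n20429 = n17797 := d10_1 D20429 (iv D17797) D17796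
theorem F38163 : act 3 n20429 = n20348 := d12_1 D20429 (iv D20348) F31774 D18668 (iv F34010)
theorem F38164 : act 5 n20429 = n20349 := d14_2 (iv F31997) D20429 F37952 F31779 F26933
def n20430 : Q := act 3 n17800
theorem D20430 : act 3 n17800 = n20430 := rfl
theorem F38165 : act 0 n20430 = n17801 := d2_1 D20430 (iv D17801) D17800
theorem F38166 : act 2 n20430 = n18034 := d15_2 (iv F32005) D20430 (iv D18034) (iv D15008) (iv D11932) (iv F20076) (iv F25537) (iv D14773) D14771
def n20431 : Q := act 5 n17800
theorem D20431 : act 5 n17800 = n20431 := rfl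
theorem F38167 : act 0 n20431 = n17802 := d4_1 D20431 (iv D17802) D17800
theorem F38168 : act 2 n20431 = n17806 := d11_1 D20431 (iv D17806) (iv F32005)
def n20432 : Q := act 2 n17801
theorem D20432 : act 2 n17801 = n20432 := rfl
theorem F38169 : act 0 n20432 = n18034 := d1_1 D20432 (iv F38166) F38165
theorem F38170 : act 1 n20432 = n19947 := d5_1 D20432 (iv F37069) F37068 F30738 (iv F32006)
theorem F38171 : act 3 n20432 = n18031 := d15_3 (iv F25527) D17801 D20432 (iv D18031) (iv D15006) (iv F25969) (iv F32018) (iv D17806) (iv D14771)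
def n20433 : Q := act 4 n17801
theorem D20433 : act 4 n17801 = n20433 := rfl
theorem F38172 : act 1 n20433 = n17803 := d7_1 D20433 (iv D17803) (iv F32006)
def n20434 : Q := act 5 n17803
theorem D20434 : act 5 n17803 = n20434 := rfl
def n20435 : Q := act 3 n17804
theorem D20435 : act 3 n17804 = n20435 := rfl
theorem F38173 : act 5 n20435 = n19936 := d13_2 (iv F32010) D20435 (iv D19936)
def n20436 : Q := act 2 n17807
theorem D20436 : act 2 n17807 = n20436 := rfl
theorem F38174 : act 0 n20436 = n17850 := d1_1 D20436 F32123 (iv F32019)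
theorem F38175 : act 4 n20436 = n18398 := d10_2 F33950 D20436 F33952
theorem F38176 : act 5 n20436 = n17808 := d11_2 (iv F32021) D20436 (iv D17808)
theorem F38177 : act 3 n20436 = n17887 := d15_1 D20436 F34852 (iv D19008) (iv D16156) (iv D13097) F17181 D11761 D14824 (iv F32019)
theorem F38178 : act 1 n17931 = n20436 := d6_3 F38177 F32198 D17931
def n20437 : Q := act 3 n17808
theorem D20437 : act 3 n17808 = n20437 := rfl
theorem F38179 : act 0 n20437 = n17849 := d2_1 D20437 (iv D17849) (iv F32022)
theorem F38180 : act 1 n20437 = n17930 := d6_1 D20437 F32265 F32024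
theorem F38181 : act 2 n20437 = n20055 := d9_1 D20437 F37266 F34855 F28537 F22241 (iv F25636) (iv F32123) F32124 (iv F32193) (iv F32195) (iv D14852) (iv D11790) (iv F19725) D14776 D17808
theorem F38182 : act 4 n20437 = n18399 := d12_2 (iv F32023) D20437 (iv D18399) (iv D15437) (iv F26969)
theorem F38183 : act 5 n20437 = n17887 := d13_2 F38176 D20437 (iv F38177)
def n20438 : Q := act 1 n17809
theorem D20438 : act 1 n17809 = n20438 := rfl
theorem F38184 : act 0 n20438 = n17932 := d0_1 D20438 F32269 F32072 (iv D17827) (iv F32025)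
theorem F38185 : act 2 n20438 = n17931 := d5_2 D17809 D20438 F38178 (iv D20436) F32020
theorem F38186 : act 3 n20438 = n17830 := d6_2 (iv F32026) D20438 (iv D17830)
theorem F38187 : act 4 n20438 = n19107 := d7_2 F33954 D20438 F35049
theorem F38188 : act 5 n20438 = n17810 := d8_2 (iv F32027) D20438 (iv D17810)
def n20439 : Q := act 1 n17811
theorem D20439 : act 1 n17811 = n20439 := rfl
theorem F38189 : act 0 n20439 = n18409 := d0_1 D20439 F33359 F32079 (iv D17830) (iv F32032)
theorem F38190 : act 2 n20439 = n18420 := d5_2 D17811 D20439 (iv D18420) (iv D15463) (iv F25554)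
theorem F38191 : act 3 n20439 = n17827 := d6_2 (iv F32033) D20439 (iv D17827)
theorem F38192 : act 4 n20439 = n19088 := d7_2 F37961 D20439 (iv F37959)
theorem F38193 : act 5 n20439 = n17828 := d8_2 (iv F32034) D20439 F32074
def n20440 : Q := act 5 n17812
theorem D20440 : act 5 n17812 = n20440 := rfl
theorem F38194 : act 0 n20440 = n19732 := d4_1 D20440 (iv D19732) F32037
theorem F38195 : act 1 n20440 = n17813 := d8_1 D20440 (iv D17813) D17812
theorem F38196 : act 2 n20440 = n19728 := d11_1 D20440 (iv D19728) (iv F32035)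
theorem F38197 : act 3 n20440 = n17835 := d13_1 D20440 (iv F34591) F34590
def n20441 : Q := act 4 n17813
theorem D20441 : act 4 n17813 = n20441 := rfl
theorem F38198 : act 0 n20441 = n17822 := d3_1 D20441 (iv D17822) (iv F32038)
theorem F38199 : act 2 n20441 = n17814 := d10_1 D20441 (iv D17814) (iv F32039)
def n20442 : Q := act 4 n17816
theorem D20442 : act 4 n17816 = n20442 := rfl
theorem F38200 : act 1 n20442 = n19713 := d7_1 D20442 (iv D19713) (iv F32048)
theorem F38201 : act 2 n20442 = n17817 := d10_1 D20442 (iv D17817) (iv F32049)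
theorem F38202 : act 5 n20442 = n17822 := d14_2 D17816 D20442 (iv D17822) (iv D14786) (iv F25559)
def n20443 : Q := act 3 n17818
theorem D20443 : act 3 n17818 = n20443 := rfl
theorem F38203 : act 0 n20443 = n17819 := d2_1 D20443 (iv D17819) D17818
theorem F38204 : act 1 n20443 = n19731 := d6_1 D20443 (iv D19731) (iv F32054)
def n20444 : Q := act 2 n17819
theorem D20444 : act 2 n17819 = n20444 := rfl
def n20445 : Q := act 4 n17819
theorem D20445 : act 4 n17819 = n20445 := rfl
theorem F38205 : act 1 n20445 = n17820 := d7_1 D20445 (iv D17820) (iv F32057)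
theorem F38206 : act 3 n20445 = n19725 := d12_1 D20445 (iv D19725) (iv F32045) F32046 D17819
def n20446 : Q := act 5 n17820
theorem D20446 : act 5 n17820 = n20446 := rfl
def n20447 : Q := act 4 n17821
theorem D20447 : act 4 n17821 = n20447 := rfl
theorem F38207 : act 0 n20447 = n17836 := d3_1 D20447 (iv D17836) (iv F32058)
theorem F38208 : act 2 n20447 = n17834 := d10_1 D20447 (iv D17834) (iv F32059)
def n20448 : Q := act 3 n17822
theorem D20448 : act 3 n17822 = n20448 := rfl
def n20449 : Q := act 2 n17824
theorem D20449 : act 2 n17824 = n20449 := rfl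
theorem F38209 : act 1 n20449 = n18401 := d5_1 D20449 F33345 (iv F32138) F32139 (iv F32064)
theorem F38210 : act 4 n20449 = n17825 := d10_2 (iv F32065) D20449 (iv D17825)
theorem F38211 : act 5 n20449 = n17826 := d11_2 (iv F32066) D20449 (iv D17826)
def n20450 : Q := act 1 n17826
theorem D20450 : act 1 n17826 = n20450 := rfl
theorem F38212 : act 2 n20450 = n17858 := d5_2 D17826 D20450 F32142 F25658 (iv F25591)
theorem F38213 : act 4 n20450 = n17827 := d7_2 (iv F32069) D20450 (iv D17827)
theorem F38214 : act 5 n20450 = n18401 := d8_2 F38211 D20450 (iv F38209)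
theorem F38215 : act 0 n18410 = n20450 := d4_3 F38214 F33344 (iv F33364)
def n20451 : Q := act 3 n17826
theorem D20451 : act 3 n17826 = n20451 := rfl
theorem F38216 : act 0 n20451 = n19106 := d2_1 D20451 F35048 F33953
theorem F38217 : act 4 n20451 = n19105 := d12_2 (iv F32069) D20451 (iv F37960) F37961 F32033
def n20452 : Q := act 2 n17833
theorem D20452 : act 2 n17833 = n20452 := rfl
def n20453 : Q := act 4 n17833
theorem D20453 : act 4 n17833 = n20453 := rfl
theorem F38218 : act 1 n20453 = n17834 := d7_1 D20453 (iv D17834) (iv F32089)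
theorem F38219 : act 3 n20453 = n17855 := d12_1 D20453 (iv D17855) (iv D14828) (iv F25604) D17833
def n20454 : Q := act 5 n17834
theorem D20454 : act 5 n17834 = n20454 := rfl
theorem F38220 : act 0 n20454 = n17837 := d4_1 D20454 (iv D17837) (iv F32090)
theorem F38221 : act 3 n20454 = n17856 := d13_1 D20454 (iv D17856) (iv F32091)
def n20455 : Q := act 0 n17835
theorem D20455 : act 0 n17835 = n20455 := rfl
theorem F38222 : act 3 n20455 = n19732 := d2_2 F38197 D20455 (iv F38194)
theorem F38223 : act 5 n20455 = n19731 := d4_2 F34591 D20455 F36530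
def n20456 : Q := act 4 n17835
theorem D20456 : act 4 n17835 = n20456 := rfl
theorem F38224 : act 1 n20456 = n17836 := d7_1 D20456 (iv D17836) D17835
def n20457 : Q := act 3 n17836
theorem D20457 : act 3 n17836 = n20457 := rfl
def n20458 : Q := act 5 n17836
theorem D20458 : act 5 n17836 = n20458 := rfl
theorem F38225 : act 2 n20458 = n17837 := d11_1 D20458 (iv D17837) (iv F32092)
def n20459 : Q := act 2 n17845
theorem D20459 : act 2 n17845 = n20459 := rfl
theorem F38226 : act 0 n20459 = n17846 := d1_1 D20459 (iv D17846) (iv F32115)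
theorem F38227 : act 3 n20459 = n17846 := d15_1 D20459 (iv D17846) (iv D14820) F19796 (iv F17055) (iv F22064) D16052 F28324 (iv F32115)
def n20460 : Q := act 4 n17846
theorem D20460 : act 4 n17846 = n20460 := rfl
theorem F38228 : act 2 n20460 = n17847 := d10_1 D20460 (iv D17847) D17846
def n20461 : Q := act 5 n17847
theorem D20461 : act 5 n17847 = n20461 := rfl
theorem F38229 : act 1 n20461 = n17848 := d8_1 D20461 (iv D17848) (iv F32116)
theorem F38230 : act 3 n20461 = n18753 := d13_1 D20461 (iv D18753) (iv F32117)
def n20462 : Q := act 2 n17849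
theorem D20462 : act 2 n17849 = n20462 := rfl
theorem F38231 : act 0 n20462 = n20055 := d1_1 D20462 (iv F38181) F38179
theorem F38232 : act 1 n20462 = n17884 := d5_1 D20462 (iv D17884) F25681 D14857 (iv F32119)
theorem F38233 : act 3 n20462 = n17884 := d9_2 D17849 D20462 (iv D17884) (iv D14851) (iv F25544) D17807 D20436 F38177 F34852 (iv D19008) (iv D16156) (iv D13097) F17181 D11761 D14823
theorem F38234 : act 4 n20462 = n18400 := d10_2 (iv F32120) D20462 (iv D18400)
theorem F38235 : act 5 n20462 = n17885 := d11_2 F32121 D20462 F32193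
def n20463 : Q := act 2 n17853
theorem D20463 : act 2 n17853 = n20463 := rfl
theorem F38236 : act 0 n20463 = n17854 := d1_1 D20463 (iv D17854) (iv F32133)
def n20464 : Q := act 4 n17853
theorem D20464 : act 4 n17853 = n20464 := rfl
theorem F38237 : act 0 n20464 = n17855 := d3_1 D20464 (iv D17855) (iv F32133)
theorem F38238 : act 1 n20464 = n17860 := d7_1 D20464 (iv D17860) (iv F32134)
def n20465 : Q := act 3 n17854
theorem D20465 : act 3 n17854 = n20465 := rfl
def n20466 : Q := act 4 n17854
theorem D20466 : act 4 n17854 = n20466 := rfl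
theorem F38239 : act 2 n20466 = n17855 := d10_1 D20466 (iv D17855) D17854
def n20467 : Q := act 5 n17855
theorem D20467 : act 5 n17855 = n20467 := rfl
theorem F38240 : act 1 n20467 = n17856 := d8_1 D20467 (iv D17856) (iv F32135)
def n20468 : Q := act 4 n17859
theorem D20468 : act 4 n17859 = n20468 := rfl
theorem F38241 : act 0 n20468 = n17863 := d3_1 D20468 (iv D17863) (iv F32144)
theorem F38242 : act 2 n20468 = n17860 := d10_1 D20468 (iv D17860) D17859
def n20469 : Q := act 0 n17861
theorem D20469 : act 0 n17861 = n20469 := rfl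
theorem F38243 : act 2 n20469 = n17865 := d1_2 (iv F32146) D20469 (iv D17865)
def n20470 : Q := act 3 n17861
theorem D20470 : act 3 n17861 = n20470 := rfl
theorem F38244 : act 1 n20470 = n17862 := d6_1 D20470 (iv D17862) D17861
def n20471 : Q := act 4 n17861
theorem D20471 : act 4 n17861 = n20471 := rfl
theorem F38245 : act 1 n20471 = n17863 := d7_1 D20471 (iv D17863) D17861
theorem F38246 : act 2 n20471 = n17866 := d10_1 D20471 (iv D17866) (iv F32146)
theorem F38247 : act 3 n17968 = n20471 := d6_0 F38245 (iv F38032) F38030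
theorem F38248 : act 5 n18352 = n20471 := d8_0 F38245 (iv F38043) F38042
def n20472 : Q := act 4 n17865
theorem D20472 : act 4 n17865 = n20472 := rfl
theorem F38249 : act 0 n20472 = n17866 := d3_1 D20472 (iv D17866) D17865
def n20473 : Q := act 3 n17866
theorem D20473 : act 3 n17866 = n20473 := rfl
theorem F38250 : act 1 n20473 = n17867 := d6_1 D20473 (iv D17867) (iv F32149)
theorem F38251 : act 2 n20473 = n18361 := d15_4 D17968 F38247 F38246 D20473 (iv D18361) F26886 (iv F26866) (iv F32329) F32328
theorem F38252 : act 0 n18365 = n20473 := d1_3 F38251 F33267 D18365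
theorem F38253 : act 3 n20472 = n18365 := d2_0 F38252 (iv D20473) (iv F38249)
def n20474 : Q := act 5 n17866
theorem D20474 : act 5 n17866 = n20474 := rfl
theorem F38254 : act 1 n20474 = n17868 := d8_1 D20474 (iv D17868) (iv F32149)
theorem F38255 : act 2 n20474 = n18352 := d11_1 D20474 F38248 F38246
def n20475 : Q := act 2 n17867
theorem D20475 : act 2 n17867 = n20475 := rfl
def n20476 : Q := act 5 n17867
theorem D20476 : act 5 n17867 = n20476 := rfl
theorem F38256 : act 3 n20476 = n17868 := d13_1 D20476 (iv D17868) D17867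
def n20477 : Q := act 1 n17869
theorem D20477 : act 1 n17869 = n20477 := rfl
theorem F38257 : act 2 n20477 = n17888 := d5_2 D17869 D20477 (iv D17888) (iv D14860) (iv F25663)
theorem F38258 : act 4 n20477 = n17871 := d7_2 (iv F32152) D20477 (iv D17871)
def n20478 : Q := act 3 n17869
theorem D20478 : act 3 n17869 = n20478 := rfl
theorem F38259 : act 0 n20478 = n17876 := d2_1 D20478 (iv D17876) (iv F32151)
theorem F38260 : act 4 n20478 = n20242 := d12_2 (iv F32152) D20478 F37683 F32160 (iv D17872)
theorem F38261 : act 2 n20478 = n18762 := d15_2 D17869 D20478 F34180 F27921 F21661 (iv F19851) (iv F25675) (iv D14846) (iv F25662)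
theorem F38262 : act 5 n18760 = n20478 := d11_0 F38261 (iv D18762) D18760
def n20479 : Q := act 5 n17869
theorem D20479 : act 5 n17869 = n20479 := rfl
theorem F38263 : act 0 n20479 = n17877 := d4_1 D20479 (iv D17877) (iv F32151)
theorem F38264 : act 2 n20479 = n17870 := d11_1 D20479 (iv D17870) D17869
theorem F38265 : act 3 n20479 = n18760 := d13_1 D20479 F38262 (iv D20478)
theorem F38266 : act 4 n20479 = n20237 := d14_1 D20479 (iv D20237) F32164 (iv D17873) (iv F32152)
def n20480 : Q := act 4 n17870
theorem D20480 : act 4 n17870 = n20480 := rfl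
theorem F38267 : act 0 n20480 = n17878 := d3_1 D20480 (iv D17878) (iv F32153)
theorem F38268 : act 1 n20480 = n17891 := d7_1 D20480 (iv D17891) (iv F32154)
theorem F38269 : act 2 n20480 = n20237 := d10_1 D20480 (iv F38266) F38264
theorem F38270 : act 3 n20480 = n18025 := d12_1 D20480 (iv D18025) F25985 (iv F25668) (iv F32155)
theorem F38271 : act 5 n20480 = n17874 := d14_2 D17870 D20480 (iv D17874) (iv D14844) (iv F25664)
def n20481 : Q := act 0 n17871
theorem D20481 : act 0 n17871 = n20481 := rfl
theorem F38272 : act 1 n20481 = n17879 := d0_2 D17871 D20481 (iv D17879) (iv D14847) (iv F25669)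
theorem F38273 : act 2 n20481 = n17892 := d1_2 (iv F32156) D20481 (iv D17892)
theorem F38274 : act 5 n17962 = n20481 := d8_0 F38272 F32177 D17962
def n20482 : Q := act 3 n17871
theorem D20482 : act 3 n17871 = n20482 := rfl
theorem F38275 : act 1 n20482 = n17872 := d6_1 D20482 (iv D17872) D17871
theorem F38276 : act 2 n20482 = n19467 := d15_4 F32208 (iv D17893) (iv F32156) D20482 F35877 F33760 D18650 F33961 (iv D18124)
theorem F38277 : act 4 n19824 = n20482 := d10_0 F38276 F35878 (iv F36746)
theorem F38278 : act 5 n19465 = n20482 := d11_0 F38276 (iv D19467) (iv F35870)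
def n20483 : Q := act 5 n17871
theorem D20483 : act 5 n17871 = n20483 := rfl
theorem F38279 : act 0 n20483 = n17962 := d4_1 D20483 F38274 (iv D20481)
theorem F38280 : act 1 n20483 = n17873 := d8_1 D20483 (iv D17873) D17871
theorem F38281 : act 2 n20483 = n17894 := d11_1 D20483 (iv D17894) (iv F32156)
theorem F38282 : act 3 n20483 = n19465 := d13_1 D20483 F38278 (iv D20482)
theorem F38283 : act 4 n20235 = n20483 := d12_0 F38282 (iv D19465) F29617 D17552 D20235
def n20484 : Q := act 0 n17875
theorem D20484 : act 0 n17875 = n20484 := rfl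
theorem F38284 : act 2 n20484 = n17886 := d1_2 (iv F32168) D20484 (iv D17886)
theorem F38285 : act 4 n20484 = n17879 := d3_2 (iv F32169) D20484 (iv D17879)
def n20485 : Q := act 3 n17875
theorem D20485 : act 3 n17875 = n20485 := rfl
theorem F38286 : act 1 n20485 = n17876 := d6_1 D20485 (iv D17876) D17875
def n20486 : Q := act 2 n17876
theorem D20486 : act 2 n17876 = n20486 := rfl
theorem F38287 : act 0 n20486 = n18762 := d1_1 D20486 (iv F38261) F38259
theorem F38288 : act 3 n20486 = n18040 := d9_2 D17876 D20486 F32506 F26022 (iv F25667) (iv F32155) (iv F38264) F38265 (iv D18760) (iv D15878) (iv D12823) (iv D10044) (iv F15278) D11785 D14845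
theorem F38289 : act 5 n18039 = n20486 := d13_0 F38288 (iv D18040) D18039
def n20487 : Q := act 4 n17876
theorem D20487 : act 4 n17876 = n20487 := rfl
theorem F38290 : act 0 n20487 = n20242 := d3_1 D20487 (iv F38260) F38259
theorem F38291 : act 3 n20487 = n17882 := d12_1 D20487 (iv D17882) (iv D14848) (iv F25673) D17876
theorem F38292 : act 5 n20223 = n20487 := d13_0 F38291 F32186 D20223
def n20488 : Q := act 5 n17876
theorem D20488 : act 5 n17876 = n20488 := rfl
theorem F38293 : act 0 n20488 = n18760 := d4_1 D20488 F38262 F38259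
theorem F38294 : act 2 n20488 = n18039 := d11_1 D20488 F38289 (iv D20486)
theorem F38295 : act 3 n20488 = n17877 := d13_1 D20488 (iv D17877) D17876
theorem F38296 : act 4 n20488 = n20225 := d14_1 D20488 (iv D20225) (iv F37626) F38292 (iv D20487)
def n20489 : Q := act 3 n17879
theorem D20489 : act 3 n17879 = n20489 := rfl
theorem F38297 : act 0 n20489 = n17880 := d2_1 D20489 (iv D17880) D17879
theorem F38298 : act 2 n20489 = n17957 := d9_1 D20489 (iv D17957) (iv D14918) (iv D11847) F15372 D9224 D11854 D14926 D17966 F33803 F33801 F27681 F25814 (iv F25690) (iv F32176)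
theorem F38299 : act 5 n20489 = n17963 := d13_2 (iv F32177) D20489 (iv D17963)
def n20490 : Q := act 2 n17880
theorem D20490 : act 2 n17880 = n20490 := rfl
theorem F38300 : act 0 n20490 = n17957 := d1_1 D20490 (iv F38298) F38297
theorem F38301 : act 3 n20490 = n17954 := d9_2 D17880 D20490 (iv D17954) (iv D14916) F19950 D11852 D14923 D17963 (iv F33807) (iv D18594) F27572 F21438 F19953 (iv F19863) (iv F25676)
theorem F38302 : act 5 n20490 = n17966 := d11_2 (iv F32179) D20490 (iv D17966)
def n20491 : Q := act 4 n17880
theorem D20491 : act 4 n17880 = n20491 := rfl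
theorem F38303 : act 1 n20491 = n17882 := d7_1 D20491 (iv D17882) (iv F32178)
theorem F38304 : act 5 n20491 = n19636 := d14_2 (iv F32179) D20491 (iv D19636) F30042 (iv F25827)
def n20492 : Q := act 1 n17881
theorem D20492 : act 1 n17881 = n20492 := rfl
theorem F38305 : act 0 n20492 = n19463 := d0_1 D20492 F35862 F29610 (iv F29621) (iv F32180)
theorem F38306 : act 3 n20492 = n19728 := d6_2 (iv F32181) D20492 F36528
theorem F38307 : act 4 n20492 = n20241 := d7_2 F32183 D20492 F37682
theorem F38308 : act 5 n20492 = n19460 := d8_2 (iv F32182) D20492 F35852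
def n20493 : Q := act 0 n17888
theorem D20493 : act 0 n17888 = n20493 := rfl
theorem F38309 : act 1 n20493 = n17903 := d0_2 D17888 D20493 (iv D17903) (iv D14870) (iv F25705)
theorem F38310 : act 4 n20493 = n17892 := d3_2 (iv F32200) D20493 (iv D17892)
def n20494 : Q := act 3 n17888
theorem D20494 : act 3 n17888 = n20494 := rfl
theorem F38311 : act 1 n20494 = n17889 := d6_1 D20494 (iv D17889) D17888
def n20495 : Q := act 5 n17888
theorem D20495 : act 5 n17888 = n20495 := rfl
theorem F38312 : act 1 n20495 = n17890 := d8_1 D20495 (iv D17890) D17888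
def n20496 : Q := act 2 n17889
theorem D20496 : act 2 n17889 = n20496 := rfl
theorem F38313 : act 0 n20496 = n17906 := d1_1 D20496 (iv D17906) (iv F32201)
theorem F38314 : act 3 n20496 = n17901 := d9_2 D17889 D20496 F32220 F25722 F19880 (iv F19883) (iv F25725) (iv F32227) (iv F34794) (iv D18980) (iv D16130) (iv D13076) F17163 D11797 D14860
theorem F38315 : act 5 n17900 = n20496 := d13_0 F38314 (iv D17901) D17900
def n20497 : Q := act 4 n17889
theorem D20497 : act 4 n17889 = n20497 := rfl
theorem F38316 : act 0 n20497 = n17907 := d3_1 D20497 (iv D17907) (iv F32201)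
theorem F38317 : act 3 n20497 = n17895 := d12_1 D20497 (iv D17895) (iv D14863) (iv F25706) D17889
def n20498 : Q := act 5 n17889
theorem D20498 : act 5 n17889 = n20498 := rfl
theorem F38318 : act 0 n20498 = n17908 := d4_1 D20498 (iv D17908) (iv F32201)
theorem F38319 : act 2 n20498 = n17900 := d11_1 D20498 F38315 (iv D20496)
theorem F38320 : act 3 n20498 = n17890 := d13_1 D20498 (iv D17890) D17889
def n20499 : Q := act 4 n17890
theorem D20499 : act 4 n17890 = n20499 := rfl
theorem F38321 : act 0 n20499 = n17909 := d3_1 D20499 (iv D17909) (iv F32202)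
theorem F38322 : act 2 n20499 = n17891 := d10_1 D20499 (iv D17891) (iv F32203)
theorem F38323 : act 5 n20499 = n17896 := d14_2 D17890 D20499 (iv D17896) (iv D14864) (iv F25706)
def n20500 : Q := act 3 n17892
theorem D20500 : act 3 n17892 = n20500 := rfl
theorem F38324 : act 0 n20500 = n17893 := d2_1 D20500 (iv D17893) D17892
theorem F38325 : act 1 n20500 = n17910 := d6_1 D20500 (iv D17910) (iv F32206)
theorem F38326 : act 2 n20500 = n18124 := d15_2 F38273 D20500 F33504 F33502 F29627 (iv F35870) (iv F38282) (iv D20483) D20481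
theorem F38327 : act 5 n17938 = n20500 := d11_0 F38326 (iv F33961) (iv F33962)
def n20501 : Q := act 5 n17892
theorem D20501 : act 5 n17892 = n20501 := rfl
theorem F38328 : act 0 n20501 = n17894 := d4_1 D20501 (iv D17894) D17892
theorem F38329 : act 1 n20501 = n17911 := d8_1 D20501 (iv D17911) (iv F32206)
theorem F38330 : act 2 n20501 = n17962 := d11_1 D20501 F38274 F38273
theorem F38331 : act 3 n20501 = n17938 := d13_1 D20501 F38327 (iv D20500)
def n20502 : Q := act 4 n17893
theorem D20502 : act 4 n17893 = n20502 := rfl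
theorem F38332 : act 1 n20502 = n17895 := d7_1 D20502 (iv D17895) (iv F32207)
theorem F38333 : act 2 n20502 = n18125 := d10_1 D20502 (iv D18125) F32208
def n20503 : Q := act 4 n17894
theorem D20503 : act 4 n17894 = n20503 := rfl
theorem F38334 : act 1 n20503 = n17896 := d7_1 D20503 (iv D17896) (iv F32210)
theorem F38335 : act 2 n20503 = n20235 := d10_1 D20503 F38283 F38281
def n20504 : Q := act 5 n17895
theorem D20504 : act 5 n17895 = n20504 := rfl
theorem F38336 : act 0 n20504 = n17918 := d4_1 D20504 (iv D17918) (iv F32212)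
theorem F38337 : act 2 n20504 = n17942 := d11_1 D20504 F32282 (iv F32213)
theorem F38338 : act 4 n20504 = n17941 := d14_1 D20504 (iv D17941) (iv D14904) F25711 D17895
def n20505 : Q := act 3 n17896
theorem D20505 : act 3 n17896 = n20505 := rfl
theorem F38339 : act 0 n20505 = n17920 := d2_1 D20505 (iv D17920) (iv F32214)
theorem F38340 : act 4 n20505 = n17940 := d12_2 D17896 D20505 (iv D17940) (iv D14904) (iv F25714)
def n20506 : Q := act 1 n17897
theorem D20506 : act 1 n17897 = n20506 := rfl
theorem F38341 : act 2 n20506 = n17899 := d5_2 D17897 D20506 (iv D17899) (iv D14868) (iv F25717)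
def n20507 : Q := act 3 n17897
theorem D20507 : act 3 n17897 = n20507 := rfl
theorem F38342 : act 0 n20507 = n18050 := d2_1 D20507 (iv D18050) (iv F32216)
theorem F38343 : act 2 n20507 = n18006 := d9_1 D20507 F32418 F25925 F20039 (iv F20133) (iv F26039) (iv F32531) F35325 F35324 F29117 F22753 F19556 (iv F19879) D14866 D17897
theorem F38344 : act 5 n20507 = n18005 := d15_8 F35324 F29117 F22753 F19556 (iv F19879) D14866 D17897 D20507 (iv F35322)
def n20508 : Q := act 5 n17897
theorem D20508 : act 5 n17897 = n20508 := rfl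
theorem F38345 : act 0 n20508 = n18051 := d4_1 D20508 (iv D18051) (iv F32216)
theorem F38346 : act 2 n20508 = n17898 := d11_1 D20508 (iv D17898) D17897
theorem F38347 : act 3 n20508 = n18005 := d13_1 D20508 (iv F38344) (iv D20507)
def n20509 : Q := act 4 n17898
theorem D20509 : act 4 n17898 = n20509 := rfl
theorem F38348 : act 0 n20509 = n18052 := d3_1 D20509 (iv D18052) (iv F32217)
theorem F38349 : act 1 n20509 = n17902 := d7_1 D20509 (iv D17902) (iv F32218)
theorem F38350 : act 3 n20509 = n18019 := d12_1 D20509 (iv D18019) F25956 (iv F25721) (iv F32219)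
def n20510 : Q := act 0 n17899
theorem D20510 : act 0 n17899 = n20510 := rfl
def n20511 : Q := act 3 n17899
theorem D20511 : act 3 n17899 = n20511 := rfl
theorem F38351 : act 1 n20511 = n17900 := d6_1 D20511 (iv D17900) D17899
def n20512 : Q := act 5 n17899
theorem D20512 : act 5 n17899 = n20512 := rfl
theorem F38352 : act 1 n20512 = n17901 := d8_1 D20512 (iv D17901) D17899
def n20513 : Q := act 3 n17903
theorem D20513 : act 3 n17903 = n20513 := rfl
theorem F38353 : act 0 n20513 = n17904 := d2_1 D20513 (iv D17904) D17903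
def n20514 : Q := act 5 n17903
theorem D20514 : act 5 n17903 = n20514 := rfl
theorem F38354 : act 0 n20514 = n17905 := d4_1 D20514 (iv D17905) D17903
theorem F38355 : act 2 n20514 = n17922 := d11_1 D20514 (iv D17922) (iv F32221)
def n20515 : Q := act 2 n17904
theorem D20515 : act 2 n17904 = n20515 := rfl
def n20516 : Q := act 4 n17904
theorem D20516 : act 4 n17904 = n20516 := rfl
theorem F38356 : act 1 n20516 = n17907 := d7_1 D20516 (iv D17907) (iv F32223)
theorem F38357 : act 3 n20516 = n17913 := d12_1 D20516 (iv D17913) (iv D14875) (iv F25724) D17904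
def n20517 : Q := act 5 n17904
theorem D20517 : act 5 n17904 = n20517 := rfl
theorem F38358 : act 1 n20517 = n17908 := d8_1 D20517 (iv D17908) (iv F32223)
theorem F38359 : act 3 n20517 = n17905 := d13_1 D20517 (iv D17905) D17904
def n20518 : Q := act 1 n17906
theorem D20518 : act 1 n17906 = n20518 := rfl
def n20519 : Q := act 4 n17906
theorem D20519 : act 4 n17906 = n20519 := rfl
theorem F38360 : act 2 n20519 = n17907 := d10_1 D20519 (iv D17907) D17906
def n20520 : Q := act 5 n17907
theorem D20520 : act 5 n17907 = n20520 := rfl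
theorem F38361 : act 3 n20520 = n17918 := d13_1 D20520 (iv D17918) (iv F32226)
def n20521 : Q := act 4 n17908
theorem D20521 : act 4 n17908 = n20521 := rfl
def n20522 : Q := act 3 n17909
theorem D20522 : act 3 n17909 = n20522 := rfl
theorem F38362 : act 5 n20522 = n17920 := d13_2 (iv F32229) D20522 (iv D17920)
def n20523 : Q := act 4 n17910
theorem D20523 : act 4 n17910 = n20523 := rfl
theorem F38363 : act 0 n20523 = n17913 := d3_1 D20523 (iv D17913) (iv F32230)
def n20524 : Q := act 5 n17910
theorem D20524 : act 5 n17910 = n20524 := rfl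
theorem F38364 : act 0 n20524 = n17914 := d4_1 D20524 (iv D17914) (iv F32230)
theorem F38365 : act 1 n20524 = n17938 := d8_1 D20524 F38327 F38325
theorem F38366 : act 3 n20524 = n17911 := d13_1 D20524 (iv D17911) D17910
def n20525 : Q := act 4 n17911
theorem D20525 : act 4 n17911 = n20525 := rfl
theorem F38367 : act 0 n20525 = n17915 := d3_1 D20525 (iv D17915) (iv F32231)
theorem F38368 : act 2 n20525 = n17928 := d10_1 D20525 (iv D17928) (iv F32232)
def n20526 : Q := act 1 n17912
theorem D20526 : act 1 n17912 = n20526 := rfl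
theorem F38369 : act 2 n20526 = n17916 := d5_2 D17912 D20526 (iv D17916) (iv D14877) (iv F25729)
theorem F38370 : act 0 n18121 = n20526 := d1_3 F38369 F32238 D18121
theorem F38371 : act 5 n17934 = n20526 := d11_0 F38369 F32240 D17934
def n20527 : Q := act 4 n17912
theorem D20527 : act 4 n17912 = n20527 := rfl
theorem F38372 : act 2 n20527 = n17913 := d10_1 D20527 (iv D17913) D17912
def n20528 : Q := act 5 n17912
theorem D20528 : act 5 n17912 = n20528 := rfl
theorem F38373 : act 1 n20528 = n17934 := d8_1 D20528 F38371 (iv D20526)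
theorem F38374 : act 2 n20528 = n17914 := d11_1 D20528 (iv D17914) D17912
def n20529 : Q := act 5 n17913
theorem D20529 : act 5 n17913 = n20529 := rfl
theorem F38375 : act 1 n20529 = n17918 := d8_1 D20529 (iv D17918) (iv F32233)
def n20530 : Q := act 4 n17914
theorem D20530 : act 4 n17914 = n20530 := rfl
theorem F38376 : act 1 n20530 = n17919 := d7_1 D20530 (iv D17919) (iv F32234)
def n20531 : Q := act 3 n17915
theorem D20531 : act 3 n17915 = n20531 := rfl
theorem F38377 : act 1 n20531 = n17920 := d6_1 D20531 (iv D17920) (iv F32236)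
def n20532 : Q := act 4 n17916
theorem D20532 : act 4 n17916 = n20532 := rfl
theorem F38378 : act 0 n20532 = n18122 := d3_1 D20532 (iv D18122) (iv F32238)
theorem F38379 : act 1 n20532 = n17917 := d7_1 D20532 (iv D17917) D17916
def n20533 : Q := act 5 n17917
theorem D20533 : act 5 n17917 = n20533 := rfl
theorem F38380 : act 0 n20533 = n17942 := d4_1 D20533 F32282 (iv F32241)
theorem F38381 : act 2 n20533 = n17918 := d11_1 D20533 (iv D17918) (iv F32242)
theorem F38382 : act 4 n20533 = n17936 := d14_1 D20533 (iv D17936) (iv D14901) F25734 D17917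
def n20534 : Q := act 4 n17918
theorem D20534 : act 4 n17918 = n20534 := rfl
theorem F38383 : act 0 n20534 = n17941 := d3_1 D20534 (iv F38338) F38336
theorem F38384 : act 2 n20534 = n17936 := d10_1 D20534 (iv F38382) F38381
theorem F38385 : act 5 n20534 = n17919 := d14_2 D17918 D20534 (iv D17919) (iv D14879) D14878
def n20535 : Q := act 3 n17919
theorem D20535 : act 3 n17919 = n20535 := rfl
theorem F38386 : act 0 n20535 = n17940 := d2_1 D20535 (iv D17940) (iv F32243)
theorem F38387 : act 4 n20535 = n17920 := d12_2 D17919 D20535 (iv D17920) (iv D14880) (iv F25737)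
def n20536 : Q := act 2 n17920
theorem D20536 : act 2 n17920 = n20536 := rfl
def n20537 : Q := act 2 n17921
theorem D20537 : act 2 n17921 = n20537 := rfl
theorem F38388 : act 0 n20537 = n17923 := d1_1 D20537 (iv D17923) (iv F32245)
def n20538 : Q := act 3 n17923
theorem D20538 : act 3 n17923 = n20538 := rfl
def n20539 : Q := act 0 n17924
theorem D20539 : act 0 n17924 = n20539 := rfl
theorem F38389 : act 1 n20539 = n18028 := d0_2 D17924 D20539 F32471 F25993 (iv F25746)
theorem F38390 : act 3 n20539 = n18037 := d2_2 (iv F32247) D20539 (iv D18037)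
theorem F38391 : act 4 n20539 = n18366 := d3_2 (iv F32248) D20539 F33274
theorem F38392 : act 5 n20539 = n17925 := d4_2 (iv F32249) D20539 (iv D17925)
def n20540 : Q := act 3 n17925
theorem D20540 : act 3 n17925 = n20540 := rfl
theorem F38393 : act 0 n20540 = n17926 := d2_1 D20540 (iv D17926) D17925
theorem F38394 : act 1 n20540 = n18027 := d6_1 D20540 (iv D18027) (iv F32250)
theorem F38395 : act 5 n20540 = n18037 := d13_2 F38392 D20540 (iv F38390)
theorem F38396 : act 4 n18368 = n20540 := d14_5 F38395 F32501 F26831 D15387 D18368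
def n20541 : Q := act 2 n17926
theorem D20541 : act 2 n17926 = n20541 := rfl
theorem F38397 : act 1 n20541 = n18035 := d5_1 D20541 F32494 F26011 (iv F25752) (iv F32252)
theorem F38398 : act 4 n20541 = n18369 := d10_2 F32254 D20541 F33281
theorem F38399 : act 5 n20541 = n18033 := d11_2 (iv F32253) D20541 F32492
def n20542 : Q := act 0 n17929
theorem D20542 : act 0 n17929 = n20542 := rfl
theorem F38400 : act 1 n20542 = n18399 := d0_2 D17929 D20542 F33337 F27014 (iv F25765)
theorem F38401 : act 2 n20542 = n19307 := d1_2 (iv F32261) D20542 F35502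
theorem F38402 : act 3 n20542 = n18353 := d2_2 (iv F32262) D20542 (iv D18353)
theorem F38403 : act 4 n20542 = n17930 := d3_2 (iv F32263) D20542 (iv D17930)
theorem F38404 : act 5 n20542 = n18366 := d4_2 (iv F32264) D20542 F33274
def n20543 : Q := act 4 n17931
theorem D20543 : act 4 n17931 = n20543 := rfl
theorem F38405 : act 0 n20543 = n17933 := d3_1 D20543 (iv D17933) (iv F32267)
theorem F38406 : act 1 n20543 = n18398 := d7_1 D20543 (iv F38175) (iv F38178)
theorem F38407 : act 2 n20543 = n19107 := d10_1 D20543 (iv F38187) F38185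
theorem F38408 : act 3 n20543 = n18368 := d12_1 D20543 F38396 (iv D20540) F32251 D17931
theorem F38409 : act 5 n20543 = n18355 := d14_2 (iv F32268) D20543 (iv D18355) F26879 D15455
def n20544 : Q := act 4 n17932
theorem D20544 : act 4 n17932 = n20544 := rfl
theorem F38410 : act 0 n20544 = n19107 := d3_1 D20544 (iv F38187) F38184
theorem F38411 : act 1 n20544 = n18410 := d7_1 D20544 (iv D18410) (iv F32269)
theorem F38412 : act 2 n20544 = n17933 := d10_1 D20544 (iv D17933) D17932
theorem F38413 : act 3 n20544 = n19095 := d12_1 D20544 (iv D19095) F28714 D16253 F32271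
theorem F38414 : act 5 n20544 = n18357 := d14_2 (iv F32270) D20544 (iv D18357) F26881 D15446
def n20545 : Q := act 3 n17934
theorem D20545 : act 3 n17934 = n20545 := rfl
def n20546 : Q := act 4 n17934
theorem D20546 : act 4 n17934 = n20546 := rfl
theorem F38415 : act 2 n20546 = n17935 := d10_1 D20546 (iv D17935) D17934
def n20547 : Q := act 5 n17935
theorem D20547 : act 5 n17935 = n20547 := rfl
theorem F38416 : act 1 n20547 = n17936 := d8_1 D20547 (iv D17936) (iv F32275)
def n20548 : Q := act 4 n17938
theorem D20548 : act 4 n17938 = n20548 := rfl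
theorem F38417 : act 0 n20548 = n17939 := d3_1 D20548 (iv D17939) D17938
def n20549 : Q := act 3 n17939
theorem D20549 : act 3 n17939 = n20549 := rfl
theorem F38418 : act 1 n20549 = n17940 := d6_1 D20549 (iv D17940) (iv F32279)
def n20550 : Q := act 5 n17939
theorem D20550 : act 5 n17939 = n20550 := rfl
theorem F38419 : act 1 n20550 = n17941 := d8_1 D20550 (iv D17941) (iv F32279)
def n20551 : Q := act 2 n17940
theorem D20551 : act 2 n17940 = n20551 := rfl
def n20552 : Q := act 5 n17940
theorem D20552 : act 5 n17940 = n20552 := rfl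
theorem F38420 : act 3 n20552 = n17941 := d13_1 D20552 (iv D17941) D17940
def n20553 : Q := act 3 n17943
theorem D20553 : act 3 n17943 = n20553 := rfl
theorem F38421 : act 0 n20553 = n18110 := d2_1 D20553 (iv F35737) F35735
theorem F38422 : act 1 n20553 = n17973 := d6_1 D20553 (iv D17973) (iv F32283)
theorem F38423 : act 5 n20553 = n17947 := d13_2 (iv F32284) D20553 (iv D17947)
theorem F38424 : act 2 n20553 = n18106 := d15_2 D17943 D20553 (iv D18106) (iv D15110) (iv D12029) (iv F19934) D14909 (iv F29486) F29484
def n20554 : Q := act 4 n17943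
theorem D20554 : act 4 n17943 = n20554 := rfl
theorem F38425 : act 1 n20554 = n17974 := d7_1 D20554 (iv D17974) (iv F32283)
theorem F38426 : act 2 n20554 = n17944 := d10_1 D20554 (iv D17944) D17943
theorem F38427 : act 5 n20554 = n18412 := d14_2 (iv F32284) D20554 F33365 F27031 (iv F25799)
def n20555 : Q := act 3 n17945
theorem D20555 : act 3 n17945 = n20555 := rfl
theorem F38428 : act 0 n20555 = n17947 := d2_1 D20555 (iv D17947) (iv F32288)
theorem F38429 : act 1 n20555 = n20263 := d6_1 D20555 F37736 F35707
theorem F38430 : act 2 n20555 = n18092 := d9_1 D20555 (iv D18092) F26227 F20261 (iv F19927) D14907 D17943 D20553 F38424 (iv D18106) (iv D15110) (iv D12029) (iv F19934) D14909 D17945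
theorem F38431 : act 5 n20555 = n18110 := d13_2 F35736 D20555 (iv F35737)
def n20556 : Q := act 0 n17946
theorem D20556 : act 0 n17946 = n20556 := rfl
theorem F38432 : act 1 n20556 = n20265 := d0_2 D17946 D20556 F37740 F35707 F32288
theorem F38433 : act 2 n20556 = n17948 := d1_2 (iv F32290) D20556 (iv D17948)
theorem F38434 : act 4 n20556 = n18421 := d3_2 (iv F32291) D20556 (iv D18421)
theorem F38435 : act 5 n20556 = n17971 := d4_2 (iv F32292) D20556 F32339
theorem F38436 : act 3 n18082 = n20556 := d13_3 F38435 F32340 (iv F32601)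
def n20557 : Q := act 3 n17946
theorem D20557 : act 3 n17946 = n20557 := rfl
theorem F38437 : act 0 n20557 = n18082 := d2_1 D20557 F38436 (iv D20556)
theorem F38438 : act 1 n20557 = n17947 := d6_1 D20557 (iv D17947) D17946
theorem F38439 : act 2 n20557 = n18079 := d9_1 D20557 (iv D18079) (iv D15084) (iv D12008) (iv F19970) D14933 D17971 F32340 (iv D17600) (iv D14557) F19335 F17602 (iv F19968) (iv F25800) (iv F32290)
theorem F38440 : act 5 n20557 = n17973 := d13_2 (iv F32292) D20557 (iv D17973)
def n20558 : Q := act 2 n17947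
theorem D20558 : act 2 n17947 = n20558 := rfl
theorem F38441 : act 0 n20558 = n18092 := d1_1 D20558 (iv F38430) F38428
theorem F38442 : act 1 n20558 = n20282 := d5_1 D20558 F37782 (iv F32593) (iv F38439) F38438
theorem F38443 : act 3 n20558 = n18091 := d9_2 D17947 D20558 F32619 F26235 (iv F22973) D16609 D19422 F35737 (iv D18110) (iv D15113) (iv D12031) (iv D9382) (iv F15362) D11840 D14910
theorem F38444 : act 5 n20558 = n18106 := d11_2 F38423 D20558 (iv F38424)
def n20559 : Q := act 4 n17947
theorem D20559 : act 4 n17947 = n20559 := rfl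
theorem F38445 : act 3 n20559 = n18423 := d12_1 D20559 (iv D18423) (iv D15465) (iv F25799) D17947
def n20560 : Q := act 4 n17949
theorem D20560 : act 4 n17949 = n20560 := rfl
theorem F38446 : act 0 n20560 = n17951 := d3_1 D20560 (iv D17951) (iv F32297)
theorem F38447 : act 2 n20560 = n18344 := d10_1 D20560 (iv D18344) (iv F32299)
theorem F38448 : act 3 n20560 = n17955 := d12_1 D20560 (iv D17955) (iv D14916) (iv F25804) D17949
def n20561 : Q := act 4 n17950
theorem D20561 : act 4 n17950 = n20561 := rfl
theorem F38449 : act 0 n20561 = n18344 := d3_1 D20561 (iv D18344) (iv F32300)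
theorem F38450 : act 2 n20561 = n17951 := d10_1 D20561 (iv D17951) D17950
def n20562 : Q := act 5 n17951
theorem D20562 : act 5 n17951 = n20562 := rfl
theorem F38451 : act 1 n20562 = n17952 := d8_1 D20562 (iv D17952) (iv F32303)
theorem F38452 : act 3 n20562 = n17959 := d13_1 D20562 (iv D17959) (iv F32304)
theorem F38453 : act 4 n20562 = n18364 := d14_1 D20562 (iv D18364) (iv D15383) (iv F25807) D17951
def n20563 : Q := act 1 n17954
theorem D20563 : act 1 n17954 = n20563 := rfl
def n20564 : Q := act 4 n17954
theorem D20564 : act 4 n17954 = n20564 := rfl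
theorem F38454 : act 0 n20564 = n17958 := d3_1 D20564 (iv D17958) (iv F32311)
theorem F38455 : act 2 n20564 = n17955 := d10_1 D20564 (iv D17955) D17954
def n20565 : Q := act 5 n17955
theorem D20565 : act 5 n17955 = n20565 := rfl
theorem F38456 : act 0 n20565 = n17959 := d4_1 D20565 (iv D17959) (iv F32312)
def n20566 : Q := act 3 n17956
theorem D20566 : act 3 n17956 = n20566 := rfl
theorem F38457 : act 0 n20566 = n17960 := d2_1 D20566 (iv D17960) (iv F32313)
theorem F38458 : act 5 n20566 = n18361 := d13_2 (iv F32315) D20566 (iv D18361)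
def n20567 : Q := act 4 n17957
theorem D20567 : act 4 n17957 = n20567 := rfl
theorem F38459 : act 1 n20567 = n19562 := d7_1 D20567 F36143 (iv F33768)
def n20568 : Q := act 3 n17958
theorem D20568 : act 3 n17958 = n20568 := rfl
def n20569 : Q := act 5 n17958
theorem D20569 : act 5 n17958 = n20569 := rfl
theorem F38460 : act 2 n20569 = n17959 := d11_1 D20569 (iv D17959) (iv F32316)
def n20570 : Q := act 2 n17960
theorem D20570 : act 2 n17960 = n20570 := rfl
theorem F38461 : act 5 n20570 = n18365 := d11_2 (iv F32319) D20570 (iv D18365)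
def n20571 : Q := act 3 n17962
theorem D20571 : act 3 n17962 = n20571 := rfl
theorem F38462 : act 0 n20571 = n19465 := d2_1 D20571 (iv F38282) F38279
theorem F38463 : act 1 n20571 = n17963 := d6_1 D20571 (iv D17963) D17962
theorem F38464 : act 2 n20571 = n19466 := d9_1 D20571 (iv F35873) F33765 F27726 F32208 (iv D17893) (iv F32156) D20482 F38276 F35877 F33760 D18650 (iv F33962) (iv F38331) F38330
theorem F38465 : act 4 n20571 = n19464 := d12_2 (iv F33390) D20571 F35867 (iv F30343) D18427
def n20572 : Q := act 2 n17965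
theorem D20572 : act 2 n17965 = n20572 := rfl
theorem F38466 : act 0 n20572 = n17968 := d1_1 D20572 (iv D17968) (iv F32328)
theorem F38467 : act 5 n20572 = n18350 := d11_2 (iv F32329) D20572 F33249
def n20573 : Q := act 1 n17966
theorem D20573 : act 1 n17966 = n20573 := rfl
theorem F38468 : act 0 n20573 = n19462 := d0_1 D20573 F35858 F33778 (iv F33805) F33804
theorem F38469 : act 2 n20573 = n19460 := d5_2 D17966 D20573 F35852 F29614 F25828
theorem F38470 : act 4 n20573 = n19459 := d7_2 (iv F32330) D20573 F35848
def n20574 : Q := act 3 n17969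
theorem D20574 : act 3 n17969 = n20574 := rfl
theorem F38471 : act 0 n20574 = n17970 := d2_1 D20574 (iv D17970) D17969
theorem F38472 : act 4 n20574 = n18424 := d12_2 (iv F32336) D20574 (iv D18424) (iv F32295) F32294
def n20575 : Q := act 2 n17970
theorem D20575 : act 2 n17970 = n20575 := rfl
theorem F38473 : act 4 n20575 = n18425 := d10_2 (iv F32338) D20575 (iv D18425)
def n20576 : Q := act 1 n17971
theorem D20576 : act 1 n17971 = n20576 := rfl
theorem F38474 : act 3 n20576 = n20267 := d6_2 (iv F32340) D20576 F37743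
theorem F38475 : act 5 n20576 = n20265 := d8_2 F38435 D20576 (iv F38432)
def n20577 : Q := act 4 n17971
theorem D20577 : act 4 n17971 = n20577 := rfl
theorem F38476 : act 0 n20577 = n17974 := d3_1 D20577 (iv D17974) (iv F32339)
theorem F38477 : act 2 n20577 = n17972 := d10_1 D20577 (iv D17972) D17971
def n20578 : Q := act 5 n17972
theorem D20578 : act 5 n17972 = n20578 := rfl
theorem F38478 : act 0 n20578 = n17975 := d4_1 D20578 (iv D17975) (iv F32341)
theorem F38479 : act 4 n20578 = n18415 := d14_1 D20578 F33369 (iv F32295) F32296 D17972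
def n20579 : Q := act 4 n17973
theorem D20579 : act 4 n17973 = n20579 := rfl
theorem F38480 : act 0 n20579 = n18084 := d3_1 D20579 F32603 (iv F32342)
theorem F38481 : act 2 n20579 = n18081 := d10_1 D20579 F32599 (iv F32343)
def n20580 : Q := act 3 n17974
theorem D20580 : act 3 n17974 = n20580 := rfl
def n20581 : Q := act 5 n17974
theorem D20581 : act 5 n17974 = n20581 := rfl
theorem F38482 : act 1 n20581 = n18412 := d8_1 D20581 (iv F38427) F38425
theorem F38483 : act 2 n20581 = n17975 := d11_1 D20581 (iv D17975) (iv F32344)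
theorem F38484 : act 4 n20581 = n18413 := d14_1 D20581 F33367 (iv F32291) F32292 D17974
def n20582 : Q := act 4 n17977
theorem D20582 : act 4 n17977 = n20582 := rfl
theorem F38485 : act 0 n20582 = n17978 := d3_1 D20582 (iv D17978) D17977
theorem F38486 : act 1 n20582 = n20310 := d7_1 D20582 F37857 F35704
theorem F38487 : act 2 n20582 = n17981 := d10_1 D20582 (iv D17981) (iv F32350)
theorem F38488 : act 3 n20309 = n20582 := d15_3 (iv F32376) F32377 (iv F37855) F38487 (iv F38063) F38062 (iv F35212) F35214 F34198
def n20583 : Q := act 3 n17978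
theorem D20583 : act 3 n17978 = n20583 := rfl
theorem F38489 : act 0 n20583 = n20309 := d2_1 D20583 F38488 F38485
theorem F38490 : act 1 n20583 = n17979 := d6_1 D20583 (iv D17979) (iv F32351)
theorem F38491 : act 2 n20313 = n20583 := d15_0 (iv D20583) F32352 (iv F31875) F31874 (iv F28947) F28946 D17987 (iv F32374) D20313
def n20584 : Q := act 2 n17979
theorem D20584 : act 2 n17979 = n20584 := rfl
theorem F38492 : act 0 n20584 = n18754 := d1_1 D20584 (iv F35716) F35714
theorem F38493 : act 4 n20584 = n18752 := d10_2 F34070 D20584 F34166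
theorem F38494 : act 3 n20584 = n18066 := d15_3 (iv F25853) D17979 D20584 F32564 (iv F32363) F32362 (iv F32349) (iv D17976) F25849
theorem F38495 : act 1 n19692 = n20584 := d6_3 F38494 F32563 D19692
def n20585 : Q := act 5 n17979
theorem D20585 : act 5 n17979 = n20585 := rfl
theorem F38496 : act 3 n20585 = n17980 := d13_1 D20585 (iv D17980) D17979
def n20586 : Q := act 2 n17982
theorem D20586 : act 2 n17982 = n20586 := rfl
theorem F38497 : act 0 n20586 = n17984 := d1_1 D20586 (iv D17984) (iv F32356)
theorem F38498 : act 1 n20586 = n19693 := d5_1 D20586 F36442 F30125 (iv F27792) (iv F32357)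
theorem F38499 : act 4 n20586 = n18674 := d10_2 (iv F32358) D20586 F34028
theorem F38500 : act 5 n20586 = n18066 := d11_2 F32359 D20586 F32564
def n20587 : Q := act 3 n17984
theorem D20587 : act 3 n17984 = n20587 := rfl
theorem F38501 : act 5 n20587 = n18754 := d13_2 F32366 D20587 (iv D18754)
def n20588 : Q := act 3 n17986
theorem D20588 : act 3 n17986 = n20588 := rfl
theorem F38502 : act 0 n20588 = n17987 := d2_1 D20588 (iv D17987) (iv F32372)
theorem F38503 : act 5 n20588 = n20313 := d15_8 (iv F37855) F38488 F38487 (iv F38063) F38062 (iv F35212) F35211 D20588 (iv D20313)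
def n20589 : Q := act 5 n17986
theorem D20589 : act 5 n17986 = n20589 := rfl
theorem F38504 : act 0 n20589 = n17988 := d4_1 D20589 (iv D17988) (iv F32372)
theorem F38505 : act 2 n20589 = n18782 := d11_1 D20589 (iv F35214) F35211
theorem F38506 : act 3 n20589 = n20313 := d13_1 D20589 (iv F38503) (iv D20588)
def n20590 : Q := act 2 n17987
theorem D20590 : act 2 n17987 = n20590 := rfl
theorem F38507 : act 1 n20590 = n20311 := d5_1 D20590 F37858 F31653 (iv F25868) (iv F32373)
theorem F38508 : act 5 n20590 = n20309 := d11_2 F32374 D20590 F37855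
def n20591 : Q := act 0 n17991
theorem D20591 : act 0 n17991 = n20591 := rfl
theorem F38509 : act 1 n20591 = n18015 := d0_2 D17991 D20591 (iv D18015) (iv D14985) (iv F25879)
theorem F38510 : act 2 n20591 = n18734 := d1_2 (iv F32384) D20591 (iv D18734)
theorem F38511 : act 3 n20591 = n18211 := d2_2 (iv F32385) D20591 F32925
theorem F38512 : act 4 n20591 = n17992 := d3_2 (iv F32386) D20591 (iv D17992)
theorem F38513 : act 5 n20591 = n18205 := d4_2 (iv F32387) D20591 F32911
def n20592 : Q := act 2 n17993
theorem D20592 : act 2 n17993 = n20592 := rfl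
theorem F38514 : act 0 n20592 = n17994 := d1_1 D20592 (iv D17994) (iv F32390)
theorem F38515 : act 5 n20592 = n19902 := d11_2 (iv F32392) D20592 (iv D19902)
def n20593 : Q := act 4 n17993
theorem D20593 : act 4 n17993 = n20593 := rfl
theorem F38516 : act 0 n20593 = n17995 := d3_1 D20593 (iv D17995) (iv F32390)
theorem F38517 : act 1 n20593 = n18275 := d7_1 D20593 F33078 (iv F32391)
theorem F38518 : act 3 n20593 = n17997 := d12_1 D20593 (iv D17997) (iv D14964) (iv F25887) D17993
theorem F38519 : act 5 n20593 = n19959 := d14_2 (iv F32392) D20593 (iv D19959) (iv D17184) (iv F30581)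
def n20594 : Q := act 3 n17994
theorem D20594 : act 3 n17994 = n20594 := rfl
theorem F38520 : act 5 n20594 = n19909 := d13_2 (iv F32393) D20594 (iv D19909)
def n20595 : Q := act 4 n17994
theorem D20595 : act 4 n17994 = n20595 := rfl
theorem F38521 : act 2 n20595 = n17995 := d10_1 D20595 (iv D17995) D17994
theorem F38522 : act 5 n20595 = n19962 := d14_2 (iv F32393) D20595 (iv D19962) (iv D17187) (iv F30591)
def n20596 : Q := act 4 n17996
theorem D20596 : act 4 n17996 = n20596 := rfl
theorem F38523 : act 0 n20596 = n17998 := d3_1 D20596 (iv D17998) (iv F32397)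
theorem F38524 : act 1 n20596 = n18235 := d7_1 D20596 (iv D18235) (iv F32398)
theorem F38525 : act 2 n20596 = n17997 := d10_1 D20596 (iv D17997) D17996
def n20597 : Q := act 5 n17997
theorem D20597 : act 5 n17997 = n20597 := rfl
theorem F38526 : act 0 n20597 = n17999 := d4_1 D20597 (iv D17999) (iv F32401)
theorem F38527 : act 1 n20597 = n18276 := d8_1 D20597 (iv D18276) (iv F32402)
theorem F38528 : act 3 n20597 = n19959 := d13_1 D20597 (iv F38519) F38518
theorem F38529 : act 4 n20597 = n18272 := d14_1 D20597 (iv D18272) (iv D15282) (iv F25896) D17997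
def n20598 : Q := act 3 n17998
theorem D20598 : act 3 n17998 = n20598 := rfl
theorem F38530 : act 1 n20598 = n18262 := d6_1 D20598 (iv D18262) (iv F32403)
def n20599 : Q := act 5 n17998
theorem D20599 : act 5 n17998 = n20599 := rfl
theorem F38531 : act 1 n20599 = n18261 := d8_1 D20599 F33057 (iv F32403)
theorem F38532 : act 2 n20599 = n17999 := d11_1 D20599 (iv D17999) (iv F32404)
theorem F38533 : act 4 n20599 = n18274 := d14_1 D20599 (iv D18274) (iv D15283) (iv F25898) D17998
def n20600 : Q := act 3 n18000
theorem D20600 : act 3 n18000 = n20600 := rfl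
theorem F38534 : act 0 n20600 = n18004 := d2_1 D20600 (iv D18004) (iv F32408)
theorem F38535 : act 5 n20600 = n18689 := d13_2 (iv F32410) D20600 (iv D18689)
theorem F38536 : act 2 n20600 = n18708 := d15_2 (iv F32409) D20600 (iv D18708) (iv D15837) (iv D12783) F16702 D10011 (iv F20029) (iv F25908)
def n20601 : Q := act 5 n18001
theorem D20601 : act 5 n18001 = n20601 := rfl
theorem F38537 : act 1 n20601 = n18002 := d8_1 D20601 (iv D18002) (iv F32411)
theorem F38538 : act 3 n20601 = n18747 := d13_1 D20601 (iv D18747) (iv F32412)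
theorem F38539 : act 4 n20601 = n18758 := d14_1 D20601 (iv D18758) (iv D15876) (iv F25916) D18001
def n20602 : Q := act 4 n18002
theorem D20602 : act 4 n18002 = n20602 := rfl
theorem F38540 : act 0 n20602 = n20541 := d3_1 D20602 F38398 F33280
theorem F38541 : act 1 n20602 = n18758 := d7_1 D20602 (iv F38539) F38537
theorem F38542 : act 2 n20602 = n20540 := d10_1 D20602 (iv F38396) F33279
theorem F38543 : act 5 n20602 = n18003 := d14_2 D18002 D20602 (iv D18003) (iv D14974) D14973
def n20603 : Q := act 3 n18003
theorem D20603 : act 3 n18003 = n20603 := rfl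
theorem F38544 : act 1 n20603 = n18757 := d6_1 D20603 (iv D18757) (iv F32414)
theorem F38545 : act 4 n20603 = n18004 := d12_2 D18003 D20603 (iv D18004) (iv D14975) (iv F25919)
def n20604 : Q := act 2 n18004
theorem D20604 : act 2 n18004 = n20604 := rfl
theorem F38546 : act 0 n20604 = n18708 := d1_1 D20604 (iv F38536) F38534
theorem F38547 : act 5 n20604 = n18711 := d11_2 (iv F32416) D20604 (iv D18711)
theorem F38548 : act 3 n20604 = n18687 := d15_1 D20604 (iv D18687) (iv D15822) F21568 D12772 D15823 D18689 (iv F38535) F38534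
def n20605 : Q := act 1 n18005
theorem D20605 : act 1 n18005 = n20605 := rfl
theorem F38549 : act 2 n20605 = n18730 := d5_2 D18005 D20605 (iv D18730) (iv D15853) (iv F25923)
def n20606 : Q := act 4 n18006
theorem D20606 : act 4 n18006 = n20606 := rfl
theorem F38550 : act 1 n20606 = n18733 := d7_1 D20606 (iv D18733) (iv F32417)
def n20607 : Q := act 4 n18007
theorem D20607 : act 4 n18007 = n20607 := rfl
theorem F38551 : act 0 n20607 = n18242 := d3_1 D20607 (iv D18242) (iv F32419)
theorem F38552 : act 1 n20607 = n18271 := d7_1 D20607 (iv D18271) (iv F32420)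
theorem F38553 : act 2 n20607 = n18237 := d10_1 D20607 (iv D18237) (iv F32421)
def n20608 : Q := act 3 n18008
theorem D20608 : act 3 n18008 = n20608 := rfl
theorem F38554 : act 0 n20608 = n18263 := d2_1 D20608 (iv D18263) (iv F32423)
theorem F38555 : act 1 n20608 = n18273 := d6_1 D20608 (iv D18273) (iv F32424)
def n20609 : Q := act 5 n18008
theorem D20609 : act 5 n18008 = n20609 := rfl
theorem F38556 : act 0 n20609 = n18264 := d4_1 D20609 (iv D18264) (iv F32423)
theorem F38557 : act 1 n20609 = n18274 := d8_1 D20609 (iv D18274) (iv F32424)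
theorem F38558 : act 2 n20609 = n18009 := d11_1 D20609 (iv D18009) (iv F32425)
theorem F38559 : act 4 n20609 = n18261 := d14_1 D20609 F33057 F26663 (iv F25928) D18008
def n20610 : Q := act 1 n18010
theorem D20610 : act 1 n18010 = n20610 := rfl
theorem F38560 : act 2 n20610 = n18722 := d5_2 D18010 D20610 (iv D18722) (iv D15847) (iv F25937)
theorem F38561 : act 4 n20610 = n18721 := d7_2 (iv F32431) D20610 (iv D18721)
def n20611 : Q := act 3 n18010
theorem D20611 : act 3 n18010 = n20611 := rfl
theorem F38562 : act 0 n20611 = n18013 := d2_1 D20611 (iv D18013) (iv F32430)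
def n20612 : Q := act 5 n18010
theorem D20612 : act 5 n18010 = n20612 := rfl
theorem F38563 : act 0 n20612 = n18014 := d4_1 D20612 (iv D18014) (iv F32430)
theorem F38564 : act 2 n20612 = n18011 := d11_1 D20612 (iv D18011) D18010
def n20613 : Q := act 0 n18012
theorem D20613 : act 0 n18012 = n20613 := rfl
theorem F38565 : act 2 n20613 = n18015 := d1_2 (iv F32435) D20613 (iv D18015)
theorem F38566 : act 3 n20613 = n18127 := d2_2 (iv F33987) D20613 (iv F33983)
theorem F38567 : act 5 n20613 = n18126 := d4_2 F32436 D20613 F32690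
def n20614 : Q := act 2 n18013
theorem D20614 : act 2 n18013 = n20614 := rfl
def n20615 : Q := act 3 n18016
theorem D20615 : act 3 n18016 = n20615 := rfl
theorem F38568 : act 0 n20615 = n18811 := d2_1 D20615 (iv F35551) F35549
theorem F38569 : act 1 n20615 = n18017 := d6_1 D20615 (iv D18017) D18016
theorem F38570 : act 4 n20615 = n18017 := d12_2 F35534 D20615 (iv D18017) (iv F29301) F35535
theorem F38571 : act 2 n18818 = n20615 := d10_3 F38570 F32442 D18818
theorem F38572 : act 5 n20615 = n18815 := d11_2 F37661 F38571 (iv F37659)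
def n20616 : Q := act 5 n18016
theorem D20616 : act 5 n18016 = n20616 := rfl
theorem F38573 : act 1 n20616 = n18018 := d8_1 D20616 (iv D18018) D18016
theorem F38574 : act 3 n20616 = n18815 := d13_1 D20616 (iv F38572) (iv D20615)
def n20617 : Q := act 4 n18018
theorem D20617 : act 4 n18018 = n20617 := rfl
theorem F38575 : act 0 n20617 = n18812 := d3_1 D20617 (iv D18812) (iv F32444)
theorem F38576 : act 2 n20617 = n18019 := d10_1 D20617 (iv D18019) (iv F32445)
def n20618 : Q := act 3 n18023
theorem D20618 : act 3 n18023 = n20618 := rfl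
theorem F38577 : act 0 n20618 = n19807 := d2_1 D20618 (iv D19807) (iv F32458)
theorem F38578 : act 1 n20618 = n18435 := d6_1 D20618 (iv D18435) (iv F32459)
theorem F38579 : act 4 n20618 = n19891 := d12_2 D18023 D20618 (iv D19891) (iv D17119) (iv F25977)
def n20619 : Q := act 0 n18024
theorem D20619 : act 0 n18024 = n20619 := rfl
theorem F38580 : act 1 n20619 = n18026 := d0_2 D18024 D20619 (iv D18026) (iv D14999) (iv F25980)
theorem F38581 : act 3 n20619 = n20042 := d2_2 (iv F32461) D20619 F37232
theorem F38582 : act 5 n20619 = n20041 := d4_2 (iv F32462) D20619 F37229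
def n20620 : Q := act 4 n18027
theorem D20620 : act 4 n18027 = n20620 := rfl
theorem F38583 : act 0 n20620 = n18029 := d3_1 D20620 (iv D18029) (iv F32468)
theorem F38584 : act 1 n20620 = n18368 := d7_1 D20620 F38396 F38394
theorem F38585 : act 2 n20620 = n19966 := d10_1 D20620 F37020 (iv F32469)
theorem F38586 : act 3 n20620 = n18398 := d12_1 D20620 (iv F38175) F38177 F32199 D18027
theorem F38587 : act 5 n20620 = n18333 := d14_2 (iv F32470) D20620 (iv D18333) F26808 D15394
def n20621 : Q := act 5 n18031
theorem D20621 : act 5 n18031 = n20621 := rfl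
theorem F38588 : act 0 n20621 = n18035 := d4_1 D20621 (iv D18035) (iv F32484)
theorem F38589 : act 1 n20621 = n19948 := d8_1 D20621 (iv D19948) (iv F32485)
theorem F38590 : act 2 n20621 = n18032 := d11_1 D20621 (iv D18032) D18031
theorem F38591 : act 4 n20621 = n19964 := d14_1 D20621 (iv D19964) (iv D17191) (iv F26821) (iv F32486)
def n20622 : Q := act 3 n18033
theorem D20622 : act 3 n18033 = n20622 := rfl
theorem F38592 : act 0 n20622 = n20603 := d2_1 D20622 (iv D20603) (iv F32491)
theorem F38593 : act 1 n20622 = n18034 := d6_1 D20622 (iv D18034) D18033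
theorem F38594 : act 4 n20622 = n20600 := d12_2 (iv F32493) D20622 (iv D20600) (iv D18000) F26825
def n20623 : Q := act 4 n18034
theorem D20623 : act 4 n18034 = n20623 := rfl
theorem F38595 : act 1 n20623 = n20600 := d7_1 D20623 (iv F38594) F38593
theorem F38596 : act 3 n20623 = n18335 := d12_1 D20623 (iv D18335) (iv D15353) (iv F26010) D18034
def n20624 : Q := act 5 n18034
theorem D20624 : act 5 n18034 = n20624 := rfl
theorem F38597 : act 3 n20624 = n18035 := d13_1 D20624 (iv D18035) D18034
def n20625 : Q := act 4 n18035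
theorem D20625 : act 4 n18035 = n20625 := rfl
theorem F38598 : act 0 n20625 = n19964 := d3_1 D20625 (iv F38591) F38588
theorem F38599 : act 1 n20625 = n18369 := d7_1 D20625 (iv F38398) F38397
theorem F38600 : act 2 n20625 = n18036 := d10_1 D20625 (iv D18036) (iv F32494)
theorem F38601 : act 5 n20625 = n18334 := d14_2 D18035 D20625 (iv D18334) F26815 (iv F26010)
def n20626 : Q := act 0 n18038
theorem D20626 : act 0 n18038 = n20626 := rfl
theorem F38602 : act 1 n20626 = n18210 := d0_2 D18038 D20626 F32923 F26517 (iv F26018)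
theorem F38603 : act 2 n20626 = n18044 := d1_2 (iv F32502) D20626 (iv D18044)
theorem F38604 : act 4 n20626 = n18041 := d3_2 (iv F32503) D20626 (iv D18041)
theorem F38605 : act 5 n20626 = n19943 := d4_2 F37637 D20626 (iv F37634)
def n20627 : Q := act 3 n18038
theorem D20627 : act 3 n18038 = n20627 := rfl
theorem F38606 : act 1 n20627 = n18039 := d6_1 D20627 (iv D18039) D18038
def n20628 : Q := act 4 n18039
theorem D20628 : act 4 n18039 = n20628 := rfl
theorem F38607 : act 0 n20628 = n18761 := d3_1 D20628 (iv D18761) (iv F32504)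
theorem F38608 : act 2 n20628 = n20225 := d10_1 D20628 (iv F38296) F38294
theorem F38609 : act 3 n20628 = n18043 := d12_1 D20628 (iv D18043) (iv D15015) (iv F26019) D18039
theorem F38610 : act 5 n20224 = n20628 := d13_0 F38609 (iv F34002) (iv F37627)
def n20629 : Q := act 0 n18049
theorem D20629 : act 0 n18049 = n20629 := rfl
theorem F38611 : act 2 n20629 = n18053 := d1_2 (iv F32530) D20629 (iv D18053)
def n20630 : Q := act 4 n18050
theorem D20630 : act 4 n18050 = n20630 := rfl
def n20631 : Q := act 4 n18051
theorem D20631 : act 4 n18051 = n20631 := rfl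
theorem F38612 : act 2 n20631 = n18052 := d10_1 D20631 (iv D18052) (iv F32531)
def n20632 : Q := act 5 n18053
theorem D20632 : act 5 n18053 = n20632 := rfl
theorem F38613 : act 0 n20632 = n18055 := d4_1 D20632 (iv D18055) D18053
def n20633 : Q := act 4 n18055
theorem D20633 : act 4 n18055 = n20633 := rfl
theorem F38614 : act 1 n20633 = n18057 := d7_1 D20633 (iv D18057) (iv F32535)
def n20634 : Q := act 5 n18067
theorem D20634 : act 5 n18067 = n20634 := rfl
theorem F38615 : act 1 n20634 = n18069 := d8_1 D20634 (iv D18069) (iv F32565)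
theorem F38616 : act 3 n20634 = n18611 := d13_1 D20634 (iv D18611) (iv F32566)
def n20635 : Q := act 3 n18068
theorem D20635 : act 3 n18068 = n20635 := rfl
theorem F38617 : act 1 n20635 = n18070 := d6_1 D20635 (iv D18070) (iv F32567)
theorem F38618 : act 5 n20635 = n18612 := d13_2 (iv F32568) D20635 (iv D18612)
def n20636 : Q := act 4 n18071
theorem D20636 : act 4 n18071 = n20636 := rfl
theorem F38619 : act 1 n20636 = n18076 := d7_1 D20636 (iv D18076) (iv F32572)
theorem F38620 : act 2 n20636 = n20069 := d10_1 D20636 (iv D20069) (iv F32573)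
theorem F38621 : act 3 n20636 = n18083 := d12_1 D20636 (iv D18083) (iv D15087) D15088 (iv F32574)
theorem F38622 : act 5 n20636 = n18072 := d14_2 D18071 D20636 (iv D18072) (iv D15078) D15077
def n20637 : Q := act 3 n18072
theorem D20637 : act 3 n18072 = n20637 := rfl
theorem F38623 : act 1 n20637 = n18077 := d6_1 D20637 (iv D18077) (iv F32575)
theorem F38624 : act 4 n20637 = n18073 := d12_2 D18072 D20637 (iv D18073) (iv D15079) (iv F26198)
theorem F38625 : act 5 n20637 = n18083 := d13_2 F38622 D20637 (iv F38621)
def n20638 : Q := act 2 n18073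
theorem D20638 : act 2 n18073 = n20638 := rfl
theorem F38626 : act 5 n20638 = n18084 := d11_2 (iv F32577) D20638 (iv D18084)
def n20639 : Q := act 1 n18078
theorem D20639 : act 1 n18078 = n20639 := rfl
theorem F38627 : act 3 n20639 = n20312 := d6_2 (iv F32589) D20639 F37859
theorem F38628 : act 4 n20639 = n20268 := d7_2 (iv F32590) D20639 F37745
theorem F38629 : act 5 n20639 = n18085 := d8_2 (iv F32591) D20639 (iv D18085)
def n20640 : Q := act 4 n18079
theorem D20640 : act 4 n18079 = n20640 := rfl
theorem F38630 : act 0 n20640 = n18083 := d3_1 D20640 (iv D18083) (iv F32592)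
theorem F38631 : act 1 n20640 = n20285 := d7_1 D20640 (iv D20285) (iv F32593)
def n20641 : Q := act 4 n18082
theorem D20641 : act 4 n18082 = n20641 := rfl
theorem F38632 : act 1 n20641 = n20266 := d7_1 D20641 (iv D20266) (iv F32600)
theorem F38633 : act 2 n20641 = n18083 := d10_1 D20641 (iv D18083) D18082
def n20642 : Q := act 1 n18084
theorem D20642 : act 1 n18084 = n20642 := rfl
theorem F38634 : act 2 n20642 = n18085 := d5_2 D18084 D20642 (iv D18085) (iv D15090) (iv F26214)
theorem F38635 : act 4 n20642 = n20267 := d7_2 (iv F32603) D20642 F37743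
def n20643 : Q := act 3 n18084
theorem D20643 : act 3 n18084 = n20643 := rfl
def n20644 : Q := act 0 n18085
theorem D20644 : act 0 n18085 = n20644 := rfl
theorem F38636 : act 1 n20644 = n18102 := d0_2 D18085 D20644 F32649 F26253 (iv F26216)
theorem F38637 : act 4 n20644 = n18101 := d3_2 (iv F32604) D20644 F32646
def n20645 : Q := act 3 n18085
theorem D20645 : act 3 n18085 = n20645 := rfl
theorem F38638 : act 1 n20645 = n18086 := d6_1 D20645 (iv D18086) D18085
theorem F38639 : act 4 n20645 = n20269 := d12_2 (iv F32604) D20645 (iv D20269) (iv D17587) (iv F31518)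
theorem F38640 : act 5 n20645 = n20312 := d13_2 F38629 D20645 (iv F38627)
def n20646 : Q := act 0 n18088
theorem D20646 : act 0 n18088 = n20646 := rfl
theorem F38641 : act 1 n20646 = n18091 := d0_2 D18088 D20646 (iv D18091) (iv D15095) (iv F26221)
theorem F38642 : act 2 n20646 = n18096 := d1_2 (iv F32610) D20646 F32632
theorem F38643 : act 3 n20646 = n20282 := d2_2 (iv F32611) D20646 (iv D20282)
theorem F38644 : act 4 n20646 = n18091 := d3_2 (iv F32612) D20646 (iv D18091)
theorem F38645 : act 5 n20646 = n18105 := d4_2 F35462 D20646 (iv F35460)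
def n20647 : Q := act 4 n18089
theorem D20647 : act 4 n18089 = n20647 := rfl
theorem F38646 : act 0 n20647 = n18095 := d3_1 D20647 (iv D18095) (iv F32613)
theorem F38647 : act 1 n20647 = n18113 := d7_1 D20647 F35464 F35461
theorem F38648 : act 2 n20647 = n18090 := d10_1 D20647 (iv D18090) (iv F32614)
theorem F38649 : act 5 n20647 = n18095 := d14_2 D18089 D20647 (iv D18095) (iv D15097) (iv F26222)
def n20648 : Q := act 4 n18092
theorem D20648 : act 4 n18092 = n20648 := rfl
theorem F38650 : act 1 n20648 = n18093 := d7_1 D20648 (iv D18093) (iv F32621)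
theorem F38651 : act 3 n20648 = n20283 := d12_1 D20648 (iv D20283) (iv F32611) F32612 D18092
def n20649 : Q := act 5 n18093
theorem D20649 : act 5 n18093 = n20649 := rfl
theorem F38652 : act 0 n20649 = n20284 := d4_1 D20649 (iv D20284) (iv F32623)
theorem F38653 : act 2 n20649 = n20281 := d11_1 D20649 (iv D20281) (iv F32624)
theorem F38654 : act 3 n20649 = n20284 := d13_1 D20649 (iv D20284) (iv F32625)
def n20650 : Q := act 4 n18094
theorem D20650 : act 4 n18094 = n20650 := rfl
theorem F38655 : act 0 n20650 = n18103 := d3_1 D20650 (iv D18103) (iv F32626)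
theorem F38656 : act 1 n20650 = n18111 := d7_1 D20650 (iv D18111) (iv F32627)
theorem F38657 : act 2 n20650 = n18102 := d10_1 D20650 (iv D18102) (iv F32628)
def n20651 : Q := act 3 n18095
theorem D20651 : act 3 n18095 = n20651 := rfl
theorem F38658 : act 1 n20651 = n18112 := d6_1 D20651 (iv D18112) (iv F32630)
def n20652 : Q := act 2 n18101
theorem D20652 : act 2 n18101 = n20652 := rfl
theorem F38659 : act 0 n20652 = n20267 := d1_1 D20652 F37744 (iv F32646)
theorem F38660 : act 1 n20652 = n18110 := d5_1 D20652 (iv D18110) (iv F32627) F32628 (iv F32647)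
theorem F38661 : act 5 n20652 = n20263 := d11_2 (iv F32648) D20652 (iv D20263)
def n20653 : Q := act 5 n18102
theorem D20653 : act 5 n18102 = n20653 := rfl
theorem F38662 : act 0 n20653 = n18104 := d4_1 D20653 (iv D18104) (iv F32649)
theorem F38663 : act 4 n20653 = n20281 := d14_1 D20653 (iv D20281) (iv D17601) (iv F26251) D18102
def n20654 : Q := act 3 n18103
theorem D20654 : act 3 n18103 = n20654 := rfl
def n20655 : Q := act 4 n18105
theorem D20655 : act 4 n18105 = n20655 := rfl
theorem F38664 : act 0 n20655 = n18113 := d3_1 D20655 F35464 F35460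
theorem F38665 : act 1 n20655 = n18107 := d7_1 D20655 (iv D18107) D18105
theorem F38666 : act 2 n20655 = n18108 := d10_1 D20655 F32659 (iv F32653)
theorem F38667 : act 5 n20655 = n18107 := d14_2 F38645 D20655 (iv D18107) (iv F32620) (iv F38644)
def n20656 : Q := act 4 n18106
theorem D20656 : act 4 n18106 = n20656 := rfl
theorem F38668 : act 0 n20656 = n18111 := d3_1 D20656 (iv D18111) (iv F32654)
def n20657 : Q := act 3 n18107
theorem D20657 : act 3 n18107 = n20657 := rfl
theorem F38669 : act 0 n20657 = n18112 := d2_1 D20657 (iv D18112) (iv F32655)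
def n20658 : Q := act 4 n18110
theorem D20658 : act 4 n18110 = n20658 := rfl
theorem F38670 : act 2 n20658 = n18111 := d10_1 D20658 (iv D18111) D18110
def n20659 : Q := act 3 n18111
theorem D20659 : act 3 n18111 = n20659 := rfl
theorem F38671 : act 4 n20659 = n18112 := d12_2 D18111 D20659 (iv D18112) (iv D15114) D15113
def n20660 : Q := act 5 n18111
theorem D20660 : act 5 n18111 = n20660 := rfl
def n20661 : Q := act 2 n18112
theorem D20661 : act 2 n18112 = n20661 := rfl
def n20662 : Q := act 5 n18112
theorem D20662 : act 5 n18112 = n20662 := rfl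
theorem F38672 : act 3 n20662 = n18113 := d13_1 D20662 (iv D18113) D18112
def n20663 : Q := act 3 n18121
theorem D20663 : act 3 n18121 = n20663 := rfl
def n20664 : Q := act 4 n18121
theorem D20664 : act 4 n18121 = n20664 := rfl
theorem F38673 : act 2 n20664 = n18122 := d10_1 D20664 (iv D18122) D18121
def n20665 : Q := act 5 n18122
theorem D20665 : act 5 n18122 = n20665 := rfl
theorem F38674 : act 1 n20665 = n18123 := d8_1 D20665 (iv D18123) (iv F32687)
def n20666 : Q := act 4 n18124
theorem D20666 : act 4 n18124 = n20666 := rfl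
theorem F38675 : act 0 n20666 = n18125 := d3_1 D20666 (iv D18125) D18124
def n20667 : Q := act 3 n18125
theorem D20667 : act 3 n18125 = n20667 := rfl
theorem F38676 : act 1 n20667 = n18126 := d6_1 D20667 (iv D18126) (iv F32689)
def n20668 : Q := act 5 n18125
theorem D20668 : act 5 n18125 = n20668 := rfl
theorem F38677 : act 1 n20668 = n18127 := d8_1 D20668 (iv D18127) (iv F32689)
def n20669 : Q := act 1 n18130
theorem D20669 : act 1 n18130 = n20669 := rfl
theorem F38678 : act 2 n20669 = n19278 := d5_2 D18130 D20669 F35424 (iv F32695) F32694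
theorem F38679 : act 3 n20669 = n19548 := d6_2 (iv F32701) D20669 F36090
theorem F38680 : act 5 n20669 = n19441 := d8_2 F32702 D20669 F35786
def n20670 : Q := act 4 n18132
theorem D20670 : act 4 n18132 = n20670 := rfl
theorem F38681 : act 0 n20670 = n18133 := d3_1 D20670 (iv D18133) (iv F32706)
theorem F38682 : act 1 n20670 = n18136 := d7_1 D20670 (iv D18136) (iv F32707)
theorem F38683 : act 2 n20670 = n20123 := d10_1 D20670 F37400 (iv F32708)
theorem F38684 : act 3 n20670 = n18473 := d12_1 D20670 (iv D18473) F31967 F31965 D18132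
theorem F38685 : act 5 n20670 = n18539 := d14_2 (iv F32709) D20670 F33674 (iv F33333) F33332
def n20671 : Q := act 1 n18135
theorem D20671 : act 1 n18135 = n20671 := rfl
theorem F38686 : act 0 n20671 = n20204 := d0_1 D20671 (iv D20204) F32729 (iv D18138) (iv F32719)
theorem F38687 : act 2 n20671 = n20122 := d5_2 D18135 D20671 F37397 (iv F32708) F32707
theorem F38688 : act 3 n20671 = n18304 := d6_2 (iv F32720) D20671 (iv D18304)
theorem F38689 : act 5 n20216 = n20671 := d13_0 F38688 (iv F35935) (iv F37614)
def n20672 : Q := act 4 n18135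
theorem D20672 : act 4 n18135 = n20672 := rfl
theorem F38690 : act 0 n20672 = n18140 := d3_1 D20672 (iv D18140) (iv F32719)
theorem F38691 : act 2 n20672 = n18136 := d10_1 D20672 (iv D18136) D18135
theorem F38692 : act 5 n19740 = n20672 := d11_0 F38691 (iv F32723) D19740
def n20673 : Q := act 5 n18135
theorem D20673 : act 5 n18135 = n20673 := rfl
theorem F38693 : act 0 n20673 = n18141 := d4_1 D20673 (iv D18141) (iv F32719)
theorem F38694 : act 1 n20673 = n20216 := d8_1 D20673 F38689 (iv D20671)
theorem F38695 : act 2 n20673 = n18137 := d11_1 D20673 (iv D18137) D18135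
theorem F38696 : act 3 n20673 = n18152 := d13_1 D20673 F32776 (iv F32720)
theorem F38697 : act 4 n20673 = n19743 := d14_1 D20673 (iv D19743) (iv F36550) F38692 (iv D20672)
def n20674 : Q := act 3 n18138
theorem D20674 : act 3 n18138 = n20674 := rfl
theorem F38698 : act 0 n20674 = n20205 := d2_1 D20674 (iv D20205) F32729
theorem F38699 : act 1 n20674 = n18139 := d6_1 D20674 (iv D18139) D18138
theorem F38700 : act 5 n20674 = n20049 := d13_2 F32730 D20674 (iv D20049)
theorem F38701 : act 2 n20674 = n20061 := d15_2 (iv F32728) D20674 (iv D20061) (iv D17319) (iv D14247) (iv F24231) D17226 F30762 (iv F26366)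
def n20675 : Q := act 4 n18138
theorem D20675 : act 4 n18138 = n20675 := rfl
theorem F38702 : act 0 n20675 = n19642 := d3_1 D20675 F36333 F32729
theorem F38703 : act 1 n20675 = n18140 := d7_1 D20675 (iv D18140) D18138
theorem F38704 : act 2 n20675 = n18145 := d10_1 D20675 (iv D18145) (iv F32728)
def n20676 : Q := act 4 n18139
theorem D20676 : act 4 n18139 = n20676 := rfl
theorem F38705 : act 0 n20676 = n18305 := d3_1 D20676 (iv D18305) (iv F32731)
theorem F38706 : act 2 n20676 = n18303 := d10_1 D20676 (iv D18303) (iv F32732)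
def n20677 : Q := act 5 n18139
theorem D20677 : act 5 n18139 = n20677 := rfl
theorem F38707 : act 0 n20677 = n18152 := d4_1 D20677 F32776 (iv F32731)
theorem F38708 : act 1 n20677 = n20049 := d8_1 D20677 (iv F38700) F38699
theorem F38709 : act 2 n20677 = n18150 := d11_1 D20677 F32772 (iv F32732)
theorem F38710 : act 3 n20677 = n18141 := d13_1 D20677 (iv D18141) D18139
theorem F38711 : act 4 n20368 = n20677 := d12_0 F38710 (iv F32745) (iv D17783) (iv F31818) D20368
def n20678 : Q := act 3 n18140
theorem D20678 : act 3 n18140 = n20678 := rfl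
def n20679 : Q := act 5 n18140
theorem D20679 : act 5 n18140 = n20679 := rfl
theorem F38712 : act 0 n20679 = n19740 := d4_1 D20679 F38692 F38690
theorem F38713 : act 2 n20679 = n18142 := d11_1 D20679 (iv D18142) (iv F32733)
theorem F38714 : act 4 n20679 = n19737 := d14_1 D20679 F36544 F32745 (iv D18141) D18140
def n20680 : Q := act 5 n18145
theorem D20680 : act 5 n18145 = n20680 := rfl
theorem F38715 : act 0 n20680 = n19643 := d4_1 D20680 (iv D19643) (iv F32751)
theorem F38716 : act 1 n20680 = n18146 := d8_1 D20680 (iv D18146) (iv F32752)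
theorem F38717 : act 3 n20680 = n19641 := d13_1 D20680 (iv D19641) (iv F32753)
theorem F38718 : act 4 n20680 = n20048 := d14_1 D20680 (iv D20048) F30929 (iv F26368) D18145
def n20681 : Q := act 3 n18149
theorem D20681 : act 3 n18149 = n20681 := rfl
theorem F38719 : act 0 n20681 = n18289 := d2_1 D20681 F33107 (iv F32768)
theorem F38720 : act 1 n20681 = n18150 := d6_1 D20681 (iv D18150) D18149
theorem F38721 : act 4 n20681 = n20417 := d12_2 F36590 D20681 (iv D20417) D20418 (iv F38139)
theorem F38722 : act 5 n20681 = n18287 := d13_2 (iv F32770) D20681 (iv D18287)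
def n20682 : Q := act 3 n18155
theorem D20682 : act 3 n18155 = n20682 := rfl
theorem F38723 : act 0 n20682 = n18282 := d2_1 D20682 F33089 (iv F32780)
theorem F38724 : act 1 n20682 = n18156 := d6_1 D20682 (iv D18156) D18155
theorem F38725 : act 2 n20682 = n19593 := d9_1 D20682 (iv D19593) F29945 F23542 (iv F18615) F18616 (iv F20666) D15328 D18323 F33180 (iv D16887) (iv D13812) (iv F20802) (iv F26834) (iv F32781)
theorem F38726 : act 5 n20682 = n18322 := d13_2 (iv F32782) D20682 (iv D18322)
def n20683 : Q := act 4 n18155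
theorem D20683 : act 4 n18155 = n20683 := rfl
theorem F38727 : act 0 n20683 = n18324 := d3_1 D20683 (iv D18324) (iv F32780)
theorem F38728 : act 1 n20683 = n18157 := d7_1 D20683 (iv D18157) D18155
theorem F38729 : act 2 n20683 = n18336 := d10_1 D20683 (iv D18336) (iv F32781)
def n20684 : Q := act 4 n18156
theorem D20684 : act 4 n18156 = n20684 := rfl
theorem F38730 : act 0 n20684 = n18159 := d3_1 D20684 (iv D18159) (iv F32783)
def n20685 : Q := act 3 n18157
theorem D20685 : act 3 n18157 = n20685 := rfl
theorem F38731 : act 0 n20685 = n18160 := d2_1 D20685 (iv D18160) (iv F32785)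
def n20686 : Q := act 4 n18158
theorem D20686 : act 4 n18158 = n20686 := rfl
theorem F38732 : act 1 n20686 = n18327 := d7_1 D20686 (iv D18327) (iv F32787)
theorem F38733 : act 2 n20686 = n18159 := d10_1 D20686 (iv D18159) D18158
theorem F38734 : act 5 n20686 = n18159 := d14_2 (iv F32788) D20686 (iv D18159) F26400 (iv F27438)
def n20687 : Q := act 3 n18159
theorem D20687 : act 3 n18159 = n20687 := rfl
theorem F38735 : act 1 n20687 = n18328 := d6_1 D20687 (iv D18328) (iv F32789)
theorem F38736 : act 4 n20687 = n18160 := d12_2 D18159 D20687 (iv D18160) (iv D15169) D15168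
def n20688 : Q := act 2 n18160
theorem D20688 : act 2 n18160 = n20688 := rfl
def n20689 : Q := act 3 n18163
theorem D20689 : act 3 n18163 = n20689 := rfl
theorem F38737 : act 0 n20689 = n18452 := d2_1 D20689 (iv D18452) (iv F32801)
theorem F38738 : act 1 n20689 = n20341 := d6_1 D20689 F37929 F33993
theorem F38739 : act 4 n20689 = n18203 := d12_2 D18163 D20689 (iv D18203) (iv D15208) (iv F26412)
theorem F38740 : act 5 n20689 = n20340 := d13_2 F33991 D20689 F37926
def n20690 : Q := act 2 n18165
theorem D20690 : act 2 n18165 = n20690 := rfl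
theorem F38741 : act 0 n20690 = n18167 := d1_1 D20690 (iv D18167) (iv F32807)
theorem F38742 : act 4 n20690 = n18468 := d10_2 (iv F32809) D20690 (iv D18468)
theorem F38743 : act 3 n20690 = n20444 := d15_1 D20690 (iv D20444) (iv D17819) F25562 (iv F21450) (iv F26432) (iv F32816) (iv D18168) (iv F32807)
def n20691 : Q := act 5 n18165
theorem D20691 : act 5 n18165 = n20691 := rfl
theorem F38744 : act 0 n20691 = n18168 := d4_1 D20691 (iv D18168) (iv F32807)
theorem F38745 : act 1 n20691 = n18180 := d8_1 D20691 (iv D18180) (iv F32808)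
theorem F38746 : act 3 n20691 = n18166 := d13_1 D20691 (iv D18166) D18165
theorem F38747 : act 4 n19834 = n20691 := d12_0 F38746 F32813 (iv F33466) (iv F33467) D19834
def n20692 : Q := act 1 n18167
theorem D20692 : act 1 n18167 = n20692 := rfl
theorem F38748 : act 2 n20692 = n18169 := d5_2 D18167 D20692 (iv D18169) (iv D15179) (iv F26429)
theorem F38749 : act 4 n20692 = n18469 := d7_2 (iv F32814) D20692 (iv D18469)
theorem F38750 : act 5 n18173 = n20692 := d11_0 F38748 F32819 D18173
def n20693 : Q := act 3 n18167
theorem D20693 : act 3 n18167 = n20693 := rfl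
theorem F38751 : act 0 n20693 = n20444 := d2_1 D20693 (iv F38743) F38741
theorem F38752 : act 2 n20693 = n20443 := d15_2 D18167 D20693 (iv D20443) F32055 (iv F27697) (iv F32812) (iv F38746) (iv D20691) F32807
def n20694 : Q := act 5 n18167
theorem D20694 : act 5 n18167 = n20694 := rfl
theorem F38753 : act 1 n20694 = n18173 := d8_1 D20694 F38750 (iv D20692)
theorem F38754 : act 2 n20694 = n18168 := d11_1 D20694 (iv D18168) D18167
theorem F38755 : act 4 n20694 = n19830 := d14_1 D20694 F36756 (iv F33491) F33492 (iv F32814)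
def n20695 : Q := act 4 n18168
theorem D20695 : act 4 n18168 = n20695 := rfl
theorem F38756 : act 0 n20695 = n19834 := d3_1 D20695 F38747 F38744
theorem F38757 : act 1 n20695 = n18170 := d7_1 D20695 (iv D18170) (iv F32815)
theorem F38758 : act 2 n20695 = n19830 := d10_1 D20695 (iv F38755) F38754
theorem F38759 : act 3 n20695 = n18464 := d12_1 D20695 (iv D18464) F27156 (iv F26433) (iv F32816)
theorem F38760 : act 5 n20695 = n18465 := d14_2 D18168 D20695 F33489 F27159 (iv F26430)
def n20696 : Q := act 0 n18169
theorem D20696 : act 0 n18169 = n20696 := rfl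
theorem F38761 : act 1 n20696 = n18189 := d0_2 D18169 D20696 (iv D18189) (iv D15192) (iv F26434)
theorem F38762 : act 3 n20696 = n18172 := d2_2 (iv F32817) D20696 F32826
theorem F38763 : act 4 n20696 = n18471 := d3_2 (iv F32818) D20696 (iv D18471)
theorem F38764 : act 5 n20696 = n18171 := d4_2 (iv F32819) D20696 F32824
def n20697 : Q := act 2 n18171
theorem D20697 : act 2 n18171 = n20697 := rfl
theorem F38765 : act 0 n20697 = n18173 := d1_1 D20697 (iv D18173) (iv F32824)
theorem F38766 : act 3 n20697 = n19185 := d15_1 D20697 (iv D19185) (iv D16356) F22576 (iv F21433) (iv F26446) (iv F32817) F32819 (iv F32824)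
theorem F38767 : act 4 n19826 = n20697 := d3_0 F38765 F32832 (iv F36748)
def n20698 : Q := act 4 n18171
theorem D20698 : act 4 n18171 = n20698 := rfl
theorem F38768 : act 0 n20698 = n18174 := d3_1 D20698 (iv D18174) (iv F32824)
theorem F38769 : act 1 n20698 = n19789 := d7_1 D20698 (iv D19789) (iv F32825)
theorem F38770 : act 2 n20698 = n19826 := d10_1 D20698 F38767 (iv D20697)
theorem F38771 : act 3 n20698 = n19449 := d12_1 D20698 F35813 F29577 (iv F26443) D18171
theorem F38772 : act 5 n19819 = n20698 := d13_0 F38771 F35814 D19819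
def n20699 : Q := act 4 n18172
theorem D20699 : act 4 n18172 = n20699 := rfl
theorem F38773 : act 0 n20699 = n18175 := d3_1 D20699 (iv D18175) (iv F32826)
theorem F38774 : act 1 n20699 = n19786 := d7_1 D20699 F36669 (iv F32827)
theorem F38775 : act 2 n20699 = n18635 := d10_1 D20699 (iv D18635) (iv F32828)
theorem F38776 : act 5 n20699 = n19761 := d14_2 D18172 D20699 F36604 F30287 (iv F26443)
def n20700 : Q := act 3 n18173
theorem D20700 : act 3 n18173 = n20700 := rfl
theorem F38777 : act 0 n20700 = n19185 := d2_1 D20700 (iv F38766) F38765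
theorem F38778 : act 4 n20700 = n19796 := d12_2 (iv F32832) D20700 (iv D19796) F30392 D17056
theorem F38779 : act 2 n20700 = n19184 := d15_2 D18173 D20700 (iv D19184) F28954 (iv F27670) (iv F32828) (iv F38762) F38764 F32824
def n20701 : Q := act 5 n18174
theorem D20701 : act 5 n18174 = n20701 := rfl
theorem F38780 : act 0 n20701 = n19819 := d4_1 D20701 F38772 F38768
theorem F38781 : act 1 n20701 = n18176 := d8_1 D20701 (iv D18176) (iv F32829)
theorem F38782 : act 2 n20701 = n19831 := d11_1 D20701 (iv D19831) F32831
theorem F38783 : act 3 n20701 = n19448 := d13_1 D20701 F35809 (iv F32830)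
theorem F38784 : act 4 n20701 = n18467 := d14_1 D20701 F33493 (iv F32818) F32819 D18174
def n20702 : Q := act 3 n18175
theorem D20702 : act 3 n18175 = n20702 := rfl
theorem F38785 : act 1 n20702 = n18177 := d6_1 D20702 (iv D18177) (iv F32833)
theorem F38786 : act 4 n20702 = n18472 := d12_2 D18175 D20702 (iv D18472) (iv F32818) F32817
theorem F38787 : act 5 n20702 = n19762 := d13_2 (iv F32835) D20702 (iv D19762)
def n20703 : Q := act 1 n18178
theorem D20703 : act 1 n18178 = n20703 := rfl
theorem F38788 : act 3 n20703 = n18655 := d6_2 (iv F32845) D20703 (iv D18655)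
theorem F38789 : act 0 n20545 = n20703 := d2_3 F38788 (iv F33972) D20545
theorem F38790 : act 5 n20663 = n20703 := d13_0 F38788 F33971 D20663
def n20704 : Q := act 4 n18178
theorem D20704 : act 4 n18178 = n20704 := rfl
theorem F38791 : act 0 n20704 = n18184 := d3_1 D20704 (iv D18184) (iv F32844)
theorem F38792 : act 2 n20704 = n18179 := d10_1 D20704 (iv D18179) D18178
def n20705 : Q := act 5 n18178
theorem D20705 : act 5 n18178 = n20705 := rfl
theorem F38793 : act 0 n20705 = n18185 := d4_1 D20705 (iv D18185) (iv F32844)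
theorem F38794 : act 1 n20705 = n20663 := d8_1 D20705 F38790 (iv D20703)
theorem F38795 : act 2 n20705 = n18180 := d11_1 D20705 (iv D18180) D18178
theorem F38796 : act 3 n20705 = n18477 := d13_1 D20705 F33512 (iv F32845)
theorem F38797 : act 4 n20355 = n20705 := d3_0 F38793 F34240 (iv F37969)
def n20706 : Q := act 5 n18179
theorem D20706 : act 5 n18179 = n20706 := rfl
theorem F38798 : act 0 n20706 = n18186 := d4_1 D20706 (iv D18186) (iv F32846)
theorem F38799 : act 1 n20706 = n18460 := d8_1 D20706 F33473 (iv F32847)
theorem F38800 : act 3 n20706 = n18197 := d13_1 D20706 (iv D18197) (iv F32848)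
theorem F38801 : act 4 n20350 = n20706 := d12_0 F38800 F32894 (iv F28000) (iv F31782) D20350
def n20707 : Q := act 4 n18180
theorem D20707 : act 4 n18180 = n20707 := rfl
theorem F38802 : act 0 n20707 = n18187 := d3_1 D20707 (iv D18187) (iv F32849)
theorem F38803 : act 1 n20707 = n19834 := d7_1 D20707 F38747 F38745
theorem F38804 : act 2 n20707 = n20355 := d10_1 D20707 F38797 F38795
theorem F38805 : act 5 n20707 = n20350 := d14_2 D18180 D20707 F38801 (iv D20706) (iv D18179)
theorem F38806 : act 3 n19833 = n20707 := d13_3 F38805 (iv D20350) (iv F36763)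
def n20708 : Q := act 3 n18181
theorem D20708 : act 3 n18181 = n20708 := rfl
theorem F38807 : act 0 n20708 = n18188 := d2_1 D20708 (iv D18188) (iv F32851)
theorem F38808 : act 1 n20708 = n18458 := d6_1 D20708 F33466 (iv F32852)
theorem F38809 : act 2 n20708 = n19835 := d9_1 D20708 F36766 F34217 (iv D18154) F26391 F20345 (iv F20420) D15203 (iv F28007) (iv F31163) (iv F33157) (iv D18314) F26750 (iv F27209) (iv F32853)
theorem F38810 : act 4 n20708 = n19833 := d12_2 D18181 D20708 F38806 (iv D20707) F32850
theorem F38811 : act 5 n20708 = n18198 := d13_2 (iv F32854) D20708 (iv D18198)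
def n20709 : Q := act 0 n18182
theorem D20709 : act 0 n18182 = n20709 := rfl
theorem F38812 : act 1 n20709 = n20545 := d0_2 D18182 D20709 F38789 (iv D20703) F32844
theorem F38813 : act 2 n20709 = n18189 := d1_2 (iv F32855) D20709 (iv D18189)
theorem F38814 : act 5 n20709 = n19788 := d4_2 F32856 D20709 F36673
theorem F38815 : act 3 n20528 = n20709 := d13_3 F38814 F36674 D20528
def n20710 : Q := act 3 n18182
theorem D20710 : act 3 n18182 = n20710 := rfl
theorem F38816 : act 0 n20710 = n20528 := d2_1 D20710 F38815 (iv D20709)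
theorem F38817 : act 1 n20710 = n18183 := d6_1 D20710 (iv D18183) D18182
theorem F38818 : act 2 n20710 = n20524 := d9_1 D20710 F38366 F32232 F25760 (iv F23906) D17010 D19788 F36674 (iv D17912) (iv D14875) F19884 D11818 (iv F23904) (iv F26462) (iv F32855)
theorem F38819 : act 5 n20710 = n19790 := d13_2 F32856 D20710 (iv D19790)
def n20711 : Q := act 4 n18182
theorem D20711 : act 4 n18182 = n20711 := rfl
theorem F38820 : act 1 n20711 = n18184 := d7_1 D20711 (iv D18184) D18182
theorem F38821 : act 2 n20711 = n18190 := d10_1 D20711 (iv D18190) (iv F32855)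
theorem F38822 : act 5 n20711 = n20405 := d14_2 F32856 D20711 (iv D20405) (iv F36682) (iv D19791)
def n20712 : Q := act 4 n18183
theorem D20712 : act 4 n18183 = n20712 := rfl
theorem F38823 : act 0 n20712 = n18656 := d3_1 D20712 (iv D18656) (iv F32857)
theorem F38824 : act 2 n20712 = n18654 := d10_1 D20712 (iv D18654) (iv F32858)
def n20713 : Q := act 5 n18183
theorem D20713 : act 5 n18183 = n20713 := rfl
theorem F38825 : act 0 n20713 = n18477 := d4_1 D20713 F33512 (iv F32857)
theorem F38826 : act 1 n20713 = n19790 := d8_1 D20713 (iv F38819) F38817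
theorem F38827 : act 2 n20713 = n18475 := d11_1 D20713 F33507 (iv F32858)
theorem F38828 : act 3 n20713 = n18185 := d13_1 D20713 (iv D18185) D18183
theorem F38829 : act 4 n20359 = n20713 := d12_0 F38828 F34240 (iv D17713) (iv F31806) D20359
def n20714 : Q := act 3 n18184
theorem D20714 : act 3 n18184 = n20714 := rfl
def n20715 : Q := act 5 n18184
theorem D20715 : act 5 n18184 = n20715 := rfl
theorem F38830 : act 1 n20715 = n20405 := d8_1 D20715 (iv F38822) F38820
theorem F38831 : act 2 n20715 = n18186 := d11_1 D20715 (iv D18186) (iv F32859)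
theorem F38832 : act 4 n20715 = n20363 := d14_1 D20715 (iv D20363) (iv F34240) (iv D18185) D18184
def n20716 : Q := act 4 n18189
theorem D20716 : act 4 n18189 = n20716 := rfl
theorem F38833 : act 0 n20716 = n18190 := d3_1 D20716 (iv D18190) D18189
theorem F38834 : act 1 n20716 = n18471 := d7_1 D20716 (iv F38763) F38761
def n20717 : Q := act 3 n18190
theorem D20717 : act 3 n18190 = n20717 := rfl
theorem F38835 : act 1 n20717 = n18191 := d6_1 D20717 (iv D18191) (iv F32869)
theorem F38836 : act 4 n20717 = n19787 := d12_2 D18190 D20717 (iv D19787) F30369 (iv F26462)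
theorem F38837 : act 5 n18249 = n20717 := d8_0 F38835 (iv F32873) D18249
def n20718 : Q := act 5 n18190
theorem D20718 : act 5 n18190 = n20718 := rfl
theorem F38838 : act 1 n20718 = n18192 := d8_1 D20718 (iv D18192) (iv F32869)
theorem F38839 : act 2 n20718 = n20405 := d11_1 D20718 (iv F38822) F38821
theorem F38840 : act 3 n20718 = n18249 := d13_1 D20718 F38837 (iv D20717)
theorem F38841 : act 4 n20718 = n19792 := d14_1 D20718 (iv D19792) (iv D17012) (iv F26463) D18190
def n20719 : Q := act 3 n18196
theorem D20719 : act 3 n18196 = n20719 := rfl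
theorem F38842 : act 0 n20719 = n18200 := d2_1 D20719 (iv D18200) (iv F32890)
theorem F38843 : act 1 n20719 = n20348 := d6_1 D20719 (iv F38163) F38161
theorem F38844 : act 4 n20719 = n20344 := d12_2 D18196 D20719 F37938 F33998 F27768
theorem F38845 : act 5 n20719 = n20142 := d13_2 F34019 D20719 F37455
def n20720 : Q := act 3 n18199
theorem D20720 : act 3 n18199 = n20720 := rfl
theorem F38846 : act 0 n20720 = n20344 := d2_1 D20720 F37938 F33995
theorem F38847 : act 1 n20720 = n18452 := d6_1 D20720 (iv D18452) (iv F32898)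
theorem F38848 : act 4 n20720 = n18200 := d12_2 D18199 D20720 (iv D18200) (iv D15201) D15200
theorem F38849 : act 5 n20720 = n19739 := d13_2 (iv F32900) D20720 (iv D19739)
def n20721 : Q := act 2 n18200
theorem D20721 : act 2 n18200 = n20721 := rfl
def n20722 : Q := act 5 n18200
theorem D20722 : act 5 n18200 = n20722 := rfl
theorem F38850 : act 0 n20722 = n20142 := d4_1 D20722 (iv F38845) F38842
theorem F38851 : act 1 n20722 = n18450 := d8_1 D20722 F33442 (iv F32901)
theorem F38852 : act 3 n20722 = n18201 := d13_1 D20722 (iv D18201) D18200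
theorem F38853 : act 4 n20722 = n20140 := d14_1 D20722 F37451 (iv F36549) (iv F38849) F38848
def n20723 : Q := act 2 n18203
theorem D20723 : act 2 n18203 = n20723 := rfl
theorem F38854 : act 0 n20723 = n18453 := d1_1 D20723 (iv D18453) (iv F32909)
theorem F38855 : act 3 n20723 = n19838 := d15_1 D20723 (iv D19838) (iv D17066) F23999 (iv F20961) (iv F27109) D18450 F33442 (iv F32909)
def n20724 : Q := act 1 n18204
theorem D20724 : act 1 n18204 = n20724 := rfl
theorem F38856 : act 5 n20724 = n19782 := d8_2 F33702 D20724 F36663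
theorem F38857 : act 3 n19783 = n20724 := d13_3 F38856 (iv D19782) D19783
def n20725 : Q := act 3 n18204
theorem D20725 : act 3 n18204 = n20725 := rfl
theorem F38858 : act 0 n20725 = n18207 := d2_1 D20725 (iv D18207) (iv F32910)
theorem F38859 : act 1 n20725 = n19783 := d6_1 D20725 F38857 (iv D20724)
theorem F38860 : act 2 n20725 = n18462 := d9_1 D20725 F33477 F27153 F20994 (iv F20439) (iv F21207) (iv F27406) D18551 F33708 (iv D18455) (iv D15506) (iv D12426) (iv F20435) D15209 D18204
theorem F38861 : act 5 n20725 = n18461 := d13_2 F33702 D20725 F33703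
theorem F38862 : act 4 n18500 = n20725 := d14_5 F38861 F33475 (iv D15560) D15559 D18500
def n20726 : Q := act 4 n18204
theorem D20726 : act 4 n18204 = n20726 := rfl
theorem F38863 : act 0 n20726 = n18208 := d3_1 D20726 (iv D18208) (iv F32910)
theorem F38864 : act 2 n20726 = n18205 := d10_1 D20726 (iv D18205) D18204
theorem F38865 : act 5 n20726 = n18734 := d14_2 F33702 D20726 F34139 D18740 (iv F34146)
def n20727 : Q := act 3 n18206
theorem D20727 : act 3 n18206 = n20727 := rfl
theorem F38866 : act 0 n20727 = n18209 := d2_1 D20727 (iv D18209) (iv F32914)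
theorem F38867 : act 4 n20727 = n18516 := d12_2 D18206 D20727 F33713 (iv D18553) F27410
theorem F38868 : act 5 n20727 = n18212 := d13_2 (iv F32916) D20727 (iv D18212)
def n20728 : Q := act 2 n18207
theorem D20728 : act 2 n18207 = n20728 := rfl
theorem F38869 : act 0 n20728 = n18462 := d1_1 D20728 (iv F38860) F38858
theorem F38870 : act 3 n20728 = n18457 := d9_2 D18207 D20728 F33462 F27138 (iv F26500) (iv F27410) (iv F33701) (iv F33703) (iv D18461) (iv D15511) (iv D12428) (iv D9696) (iv F15771) D12117 D15211
theorem F38871 : act 5 n20728 = n18455 := d11_2 F33707 D20728 (iv F33708)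
theorem F38872 : act 1 n19837 = n20728 := d8_3 F38871 F33453 (iv F36775)
theorem F38873 : act 4 n18493 = n20728 := d14_5 F38871 (iv F33454) (iv D15555) D15554 D18493
def n20729 : Q := act 4 n18207
theorem D20729 : act 4 n18207 = n20729 := rfl
theorem F38874 : act 0 n20729 = n18500 := d3_1 D20729 F38862 F38858
theorem F38875 : act 2 n20729 = n18493 := d10_1 D20729 F38873 (iv D20728)
theorem F38876 : act 5 n20729 = n18491 := d14_2 F33707 D20729 (iv D18491) D18492 (iv F33706)
def n20730 : Q := act 3 n18208
theorem D20730 : act 3 n18208 = n20730 := rfl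
theorem F38877 : act 1 n20730 = n18738 := d6_1 D20730 F34142 (iv F32917)
theorem F38878 : act 5 n20730 = n18735 := d13_2 (iv F32919) D20730 (iv D18735)
def n20731 : Q := act 2 n18209
theorem D20731 : act 2 n18209 = n20731 := rfl
theorem F38879 : act 1 n20731 = n18277 := d5_1 D20731 (iv D18277) F26685 (iv F26506) (iv F32920)
theorem F38880 : act 4 n20731 = n18514 := d10_2 (iv F32921) D20731 F33613
theorem F38881 : act 5 n20731 = n18216 := d11_2 (iv F32922) D20731 (iv D18216)
def n20732 : Q := act 3 n18210
theorem D20732 : act 3 n18210 = n20732 := rfl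
theorem F38882 : act 0 n20732 = n18214 := d2_1 D20732 (iv D18214) (iv F32923)
theorem F38883 : act 4 n20732 = n19926 := d12_2 D18210 D20732 F36934 F32795 F32793
theorem F38884 : act 5 n19930 = n20732 := d14_0 F38883 (iv D19926) F30628 D17152 D19930
def n20733 : Q := act 5 n18210
theorem D20733 : act 5 n18210 = n20733 := rfl
theorem F38885 : act 0 n20733 = n18215 := d4_1 D20733 (iv D18215) (iv F32923)
theorem F38886 : act 1 n20733 = n19943 := d8_1 D20733 (iv F38605) F38602
theorem F38887 : act 2 n20733 = n18211 := d11_1 D20733 (iv D18211) (iv F32924)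
theorem F38888 : act 3 n20733 = n19930 := d13_1 D20733 F38884 (iv D20732)
theorem F38889 : act 4 n20733 = n19931 := d14_1 D20733 F36938 (iv F31983) F31984 D18210
def n20734 : Q := act 2 n18212
theorem D20734 : act 2 n18212 = n20734 := rfl
theorem F38890 : act 0 n20734 = n18216 := d1_1 D20734 (iv D18216) (iv F32927)
def n20735 : Q := act 3 n18213
theorem D20735 : act 3 n18213 = n20735 := rfl
theorem F38891 : act 0 n20735 = n19926 := d2_1 D20735 F36934 (iv F32928)
theorem F38892 : act 1 n20735 = n18761 := d6_1 D20735 F34179 (iv F32929)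
theorem F38893 : act 4 n20735 = n18214 := d12_2 D18213 D20735 (iv D18214) (iv D15219) D15218
theorem F38894 : act 5 n20735 = n18555 := d13_2 (iv F32931) D20735 (iv D18555)
def n20736 : Q := act 2 n18214
theorem D20736 : act 2 n18214 = n20736 := rfl
def n20737 : Q := act 5 n18214
theorem D20737 : act 5 n18214 = n20737 := rfl
theorem F38895 : act 0 n20737 = n19930 := d4_1 D20737 F38884 F38882
theorem F38896 : act 1 n20737 = n18762 := d8_1 D20737 (iv D18762) (iv F32932)
theorem F38897 : act 3 n20737 = n18215 := d13_1 D20737 (iv D18215) D18214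
theorem F38898 : act 4 n20737 = n19915 := d14_1 D20737 (iv D19915) (iv F33719) (iv F38894) F38893
def n20738 : Q := act 1 n18216
theorem D20738 : act 1 n18216 = n20738 := rfl
theorem F38899 : act 2 n20738 = n18217 := d5_2 D18216 D20738 (iv D18217) (iv D15222) (iv F26520)
theorem F38900 : act 4 n20738 = n19932 := d7_2 F35846 D20738 F36940
theorem F38901 : act 5 n20738 = n18277 := d8_2 F38881 D20738 (iv F38879)
def n20739 : Q := act 3 n18216
theorem D20739 : act 3 n18216 = n20739 := rfl
def n20740 : Q := act 0 n18217
theorem D20740 : act 0 n18217 = n20740 := rfl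
theorem F38902 : act 1 n20740 = n19959 := d0_2 D18217 D20740 F37003 F30688 (iv F26521)
theorem F38903 : act 3 n20740 = n18276 := d2_2 (iv F32935) D20740 F33079
theorem F38904 : act 4 n20740 = n19917 := d3_2 (iv F32936) D20740 F36917
theorem F38905 : act 5 n20740 = n18275 := d4_2 (iv F32937) D20740 F33077
def n20741 : Q := act 2 n18219
theorem D20741 : act 2 n18219 = n20741 := rfl
theorem F38906 : act 0 n20741 = n18223 := d1_1 D20741 (iv D18223) (iv F32943)
theorem F38907 : act 4 n20741 = n18481 := d10_2 (iv F32945) D20741 (iv D18481)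
theorem F38908 : act 5 n20741 = n19838 := d11_2 (iv F32946) D20741 (iv D19838)
def n20742 : Q := act 2 n18221
theorem D20742 : act 2 n18221 = n20742 := rfl
theorem F38909 : act 0 n20742 = n19838 := d1_1 D20742 (iv D19838) (iv F32952)
theorem F38910 : act 1 n20742 = n19868 := d5_1 D20742 (iv D19868) F30507 (iv F26694) (iv F32953)
theorem F38911 : act 4 n20742 = n19869 := d10_2 (iv F32954) D20742 F36815
theorem F38912 : act 5 n20742 = n18223 := d11_2 (iv F32955) D20742 (iv D18223)
theorem F38913 : act 3 n20742 = n18453 := d15_1 D20742 (iv D18453) (iv D15500) F20969 (iv F20469) (iv F26531) D18219 F32946 (iv F32952)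
def n20743 : Q := act 2 n18222
theorem D20743 : act 2 n18222 = n20743 := rfl
theorem F38914 : act 0 n20743 = n18484 := d1_1 D20743 (iv D18484) (iv F32956)
theorem F38915 : act 1 n20743 = n18319 := d5_1 D20743 F33167 F33523 (iv D18480) (iv F32957)
theorem F38916 : act 3 n20743 = n18318 := d9_2 D18222 D20743 F33164 (iv F36771) F36770 (iv F32941) F32940 D18483 (iv F34268) (iv D18801) F27976 (iv F25260) (iv F26535) F26536 (iv F26543)
theorem F38917 : act 4 n20743 = n18480 := d10_2 (iv F32958) D20743 (iv D18480)
theorem F38918 : act 5 n20743 = n18566 := d11_2 (iv F32959) D20743 F33741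
def n20744 : Q := act 1 n18223
theorem D20744 : act 1 n18223 = n20744 := rfl
theorem F38919 : act 2 n20744 = n18278 := d5_2 D18223 D20744 (iv D18278) (iv D15288) (iv F26548)
theorem F38920 : act 4 n20744 = n18485 := d7_2 (iv F32960) D20744 (iv D18485)
theorem F38921 : act 5 n20744 = n19868 := d8_2 F38912 D20744 (iv F38910)
def n20745 : Q := act 3 n18223
theorem D20745 : act 3 n18223 = n20745 := rfl
theorem F38922 : act 2 n20745 = n18450 := d9_1 D20745 (iv D18450) F27109 F20961 (iv F23999) D17066 D19838 (iv F38855) (iv D20723) (iv D18203) F26497 F20432 (iv F20488) D15229 D18223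
theorem F38923 : act 5 n20745 = n18453 := d13_2 F38912 D20745 (iv F38913)
def n20746 : Q := act 5 n18224
theorem D20746 : act 5 n18224 = n20746 := rfl
theorem F38924 : act 0 n20746 = n18225 := d4_1 D20746 (iv D18225) (iv F32961)
theorem F38925 : act 1 n20746 = n18236 := d8_1 D20746 (iv D18236) (iv F32962)
theorem F38926 : act 2 n20746 = n18276 := d11_1 D20746 (iv D18276) (iv F32963)
theorem F38927 : act 3 n20746 = n19842 := d13_1 D20746 (iv D19842) (iv F32964)
theorem F38928 : act 4 n20746 = n18266 := d14_1 D20746 (iv D18266) (iv D15276) (iv F26553) D18224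
def n20747 : Q := act 2 n18226
theorem D20747 : act 2 n18226 = n20747 := rfl
theorem F38929 : act 0 n20747 = n18504 := d1_1 D20747 (iv D18504) (iv F32969)
theorem F38930 : act 4 n20747 = n18267 := d10_2 (iv F32971) D20747 (iv D18267)
theorem F38931 : act 5 n20747 = n19845 := d11_2 (iv F32972) D20747 (iv D19845)
def n20748 : Q := act 1 n18227
theorem D20748 : act 1 n18227 = n20748 := rfl
theorem F38932 : act 3 n20748 = n18467 := d6_2 (iv F32974) D20748 (iv D18467)
theorem F38933 : act 4 n20748 = n18269 := d7_2 (iv F32975) D20748 (iv D18269)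
theorem F38934 : act 5 n20748 = n18472 := d8_2 (iv F32976) D20748 F33496
def n20749 : Q := act 1 n18228
theorem D20749 : act 1 n18228 = n20749 := rfl
theorem F38935 : act 0 n20749 = n19849 := d0_1 D20749 F36785 F30486 (iv F26575) (iv F32977)
theorem F38936 : act 2 n20749 = n19839 := d5_2 D18228 D20749 (iv D19839) (iv D17067) (iv F26569)
theorem F38937 : act 5 n20749 = n19846 := d8_2 (iv F32978) D20749 F36781
def n20750 : Q := act 3 n18228
theorem D20750 : act 3 n18228 = n20750 := rfl
theorem F38938 : act 0 n20750 = n18231 := d2_1 D20750 (iv D18231) (iv F32977)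
theorem F38939 : act 2 n20750 = n18259 := d9_1 D20750 F33053 F26654 F20564 (iv F20512) F20513 (iv F24012) D17081 F30496 (iv D14033) F18515 F15848 (iv F20507) D15235 D18228
theorem F38940 : act 5 n20750 = n18257 := d13_2 (iv F32978) D20750 F33049
def n20751 : Q := act 4 n18228
theorem D20751 : act 4 n18228 = n20751 := rfl
theorem F38941 : act 0 n20751 = n18232 := d3_1 D20751 (iv D18232) (iv F32977)
theorem F38942 : act 2 n20751 = n18229 := d10_1 D20751 (iv D18229) D18228
def n20752 : Q := act 5 n18229
theorem D20752 : act 5 n18229 = n20752 := rfl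
theorem F38943 : act 0 n20752 = n18233 := d4_1 D20752 (iv D18233) (iv F32979)
theorem F38944 : act 1 n20752 = n19842 := d8_1 D20752 (iv D19842) (iv F32980)
theorem F38945 : act 3 n20752 = n18236 := d13_1 D20752 (iv D18236) (iv F32981)
theorem F38946 : act 4 n20752 = n19871 := d14_1 D20752 (iv D19871) (iv D17092) F26570 D18229
def n20753 : Q := act 3 n18230
theorem D20753 : act 3 n18230 = n20753 := rfl
theorem F38947 : act 0 n20753 = n18234 := d2_1 D20753 (iv D18234) (iv F32982)
theorem F38948 : act 1 n20753 = n18505 := d6_1 D20753 F33588 (iv F32983)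
theorem F38949 : act 4 n20753 = n19870 := d12_2 D18230 D20753 (iv D19870) (iv D17092) (iv F26574)
theorem F38950 : act 5 n20753 = n18238 := d13_2 (iv F32985) D20753 (iv D18238)
def n20754 : Q := act 4 n18231
theorem D20754 : act 4 n18231 = n20754 := rfl
theorem F38951 : act 1 n20754 = n19863 := d7_1 D20754 (iv D19863) (iv F32986)
theorem F38952 : act 2 n20754 = n19889 := d10_1 D20754 (iv D19889) (iv F32988)
def n20755 : Q := act 3 n18232
theorem D20755 : act 3 n18232 = n20755 := rfl
theorem F38953 : act 1 n20755 = n19867 := d6_1 D20755 (iv D19867) (iv F32989)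
def n20756 : Q := act 5 n18232
theorem D20756 : act 5 n18232 = n20756 := rfl
theorem F38954 : act 1 n20756 = n19866 := d8_1 D20756 F36812 (iv F32989)
theorem F38955 : act 2 n20756 = n18233 := d11_1 D20756 (iv D18233) (iv F32990)
theorem F38956 : act 4 n20756 = n19859 := d14_1 D20756 (iv D19859) (iv D17082) (iv F26576) D18232
def n20757 : Q := act 2 n18234
theorem D20757 : act 2 n18234 = n20757 := rfl
theorem F38957 : act 4 n20757 = n19872 := d10_2 (iv F32995) D20757 (iv D19872)
theorem F38958 : act 5 n20757 = n18245 := d11_2 (iv F32996) D20757 (iv D18245)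
def n20758 : Q := act 3 n18235
theorem D20758 : act 3 n18235 = n20758 := rfl
theorem F38959 : act 0 n20758 = n18240 := d2_1 D20758 (iv D18240) (iv F32997)
theorem F38960 : act 4 n20758 = n18262 := d12_2 D18235 D20758 (iv D18262) F26663 (iv F26590)
def n20759 : Q := act 5 n18235
theorem D20759 : act 5 n18235 = n20759 := rfl
theorem F38961 : act 0 n20759 = n18241 := d4_1 D20759 (iv D18241) (iv F32997)
theorem F38962 : act 2 n20759 = n18236 := d11_1 D20759 (iv D18236) (iv F32998)
def n20760 : Q := act 4 n18236
theorem D20760 : act 4 n18236 = n20760 := rfl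
theorem F38963 : act 0 n20760 = n18243 := d3_1 D20760 (iv D18243) (iv F32999)
theorem F38964 : act 1 n20760 = n18266 := d7_1 D20760 (iv F38928) F38925
theorem F38965 : act 5 n20760 = n18237 := d14_2 D18236 D20760 (iv D18237) (iv D15244) D15243
def n20761 : Q := act 3 n18237
theorem D20761 : act 3 n18237 = n20761 := rfl
theorem F38966 : act 0 n20761 = n18244 := d2_1 D20761 (iv D18244) (iv F33000)
theorem F38967 : act 1 n20761 = n18265 := d6_1 D20761 (iv D18265) (iv F33001)
theorem F38968 : act 4 n20761 = n18238 := d12_2 D18237 D20761 (iv D18238) (iv D15245) (iv F26594)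
def n20762 : Q := act 2 n18238
theorem D20762 : act 2 n18238 = n20762 := rfl
theorem F38969 : act 0 n20762 = n18245 := d1_1 D20762 (iv D18245) (iv F33002)
def n20763 : Q := act 3 n18239
theorem D20763 : act 3 n18239 = n20763 := rfl
theorem F38970 : act 0 n20763 = n18262 := d2_1 D20763 (iv D18262) (iv F33004)
theorem F38971 : act 1 n20763 = n18240 := d6_1 D20763 (iv D18240) (iv F33005)
theorem F38972 : act 4 n20763 = n18240 := d12_2 D18239 D20763 (iv D18240) (iv D15247) F26601
def n20764 : Q := act 5 n18239
theorem D20764 : act 5 n18239 = n20764 := rfl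
theorem F38973 : act 0 n20764 = n18261 := d4_1 D20764 F33057 (iv F33004)
theorem F38974 : act 1 n20764 = n18241 := d8_1 D20764 (iv D18241) (iv F33005)
theorem F38975 : act 2 n20764 = n18246 := d11_1 D20764 (iv D18246) (iv F33006)
theorem F38976 : act 4 n20764 = n18264 := d14_1 D20764 (iv D18264) (iv D15274) F26600 D18239
def n20765 : Q := act 2 n18240
theorem D20765 : act 2 n18240 = n20765 := rfl
def n20766 : Q := act 5 n18240
theorem D20766 : act 5 n18240 = n20766 := rfl
theorem F38977 : act 3 n20766 = n18241 := d13_1 D20766 (iv D18241) D18240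
def n20767 : Q := act 4 n18241
theorem D20767 : act 4 n18241 = n20767 := rfl
theorem F38978 : act 1 n20767 = n18264 := d7_1 D20767 (iv F38976) F38974
theorem F38979 : act 2 n20767 = n18243 := d10_1 D20767 (iv D18243) (iv F33007)
theorem F38980 : act 5 n20767 = n18242 := d14_2 D18241 D20767 (iv D18242) (iv D15248) D15247
def n20768 : Q := act 3 n18242
theorem D20768 : act 3 n18242 = n20768 := rfl
theorem F38981 : act 1 n20768 = n18263 := d6_1 D20768 (iv D18263) (iv F33008)
theorem F38982 : act 4 n20768 = n18263 := d12_2 D18242 D20768 (iv D18263) (iv D15274) (iv F26605)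
def n20769 : Q := act 3 n18243
theorem D20769 : act 3 n18243 = n20769 := rfl
theorem F38983 : act 1 n20769 = n18247 := d6_1 D20769 (iv D18247) (iv F33010)
theorem F38984 : act 4 n20769 = n19801 := d12_2 D18243 D20769 F36699 (iv F32993) F32992
theorem F38985 : act 5 n20769 = n18244 := d13_2 (iv F33011) D20769 (iv D18244)
def n20770 : Q := act 2 n18244
theorem D20770 : act 2 n18244 = n20770 := rfl
theorem F38986 : act 4 n20770 = n18245 := d10_2 (iv F33013) D20770 (iv D18245)
def n20771 : Q := act 1 n18245
theorem D20771 : act 1 n18245 = n20771 := rfl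
theorem F38987 : act 2 n20771 = n18249 := d5_2 D18245 D20771 (iv D18249) (iv D15256) (iv F26608)
def n20772 : Q := act 3 n18245
theorem D20772 : act 3 n18245 = n20772 := rfl
def n20773 : Q := act 1 n18248
theorem D20773 : act 1 n18248 = n20773 := rfl
theorem F38988 : act 3 n20773 = n18449 := d6_2 (iv F33023) D20773 F33438
theorem F38989 : act 4 n20773 = n18249 := d7_2 (iv F33024) D20773 (iv D18249)
theorem F38990 : act 5 n20773 = n18448 := d8_2 (iv F33025) D20773 F33436
def n20774 : Q := act 0 n18249
theorem D20774 : act 0 n18249 = n20774 := rfl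
def n20775 : Q := act 4 n18251
theorem D20775 : act 4 n18251 = n20775 := rfl
theorem F38991 : act 0 n20775 = n18252 := d3_1 D20775 (iv D18252) (iv F33031)
theorem F38992 : act 1 n20775 = n20397 := d7_1 D20775 (iv D20397) (iv F33032)
theorem F38993 : act 2 n20775 = n18255 := d10_1 D20775 (iv D18255) (iv F33033)
theorem F38994 : act 5 n20775 = n20683 := d14_2 D18251 D20775 (iv D20683) F32782 F26766
def n20776 : Q := act 3 n18252
theorem D20776 : act 3 n18252 = n20776 := rfl
theorem F38995 : act 1 n20776 = n18253 := d6_1 D20776 (iv D18253) (iv F33035)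
theorem F38996 : act 4 n20776 = n20409 := d12_2 D18252 D20776 (iv D20409) (iv D17761) (iv F26629)
def n20777 : Q := act 2 n18253
theorem D20777 : act 2 n18253 = n20777 := rfl
theorem F38997 : act 0 n20777 = n20399 := d1_1 D20777 (iv D20399) (iv F33037)
theorem F38998 : act 4 n20777 = n20410 := d10_2 (iv F33038) D20777 (iv D20410)
def n20778 : Q := act 4 n18256
theorem D20778 : act 4 n18256 = n20778 := rfl
theorem F38999 : act 0 n20778 = n18294 := d3_1 D20778 F33122 (iv F33046)
theorem F39000 : act 1 n20778 = n18258 := d7_1 D20778 (iv D18258) (iv F33047)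
theorem F39001 : act 3 n20778 = n18292 := d12_1 D20778 (iv D18292) F26726 (iv F26651) D18256
def n20779 : Q := act 1 n18257
theorem D20779 : act 1 n18257 = n20779 := rfl
theorem F39002 : act 0 n20779 = n19847 := d0_1 D20779 F36782 F30482 (iv F30495) (iv F33048)
theorem F39003 : act 2 n20779 = n20394 := d5_2 D18257 D20779 F38072 F33247 F33047
theorem F39004 : act 3 n20779 = n19846 := d6_2 (iv F33049) D20779 F36781
def n20780 : Q := act 4 n18257
theorem D20780 : act 4 n18257 = n20780 := rfl
theorem F39005 : act 0 n20780 = n19857 := d3_1 D20780 (iv D19857) (iv F33048)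
theorem F39006 : act 2 n20780 = n18258 := d10_1 D20780 (iv D18258) D18257
def n20781 : Q := act 5 n18258
theorem D20781 : act 5 n18258 = n20781 := rfl
theorem F39007 : act 0 n20781 = n19888 := d4_1 D20781 (iv D19888) (iv F33050)
theorem F39008 : act 3 n20781 = n19887 := d13_1 D20781 (iv D19887) (iv F33051)
def n20782 : Q := act 4 n18259
theorem D20782 : act 4 n18259 = n20782 := rfl
theorem F39009 : act 0 n20782 = n19889 := d3_1 D20782 (iv D19889) (iv F33052)
def n20783 : Q := act 3 n18260
theorem D20783 : act 3 n18260 = n20783 := rfl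
theorem F39010 : act 0 n20783 = n18440 := d2_1 D20783 F33414 (iv F33054)
theorem F39011 : act 5 n20783 = n18435 := d13_2 (iv F33056) D20783 (iv D18435)
def n20784 : Q := act 3 n18261
theorem D20784 : act 3 n18261 = n20784 := rfl
theorem F39012 : act 5 n20784 = n18262 := d13_2 (iv F33057) D20784 (iv D18262)
def n20785 : Q := act 2 n18262
theorem D20785 : act 2 n18262 = n20785 := rfl
def n20786 : Q := act 2 n18263
theorem D20786 : act 2 n18263 = n20786 := rfl
def n20787 : Q := act 5 n18263
theorem D20787 : act 5 n18263 = n20787 := rfl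
theorem F39013 : act 3 n20787 = n18264 := d13_1 D20787 (iv D18264) D18263
def n20788 : Q := act 2 n18265
theorem D20788 : act 2 n18265 = n20788 := rfl
theorem F39014 : act 0 n20788 = n18267 := d1_1 D20788 (iv D18267) (iv F33059)
theorem F39015 : act 4 n20788 = n18504 := d10_2 (iv F33060) D20788 (iv D18504)
theorem F39016 : act 3 n20788 = n19929 := d15_1 D20788 F36935 F30629 F24098 (iv F21129) (iv F26671) (iv F33064) (iv D18268) (iv F33059)
theorem F39017 : act 5 n19928 = n20788 := d13_0 F39016 (iv D19929) D19928
def n20789 : Q := act 5 n18265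
theorem D20789 : act 5 n18265 = n20789 := rfl
theorem F39018 : act 0 n20789 = n18268 := d4_1 D20789 (iv D18268) (iv F33059)
theorem F39019 : act 2 n20789 = n19928 := d11_1 D20789 F39017 (iv D20788)
theorem F39020 : act 3 n20789 = n18266 := d13_1 D20789 (iv D18266) D18265
def n20790 : Q := act 1 n18267
theorem D20790 : act 1 n18267 = n20790 := rfl
theorem F39021 : act 2 n20790 = n18269 := d5_2 D18267 D20790 (iv D18269) (iv D15279) (iv F26669)
theorem F39022 : act 5 n19806 = n20790 := d11_0 F39021 F33066 D19806
def n20791 : Q := act 3 n18267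
theorem D20791 : act 3 n18267 = n20791 := rfl
theorem F39023 : act 0 n20791 = n19929 := d2_1 D20791 (iv F39016) F39014
theorem F39024 : act 2 n20791 = n19915 := d9_1 D20791 F36911 F30607 (iv F27332) (iv F33062) (iv F39020) F39019 (iv D19928) (iv D17151) (iv D14064) F18550 (iv F16320) (iv F20583) D15277 D18267
theorem F39025 : act 5 n20791 = n19914 := d15_8 (iv D17151) (iv D14064) F18550 (iv F16320) (iv F20583) D15277 D18267 D20791 F36909
def n20792 : Q := act 5 n18267
theorem D20792 : act 5 n18267 = n20792 := rfl
theorem F39026 : act 0 n20792 = n19928 := d4_1 D20792 F39017 F39014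
theorem F39027 : act 1 n20792 = n19806 := d8_1 D20792 F39022 (iv D20790)
theorem F39028 : act 2 n20792 = n18268 := d11_1 D20792 (iv D18268) D18267
theorem F39029 : act 3 n20792 = n19914 := d13_1 D20792 (iv F39025) (iv D20791)
def n20793 : Q := act 4 n18268
theorem D20793 : act 4 n18268 = n20793 := rfl
theorem F39030 : act 1 n20793 = n18270 := d7_1 D20793 (iv D18270) (iv F33063)
theorem F39031 : act 3 n20793 = n19785 := d12_1 D20793 F36666 (iv F32967) F32968 (iv F33064)
theorem F39032 : act 5 n20793 = n19798 := d14_2 D18268 D20793 F36697 (iv F32972) F32971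
def n20794 : Q := act 0 n18269
theorem D20794 : act 0 n18269 = n20794 := rfl
theorem F39033 : act 3 n20794 = n19805 := d2_2 (iv F33065) D20794 F36709
theorem F39034 : act 5 n20794 = n19804 := d4_2 (iv F33066) D20794 F36708
def n20795 : Q := act 3 n18271
theorem D20795 : act 3 n18271 = n20795 := rfl
theorem F39035 : act 0 n20795 = n18273 := d2_1 D20795 (iv D18273) (iv F33071)
theorem F39036 : act 4 n20795 = n18273 := d12_2 D18271 D20795 (iv D18273) (iv D15283) (iv F26677)
def n20796 : Q := act 5 n18271
theorem D20796 : act 5 n18271 = n20796 := rfl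
theorem F39037 : act 0 n20796 = n18274 := d4_1 D20796 (iv D18274) (iv F33071)
theorem F39038 : act 2 n20796 = n18272 := d11_1 D20796 (iv D18272) (iv F33072)
def n20797 : Q := act 2 n18273
theorem D20797 : act 2 n18273 = n20797 := rfl
def n20798 : Q := act 5 n18273
theorem D20798 : act 5 n18273 = n20798 := rfl
theorem F39039 : act 3 n20798 = n18274 := d13_1 D20798 (iv D18274) D18273
def n20799 : Q := act 2 n18275
theorem D20799 : act 2 n18275 = n20799 := rfl
theorem F39040 : act 0 n20799 = n18277 := d1_1 D20799 (iv D18277) (iv F33077)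
theorem F39041 : act 4 n20799 = n18513 := d10_2 (iv F33078) D20799 (iv D18513)
def n20800 : Q := act 3 n18277
theorem D20800 : act 3 n18277 = n20800 := rfl
def n20801 : Q := act 0 n18278
theorem D20801 : act 0 n18278 = n20801 := rfl
theorem F39042 : act 1 n20801 = n18501 := d0_2 D18278 D20801 F33580 F27269 (iv F26689)
theorem F39043 : act 3 n20801 = n19854 := d2_2 (iv F33082) D20801 F36793
theorem F39044 : act 4 n20801 = n18488 := d3_2 (iv F33083) D20801 (iv D18488)
theorem F39045 : act 5 n20801 = n19855 := d4_2 (iv F33084) D20801 F36795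
def n20802 : Q := act 4 n18279
theorem D20802 : act 4 n18279 = n20802 := rfl
theorem F39046 : act 0 n20802 = n18281 := d3_1 D20802 (iv D18281) (iv F33085)
theorem F39047 : act 1 n20802 = n18284 := d7_1 D20802 (iv F33095) (iv F33086)
theorem F39048 : act 3 n20802 = n18615 := d12_1 D20802 (iv D18615) (iv D15730) (iv F26699) D18279
theorem F39049 : act 5 n20802 = n18281 := d14_2 F36580 D20802 (iv D18281) (iv F30263) F36581
def n20803 : Q := act 1 n18280
theorem D20803 : act 1 n18280 = n20803 := rfl
theorem F39050 : act 0 n20803 = n19593 := d0_1 D20803 F36208 F29947 (iv F36161) F36160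
theorem F39051 : act 2 n20803 = n18282 := d5_2 D18280 D20803 (iv D18282) (iv D15292) (iv F26700)
theorem F39052 : act 3 n20803 = n19592 := d6_2 (iv F36159) D20803 F36205
theorem F39053 : act 5 n20803 = n18323 := d8_2 F36596 D20803 (iv F36594)
def n20804 : Q := act 4 n18280
theorem D20804 : act 4 n18280 = n20804 := rfl
theorem F39054 : act 2 n20804 = n18281 := d10_1 D20804 (iv D18281) D18280
def n20805 : Q := act 4 n18282
theorem D20805 : act 4 n18282 = n20805 := rfl
theorem F39055 : act 1 n20805 = n18283 := d7_1 D20805 (iv D18283) D18282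
def n20806 : Q := act 3 n18283
theorem D20806 : act 3 n18283 = n20806 := rfl
theorem F39056 : act 0 n20806 = n18328 := d2_1 D20806 (iv D18328) (iv F33091)
theorem F39057 : act 4 n20806 = n18326 := d12_2 D18283 D20806 (iv D18326) (iv D15331) (iv F26702)
theorem F39058 : act 2 n20806 = n19604 := d15_2 (iv F33092) D20806 (iv D19604) F33871 (iv D18621) F27636 (iv F27444) F27445 (iv F26704)
def n20807 : Q := act 5 n18283
theorem D20807 : act 5 n18283 = n20807 := rfl
theorem F39059 : act 0 n20807 = n18327 := d4_1 D20807 F33190 (iv F33091)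
theorem F39060 : act 2 n20807 = n18284 := d11_1 D20807 (iv D18284) (iv F33092)
theorem F39061 : act 4 n20807 = n18325 := d14_1 D20807 (iv D18325) (iv D15330) F26703 D18283
def n20808 : Q := act 2 n18287
theorem D20808 : act 2 n18287 = n20808 := rfl
theorem F39062 : act 0 n20808 = n18288 := d1_1 D20808 (iv D18288) (iv F33104)
theorem F39063 : act 1 n20808 = n20061 := d5_1 D20808 (iv F38701) F38699 F32732 (iv F33105)
theorem F39064 : act 3 n20808 = n20060 := d15_1 D20808 F37278 F30971 F24735 (iv F21395) (iv F26717) (iv F33107) (iv D18289) (iv F33104)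
def n20809 : Q := act 1 n18288
theorem D20809 : act 1 n18288 = n20809 := rfl
theorem F39065 : act 2 n20809 = n18290 := d5_2 D18288 D20809 (iv D18290) (iv D15299) (iv F26715)
theorem F39066 : act 5 n18298 = n20809 := d11_0 F39065 F33109 D18298
def n20810 : Q := act 3 n18288
theorem D20810 : act 3 n18288 = n20810 := rfl
theorem F39067 : act 0 n20810 = n20060 := d2_1 D20810 (iv F39064) F39062
theorem F39068 : act 2 n20810 = n20065 := d15_2 D18288 D20810 F37292 F31223 (iv F27621) (iv F32769) D20681 F38722 F33104
def n20811 : Q := act 5 n18288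
theorem D20811 : act 5 n18288 = n20811 := rfl
theorem F39069 : act 1 n20811 = n18298 := d8_1 D20811 F39066 (iv D20809)
theorem F39070 : act 2 n20811 = n18289 := d11_1 D20811 (iv D18289) D18288
def n20812 : Q := act 4 n18289
theorem D20812 : act 4 n18289 = n20812 := rfl
theorem F39071 : act 0 n20812 = n20417 := d3_1 D20812 (iv F38721) F38719
theorem F39072 : act 1 n20812 = n18291 := d7_1 D20812 (iv D18291) (iv F33106)
theorem F39073 : act 3 n20812 = n18568 := d12_1 D20812 (iv F36571) F36570 F30269 (iv F33107)
theorem F39074 : act 5 n20812 = n18567 := d14_2 D18289 D20812 (iv F36573) F36574 F30271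
def n20813 : Q := act 0 n18290
theorem D20813 : act 0 n18290 = n20813 := rfl
theorem F39075 : act 1 n20813 = n18306 := d0_2 D18290 D20813 (iv D18306) (iv D15313) (iv F26718)
theorem F39076 : act 3 n20813 = n18297 := d2_2 (iv F33108) D20813 F33127
theorem F39077 : act 5 n20813 = n18296 := d4_2 (iv F33109) D20813 F33126
def n20814 : Q := act 5 n18292
theorem D20814 : act 5 n18292 = n20814 := rfl
theorem F39078 : act 0 n20814 = n18295 := d4_1 D20814 (iv D18295) (iv F33114)
theorem F39079 : act 1 n20814 = n19887 := d8_1 D20814 (iv D19887) (iv F33115)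
theorem F39080 : act 2 n20814 = n18293 := d11_1 D20814 (iv D18293) (iv F33116)
theorem F39081 : act 4 n20814 = n19892 := d14_1 D20814 (iv D19892) (iv D17119) (iv F26727) D18292
def n20815 : Q := act 5 n18294
theorem D20815 : act 5 n18294 = n20815 := rfl
theorem F39082 : act 1 n20815 = n18321 := d8_1 D20815 (iv D18321) (iv F33121)
theorem F39083 : act 3 n20815 = n18295 := d13_1 D20815 (iv D18295) D18294
def n20816 : Q := act 4 n18296
theorem D20816 : act 4 n18296 = n20816 := rfl
theorem F39084 : act 0 n20816 = n18299 := d3_1 D20816 (iv D18299) (iv F33126)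
theorem F39085 : act 3 n20816 = n18608 := d12_1 D20816 F33841 (iv F30012) F30013 D18296
def n20817 : Q := act 4 n18297
theorem D20817 : act 4 n18297 = n20817 := rfl
theorem F39086 : act 0 n20817 = n18300 := d3_1 D20817 (iv D18300) (iv F33127)
theorem F39087 : act 2 n20817 = n18610 := d10_1 D20817 (iv D18610) (iv F33128)
def n20818 : Q := act 4 n18298
theorem D20818 : act 4 n18298 = n20818 := rfl
theorem F39088 : act 2 n20818 = n18299 := d10_1 D20818 (iv D18299) D18298
theorem F39089 : act 3 n20095 = n20818 := d15_3 F29181 D17360 D20095 F39088 F33130 (iv F29588) (iv F34290) F35415 (iv D19272)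
def n20819 : Q := act 5 n18299
theorem D20819 : act 5 n18299 = n20819 := rfl
theorem F39090 : act 1 n20819 = n18301 := d8_1 D20819 (iv D18301) (iv F33129)
theorem F39091 : act 3 n20819 = n18607 := d13_1 D20819 F33840 (iv F33130)
def n20820 : Q := act 3 n18300
theorem D20820 : act 3 n18300 = n20820 := rfl
theorem F39092 : act 1 n20820 = n18302 := d6_1 D20820 (iv D18302) (iv F33131)
def n20821 : Q := act 0 n18304
theorem D20821 : act 0 n18304 = n20821 := rfl
theorem F39093 : act 1 n20821 = n20205 := d0_2 D18304 D20821 (iv F38698) F38699 F32731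
theorem F39094 : act 2 n20821 = n18306 := d1_2 (iv F33137) D20821 (iv D18306)
theorem F39095 : act 3 n20821 = n20204 := d2_2 F38688 D20821 (iv F38686)
theorem F39096 : act 5 n20821 = n20218 := d4_2 F35935 D20821 F37616
def n20822 : Q := act 4 n18304
theorem D20822 : act 4 n18304 = n20822 := rfl
theorem F39097 : act 1 n20822 = n18305 := d7_1 D20822 (iv D18305) D18304
theorem F39098 : act 2 n20822 = n18307 := d10_1 D20822 (iv D18307) (iv F33137)
def n20823 : Q := act 3 n18305
theorem D20823 : act 3 n18305 = n20823 := rfl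
def n20824 : Q := act 4 n18306
theorem D20824 : act 4 n18306 = n20824 := rfl
theorem F39099 : act 0 n20824 = n18307 := d3_1 D20824 (iv D18307) D18306
def n20825 : Q := act 3 n18307
theorem D20825 : act 3 n18307 = n20825 := rfl
theorem F39100 : act 1 n20825 = n18308 := d6_1 D20825 (iv D18308) (iv F33139)
def n20826 : Q := act 5 n18307
theorem D20826 : act 5 n18307 = n20826 := rfl
theorem F39101 : act 1 n20826 = n18309 := d8_1 D20826 (iv D18309) (iv F33139)
def n20827 : Q := act 4 n18313
theorem D20827 : act 4 n18313 = n20827 := rfl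
theorem F39102 : act 0 n20827 = n18316 := d3_1 D20827 (iv D18316) (iv F33152)
theorem F39103 : act 2 n20827 = n18562 := d10_1 D20827 (iv D18562) (iv F33153)
def n20828 : Q := act 4 n18315
theorem D20828 : act 4 n18315 = n20828 := rfl
theorem F39104 : act 0 n20828 = n18562 := d3_1 D20828 (iv D18562) (iv F33158)
theorem F39105 : act 2 n20828 = n18316 := d10_1 D20828 (iv D18316) D18315
theorem F39106 : act 3 n20828 = n18654 := d12_1 D20828 (iv D18654) (iv D15777) (iv F27472) (iv F33159)
def n20829 : Q := act 4 n18321
theorem D20829 : act 4 n18321 = n20829 := rfl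
theorem F39107 : act 0 n20829 = n19890 := d3_1 D20829 (iv D19890) (iv F33174)
theorem F39108 : act 3 n20829 = n19897 := d12_1 D20829 (iv D19897) F30565 (iv F26763) (iv F33175)
theorem F39109 : act 5 n20829 = n19886 := d14_2 D18321 D20829 (iv D19886) (iv D17111) (iv F26760)
def n20830 : Q := act 3 n18324
theorem D20830 : act 3 n18324 = n20830 := rfl
theorem F39110 : act 1 n20830 = n18326 := d6_1 D20830 (iv D18326) (iv F33181)
theorem F39111 : act 5 n20830 = n20776 := d13_2 (iv F33183) D20830 (iv D20776)
def n20831 : Q := act 2 n18326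
theorem D20831 : act 2 n18326 = n20831 := rfl
theorem F39112 : act 0 n20831 = n18329 := d1_1 D20831 (iv D18329) (iv F33187)
theorem F39113 : act 3 n20831 = n18397 := d9_2 D18326 D20831 (iv D18397) (iv D15434) F20871 (iv F19592) (iv F25386) D17752 D20399 F38082 (iv D18540) (iv D15610) F21178 (iv F20673) (iv F26773)
theorem F39114 : act 4 n20831 = n19604 := d10_2 F39057 D20831 (iv F39058)
theorem F39115 : act 5 n20831 = n20777 := d11_2 (iv F33188) D20831 (iv D20777)
theorem F39116 : act 1 n19605 = n20831 := d7_3 F39114 F36242 D19605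
def n20832 : Q := act 3 n18327
theorem D20832 : act 3 n18327 = n20832 := rfl
theorem F39117 : act 2 n20832 = n20092 := d9_1 D20832 (iv D20092) F31036 F24488 (iv F21397) (iv F26705) (iv F33092) D20806 F39058 (iv D19604) F33871 (iv D18621) F27636 (iv F27444) (iv F33189)
theorem F39118 : act 5 n20832 = n18328 := d13_2 (iv F33190) D20832 (iv D18328)
def n20833 : Q := act 2 n18328
theorem D20833 : act 2 n18328 = n20833 := rfl
theorem F39119 : act 0 n20833 = n19604 := d1_1 D20833 (iv F39058) F39056
theorem F39120 : act 4 n20833 = n18329 := d10_2 (iv F33191) D20833 (iv D18329)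
theorem F39121 : act 5 n20833 = n20092 := d11_2 F39118 D20833 (iv F39117)
theorem F39122 : act 3 n20833 = n19603 := d15_3 (iv F26780) D18328 D20833 F36239 F31038 (iv F27627) (iv F33094) (iv D18284) F26704
theorem F39123 : act 1 n20212 = n20833 := d6_3 F39122 F36238 D20212
def n20834 : Q := act 1 n18329
theorem D20834 : act 1 n18329 = n20834 := rfl
theorem F39124 : act 0 n20834 = n20214 := d0_1 D20834 F37609 (iv F36243) F39116 F39112
theorem F39125 : act 4 n20834 = n20212 := d7_2 F39120 D20834 F39123
theorem F39126 : act 3 n20217 = n20834 := d12_5 F39125 (iv D20212) F31372 D17522 D20217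
def n20835 : Q := act 3 n18329
theorem D20835 : act 3 n18329 = n20835 := rfl
theorem F39127 : act 0 n20835 = n18397 := d2_1 D20835 (iv F39113) F39112
theorem F39128 : act 1 n20835 = n20217 := d6_1 D20835 F39126 (iv D20834)
theorem F39129 : act 4 n20835 = n19996 := d12_2 F39120 D20835 F37113 (iv F36240) (iv F39122)
theorem F39130 : act 5 n20835 = n18540 := d13_2 F38081 D20835 (iv F38082)
theorem F39131 : act 2 n20835 = n18396 := d15_2 D18329 D20835 (iv D18396) F27000 F20859 (iv F26634) D18253 (iv F33188) F33187

end Cfsg.Agent.Helper17.ONS1TC
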