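import Cfsg.Agent.Helper17.ONS1TC.Facts5

set_option autoImplicit false
set_option linter.all false

noncomputable section

namespace Cfsg.Agent.Helper17.ONS1TC

def n20836 : Q := act 2 n18331
theorem D20836 : act 2 n18331 = n20836 := rfl
theorem F39132 : act 0 n20836 = n18540 := d1_1 D20836 (iv D18540) (iv F33197)
theorem F39133 : act 1 n20836 = n19995 := d5_1 D20836 (iv D19995) F30782 (iv F30941) (iv F33198)
theorem F39134 : act 3 n20836 = n20777 := d9_2 D18331 D20836 (iv D20777) (iv D18253) F26634 (iv F20859) (iv F27000) D18396 (iv F39131) (iv D20835) (iv D18329) (iv D15339) F20681 D12240 D15340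
theorem F39135 : act 4 n20836 = n18556 := d10_2 (iv F33199) D20836 (iv D18556)
theorem F39136 : act 5 n20836 = n18397 := d11_2 (iv F33200) D20836 (iv D18397)
def n20837 : Q := act 4 n18338
theorem D20837 : act 4 n18338 = n20837 := rfl
theorem F39137 : act 1 n20837 = n20782 := d7_1 D20837 (iv D20782) (iv F33221)
def n20838 : Q := act 3 n18339
theorem D20838 : act 3 n18339 = n20838 := rfl
theorem F39138 : act 1 n20838 = n20783 := d6_1 D20838 (iv D20783) (iv F33223)
theorem F39139 : act 5 n20838 = n20618 := d13_2 (iv F33225) D20838 (iv D20618)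
def n20839 : Q := act 4 n18340
theorem D20839 : act 4 n18340 = n20839 := rfl
theorem F39140 : act 0 n20839 = n19620 := d3_1 D20839 (iv D19620) (iv F33226)
theorem F39141 : act 1 n20839 = n18341 := d7_1 D20839 (iv D18341) D18340
theorem F39142 : act 2 n20839 = n19618 := d10_1 D20839 (iv D19618) (iv F33227)
def n20840 : Q := act 3 n18341
theorem D20840 : act 3 n18341 = n20840 := rfl
theorem F39143 : act 0 n20840 = n18346 := d2_1 D20840 (iv D18346) (iv F33229)
def n20841 : Q := act 5 n18341
theorem D20841 : act 5 n18341 = n20841 := rfl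
theorem F39144 : act 0 n20841 = n18347 := d4_1 D20841 (iv D18347) (iv F33229)
theorem F39145 : act 2 n20841 = n18343 := d11_1 D20841 (iv D18343) (iv F33230)
theorem F39146 : act 4 n20841 = n20431 := d14_1 D20841 (iv D20431) F33235 (iv D18342) D18341
def n20842 : Q := act 3 n18344
theorem D20842 : act 3 n18344 = n20842 := rfl
theorem F39147 : act 4 n20842 = n18346 := d12_2 D18344 D20842 (iv D18346) (iv D15366) D15365
def n20843 : Q := act 5 n18344
theorem D20843 : act 5 n18344 = n20843 := rfl
def n20844 : Q := act 4 n18345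
theorem D20844 : act 4 n18345 = n20844 := rfl
theorem F39148 : act 0 n20844 = n18362 := d3_1 D20844 (iv D18362) (iv F33239)
theorem F39149 : act 1 n20844 = n18375 := d7_1 D20844 (iv D18375) (iv F33240)
theorem F39150 : act 2 n20844 = n18360 := d10_1 D20844 (iv D18360) (iv F33241)
theorem F39151 : act 3 n20844 = n20433 := d12_1 D20844 (iv D20433) (iv D17801) F26860 (iv F33242)
def n20845 : Q := act 2 n18346
theorem D20845 : act 2 n18346 = n20845 := rfl
def n20846 : Q := act 5 n18346
theorem D20846 : act 5 n18346 = n20846 := rfl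
theorem F39152 : act 1 n20846 = n20435 := d8_1 D20846 F38173 F36951
theorem F39153 : act 3 n20846 = n18347 := d13_1 D20846 (iv D18347) D18346
def n20847 : Q := act 4 n18348
theorem D20847 : act 4 n18348 = n20847 := rfl
theorem F39154 : act 1 n20847 = n18350 := d7_1 D20847 (iv D18350) D18348
def n20848 : Q := act 4 n18349
theorem D20848 : act 4 n18349 = n20848 := rfl
theorem F39155 : act 0 n20848 = n18351 := d3_1 D20848 (iv D18351) (iv F33246)
theorem F39156 : act 2 n20848 = n20778 := d10_1 D20848 (iv D20778) (iv F33247)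
def n20849 : Q := act 3 n18350
theorem D20849 : act 3 n18350 = n20849 := rfl
theorem F39157 : act 0 n20849 = n18352 := d2_1 D20849 (iv D18352) (iv F33248)
def n20850 : Q := act 3 n18351
theorem D20850 : act 3 n18351 = n20850 := rfl
theorem F39158 : act 4 n20850 = n18352 := d12_2 D18351 D20850 (iv D18352) (iv D15373) D15372
def n20851 : Q := act 5 n18351
theorem D20851 : act 5 n18351 = n20851 := rfl
theorem F39159 : act 2 n20851 = n20815 := d11_1 D20851 (iv D20815) (iv F33250)
def n20852 : Q := act 3 n18354
theorem D20852 : act 3 n18354 = n20852 := rfl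
theorem F39160 : act 0 n20852 = n18356 := d2_1 D20852 (iv D18356) (iv F33255)
theorem F39161 : act 2 n20852 = n18552 := d9_1 D20852 F33710 F27409 F21203 (iv F20757) F20758 (iv F20881) D15445 D18405 F33353 (iv D15621) (iv D12538) (iv F20761) D15376 D18354
theorem F39162 : act 5 n20852 = n18404 := d13_2 (iv F33256) D20852 (iv D18404)
def n20853 : Q := act 4 n18354
theorem D20853 : act 4 n18354 = n20853 := rfl
theorem F39163 : act 0 n20853 = n18357 := d3_1 D20853 (iv D18357) (iv F33255)
theorem F39164 : act 2 n20853 = n18355 := d10_1 D20853 (iv D18355) D18354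
theorem F39165 : act 5 n20853 = n19107 := d14_2 (iv F33256) D20853 (iv F38187) F38188 F32031
theorem F39166 : act 3 n19108 = n20853 := d13_3 F39165 (iv D19107) D19108
def n20854 : Q := act 2 n18356
theorem D20854 : act 2 n18356 = n20854 := rfl
theorem F39167 : act 0 n20854 = n18552 := d1_1 D20854 (iv F39161) F39160
theorem F39168 : act 3 n20854 = n18549 := d9_2 D18356 D20854 F33700 F27401 (iv F26874) F26875 (iv F27020) D18404 F33351 (iv D15625) (iv D12540) (iv D9805) (iv F16014) D12276 D15377
theorem F39169 : act 5 n20854 = n18405 := d11_2 (iv F33261) D20854 (iv D18405)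
def n20855 : Q := act 4 n18356
theorem D20855 : act 4 n18356 = n20855 := rfl
theorem F39170 : act 1 n20855 = n18408 := d7_1 D20855 (iv D18408) (iv F33260)
theorem F39171 : act 5 n20855 = n19086 := d14_2 (iv F33261) D20855 (iv D19086) F33356 (iv D18406)
theorem F39172 : act 3 n19094 = n20855 := d13_3 F39171 F35009 D19094
def n20856 : Q := act 3 n18357
theorem D20856 : act 3 n18357 = n20856 := rfl
theorem F39173 : act 0 n20856 = n19108 := d2_1 D20856 F39166 F39163
theorem F39174 : act 1 n20856 = n18411 := d6_1 D20856 (iv D18411) (iv F33262)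
theorem F39175 : act 2 n20856 = n19102 := d9_1 D20856 F35041 F34160 (iv F32413) (iv F33279) (iv F38408) F38407 (iv D19107) F28746 (iv F28366) F28365 F27890 F26893 (iv F26883) (iv F33263)
theorem F39176 : act 4 n20856 = n19094 := d12_2 D18357 D20856 F39172 (iv D20855) (iv D18356)
theorem F39177 : act 5 n20856 = n19095 := d13_2 F38414 D20856 (iv F38413)
def n20857 : Q := act 3 n18359
theorem D20857 : act 3 n18359 = n20857 := rfl
theorem F39178 : act 1 n20857 = n18361 := d6_1 D20857 (iv D18361) (iv F33265)
def n20858 : Q := act 3 n18360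
theorem D20858 : act 3 n18360 = n20858 := rfl
theorem F39179 : act 0 n20858 = n18363 := d2_1 D20858 (iv D18363) (iv F33266)
theorem F39180 : act 4 n20858 = n18361 := d12_2 D18360 D20858 (iv D18361) (iv D15381) D15380
theorem F39181 : act 5 n20290 = n20858 := d4_0 F39179 (iv F33271) D20290
def n20859 : Q := act 5 n18360
theorem D20859 : act 5 n18360 = n20859 := rfl
theorem F39182 : act 0 n20859 = n18364 := d4_1 D20859 (iv D18364) (iv F33266)
theorem F39183 : act 3 n20859 = n20290 := d13_1 D20859 F39181 (iv D20858)
def n20860 : Q := act 3 n18362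
theorem D20860 : act 3 n18362 = n20860 := rfl
theorem F39184 : act 0 n20860 = n20433 := d2_1 D20860 (iv F39151) F39148
theorem F39185 : act 4 n20860 = n20430 := d12_2 D18362 D20860 (iv D20430) F33235 F33234
theorem F39186 : act 2 n20623 = n20860 := d10_3 F39185 F38166 D20623
def n20861 : Q := act 5 n18362
theorem D20861 : act 5 n18362 = n20861 := rfl
theorem F39187 : act 2 n20861 = n18364 := d11_1 D20861 (iv D18364) (iv F33268)
def n20862 : Q := act 2 n18366
theorem D20862 : act 2 n18366 = n20862 := rfl
theorem F39188 : act 0 n20862 = n18367 := d1_1 D20862 (iv D18367) (iv F33274)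
theorem F39189 : act 1 n20862 = n20053 := d5_1 D20862 (iv D20053) F30938 D17309 (iv F33275)
theorem F39190 : act 3 n20862 = n19308 := d9_2 D18366 D20862 F35506 F29271 F22816 F21206 (iv F26870) (iv F32262) F32261 (iv D16497) (iv D13421) (iv D10534) (iv F17633) (iv F21219) (iv F26887)
theorem F39191 : act 5 n20862 = n19307 := d11_2 F38404 D20862 (iv F38401)
def n20863 : Q := act 5 n18371
theorem D20863 : act 5 n18371 = n20863 := rfl
theorem F39192 : act 0 n20863 = n18814 := d4_1 D20863 (iv D18814) (iv F33287)
theorem F39193 : act 1 n20863 = n18373 := d8_1 D20863 (iv D18373) (iv F33288)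
theorem F39194 : act 3 n20863 = n18372 := d13_1 D20863 (iv D18372) D18371
def n20864 : Q := act 4 n18374
theorem D20864 : act 4 n18374 = n20864 := rfl
theorem F39195 : act 0 n20864 = n18558 := d3_1 D20864 (iv D18558) (iv F33295)
theorem F39196 : act 2 n20864 = n18375 := d10_1 D20864 (iv D18375) D18374
theorem F39197 : act 3 n19744 = n20864 := d15_1 (iv F36557) F39196 F33299 (iv F37076) F37077 F36892 F30592 F30219 D16954
def n20865 : Q := act 5 n18375
theorem D20865 : act 5 n18375 = n20865 := rfl
theorem F39198 : act 0 n20865 = n19654 := d4_1 D20865 (iv D19654) (iv F33298)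
theorem F39199 : act 3 n20865 = n20434 := d13_1 D20865 (iv D20434) (iv F33299)
def n20866 : Q := act 3 n18376
theorem D20866 : act 3 n18376 = n20866 := rfl
theorem F39200 : act 0 n20866 = n18377 := d2_1 D20866 (iv D18377) (iv F33300)
theorem F39201 : act 1 n20866 = n18386 := d6_1 D20866 (iv D18386) (iv F33301)
theorem F39202 : act 4 n20866 = n18384 := d12_2 D18376 D20866 (iv D18384) (iv D15420) (iv F26923)
def n20867 : Q := act 2 n18382
theorem D20867 : act 2 n18382 = n20867 := rfl
theorem F39203 : act 0 n20867 = n20745 := d1_1 D20867 F38922 F33440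
theorem F39204 : act 1 n20867 = n19083 := d5_1 D20867 F34999 F28747 (iv F29168) (iv F33312)
theorem F39205 : act 3 n20867 = n20741 := d9_2 D18382 D20867 (iv D20741) (iv D18219) F26531 F20469 (iv F20969) D15500 D18453 (iv F38913) (iv D20742) (iv D18221) F26539 (iv F20818) (iv F26946)
theorem F39206 : act 4 n20867 = n19082 := d10_2 (iv F33313) D20867 F34997
theorem F39207 : act 5 n20867 = n20723 := d11_2 (iv F33314) D20867 (iv D20723)
def n20868 : Q := act 2 n18383
theorem D20868 : act 2 n18383 = n20868 := rfl
theorem F39208 : act 0 n20868 = n19082 := d1_1 D20868 F34997 (iv F33315)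
theorem F39209 : act 3 n20868 = n19081 := d9_2 D18383 D20868 (iv F37965) F37966 F31800 F25285 (iv F25210) D17691 (iv F31759) F32083 F32082 F25600 F19767 (iv F20825) (iv F26951)
theorem F39210 : act 4 n20868 = n20745 := d10_2 F33441 D20868 F38922
theorem F39211 : act 5 n20868 = n19105 := d11_2 F37922 D20868 F37923
theorem F39212 : act 1 n19087 = n20868 := d6_3 F39209 F34993 D19087
def n20869 : Q := act 2 n18384
theorem D20869 : act 2 n18384 = n20869 := rfl
def n20870 : Q := act 5 n18384
theorem D20870 : act 5 n18384 = n20870 := rfl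
theorem F39213 : act 1 n20870 = n18389 := d8_1 D20870 (iv D18389) (iv F33316)
theorem F39214 : act 3 n20870 = n18385 := d13_1 D20870 (iv D18385) D18384
def n20871 : Q := act 2 n18386
theorem D20871 : act 2 n18386 = n20871 := rfl
theorem F39215 : act 0 n20871 = n18390 := d1_1 D20871 (iv D18390) (iv F33320)
theorem F39216 : act 4 n20871 = n18388 := d10_2 (iv F33321) D20871 (iv D18388)
def n20872 : Q := act 5 n18386
theorem D20872 : act 5 n18386 = n20872 := rfl
theorem F39217 : act 0 n20872 = n18391 := d4_1 D20872 (iv D18391) (iv F33320)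
theorem F39218 : act 3 n20872 = n18387 := d13_1 D20872 (iv D18387) D18386
def n20873 : Q := act 1 n18388
theorem D20873 : act 1 n18388 = n20873 := rfl
def n20874 : Q := act 4 n18389
theorem D20874 : act 4 n18389 = n20874 := rfl
theorem F39219 : act 0 n20874 = n18395 := d3_1 D20874 (iv D18395) (iv F33325)
theorem F39220 : act 3 n20874 = n18818 := d12_1 D20874 (iv D18818) F28016 (iv F26978) (iv F33326)
def n20875 : Q := act 1 n18390
theorem D20875 : act 1 n18390 = n20875 := rfl
theorem F39221 : act 4 n20875 = n18392 := d7_2 (iv F33327) D20875 (iv D18392)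
def n20876 : Q := act 3 n18390
theorem D20876 : act 3 n18390 = n20876 := rfl
def n20877 : Q := act 5 n18390
theorem D20877 : act 5 n18390 = n20877 := rfl
theorem F39222 : act 2 n20877 = n18391 := d11_1 D20877 (iv D18391) D18390
def n20878 : Q := act 0 n18392
theorem D20878 : act 0 n18392 = n20878 := rfl
def n20879 : Q := act 3 n18392
theorem D20879 : act 3 n18392 = n20879 := rfl
theorem F39223 : act 1 n20879 = n18393 := d6_1 D20879 (iv D18393) D18392
def n20880 : Q := act 4 n18393
theorem D20880 : act 4 n18393 = n20880 := rfl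
def n20881 : Q := act 4 n18394
theorem D20881 : act 4 n18394 = n20881 := rfl
theorem F39224 : act 2 n20881 = n18395 := d10_1 D20881 (iv D18395) (iv F33329)
def n20882 : Q := act 3 n18401
theorem D20882 : act 3 n18401 = n20882 := rfl
theorem F39225 : act 0 n20882 = n18411 := d2_1 D20882 (iv D18411) (iv F33344)
def n20883 : Q := act 2 n18402
theorem D20883 : act 2 n18402 = n20883 := rfl
theorem F39226 : act 0 n20883 = n18412 := d1_1 D20883 (iv D18412) (iv F33346)
theorem F39227 : act 4 n20883 = n18403 := d10_2 (iv F33347) D20883 (iv D18403)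
def n20884 : Q := act 1 n18403
theorem D20884 : act 1 n18403 = n20884 := rfl
theorem F39228 : act 3 n20884 = n20301 := d6_2 F37380 D20884 F37833
theorem F39229 : act 5 n20884 = n18417 := d8_2 (iv F33349) D20884 (iv D18417)
def n20885 : Q := act 4 n18407
theorem D20885 : act 4 n18407 = n20885 := rfl
theorem F39230 : act 0 n20885 = n20744 := d3_1 D20885 F38920 (iv F33539)
theorem F39231 : act 1 n20885 = n19086 := d7_1 D20885 (iv D19086) (iv F33357)
theorem F39232 : act 2 n20885 = n20801 := d10_1 D20885 F39044 F33549
theorem F39233 : act 3 n20885 = n19090 := d12_1 D20885 (iv D19090) (iv D16248) (iv F28699) (iv F33358)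
theorem F39234 : act 5 n20885 = n18408 := d14_2 D18407 D20885 (iv D18408) (iv D15448) D15447
def n20886 : Q := act 3 n18408
theorem D20886 : act 3 n18408 = n20886 := rfl
theorem F39235 : act 1 n20886 = n19094 := d6_1 D20886 F39172 F39170
theorem F39236 : act 4 n20886 = n18411 := d12_2 D18408 D20886 (iv D18411) (iv D15451) (iv F27024)
theorem F39237 : act 5 n20886 = n19090 := d13_2 F39234 D20886 (iv F39233)
def n20887 : Q := act 3 n18410
theorem D20887 : act 3 n18410 = n20887 := rfl
theorem F39238 : act 1 n20887 = n19095 := d6_1 D20887 (iv F38413) F38411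
theorem F39239 : act 4 n20887 = n19091 := d12_2 D18410 D20887 F35015 (iv F33362) F33361
theorem F39240 : act 5 n20887 = n18411 := d13_2 (iv F33364) D20887 (iv D18411)
def n20888 : Q := act 2 n18411
theorem D20888 : act 2 n18411 = n20888 := rfl
def n20889 : Q := act 3 n18412
theorem D20889 : act 3 n18412 = n20889 := rfl
def n20890 : Q := act 0 n18413
theorem D20890 : act 0 n18413 = n20890 := rfl
theorem F39241 : act 2 n20890 = n18415 := d1_2 (iv F33366) D20890 (iv D18415)
theorem F39242 : act 5 n20890 = n18421 := d4_2 (iv F33367) D20890 (iv D18421)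
def n20891 : Q := act 3 n18413
theorem D20891 : act 3 n18413 = n20891 := rfl
theorem F39243 : act 1 n20891 = n18414 := d6_1 D20891 (iv D18414) D18413
theorem F39244 : act 5 n20891 = n18422 := d13_2 (iv F33367) D20891 (iv D18422)
def n20892 : Q := act 4 n18414
theorem D20892 : act 4 n18414 = n20892 := rfl
def n20893 : Q := act 0 n18417
theorem D20893 : act 0 n18417 = n20893 := rfl
theorem F39245 : act 1 n20893 = n18421 := d0_2 D18417 D20893 (iv D18421) (iv D15464) (iv F27036)
theorem F39246 : act 2 n20893 = n20310 := d1_2 F35710 D20893 F37856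
theorem F39247 : act 4 n20893 = n20265 := d3_2 (iv F35708) D20893 F37740
def n20894 : Q := act 3 n18421
theorem D20894 : act 3 n18421 = n20894 := rfl
theorem F39248 : act 0 n20894 = n18422 := d2_1 D20894 (iv D18422) D18421
def n20895 : Q := act 2 n18422
theorem D20895 : act 2 n18422 = n20895 := rfl
def n20896 : Q := act 4 n18422
theorem D20896 : act 4 n18422 = n20896 := rfl
theorem F39249 : act 1 n20896 = n18423 := d7_1 D20896 (iv D18423) (iv F33383)
def n20897 : Q := act 5 n18423
theorem D20897 : act 5 n18423 = n20897 := rfl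
def n20898 : Q := act 2 n18424
theorem D20898 : act 2 n18424 = n20898 := rfl
theorem F39250 : act 0 n20898 = n18425 := d1_1 D20898 (iv D18425) (iv F33384)
def n20899 : Q := act 3 n18425
theorem D20899 : act 3 n18425 = n20899 := rfl
theorem F39251 : act 1 n20899 = n18790 := d6_1 D20899 (iv F37996) F37995
def n20900 : Q := act 2 n18427
theorem D20900 : act 2 n18427 = n20900 := rfl
theorem F39252 : act 0 n20900 = n20503 := d1_1 D20900 F38335 F37665
theorem F39253 : act 1 n20900 = n20525 := d5_1 D20900 F38368 F32259 (iv F27064) (iv F33389)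
theorem F39254 : act 4 n20900 = n20501 := d10_2 F33390 D20900 F38330
def n20901 : Q := act 5 n18427
theorem D20901 : act 5 n18427 = n20901 := rfl
theorem F39255 : act 1 n20901 = n18429 := d8_1 D20901 (iv D18429) (iv F33389)
theorem F39256 : act 3 n20901 = n18428 := d13_1 D20901 (iv D18428) D18427
def n20902 : Q := act 4 n18429
theorem D20902 : act 4 n18429 = n20902 := rfl
theorem F39257 : act 0 n20902 = n20388 := d3_1 D20902 F38054 (iv F33393)
theorem F39258 : act 2 n20902 = n20386 := d10_1 D20902 F38047 (iv F33394)
theorem F39259 : act 5 n20902 = n20484 := d14_2 D18429 D20902 F38285 F32177 F27065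
def n20903 : Q := act 3 n18430
theorem D20903 : act 3 n18430 = n20903 := rfl
def n20904 : Q := act 2 n18431
theorem D20904 : act 2 n18431 = n20904 := rfl
theorem F39260 : act 0 n20904 = n18433 := d1_1 D20904 (iv D18433) (iv F33397)
theorem F39261 : act 5 n20904 = n18776 := d11_2 F38060 D20904 (iv F38057)
def n20905 : Q := act 3 n18433
theorem D20905 : act 3 n18433 = n20905 := rfl
theorem F39262 : act 1 n20905 = n18780 := d6_1 D20905 F34195 (iv F33399)
theorem F39263 : act 5 n20905 = n18777 := d13_2 (iv F33400) D20905 (iv D18777)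
def n20906 : Q := act 3 n18434
theorem D20906 : act 3 n18434 = n20906 := rfl
theorem F39264 : act 0 n20906 = n18437 := d2_1 D20906 (iv D18437) (iv F33401)
theorem F39265 : act 1 n20906 = n19891 := d6_1 D20906 (iv D19891) (iv F33402)
theorem F39266 : act 4 n20906 = n18435 := d12_2 D18434 D20906 (iv D18435) (iv D15480) D15479
def n20907 : Q := act 5 n18434
theorem D20907 : act 5 n18434 = n20907 := rfl
theorem F39267 : act 0 n20907 = n18438 := d4_1 D20907 (iv D18438) (iv F33401)
theorem F39268 : act 1 n20907 = n19892 := d8_1 D20907 (iv D19892) (iv F33402)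
theorem F39269 : act 2 n20907 = n18438 := d11_1 D20907 (iv D18438) (iv F33403)
theorem F39270 : act 4 n20907 = n19887 := d14_1 D20907 (iv D19887) (iv D17112) (iv F27073) D18434
def n20908 : Q := act 2 n18435
theorem D20908 : act 2 n18435 = n20908 := rfl
theorem F39271 : act 0 n20908 = n18439 := d1_1 D20908 (iv D18439) (iv F33404)
def n20909 : Q := act 2 n18437
theorem D20909 : act 2 n18437 = n20909 := rfl
theorem F39272 : act 4 n20909 = n18439 := d10_2 (iv F33410) D20909 (iv D18439)
def n20910 : Q := act 5 n18437
theorem D20910 : act 5 n18437 = n20910 := rfl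
theorem F39273 : act 1 n20910 = n19812 := d8_1 D20910 (iv D19812) (iv F33409)
theorem F39274 : act 3 n20910 = n18438 := d13_1 D20910 (iv D18438) D18437
def n20911 : Q := act 1 n18439
theorem D20911 : act 1 n18439 = n20911 := rfl
theorem F39275 : act 2 n20911 = n19813 := d5_2 D18439 D20911 (iv D19813) (iv D17038) (iv F27082)
def n20912 : Q := act 3 n18439
theorem D20912 : act 3 n18439 = n20912 := rfl
def n20913 : Q := act 5 n18439
theorem D20913 : act 5 n18439 = n20913 := rfl
theorem F39276 : act 2 n20913 = n18440 := d11_1 D20913 (iv D18440) D18439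
def n20914 : Q := act 4 n18440
theorem D20914 : act 4 n18440 = n20914 := rfl
theorem F39277 : act 1 n20914 = n19815 := d7_1 D20914 (iv D19815) (iv F33413)
theorem F39278 : act 3 n20914 = n19889 := d12_1 D20914 (iv D19889) F30555 (iv F27085) (iv F33414)
def n20915 : Q := act 0 n18443
theorem D20915 : act 0 n18443 = n20915 := rfl
theorem F39279 : act 1 n20915 = n19822 := d0_2 D18443 D20915 F36741 (iv F33416) F33415
theorem F39280 : act 2 n20915 = n18447 := d1_2 (iv F33424) D20915 (iv D18447)
theorem F39281 : act 4 n20915 = n19763 := d3_2 (iv F33425) D20915 (iv D19763)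
theorem F39282 : act 5 n19820 = n20915 := d14_0 F39281 F36609 (iv F30404) (iv F30441) D19820
def n20916 : Q := act 3 n18443
theorem D20916 : act 3 n18443 = n20916 := rfl
theorem F39283 : act 1 n20916 = n18444 := d6_1 D20916 (iv D18444) D18443
def n20917 : Q := act 5 n18443
theorem D20917 : act 5 n18443 = n20917 := rfl
theorem F39284 : act 0 n20917 = n19820 := d4_1 D20917 F39282 (iv D20915)
theorem F39285 : act 1 n20917 = n18445 := d8_1 D20917 (iv D18445) D18443
theorem F39286 : act 2 n20917 = n18449 := d11_1 D20917 (iv D18449) (iv F33424)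
theorem F39287 : act 4 n20917 = n19803 := d14_1 D20917 (iv D19803) (iv D17028) (iv F30289) (iv F33425)
def n20918 : Q := act 4 n18444
theorem D20918 : act 4 n18444 = n20918 := rfl
theorem F39288 : act 3 n20918 = n19765 := d12_1 D20918 (iv D19765) (iv D16978) (iv F27092) D18444
def n20919 : Q := act 5 n18444
theorem D20919 : act 5 n18444 = n20919 := rfl
theorem F39289 : act 0 n20919 = n20409 := d4_1 D20919 F38102 F36434
theorem F39290 : act 3 n20919 = n18445 := d13_1 D20919 (iv D18445) D18444
def n20920 : Q := act 3 n18447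
theorem D20920 : act 3 n18447 = n20920 := rfl
theorem F39291 : act 0 n20920 = n18448 := d2_1 D20920 (iv D18448) D18447
theorem F39292 : act 1 n20920 = n19804 := d6_1 D20920 (iv D19804) (iv F33434)
theorem F39293 : act 4 n20920 = n19799 := d12_2 (iv F33435) D20920 (iv D19799) F30397 (iv F30292)
def n20921 : Q := act 5 n18447
theorem D20921 : act 5 n18447 = n20921 := rfl
theorem F39294 : act 0 n20921 = n18449 := d4_1 D20921 (iv D18449) D18447
theorem F39295 : act 1 n20921 = n19805 := d8_1 D20921 (iv D19805) (iv F33434)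
theorem F39296 : act 2 n20921 = n19820 := d11_1 D20921 F39282 F39280
theorem F39297 : act 4 n20921 = n19802 := d14_1 D20921 (iv D19802) (iv D17026) (iv F30293) (iv F33435)
def n20922 : Q := act 2 n18448
theorem D20922 : act 2 n18448 = n20922 := rfl
theorem F39298 : act 4 n20922 = n19800 := d10_2 (iv F33437) D20922 (iv D19800)
def n20923 : Q := act 3 n18451
theorem D20923 : act 3 n18451 = n20923 := rfl
theorem F39299 : act 0 n20923 = n20340 := d2_1 D20923 F37926 F33988
theorem F39300 : act 1 n20923 = n19739 := d6_1 D20923 (iv D19739) (iv F33443)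
theorem F39301 : act 4 n20923 = n20339 := d12_2 D18451 D20923 (iv D20339) F31755 (iv F27743)
theorem F39302 : act 5 n20923 = n18452 := d13_2 (iv F33445) D20923 (iv D18452)
theorem F39303 : act 2 n20923 = n20451 := d15_2 (iv F33444) D20923 (iv D20451) (iv D17826) (iv D14797) (iv F21452) (iv F26415) D18164 F32803
def n20924 : Q := act 2 n18452
theorem D20924 : act 2 n18452 = n20924 := rfl
theorem F39304 : act 3 n20924 = n20449 := d9_2 D18452 D20924 (iv D20449) (iv D17824) (iv F27703) (iv F32805) (iv F33990) (iv F37926) F37925 F35048 (iv D18648) (iv D15769) F21464 (iv F21012) (iv F27122)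
theorem F39305 : act 4 n20924 = n18453 := d10_2 (iv F33446) D20924 (iv D18453)
theorem F39306 : act 5 n20924 = n20451 := d11_2 F39302 D20924 (iv F39303)
theorem F39307 : act 1 n20882 = n20924 := d6_3 F39304 F38209 D20882
def n20925 : Q := act 1 n18453
theorem D20925 : act 1 n18453 = n20925 := rfl
theorem F39308 : act 3 n20925 = n19868 := d6_2 F38913 D20925 (iv F38910)
theorem F39309 : act 4 n20925 = n20882 := d7_2 F39305 D20925 F39307
theorem F39310 : act 0 n20886 = n20925 := d3_3 F39309 F39225 (iv F39236)
def n20926 : Q := act 3 n18459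
theorem D20926 : act 3 n18459 = n20926 := rfl
theorem F39311 : act 0 n20926 = n18465 := d2_1 D20926 (iv D18465) (iv F33468)
theorem F39312 : act 1 n20926 = n20350 := d6_1 D20926 (iv D20350) (iv F33469)
theorem F39313 : act 2 n20926 = n19840 := d9_1 D20926 (iv D19840) (iv D17067) (iv D13992) (iv F21092) D15572 (iv F33486) (iv F38759) F38758 (iv D19830) F30459 F23982 (iv F23992) (iv F30468) (iv F33470)
theorem F39314 : act 4 n20926 = n18460 := d12_2 D18459 D20926 (iv D18460) (iv D15509) (iv F27138)
theorem F39315 : act 5 n20926 = n19834 := d13_2 (iv F33471) D20926 (iv D19834)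
def n20927 : Q := act 2 n18460
theorem D20927 : act 2 n18460 = n20927 := rfl
theorem F39316 : act 0 n20927 = n18466 := d1_1 D20927 (iv D18466) (iv F33472)
theorem F39317 : act 4 n20927 = n19840 := d10_2 F39314 D20927 (iv F39313)
theorem F39318 : act 5 n20927 = n18468 := d11_2 (iv F33473) D20927 (iv D18468)
def n20928 : Q := act 1 n18466
theorem D20928 : act 1 n18466 = n20928 := rfl
theorem F39319 : act 2 n20928 = n18467 := d5_2 D18466 D20928 (iv D18467) (iv D15521) (iv F27158)
theorem F39320 : act 4 n20928 = n19831 := d7_2 (iv F33491) D20928 F36757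
theorem F39321 : act 5 n20928 = n18469 := d8_2 (iv F33492) D20928 (iv D18469)
def n20929 : Q := act 3 n18466
theorem D20929 : act 3 n18466 = n20929 := rfl
theorem F39322 : act 4 n20929 = n19843 := d12_2 (iv F33491) D20929 (iv D19843) (iv D17070) D17069
theorem F39323 : act 5 n20929 = n18470 := d13_2 (iv F33492) D20929 (iv D18470)
def n20930 : Q := act 0 n18467
theorem D20930 : act 0 n18467 = n20930 := rfl
theorem F39324 : act 4 n20930 = n19819 := d3_2 F38784 D20930 (iv F38780)
theorem F39325 : act 5 n20930 = n18471 := d4_2 (iv F33493) D20930 (iv D18471)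
def n20931 : Q := act 1 n18468
theorem D20931 : act 1 n18468 = n20931 := rfl
def n20932 : Q := act 3 n18468
theorem D20932 : act 3 n18468 = n20932 := rfl
theorem F39326 : act 0 n20932 = n18470 := d2_1 D20932 (iv D18470) (iv F33494)
def n20933 : Q := act 0 n18469
theorem D20933 : act 0 n18469 = n20933 := rfl
theorem F39327 : act 2 n20933 = n18471 := d1_2 (iv F33495) D20933 (iv D18471)
def n20934 : Q := act 3 n18469
theorem D20934 : act 3 n18469 = n20934 := rfl
theorem F39328 : act 1 n20934 = n18470 := d6_1 D20934 (iv D18470) D18469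
def n20935 : Q := act 2 n18470
theorem D20935 : act 2 n18470 = n20935 := rfl
def n20936 : Q := act 4 n18470
theorem D20936 : act 4 n18470 = n20936 := rfl
def n20937 : Q := act 3 n18471
theorem D20937 : act 3 n18471 = n20937 := rfl
theorem F39329 : act 0 n20937 = n18472 := d2_1 D20937 (iv D18472) D18471
def n20938 : Q := act 2 n18472
theorem D20938 : act 2 n18472 = n20938 := rfl
theorem F39330 : act 1 n20938 = n19845 := d5_1 D20938 (iv D19845) F30481 (iv F27183) (iv F33496)
def n20939 : Q := act 4 n18475
theorem D20939 : act 4 n18475 = n20939 := rfl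
theorem F39331 : act 0 n20939 = n18478 := d3_1 D20939 (iv D18478) (iv F33505)
theorem F39332 : act 1 n20939 = n20666 := d7_1 D20939 (iv D20666) (iv F33506)
theorem F39333 : act 2 n20939 = n20359 := d10_1 D20939 F38829 F38827
theorem F39334 : act 3 n20612 = n20939 := d15_1 (iv F38564) F39333 (iv D20359) (iv D17710) (iv D14666) F19522 D11907 D14984 (iv F32432)
theorem F39335 : act 5 n20939 = n20611 := d13_2 D20612 F39334 (iv D20611)
def n20940 : Q := act 3 n18476
theorem D20940 : act 3 n18476 = n20940 := rfl
theorem F39336 : act 0 n20940 = n18479 := d2_1 D20940 (iv D18479) (iv F33508)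
theorem F39337 : act 2 n20940 = n18542 := d9_1 D20940 F33680 F32750 (iv D18144) F26364 F20348 (iv F21330) (iv F27381) (iv D15613) (iv D12530) (iv F20849) D15429 (iv F26987) (iv F27205) (iv F33509)
theorem F39338 : act 4 n20940 = n20612 := d12_2 D18476 D20940 F39334 (iv D20939) (iv D18475)
theorem F39339 : act 5 n20940 = n18541 := d13_2 (iv F33510) D20940 F33676
def n20941 : Q := act 4 n18477
theorem D20941 : act 4 n18477 = n20941 := rfl
theorem F39340 : act 0 n20941 = n20359 := d3_1 D20941 F38829 F38825
theorem F39341 : act 1 n20941 = n20664 := d7_1 D20941 (iv D20664) (iv F33511)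
theorem F39342 : act 2 n20941 = n18478 := d10_1 D20941 (iv D18478) D18477
theorem F39343 : act 3 n20941 = n19280 := d12_1 D20941 F35429 D20355 F38797 F38796
theorem F39344 : act 5 n20614 = n20941 := d11_0 F39342 F33515 D20614
def n20942 : Q := act 4 n18490
theorem D20942 : act 4 n18490 = n20942 := rfl
theorem F39345 : act 1 n20942 = n18491 := d7_1 D20942 (iv D18491) D18490
def n20943 : Q := act 3 n18491
theorem D20943 : act 3 n18491 = n20943 := rfl
theorem F39346 : act 0 n20943 = n18499 := d2_1 D20943 (iv D18499) (iv F33558)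
theorem F39347 : act 4 n20943 = n19389 := d12_2 D18491 D20943 (iv D19389) (iv D16579) (iv F27250)
def n20944 : Q := act 3 n18494
theorem D20944 : act 3 n18494 = n20944 := rfl
theorem F39348 : act 0 n20944 = n18495 := d2_1 D20944 (iv D18495) D18494
theorem F39349 : act 1 n20944 = n18697 := d6_1 D20944 (iv F35008) F35006
theorem F39350 : act 2 n20944 = n19399 := d9_1 D20944 F35700 F29489 (iv D13913) F18384 D10959 D13927 D17002 (iv F35697) F35698 F32350 (iv F30311) F30310 (iv F27267) (iv F33567)
theorem F39351 : act 5 n20944 = n18695 := d13_2 (iv F33568) D20944 (iv F34080)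
def n20945 : Q := act 4 n18494
theorem D20945 : act 4 n18494 = n20945 := rfl
theorem F39352 : act 0 n20945 = n18496 := d3_1 D20945 (iv D18496) D18494
theorem F39353 : act 2 n20945 = n18501 := d10_1 D20945 (iv D18501) (iv F33567)
def n20946 : Q := act 2 n18495
theorem D20946 : act 2 n18495 = n20946 := rfl
theorem F39354 : act 0 n20946 = n19399 := d1_1 D20946 (iv F39350) F39348
theorem F39355 : act 1 n20946 = n19381 := d5_1 D20946 (iv D19381) F29428 (iv F27261) (iv F33569)
theorem F39356 : act 3 n20946 = n19425 := d9_2 D18495 D20946 F35746 (iv D16983) F23867 D13925 D16999 F34080 F34078 F29458 F25852 (iv F23873) F23872 (iv F21078) (iv F27258)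
theorem F39357 : act 5 n20946 = n19398 := d11_2 (iv F33570) D20946 F35697
def n20947 : Q := act 4 n18495
theorem D20947 : act 4 n18495 = n20947 := rfl
theorem F39358 : act 1 n20947 = n18497 := d7_1 D20947 (iv D18497) (iv F33569)
def n20948 : Q := act 3 n18496
theorem D20948 : act 3 n18496 = n20948 := rfl
theorem F39359 : act 1 n20948 = n18499 := d6_1 D20948 (iv D18499) (iv F33571)
def n20949 : Q := act 5 n18496
theorem D20949 : act 5 n18496 = n20949 := rfl
theorem F39360 : act 1 n20949 = n18500 := d8_1 D20949 (iv D18500) (iv F33571)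
theorem F39361 : act 2 n20949 = n18503 := d11_1 D20949 (iv D18503) (iv F33572)
theorem F39362 : act 4 n20949 = n19783 := d14_1 D20949 (iv D19783) (iv D17003) F27259 D18496
def n20950 : Q := act 3 n18497
theorem D20950 : act 3 n18497 = n20950 := rfl
theorem F39363 : act 0 n20950 = n19389 := d2_1 D20950 (iv D19389) (iv F33573)
theorem F39364 : act 4 n20950 = n18499 := d12_2 D18497 D20950 (iv D18499) (iv D15559) D15558
def n20951 : Q := act 5 n18497
theorem D20951 : act 5 n18497 = n20951 := rfl
theorem F39365 : act 0 n20951 = n18741 := d4_1 D20951 F34149 (iv F33573)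
theorem F39366 : act 2 n20951 = n19388 := d11_1 D20951 (iv D19388) (iv F33574)
theorem F39367 : act 4 n18739 = n20951 := d3_0 F39365 (iv D18741) (iv F34143)
def n20952 : Q := act 4 n18498
theorem D20952 : act 4 n18498 = n20952 := rfl
theorem F39368 : act 0 n20952 = n18509 := d3_1 D20952 (iv D18509) (iv F33575)
theorem F39369 : act 1 n20952 = n18701 := d7_1 D20952 F34094 (iv F33576)
theorem F39370 : act 2 n20952 = n18507 := d10_1 D20952 (iv D18507) (iv F33577)
theorem F39371 : act 3 n20952 = n18740 := d12_1 D20952 (iv F34146) (iv F33703) F33475 (iv F33578)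
theorem F39372 : act 5 n20952 = n18739 := d14_2 D18498 D20952 F39367 (iv D20951) (iv D18497)
def n20953 : Q := act 2 n18499
theorem D20953 : act 2 n18499 = n20953 := rfl
theorem F39373 : act 3 n20953 = n19845 := d15_3 (iv F27262) D18499 D20953 (iv D19845) (iv D17072) (iv F27284) (iv F33566) (iv D18493) F27251
def n20954 : Q := act 5 n18499
theorem D20954 : act 5 n18499 = n20954 := rfl
theorem F39374 : act 3 n20954 = n18500 := d13_1 D20954 (iv D18500) D18499
def n20955 : Q := act 3 n18501
theorem D20955 : act 3 n18501 = n20955 := rfl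
theorem F39375 : act 0 n20955 = n18502 := d2_1 D20955 (iv D18502) (iv F33580)
theorem F39376 : act 1 n20955 = n19854 := d6_1 D20955 (iv F39043) F39042
theorem F39377 : act 4 n20955 = n19781 := d12_2 D18501 D20955 (iv D19781) (iv D17001) (iv F27267)
theorem F39378 : act 5 n19828 = n20955 := d14_0 F39377 F36661 F30386 D17054 D19828
def n20956 : Q := act 5 n18501
theorem D20956 : act 5 n18501 = n20956 := rfl
theorem F39379 : act 0 n20956 = n18503 := d4_1 D20956 (iv D18503) (iv F33580)
theorem F39380 : act 1 n20956 = n19855 := d8_1 D20956 (iv F39045) F39042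
theorem F39381 : act 3 n20956 = n19828 := d13_1 D20956 F39378 (iv D20955)
theorem F39382 : act 4 n20956 = n19780 := d14_1 D20956 (iv D19780) (iv D17000) (iv F27268) D18501
def n20957 : Q := act 2 n18502
theorem D20957 : act 2 n18502 = n20957 := rfl
theorem F39383 : act 1 n20957 = n19844 := d5_1 D20957 F36780 F30480 (iv F27271) (iv F33581)
theorem F39384 : act 4 n20957 = n19784 := d10_2 (iv F33582) D20957 (iv D19784)
theorem F39385 : act 5 n20957 = n19832 := d11_2 F33583 D20957 F36760
def n20958 : Q := act 1 n18504
theorem D20958 : act 1 n18504 = n20958 := rfl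
def n20959 : Q := act 3 n18504
theorem D20959 : act 3 n18504 = n20959 := rfl
def n20960 : Q := act 5 n18504
theorem D20960 : act 5 n18504 = n20960 := rfl
theorem F39386 : act 0 n20960 = n19845 := d4_1 D20960 (iv F38931) F38929
theorem F39387 : act 2 n20960 = n18505 := d11_1 D20960 (iv D18505) D18504
def n20961 : Q := act 4 n18505
theorem D20961 : act 4 n18505 = n20961 := rfl
theorem F39388 : act 0 n20961 = n19798 := d3_1 D20961 F36697 (iv F33587)
theorem F39389 : act 1 n20961 = n19870 := d7_1 D20961 (iv F38949) F38948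
theorem F39390 : act 3 n20961 = n19797 := d12_1 D20961 F36695 F30465 (iv F27291) (iv F33588)
def n20962 : Q := act 3 n18506
theorem D20962 : act 3 n18506 = n20962 := rfl
theorem F39391 : act 0 n20962 = n19386 := d2_1 D20962 (iv D19386) (iv F33589)
theorem F39392 : act 1 n20962 = n18508 := d6_1 D20962 (iv D18508) (iv F33590)
theorem F39393 : act 4 n20962 = n19412 := d12_2 D18506 D20962 (iv D19412) (iv D16601) F27311
theorem F39394 : act 5 n20962 = n19938 := d13_2 (iv F33592) D20962 (iv D19938)
theorem F39395 : act 2 n20962 = n19412 := d15_2 (iv F33591) D20962 (iv D19412) (iv F35706) F37776 (iv D20279) (iv D17597) (iv F31522) F31519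
def n20963 : Q := act 3 n18507
theorem D20963 : act 3 n18507 = n20963 := rfl
theorem F39396 : act 0 n20963 = n18510 := d2_1 D20963 (iv D18510) (iv F33593)
theorem F39397 : act 1 n20963 = n19412 := d6_1 D20963 (iv D19412) (iv F33594)
theorem F39398 : act 4 n20963 = n18508 := d12_2 D18507 D20963 (iv D18508) (iv D15577) D15576
theorem F39399 : act 2 n20963 = n19935 := d15_2 F39370 D20963 (iv D19935) F30639 (iv F25884) F25883 D15859 F33601 (iv F39368)
def n20964 : Q := act 5 n18507
theorem D20964 : act 5 n18507 = n20964 := rfl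
theorem F39400 : act 0 n20964 = n18511 := d4_1 D20964 (iv D18511) (iv F33593)
theorem F39401 : act 1 n20964 = n19413 := d8_1 D20964 (iv D19413) (iv F33594)
theorem F39402 : act 2 n20964 = n18739 := d11_1 D20964 (iv F39372) F39370
theorem F39403 : act 4 n20964 = n19388 := d14_1 D20964 (iv D19388) (iv D16577) (iv F27314) D18507
def n20965 : Q := act 2 n18510
theorem D20965 : act 2 n18510 = n20965 := rfl
theorem F39404 : act 0 n20965 = n19935 := d1_1 D20965 (iv F39399) F39396
theorem F39405 : act 4 n20965 = n18512 := d10_2 (iv F33603) D20965 (iv D18512)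
theorem F39406 : act 3 n20965 = n19934 := d15_3 F33599 D18510 D20965 F36947 (iv F32389) F32388 D18739 (iv F39372) F39368
def n20966 : Q := act 5 n18510
theorem D20966 : act 5 n18510 = n20966 := rfl
theorem F39407 : act 1 n20966 = n19392 := d8_1 D20966 F35686 (iv F33602)
theorem F39408 : act 3 n20966 = n18511 := d13_1 D20966 (iv D18511) D18510
theorem F39409 : act 4 n20966 = n19942 := d14_1 D20966 (iv D19942) (iv D17165) (iv F27322) (iv F33603)
def n20967 : Q := act 1 n18512
theorem D20967 : act 1 n18512 = n20967 := rfl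
theorem F39410 : act 2 n20967 = n19394 := d5_2 D18512 D20967 (iv D19394) (iv D16586) (iv F27321)
theorem F39411 : act 3 n20967 = n19919 := d6_2 (iv F33609) D20967 (iv D19919)
theorem F39412 : act 5 n20967 = n19940 := d8_2 (iv F33608) D20967 (iv D19940)
def n20968 : Q := act 1 n18513
theorem D20968 : act 1 n18513 = n20968 := rfl
theorem F39413 : act 3 n20968 = n19940 := d6_2 (iv F33611) D20968 (iv D19940)
theorem F39414 : act 5 n20968 = n19919 := d8_2 (iv F33612) D20968 (iv D19919)
def n20969 : Q := act 0 n18514
theorem D20969 : act 0 n18514 = n20969 := rfl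
theorem F39415 : act 2 n20969 = n18516 := d1_2 (iv F33613) D20969 (iv D18516)
theorem F39416 : act 5 n20969 = n19934 := d4_2 (iv F33614) D20969 (iv D19934)
def n20970 : Q := act 3 n18514
theorem D20970 : act 3 n18514 = n20970 := rfl
theorem F39417 : act 1 n20970 = n18515 := d6_1 D20970 (iv D18515) D18514
theorem F39418 : act 5 n20970 = n19935 := d13_2 (iv F33614) D20970 (iv D19935)
def n20971 : Q := act 4 n18515
theorem D20971 : act 4 n18515 = n20971 := rfl
theorem F39419 : act 0 n20971 = n19941 := d3_1 D20971 (iv D19941) (iv F33615)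
theorem F39420 : act 2 n20971 = n19939 := d10_1 D20971 (iv D19939) (iv F33616)
def n20972 : Q := act 5 n18517
theorem D20972 : act 5 n18517 = n20972 := rfl
theorem F39421 : act 0 n20972 = n18717 := d4_1 D20972 (iv F34164) F34161
theorem F39422 : act 1 n20972 = n18518 := d8_1 D20972 (iv D18518) (iv F33619)
theorem F39423 : act 3 n20972 = n18536 := d13_1 D20972 (iv F37801) F37799
theorem F39424 : act 4 n20972 = n18600 := d14_1 D20972 (iv D18600) (iv D15710) (iv F27335) D18517
def n20973 : Q := act 5 n18519
theorem D20973 : act 5 n18519 = n20973 := rfl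
theorem F39425 : act 0 n20973 = n18571 := d4_1 D20973 (iv D18571) (iv F33624)
theorem F39426 : act 1 n20973 = n20587 := d8_1 D20973 F38501 F34172
theorem F39427 : act 3 n20973 = n18520 := d13_1 D20973 (iv D18520) D18519
def n20974 : Q := act 4 n18521
theorem D20974 : act 4 n18521 = n20974 := rfl
theorem F39428 : act 0 n20974 = n18537 := d3_1 D20974 (iv D18537) (iv F33629)
theorem F39429 : act 1 n20974 = n18720 := d7_1 D20974 (iv D18720) (iv F33630)
theorem F39430 : act 2 n20974 = n18534 := d10_1 D20974 (iv D18534) (iv F33631)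
theorem F39431 : act 3 n20974 = n18909 := d12_1 D20974 (iv D18909) (iv D16052) (iv F27345) (iv F33632)
def n20975 : Q := act 2 n18522
theorem D20975 : act 2 n18522 = n20975 := rfl
theorem F39432 : act 0 n20975 = n18527 := d1_1 D20975 (iv D18527) (iv F33633)
theorem F39433 : act 1 n20975 = n18535 := d5_1 D20975 F33665 F27367 (iv F27602) (iv F33634)
theorem F39434 : act 4 n20975 = n18524 := d10_2 (iv F33635) D20975 (iv D18524)
def n20976 : Q := act 5 n18522
theorem D20976 : act 5 n18522 = n20976 := rfl
theorem F39435 : act 0 n20976 = n18528 := d4_1 D20976 (iv D18528) (iv F33633)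
theorem F39436 : act 1 n20976 = n18606 := d8_1 D20976 (iv D18606) (iv F33634)
theorem F39437 : act 3 n20976 = n18523 := d13_1 D20976 (iv D18523) D18522
theorem F39438 : act 4 n20976 = n18574 := d14_1 D20976 (iv F37809) F37808 F31612 (iv F33635)
def n20977 : Q := act 2 n18525
theorem D20977 : act 2 n18525 = n20977 := rfl
theorem F39439 : act 0 n20977 = n20460 := d1_1 D20977 F38228 (iv F33643)
theorem F39440 : act 4 n20977 = n20459 := d10_2 (iv F33645) D20977 (iv D20459)
def n20978 : Q := act 5 n18525
theorem D20978 : act 5 n18525 = n20978 := rfl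
theorem F39441 : act 0 n20978 = n20461 := d4_1 D20978 (iv D20461) (iv F33643)
theorem F39442 : act 1 n20978 = n18602 := d8_1 D20978 (iv D18602) (iv F33644)
theorem F39443 : act 3 n20978 = n18526 := d13_1 D20978 (iv D18526) D18525
def n20979 : Q := act 1 n18527
theorem D20979 : act 1 n18527 = n20979 := rfl
theorem F39444 : act 2 n20979 = n18528 := d5_2 D18527 D20979 F33650 F27530 (iv F27356)
theorem F39445 : act 4 n20979 = n18529 := d7_2 (iv F33649) D20979 (iv D18529)
theorem F39446 : act 5 n18527 = n20979 := d14_0 F39445 (iv F37814) F37813 F31624 (iv F33649)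
def n20980 : Q := act 3 n18527
theorem D20980 : act 3 n18527 = n20980 := rfl
def n20981 : Q := act 0 n18529
theorem D20981 : act 0 n18529 = n20981 := rfl
theorem F39447 : act 1 n20981 = n18530 := d0_2 D18529 D20981 F33654 (iv F33640) F33639
theorem F39448 : act 2 n20981 = n18574 := d1_2 (iv F33653) D20981 (iv D18574)
theorem F39449 : act 5 n20981 = n18531 := d4_2 F37814 D20981 (iv F37811)
theorem F39450 : act 3 n18529 = n20981 := d13_3 F39449 (iv F37815) F37814
def n20982 : Q := act 4 n18530
theorem D20982 : act 4 n18530 = n20982 := rfl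
theorem F39451 : act 0 n20982 = n18535 := d3_1 D20982 (iv D18535) (iv F33654)
theorem F39452 : act 2 n20982 = n18532 := d10_1 D20982 (iv D18532) (iv F33655)
theorem F39453 : act 5 n20982 = n18535 := d14_2 (iv F33656) D20982 (iv D18535) (iv D15605) (iv F27361)
def n20983 : Q := act 2 n18533
theorem D20983 : act 2 n18533 = n20983 := rfl
theorem F39454 : act 1 n20983 = n18719 := d5_1 D20983 (iv D18719) (iv F33630) F33631 (iv F33662)
theorem F39455 : act 3 n20983 = n19406 := d9_2 D18533 D20983 F35713 (iv F35726) F37697 (iv D20248) F31489 D17597 D20279 (iv F37776) F35706 D19412 (iv F39395) (iv D20962) F33591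
theorem F39456 : act 5 n20983 = n19405 := d11_2 F37765 D20983 (iv F37766)
def n20984 : Q := act 4 n18533
theorem D20984 : act 4 n18533 = n20984 := rfl
theorem F39457 : act 0 n20984 = n20645 := d3_1 D20984 F38639 F37747
theorem F39458 : act 1 n20984 = n18534 := d7_1 D20984 (iv D18534) (iv F33662)
theorem F39459 : act 3 n20984 = n20644 := d12_1 D20984 F38637 (iv D18101) (iv F27364) D18533
def n20985 : Q := act 5 n18534
theorem D20985 : act 5 n18534 = n20985 := rfl
theorem F39460 : act 0 n20985 = n18538 := d4_1 D20985 (iv D18538) (iv F33663)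
theorem F39461 : act 3 n20985 = n20653 := d13_1 D20985 (iv D20653) (iv F33664)
def n20986 : Q := act 3 n18535
theorem D20986 : act 3 n18535 = n20986 := rfl
def n20987 : Q := act 0 n18536
theorem D20987 : act 0 n18536 = n20987 := rfl
theorem F39462 : act 1 n20987 = n18718 := d0_2 D18536 D20987 F34119 (iv F33630) F33629
theorem F39463 : act 2 n20987 = n20858 := d1_2 (iv F33666) D20987 F39179
theorem F39464 : act 3 n20987 = n18717 := d2_2 F39423 D20987 (iv F39421)
theorem F39465 : act 4 n20987 = n20473 := d3_2 F33667 D20987 (iv F38252)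
def n20988 : Q := act 3 n18537
theorem D20988 : act 3 n18537 = n20988 := rfl
theorem F39466 : act 0 n20988 = n18909 := d2_1 D20988 (iv F39431) F39428
theorem F39467 : act 1 n20988 = n20472 := d6_1 D20988 F38253 (iv F33668)
theorem F39468 : act 4 n20988 = n18907 := d12_2 D18537 D20988 (iv D18907) (iv F33623) F33622
def n20989 : Q := act 5 n18537
theorem D20989 : act 5 n18537 = n20989 := rfl
theorem F39469 : act 1 n20989 = n20570 := d8_1 D20989 F38461 (iv F33668)
theorem F39470 : act 2 n20989 = n18538 := d11_1 D20989 (iv D18538) (iv F33669)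
theorem F39471 : act 4 n20989 = n18571 := d14_1 D20989 (iv D18571) (iv F31591) F31592 D18537
def n20990 : Q := act 2 n18539
theorem D20990 : act 2 n18539 = n20990 := rfl
theorem F39472 : act 0 n20990 = n18556 := d1_1 D20990 (iv D18556) (iv F33672)
theorem F39473 : act 3 n20990 = n20124 := d9_2 D18539 D20990 F37402 F36518 F30196 F23749 (iv F27430) (iv F32712) F32711 F31397 (iv D16939) (iv D13868) (iv F23729) F23730 (iv F27372)
theorem F39474 : act 4 n20990 = n18540 := d10_2 (iv F33674) D20990 (iv D18540)
theorem F39475 : act 5 n20990 = n20123 := d11_2 F38685 D20990 (iv F38683)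
def n20991 : Q := act 1 n18540
theorem D20991 : act 1 n18540 = n20991 := rfl
theorem F39476 : act 0 n20991 = n20220 := d0_1 D20991 F37619 (iv F37108) (iv F39133) F39132
theorem F39477 : act 2 n20991 = n19741 := d5_2 D18540 D20991 (iv D19741) (iv D16951) (iv F27373)
theorem F39478 : act 5 n20991 = n20217 := d8_2 F39130 D20991 (iv F39128)
def n20992 : Q := act 1 n18541
theorem D20992 : act 1 n18541 = n20992 := rfl
theorem F39479 : act 2 n20992 = n18548 := d5_2 D18541 D20992 (iv D18548) (iv D15621) (iv F27375)
theorem F39480 : act 3 n20992 = n18576 := d6_2 (iv F33676) D20992 F33756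
theorem F39481 : act 4 n20992 = n19738 := d7_2 (iv F33677) D20992 (iv D19738)
def n20993 : Q := act 0 n18543
theorem D20993 : act 0 n18543 = n20993 := rfl
theorem F39482 : act 2 n20993 = n18544 := d1_2 (iv F33682) D20993 (iv D18544)
theorem F39483 : act 3 n20993 = n18557 := d2_2 (iv F33683) D20993 F33722
theorem F39484 : act 4 n20993 = n19744 := d3_2 (iv F33684) D20993 (iv D19744)
theorem F39485 : act 5 n20993 = n18545 := d4_2 (iv F33685) D20993 F33690
def n20994 : Q := act 1 n18545
theorem D20994 : act 1 n18545 = n20994 := rfl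
theorem F39486 : act 2 n20994 = n20724 := d5_2 D18545 D20994 (iv D20724) (iv D18204) (iv F27389)
theorem F39487 : act 3 n20994 = n18652 := d6_2 (iv F33691) D20994 F33965
theorem F39488 : act 4 n20994 = n20667 := d7_2 (iv F33692) D20994 F38676
def n20995 : Q := act 3 n18546
theorem D20995 : act 3 n18546 = n20995 := rfl
theorem F39489 : act 0 n20995 = n18547 := d2_1 D20995 (iv D18547) (iv F33693)
theorem F39490 : act 1 n20995 = n20727 := d6_1 D20995 (iv D20727) (iv F33694)
theorem F39491 : act 4 n20995 = n19745 := d12_2 D18546 D20995 (iv D19745) (iv F33688) F33687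
theorem F39492 : act 5 n20995 = n20427 := d13_2 (iv F33695) D20995 F38157
def n20996 : Q := act 2 n18547
theorem D20996 : act 2 n18547 = n20996 := rfl
theorem F39493 : act 1 n20996 = n20595 := d5_1 D20996 F38521 F32394 (iv F27396) (iv F33696)
theorem F39494 : act 4 n20996 = n19746 := d10_2 (iv F33697) D20996 (iv D19746)
theorem F39495 : act 5 n20996 = n20428 := d11_2 (iv F33698) D20996 F38159
def n20997 : Q := act 5 n18548
theorem D20997 : act 5 n18548 = n20997 := rfl
theorem F39496 : act 0 n20997 = n20724 := d4_1 D20997 F38856 F36662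
theorem F39497 : act 1 n20997 = n18549 := d8_1 D20997 (iv D18549) D18548
def n20998 : Q := act 4 n18552
theorem D20998 : act 4 n18552 = n20998 := rfl
theorem F39498 : act 1 n20998 = n20729 := d7_1 D20998 (iv D20729) (iv F33709)
theorem F39499 : act 5 n20998 = n20942 := d14_2 D18552 D20998 (iv D20942) (iv F33557) F29455
def n20999 : Q := act 3 n18554
theorem D20999 : act 3 n18554 = n20999 := rfl
theorem F39500 : act 0 n20999 = n20224 := d2_1 D20999 F37627 F33999
theorem F39501 : act 1 n20999 = n18555 := d6_1 D20999 (iv D18555) (iv F33715)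
theorem F39502 : act 2 n20999 = n20221 := d9_1 D20999 (iv D20221) F31405 (iv F26371) F26370 (iv F26118) (iv F32516) (iv F38609) F38608 F37629 F31410 (iv F30943) (iv F32716) F32717 (iv F33716)
theorem F39503 : act 4 n20999 = n19912 := d12_2 D18554 D20999 (iv D19912) (iv D17137) (iv F27421)
theorem F39504 : act 5 n20999 = n18761 := d13_2 (iv F33717) D20999 F34179
def n21000 : Q := act 2 n18555
theorem D21000 : act 2 n18555 = n21000 := rfl
theorem F39505 : act 0 n21000 = n19925 := d1_1 D21000 (iv D19925) (iv F33718)
theorem F39506 : act 4 n21000 = n19914 := d10_2 (iv F33719) D21000 (iv D19914)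
def n21001 : Q := act 5 n18558
theorem D21001 : act 5 n18558 = n21001 := rfl
theorem F39507 : act 1 n21001 = n18577 := d8_1 D21001 (iv D18577) (iv F33725)
theorem F39508 : act 2 n21001 = n19654 := d11_1 D21001 (iv D19654) (iv F33726)
theorem F39509 : act 3 n21001 = n19735 := d13_1 D21001 F36539 (iv F33727)
theorem F39510 : act 4 n21001 = n18565 := d14_1 D21001 (iv D18565) (iv D15654) (iv F27463) D18558
def n21002 : Q := act 4 n18560
theorem D21002 : act 4 n18560 = n21002 := rfl
theorem F39511 : act 1 n21002 = n18561 := d7_1 D21002 (iv D18561) (iv F33732)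
theorem F39512 : act 3 n21002 = n18651 := d12_1 D21002 (iv D18651) (iv D15773) (iv F27469) D18560
def n21003 : Q := act 5 n18561
theorem D21003 : act 5 n18561 = n21003 := rfl
theorem F39513 : act 0 n21003 = n18565 := d4_1 D21003 (iv D18565) (iv F33733)
theorem F39514 : act 3 n21003 = n18653 := d13_1 D21003 (iv D18653) (iv F33734)
def n21004 : Q := act 5 n18562
theorem D21004 : act 5 n18562 = n21004 := rfl
theorem F39515 : act 1 n21004 = n18565 := d8_1 D21004 (iv D18565) (iv F33735)
theorem F39516 : act 3 n21004 = n18657 := d13_1 D21004 (iv D18657) (iv F33736)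
theorem F39517 : act 4 n21004 = n18577 := d14_1 D21004 (iv D18577) (iv D15685) (iv F27475) D18562
def n21005 : Q := act 4 n18563
theorem D21005 : act 4 n18563 = n21005 := rfl
theorem F39518 : act 1 n21005 = n18564 := d7_1 D21005 (iv D18564) D18563
def n21006 : Q := act 3 n18564
theorem D21006 : act 3 n18564 = n21006 := rfl
theorem F39519 : act 4 n21006 = n19655 := d12_2 D18564 D21006 (iv D19655) (iv D16865) (iv F27477)
def n21007 : Q := act 5 n18564
theorem D21007 : act 5 n18564 = n21007 := rfl
theorem F39520 : act 2 n21007 = n18565 := d11_1 D21007 (iv D18565) (iv F33739)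
theorem F39521 : act 4 n21007 = n19654 := d14_1 D21007 (iv D19654) (iv D16864) (iv F27476) D18564
def n21008 : Q := act 2 n18567
theorem D21008 : act 2 n18567 = n21008 := rfl
theorem F39522 : act 3 n21008 = n20102 := d15_1 D21008 (iv D20102) (iv D17368) F24511 D14734 D17775 D20417 F38134 F34219
def n21009 : Q := act 5 n18569
theorem D21009 : act 5 n18569 = n21009 := rfl
theorem F39523 : act 1 n21009 = n18571 := d8_1 D21009 (iv D18571) (iv F33747)
theorem F39524 : act 2 n21009 = n18641 := d11_1 D21009 (iv F37805) F37802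
theorem F39525 : act 3 n21009 = n18570 := d13_1 D21009 (iv D18570) D18569
theorem F39526 : act 4 n21009 = n20570 := d14_1 D21009 F38461 F33667 (iv F37801) F37800
def n21010 : Q := act 3 n18572
theorem D21010 : act 3 n18572 = n21010 := rfl
theorem F39527 : act 0 n21010 = n18589 := d2_1 D21010 (iv F35822) F35819
theorem F39528 : act 1 n21010 = n19258 := d6_1 D21010 F36288 F36286
theorem F39529 : act 4 n21010 = n18593 := d12_2 (iv F33752) D21010 (iv F33803) F32330 F31465
theorem F39530 : act 2 n18640 = n21010 := d15_0 (iv D21010) (iv D18572) (iv D15676) (iv F27521) D18569 (iv F37802) F37803 (iv D18642) (iv F33931)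
def n21011 : Q := act 5 n18572
theorem D21011 : act 5 n18572 = n21011 := rfl
theorem F39531 : act 0 n21011 = n19275 := d4_1 D21011 F35823 F35819
theorem F39532 : act 2 n21011 = n18573 := d11_1 D21011 (iv D18573) D18572
def n21012 : Q := act 2 n18579
theorem D21012 : act 2 n18579 = n21012 := rfl
theorem F39533 : act 0 n21012 = n20482 := d1_1 D21012 F38276 F35875
theorem F39534 : act 1 n21012 = n20489 := d5_1 D21012 F38298 F33768 (iv D18581) (iv F33762)
theorem F39535 : act 3 n21012 = n20481 := d9_2 D18579 D21012 F38273 D20500 F38326 F33504 F33502 F29627 (iv F35870) (iv F38282) F38281 F32211 F27723 (iv D15773) (iv F27547)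
theorem F39536 : act 5 n21012 = n20571 := d11_2 (iv F35874) D21012 F38464
def n21013 : Q := act 1 n18583
theorem D21013 : act 1 n18583 = n21013 := rfl
theorem F39537 : act 2 n21013 = n20197 := d5_2 D18583 D21013 F37560 F31294 F29501
theorem F39538 : act 4 n21013 = n18584 := d7_2 (iv F33774) D21013 (iv D18584)
theorem F39539 : act 5 n21013 = n20196 := d8_2 F35763 D21013 F37557
def n21014 : Q := act 0 n18584
theorem D21014 : act 0 n18584 = n21014 := rfl
theorem F39540 : act 1 n21014 = n20490 := d0_2 D18584 D21014 F38300 F33768 F33766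
theorem F39541 : act 2 n21014 = n20492 := d1_2 F35863 D21014 F38305
theorem F39542 : act 5 n21014 = n20573 := d4_2 (iv F35861) D21014 F38468
theorem F39543 : act 3 n20563 = n21014 := d6_0 F39540 F38301 D20563
def n21015 : Q := act 3 n18584
theorem D21015 : act 3 n18584 = n21015 := rfl
theorem F39544 : act 0 n21015 = n20563 := d2_1 D21015 F39543 (iv D21014)
theorem F39545 : act 1 n21015 = n18585 := d6_1 D21015 (iv D18585) D18584
theorem F39546 : act 5 n21015 = n18587 := d13_2 (iv F35861) D21015 (iv F35860)
theorem F39547 : act 2 n21015 = n19173 := d15_2 F35863 D21015 (iv D19173) (iv F34589) F34590 F32035 (iv F35853) (iv F38308) F38305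
def n21016 : Q := act 4 n18585
theorem D21016 : act 4 n18585 = n21016 := rfl
theorem F39548 : act 0 n21016 = n18596 := d3_1 D21016 (iv D18596) (iv F33775)
theorem F39549 : act 2 n21016 = n18588 := d10_1 D21016 (iv D18588) (iv F33776)
theorem F39550 : act 5 n21016 = n19264 := d14_2 (iv F33777) D21016 (iv D19264) (iv D16447) (iv F27563)
def n21017 : Q := act 0 n18587
theorem D21017 : act 0 n18587 = n21017 := rfl
theorem F39551 : act 1 n21017 = n18593 := d0_2 D18587 D21017 (iv D18593) (iv D15703) (iv F27562)
theorem F39552 : act 2 n21017 = n19178 := d1_2 (iv F33782) D21017 (iv D19178)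
theorem F39553 : act 3 n21017 = n20573 := d2_2 F35860 D21017 F38468
theorem F39554 : act 4 n21017 = n19258 := d3_2 (iv F33783) D21017 (iv D19258)
theorem F39555 : act 5 n21017 = n20563 := d4_2 F39546 D21017 (iv F39544)
def n21018 : Q := act 5 n18589
theorem D21018 : act 5 n18589 = n21018 := rfl
theorem F39556 : act 1 n21018 = n18591 := d8_1 D21018 (iv D18591) D18589
theorem F39557 : act 2 n21018 = n18642 := d11_1 D21018 (iv D18642) (iv F33788)
theorem F39558 : act 3 n21018 = n19275 := d13_1 D21018 F35823 F35822
theorem F39559 : act 4 n21018 = n20569 := d14_1 D21018 (iv D20569) (iv D17958) F27573 (iv F33789)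
def n21019 : Q := act 4 n18591
theorem D21019 : act 4 n18591 = n21019 := rfl
theorem F39560 : act 0 n21019 = n19264 := d3_1 D21019 (iv D19264) (iv F33794)
theorem F39561 : act 1 n21019 = n20569 := d7_1 D21019 (iv F39559) F39556
theorem F39562 : act 2 n21019 = n18592 := d10_1 D21019 (iv D18592) (iv F33795)
theorem F39563 : act 5 n21019 = n18596 := d14_2 D18591 D21019 (iv D18596) (iv D15705) (iv F27568)
def n21020 : Q := act 3 n18596
theorem D21020 : act 3 n18596 = n21020 := rfl
theorem F39564 : act 1 n21020 = n20568 := d6_1 D21020 (iv D20568) (iv F33811)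
def n21021 : Q := act 2 n18597
theorem D21021 : act 2 n18597 = n21021 := rfl
theorem F39565 : act 0 n21021 = n18601 := d1_1 D21021 (iv D18601) (iv F33813)
theorem F39566 : act 1 n21021 = n18893 := d5_1 D21021 (iv D18893) F28282 D16042 (iv F33814)
theorem F39567 : act 4 n21021 = n18895 := d10_2 (iv F33815) D21021 F34566
theorem F39568 : act 3 n21021 = n20851 := d15_1 D21021 F39159 F39083 F33124 F26734 (iv F27587) (iv F33825) (iv D18602) (iv F33813)
theorem F39569 : act 5 n20850 = n21021 := d13_0 F39568 (iv D20851) D20850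
def n21022 : Q := act 5 n18597
theorem D21022 : act 5 n18597 = n21022 := rfl
theorem F39570 : act 0 n21022 = n18602 := d4_1 D21022 (iv D18602) (iv F33813)
theorem F39571 : act 1 n21022 = n18899 := d8_1 D21022 (iv D18899) (iv F33814)
theorem F39572 : act 2 n21022 = n20850 := d11_1 D21022 F39569 (iv D21021)
theorem F39573 : act 3 n21022 = n18598 := d13_1 D21022 (iv D18598) D18597
theorem F39574 : act 4 n21022 = n20474 := d14_1 D21022 (iv D20474) (iv D17866) (iv F28309) (iv F33815)
def n21023 : Q := act 2 n18599
theorem D21023 : act 2 n18599 = n21023 := rfl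
theorem F39575 : act 0 n21023 = n18895 := d1_1 D21023 F34566 (iv F33818)
theorem F39576 : act 4 n21023 = n18601 := d10_2 (iv F33820) D21023 (iv D18601)
theorem F39577 : act 5 n21023 = n20469 := d11_2 F33821 D21023 F38243
def n21024 : Q := act 1 n18601
theorem D21024 : act 1 n18601 = n21024 := rfl
theorem F39578 : act 0 n21024 = n19205 := d0_1 D21024 (iv D19205) (iv F34560) (iv F39566) F39565
def n21025 : Q := act 3 n18601
theorem D21025 : act 3 n18601 = n21025 := rfl
theorem F39579 : act 0 n21025 = n20851 := d2_1 D21025 (iv F39568) F39565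
theorem F39580 : act 5 n21025 = n20848 := d15_8 F33250 (iv D18294) F26732 F20634 (iv F21372) D15711 D18601 D21025 F39155
def n21026 : Q := act 5 n18601
theorem D21026 : act 5 n18601 = n21026 := rfl
theorem F39581 : act 0 n21026 = n20850 := d4_1 D21026 F39569 F39565
theorem F39582 : act 2 n21026 = n18602 := d11_1 D21026 (iv D18602) D18601
theorem F39583 : act 3 n21026 = n20848 := d13_1 D21026 (iv F39580) (iv D21025)
theorem F39584 : act 4 n20849 = n21026 := d12_0 F39583 (iv D20848) (iv D18349) D18350 D20849
def n21027 : Q := act 4 n18602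
theorem D21027 : act 4 n18602 = n21027 := rfl
theorem F39585 : act 0 n21027 = n20474 := d3_1 D21027 (iv F39574) F39570
theorem F39586 : act 2 n21027 = n20849 := d10_1 D21027 F39584 F39582
theorem F39587 : act 3 n21027 = n20570 := d12_1 D21027 (iv F39526) F39525 F33750 (iv F33825)
theorem F39588 : act 5 n21027 = n20472 := d14_2 D18602 D21027 (iv D20472) F33821 F33820
def n21028 : Q := act 3 n18603
theorem D21028 : act 3 n18603 = n21028 := rfl
theorem F39589 : act 0 n21028 = n20393 := d2_1 D21028 F38071 (iv F33826)
theorem F39590 : act 1 n21028 = n18604 := d6_1 D21028 (iv D18604) D18603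
theorem F39591 : act 5 n21028 = n19860 := d13_2 F33829 D21028 F36808
theorem F39592 : act 2 n19862 = n21028 := d11_3 F39591 F36807 D19862
def n21029 : Q := act 0 n18607
theorem D21029 : act 0 n18607 = n21029 := rfl
theorem F39593 : act 2 n21029 = n19273 := d1_2 F35835 D21029 (iv F35833)
theorem F39594 : act 5 n21029 = n18608 := d4_2 (iv F33840) D21029 (iv D18608)
def n21030 : Q := act 5 n18609
theorem D21030 : act 5 n18609 = n21030 := rfl
theorem F39595 : act 0 n21030 = n18611 := d4_1 D21030 (iv D18611) (iv F33842)
theorem F39596 : act 1 n21030 = n20148 := d8_1 D21030 F37478 F36004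
theorem F39597 : act 2 n21030 = n20027 := d11_1 D21030 (iv F37214) F37213
theorem F39598 : act 4 n21030 = n20026 := d14_1 D21030 F37192 F31179 F29786 D18609
def n21031 : Q := act 3 n18610
theorem D21031 : act 3 n18610 = n21031 := rfl
theorem F39599 : act 0 n21031 = n18612 := d2_1 D21031 (iv D18612) (iv F33843)
theorem F39600 : act 1 n21031 = n20147 := d6_1 D21031 F37473 F36007
theorem F39601 : act 4 n21031 = n20146 := d12_2 D18610 D21031 (iv D20146) F31179 F29785
def n21032 : Q := act 2 n18612
theorem D21032 : act 2 n18612 = n21032 := rfl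
def n21033 : Q := act 1 n18613
theorem D21033 : act 1 n18613 = n21033 := rfl
def n21034 : Q := act 3 n18614
theorem D21034 : act 3 n18614 = n21034 := rfl
theorem F39602 : act 0 n21034 = n18617 := d2_1 D21034 (iv D18617) (iv F33846)
theorem F39603 : act 1 n21034 = n20088 := d6_1 D21034 F37341 (iv F33847)
theorem F39604 : act 5 n21034 = n20065 := d13_2 (iv F33848) D21034 F37292
def n21035 : Q := act 4 n18614
theorem D21035 : act 4 n18614 = n21035 := rfl
theorem F39605 : act 0 n21035 = n18618 := d3_1 D21035 (iv D18618) (iv F33846)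
theorem F39606 : act 1 n21035 = n20090 := d7_1 D21035 F37344 (iv F33847)
theorem F39607 : act 2 n21035 = n18615 := d10_1 D21035 (iv D18615) D18614
theorem F39608 : act 5 n21035 = n18618 := d14_2 (iv F33848) D21035 (iv D18618) F27623 (iv F31224)
def n21036 : Q := act 2 n18617
theorem D21036 : act 2 n18617 = n21036 := rfl
theorem F39609 : act 1 n21036 = n20059 := d5_1 D21036 (iv D20059) F30955 D17324 (iv F33855)
theorem F39610 : act 5 n21036 = n20060 := d11_2 (iv F33856) D21036 F37278
def n21037 : Q := act 4 n18617
theorem D21037 : act 4 n18617 = n21037 := rfl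
theorem F39611 : act 1 n21037 = n20064 := d7_1 D21037 F37290 (iv F33855)
def n21038 : Q := act 3 n18618
theorem D21038 : act 3 n18618 = n21038 := rfl
theorem F39612 : act 1 n21038 = n20089 := d6_1 D21038 (iv D20089) (iv F33857)
def n21039 : Q := act 3 n18624
theorem D21039 : act 3 n18624 = n21039 := rfl
theorem F39613 : act 0 n21039 = n20092 := d2_1 D21039 (iv D20092) (iv F33880)
theorem F39614 : act 1 n21039 = n19600 := d6_1 D21039 F36227 (iv F33881)
theorem F39615 : act 4 n21039 = n19690 := d12_2 (iv F33882) D21039 F36439 (iv D17396) (iv F31031)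
theorem F39616 : act 5 n21039 = n19604 := d13_2 (iv F33883) D21039 (iv D19604)
def n21040 : Q := act 4 n18625
theorem D21040 : act 4 n18625 = n21040 := rfl
theorem F39617 : act 0 n21040 = n18627 := d3_1 D21040 (iv D18627) (iv F33884)
theorem F39618 : act 1 n21040 = n20560 := d7_1 D21040 (iv D20560) (iv F33885)
theorem F39619 : act 2 n21040 = n21002 := d10_1 D21040 (iv D21002) (iv F33887)
theorem F39620 : act 3 n21040 = n18634 := d12_1 D21040 (iv D18634) (iv D15749) (iv F27646) D18625
def n21041 : Q := act 4 n18626
theorem D21041 : act 4 n18626 = n21041 := rfl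
theorem F39621 : act 0 n21041 = n21002 := d3_1 D21041 (iv D21002) (iv F33888)
theorem F39622 : act 1 n21041 = n20828 := d7_1 D21041 (iv D20828) (iv F33889)
theorem F39623 : act 2 n21041 = n18627 := d10_1 D21041 (iv D18627) D18626
def n21042 : Q := act 5 n18627
theorem D21042 : act 5 n18627 = n21042 := rfl
theorem F39624 : act 1 n21042 = n18631 := d8_1 D21042 (iv D18631) (iv F33892)
theorem F39625 : act 3 n21042 = n18638 := d13_1 D21042 (iv D18638) (iv F33893)
theorem F39626 : act 4 n21042 = n20190 := d14_1 D21042 F37545 F33898 (iv D18628) D18627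
def n21043 : Q := act 3 n18629
theorem D21043 : act 3 n18629 = n21043 := rfl
theorem F39627 : act 0 n21043 = n20857 := d2_1 D21043 (iv D20857) (iv F33899)
theorem F39628 : act 1 n21043 = n18632 := d6_1 D21043 (iv D18632) (iv F33900)
theorem F39629 : act 4 n21043 = n20194 := d12_2 D18629 D21043 (iv D20194) F33898 F33897
theorem F39630 : act 5 n21043 = n18639 := d13_2 (iv F33902) D21043 (iv D18639)
def n21044 : Q := act 1 n18633
theorem D21044 : act 1 n18633 = n21044 := rfl
theorem F39631 : act 0 n21044 = n19173 := d0_1 D21044 F35184 F28926 (iv F27671) (iv F33916)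
theorem F39632 : act 2 n21044 = n20563 := d5_2 D18633 D21044 (iv D20563) (iv D17954) (iv F27666)
theorem F39633 : act 5 n21044 = n19178 := d8_2 (iv F33917) D21044 F35199
theorem F39634 : act 3 n19172 = n21044 := d15_7 (iv F33782) (iv F35860) F35859 F29609 (iv F30208) D19731 (iv F36531) F39633 (iv D19178)
def n21045 : Q := act 3 n18633
theorem D21045 : act 3 n18633 = n21045 := rfl
theorem F39635 : act 0 n21045 = n18636 := d2_1 D21045 (iv D18636) (iv F33916)
theorem F39636 : act 1 n21045 = n19172 := d6_1 D21045 F39634 (iv D21044)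
theorem F39637 : act 5 n21045 = n19184 := d13_2 (iv F33917) D21045 (iv D19184)
def n21046 : Q := act 4 n18633
theorem D21046 : act 4 n18633 = n21046 := rfl
theorem F39638 : act 0 n21046 = n18637 := d3_1 D21046 (iv D18637) (iv F33916)
theorem F39639 : act 2 n21046 = n18634 := d10_1 D21046 (iv D18634) D18633
def n21047 : Q := act 5 n18634
theorem D21047 : act 5 n18634 = n21047 := rfl
theorem F39640 : act 0 n21047 = n18638 := d4_1 D21047 (iv D18638) (iv F33918)
theorem F39641 : act 1 n21047 = n20565 := d8_1 D21047 (iv D20565) (iv F33919)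
theorem F39642 : act 4 n21047 = n20589 := d14_1 D21047 (iv D20589) (iv D17986) F27667 D18634
def n21048 : Q := act 3 n18635
theorem D21048 : act 3 n18635 = n21048 := rfl
theorem F39643 : act 0 n21048 = n18639 := d2_1 D21048 (iv D18639) (iv F33920)
theorem F39644 : act 1 n21048 = n20566 := d6_1 D21048 (iv D20566) (iv F33921)
theorem F39645 : act 4 n21048 = n20588 := d12_2 D18635 D21048 (iv D20588) (iv D17986) (iv F27670)
theorem F39646 : act 5 n21048 = n20857 := d13_2 (iv F33922) D21048 (iv D20857)
def n21049 : Q := act 2 n18636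
theorem D21049 : act 2 n18636 = n21049 := rfl
theorem F39647 : act 1 n21049 = n19159 := d5_1 D21049 (iv D19159) F28899 D16335 (iv F33923)
theorem F39648 : act 5 n21049 = n19185 := d11_2 (iv F33924) D21049 (iv D19185)
def n21050 : Q := act 4 n18636
theorem D21050 : act 4 n18636 = n21050 := rfl
theorem F39649 : act 1 n21050 = n19161 := d7_1 D21050 F35163 (iv F33923)
def n21051 : Q := act 3 n18637
theorem D21051 : act 3 n18637 = n21051 := rfl
theorem F39650 : act 1 n21051 = n19188 := d6_1 D21051 (iv D19188) (iv F33925)
def n21052 : Q := act 2 n18639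
theorem D21052 : act 2 n18639 = n21052 := rfl
theorem F39651 : act 4 n21052 = n20590 := d10_2 (iv F33930) D21052 (iv D20590)
def n21053 : Q := act 3 n18640
theorem D21053 : act 3 n18640 = n21053 := rfl
theorem F39652 : act 0 n21053 = n18641 := d2_1 D21053 (iv D18641) (iv F33931)
theorem F39653 : act 1 n21053 = n20588 := d6_1 D21053 (iv D20588) (iv F33932)
theorem F39654 : act 4 n21053 = n20566 := d12_2 D18640 D21053 (iv D20566) (iv D17956) (iv F27681)
def n21054 : Q := act 5 n18640
theorem D21054 : act 5 n18640 = n21054 := rfl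
theorem F39655 : act 0 n21054 = n18642 := d4_1 D21054 (iv D18642) (iv F33931)
theorem F39656 : act 1 n21054 = n20589 := d8_1 D21054 (iv D20589) (iv F33932)
theorem F39657 : act 4 n21054 = n20565 := d14_1 D21054 (iv D20565) (iv D17955) (iv F27682) D18640
def n21055 : Q := act 3 n18643
theorem D21055 : act 3 n18643 = n21055 := rfl
theorem F39658 : act 0 n21055 = n18644 := d2_1 D21055 (iv D18644) (iv F33937)
theorem F39659 : act 1 n21055 = n20455 := d6_1 D21055 F38222 F36532
theorem F39660 : act 5 n21055 = n20443 := d13_2 (iv F33938) D21055 (iv D20443)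
def n21056 : Q := act 2 n18644
theorem D21056 : act 2 n18644 = n21056 := rfl
theorem F39661 : act 1 n21056 = n20452 := d5_1 D21056 (iv D20452) F32089 (iv F32059) (iv F33939)
theorem F39662 : act 5 n21056 = n20444 := d11_2 (iv F33940) D21056 (iv D20444)
def n21057 : Q := act 4 n18644
theorem D21057 : act 4 n18644 = n21057 := rfl
theorem F39663 : act 1 n21057 = n20447 := d7_1 D21057 (iv D20447) (iv F33939)
def n21058 : Q := act 3 n18645
theorem D21058 : act 3 n18645 = n21058 := rfl
theorem F39664 : act 1 n21058 = n20448 := d6_1 D21058 (iv D20448) (iv F33941)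
def n21059 : Q := act 5 n18648
theorem D21059 : act 5 n18648 = n21059 := rfl
theorem F39665 : act 0 n21059 = n20449 := d4_1 D21059 F38211 (iv F33953)
theorem F39666 : act 1 n21059 = n20853 := d8_1 D21059 F39165 F35049
theorem F39667 : act 2 n21059 = n18649 := d11_1 D21059 (iv D18649) D18648
theorem F39668 : act 4 n21059 = n20351 := d14_1 D21059 (iv D20351) F31788 (iv F32027) (iv F33954)
def n21060 : Q := act 4 n18650
theorem D21060 : act 4 n18650 = n21060 := rfl
theorem F39669 : act 0 n21060 = n18651 := d3_1 D21060 (iv D18651) (iv F33959)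
theorem F39670 : act 1 n21060 = n18654 := d7_1 D21060 (iv D18654) (iv F33960)
theorem F39671 : act 2 n21060 = n20548 := d10_1 D21060 (iv D20548) F33962
theorem F39672 : act 3 n21060 = n21041 := d12_1 D21060 (iv D21041) F33890 F33730 D18650
def n21061 : Q := act 5 n18651
theorem D21061 : act 5 n18651 = n21061 := rfl
theorem F39673 : act 1 n21061 = n18653 := d8_1 D21061 (iv D18653) (iv F33963)
theorem F39674 : act 2 n21061 = n20550 := d11_1 D21061 (iv D20550) (iv F33964)
theorem F39675 : act 4 n21061 = n20668 := d14_1 D21061 (iv D20668) (iv D18125) F27724 D18651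
def n21062 : Q := act 5 n18654
theorem D21062 : act 5 n18654 = n21062 := rfl
theorem F39676 : act 0 n21062 = n18657 := d4_1 D21062 (iv D18657) (iv F33969)
theorem F39677 : act 4 n21062 = n20611 := d14_1 D21062 (iv F39335) (iv D20939) F33507 D18654
def n21063 : Q := act 4 n18655
theorem D21063 : act 4 n18655 = n21063 := rfl
theorem F39678 : act 0 n21063 = n20546 := d3_1 D21063 (iv D20546) F33972
theorem F39679 : act 1 n21063 = n18656 := d7_1 D21063 (iv D18656) D18655
theorem F39680 : act 2 n21063 = n18658 := d10_1 D21063 (iv D18658) (iv F33970)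
def n21064 : Q := act 3 n18656
theorem D21064 : act 3 n18656 = n21064 := rfl
def n21065 : Q := act 5 n18656
theorem D21065 : act 5 n18656 = n21065 := rfl
theorem F39681 : act 2 n21065 = n18657 := d11_1 D21065 (iv D18657) (iv F33973)
theorem F39682 : act 4 n21065 = n20614 := d14_1 D21065 F39344 (iv D20941) F33512 D18656
def n21066 : Q := act 3 n18658
theorem D21066 : act 3 n18658 = n21066 := rfl
theorem F39683 : act 0 n21066 = n19005 := d2_1 D21066 F34842 (iv F33976)
theorem F39684 : act 1 n21066 = n18659 := d6_1 D21066 (iv D18659) (iv F33977)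
theorem F39685 : act 4 n21066 = n19004 := d12_2 D18658 D21066 F34839 F28550 (iv F27734)
def n21067 : Q := act 5 n18658
theorem D21067 : act 5 n18658 = n21067 := rfl
theorem F39686 : act 0 n21067 = n20547 := d4_1 D21067 (iv D20547) (iv F33976)
theorem F39687 : act 1 n21067 = n18660 := d8_1 D21067 (iv D18660) (iv F33977)
theorem F39688 : act 4 n21067 = n20665 := d14_1 D21067 (iv D20665) (iv D18122) (iv F27735) D18658
def n21068 : Q := act 2 n18659
theorem D21068 : act 2 n18659 = n21068 := rfl
theorem F39689 : act 0 n21068 = n19034 := d1_1 D21068 F34928 (iv F33978)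
theorem F39690 : act 4 n21068 = n19032 := d10_2 (iv F33979) D21068 (iv D19032)
def n21069 : Q := act 5 n18659
theorem D21069 : act 5 n18659 = n21069 := rfl
theorem F39691 : act 0 n21069 = n19035 := d4_1 D21069 (iv D19035) (iv F33978)
theorem F39692 : act 3 n21069 = n18660 := d13_1 D21069 (iv D18660) D18659
theorem F39693 : act 4 n21069 = n19062 := d14_1 D21069 (iv D19062) (iv D16212) (iv F28574) (iv F33979)
def n21070 : Q := act 2 n18666
theorem D21070 : act 2 n18666 = n21070 := rfl
def n21071 : Q := act 5 n18666
theorem D21071 : act 5 n18666 = n21071 := rfl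
theorem F39694 : act 1 n21071 = n20628 := d8_1 D21071 (iv F38610) (iv F37628)
theorem F39695 : act 3 n21071 = n18667 := d13_1 D21071 (iv D18667) D18666
theorem F39696 : act 4 n20627 = n21071 := d12_0 F39695 F34005 (iv D18042) (iv F32503) D20627
def n21072 : Q := act 3 n18669
theorem D21072 : act 3 n18669 = n21072 := rfl
theorem F39697 : act 0 n21072 = n19699 := d2_1 D21072 F36463 (iv F34011)
theorem F39698 : act 1 n21072 = n18670 := d6_1 D21072 (iv D18670) D18669
theorem F39699 : act 5 n21072 = n19694 := d13_2 (iv F34013) D21072 F36447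
def n21073 : Q := act 4 n18670
theorem D21073 : act 4 n18670 = n21073 := rfl
theorem F39700 : act 0 n21073 = n18673 := d3_1 D21073 (iv D18673) (iv F34014)
theorem F39701 : act 2 n21073 = n21004 := d10_1 D21073 F39517 (iv F34015)
theorem F39702 : act 3 n21073 = n20177 := d12_1 D21073 (iv D20177) F31254 (iv F27759) D18670
theorem F39703 : act 5 n21073 = n20827 := d14_2 (iv F34016) D21073 (iv D20827) F33154 (iv F31273)
def n21074 : Q := act 1 n18672
theorem D21074 : act 1 n18672 = n21074 := rfl
theorem F39704 : act 2 n21074 = n20190 := d5_2 D18672 D21074 (iv D20190) (iv D17473) (iv F27772)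
theorem F39705 : act 3 n21074 = n18721 := d6_2 (iv F34021) D21074 (iv D18721)
theorem F39706 : act 5 n21074 = n20192 := d8_2 (iv F34022) D21074 (iv D20192)
def n21075 : Q := act 4 n18672
theorem D21075 : act 4 n18672 = n21075 := rfl
theorem F39707 : act 0 n21075 = n21004 := d3_1 D21075 F39517 (iv F34020)
theorem F39708 : act 2 n21075 = n18673 := d10_1 D21075 (iv D18673) D18672
theorem F39709 : act 3 n21075 = n21062 := d12_1 D21075 F39677 (iv D20611) F32431 (iv F34021)
theorem F39710 : act 5 n21075 = n20828 := d14_2 (iv F34022) D21075 (iv D20828) F33160 (iv F31278)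
def n21076 : Q := act 4 n18675
theorem D21076 : act 4 n18675 = n21076 := rfl
theorem F39711 : act 0 n21076 = n18684 := d3_1 D21076 F34053 (iv F34029)
theorem F39712 : act 2 n21076 = n20829 := d10_1 D21076 (iv D20829) (iv F34030)
theorem F39713 : act 3 n21076 = n18677 := d12_1 D21076 (iv D18677) (iv D15807) (iv F27788) D18675
theorem F39714 : act 5 n21076 = n19445 := d14_2 (iv F34031) D21076 (iv F35805) F35806 (iv F33171)
def n21077 : Q := act 2 n18676
theorem D21077 : act 2 n18676 = n21077 := rfl
theorem F39715 : act 1 n21077 = n18680 := d5_1 D21077 F34043 F27808 (iv F27800) (iv F34032)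
theorem F39716 : act 5 n21077 = n18678 := d11_2 (iv F34033) D21077 F34037
theorem F39717 : act 3 n19139 = n21077 := d6_0 F39715 F34044 D19139
def n21078 : Q := act 4 n18676
theorem D21078 : act 4 n18676 = n21078 := rfl
theorem F39718 : act 1 n21078 = n18677 := d7_1 D21078 (iv D18677) (iv F34032)
theorem F39719 : act 5 n21078 = n19444 := d14_2 (iv F34033) D21078 (iv D19444) (iv D16636) (iv F27810)
def n21079 : Q := act 3 n18678
theorem D21079 : act 3 n18678 = n21079 := rfl
theorem F39720 : act 1 n21079 = n18679 := d6_1 D21079 (iv D18679) D18678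
theorem F39721 : act 5 n21079 = n19139 := d13_2 F39716 D21079 F39717
theorem F39722 : act 2 n18971 = n21079 := d5_0 F39720 F34040 F28471 D16122 D18971
def n21080 : Q := act 4 n18679
theorem D21080 : act 4 n18679 = n21080 := rfl
theorem F39723 : act 0 n21080 = n19126 := d3_1 D21080 (iv D19126) (iv F34039)
theorem F39724 : act 2 n21080 = n18970 := d10_1 D21080 (iv D18970) (iv F34040)
theorem F39725 : act 3 n21080 = n19230 := d12_1 D21080 (iv D19230) (iv D16416) (iv F27806) D18679
def n21081 : Q := act 4 n18680
theorem D21081 : act 4 n18680 = n21081 := rfl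
theorem F39726 : act 0 n21081 = n19130 := d3_1 D21081 (iv D19130) (iv F34042)
theorem F39727 : act 2 n21081 = n18681 := d10_1 D21081 (iv D18681) (iv F34043)
theorem F39728 : act 5 n21081 = n19231 := d14_2 D18680 D21081 (iv D19231) (iv D16417) (iv F27806)
def n21082 : Q := act 4 n18682
theorem D21082 : act 4 n18682 = n21082 := rfl
theorem F39729 : act 0 n21082 = n18683 := d3_1 D21082 (iv D18683) (iv F34049)
theorem F39730 : act 2 n21082 = n19117 := d10_1 D21082 (iv D19117) (iv F34050)
def n21083 : Q := act 3 n18683
theorem D21083 : act 3 n18683 = n21083 := rfl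
theorem F39731 : act 1 n21083 = n18684 := d6_1 D21083 (iv D18684) (iv F34051)
theorem F39732 : act 4 n21083 = n21028 := d12_2 D18683 D21083 (iv D21028) F33828 F33375
def n21084 : Q := act 3 n18685
theorem D21084 : act 3 n18685 = n21084 := rfl
theorem F39733 : act 0 n21084 = n18705 := d2_1 D21084 (iv D18705) (iv F34054)
theorem F39734 : act 1 n21084 = n19391 := d6_1 D21084 F35683 (iv F34055)
theorem F39735 : act 4 n21084 = n18686 := d12_2 D18685 D21084 (iv D18686) (iv D15821) (iv F27829)
theorem F39736 : act 5 n21084 = n19390 := d13_2 (iv F34057) D21084 (iv D19390)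
def n21085 : Q := act 2 n18686
theorem D21085 : act 2 n18686 = n21085 := rfl
theorem F39737 : act 0 n21085 = n18706 := d1_1 D21085 (iv D18706) (iv F34058)
theorem F39738 : act 3 n21085 = n18711 := d9_2 D18686 D21085 (iv D18711) (iv D15839) (iv D12784) (iv D10011) (iv F16702) D12783 D15837 D18708 (iv F38536) (iv D20600) F32409 F25910 (iv F27831)
theorem F39739 : act 5 n21085 = n18687 := d11_2 (iv F34059) D21085 (iv D18687)
def n21086 : Q := act 1 n18687
theorem D21086 : act 1 n18687 = n21086 := rfl
def n21087 : Q := act 0 n18688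
theorem D21087 : act 0 n18688 = n21087 := rfl
theorem F39740 : act 1 n21087 = n18709 := d0_2 D18688 D21087 (iv D18709) (iv D15838) (iv F27834)
theorem F39741 : act 2 n21087 = n20972 := d1_2 F34117 D21087 F39421
theorem F39742 : act 4 n21087 = n18690 := d3_2 (iv F34061) D21087 (iv D18690)
theorem F39743 : act 5 n21087 = n18755 := d4_2 (iv F34062) D21087 F34174
def n21088 : Q := act 3 n18688
theorem D21088 : act 3 n18688 = n21088 := rfl
theorem F39744 : act 1 n21088 = n18689 := d6_1 D21088 (iv D18689) D18688
theorem F39745 : act 5 n21088 = n20623 := d13_2 (iv F34062) D21088 F38596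
def n21089 : Q := act 2 n18689
theorem D21089 : act 2 n18689 = n21089 := rfl
theorem F39746 : act 0 n21089 = n18711 := d1_1 D21089 (iv D18711) (iv F34063)
theorem F39747 : act 3 n21089 = n18706 := d9_2 D18689 D21089 (iv D18706) (iv D15836) F21594 (iv F20028) (iv F25921) D18004 D20604 F38548 (iv D18687) (iv D15822) F21568 D12772 D15823
theorem F39748 : act 5 n21089 = n18708 := d11_2 F38535 D21089 (iv F38536)
def n21090 : Q := act 0 n18691
theorem D21090 : act 0 n18691 = n21090 := rfl
theorem F39749 : act 1 n21090 = n19402 := d0_2 D18691 D21090 F35705 F29465 (iv F27842)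
theorem F39750 : act 2 n21090 = n18701 := d1_2 (iv F34067) D21090 (iv D18701)
theorem F39751 : act 4 n21090 = n19398 := d3_2 (iv F34068) D21090 (iv D19398)
def n21091 : Q := act 3 n18691
theorem D21091 : act 3 n18691 = n21091 := rfl
theorem F39752 : act 1 n21091 = n18692 := d6_1 D21091 (iv D18692) D18691
theorem F39753 : act 4 n21091 = n20583 := d12_2 (iv F34068) D21091 (iv D20583) (iv D17978) (iv F29458)
def n21092 : Q := act 5 n18691
theorem D21092 : act 5 n18691 = n21092 := rfl
theorem F39754 : act 1 n21092 = n18693 := d8_1 D21092 (iv D18693) D18691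
theorem F39755 : act 2 n21092 = n18703 := d11_1 D21092 (iv D18703) (iv F34067)
def n21093 : Q := act 5 n18692
theorem D21093 : act 5 n18692 = n21093 := rfl
theorem F39756 : act 0 n21093 = n18719 := d4_1 D21093 F34121 (iv F34069)
theorem F39757 : act 2 n21093 = n18718 := d11_1 D21093 (iv F34167) F34166
theorem F39758 : act 3 n21093 = n18693 := d13_1 D21093 (iv D18693) D18692
theorem F39759 : act 4 n20475 = n21093 := d10_0 F39757 F34120 D20475
def n21094 : Q := act 4 n18693
theorem D21094 : act 4 n18693 = n21094 := rfl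
theorem F39760 : act 0 n21094 = n19410 := d3_1 D21094 (iv D19410) (iv F34071)
theorem F39761 : act 2 n21094 = n18694 := d10_1 D21094 (iv D18694) (iv F34072)
theorem F39762 : act 5 n21094 = n19400 := d14_2 D18693 D21094 (iv D19400) (iv D16590) (iv F27843)
def n21095 : Q := act 4 n18697
theorem D21095 : act 4 n18697 = n21095 := rfl
theorem F39763 : act 0 n21095 = n18742 := d3_1 D21095 F34152 (iv F34085)
theorem F39764 : act 2 n21095 = n18698 := d10_1 D21095 (iv D18698) (iv F34086)
theorem F39765 : act 5 n21095 = n18704 := d14_2 D18697 D21095 (iv D18704) (iv D15834) (iv F27848)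
def n21096 : Q := act 3 n18698
theorem D21096 : act 3 n18698 = n21096 := rfl
theorem F39766 : act 0 n21096 = n19390 := d2_1 D21096 (iv D19390) (iv F34087)
theorem F39767 : act 1 n21096 = n18869 := d6_1 D21096 F34482 (iv F34088)
theorem F39768 : act 4 n21096 = n18699 := d12_2 D18698 D21096 (iv D18699) (iv D15830) (iv F27851)
theorem F39769 : act 5 n21096 = n18705 := d13_2 (iv F34089) D21096 (iv D18705)
def n21097 : Q := act 2 n18699
theorem D21097 : act 2 n18699 = n21097 := rfl
theorem F39770 : act 0 n21097 = n19397 := d1_1 D21097 (iv D19397) (iv F34090)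
theorem F39771 : act 5 n21097 = n18700 := d11_2 (iv F34092) D21097 (iv D18700)
def n21098 : Q := act 1 n18700
theorem D21098 : act 1 n18700 = n21098 := rfl
theorem F39772 : act 2 n21098 = n18868 := d5_2 D18700 D21098 (iv D18868) (iv D15999) (iv F27856)
theorem F39773 : act 4 n21098 = n18707 := d7_2 (iv F34093) D21098 (iv D18707)
def n21099 : Q := act 3 n18700
theorem D21099 : act 3 n18700 = n21099 := rfl
def n21100 : Q := act 3 n18701
theorem D21100 : act 3 n18701 = n21100 := rfl
theorem F39774 : act 0 n21100 = n18702 := d2_1 D21100 (iv D18702) D18701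
theorem F39775 : act 1 n21100 = n18740 := d6_1 D21100 (iv F39371) F39369
theorem F39776 : act 4 n21100 = n19782 := d12_2 (iv F34094) D21100 (iv D19782) (iv D17003) D17002
theorem F39777 : act 5 n18725 = n21100 := d8_0 F39775 (iv D18740) (iv F34131)
def n21101 : Q := act 5 n18701
theorem D21101 : act 5 n18701 = n21101 := rfl
theorem F39778 : act 0 n21101 = n18703 := d4_1 D21101 (iv D18703) D18701
theorem F39779 : act 1 n21101 = n18739 := d8_1 D21101 (iv F39372) F39369
theorem F39780 : act 3 n21101 = n18725 := d13_1 D21101 F39777 (iv D21100)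
def n21102 : Q := act 4 n18703
theorem D21102 : act 4 n18703 = n21102 := rfl
theorem F39781 : act 1 n21102 = n18704 := d7_1 D21102 (iv D18704) (iv F34098)
def n21103 : Q := act 3 n18704
theorem D21103 : act 3 n18704 = n21103 := rfl
theorem F39782 : act 0 n21103 = n18737 := d2_1 D21103 F34141 (iv F34100)
theorem F39783 : act 4 n21103 = n18723 := d12_2 D18704 D21103 (iv D18723) F27881 (iv F27864)
def n21104 : Q := act 2 n18705
theorem D21104 : act 2 n18705 = n21104 := rfl
theorem F39784 : act 4 n21104 = n18706 := d10_2 (iv F34103) D21104 (iv D18706)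
def n21105 : Q := act 1 n18706
theorem D21105 : act 1 n18706 = n21105 := rfl
theorem F39785 : act 2 n21105 = n18918 := d5_2 D18706 D21105 F34646 F28353 (iv F27865)
theorem F39786 : act 5 n21105 = n18707 := d8_2 (iv F34104) D21105 (iv D18707)
def n21106 : Q := act 0 n18707
theorem D21106 : act 0 n18707 = n21106 := rfl
theorem F39787 : act 2 n21106 = n18916 := d1_2 (iv F34105) D21106 (iv D18916)
def n21107 : Q := act 3 n18707
theorem D21107 : act 3 n18707 = n21107 := rfl
theorem F39788 : act 1 n21107 = n18708 := d6_1 D21107 (iv D18708) D18707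
def n21108 : Q := act 4 n18708
theorem D21108 : act 4 n18708 = n21108 := rfl
theorem F39789 : act 2 n21108 = n20622 := d10_1 D21108 F38594 F38536
def n21109 : Q := act 3 n18709
theorem D21109 : act 3 n18709 = n21109 := rfl
theorem F39790 : act 0 n21109 = n18710 := d2_1 D21109 (iv D18710) D18709
theorem F39791 : act 2 n21109 = n20594 := d9_1 D21109 (iv D20594) (iv D17994) (iv D14962) F20005 (iv F16750) (iv F21658) D15877 D18759 (iv F36881) (iv D19902) (iv D17129) F24063 (iv F27877) (iv F34106)
theorem F39792 : act 5 n21109 = n18756 := d13_2 (iv F34108) D21109 (iv D18756)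
def n21110 : Q := act 2 n18710
theorem D21110 : act 2 n18710 = n21110 := rfl
theorem F39793 : act 0 n21110 = n20594 := d1_1 D21110 (iv F39791) F39790
theorem F39794 : act 3 n21110 = n20592 := d9_2 D18710 D21110 (iv D20592) (iv D17993) F25886 (iv F21654) (iv F27920) D18756 (iv F36896) (iv D19909) (iv D17134) (iv D14051) F18535 (iv F21608) (iv F27867)
theorem F39795 : act 5 n21110 = n18759 := d11_2 (iv F34110) D21110 (iv D18759)
def n21111 : Q := act 4 n18710
theorem D21111 : act 4 n18710 = n21111 := rfl
theorem F39796 : act 1 n21111 = n18712 := d7_1 D21111 (iv D18712) (iv F34109)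
theorem F39797 : act 3 n21111 = n18715 := d12_1 D21111 (iv D18715) (iv D15841) (iv F27868) D18710
def n21112 : Q := act 1 n18711
theorem D21112 : act 1 n18711 = n21112 := rfl
def n21113 : Q := act 4 n18711
theorem D21113 : act 4 n18711 = n21113 := rfl
theorem F39798 : act 2 n21113 = n18712 := d10_1 D21113 (iv D18712) D18711
def n21114 : Q := act 5 n18712
theorem D21114 : act 5 n18712 = n21114 := rfl
theorem F39799 : act 3 n21114 = n18716 := d13_1 D21114 (iv D18716) (iv F34111)
def n21115 : Q := act 2 n18713
theorem D21115 : act 2 n18713 = n21115 := rfl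
theorem F39800 : act 0 n21115 = n18714 := d1_1 D21115 (iv D18714) (iv F34112)
theorem F39801 : act 3 n21115 = n18714 := d9_2 D18713 D21115 (iv D18714) (iv D15841) F21598 F16718 (iv F16732) D12807 D15863 (iv F34154) (iv D18743) (iv D15862) F21629 (iv F21611) (iv F27870)
theorem F39802 : act 5 n21115 = n18743 := d11_2 (iv F34113) D21115 (iv D18743)
def n21116 : Q := act 4 n18713
theorem D21116 : act 4 n18713 = n21116 := rfl
theorem F39803 : act 0 n21116 = n18715 := d3_1 D21116 (iv D18715) (iv F34112)
def n21117 : Q := act 4 n18714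
theorem D21117 : act 4 n18714 = n21117 := rfl
theorem F39804 : act 2 n21117 = n18715 := d10_1 D21117 (iv D18715) D18714
def n21118 : Q := act 5 n18715
theorem D21118 : act 5 n18715 = n21118 := rfl
theorem F39805 : act 1 n21118 = n18716 := d8_1 D21118 (iv D18716) (iv F34115)
theorem F39806 : act 4 n21118 = n18747 := d14_1 D21118 (iv D18747) (iv D15864) (iv F27873) D18715
def n21119 : Q := act 4 n18719
theorem D21119 : act 4 n18719 = n21119 := rfl
theorem F39807 : act 0 n21119 = n20475 := d3_1 D21119 F39759 F39756
theorem F39808 : act 2 n21119 = n18720 := d10_1 D21119 (iv D18720) D18719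
def n21120 : Q := act 5 n18720
theorem D21120 : act 5 n18720 = n21120 := rfl
theorem F39809 : act 0 n21120 = n20476 := d4_1 D21120 (iv D20476) (iv F34123)
theorem F39810 : act 3 n21120 = n18910 := d13_1 D21120 (iv D18910) (iv F34124)
theorem F39811 : act 4 n21120 = n20587 := d14_1 D21120 F38501 F34173 F27914 D18720
def n21121 : Q := act 0 n18721
theorem D21121 : act 0 n18721 = n21121 := rfl
theorem F39812 : act 2 n21121 = n18725 := d1_2 (iv F34125) D21121 (iv D18725)
def n21122 : Q := act 0 n18722
theorem D21122 : act 0 n18722 = n21122 := rfl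
theorem F39813 : act 1 n21122 = n18734 := d0_2 D18722 D21122 (iv D18734) (iv D15855) (iv F27880)
theorem F39814 : act 4 n21122 = n18725 := d3_2 (iv F34126) D21122 (iv D18725)
def n21123 : Q := act 3 n18722
theorem D21123 : act 3 n18722 = n21123 := rfl
theorem F39815 : act 1 n21123 = n18723 := d6_1 D21123 (iv D18723) D18722
def n21124 : Q := act 5 n18722
theorem D21124 : act 5 n18722 = n21124 := rfl
theorem F39816 : act 1 n21124 = n18724 := d8_1 D21124 (iv D18724) D18722
theorem F39817 : act 4 n21124 = n20997 := d14_1 D21124 (iv D20997) F34096 (iv F34097) (iv F34126)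
def n21125 : Q := act 2 n18723
theorem D21125 : act 2 n18723 = n21125 := rfl
theorem F39818 : act 0 n21125 = n18736 := d1_1 D21125 (iv D18736) (iv F34127)
theorem F39819 : act 3 n21125 = n18732 := d9_2 D18723 D21125 F34138 F27891 F21622 (iv F21625) (iv F27893) (iv F34142) (iv F35360) (iv D19244) F29154 F22715 F17591 D12793 D15847
theorem F39820 : act 5 n18731 = n21125 := d13_0 F39819 (iv D18732) D18731
def n21126 : Q := act 5 n18723
theorem D21126 : act 5 n18723 = n21126 := rfl
theorem F39821 : act 0 n21126 = n18738 := d4_1 D21126 (iv D18738) (iv F34127)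
theorem F39822 : act 2 n21126 = n18731 := d11_1 D21126 F39820 (iv D21125)
theorem F39823 : act 3 n21126 = n18724 := d13_1 D21126 (iv D18724) D18723
def n21127 : Q := act 2 n18726
theorem D21127 : act 2 n18726 = n21127 := rfl
theorem F39824 : act 0 n21127 = n18727 := d1_1 D21127 (iv D18727) (iv F34132)
def n21128 : Q := act 4 n18727
theorem D21128 : act 4 n18727 = n21128 := rfl
theorem F39825 : act 2 n21128 = n18728 := d10_1 D21128 (iv D18728) D18727
def n21129 : Q := act 5 n18728
theorem D21129 : act 5 n18728 = n21129 := rfl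
theorem F39826 : act 1 n21129 = n18729 := d8_1 D21129 (iv D18729) (iv F34134)
theorem F39827 : act 3 n21129 = n20625 := d13_1 D21129 F38601 (iv F34135)
def n21130 : Q := act 0 n18730
theorem D21130 : act 0 n18730 = n21130 := rfl
def n21131 : Q := act 3 n18730
theorem D21131 : act 3 n18730 = n21131 := rfl
theorem F39828 : act 1 n21131 = n18731 := d6_1 D21131 (iv D18731) D18730
def n21132 : Q := act 5 n18730
theorem D21132 : act 5 n18730 = n21132 := rfl
theorem F39829 : act 1 n21132 = n18732 := d8_1 D21132 (iv D18732) D18730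
def n21133 : Q := act 4 n18731
theorem D21133 : act 4 n18731 = n21133 := rfl
def n21134 : Q := act 4 n18732
theorem D21134 : act 4 n18732 = n21134 := rfl
theorem F39830 : act 2 n21134 = n18733 := d10_1 D21134 (iv D18733) (iv F34138)
def n21135 : Q := act 3 n18734
theorem D21135 : act 3 n18734 = n21135 := rfl
theorem F39831 : act 0 n21135 = n18735 := d2_1 D21135 (iv D18735) D18734
def n21136 : Q := act 2 n18735
theorem D21136 : act 2 n18735 = n21136 := rfl
def n21137 : Q := act 4 n18735
theorem D21137 : act 4 n18735 = n21137 := rfl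
theorem F39832 : act 1 n21137 = n18737 := d7_1 D21137 (iv D18737) (iv F34140)
theorem F39833 : act 3 n21137 = n18741 := d12_1 D21137 (iv D18741) (iv D15859) (iv F27892) D18735
theorem F39834 : act 5 n19389 = n21137 := d13_0 F39833 F34149 D19389
def n21138 : Q := act 1 n18736
theorem D21138 : act 1 n18736 = n21138 := rfl
def n21139 : Q := act 4 n18736
theorem D21139 : act 4 n18736 = n21139 := rfl
theorem F39835 : act 2 n21139 = n18737 := d10_1 D21139 (iv D18737) D18736
def n21140 : Q := act 5 n18737
theorem D21140 : act 5 n18737 = n21140 := rfl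
theorem F39836 : act 1 n21140 = n19389 := d8_1 D21140 F39834 F39832
theorem F39837 : act 3 n21140 = n18742 := d13_1 D21140 (iv D18742) (iv F34141)
def n21141 : Q := act 4 n18738
theorem D21141 : act 4 n18738 = n21141 := rfl
theorem F39838 : act 3 n21141 = n20998 := d12_1 D21141 (iv D20998) F33710 (iv F27894) (iv F34142)
def n21142 : Q := act 1 n18743
theorem D21142 : act 1 n18743 = n21142 := rfl
theorem F39839 : act 3 n21142 = n18745 := d6_2 (iv F34154) D21142 (iv D18745)
def n21143 : Q := act 4 n18743
theorem D21143 : act 4 n18743 = n21143 := rfl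
theorem F39840 : act 0 n21143 = n18746 := d3_1 D21143 (iv D18746) (iv F34153)
theorem F39841 : act 2 n21143 = n18744 := d10_1 D21143 (iv D18744) D18743
def n21144 : Q := act 5 n18744
theorem D21144 : act 5 n18744 = n21144 := rfl
theorem F39842 : act 0 n21144 = n18747 := d4_1 D21144 (iv D18747) (iv F34155)
def n21145 : Q := act 0 n18745
theorem D21145 : act 0 n18745 = n21145 := rfl
theorem F39843 : act 2 n21145 = n18748 := d1_2 (iv F34156) D21145 (iv D18748)
def n21146 : Q := act 4 n18745
theorem D21146 : act 4 n18745 = n21146 := rfl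
theorem F39844 : act 1 n21146 = n18746 := d7_1 D21146 (iv D18746) D18745
theorem F39845 : act 2 n21146 = n18749 := d10_1 D21146 (iv D18749) (iv F34156)
def n21147 : Q := act 3 n18746
theorem D21147 : act 3 n18746 = n21147 := rfl
def n21148 : Q := act 5 n18746
theorem D21148 : act 5 n18746 = n21148 := rfl
theorem F39846 : act 2 n21148 = n18747 := d11_1 D21148 (iv D18747) (iv F34157)
def n21149 : Q := act 4 n18748
theorem D21149 : act 4 n18748 = n21149 := rfl
theorem F39847 : act 0 n21149 = n18749 := d3_1 D21149 (iv D18749) D18748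
theorem F39848 : act 1 n21149 = n20346 := d7_1 D21149 F37942 F34656
theorem F39849 : act 3 n21149 = n20345 := d12_1 D21149 (iv D20345) F31770 (iv F34653) F34652
def n21150 : Q := act 5 n18749
theorem D21150 : act 5 n18749 = n21150 := rfl
theorem F39850 : act 1 n21150 = n18750 := d8_1 D21150 (iv D18750) (iv F34159)
def n21151 : Q := act 3 n18751
theorem D21151 : act 3 n18751 = n21151 := rfl
theorem F39851 : act 0 n21151 = n20288 := d2_1 D21151 F37799 (iv F34161)
theorem F39852 : act 1 n21151 = n18752 := d6_1 D21151 (iv D18752) (iv F34162)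
theorem F39853 : act 4 n21151 = n19692 := d12_2 D18751 D21151 (iv D19692) (iv D16895) (iv F27905)
theorem F39854 : act 5 n21151 = n20987 := d13_2 (iv F34164) D21151 F39464
theorem F39855 : act 2 n21151 = n20290 := d15_6 (iv F33268) D20860 (iv F39186) F38596 (iv F34163) D21151 (iv F39183) (iv D20859) F33266
def n21152 : Q := act 3 n18755
theorem D21152 : act 3 n18755 = n21152 := rfl
theorem F39856 : act 0 n21152 = n20623 := d2_1 D21152 F38596 (iv F34174)
theorem F39857 : act 1 n21152 = n18756 := d6_1 D21152 (iv D18756) (iv F34175)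
theorem F39858 : act 4 n21152 = n20432 := d12_2 D18755 D21152 F38171 F32486 (iv F27917)
theorem F39859 : act 2 n21152 = n20433 := d15_2 (iv F34176) D21152 (iv F39151) F39150 D20858 (iv F39463) F39464 (iv F34164) F34161
def n21153 : Q := act 2 n18757
theorem D21153 : act 2 n18757 = n21153 := rfl
theorem F39860 : act 0 n21153 = n19982 := d1_1 D21153 F37069 F36973
theorem F39861 : act 3 n21153 = n19979 := d9_2 D18757 D21153 F37063 (iv F30925) (iv F36979) F36980 (iv F36976) (iv F37065) (iv D19980) (iv D17213) F24213 D14146 D17221 (iv F30749) F30659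
theorem F39862 : act 4 n21153 = n18759 := d10_2 (iv F34178) D21153 (iv D18759)
theorem F39863 : act 5 n19978 = n21153 := d13_0 F39861 (iv D19979) D19978
def n21154 : Q := act 5 n18757
theorem D21154 : act 5 n18757 = n21154 := rfl
theorem F39864 : act 0 n21154 = n19980 := d4_1 D21154 (iv F37066) F36973
theorem F39865 : act 2 n21154 = n19978 := d11_1 D21154 F39863 (iv D21153)
theorem F39866 : act 3 n21154 = n18758 := d13_1 D21154 (iv D18758) D18757
def n21155 : Q := act 1 n18759
theorem D21155 : act 1 n18759 = n21155 := rfl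
def n21156 : Q := act 1 n18760
theorem D21156 : act 1 n18760 = n21156 := rfl
def n21157 : Q := act 4 n18760
theorem D21157 : act 4 n18760 = n21157 := rfl
theorem F39867 : act 0 n21157 = n20225 := d3_1 D21157 (iv F38296) F38293
theorem F39868 : act 2 n21157 = n18761 := d10_1 D21157 (iv D18761) D18760
theorem F39869 : act 3 n21157 = n20222 := d12_1 D21157 F37624 (iv F37671) (iv F38266) F38265
theorem F39870 : act 5 n21157 = n20221 := d14_2 (iv F38262) D21157 F37621 D20242 (iv F38260)
def n21158 : Q := act 4 n18762
theorem D21158 : act 4 n18762 = n21158 := rfl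
theorem F39871 : act 1 n21158 = n19915 := d7_1 D21158 (iv F38898) F38896
theorem F39872 : act 2 n21158 = n20242 := d10_1 D21158 (iv F38260) F38261
theorem F39873 : act 3 n21158 = n19913 := d12_1 D21158 F36908 F35131 F29598 (iv F34180)
theorem F39874 : act 5 n21158 = n19912 := d14_2 D18762 D21158 (iv F39503) F39504 (iv D18761)
def n21159 : Q := act 0 n18763
theorem D21159 : act 0 n18763 = n21159 := rfl
theorem F39875 : act 2 n21159 = n18771 := d1_2 (iv F34181) D21159 (iv D18771)
def n21160 : Q := act 3 n18763
theorem D21160 : act 3 n18763 = n21160 := rfl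
theorem F39876 : act 1 n21160 = n18764 := d6_1 D21160 (iv D18764) D18763
theorem F39877 : act 2 n21160 = n19490 := d15_2 (iv F34181) D21160 F35937 (iv F36287) (iv F36288) F35382 D19265 (iv F35399) (iv D18771)
theorem F39878 : act 4 n19489 = n21160 := d10_0 F39877 (iv D19490) D19489
def n21161 : Q := act 5 n18764
theorem D21161 : act 5 n18764 = n21161 := rfl
theorem F39879 : act 0 n21161 = n18790 := d4_1 D21161 (iv F38002) F38001
theorem F39880 : act 2 n21161 = n18786 := d11_1 D21161 (iv F34207) (iv F34213)
theorem F39881 : act 3 n21161 = n18765 := d13_1 D21161 (iv D18765) D18764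
theorem F39882 : act 4 n21161 = n20191 := d14_1 D21161 F37546 (iv D18305) (iv F32776) F34214
def n21162 : Q := act 4 n18765
theorem D21162 : act 4 n18765 = n21162 := rfl
theorem F39883 : act 2 n21162 = n18766 := d10_1 D21162 (iv D18766) (iv F34182)
def n21163 : Q := act 0 n18767
theorem D21163 : act 0 n18767 = n21163 := rfl
theorem F39884 : act 1 n21163 = n18776 := d0_2 D18767 D21163 (iv D18776) (iv D15888) (iv F27924)
theorem F39885 : act 4 n21163 = n18771 := d3_2 (iv F34184) D21163 (iv D18771)
def n21164 : Q := act 3 n18767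
theorem D21164 : act 3 n18767 = n21164 := rfl
theorem F39886 : act 1 n21164 = n18768 := d6_1 D21164 (iv D18768) D18767
def n21165 : Q := act 5 n18767
theorem D21165 : act 5 n18767 = n21165 := rfl
theorem F39887 : act 1 n21165 = n18769 := d8_1 D21165 (iv D18769) D18767
def n21166 : Q := act 2 n18768
theorem D21166 : act 2 n18768 = n21166 := rfl
theorem F39888 : act 0 n21166 = n18778 := d1_1 D21166 (iv D18778) (iv F34185)
theorem F39889 : act 3 n21166 = n18774 := d9_2 D18768 D21166 F34191 F27929 F21672 (iv F21674) (iv F27931) (iv F34195) (iv F35448) (iv D19288) (iv D16472) (iv D13396) F17600 D12827 D15882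
theorem F39890 : act 5 n18773 = n21166 := d13_0 F39889 (iv D18774) D18773
def n21167 : Q := act 5 n18768
theorem D21167 : act 5 n18768 = n21167 := rfl
theorem F39891 : act 0 n21167 = n18780 := d4_1 D21167 (iv D18780) (iv F34185)
theorem F39892 : act 2 n21167 = n18773 := d11_1 D21167 F39890 (iv D21166)
theorem F39893 : act 3 n21167 = n18769 := d13_1 D21167 (iv D18769) D18768
def n21168 : Q := act 0 n18772
theorem D21168 : act 0 n18772 = n21168 := rfl
theorem F39894 : act 1 n21168 = n19049 := d0_2 D18772 D21168 F35445 (iv D19287) F29228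
theorem F39895 : act 4 n21168 = n19048 := d3_2 (iv F35297) D21168 (iv F35295)
def n21169 : Q := act 3 n18772
theorem D21169 : act 3 n18772 = n21169 := rfl
theorem F39896 : act 1 n21169 = n18773 := d6_1 D21169 (iv D18773) D18772
def n21170 : Q := act 5 n18772
theorem D21170 : act 5 n18772 = n21170 := rfl
theorem F39897 : act 1 n21170 = n18774 := d8_1 D21170 (iv D18774) D18772
def n21171 : Q := act 4 n18774
theorem D21171 : act 4 n18774 = n21171 := rfl
theorem F39898 : act 2 n21171 = n18775 := d10_1 D21171 (iv D18775) (iv F34191)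
def n21172 : Q := act 3 n18776
theorem D21172 : act 3 n18776 = n21172 := rfl
theorem F39899 : act 0 n21172 = n18777 := d2_1 D21172 (iv D18777) D18776
def n21173 : Q := act 2 n18777
theorem D21173 : act 2 n18777 = n21173 := rfl
theorem F39900 : act 3 n21173 = n20503 := d15_3 F31870 D18777 D21173 F38335 (iv D20235) F31461 D18431 (iv F38060) (iv D20389)
theorem F39901 : act 1 n20505 = n21173 := d6_3 F39900 F38334 D20505
theorem F39902 : act 4 n20549 = n21173 := d12_0 F39900 (iv D20503) F32211 D17939 D20549
def n21174 : Q := act 4 n18777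
theorem D21174 : act 4 n18777 = n21174 := rfl
theorem F39903 : act 1 n21174 = n18779 := d7_1 D21174 (iv D18779) (iv F34193)
theorem F39904 : act 2 n21174 = n20549 := d10_1 D21174 F39902 (iv D21173)
theorem F39905 : act 3 n21174 = n18784 := d12_1 D21174 (iv D18784) (iv D15893) (iv F27930) D18777
theorem F39906 : act 5 n21051 = n21174 := d13_0 F39905 F34202 D21051
def n21175 : Q := act 1 n18778
theorem D21175 : act 1 n18778 = n21175 := rfl
theorem F39907 : act 2 n21175 = n20505 := d5_2 D18778 D21175 F39901 (iv D21173) F34193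
theorem F39908 : act 0 n20536 = n21175 := d1_3 F39907 F38339 D20536
theorem F39909 : act 4 n20551 = n21175 := d10_0 F39907 F38340 D20551
def n21176 : Q := act 4 n18778
theorem D21176 : act 4 n18778 = n21176 := rfl
theorem F39910 : act 1 n21176 = n20551 := d7_1 D21176 F39909 (iv D21175)
theorem F39911 : act 2 n21176 = n18779 := d10_1 D21176 (iv D18779) D18778
def n21177 : Q := act 4 n18780
theorem D21177 : act 4 n18780 = n21177 := rfl
def n21178 : Q := act 4 n18782
theorem D21178 : act 4 n18782 = n21178 := rfl
theorem F39912 : act 0 n21178 = n18784 := d3_1 D21178 (iv D18784) (iv F34198)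
theorem F39913 : act 2 n21178 = n21047 := d10_1 D21178 F39642 F38505
theorem F39914 : act 5 n21178 = n21046 := d14_2 F35214 D21178 (iv D21046) F33917 (iv F35213)
def n21179 : Q := act 4 n18783
theorem D21179 : act 4 n18783 = n21179 := rfl
theorem F39915 : act 0 n21179 = n18785 := d3_1 D21179 (iv D18785) (iv F34199)
def n21180 : Q := act 2 n18789
theorem D21180 : act 2 n18789 = n21180 := rfl
theorem F39916 : act 0 n21180 = n21008 := d1_1 D21180 (iv D21008) (iv F34219)
def n21181 : Q := act 4 n18789
theorem D21181 : act 4 n18789 = n21181 := rfl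
theorem F39917 : act 0 n21181 = n19751 := d3_1 D21181 F36573 (iv F34219)
theorem F39918 : act 1 n21181 = n18791 := d7_1 D21181 (iv D18791) (iv F34220)
theorem F39919 : act 3 n21181 = n19748 := d12_1 D21181 (iv D19748) F30241 (iv F27944) D18789
theorem F39920 : act 5 n21181 = n19756 := d14_2 F38134 D21181 F36593 (iv F38722) F38721
def n21182 : Q := act 4 n18790
theorem D21182 : act 4 n18790 = n21182 := rfl
theorem F39921 : act 0 n21182 = n20191 := d3_1 D21182 (iv F39882) F39879
theorem F39922 : act 2 n21182 = n18791 := d10_1 D21182 (iv D18791) D18790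
theorem F39923 : act 5 n21182 = n20676 := d14_2 F38002 D21182 (iv D20676) D20677 (iv F38711)
def n21183 : Q := act 3 n18803
theorem D21183 : act 3 n18803 = n21183 := rfl
theorem F39924 : act 0 n21183 = n18806 := d2_1 D21183 (iv D18806) (iv F34274)
theorem F39925 : act 1 n21183 = n20308 := d6_1 D21183 F37854 F34276
theorem F39926 : act 2 n21183 = n20973 := d9_1 D21183 F39427 F33628 (iv F27975) F27974 (iv F25423) F25422 D17617 F31589 (iv D15674) F21314 (iv F21307) (iv F21733) D15917 D18803
theorem F39927 : act 4 n21183 = n20985 := d12_2 F34277 D21183 F39461 F38663 F37781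
theorem F39928 : act 5 n21183 = n20287 := d13_2 (iv F34275) D21183 (iv D20287)
def n21184 : Q := act 3 n18812
theorem D21184 : act 3 n18812 = n21184 := rfl
def n21185 : Q := act 5 n18813
theorem D21185 : act 5 n18813 = n21185 := rfl
theorem F39929 : act 1 n21185 = n18818 := d8_1 D21185 (iv F37661) F37658
theorem F39930 : act 2 n21185 = n18814 := d11_1 D21185 (iv D18814) D18813
theorem F39931 : act 4 n21185 = n18814 := d14_1 D21185 (iv D18814) (iv F31343) F37592 F37590
def n21186 : Q := act 4 n18815
theorem D21186 : act 4 n18815 = n21186 := rfl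
theorem F39932 : act 1 n21186 = n18816 := d7_1 D21186 (iv D18816) D18815
theorem F39933 : act 2 n21186 = n18817 := d10_1 D21186 (iv F37660) F37659
theorem F39934 : act 5 n21186 = n18816 := d14_2 F38572 D21186 (iv D18816) F32443 (iv F38570)
def n21187 : Q := act 3 n18816
theorem D21187 : act 3 n18816 = n21187 := rfl
def n21188 : Q := act 5 n18825
theorem D21188 : act 5 n18825 = n21188 := rfl
theorem F39935 : act 0 n21188 = n18848 := d4_1 D21188 (iv D18848) (iv F34334)
theorem F39936 : act 1 n21188 = n18831 := d8_1 D21188 (iv D18831) (iv F34335)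
theorem F39937 : act 2 n21188 = n18843 := d11_1 D21188 (iv D18843) (iv F34336)
theorem F39938 : act 3 n21188 = n20632 := d13_1 D21188 (iv D20632) F34337
theorem F39939 : act 4 n21188 = n18831 := d14_1 D21188 (iv D18831) (iv D15956) (iv F28054) D18825
def n21189 : Q := act 2 n18826
theorem D21189 : act 2 n18826 = n21189 := rfl
theorem F39940 : act 0 n21189 = n19331 := d1_1 D21189 F35561 (iv F34338)
theorem F39941 : act 4 n21189 = n20629 := d10_2 (iv F34340) D21189 F38611
def n21190 : Q := act 5 n18826
theorem D21190 : act 5 n18826 = n21190 := rfl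
theorem F39942 : act 0 n21190 = n19334 := d4_1 D21190 F35568 (iv F34338)
theorem F39943 : act 1 n21190 = n18833 := d8_1 D21190 (iv D18833) (iv F34339)
theorem F39944 : act 3 n21190 = n18827 := d13_1 D21190 (iv D18827) D18826
def n21191 : Q := act 4 n18828
theorem D21191 : act 4 n18828 = n21191 := rfl
theorem F39945 : act 0 n21191 = n18881 := d3_1 D21191 (iv D18881) (iv F34345)
theorem F39946 : act 1 n21191 = n18829 := d7_1 D21191 (iv D18829) D18828
theorem F39947 : act 2 n21191 = n18842 := d10_1 D21191 (iv D18842) (iv F34346)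
theorem F39948 : act 3 n21191 = n20532 := d12_1 D21191 (iv D20532) F32239 (iv F28114) (iv F34347)
def n21192 : Q := act 5 n18829
theorem D21192 : act 5 n18829 = n21192 := rfl
theorem F39949 : act 0 n21192 = n18849 := d4_1 D21192 F34421 (iv F34349)
theorem F39950 : act 2 n21192 = n18831 := d11_1 D21192 (iv D18831) (iv F34350)
theorem F39951 : act 3 n21192 = n20533 := d13_1 D21192 (iv D20533) (iv F34351)
theorem F39952 : act 4 n21192 = n18843 := d14_1 D21192 (iv D18843) (iv D15977) (iv F28059) D18829
def n21193 : Q := act 2 n18830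
theorem D21193 : act 2 n18830 = n21193 := rfl
theorem F39953 : act 0 n21193 = n18979 := d1_1 D21193 F34791 (iv F34352)
theorem F39954 : act 4 n21193 = n18832 := d10_2 (iv F34354) D21193 (iv D18832)
theorem F39955 : act 1 n20510 = n21193 := d0_0 F39953 (iv D18979) F28494 D17899 D20510
def n21194 : Q := act 5 n18830
theorem D21194 : act 5 n18830 = n21194 := rfl
theorem F39956 : act 0 n21194 = n19355 := d4_1 D21194 F35606 (iv F34352)
theorem F39957 : act 1 n21194 = n20632 := d8_1 D21194 (iv D20632) (iv F34353)
theorem F39958 : act 3 n21194 = n18831 := d13_1 D21194 (iv D18831) D18830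
def n21195 : Q := act 1 n18832
theorem D21195 : act 1 n18832 = n21195 := rfl
theorem F39959 : act 0 n21195 = n18977 := d0_1 D21195 (iv D18977) F28483 D16132 (iv F34356)
theorem F39960 : act 3 n21195 = n18992 := d6_2 (iv F34357) D21195 F34824
theorem F39961 : act 4 n21195 = n20510 := d7_2 F39954 D21195 F39955
theorem F39962 : act 5 n21195 = n18991 := d8_2 F34358 D21195 F34822
def n21196 : Q := act 4 n18833
theorem D21196 : act 4 n18833 = n21196 := rfl
theorem F39963 : act 0 n21196 = n19360 := d3_1 D21196 F35615 (iv F34359)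
theorem F39964 : act 2 n21196 = n18993 := d10_1 D21196 (iv D18993) (iv F34360)
def n21197 : Q := act 4 n18836
theorem D21197 : act 4 n18836 = n21197 := rfl
theorem F39965 : act 1 n21197 = n18839 := d7_1 D21197 (iv D18839) (iv F34371)
theorem F39966 : act 2 n21197 = n18986 := d10_1 D21197 (iv D18986) (iv F34372)
theorem F39967 : act 3 n21197 = n19041 := d12_1 D21197 (iv D19041) F28620 (iv F28077) (iv F34373)
theorem F39968 : act 5 n21197 = n18986 := d14_2 D18836 D21197 (iv D18986) (iv D16137) (iv F28074)
def n21198 : Q := act 4 n18837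
theorem D21198 : act 4 n18837 = n21198 := rfl
theorem F39969 : act 0 n21198 = n18993 := d3_1 D21198 (iv D18993) (iv F34374)
theorem F39970 : act 1 n21198 = n18984 := d7_1 D21198 (iv D18984) (iv F34375)
theorem F39971 : act 2 n21198 = n19360 := d10_1 D21198 F35615 (iv F34376)
theorem F39972 : act 3 n21198 = n18984 := d12_1 D21198 (iv D18984) F28505 (iv F28079) D18837
def n21199 : Q := act 4 n18838
theorem D21199 : act 4 n18838 = n21199 := rfl
theorem F39973 : act 0 n21199 = n18994 := d3_1 D21199 (iv D18994) (iv F34378)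
theorem F39974 : act 1 n21199 = n18983 := d7_1 D21199 (iv D18983) (iv F34379)
theorem F39975 : act 2 n21199 = n18839 := d10_1 D21199 (iv D18839) (iv F34380)
theorem F39976 : act 5 n21199 = n18983 := d14_2 D18838 D21199 (iv D18983) F28502 (iv F28079)
def n21200 : Q := act 4 n18841
theorem D21200 : act 4 n18841 = n21200 := rfl
theorem F39977 : act 0 n21200 = n18842 := d3_1 D21200 (iv D18842) (iv F34389)
theorem F39978 : act 1 n21200 = n18844 := d7_1 D21200 (iv D18844) (iv F34390)
theorem F39979 : act 2 n21200 = n18881 := d10_1 D21200 (iv D18881) (iv F34391)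
theorem F39980 : act 3 n21200 = n19037 := d12_1 D21200 (iv D19037) (iv D16187) (iv F28108) D18841
def n21201 : Q := act 5 n18842
theorem D21201 : act 5 n18842 = n21201 := rfl
theorem F39981 : act 1 n21201 = n18843 := d8_1 D21201 (iv D18843) (iv F34393)
theorem F39982 : act 3 n21201 = n19040 := d13_1 D21201 (iv D19040) (iv F34394)
def n21202 : Q := act 5 n18844
theorem D21202 : act 5 n18844 = n21202 := rfl
theorem F39983 : act 0 n21202 = n18847 := d4_1 D21202 (iv D18847) (iv F34397)
theorem F39984 : act 2 n21202 = n18875 := d11_1 D21202 (iv D18875) (iv F34398)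
theorem F39985 : act 3 n21202 = n19062 := d13_1 D21202 (iv D19062) (iv F34399)
theorem F39986 : act 4 n21202 = n18882 := d14_1 D21202 (iv D18882) (iv D16022) (iv F28118) D18844
def n21203 : Q := act 1 n18854
theorem D21203 : act 1 n18854 = n21203 := rfl
theorem F39987 : act 2 n21203 = n21086 := d5_2 D18854 D21203 (iv D21086) (iv D18687) (iv F28136)
theorem F39988 : act 4 n21203 = n19142 := d7_2 (iv F34434) D21203 (iv D19142)
def n21204 : Q := act 3 n18854
theorem D21204 : act 3 n18854 = n21204 := rfl
theorem F39989 : act 0 n21204 = n19418 := d2_1 D21204 F35730 (iv F34433)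
theorem F39990 : act 2 n21204 = n19392 := d9_1 D21204 (iv D19392) F29451 (iv F27821) (iv F28132) (iv F34425) (iv F35727) (iv D19417) (iv D16604) (iv D13519) F17749 (iv F16930) (iv F21941) D15988 D18854
theorem F39991 : act 5 n21204 = n19393 := d15_8 (iv D16604) (iv D13519) F17749 (iv F16930) (iv F21941) D15988 D18854 D21204 F35687
def n21205 : Q := act 5 n18854
theorem D21205 : act 5 n18854 = n21205 := rfl
theorem F39992 : act 0 n21205 = n19417 := d4_1 D21205 F35728 (iv F34433)
theorem F39993 : act 2 n21205 = n18855 := d11_1 D21205 (iv D18855) D18854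
theorem F39994 : act 3 n21205 = n19393 := d13_1 D21205 (iv F39991) (iv D21204)
def n21206 : Q := act 3 n18856
theorem D21206 : act 3 n18856 = n21206 := rfl
theorem F39995 : act 0 n21206 = n19164 := d2_1 D21206 (iv D19164) (iv F34438)
theorem F39996 : act 1 n21206 = n18858 := d6_1 D21206 (iv D18858) (iv F34439)
theorem F39997 : act 4 n21206 = n18857 := d12_2 D18856 D21206 (iv D18857) (iv D15991) D15990
theorem F39998 : act 2 n20337 = n21206 := d15_0 (iv D21206) F34440 D19164 (iv F35171) (iv F39967) F39966 (iv F37910) F37911 (iv F37915)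
theorem F39999 : act 5 n21206 = n20334 := d11_2 D20337 F39998 F37907
def n21207 : Q := act 5 n18856
theorem D21207 : act 5 n18856 = n21207 := rfl
theorem F40000 : act 0 n21207 = n19165 := d4_1 D21207 (iv D19165) (iv F34438)
theorem F40001 : act 1 n21207 = n18859 := d8_1 D21207 (iv D18859) (iv F34439)
theorem F40002 : act 2 n21207 = n19165 := d11_1 D21207 (iv D19165) (iv F34440)
theorem F40003 : act 3 n21207 = n20334 := d13_1 D21207 (iv F39999) (iv D21206)
theorem F40004 : act 4 n21207 = n18897 := d14_1 D21207 (iv D18897) (iv D16039) (iv F28144) D18856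
def n21208 : Q := act 3 n18861
theorem D21208 : act 3 n18861 = n21208 := rfl
theorem F40005 : act 0 n21208 = n19157 := d2_1 D21208 (iv D19157) (iv F34457)
theorem F40006 : act 1 n21208 = n18862 := d6_1 D21208 (iv D18862) (iv F34458)
theorem F40007 : act 4 n21208 = n18890 := d12_2 D18861 D21208 (iv D18890) (iv D16031) (iv F28156)
def n21209 : Q := act 5 n18861
theorem D21209 : act 5 n18861 = n21209 := rfl
theorem F40008 : act 0 n21209 = n19158 := d4_1 D21209 (iv D19158) (iv F34457)
theorem F40009 : act 1 n21209 = n18863 := d8_1 D21209 (iv D18863) (iv F34458)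
theorem F40010 : act 2 n21209 = n19158 := d11_1 D21209 (iv D19158) (iv F34459)
theorem F40011 : act 4 n21209 = n18888 := d14_1 D21209 (iv D18888) (iv D16029) (iv F28157) D18861
def n21210 : Q := act 5 n18862
theorem D21210 : act 5 n18862 = n21210 := rfl
theorem F40012 : act 0 n21210 = n18900 := d4_1 D21210 F34586 (iv F34460)
theorem F40013 : act 2 n21210 = n20446 := d11_1 D21210 (iv D20446) F34462
theorem F40014 : act 3 n21210 = n18863 := d13_1 D21210 (iv D18863) D18862
theorem F40015 : act 4 n21210 = n20454 := d14_1 D21210 (iv D20454) (iv D17834) (iv F28276) (iv F34461)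
def n21211 : Q := act 1 n18864
theorem D21211 : act 1 n18864 = n21211 := rfl
theorem F40016 : act 0 n21211 = n20332 := d0_1 D21211 F37900 F31713 (iv F31740) (iv F34466)
theorem F40017 : act 2 n21211 = n19213 := d5_2 D18864 D21211 (iv D19213) (iv D16395) (iv F28160)
theorem F40018 : act 4 n21211 = n18866 := d7_2 (iv F34467) D21211 (iv D18866)
theorem F40019 : act 5 n21211 = n20329 := d8_2 F34468 D21211 F37894
def n21212 : Q := act 3 n18864
theorem D21212 : act 3 n18864 = n21212 := rfl
theorem F40020 : act 0 n21212 = n20138 := d2_1 D21212 F37442 (iv F34466)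
theorem F40021 : act 5 n21212 = n20136 := d13_2 F34468 D21212 F37437
def n21213 : Q := act 3 n18866
theorem D21213 : act 3 n18866 = n21213 := rfl
theorem F40022 : act 1 n21213 = n18867 := d6_1 D21213 (iv D18867) D18866
theorem F40023 : act 5 n21213 = n18868 := d13_2 (iv F34475) D21213 F34479
def n21214 : Q := act 4 n18867
theorem D21214 : act 4 n18867 = n21214 := rfl
theorem F40024 : act 0 n21214 = n18872 := d3_1 D21214 (iv D18872) (iv F34476)
theorem F40025 : act 2 n21214 = n18869 := d10_1 D21214 (iv D18869) (iv F34477)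
theorem F40026 : act 5 n21214 = n18919 := d14_2 (iv F34478) D21214 (iv D18919) (iv D16066) (iv F28166)
def n21215 : Q := act 0 n18877
theorem D21215 : act 0 n18877 = n21215 := rfl
theorem F40027 : act 1 n21215 = n19356 := d0_2 D18877 D21215 F35607 F29377 (iv F28232)
theorem F40028 : act 2 n21215 = n18880 := d1_2 (iv F34511) D21215 (iv D18880)
theorem F40029 : act 5 n21215 = n19143 := d4_2 (iv F34512) D21215 (iv D19143)
def n21216 : Q := act 3 n18877
theorem D21216 : act 3 n18877 = n21216 := rfl
theorem F40030 : act 1 n21216 = n18878 := d6_1 D21216 (iv D18878) D18877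
theorem F40031 : act 5 n21216 = n19144 := d13_2 (iv F34512) D21216 (iv D19144)
def n21217 : Q := act 4 n18878
theorem D21217 : act 4 n18878 = n21217 := rfl
theorem F40032 : act 0 n21217 = n19155 := d3_1 D21217 (iv D19155) (iv F34513)
theorem F40033 : act 2 n21217 = n19153 := d10_1 D21217 (iv D19153) (iv F34514)
theorem F40034 : act 3 n21217 = n20428 := d12_1 D21217 (iv D20428) (iv F34510) F34508 D18878
def n21218 : Q := act 5 n18881
theorem D21218 : act 5 n18881 = n21218 := rfl
theorem F40035 : act 1 n21218 = n18882 := d8_1 D21218 (iv D18882) (iv F34522)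
theorem F40036 : act 3 n21218 = n20665 := d13_1 D21218 (iv D20665) (iv F34523)
def n21219 : Q := act 3 n18883
theorem D21219 : act 3 n18883 = n21219 := rfl
theorem F40037 : act 0 n21219 = n19249 := d2_1 D21219 (iv D19249) (iv F34527)
theorem F40038 : act 1 n21219 = n18884 := d6_1 D21219 (iv D18884) D18883
theorem F40039 : act 5 n21219 = n19152 := d13_2 (iv F34530) D21219 (iv D19152)
def n21220 : Q := act 4 n18884
theorem D21220 : act 4 n18884 = n21220 := rfl
theorem F40040 : act 0 n21220 = n18885 := d3_1 D21220 (iv D18885) (iv F34531)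
theorem F40041 : act 2 n21220 = n19145 := d10_1 D21220 (iv D19145) (iv F34532)
theorem F40042 : act 3 n21220 = n19075 := d12_1 D21220 (iv D19075) (iv D16222) (iv F28244) D18884
def n21221 : Q := act 5 n18885
theorem D21221 : act 5 n18885 = n21221 := rfl
theorem F40043 : act 1 n21221 = n19253 := d8_1 D21221 (iv D19253) (iv F34534)
theorem F40044 : act 2 n21221 = n19371 := d11_1 D21221 (iv D19371) (iv F34535)
theorem F40045 : act 3 n21221 = n19078 := d13_1 D21221 (iv D19078) (iv F34536)
theorem F40046 : act 4 n21221 = n19156 := d14_1 D21221 (iv D19156) (iv D16329) (iv F28255) D18885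
def n21222 : Q := act 2 n18886
theorem D21222 : act 2 n18886 = n21222 := rfl
theorem F40047 : act 0 n21222 = n18889 := d1_1 D21222 (iv D18889) (iv F34537)
theorem F40048 : act 4 n21222 = n19203 := d10_2 (iv F34539) D21222 (iv D19203)
theorem F40049 : act 5 n21222 = n20463 := d11_2 (iv F34540) D21222 (iv D20463)
def n21223 : Q := act 2 n18887
theorem D21223 : act 2 n18887 = n21223 := rfl
theorem F40050 : act 0 n21223 = n19203 := d1_1 D21223 (iv D19203) (iv F34541)
theorem F40051 : act 1 n21223 = n20460 := d5_1 D21223 F38228 F32116 F28272 (iv F34542)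
theorem F40052 : act 4 n21223 = n18889 := d10_2 (iv F34543) D21223 (iv D18889)
def n21224 : Q := act 5 n18887
theorem D21224 : act 5 n18887 = n21224 := rfl
theorem F40053 : act 0 n21224 = n19204 := d4_1 D21224 (iv D19204) (iv F34541)
theorem F40054 : act 1 n21224 = n18891 := d8_1 D21224 (iv D18891) (iv F34542)
theorem F40055 : act 3 n21224 = n18888 := d13_1 D21224 (iv D18888) D18887
theorem F40056 : act 4 n21224 = n20467 := d14_1 D21224 (iv D20467) (iv D17855) (iv F28265) (iv F34543)
def n21225 : Q := act 3 n18889
theorem D21225 : act 3 n18889 = n21225 := rfl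
theorem F40057 : act 1 n21225 = n20459 := d6_1 D21225 F38227 (iv F34547)
theorem F40058 : act 5 n21225 = n20465 := d13_2 (iv F34548) D21225 (iv D20465)
def n21226 : Q := act 2 n18890
theorem D21226 : act 2 n18890 = n21226 := rfl
theorem F40059 : act 0 n21226 = n19159 := d1_1 D21226 (iv D19159) (iv F34549)
theorem F40060 : act 1 n21226 = n20444 := d5_1 D21226 (iv D20444) F32057 (iv F28277) (iv F34550)
theorem F40061 : act 5 n21226 = n20452 := d11_2 (iv F34551) D21226 (iv D20452)
def n21227 : Q := act 1 n18892
theorem D21227 : act 1 n18892 = n21227 := rfl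
theorem F40062 : act 3 n21227 = n19001 := d6_2 (iv F34559) D21227 (iv D19001)
theorem F40063 : act 4 n21227 = n19205 := d7_2 (iv F34557) D21227 (iv D19205)
theorem F40064 : act 5 n21227 = n19038 := d8_2 (iv F34558) D21227 F34935
def n21228 : Q := act 3 n18893
theorem D21228 : act 3 n18893 = n21228 := rfl
theorem F40065 : act 0 n21228 = n19206 := d2_1 D21228 (iv D19206) (iv F34560)
theorem F40066 : act 1 n21228 = n20851 := d6_1 D21228 (iv F39568) F39566
theorem F40067 : act 2 n21228 = n19210 := d9_1 D21228 F35277 F29063 F22667 (iv F22664) (iv F29055) (iv F35268) F35269 F31882 F25378 F22639 (iv D13319) (iv F22039) D16036 D18893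
theorem F40068 : act 5 n21228 = n19209 := d15_8 F31882 F25378 F22639 (iv D13319) (iv F22039) D16036 D18893 D21228 F35272
theorem F40069 : act 4 n20384 = n21228 := d14_5 F40068 F35274 (iv D17735) D17734 D20384
def n21229 : Q := act 5 n18893
theorem D21229 : act 5 n18893 = n21229 := rfl
theorem F40070 : act 0 n21229 = n19207 := d4_1 D21229 (iv D19207) (iv F34560)
theorem F40071 : act 1 n21229 = n20850 := d8_1 D21229 F39569 F39566
theorem F40072 : act 2 n21229 = n18894 := d11_1 D21229 (iv D18894) D18893
theorem F40073 : act 3 n21229 = n19209 := d13_1 D21229 (iv F40068) (iv D21228)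
theorem F40074 : act 4 n21229 = n20385 := d14_1 D21229 F38043 (iv D17863) (iv F28288) (iv F34561)
def n21230 : Q := act 3 n18895
theorem D21230 : act 3 n18895 = n21230 := rfl
theorem F40075 : act 1 n21230 = n18896 := d6_1 D21230 (iv D18896) D18895
theorem F40076 : act 5 n21230 = n20470 := d13_2 (iv F34567) D21230 (iv D20470)
def n21231 : Q := act 4 n18896
theorem D21231 : act 4 n18896 = n21231 := rfl
theorem F40077 : act 0 n21231 = n19002 := d3_1 D21231 (iv D19002) (iv F34568)
theorem F40078 : act 2 n21231 = n19000 := d10_1 D21231 (iv D19000) (iv F34570)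
theorem F40079 : act 3 n21231 = n20384 := d12_1 D21231 F40069 (iv D21228) F34561 D18896
theorem F40080 : act 5 n21231 = n20379 := d14_2 (iv F34569) D21231 (iv D20379) F35368 F35366
def n21232 : Q := act 2 n18900
theorem D21232 : act 2 n18900 = n21232 := rfl
theorem F40081 : act 0 n21232 = n20446 := d1_1 D21232 (iv F40013) F40012
theorem F40082 : act 4 n21232 = n20458 := d10_2 (iv F34585) D21232 F38225
theorem F40083 : act 5 n21232 = n18901 := d11_2 (iv F34586) D21232 (iv D18901)
def n21233 : Q := act 1 n18901
theorem D21233 : act 1 n18901 = n21233 := rfl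
theorem F40084 : act 2 n21233 = n19168 := d5_2 D18901 D21233 (iv D19168) (iv D16341) (iv F28306)
theorem F40085 : act 4 n21233 = n18902 := d7_2 (iv F34588) D21233 (iv D18902)
def n21234 : Q := act 3 n18901
theorem D21234 : act 3 n18901 = n21234 := rfl
theorem F40086 : act 0 n21234 = n20137 := d2_1 D21234 F37440 (iv F34587)
theorem F40087 : act 4 n21234 = n20130 := d12_2 (iv F34588) D21234 (iv D20130) F31123 (iv F28312)
theorem F40088 : act 2 n21234 = n20136 := d15_2 D18901 D21234 F37437 (iv F34471) F34472 (iv F34464) (iv F40014) (iv D21210) F34460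
def n21235 : Q := act 4 n18905
theorem D21235 : act 4 n18905 = n21235 := rfl
theorem F40089 : act 0 n21235 = n19247 := d3_1 D21235 F35366 (iv F34602)
theorem F40090 : act 1 n21235 = n19039 := d7_1 D21235 (iv D19039) (iv F34603)
theorem F40091 : act 2 n21235 = n18906 := d10_1 D21235 (iv D18906) D18905
theorem F40092 : act 3 n19284 = n21235 := d9_0 F40091 F34608 F28936 F22697 F17586 D11626 D14680 D17728 (iv F35369) F35370 F29161 F22717 (iv F22772) (iv F29224) (iv F35436)
theorem F40093 : act 5 n21235 = n19283 := d13_2 D19284 F40092 (iv D19283)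
def n21236 : Q := act 5 n18906
theorem D21236 : act 5 n18906 = n21236 := rfl
theorem F40094 : act 0 n21236 = n19248 := d4_1 D21236 (iv D19248) (iv F34606)
theorem F40095 : act 1 n21236 = n18985 := d8_1 D21236 (iv D18985) (iv F34607)
theorem F40096 : act 2 n21236 = n19283 := d11_1 D21236 (iv F40093) F40091
theorem F40097 : act 3 n21236 = n19177 := d13_1 D21236 (iv D19177) (iv F34608)
theorem F40098 : act 4 n21236 = n19003 := d14_1 D21236 (iv D19003) (iv D16152) (iv F28317) D18906
def n21237 : Q := act 2 n18907
theorem D21237 : act 2 n18907 = n21237 := rfl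
theorem F40099 : act 0 n21237 = n18908 := d1_1 D21237 (iv D18908) (iv F34609)
theorem F40100 : act 3 n21237 = n18908 := d9_2 D18907 D21237 (iv D18908) (iv D16052) F22064 F17055 (iv F19796) D14820 D17846 (iv F38227) (iv D20459) (iv D17845) F25624 (iv F22095) (iv F28321)
theorem F40101 : act 5 n21237 = n20459 := d11_2 (iv F34611) D21237 (iv D20459)
theorem F40102 : act 1 n20465 = n21237 := d8_3 F40101 (iv F40057) F40058
def n21238 : Q := act 4 n18908
theorem D21238 : act 4 n18908 = n21238 := rfl
theorem F40103 : act 1 n21238 = n20466 := d7_1 D21238 (iv D20466) (iv F34612)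
theorem F40104 : act 2 n21238 = n18909 := d10_1 D21238 (iv D18909) D18908
def n21239 : Q := act 5 n18909
theorem D21239 : act 5 n18909 = n21239 := rfl
theorem F40105 : act 1 n21239 = n18910 := d8_1 D21239 (iv D18910) (iv F34614)
theorem F40106 : act 4 n21239 = n20461 := d14_1 D21239 (iv D20461) (iv D17847) (iv F28324) D18909
def n21240 : Q := act 4 n18918
theorem D21240 : act 4 n18918 = n21240 := rfl
theorem F40107 : act 1 n21240 = n18919 := d7_1 D21240 (iv D18919) (iv F34646)
def n21241 : Q := act 4 n18922
theorem D21241 : act 4 n18922 = n21241 := rfl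
theorem F40108 : act 0 n21241 = n19066 := d3_1 D21241 (iv D19066) (iv F34659)
theorem F40109 : act 1 n21241 = n21128 := d7_1 D21241 (iv D21128) (iv F34660)
theorem F40110 : act 2 n21241 = n18923 := d10_1 D21241 (iv D18923) D18922
def n21242 : Q := act 5 n18923
theorem D21242 : act 5 n18923 = n21242 := rfl
theorem F40111 : act 1 n21242 = n18924 := d8_1 D21242 (iv D18924) (iv F34663)
theorem F40112 : act 3 n21242 = n19104 := d13_1 D21242 (iv D19104) (iv F34664)
theorem F40113 : act 4 n21242 = n19078 := d14_1 D21242 (iv D19078) (iv D16224) (iv F28363) D18923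
def n21243 : Q := act 3 n18925
theorem D21243 : act 3 n18925 = n21243 := rfl
theorem F40114 : act 0 n21243 = n18928 := d2_1 D21243 (iv D18928) (iv F34669)
theorem F40115 : act 4 n21243 = n19316 := d12_2 (iv F34670) D21243 (iv D19316) (iv D16501) (iv F28378)
def n21244 : Q := act 1 n18926
theorem D21244 : act 1 n18926 = n21244 := rfl
theorem F40116 : act 2 n21244 = n19142 := d5_2 D18926 D21244 (iv D19142) (iv D16299) (iv F28384)
theorem F40117 : act 4 n21244 = n21086 := d7_2 (iv F34672) D21244 (iv D21086)
def n21245 : Q := act 3 n18926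
theorem D21245 : act 3 n18926 = n21245 := rfl
theorem F40118 : act 0 n21245 = n21099 := d2_1 D21245 (iv D21099) (iv F34671)
def n21246 : Q := act 3 n18927
theorem D21246 : act 3 n18927 = n21246 := rfl
theorem F40119 : act 1 n21246 = n18928 := d6_1 D21246 (iv D18928) D18927
def n21247 : Q := act 2 n18928
theorem D21247 : act 2 n18928 = n21247 := rfl
theorem F40120 : act 3 n21247 = n21097 := d15_3 D16078 D18928 D21247 (iv D21097) (iv D18699) F27854 D18120 F32686 F28374
theorem F40121 : act 5 n21099 = n21247 := d13_0 F40120 F39771 D21099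
def n21248 : Q := act 4 n18928
theorem D21248 : act 4 n18928 = n21248 := rfl
theorem F40122 : act 0 n21248 = n19316 := d3_1 D21248 (iv F40115) F40114
theorem F40123 : act 3 n21248 = n18932 := d12_1 D21248 (iv D18932) (iv D16081) (iv F28386) D18928
def n21249 : Q := act 5 n18928
theorem D21249 : act 5 n18928 = n21249 := rfl
theorem F40124 : act 2 n21249 = n21099 := d11_1 D21249 F40121 (iv D21247)
theorem F40125 : act 3 n21249 = n18929 := d13_1 D21249 (iv D18929) D18928
def n21250 : Q := act 2 n18931
theorem D21250 : act 2 n18931 = n21250 := rfl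
theorem F40126 : act 1 n21250 = n19304 := d5_1 D21250 F35497 F29266 (iv F28391) (iv F34679)
theorem F40127 : act 5 n21250 = n19302 := d11_2 (iv F34680) D21250 F35495
def n21251 : Q := act 4 n18931
theorem D21251 : act 4 n18931 = n21251 := rfl
theorem F40128 : act 1 n21251 = n18932 := d7_1 D21251 (iv D18932) (iv F34679)
def n21252 : Q := act 5 n18932
theorem D21252 : act 5 n18932 = n21252 := rfl
theorem F40129 : act 0 n21252 = n19314 := d4_1 D21252 F35520 (iv F34681)
theorem F40130 : act 2 n21252 = n19309 := d11_1 D21252 F35509 (iv F34682)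
theorem F40131 : act 4 n21252 = n19308 := d14_1 D21252 (iv D19308) F29269 (iv F28392) D18932
def n21253 : Q := act 3 n18934
theorem D21253 : act 3 n18934 = n21253 := rfl
theorem F40132 : act 0 n21253 = n18938 := d2_1 D21253 (iv D18938) (iv F34686)
theorem F40133 : act 1 n21253 = n18935 := d6_1 D21253 (iv D18935) D18934
def n21254 : Q := act 5 n18934
theorem D21254 : act 5 n18934 = n21254 := rfl
theorem F40134 : act 0 n21254 = n18939 := d4_1 D21254 (iv D18939) (iv F34686)
theorem F40135 : act 1 n21254 = n18936 := d8_1 D21254 (iv D18936) D18934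
theorem F40136 : act 2 n21254 = n18992 := d11_1 D21254 (iv D18992) (iv F34687)
def n21255 : Q := act 4 n18935
theorem D21255 : act 4 n18935 = n21255 := rfl
theorem F40137 : act 0 n21255 = n19421 := d3_1 D21255 F35733 (iv F34689)
theorem F40138 : act 3 n21255 = n18940 := d12_1 D21255 (iv D18940) (iv D16091) (iv F28408) D18935
def n21256 : Q := act 4 n18936
theorem D21256 : act 4 n18936 = n21256 := rfl
theorem F40139 : act 2 n21256 = n18937 := d10_1 D21256 (iv D18937) (iv F34690)
theorem F40140 : act 3 n21256 = n20260 := d12_1 D21256 F37728 D20262 (iv F37734) F34754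
theorem F40141 : act 5 n21256 = n18941 := d14_2 D18936 D21256 (iv D18941) (iv D16092) (iv F28408)
def n21257 : Q := act 2 n18938
theorem D21257 : act 2 n18938 = n21257 := rfl
theorem F40142 : act 1 n21257 = n19397 := d5_1 D21257 (iv D19397) F29456 (iv F28413) (iv F34694)
theorem F40143 : act 5 n21257 = n21244 := d11_2 F35119 D21257 F40116
def n21258 : Q := act 4 n18938
theorem D21258 : act 4 n18938 = n21258 := rfl
theorem F40144 : act 1 n21258 = n18940 := d7_1 D21258 (iv D18940) (iv F34694)
def n21259 : Q := act 4 n18939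
theorem D21259 : act 4 n18939 = n21259 := rfl
theorem F40145 : act 1 n21259 = n18941 := d7_1 D21259 (iv D18941) (iv F34695)
theorem F40146 : act 2 n21259 = n18997 := d10_1 D21259 (iv D18997) (iv F34696)
def n21260 : Q := act 5 n18940
theorem D21260 : act 5 n18940 = n21260 := rfl
theorem F40147 : act 0 n21260 = n19420 := d4_1 D21260 F35732 (iv F34697)
theorem F40148 : act 2 n21260 = n19391 := d11_1 D21260 (iv D19391) (iv F34698)
theorem F40149 : act 4 n21260 = n21205 := d14_1 D21260 (iv D21205) F34434 F28793 D18940
def n21261 : Q := act 3 n18941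
theorem D21261 : act 3 n18941 = n21261 := rfl
theorem F40150 : act 4 n21261 = n21204 := d12_2 D18941 D21261 (iv D21204) F34434 F28792
theorem F40151 : act 5 n21261 = n20260 := d13_2 F40141 D21261 (iv F40140)
theorem F40152 : act 2 n21261 = n20259 := d15_2 (iv F34699) D21261 (iv D20259) F31508 F31153 (iv F31748) (iv F34746) F34747 F31745
def n21262 : Q := act 3 n18944
theorem D21262 : act 3 n18944 = n21262 := rfl
theorem F40153 : act 1 n21262 = n18945 := d6_1 D21262 (iv D18945) D18944
theorem F40154 : act 2 n21262 = n19139 := d15_2 (iv F35257) D21262 F39717 (iv D21077) (iv D18676) (iv F29066) D19211 F35280 (iv F35254)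
theorem F40155 : act 5 n18971 = n21262 := d11_0 F40154 (iv F39721) (iv F39722)
def n21263 : Q := act 5 n18944
theorem D21263 : act 5 n18944 = n21263 := rfl
theorem F40156 : act 1 n21263 = n18946 := d8_1 D21263 (iv D18946) D18944
theorem F40157 : act 3 n21263 = n18971 := d13_1 D21263 F40155 (iv D21262)
def n21264 : Q := act 4 n18945
theorem D21264 : act 4 n18945 = n21264 := rfl
theorem F40158 : act 0 n21264 = n18955 := d3_1 D21264 (iv D18955) (iv F34707)
theorem F40159 : act 2 n21264 = n18974 := d10_1 D21264 (iv D18974) (iv F34708)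
theorem F40160 : act 3 n21264 = n19042 := d12_1 D21264 (iv D19042) (iv D16194) (iv F28433) D18945
def n21265 : Q := act 4 n18946
theorem D21265 : act 4 n18946 = n21265 := rfl
theorem F40161 : act 0 n21265 = n18957 := d3_1 D21265 (iv D18957) (iv F34710)
theorem F40162 : act 2 n21265 = n18947 := d10_1 D21265 (iv D18947) (iv F34711)
theorem F40163 : act 5 n21265 = n19043 := d14_2 D18946 D21265 (iv D19043) (iv D16195) (iv F28433)
def n21266 : Q := act 3 n18948
theorem D21266 : act 3 n18948 = n21266 := rfl
theorem F40164 : act 1 n21266 = n18949 := d6_1 D21266 (iv D18949) D18948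
theorem F40165 : act 5 n21266 = n19048 := d13_2 F35293 D21266 F35294
def n21267 : Q := act 4 n18949
theorem D21267 : act 4 n18949 = n21267 := rfl
theorem F40166 : act 0 n21267 = n19042 := d3_1 D21267 (iv D19042) (iv F34718)
theorem F40167 : act 2 n21267 = n19051 := d10_1 D21267 (iv D19051) (iv F34719)
theorem F40168 : act 3 n21267 = n18955 := d12_1 D21267 (iv D18955) (iv D16105) (iv F28437) D18949
def n21268 : Q := act 4 n18950
theorem D21268 : act 4 n18950 = n21268 := rfl
theorem F40169 : act 0 n21268 = n19043 := d3_1 D21268 (iv D19043) (iv F34721)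
theorem F40170 : act 2 n21268 = n18951 := d10_1 D21268 (iv D18951) (iv F34722)
theorem F40171 : act 5 n21268 = n18957 := d14_2 D18950 D21268 (iv D18957) (iv D16106) (iv F28437)
def n21269 : Q := act 3 n18952
theorem D21269 : act 3 n18952 = n21269 := rfl
theorem F40172 : act 0 n21269 = n18953 := d2_1 D21269 (iv D18953) D18952
theorem F40173 : act 2 n21269 = n20162 := d15_2 (iv F34728) D21269 (iv D20162) (iv D17447) (iv D14393) (iv F19433) D14617 (iv F25161) D16116
def n21270 : Q := act 2 n18953
theorem D21270 : act 2 n18953 = n21270 := rfl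
theorem F40174 : act 0 n21270 = n20162 := d1_1 D21270 (iv F40173) F40172
theorem F40175 : act 3 n21270 = n20159 := d15_3 (iv F28441) D18953 D21270 (iv D20159) (iv D17445) (iv F25158) D17669 (iv F31701) (iv D16116)
def n21271 : Q := act 4 n18953
theorem D21271 : act 4 n18953 = n21271 := rfl
theorem F40176 : act 1 n21271 = n18955 := d7_1 D21271 (iv D18955) (iv F34729)
def n21272 : Q := act 1 n18954
theorem D21272 : act 1 n18954 = n21272 := rfl
theorem F40177 : act 0 n21272 = n19137 := d0_1 D21272 F35113 F28789 (iv F28474) (iv F34730)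
theorem F40178 : act 3 n21272 = n18967 := d6_2 (iv F34731) D21272 F34765
theorem F40179 : act 5 n21272 = n18966 := d8_2 F34732 D21272 F34763
def n21273 : Q := act 4 n18954
theorem D21273 : act 4 n18954 = n21273 := rfl
theorem F40180 : act 0 n21273 = n18974 := d3_1 D21273 (iv D18974) (iv F34730)
theorem F40181 : act 2 n21273 = n18955 := d10_1 D21273 (iv D18955) D18954
theorem F40182 : act 3 n21273 = n19189 := d12_1 D21273 (iv D19189) (iv D16359) (iv F28467) (iv F34731)
def n21274 : Q := act 5 n18955
theorem D21274 : act 5 n18955 = n21274 := rfl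
def n21275 : Q := act 4 n18956
theorem D21275 : act 4 n18956 = n21275 := rfl
theorem F40183 : act 0 n21275 = n18972 := d3_1 D21275 (iv D18972) (iv F34733)
theorem F40184 : act 2 n21275 = n18968 := d10_1 D21275 (iv D18968) (iv F34734)
def n21276 : Q := act 3 n18957
theorem D21276 : act 3 n18957 = n21276 := rfl
def n21277 : Q := act 4 n18958
theorem D21277 : act 4 n18958 = n21277 := rfl
theorem F40185 : act 0 n21277 = n21197 := d3_1 D21277 (iv D21197) (iv F34737)
theorem F40186 : act 1 n21277 = n18960 := d7_1 D21277 (iv D18960) (iv F34738)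
theorem F40187 : act 2 n21277 = n20336 := d10_1 D21277 F37914 (iv F34739)
theorem F40188 : act 3 n21277 = n20337 := d12_1 D21277 F37917 F34705 (iv F28452) (iv F34740)
theorem F40189 : act 5 n21277 = n20336 := d14_2 D18958 D21277 F37914 (iv D18933) (iv F28447)
def n21278 : Q := act 4 n18959
theorem D21278 : act 4 n18959 = n21278 := rfl
theorem F40190 : act 0 n21278 = n21256 := d3_1 D21278 (iv D21256) (iv F34741)
theorem F40191 : act 1 n21278 = n20338 := d7_1 D21278 F37919 (iv F34742)
theorem F40192 : act 2 n21278 = n18960 := d10_1 D21278 (iv D18960) (iv F34743)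
theorem F40193 : act 5 n21278 = n20338 := d14_2 D18959 D21278 F37919 F34432 (iv F28455)
def n21279 : Q := act 2 n18961
theorem D21279 : act 2 n18961 = n21279 := rfl
theorem F40194 : act 0 n21279 = n21098 := d1_1 D21279 F39772 (iv F34748)
theorem F40195 : act 4 n21279 = n21106 := d10_2 (iv F34750) D21279 F39787
def n21280 : Q := act 5 n18961
theorem D21280 : act 5 n18961 = n21280 := rfl
theorem F40196 : act 0 n21280 = n21213 := d4_1 D21280 F40023 (iv F34748)
theorem F40197 : act 1 n21280 = n18964 := d8_1 D21280 (iv D18964) (iv F34749)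
theorem F40198 : act 3 n21280 = n18962 := d13_1 D21280 (iv D18962) D18961
def n21281 : Q := act 1 n18963
theorem D21281 : act 1 n18963 = n21281 := rfl
theorem F40199 : act 0 n21281 = n19142 := d0_1 D21281 (iv D19142) F28791 D18852 (iv F34753)
theorem F40200 : act 3 n21281 = n21254 := d6_2 (iv F34754) D21281 F40135
theorem F40201 : act 5 n21281 = n21253 := d8_2 F34755 D21281 F40133
def n21282 : Q := act 4 n18964
theorem D21282 : act 4 n18964 = n21282 := rfl
theorem F40202 : act 0 n21282 = n20258 := d3_1 D21282 F37723 (iv F34756)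
theorem F40203 : act 2 n21282 = n21255 := d10_1 D21282 (iv D21255) (iv F34757)
theorem F40204 : act 3 n21282 = n20157 := d12_1 D21282 (iv D20157) (iv F31715) F31716 (iv F34758)
theorem F40205 : act 5 n21282 = n20158 := d14_2 D18964 D21282 F37502 (iv F31719) F31718
def n21283 : Q := act 3 n18965
theorem D21283 : act 3 n18965 = n21283 := rfl
theorem F40206 : act 0 n21283 = n18966 := d2_1 D21283 (iv D18966) D18965
theorem F40207 : act 1 n21283 = n18969 := d6_1 D21283 (iv D18969) (iv F34759)
theorem F40208 : act 5 n21283 = n19137 := d13_2 F34762 D21283 (iv D19137)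
def n21284 : Q := act 2 n18966
theorem D21284 : act 2 n18966 = n21284 := rfl
def n21285 : Q := act 4 n18966
theorem D21285 : act 4 n18966 = n21285 := rfl
theorem F40209 : act 1 n21285 = n18968 := d7_1 D21285 (iv D18968) (iv F34763)
theorem F40210 : act 3 n21285 = n18989 := d12_1 D21285 (iv D18989) (iv D16140) (iv F28463) D18966
def n21286 : Q := act 5 n18968
theorem D21286 : act 5 n18968 = n21286 := rfl
theorem F40211 : act 0 n21286 = n18973 := d4_1 D21286 (iv D18973) (iv F34768)
theorem F40212 : act 3 n21286 = n18990 := d13_1 D21286 (iv D18990) (iv F34769)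
def n21287 : Q := act 4 n18969
theorem D21287 : act 4 n18969 = n21287 := rfl
theorem F40213 : act 0 n21287 = n18970 := d3_1 D21287 (iv D18970) (iv F34770)
theorem F40214 : act 2 n21287 = n19126 := d10_1 D21287 (iv D19126) (iv F34771)
theorem F40215 : act 3 n21287 = n19000 := d12_1 D21287 (iv D19000) (iv D16150) (iv F28469) D18969
def n21288 : Q := act 5 n18970
theorem D21288 : act 5 n18970 = n21288 := rfl
theorem F40216 : act 1 n21288 = n18973 := d8_1 D21288 (iv D18973) (iv F34773)
theorem F40217 : act 3 n21288 = n19003 := d13_1 D21288 (iv D19003) (iv F34774)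
theorem F40218 : act 4 n21288 = n19141 := d14_1 D21288 (iv D19141) (iv D16298) (iv F28472) D18970
def n21289 : Q := act 0 n18971
theorem D21289 : act 0 n18971 = n21289 := rfl
def n21290 : Q := act 4 n18971
theorem D21290 : act 4 n18971 = n21290 := rfl
theorem F40219 : act 1 n21290 = n18972 := d7_1 D21290 (iv D18972) D18971
def n21291 : Q := act 3 n18972
theorem D21291 : act 3 n18972 = n21291 := rfl
theorem F40220 : act 2 n21291 = n20552 := d15_2 (iv F34775) D21291 F38420 F32280 (iv F28578) (iv F34819) (iv F40212) (iv D21286) F34768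
theorem F40221 : act 5 n20551 = n21291 := d11_0 F40220 (iv D20552) D20551
def n21292 : Q := act 5 n18972
theorem D21292 : act 5 n18972 = n21292 := rfl
theorem F40222 : act 2 n21292 = n18973 := d11_1 D21292 (iv D18973) (iv F34775)
theorem F40223 : act 3 n21292 = n20551 := d13_1 D21292 F40221 (iv D21291)
def n21293 : Q := act 4 n18973
theorem D21293 : act 4 n18973 = n21293 := rfl
theorem F40224 : act 1 n21293 = n19141 := d7_1 D21293 (iv F40218) F40216
theorem F40225 : act 3 n21293 = n19192 := d12_1 D21293 F35228 (iv F34809) F34810 (iv F34776)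
theorem F40226 : act 5 n21293 = n18974 := d14_2 D18973 D21293 (iv D18974) (iv D16124) D16123
def n21294 : Q := act 1 n18975
theorem D21294 : act 1 n18975 = n21294 := rfl
theorem F40227 : act 2 n21294 = n18977 := d5_2 D18975 D21294 (iv D18977) (iv D16127) (iv F28477)
theorem F40228 : act 4 n21294 = n20506 := d7_2 (iv F34780) D21294 (iv D20506)
theorem F40229 : act 5 n18995 = n21294 := d11_0 F40227 F34786 D18995
def n21295 : Q := act 3 n18975
theorem D21295 : act 3 n18975 = n21295 := rfl
theorem F40230 : act 0 n21295 = n19332 := d2_1 D21295 (iv D19332) (iv F34779)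
def n21296 : Q := act 5 n18975
theorem D21296 : act 5 n18975 = n21296 := rfl
theorem F40231 : act 0 n21296 = n19330 := d4_1 D21296 F35560 (iv F34779)
theorem F40232 : act 1 n21296 = n18995 := d8_1 D21296 F40229 (iv D21294)
theorem F40233 : act 2 n21296 = n18976 := d11_1 D21296 (iv D18976) D18975
def n21297 : Q := act 4 n18976
theorem D21297 : act 4 n18976 = n21297 := rfl
theorem F40234 : act 0 n21297 = n19329 := d3_1 D21297 F35558 (iv F34781)
theorem F40235 : act 1 n21297 = n18978 := d7_1 D21297 (iv D18978) (iv F34782)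
theorem F40236 : act 3 n21297 = n19323 := d12_1 D21297 (iv D19323) F29304 (iv F28482) (iv F34783)
theorem F40237 : act 5 n21297 = n20509 := d14_2 D18976 D21297 (iv D20509) (iv D17898) (iv F28478)
def n21298 : Q := act 3 n18979
theorem D21298 : act 3 n18979 = n21298 := rfl
theorem F40238 : act 1 n21298 = n18980 := d6_1 D21298 (iv D18980) D18979
theorem F40239 : act 2 n21298 = n20520 := d15_2 (iv F34791) D21298 F38361 (iv F38381) (iv F39951) F39950 (iv F39958) (iv D21194) F34352
theorem F40240 : act 5 n20519 = n21298 := d11_0 F40239 (iv D20520) (iv F38360)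
theorem E37 : n20519 = n20518 := ((c8_4 F40240 F40238 (iv F34795) D20518)).symm
theorem F40241 : act 2 n20518 = n17907 := (sb E37 F38360)
theorem F40242 : act 4 n20518 = n17906 := (sb E37 (iv D20519))
theorem F40243 : act 5 n20518 = n21298 := (sb E37 F40240)
theorem E38 : n20516 = n20515 := (c5_2 F40241 (iv F38356) (iv D20515) F32223 D17906 D20518)
theorem F40244 : act 1 n20515 = n17907 := (sb E38 F38356)
theorem F40245 : act 3 n20515 = n17913 := (sb E38 F38357)
theorem F40246 : act 4 n20515 = n17904 := (sb E38 (iv D20516))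
def n21299 : Q := act 5 n18979
theorem D21299 : act 5 n18979 = n21299 := rfl
theorem F40247 : act 1 n21299 = n18981 := d8_1 D21299 (iv D18981) D18979
theorem F40248 : act 2 n21299 = n19355 := d11_1 D21299 F35606 (iv F34791)
theorem F40249 : act 3 n21299 = n20518 := d13_1 D21299 F40243 (iv D21298)
def n21300 : Q := act 4 n18980
theorem D21300 : act 4 n18980 = n21300 := rfl
theorem F40250 : act 0 n21300 = n18999 := d3_1 D21300 F34832 (iv F34793)
theorem F40251 : act 2 n21300 = n20521 := d10_1 D21300 (iv D20521) (iv F34794)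
theorem F40252 : act 3 n21300 = n18983 := d12_1 D21300 (iv D18983) (iv D16133) (iv F28495) D18980
def n21301 : Q := act 4 n18981
theorem D21301 : act 4 n18981 = n21301 := rfl
theorem F40253 : act 0 n21301 = n18998 := d3_1 D21301 F34831 (iv F34796)
theorem F40254 : act 2 n21301 = n18982 := d10_1 D21301 (iv D18982) (iv F34797)
theorem F40255 : act 5 n21301 = n18984 := d14_2 D18981 D21301 (iv D18984) (iv D16134) (iv F28495)
def n21302 : Q := act 2 n18987
theorem D21302 : act 2 n18987 = n21302 := rfl
theorem F40256 : act 0 n21302 = n18988 := d1_1 D21302 (iv D18988) (iv F34812)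
theorem F40257 : act 5 n21302 = n19063 := d11_2 (iv F34814) D21302 F34966
def n21303 : Q := act 4 n18987
theorem D21303 : act 4 n18987 = n21303 := rfl
theorem F40258 : act 0 n21303 = n18989 := d3_1 D21303 (iv D18989) (iv F34812)
theorem F40259 : act 1 n21303 = n19000 := d7_1 D21303 (iv D19000) (iv F34813)
def n21304 : Q := act 3 n18988
theorem D21304 : act 3 n18988 = n21304 := rfl
theorem F40260 : act 1 n21304 = n19033 := d6_1 D21304 (iv D19033) (iv F34815)
theorem F40261 : act 5 n21304 = n19064 := d13_2 (iv F34816) D21304 (iv D19064)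
def n21305 : Q := act 4 n18988
theorem D21305 : act 4 n18988 = n21305 := rfl
theorem F40262 : act 1 n21305 = n19034 := d7_1 D21305 (iv D19034) (iv F34815)
theorem F40263 : act 2 n21305 = n18989 := d10_1 D21305 (iv D18989) D18988
def n21306 : Q := act 5 n18989
theorem D21306 : act 5 n18989 = n21306 := rfl
theorem F40264 : act 1 n21306 = n18990 := d8_1 D21306 (iv D18990) (iv F34817)
theorem F40265 : act 4 n21306 = n19071 := d14_1 D21306 (iv D19071) (iv D16218) (iv F28516) D18989
def n21307 : Q := act 2 n18991
theorem D21307 : act 2 n18991 = n21307 := rfl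
theorem F40266 : act 0 n21307 = n18995 := d1_1 D21307 (iv D18995) (iv F34821)
def n21308 : Q := act 4 n18991
theorem D21308 : act 4 n18991 = n21308 := rfl
theorem F40267 : act 0 n21308 = n18996 := d3_1 D21308 (iv D18996) (iv F34821)
theorem F40268 : act 1 n21308 = n18993 := d7_1 D21308 (iv D18993) (iv F34822)
theorem F40269 : act 3 n21308 = n18996 := d12_1 D21308 (iv D18996) (iv D16146) (iv F28520) D18991
def n21309 : Q := act 4 n18992
theorem D21309 : act 4 n18992 = n21309 := rfl
theorem F40270 : act 0 n21309 = n18997 := d3_1 D21309 (iv D18997) (iv F34823)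
theorem F40271 : act 1 n21309 = n18994 := d7_1 D21309 (iv D18994) (iv F34824)
theorem F40272 : act 5 n21309 = n18997 := d14_2 D18992 D21309 (iv D18997) (iv D16147) (iv F28520)
def n21310 : Q := act 5 n18993
theorem D21310 : act 5 n18993 = n21310 := rfl
theorem F40273 : act 3 n21310 = n18998 := d13_1 D21310 (iv D18998) (iv F34825)
def n21311 : Q := act 3 n18994
theorem D21311 : act 3 n18994 = n21311 := rfl
theorem F40274 : act 5 n21311 = n18999 := d13_2 (iv F34827) D21311 (iv D18999)
def n21312 : Q := act 3 n18995
theorem D21312 : act 3 n18995 = n21312 := rfl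
def n21313 : Q := act 4 n18995
theorem D21313 : act 4 n18995 = n21313 := rfl
theorem F40275 : act 2 n21313 = n18996 := d10_1 D21313 (iv D18996) D18995
def n21314 : Q := act 5 n18996
theorem D21314 : act 5 n18996 = n21314 := rfl
theorem F40276 : act 1 n21314 = n18998 := d8_1 D21314 (iv D18998) (iv F34828)
theorem F40277 : act 4 n21314 = n20512 := d14_1 D21314 (iv D20512) (iv F34785) F34786 D18996
def n21315 : Q := act 3 n18997
theorem D21315 : act 3 n18997 = n21315 := rfl
theorem F40278 : act 1 n21315 = n18999 := d6_1 D21315 (iv D18999) (iv F34829)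
theorem F40279 : act 4 n21315 = n20511 := d12_2 D18997 D21315 (iv D20511) (iv F34785) F34784
def n21316 : Q := act 2 n18999
theorem D21316 : act 2 n18999 = n21316 := rfl
theorem F40280 : act 0 n21316 = n20521 := d1_1 D21316 (iv F40251) F40250
theorem F40281 : act 4 n21316 = n20498 := d10_2 (iv F34832) D21316 F38319
def n21317 : Q := act 5 n19000
theorem D21317 : act 5 n19000 = n21317 := rfl
theorem F40282 : act 0 n21317 = n19003 := d4_1 D21317 (iv D19003) (iv F34833)
theorem F40283 : act 2 n21317 = n20379 := d11_1 D21317 (iv F40080) F40078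
theorem F40284 : act 4 n21317 = n19248 := d14_1 D21317 (iv D19248) (iv F34600) F34601 D19000
def n21318 : Q := act 0 n19001
theorem D21318 : act 0 n19001 = n21318 := rfl
theorem F40285 : act 2 n21318 = n19004 := d1_2 (iv F34834) D21318 (iv D19004)
theorem F40286 : act 5 n21318 = n19036 := d4_2 (iv F34835) D21318 F34932
def n21319 : Q := act 4 n19001
theorem D21319 : act 4 n19001 = n21319 := rfl
theorem F40287 : act 1 n21319 = n19002 := d7_1 D21319 (iv D19002) D19001
theorem F40288 : act 2 n21319 = n19005 := d10_1 D21319 (iv D19005) (iv F34834)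
def n21320 : Q := act 3 n19002
theorem D21320 : act 3 n19002 = n21320 := rfl
theorem F40289 : act 0 n21320 = n20384 := d2_1 D21320 (iv F40079) F40077
theorem F40290 : act 4 n21320 = n19206 := d12_2 D19002 D21320 (iv D19206) (iv F34557) F34559
theorem F40291 : act 5 n21320 = n20374 := d15_8 (iv F38040) F38041 F35797 (iv F39725) F39724 F34774 (iv F34836) D21320 F38019
theorem F40292 : act 2 n20396 = n21320 := d11_3 F40291 F38020 (iv F38075)
def n21321 : Q := act 5 n19002
theorem D21321 : act 5 n19002 = n21321 := rfl
theorem F40293 : act 0 n21321 = n20379 := d4_1 D21321 (iv F40080) F40077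
theorem F40294 : act 2 n21321 = n19003 := d11_1 D21321 (iv D19003) (iv F34836)
theorem F40295 : act 3 n21321 = n20374 := d13_1 D21321 (iv F40291) (iv D21320)
theorem F40296 : act 4 n21321 = n19283 := d14_1 D21321 (iv F40093) (iv D21235) F34605 D19002
def n21322 : Q := act 5 n19005
theorem D21322 : act 5 n19005 = n21322 := rfl
theorem F40297 : act 1 n21322 = n19006 := d8_1 D21322 (iv D19006) (iv F34841)
theorem F40298 : act 3 n21322 = n20547 := d13_1 D21322 (iv D20547) (iv F34842)
theorem F40299 : act 4 n21322 = n19040 := d14_1 D21322 (iv D19040) (iv D16189) (iv F28529) D19005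
def n21323 : Q := act 0 n19007
theorem D21323 : act 0 n19007 = n21323 := rfl
theorem F40300 : act 1 n21323 = n19008 := d0_2 D19007 D21323 F34850 (iv D17885) (iv F28533)
theorem F40301 : act 2 n21323 = n19015 := d1_2 (iv F34847) D21323 (iv D19015)
theorem F40302 : act 4 n21323 = n20619 := d3_2 (iv F34848) D21323 (iv D20619)
theorem F40303 : act 5 n21323 = n19053 := d4_2 F34849 D21323 F34952
theorem F40304 : act 3 n19007 = n21323 := d13_3 F40303 F34953 F34849
def n21324 : Q := act 0 n19011
theorem D21324 : act 0 n19011 = n21324 := rfl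
theorem F40305 : act 1 n21324 = n19020 := d0_2 D19011 D21324 (iv D19020) (iv D16165) (iv F28538)
theorem F40306 : act 2 n21324 = n20619 := d1_2 (iv F34860) D21324 (iv D20619)
theorem F40307 : act 4 n21324 = n19015 := d3_2 (iv F34861) D21324 (iv D19015)
def n21325 : Q := act 3 n19011
theorem D21325 : act 3 n19011 = n21325 := rfl
theorem F40308 : act 1 n21325 = n19012 := d6_1 D21325 (iv D19012) D19011
theorem F40309 : act 4 n21325 = n19058 := d12_2 (iv F34861) D21325 (iv D19058) (iv D16208) (iv F28543)
def n21326 : Q := act 2 n19012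
theorem D21326 : act 2 n19012 = n21326 := rfl
theorem F40310 : act 0 n21326 = n19023 := d1_1 D21326 (iv D19023) (iv F34862)
theorem F40311 : act 3 n21326 = n19018 := d9_2 D19012 D21326 F34879 F28556 F22264 (iv F22268) (iv F28559) (iv F34895) F34894 (iv D16522) (iv D13444) (iv D10551) (iv F17184) D13099 D16158
theorem F40312 : act 4 n21326 = n19059 := d10_2 (iv F34863) D21326 (iv D19059)
theorem F40313 : act 5 n19017 = n21326 := d13_0 F40311 (iv D19018) D19017
def n21327 : Q := act 5 n19012
theorem D21327 : act 5 n19012 = n21327 := rfl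
theorem F40314 : act 0 n21327 = n19025 := d4_1 D21327 (iv D19025) (iv F34862)
theorem F40315 : act 2 n21327 = n19017 := d11_1 D21327 F40313 (iv D21326)
theorem F40316 : act 3 n21327 = n19013 := d13_1 D21327 (iv D19013) D19012
def n21328 : Q := act 0 n19016
theorem D21328 : act 0 n19016 = n21328 := rfl
theorem F40317 : act 1 n21328 = n19336 := d0_2 D19016 D21328 (iv D19336) (iv D16521) (iv F28552)
theorem F40318 : act 2 n21328 = n19326 := d1_2 (iv F34875) D21328 F35549
theorem F40319 : act 4 n21328 = n19325 := d3_2 (iv F34876) D21328 F35547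
def n21329 : Q := act 3 n19016
theorem D21329 : act 3 n19016 = n21329 := rfl
theorem F40320 : act 1 n21329 = n19017 := d6_1 D21329 (iv D19017) D19016
def n21330 : Q := act 5 n19016
theorem D21330 : act 5 n19016 = n21330 := rfl
theorem F40321 : act 1 n21330 = n19018 := d8_1 D21330 (iv D19018) D19016
theorem F40322 : act 2 n21330 = n20616 := d11_1 D21330 (iv D20616) (iv F34875)
def n21331 : Q := act 4 n19017
theorem D21331 : act 4 n19017 = n21331 := rfl
theorem F40323 : act 0 n21331 = n19339 := d3_1 D21331 (iv D19339) (iv F34877)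
theorem F40324 : act 3 n21331 = n19191 := d12_1 D21331 (iv D19191) F28964 (iv F28553) D19017
def n21332 : Q := act 4 n19018
theorem D21332 : act 4 n19018 = n21332 := rfl
theorem F40325 : act 0 n21332 = n19340 := d3_1 D21332 (iv D19340) (iv F34878)
theorem F40326 : act 2 n21332 = n19019 := d10_1 D21332 (iv D19019) (iv F34879)
theorem F40327 : act 5 n21332 = n19335 := d14_2 D19018 D21332 (iv D19335) (iv D16519) (iv F28553)
def n21333 : Q := act 3 n19020
theorem D21333 : act 3 n19020 = n21333 := rfl
theorem F40328 : act 0 n21333 = n19021 := d2_1 D21333 (iv D19021) D19020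
theorem F40329 : act 4 n21333 = n21249 := d12_2 (iv F34885) D21333 F40125 F34903 (iv D19027)
def n21334 : Q := act 5 n19020
theorem D21334 : act 5 n19020 = n21334 := rfl
theorem F40330 : act 0 n21334 = n19022 := d4_1 D21334 (iv D19022) D19020
theorem F40331 : act 2 n21334 = n20539 := d11_1 D21334 F38392 (iv F34884)
theorem F40332 : act 4 n21334 = n20862 := d14_1 D21334 F39191 F35504 (iv D19028) (iv F34885)
def n21335 : Q := act 2 n19021
theorem D21335 : act 2 n19021 = n21335 := rfl
def n21336 : Q := act 4 n19021
theorem D21336 : act 4 n19021 = n21336 := rfl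
theorem F40333 : act 0 n21336 = n21249 := d3_1 D21336 (iv F40329) F40328
theorem F40334 : act 1 n21336 = n19024 := d7_1 D21336 (iv D19024) (iv F34886)
theorem F40335 : act 3 n21336 = n19030 := d12_1 D21336 (iv D19030) (iv D16170) (iv F28558) D19021
theorem F40336 : act 2 n21245 = n21336 := d9_15 F40335 F34916 (iv D18120) (iv F27854) D18699 D21097 (iv F40120) (iv D21247) (iv D18928) (iv D16078) (iv D13036) (iv F22123) D16077 D18926 D21245
theorem F40337 : act 5 n21243 = n21336 := d13_0 F40335 F34917 D21243
theorem F40338 : act 4 n21335 = n21245 := d10_0 F40336 (iv D21336) D21335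
def n21337 : Q := act 5 n19021
theorem D21337 : act 5 n19021 = n21337 := rfl
theorem F40339 : act 1 n21337 = n19025 := d8_1 D21337 (iv D19025) (iv F34886)
theorem F40340 : act 3 n21337 = n19022 := d13_1 D21337 (iv D19022) D19021
def n21338 : Q := act 1 n19023
theorem D21338 : act 1 n19023 = n21338 := rfl
theorem F40341 : act 3 n21338 = n19338 := d6_2 (iv F34890) D21338 F35574
theorem F40342 : act 5 n21338 = n19337 := d8_2 F34891 D21338 F35573
def n21339 : Q := act 4 n19023
theorem D21339 : act 4 n19023 = n21339 := rfl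
theorem F40343 : act 0 n21339 = n19059 := d3_1 D21339 (iv F40312) F40310
theorem F40344 : act 2 n21339 = n19024 := d10_1 D21339 (iv D19024) D19023
def n21340 : Q := act 5 n19024
theorem D21340 : act 5 n19024 = n21340 := rfl
theorem F40345 : act 0 n21340 = n19052 := d4_1 D21340 F34951 (iv F34892)
theorem F40346 : act 1 n21340 = n21243 := d8_1 D21340 F40337 F40334
theorem F40347 : act 3 n21340 = n19031 := d13_1 D21340 (iv D19031) (iv F34893)
def n21341 : Q := act 4 n19025
theorem D21341 : act 4 n19025 = n21341 := rfl
theorem F40348 : act 2 n21341 = n19339 := d10_1 D21341 (iv D19339) (iv F34894)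
def n21342 : Q := act 1 n19032
theorem D21342 : act 1 n19032 = n21342 := rfl
theorem F40349 : act 3 n21342 = n19076 := d6_2 (iv F34923) D21342 (iv D19076)
theorem F40350 : act 5 n21342 = n19060 := d8_2 (iv F34924) D21342 (iv D19060)
def n21343 : Q := act 4 n19033
theorem D21343 : act 4 n19033 = n21343 := rfl
theorem F40351 : act 0 n21343 = n19077 := d3_1 D21343 (iv D19077) (iv F34925)
theorem F40352 : act 2 n21343 = n19075 := d10_1 D21343 (iv D19075) (iv F34926)
def n21344 : Q := act 3 n19034
theorem D21344 : act 3 n19034 = n21344 := rfl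
def n21345 : Q := act 5 n19034
theorem D21345 : act 5 n19034 = n21345 := rfl
theorem F40353 : act 2 n21345 = n19035 := d11_1 D21345 (iv D19035) (iv F34928)
theorem F40354 : act 4 n21345 = n19068 := d14_1 D21345 (iv D19068) (iv D16215) (iv F28575) D19034
def n21346 : Q := act 1 n19036
theorem D21346 : act 1 n19036 = n21346 := rfl
theorem F40355 : act 0 n21346 = n20470 := d0_1 D21346 F38244 (iv F34602) F34603 (iv F34932)
theorem F40356 : act 2 n21346 = n19060 := d5_2 D19036 D21346 (iv D19060) (iv D16211) (iv F28616)
theorem F40357 : act 3 n20469 = n21346 := d15_1 (iv F38243) F40356 F34962 (iv D18727) (iv D15851) (iv F25622) (iv F28308) F28309 D17865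
def n21347 : Q := act 3 n19036
theorem D21347 : act 3 n19036 = n21347 := rfl
theorem F40358 : act 0 n21347 = n19038 := d2_1 D21347 (iv D19038) (iv F34932)
theorem F40359 : act 1 n21347 = n20469 := d6_1 D21347 F40357 (iv D21346)
theorem F40360 : act 2 n21347 = n20465 := d15_2 D19036 D21347 (iv D20465) (iv D17854) (iv D14828) (iv F22256) (iv F28528) F28529 (iv F28615)
def n21348 : Q := act 4 n19036
theorem D21348 : act 4 n19036 = n21348 := rfl
theorem F40361 : act 0 n21348 = n19039 := d3_1 D21348 (iv D19039) (iv F34932)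
theorem F40362 : act 2 n21348 = n19037 := d10_1 D21348 (iv D19037) D19036
def n21349 : Q := act 5 n19037
theorem D21349 : act 5 n19037 = n21349 := rfl
theorem F40363 : act 0 n21349 = n19040 := d4_1 D21349 (iv D19040) (iv F34933)
theorem F40364 : act 1 n21349 = n19062 := d8_1 D21349 (iv D19062) (iv F34934)
def n21350 : Q := act 2 n19038
theorem D21350 : act 2 n19038 = n21350 := rfl
theorem F40365 : act 0 n21350 = n20465 := d1_1 D21350 (iv F40360) F40358
theorem F40366 : act 1 n21350 = n20463 := d5_1 D21350 (iv D20463) F32134 D17859 (iv F34935)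
theorem F40367 : act 3 n21350 = n20463 := d15_3 D16188 D19038 D21350 (iv D20463) (iv D17853) (iv F28549) (iv F34839) F34840 F28615
def n21351 : Q := act 4 n19038
theorem D21351 : act 4 n19038 = n21351 := rfl
theorem F40368 : act 1 n21351 = n20468 := d7_1 D21351 (iv D20468) (iv F34935)
def n21352 : Q := act 3 n19039
theorem D21352 : act 3 n19039 = n21352 := rfl
theorem F40369 : act 1 n21352 = n19284 := d6_1 D21352 F40092 F40090
theorem F40370 : act 5 n19282 = n21352 := d8_0 F40369 (iv D19284) D19282
def n21353 : Q := act 5 n19039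
theorem D21353 : act 5 n19039 = n21353 := rfl
theorem F40371 : act 1 n21353 = n19283 := d8_1 D21353 (iv F40093) F40090
theorem F40372 : act 2 n21353 = n19040 := d11_1 D21353 (iv D19040) (iv F34936)
theorem F40373 : act 3 n21353 = n19282 := d13_1 D21353 F40370 (iv D21352)
def n21354 : Q := act 5 n19042
theorem D21354 : act 5 n19042 = n21354 := rfl
def n21355 : Q := act 3 n19043
theorem D21355 : act 3 n19043 = n21355 := rfl
def n21356 : Q := act 1 n19044
theorem D21356 : act 1 n19044 = n21356 := rfl
theorem F40374 : act 2 n21356 = n19048 := d5_2 D19044 D21356 (iv D19048) (iv D16200) (iv F28625)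
def n21357 : Q := act 3 n19044
theorem D21357 : act 3 n19044 = n21357 := rfl
def n21358 : Q := act 4 n19044
theorem D21358 : act 4 n19044 = n21358 := rfl
theorem F40375 : act 2 n21358 = n19045 := d10_1 D21358 (iv D19045) D19044
def n21359 : Q := act 5 n19044
theorem D21359 : act 5 n19044 = n21359 := rfl
theorem F40376 : act 0 n21359 = n21250 := d4_1 D21359 F40127 (iv F35496)
theorem F40377 : act 2 n21359 = n19046 := d11_1 D21359 (iv D19046) D19044
def n21360 : Q := act 5 n19045
theorem D21360 : act 5 n19045 = n21360 := rfl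
theorem F40378 : act 1 n21360 = n19050 := d8_1 D21360 (iv D19050) (iv F34940)
theorem F40379 : act 3 n21360 = n19057 := d13_1 D21360 (iv D19057) (iv F34941)
def n21361 : Q := act 4 n19046
theorem D21361 : act 4 n19046 = n21361 := rfl
theorem F40380 : act 0 n21361 = n21251 := d3_1 D21361 (iv D21251) (iv F34942)
theorem F40381 : act 1 n21361 = n19051 := d7_1 D21361 (iv D19051) (iv F34943)
def n21362 : Q := act 3 n19047
theorem D21362 : act 3 n19047 = n21362 := rfl
theorem F40382 : act 0 n21362 = n21246 := d2_1 D21362 (iv D21246) (iv F34945)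
theorem F40383 : act 1 n21362 = n19052 := d6_1 D21362 (iv D19052) (iv F34946)
theorem F40384 : act 5 n21362 = n19058 := d13_2 (iv F34948) D21362 (iv D19058)
def n21363 : Q := act 3 n19049
theorem D21363 : act 3 n19049 = n21363 := rfl
theorem F40385 : act 2 n21363 = n20522 := d15_2 (iv F34949) D21363 (iv D20522) F32228 (iv F28561) (iv F34898) (iv F35518) (iv D19313) (iv F29285)
theorem F40386 : act 5 n21363 = n20536 := d15_8 F39907 (iv D20505) F32215 (iv F28547) F28546 (iv F28628) (iv F34949) D21363 F39908
def n21364 : Q := act 5 n19049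
theorem D21364 : act 5 n19049 = n21364 := rfl
theorem F40387 : act 2 n21364 = n19050 := d11_1 D21364 (iv D19050) (iv F34949)
theorem F40388 : act 3 n21364 = n20536 := d13_1 D21364 (iv F40386) (iv D21363)
def n21365 : Q := act 4 n19050
theorem D21365 : act 4 n19050 = n21365 := rfl
theorem F40389 : act 5 n21365 = n19051 := d14_2 D19050 D21365 (iv D19051) (iv D16202) D16201
def n21366 : Q := act 3 n19051
theorem D21366 : act 3 n19051 = n21366 := rfl
theorem F40390 : act 4 n21366 = n19052 := d12_2 D19051 D21366 (iv D19052) (iv D16203) (iv F28629)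
def n21367 : Q := act 2 n19052
theorem D21367 : act 2 n19052 = n21367 := rfl
theorem F40391 : act 5 n21367 = n19059 := d11_2 (iv F34951) D21367 (iv D19059)
theorem F40392 : act 3 n21367 = n19331 := d15_1 D21367 F35561 (iv F34327) F34326 F28050 (iv F28570) (iv F34893) D21340 F40345
theorem F40393 : act 1 n19332 = n21367 := d6_3 F40392 (iv D19331) D19332
def n21368 : Q := act 3 n19055
theorem D21368 : act 3 n19055 = n21368 := rfl
theorem F40394 : act 0 n21368 = n19058 := d2_1 D21368 (iv D19058) (iv F34955)
theorem F40395 : act 1 n21368 = n21249 := d6_1 D21368 F40125 (iv F34956)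
theorem F40396 : act 5 n21368 = n21246 := d13_2 (iv F34958) D21368 (iv D21246)
theorem F40397 : act 2 n21368 = n21357 := d15_2 (iv F34957) D21368 (iv D21357) (iv D19044) (iv D16198) (iv F28099) D18840 F34388 F34362
def n21369 : Q := act 2 n19058
theorem D21369 : act 2 n19058 = n21369 := rfl
theorem F40398 : act 0 n21369 = n21357 := d1_1 D21369 (iv F40397) F40394
theorem F40399 : act 3 n21369 = n19302 := d15_1 D21369 F35495 F29273 (iv F28664) F28665 (iv F34673) D21246 (iv F40396) F40394
theorem F40400 : act 1 n19303 = n21369 := d6_3 F40399 (iv D19302) D19303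
def n21370 : Q := act 1 n19059
theorem D21370 : act 1 n19059 = n21370 := rfl
theorem F40401 : act 2 n21370 = n19303 := d5_2 D19059 D21370 F40400 (iv D21369) F34961
theorem F40402 : act 5 n21370 = n19332 := d8_2 F40391 D21370 F40393
theorem F40403 : act 3 n19330 = n21370 := d13_3 F40402 (iv D19332) (iv F35560)
def n21371 : Q := act 3 n19059
theorem D21371 : act 3 n19059 = n21371 := rfl
theorem F40404 : act 1 n21371 = n19330 := d6_1 D21371 F40403 (iv D21370)
theorem F40405 : act 5 n21371 = n19331 := d13_2 F40391 D21371 (iv F40392)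
theorem F40406 : act 2 n21371 = n19334 := d15_2 D19059 D21371 F35567 (iv F34331) F34332 (iv F34920) (iv F40347) (iv D21340) F34892
def n21372 : Q := act 0 n19060
theorem D21372 : act 0 n19060 = n21372 := rfl
theorem F40407 : act 1 n21372 = n19063 := d0_2 D19060 D21372 (iv D19063) (iv D16213) (iv F28636)
theorem F40408 : act 2 n21372 = n20470 := d1_2 F40356 D21372 (iv F40355)
theorem F40409 : act 3 n21372 = n21127 := d2_2 (iv F34962) D21372 F39824
def n21373 : Q := act 4 n19060
theorem D21373 : act 4 n19060 = n21373 := rfl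
theorem F40410 : act 1 n21373 = n19061 := d7_1 D21373 (iv D19061) D19060
def n21374 : Q := act 3 n19061
theorem D21374 : act 3 n19061 = n21374 := rfl
theorem F40411 : act 0 n21374 = n19067 := d2_1 D21374 (iv D19067) (iv F34963)
theorem F40412 : act 2 n21374 = n20627 := d15_2 (iv F34964) D21374 (iv D20627) F32502 D18045 (iv F34411) F34412 (iv D16216) (iv F28637)
def n21375 : Q := act 5 n19061
theorem D21375 : act 5 n19061 = n21375 := rfl
theorem F40413 : act 0 n21375 = n19068 := d4_1 D21375 (iv D19068) (iv F34963)
theorem F40414 : act 2 n21375 = n19062 := d11_1 D21375 (iv D19062) (iv F34964)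
def n21376 : Q := act 3 n19063
theorem D21376 : act 3 n19063 = n21376 := rfl
theorem F40415 : act 0 n21376 = n19064 := d2_1 D21376 (iv D19064) D19063
theorem F40416 : act 1 n21376 = n21127 := d6_1 D21376 (iv F40409) F40407
theorem F40417 : act 2 n21376 = n21142 := d15_2 (iv F34966) D21376 F39839 F34156 (iv F28356) F28355 D16140 F28516 D16217
def n21377 : Q := act 4 n19063
theorem D21377 : act 4 n19063 = n21377 := rfl
theorem F40418 : act 0 n21377 = n19065 := d3_1 D21377 (iv D19065) D19063
theorem F40419 : act 2 n21377 = n19069 := d10_1 D21377 (iv D19069) (iv F34966)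
def n21378 : Q := act 2 n19064
theorem D21378 : act 2 n19064 = n21378 := rfl
theorem F40420 : act 0 n21378 = n21142 := d1_1 D21378 (iv F40417) F40415
theorem F40421 : act 1 n21378 = n21145 := d5_1 D21378 F39843 (iv F34656) F34658 (iv F34967)
theorem F40422 : act 3 n21378 = n21145 := d15_3 (iv F28638) D19064 D21378 F39843 (iv F34652) F34651 D18987 F34814 (iv D16217)
def n21379 : Q := act 4 n19064
theorem D21379 : act 4 n19064 = n21379 := rfl
theorem F40423 : act 1 n21379 = n19066 := d7_1 D21379 (iv D19066) (iv F34967)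
def n21380 : Q := act 3 n19065
theorem D21380 : act 3 n19065 = n21380 := rfl
theorem F40424 : act 1 n21380 = n19067 := d6_1 D21380 (iv D19067) (iv F34968)
def n21381 : Q := act 5 n19065
theorem D21381 : act 5 n19065 = n21381 := rfl
theorem F40425 : act 1 n21381 = n19068 := d8_1 D21381 (iv D19068) (iv F34968)
theorem F40426 : act 2 n21381 = n19071 := d11_1 D21381 (iv D19071) (iv F34969)
def n21382 : Q := act 3 n19066
theorem D21382 : act 3 n19066 = n21382 := rfl
theorem F40427 : act 4 n21382 = n19067 := d12_2 D19066 D21382 (iv D19067) (iv D16215) D16214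
def n21383 : Q := act 5 n19066
theorem D21383 : act 5 n19066 = n21383 := rfl
def n21384 : Q := act 2 n19067
theorem D21384 : act 2 n19067 = n21384 := rfl
theorem F40428 : act 0 n21384 = n20627 := d1_1 D21384 (iv F40412) F40411
theorem F40429 : act 3 n21384 = n20626 := d15_3 (iv F28639) D19067 D21384 F38603 (iv F34505) (iv F39984) F39985 (iv D19062) F28637
theorem F40430 : act 1 n20732 = n21384 := d6_3 F40429 F38602 D20732
def n21385 : Q := act 5 n19067
theorem D21385 : act 5 n19067 = n21385 := rfl
theorem F40431 : act 3 n21385 = n19068 := d13_1 D21385 (iv D19068) D19067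
def n21386 : Q := act 5 n19069
theorem D21386 : act 5 n19069 = n21386 := rfl
theorem F40432 : act 0 n21386 = n19071 := d4_1 D21386 (iv D19071) (iv F34971)
theorem F40433 : act 1 n21386 = n19248 := d8_1 D21386 (iv D19248) (iv F34972)
theorem F40434 : act 3 n21386 = n19246 := d13_1 D21386 (iv D19246) (iv F34973)
def n21387 : Q := act 2 n19070
theorem D21387 : act 2 n19070 = n21387 := rfl
theorem F40435 : act 0 n21387 = n19242 := d1_1 D21387 F35358 (iv F34974)
theorem F40436 : act 4 n21387 = n19240 := d10_2 (iv F34976) D21387 F35355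
theorem F40437 : act 1 n21130 = n21387 := d0_0 F40435 F35357 F29153 D18730 D21130
def n21388 : Q := act 5 n19070
theorem D21388 : act 5 n19070 = n21388 := rfl
theorem F40438 : act 0 n21388 = n19246 := d4_1 D21388 (iv D19246) (iv F34974)
theorem F40439 : act 1 n21388 = n19073 := d8_1 D21388 (iv D19073) (iv F34975)
theorem F40440 : act 3 n21388 = n19071 := d13_1 D21388 (iv D19071) D19070
def n21389 : Q := act 1 n19072
theorem D21389 : act 1 n19072 = n21389 := rfl
theorem F40441 : act 0 n21389 = n20605 := d0_1 D21389 (iv D20605) (iv F35322) F35323 (iv F34978)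
theorem F40442 : act 2 n21389 = n21130 := d5_2 D19072 D21389 F40437 (iv D21387) F34975
theorem F40443 : act 4 n21389 = n19345 := d7_2 (iv F34979) D21389 F35583
def n21390 : Q := act 3 n19072
theorem D21390 : act 3 n19072 = n21390 := rfl
theorem F40444 : act 0 n21390 = n19361 := d2_1 D21390 (iv D19361) (iv F34978)
theorem F40445 : act 2 n21390 = n20632 := d9_1 D21390 (iv F39938) F39937 F34396 (iv F34808) F34809 (iv F35620) F35621 F32530 (iv F34308) F28125 F21932 (iv F22312) D16219 D19072
theorem F40446 : act 4 n21390 = n19348 := d12_2 (iv F34979) D21390 (iv D19348) (iv D16530) (iv F29345)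
theorem F40447 : act 5 n21390 = n20629 := d15_8 F32530 (iv F34308) F28125 F21932 (iv F22312) D16219 D19072 D21390 (iv D20629)
def n21391 : Q := act 5 n19072
theorem D21391 : act 5 n19072 = n21391 := rfl
theorem F40448 : act 0 n21391 = n19362 := d4_1 D21391 (iv D19362) (iv F34978)
theorem F40449 : act 2 n21391 = n19073 := d11_1 D21391 (iv D19073) D19072
theorem F40450 : act 3 n21391 = n20629 := d13_1 D21391 (iv F40447) (iv D21390)
theorem F40451 : act 4 n21391 = n19347 := d14_1 D21391 (iv D19347) (iv D16528) D16529 (iv F34979)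
def n21392 : Q := act 4 n19073
theorem D21392 : act 4 n19073 = n21392 := rfl
theorem F40452 : act 0 n21392 = n19192 := d3_1 D21392 F35228 (iv F34980)
theorem F40453 : act 2 n21392 = n19347 := d10_1 D21392 (iv F40451) F40449
theorem F40454 : act 5 n21392 = n19189 := d14_2 D19073 D21392 (iv D19189) F28960 (iv F28643)
def n21393 : Q := act 2 n19074
theorem D21393 : act 2 n19074 = n21393 := rfl
theorem F40455 : act 0 n21393 = n19310 := d1_1 D21393 (iv D19310) (iv F34982)
theorem F40456 : act 5 n21393 = n21145 := d11_2 (iv F34984) D21393 F39843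
def n21394 : Q := act 4 n19074
theorem D21394 : act 4 n19074 = n21394 := rfl
theorem F40457 : act 0 n21394 = n19311 := d3_1 D21394 (iv D19311) (iv F34982)
theorem F40458 : act 1 n21394 = n19075 := d7_1 D21394 (iv D19075) (iv F34983)
def n21395 : Q := act 5 n19075
theorem D21395 : act 5 n19075 = n21395 := rfl
theorem F40459 : act 0 n21395 = n19078 := d4_1 D21395 (iv D19078) (iv F34985)
def n21396 : Q := act 0 n19076
theorem D21396 : act 0 n19076 = n21396 := rfl
theorem F40460 : act 2 n21396 = n19317 := d1_2 (iv F34986) D21396 (iv D19317)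
theorem F40461 : act 5 n21396 = n21127 := d4_2 (iv F34987) D21396 F39824
def n21397 : Q := act 4 n19076
theorem D21397 : act 4 n19076 = n21397 := rfl
theorem F40462 : act 1 n21397 = n19077 := d7_1 D21397 (iv D19077) D19076
theorem F40463 : act 2 n21397 = n19318 := d10_1 D21397 (iv D19318) (iv F34986)
def n21398 : Q := act 3 n19077
theorem D21398 : act 3 n19077 = n21398 := rfl
def n21399 : Q := act 5 n19077
theorem D21399 : act 5 n19077 = n21399 := rfl
theorem F40464 : act 2 n21399 = n19078 := d11_1 D21399 (iv D19078) (iv F34988)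
def n21400 : Q := act 4 n19080
theorem D21400 : act 4 n19080 = n21400 := rfl
theorem F40465 : act 0 n21400 = n19086 := d3_1 D21400 (iv D19086) (iv F34990)
theorem F40466 : act 1 n21400 = n20741 := d7_1 D21400 F38907 (iv F34991)
theorem F40467 : act 2 n21400 = n20942 := d10_1 D21400 (iv D20942) (iv F34992)
theorem F40468 : act 3 n21400 = n19083 := d12_1 D21400 (iv D19083) (iv D16240) (iv F28688) D19080
def n21401 : Q := act 5 n19083
theorem D21401 : act 5 n19083 = n21401 := rfl
theorem F40469 : act 0 n21401 = n19094 := d4_1 D21401 (iv D19094) (iv F34998)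
theorem F40470 : act 1 n21401 = n20723 := d8_1 D21401 (iv F39207) F39204
theorem F40471 : act 2 n21401 = n19109 := d11_1 D21401 F35052 (iv F34999)
theorem F40472 : act 4 n21401 = n19108 := d14_1 D21401 (iv D19108) (iv D16267) F28691 D19083
def n21402 : Q := act 4 n19085
theorem D21402 : act 4 n19085 = n21402 := rfl
theorem F40473 : act 0 n21402 = n20942 := d3_1 D21402 (iv D20942) (iv F35005)
theorem F40474 : act 1 n21402 = n20945 := d7_1 D21402 (iv D20945) (iv F35006)
theorem F40475 : act 2 n21402 = n19086 := d10_1 D21402 (iv D19086) D19085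
def n21403 : Q := act 2 n19087
theorem D21403 : act 2 n19087 = n21403 := rfl
theorem F40476 : act 0 n21403 = n19089 := d1_1 D21403 (iv D19089) (iv F35010)
theorem F40477 : act 1 n21403 = n20182 := d5_1 D21403 F37535 F37450 D20868 (iv F39212)
theorem F40478 : act 3 n21403 = n19113 := d15_1 D21403 (iv D19113) (iv D16272) F22392 (iv F22367) (iv F28708) (iv F35015) (iv D19091) (iv F35010)
theorem F40479 : act 5 n20179 = n21403 := d13_0 F40478 F35062 D20179
def n21404 : Q := act 4 n19087
theorem D21404 : act 4 n19087 = n21404 := rfl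
theorem F40480 : act 0 n21404 = n19090 := d3_1 D21404 (iv D19090) (iv F35010)
theorem F40481 : act 1 n21404 = n20745 := d7_1 D21404 (iv F39210) (iv F39212)
theorem F40482 : act 3 n21404 = n20744 := d12_1 D21404 F38920 (iv F35002) F35003 D19087
theorem F40483 : act 5 n20925 = n21404 := d13_0 F40482 F38921 (iv F39308)
def n21405 : Q := act 5 n19087
theorem D21405 : act 5 n19087 = n21405 := rfl
theorem F40484 : act 0 n21405 = n19091 := d4_1 D21405 (iv D19091) (iv F35010)
theorem F40485 : act 1 n21405 = n19105 := d8_1 D21405 (iv F39211) (iv F39212)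
theorem F40486 : act 2 n21405 = n20179 := d11_1 D21405 F40479 (iv D21403)
theorem F40487 : act 3 n21405 = n19088 := d13_1 D21405 (iv D19088) D19087
def n21406 : Q := act 1 n19089
theorem D21406 : act 1 n19089 = n21406 := rfl
theorem F40488 : act 0 n21406 = n19254 := d0_1 D21406 (iv F37452) (iv F37534) (iv F40477) F40476
theorem F40489 : act 2 n21406 = n19092 := d5_2 D19089 D21406 (iv D19092) (iv D16250) (iv F28706)
theorem F40490 : act 5 n19099 = n21406 := d11_0 F40489 F35018 D19099
def n21407 : Q := act 3 n19089
theorem D21407 : act 3 n19089 = n21407 := rfl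
theorem F40491 : act 0 n21407 = n19113 := d2_1 D21407 (iv F40478) F40476
theorem F40492 : act 2 n21407 = n19112 := d9_1 D21407 (iv D19112) F28751 (iv F28725) (iv F35012) (iv F40487) F40486 (iv D20179) F31255 F28728 (iv D16257) (iv D13175) (iv F22355) D16248 D19089
theorem F40493 : act 5 n21407 = n20178 := d15_8 F31255 F28728 (iv D16257) (iv D13175) (iv F22355) D16248 D19089 D21407 (iv D20178)
def n21408 : Q := act 4 n19089
theorem D21408 : act 4 n19089 = n21408 := rfl
theorem F40494 : act 2 n21408 = n19090 := d10_1 D21408 (iv D19090) D19089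
def n21409 : Q := act 5 n19089
theorem D21409 : act 5 n19089 = n21409 := rfl
theorem F40495 : act 0 n21409 = n20179 := d4_1 D21409 F40479 F40476
theorem F40496 : act 1 n21409 = n19099 := d8_1 D21409 F40490 (iv D21406)
theorem F40497 : act 2 n21409 = n19091 := d11_1 D21409 (iv D19091) D19089
theorem F40498 : act 3 n21409 = n20178 := d13_1 D21409 (iv F40493) (iv D21407)
def n21410 : Q := act 4 n19092
theorem D21410 : act 4 n19092 = n21410 := rfl
theorem F40499 : act 0 n21410 = n19255 := d3_1 D21410 (iv D19255) (iv F35016)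
theorem F40500 : act 1 n21410 = n19093 := d7_1 D21410 (iv D19093) D19092
def n21411 : Q := act 3 n19093
theorem D21411 : act 3 n19093 = n21411 := rfl
theorem F40501 : act 0 n21411 = n19110 := d2_1 D21411 (iv D19110) (iv F35019)
theorem F40502 : act 4 n21411 = n19103 := d12_2 D19093 D21411 (iv D19103) (iv D16264) (iv F28710)
theorem F40503 : act 2 n19243 = n21411 := d10_3 F40502 F35044 D19243
def n21412 : Q := act 5 n19093
theorem D21412 : act 5 n19093 = n21412 := rfl
theorem F40504 : act 0 n21412 = n19109 := d4_1 D21412 F35052 (iv F35019)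
theorem F40505 : act 2 n21412 = n19094 := d11_1 D21412 (iv D19094) (iv F35020)
theorem F40506 : act 4 n21412 = n19102 := d14_1 D21412 (iv D19102) (iv D16263) F28711 D19093
def n21413 : Q := act 4 n19096
theorem D21413 : act 4 n19096 = n21413 := rfl
theorem F40507 : act 0 n21413 = n19098 := d3_1 D21413 (iv D19098) (iv F35023)
theorem F40508 : act 1 n21413 = n20168 := d7_1 D21413 (iv D20168) (iv F35024)
theorem F40509 : act 2 n21413 = n19097 := d10_1 D21413 (iv D19097) D19096
theorem F40510 : act 5 n21413 = n19118 := d14_2 (iv F35025) D21413 (iv D19118) (iv D16276) (iv F28752)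
def n21414 : Q := act 3 n19098
theorem D21414 : act 3 n19098 = n21414 := rfl
theorem F40511 : act 1 n21414 = n19116 := d6_1 D21414 (iv D19116) (iv F35031)
theorem F40512 : act 4 n21414 = n20188 := d12_2 D19098 D21414 (iv D20188) (iv D17468) F28728
theorem F40513 : act 5 n21414 = n19120 := d13_2 (iv F35033) D21414 (iv D19120)
def n21415 : Q := act 3 n19099
theorem D21415 : act 3 n19099 = n21415 := rfl
theorem F40514 : act 0 n21415 = n20173 := d2_1 D21415 (iv F37932) (iv F37934)
theorem F40515 : act 1 n21415 = n20178 := d6_1 D21415 (iv F40498) F40496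
def n21416 : Q := act 4 n19099
theorem D21416 : act 4 n19099 = n21416 := rfl
theorem F40516 : act 2 n21416 = n19100 := d10_1 D21416 (iv D19100) D19099
def n21417 : Q := act 5 n19100
theorem D21417 : act 5 n19100 = n21417 := rfl
theorem F40517 : act 1 n21417 = n19102 := d8_1 D21417 (iv D19102) (iv F35034)
theorem F40518 : act 3 n21417 = n21150 := d13_1 D21417 (iv D21150) (iv F35035)
def n21418 : Q := act 3 n19101
theorem D21418 : act 3 n19101 = n21418 := rfl
theorem F40519 : act 0 n21418 = n19152 := d2_1 D21418 (iv D19152) (iv F35036)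
theorem F40520 : act 1 n21418 = n19103 := d6_1 D21418 (iv D19103) (iv F35037)
theorem F40521 : act 5 n21418 = n19249 := d13_2 (iv F35039) D21418 (iv D19249)
def n21419 : Q := act 5 n19106
theorem D21419 : act 5 n19106 = n21419 := rfl
theorem F40522 : act 0 n21419 = n20924 := d4_1 D21419 F39306 F38216
theorem F40523 : act 1 n21419 = n19108 := d8_1 D21419 (iv D19108) (iv F35047)
theorem F40524 : act 2 n21419 = n20689 := d11_1 D21419 F38740 F37925
theorem F40525 : act 3 n21419 = n21059 := d13_1 D21419 (iv D21059) (iv F35048)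
theorem F40526 : act 4 n21419 = n20723 := d14_1 D21419 (iv F39207) F39206 F34996 D19106
def n21420 : Q := act 3 n19109
theorem D21420 : act 3 n19109 = n21420 := rfl
theorem F40527 : act 1 n21420 = n19156 := d6_1 D21420 F35154 (iv F35051)
theorem F40528 : act 4 n21420 = n19253 := d12_2 D19109 D21420 F35376 (iv F34668) F34667
theorem F40529 : act 5 n21420 = n19110 := d13_2 (iv F35052) D21420 (iv D19110)
def n21421 : Q := act 2 n19110
theorem D21421 : act 2 n19110 = n21421 := rfl
theorem F40530 : act 0 n21421 = n19243 := d1_1 D21421 F40503 F40501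
theorem F40531 : act 4 n21421 = n19111 := d10_2 (iv F35054) D21421 (iv D19111)
theorem F40532 : act 3 n21133 = n21421 := d12_5 F40531 F35057 F29151 D18731 D21133
def n21422 : Q := act 1 n19111
theorem D21422 : act 1 n19111 = n21422 := rfl
theorem F40533 : act 2 n21422 = n19154 := d5_2 D19111 D21422 (iv D19154) (iv D16328) (iv F28748)
theorem F40534 : act 3 n21422 = n19239 := d6_2 (iv F35057) D21422 (iv D19239)
theorem F40535 : act 5 n21422 = n19251 := d8_2 (iv F35056) D21422 (iv D19251)
def n21423 : Q := act 4 n19112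
theorem D21423 : act 4 n19112 = n21423 := rfl
theorem F40536 : act 0 n21423 = n19114 := d3_1 D21423 (iv D19114) (iv F35058)
theorem F40537 : act 1 n21423 = n20167 := d7_1 D21423 (iv D20167) (iv F35059)
theorem F40538 : act 3 n21423 = n19117 := d12_1 D21423 (iv D19117) (iv D16275) (iv F28752) D19112
def n21424 : Q := act 4 n19113
theorem D21424 : act 4 n19113 = n21424 := rfl
theorem F40539 : act 1 n21424 = n20185 := d7_1 D21424 (iv D20185) (iv F35061)
theorem F40540 : act 2 n21424 = n19114 := d10_1 D21424 (iv D19114) D19113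
def n21425 : Q := act 5 n19114
theorem D21425 : act 5 n19114 = n21425 := rfl
theorem F40541 : act 1 n21425 = n19115 := d8_1 D21425 (iv D19115) (iv F35063)
theorem F40542 : act 3 n21425 = n19119 := d13_1 D21425 (iv D19119) (iv F35064)
theorem F40543 : act 4 n21425 = n20189 := d14_1 D21425 (iv D20189) (iv D17468) (iv F28754) D19114
def n21426 : Q := act 5 n19117
theorem D21426 : act 5 n19117 = n21426 := rfl
theorem F40544 : act 0 n21426 = n19119 := d4_1 D21426 (iv D19119) (iv F35073)
def n21427 : Q := act 3 n19118
theorem D21427 : act 3 n19118 = n21427 := rfl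
theorem F40545 : act 0 n21427 = n19120 := d2_1 D21427 (iv D19120) (iv F35074)
def n21428 : Q := act 3 n19123
theorem D21428 : act 3 n19123 = n21428 := rfl
theorem F40546 : act 0 n21428 = n19124 := d2_1 D21428 (iv D19124) D19123
theorem F40547 : act 2 n21428 = n20169 := d15_2 (iv F35085) D21428 (iv D20169) (iv D17453) (iv D14398) (iv F19407) D14608 (iv F25135) D16290
def n21429 : Q := act 2 n19124
theorem D21429 : act 2 n19124 = n21429 := rfl
theorem F40548 : act 0 n21429 = n20169 := d1_1 D21429 (iv F40547) F40546
theorem F40549 : act 3 n21429 = n20166 := d15_3 (iv F28774) D19124 D21429 (iv D20166) (iv D17451) (iv F25132) D17657 (iv F31664) (iv D16290)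
def n21430 : Q := act 4 n19124
theorem D21430 : act 4 n19124 = n21430 := rfl
theorem F40550 : act 1 n21430 = n19126 := d7_1 D21430 (iv D19126) (iv F35086)
def n21431 : Q := act 3 n19125
theorem D21431 : act 3 n19125 = n21431 := rfl
theorem F40551 : act 1 n21431 = n19128 := d6_1 D21431 (iv D19128) (iv F35087)
theorem F40552 : act 5 n19234 = n21431 := d8_0 F40551 F35094 D19234
def n21432 : Q := act 5 n19125
theorem D21432 : act 5 n19125 = n21432 := rfl
theorem F40553 : act 0 n21432 = n21431 := d4_1 D21432 (iv F40552) F35339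
theorem F40554 : act 1 n21432 = n19129 := d8_1 D21432 (iv D19129) (iv F35087)
theorem F40555 : act 2 n21432 = n19134 := d11_1 D21432 (iv D19134) (iv F35088)
theorem F40556 : act 3 n21432 = n19234 := d13_1 D21432 F40552 (iv D21431)
def n21433 : Q := act 3 n19126
theorem D21433 : act 3 n19126 = n21433 := rfl
theorem F40557 : act 0 n21433 = n19230 := d2_1 D21433 (iv F39725) F39723
theorem F40558 : act 4 n21433 = n19128 := d12_2 D19126 D21433 (iv D19128) (iv D16286) D16285
theorem F40559 : act 2 n21433 = n19237 := d15_2 F40214 D21433 F35348 (iv F38020) (iv F40295) F40294 (iv F40217) (iv D21288) (iv F40213)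
def n21434 : Q := act 5 n19126
theorem D21434 : act 5 n19126 = n21434 := rfl
def n21435 : Q := act 4 n19127
theorem D21435 : act 4 n19127 = n21435 := rfl
theorem F40560 : act 0 n21435 = n19140 := d3_1 D21435 (iv D19140) (iv F35089)
theorem F40561 : act 2 n21435 = n19138 := d10_1 D21435 (iv D19138) (iv F35090)
def n21436 : Q := act 4 n19129
theorem D21436 : act 4 n19129 = n21436 := rfl
theorem F40562 : act 0 n21436 = n19231 := d3_1 D21436 (iv D19231) (iv F35095)
theorem F40563 : act 2 n21436 = n19131 := d10_1 D21436 (iv D19131) (iv F35096)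
theorem F40564 : act 5 n21436 = n19130 := d14_2 D19129 D21436 (iv D19130) (iv D16287) D16286
def n21437 : Q := act 3 n19130
theorem D21437 : act 3 n19130 = n21437 := rfl
def n21438 : Q := act 3 n19132
theorem D21438 : act 3 n19132 = n21438 := rfl
theorem F40565 : act 0 n21438 = n19133 := d2_1 D21438 (iv D19133) (iv F35103)
def n21439 : Q := act 5 n19132
theorem D21439 : act 5 n19132 = n21439 := rfl
theorem F40566 : act 0 n21439 = n19134 := d4_1 D21439 (iv D19134) (iv F35103)
theorem F40567 : act 2 n21439 = n21431 := d11_1 D21439 (iv F40552) F35340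
def n21440 : Q := act 2 n19133
theorem D21440 : act 2 n19133 = n21440 := rfl
theorem F40568 : act 3 n21440 = n21440 := d15_3 F35088 D19133 D21440 (iv D21440) (iv D19133) (iv F35088) D21431 (iv F40552) F35339
def n21441 : Q := act 5 n19133
theorem D21441 : act 5 n19133 = n21441 := rfl
theorem F40569 : act 1 n21441 = n19136 := d8_1 D21441 (iv D19136) (iv F35104)
theorem F40570 : act 3 n21441 = n19134 := d13_1 D21441 (iv D19134) D19133
theorem F40571 : act 4 n21033 = n21441 := d7_0 F40569 (iv F35112) D21033
def n21442 : Q := act 1 n19135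
theorem D21442 : act 1 n19135 = n21442 := rfl
theorem F40572 : act 3 n21442 = n19540 := d6_2 (iv F35107) D21442 F36064
theorem F40573 : act 5 n21442 = n19539 := d8_2 F35108 D21442 F36062
def n21443 : Q := act 2 n19137
theorem D21443 : act 2 n19137 = n21443 := rfl
def n21444 : Q := act 4 n19137
theorem D21444 : act 4 n19137 = n21444 := rfl
theorem F40574 : act 1 n21444 = n19138 := d7_1 D21444 (iv D19138) (iv F35113)
theorem F40575 : act 3 n21444 = n19181 := d12_1 D21444 (iv D19181) (iv D16351) (iv F28788) D19137
def n21445 : Q := act 5 n19138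
theorem D21445 : act 5 n19138 = n21445 := rfl
theorem F40576 : act 0 n21445 = n19141 := d4_1 D21445 (iv D19141) (iv F35114)
theorem F40577 : act 3 n21445 = n19182 := d13_1 D21445 (iv D19182) (iv F35115)
def n21446 : Q := act 0 n19139
theorem D21446 : act 0 n19139 = n21446 := rfl
def n21447 : Q := act 4 n19139
theorem D21447 : act 4 n19139 = n21447 := rfl
theorem F40578 : act 1 n21447 = n19140 := d7_1 D21447 (iv D19140) D19139
def n21448 : Q := act 3 n19140
theorem D21448 : act 3 n19140 = n21448 := rfl
def n21449 : Q := act 5 n19140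
theorem D21449 : act 5 n19140 = n21449 := rfl
theorem F40579 : act 2 n21449 = n19141 := d11_1 D21449 (iv D19141) (iv F35116)
def n21450 : Q := act 3 n19143
theorem D21450 : act 3 n19143 = n21450 := rfl
theorem F40580 : act 0 n21450 = n19144 := d2_1 D21450 (iv D19144) D19143
theorem F40581 : act 1 n21450 = n19369 := d6_1 D21450 (iv D19369) (iv F35120)
def n21451 : Q := act 2 n19144
theorem D21451 : act 2 n19144 = n21451 := rfl
def n21452 : Q := act 4 n19144
theorem D21452 : act 4 n19144 = n21452 := rfl
theorem F40582 : act 1 n21452 = n19145 := d7_1 D21452 (iv D19145) (iv F35123)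
theorem F40583 : act 3 n21452 = n19981 := d12_1 D21452 (iv D19981) (iv D17213) (iv F28799) D19144
def n21453 : Q := act 5 n19145
theorem D21453 : act 5 n19145 = n21453 := rfl
theorem F40584 : act 0 n21453 = n19371 := d4_1 D21453 (iv D19371) (iv F35124)
theorem F40585 : act 3 n21453 = n19985 := d13_1 D21453 (iv D19985) (iv F35125)
def n21454 : Q := act 2 n19152
theorem D21454 : act 2 n19152 = n21454 := rfl
def n21455 : Q := act 4 n19152
theorem D21455 : act 4 n19152 = n21455 := rfl
theorem F40586 : act 1 n21455 = n19153 := d7_1 D21455 (iv D19153) (iv F35148)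
theorem F40587 : act 3 n21455 = n19255 := d12_1 D21455 (iv D19255) (iv D16440) (iv F28893) D19152
def n21456 : Q := act 5 n19153
theorem D21456 : act 5 n19153 = n21456 := rfl
theorem F40588 : act 0 n21456 = n19156 := d4_1 D21456 (iv D19156) (iv F35149)
theorem F40589 : act 3 n21456 = n19256 := d13_1 D21456 (iv D19256) (iv F35150)
def n21457 : Q := act 0 n19154
theorem D21457 : act 0 n19154 = n21457 := rfl
theorem F40590 : act 3 n21457 = n19356 := d2_2 (iv F35151) D21457 F35607
theorem F40591 : act 5 n21457 = n19369 := d4_2 (iv F35152) D21457 F35637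
def n21458 : Q := act 4 n19154
theorem D21458 : act 4 n19154 = n21458 := rfl
theorem F40592 : act 1 n21458 = n19155 := d7_1 D21458 (iv D19155) D19154
def n21459 : Q := act 3 n19155
theorem D21459 : act 3 n19155 = n21459 := rfl
theorem F40593 : act 0 n21459 = n20428 := d2_1 D21459 (iv F40034) F40032
theorem F40594 : act 4 n21459 = n19372 := d12_2 D19155 D21459 (iv D19372) (iv D16557) (iv F28896)
theorem F40595 : act 2 n21459 = n20427 := d15_2 (iv F35153) D21459 F38157 (iv F38162) F38163 F37948 (iv F40589) (iv D21456) F35149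
def n21460 : Q := act 5 n19155
theorem D21460 : act 5 n19155 = n21460 := rfl
theorem F40596 : act 2 n21460 = n19156 := d11_1 D21460 (iv D19156) (iv F35153)
theorem F40597 : act 4 n21460 = n19371 := d14_1 D21460 (iv D19371) (iv D16556) (iv F28895) D19155
def n21461 : Q := act 2 n19157
theorem D21461 : act 2 n19157 = n21461 := rfl
theorem F40598 : act 4 n21461 = n19159 := d10_2 (iv F35156) D21461 (iv D19159)
def n21462 : Q := act 5 n19157
theorem D21462 : act 5 n19157 = n21462 := rfl
theorem F40599 : act 1 n21462 = n19162 := d8_1 D21462 (iv D19162) (iv F35155)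
theorem F40600 : act 3 n21462 = n19158 := d13_1 D21462 (iv D19158) D19157
def n21463 : Q := act 3 n19159
theorem D21463 : act 3 n19159 = n21463 := rfl
theorem F40601 : act 2 n21463 = n20545 := d15_2 D19159 D21463 (iv D20545) (iv D17934) (iv D14899) (iv F25603) D17833 (iv F34551) F34549
def n21464 : Q := act 5 n19159
theorem D21464 : act 5 n19159 = n21464 := rfl
theorem F40602 : act 0 n21464 = n20452 := d4_1 D21464 (iv F40061) F40059
theorem F40603 : act 1 n21464 = n19185 := d8_1 D21464 (iv F39648) F39647
theorem F40604 : act 2 n21464 = n19160 := d11_1 D21464 (iv D19160) D19159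
def n21465 : Q := act 4 n19160
theorem D21465 : act 4 n19160 = n21465 := rfl
theorem F40605 : act 0 n21465 = n20453 := d3_1 D21465 (iv D20453) (iv F35159)
theorem F40606 : act 1 n21465 = n19163 := d7_1 D21465 (iv D19163) (iv F35160)
theorem F40607 : act 3 n21465 = n20464 := d12_1 D21465 (iv D20464) (iv D17853) (iv F28903) (iv F35161)
def n21466 : Q := act 3 n19161
theorem D21466 : act 3 n19161 = n21466 := rfl
theorem F40608 : act 0 n21466 = n19169 := d2_1 D21466 (iv D19169) (iv F35162)
theorem F40609 : act 4 n21466 = n19188 := d12_2 (iv F35163) D21466 (iv D19188) (iv D16358) (iv F28910)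
theorem F40610 : act 5 n21177 = n21466 := d14_0 F40609 F35219 (iv D18779) D18780 D21177
def n21467 : Q := act 5 n19161
theorem D21467 : act 5 n19161 = n21467 := rfl
theorem F40611 : act 0 n21467 = n19170 := d4_1 D21467 (iv D19170) (iv F35162)
theorem F40612 : act 2 n21467 = n19162 := d11_1 D21467 (iv D19162) D19161
theorem F40613 : act 3 n21467 = n21177 := d13_1 D21467 F40610 (iv D21466)
theorem F40614 : act 4 n21467 = n19187 := d14_1 D21467 (iv D19187) (iv D16357) F28911 (iv F35163)
def n21468 : Q := act 4 n19162
theorem D21468 : act 4 n19162 = n21468 := rfl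
theorem F40615 : act 0 n21468 = n19171 := d3_1 D21468 (iv D19171) (iv F35164)
theorem F40616 : act 2 n21468 = n19187 := d10_1 D21468 (iv F40614) F40612
theorem F40617 : act 3 n21468 = n19208 := d12_1 D21468 (iv D19208) F29055 (iv F28908) (iv F35165)
theorem F40618 : act 5 n21468 = n19163 := d14_2 D19162 D21468 (iv D19163) (iv D16336) (iv F28905)
def n21469 : Q := act 5 n19164
theorem D21469 : act 5 n19164 = n21469 := rfl
theorem F40619 : act 0 n21469 = n20334 := d4_1 D21469 (iv F39999) F39995
theorem F40620 : act 1 n21469 = n19167 := d8_1 D21469 (iv D19167) (iv F35169)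
theorem F40621 : act 2 n21469 = n20335 := d11_1 D21469 F37911 F35171
theorem F40622 : act 3 n21469 = n19165 := d13_1 D21469 (iv D19165) D19164
theorem F40623 : act 4 n21469 = n20333 := d14_1 D21469 F37905 F34701 (iv F29014) (iv F35170)
def n21470 : Q := act 3 n19166
theorem D21470 : act 3 n19166 = n21470 := rfl
theorem F40624 : act 0 n21470 = n19214 := d2_1 D21470 (iv D19214) (iv F35174)
theorem F40625 : act 1 n21470 = n21355 := d6_1 D21470 (iv D21355) (iv F35175)
theorem F40626 : act 4 n21470 = n19288 := d12_2 (iv F35176) D21470 (iv D19288) F29229 (iv F29028)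
theorem F40627 : act 2 n21470 = n21177 := d15_2 D19166 D21470 (iv F40613) F40612 F35165 F28907 D16394 F29068 (iv F28919)
def n21471 : Q := act 5 n19166
theorem D21471 : act 5 n19166 = n21471 := rfl
theorem F40628 : act 0 n21471 = n19212 := d4_1 D21471 F35281 (iv F35174)
theorem F40629 : act 1 n21471 = n21265 := d8_1 D21471 F40163 (iv F35175)
theorem F40630 : act 2 n21471 = n19167 := d11_1 D21471 (iv D19167) D19166
theorem F40631 : act 4 n21471 = n21263 := d14_1 D21471 (iv D21263) F34706 (iv F29027) (iv F35176)
def n21472 : Q := act 4 n19167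
theorem D21472 : act 4 n19167 = n21472 := rfl
theorem F40632 : act 0 n21472 = n19211 := d3_1 D21472 F35279 (iv F35177)
theorem F40633 : act 1 n21472 = n20333 := d7_1 D21472 (iv F40623) F40620
theorem F40634 : act 2 n21472 = n21263 := d10_1 D21472 (iv F40631) F40630
theorem F40635 : act 3 n21472 = n19199 := d12_1 D21472 (iv D19199) F29018 (iv F28923) (iv F35178)
theorem F40636 : act 5 n21472 = n19200 := d14_2 D19167 D21472 F35256 F29023 (iv F28920)
def n21473 : Q := act 0 n19168
theorem D21473 : act 0 n19168 = n21473 := rfl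
theorem F40637 : act 4 n21473 = n19172 := d3_2 (iv F35179) D21473 (iv D19172)
def n21474 : Q := act 3 n19168
theorem D21474 : act 3 n19168 = n21474 := rfl
theorem F40638 : act 1 n21474 = n19169 := d6_1 D21474 (iv D19169) D19168
def n21475 : Q := act 5 n19168
theorem D21475 : act 5 n19168 = n21475 := rfl
theorem F40639 : act 1 n21475 = n19170 := d8_1 D21475 (iv D19170) D19168
def n21476 : Q := act 2 n19169
theorem D21476 : act 2 n19169 = n21476 := rfl
theorem F40640 : act 3 n21476 = n19212 := d9_2 D19169 D21476 (iv D19212) (iv D16394) (iv F28907) (iv F35165) (iv F40612) F40613 (iv F40627) (iv D21470) (iv D19166) (iv D16339) F22553 D13266 D16341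
theorem F40641 : act 5 n19214 = n21476 := d13_0 F40640 F35281 D19214
def n21477 : Q := act 4 n19169
theorem D21477 : act 4 n19169 = n21477 := rfl
theorem F40642 : act 0 n21477 = n19188 := d3_1 D21477 (iv F40609) F40608
theorem F40643 : act 3 n21477 = n19175 := d12_1 D21477 (iv D19175) (iv D16344) (iv F28924) D19169
theorem F40644 : act 5 n19271 = n21477 := d13_0 F40643 F35191 D19271
def n21478 : Q := act 5 n19169
theorem D21478 : act 5 n19169 = n21478 := rfl
theorem F40645 : act 0 n21478 = n21177 := d4_1 D21478 F40610 F40608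
theorem F40646 : act 2 n21478 = n19214 := d11_1 D21478 F40641 (iv D21476)
theorem F40647 : act 3 n21478 = n19170 := d13_1 D21478 (iv D19170) D19169
theorem F40648 : act 4 n21478 = n21167 := d14_1 D21478 (iv D21167) (iv F35411) F40644 (iv D21477)
def n21479 : Q := act 4 n19170
theorem D21479 : act 4 n19170 = n21479 := rfl
theorem F40649 : act 0 n21479 = n19187 := d3_1 D21479 (iv F40614) F40611
theorem F40650 : act 2 n21479 = n19171 := d10_1 D21479 (iv D19171) (iv F35180)
theorem F40651 : act 3 n21479 = n19270 := d12_1 D21479 F35409 (iv F39893) (iv F40648) F40647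
theorem F40652 : act 5 n21479 = n19176 := d14_2 D19170 D21479 (iv D19176) (iv D16345) (iv F28924)
def n21480 : Q := act 5 n19172
theorem D21480 : act 5 n19172 = n21480 := rfl
theorem F40653 : act 0 n21480 = n19174 := d4_1 D21480 (iv D19174) D19172
theorem F40654 : act 1 n21480 = n19184 := d8_1 D21480 (iv F39637) F39636
theorem F40655 : act 2 n21480 = n20455 := d11_1 D21480 F38223 (iv F36531)
theorem F40656 : act 3 n21480 = n19178 := d13_1 D21480 (iv F39633) (iv F39634)
def n21481 : Q := act 4 n19173
theorem D21481 : act 4 n19173 = n21481 := rfl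
theorem F40657 : act 1 n21481 = n19175 := d7_1 D21481 (iv D19175) (iv F35184)
theorem F40658 : act 5 n21481 = n19269 := d14_2 F35185 D21481 (iv D19269) (iv D16451) (iv F28937)
def n21482 : Q := act 4 n19174
theorem D21482 : act 4 n19174 = n21482 := rfl
theorem F40659 : act 1 n21482 = n19176 := d7_1 D21482 (iv D19176) (iv F35186)
theorem F40660 : act 2 n21482 = n20456 := d10_1 D21482 (iv D20456) (iv F35187)
theorem F40661 : act 3 n21482 = n19268 := d12_1 D21482 (iv D19268) (iv D16450) (iv F28937) (iv F35188)
def n21483 : Q := act 2 n19179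
theorem D21483 : act 2 n19179 = n21483 := rfl
theorem F40662 : act 0 n21483 = n19180 := d1_1 D21483 (iv D19180) (iv F35201)
theorem F40663 : act 1 n21483 = n19343 := d5_1 D21483 (iv D19343) F29340 (iv F28961) (iv F35202)
theorem F40664 : act 5 n21483 = n19240 := d11_2 (iv F35203) D21483 F35355
def n21484 : Q := act 4 n19179
theorem D21484 : act 4 n19179 = n21484 := rfl
theorem F40665 : act 0 n21484 = n19181 := d3_1 D21484 (iv D19181) (iv F35201)
theorem F40666 : act 1 n21484 = n19189 := d7_1 D21484 (iv D19189) (iv F35202)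
def n21485 : Q := act 3 n19180
theorem D21485 : act 3 n19180 = n21485 := rfl
theorem F40667 : act 1 n21485 = n19223 := d6_1 D21485 (iv D19223) (iv F35204)
theorem F40668 : act 5 n21485 = n19241 := d13_2 (iv F35205) D21485 (iv D19241)
def n21486 : Q := act 4 n19180
theorem D21486 : act 4 n19180 = n21486 := rfl
theorem F40669 : act 1 n21486 = n19224 := d7_1 D21486 (iv D19224) (iv F35204)
theorem F40670 : act 2 n21486 = n19181 := d10_1 D21486 (iv D19181) D19180
def n21487 : Q := act 5 n19181
theorem D21487 : act 5 n19181 = n21487 := rfl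
theorem F40671 : act 1 n21487 = n19182 := d8_1 D21487 (iv D19182) (iv F35206)
theorem F40672 : act 4 n21487 = n19246 := d14_1 D21487 (iv D19246) (iv D16433) (iv F28943) D19181
def n21488 : Q := act 4 n19184
theorem D21488 : act 4 n19184 = n21488 := rfl
theorem F40673 : act 0 n21488 = n19186 := d3_1 D21488 (iv D19186) (iv F35215)
theorem F40674 : act 2 n21488 = n19796 := d10_1 D21488 (iv F38778) F38779
theorem F40675 : act 3 n21488 = n21179 := d12_1 D21488 (iv D21179) (iv F35212) F35213 D19184
def n21489 : Q := act 4 n19185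
theorem D21489 : act 4 n19185 = n21489 := rfl
theorem F40676 : act 0 n21489 = n19796 := d3_1 D21489 (iv F38778) F38777
theorem F40677 : act 2 n21489 = n19186 := d10_1 D21489 (iv D19186) D19185
theorem F40678 : act 3 n21489 = n19793 := d12_1 D21489 F36687 D19826 F38767 F38766
def n21490 : Q := act 5 n19186
theorem D21490 : act 5 n19186 = n21490 := rfl
theorem F40679 : act 1 n21490 = n19187 := d8_1 D21490 (iv D19187) (iv F35216)
theorem F40680 : act 3 n21490 = n19778 := d13_1 D21490 F36651 (iv F35217)
def n21491 : Q := act 2 n19188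
theorem D21491 : act 2 n19188 = n21491 := rfl
theorem F40681 : act 5 n21491 = n21176 := d11_2 (iv F35219) D21491 F39911
theorem F40682 : act 1 n21291 = n21491 := d8_3 F40681 F39910 F40221
theorem F40683 : act 3 n21491 = n21290 := d6_2 D21291 F40682 F40219
def n21492 : Q := act 0 n19190
theorem D21492 : act 0 n19190 = n21492 := rfl
theorem F40684 : act 1 n21492 = n19341 := d0_2 D19190 D21492 F35579 F29340 (iv F28962)
theorem F40685 : act 2 n21492 = n19193 := d1_2 (iv F35222) D21492 (iv D19193)
theorem F40686 : act 3 n21492 = n19325 := d2_2 (iv F35223) D21492 F35547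
theorem F40687 : act 5 n21492 = n19226 := d4_2 (iv F35224) D21492 F35318
def n21493 : Q := act 4 n19190
theorem D21493 : act 4 n19190 = n21493 := rfl
theorem F40688 : act 1 n21493 = n19191 := d7_1 D21493 (iv D19191) D19190
theorem F40689 : act 2 n21493 = n19194 := d10_1 D21493 (iv D19194) (iv F35222)
theorem F40690 : act 5 n21493 = n20630 := d14_2 (iv F35224) D21493 (iv D20630) (iv F35326) (iv D19228)
def n21494 : Q := act 5 n19191
theorem D21494 : act 5 n19191 = n21494 := rfl
theorem F40691 : act 0 n21494 = n19347 := d4_1 D21494 (iv D19347) (iv F35225)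
theorem F40692 : act 1 n21494 = n20630 := d8_1 D21494 (iv F40690) F40688
theorem F40693 : act 2 n21494 = n19192 := d11_1 D21494 (iv D19192) (iv F35226)
theorem F40694 : act 4 n21494 = n19362 := d14_1 D21494 (iv D19362) (iv D16548) (iv F28963) D19191
def n21495 : Q := act 4 n19193
theorem D21495 : act 4 n19193 = n21495 := rfl
theorem F40695 : act 0 n21495 = n19194 := d3_1 D21495 (iv D19194) D19193
theorem F40696 : act 1 n21495 = n19222 := d7_1 D21495 (iv D19222) (iv F35229)
theorem F40697 : act 3 n21495 = n19305 := d12_1 D21495 (iv D19305) F29267 (iv F29037) (iv F35230)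
theorem F40698 : act 5 n21495 = n20606 := d14_2 (iv F35231) D21495 (iv D20606) (iv D18006) (iv F29113)
def n21496 : Q := act 3 n19194
theorem D21496 : act 3 n19194 = n21496 := rfl
theorem F40699 : act 0 n21496 = n19305 := d2_1 D21496 (iv F40697) F40695
theorem F40700 : act 1 n21496 = n19195 := d6_1 D21496 (iv D19195) (iv F35232)
theorem F40701 : act 4 n21496 = n19201 := d12_2 D19194 D21496 (iv D19201) F29031 (iv F28966)
theorem F40702 : act 5 n20422 = n21496 := d14_0 F40701 F35260 F29213 D17779 D20422
def n21497 : Q := act 5 n19194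
theorem D21497 : act 5 n19194 = n21497 := rfl
theorem F40703 : act 0 n21497 = n20606 := d4_1 D21497 (iv F40698) F40695
theorem F40704 : act 1 n21497 = n19196 := d8_1 D21497 (iv D19196) (iv F35232)
theorem F40705 : act 2 n21497 = n20630 := d11_1 D21497 (iv F40690) F40689
theorem F40706 : act 3 n21497 = n20422 := d13_1 D21497 F40702 (iv D21496)
theorem F40707 : act 4 n21497 = n19229 := d14_1 D21497 (iv D19229) (iv D16413) (iv F28967) D19194
def n21498 : Q := act 2 n19195
theorem D21498 : act 2 n19195 = n21498 := rfl
theorem F40708 : act 0 n21498 = n19219 := d1_1 D21498 F35299 (iv F35233)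
theorem F40709 : act 4 n21498 = n19202 := d10_2 (iv F35234) D21498 (iv D19202)
theorem F40710 : act 5 n21498 = n21171 := d11_2 F35235 D21498 F39898
def n21499 : Q := act 2 n19201
theorem D21499 : act 2 n19201 = n21499 := rfl
theorem F40711 : act 0 n21499 = n19304 := d1_1 D21499 F35497 (iv F35258)
theorem F40712 : act 5 n21499 = n19279 := d11_2 (iv F35260) D21499 (iv D19279)
def n21500 : Q := act 1 n19202
theorem D21500 : act 1 n19202 = n21500 := rfl
theorem F40713 : act 0 n21500 = n21266 := d0_1 D21500 F40164 F34718 F29093 (iv F35261)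
theorem F40714 : act 3 n21500 = n19216 := d6_2 (iv F35262) D21500 (iv D19216)
theorem F40715 : act 5 n21500 = n19218 := d8_2 (iv F35263) D21500 F35296
def n21501 : Q := act 1 n19203
theorem D21501 : act 1 n19203 = n21501 := rfl
theorem F40716 : act 2 n21501 = n19205 := d5_2 D19203 D21501 (iv D19205) (iv D16388) (iv F29053)
def n21502 : Q := act 3 n19203
theorem D21502 : act 3 n19203 = n21502 := rfl
def n21503 : Q := act 5 n19203
theorem D21503 : act 5 n19203 = n21503 := rfl
theorem F40717 : act 2 n21503 = n19204 := d11_1 D21503 (iv D19204) D19203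
def n21504 : Q := act 4 n19204
theorem D21504 : act 4 n19204 = n21504 := rfl
theorem F40718 : act 0 n21504 = n20467 := d3_1 D21504 (iv F40056) F40053
theorem F40719 : act 1 n21504 = n19208 := d7_1 D21504 (iv D19208) (iv F35264)
theorem F40720 : act 5 n21504 = n20464 := d14_2 D19204 D21504 (iv D20464) (iv F34540) F34539
def n21505 : Q := act 3 n19205
theorem D21505 : act 3 n19205 = n21505 := rfl
theorem F40721 : act 1 n21505 = n19206 := d6_1 D21505 (iv D19206) D19205
theorem F40722 : act 5 n20395 = n21505 := d8_0 F40721 (iv F35267) (iv F38074)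
def n21506 : Q := act 5 n19205
theorem D21506 : act 5 n19205 = n21506 := rfl
theorem F40723 : act 1 n21506 = n19207 := d8_1 D21506 (iv D19207) D19205
theorem F40724 : act 3 n21506 = n20395 := d13_1 D21506 F40722 (iv D21505)
def n21507 : Q := act 4 n19207
theorem D21507 : act 4 n19207 = n21507 := rfl
theorem F40725 : act 0 n21507 = n20385 := d3_1 D21507 (iv F40074) F40070
theorem F40726 : act 2 n21507 = n19208 := d10_1 D21507 (iv D19208) (iv F35268)
theorem F40727 : act 3 n21507 = n20375 := d12_1 D21507 (iv D20375) F31841 D17746 (iv F35269)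
theorem F40728 : act 5 n21507 = n20468 := d14_2 D19207 D21507 (iv D20468) (iv F34558) F34557
def n21508 : Q := act 4 n19210
theorem D21508 : act 4 n19210 = n21508 := rfl
theorem F40729 : act 0 n21508 = n20396 := d3_1 D21508 (iv D20396) (iv F35275)
theorem F40730 : act 1 n21508 = n21076 := d7_1 D21508 (iv D21076) (iv F35276)
theorem F40731 : act 2 n21508 = n20384 := d10_1 D21508 F40069 F40067
theorem F40732 : act 3 n21508 = n21078 := d12_1 D21508 (iv D21078) (iv D18676) F29064 (iv F35277)
theorem F40733 : act 5 n21508 = n20383 := d14_2 D19210 D21508 (iv D20383) (iv F31856) (iv F29060)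
def n21509 : Q := act 2 n19211
theorem D21509 : act 2 n19211 = n21509 := rfl
theorem F40734 : act 0 n21509 = n21263 := d1_1 D21509 (iv F40634) F40632
theorem F40735 : act 1 n21509 = n20328 := d5_1 D21509 (iv D20328) F31700 D17676 (iv F35278)
theorem F40736 : act 4 n21509 = n19212 := d10_2 (iv F35279) D21509 (iv D19212)
theorem F40737 : act 5 n21509 = n19215 := d11_2 (iv F35280) D21509 (iv D19215)
theorem F40738 : act 3 n21289 = n21509 := d2_0 F40734 F40157 D21289
def n21510 : Q := act 1 n19212
theorem D21510 : act 1 n19212 = n21510 := rfl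
theorem F40739 : act 0 n21510 = n20331 := d0_1 D21510 F37898 (iv F40161) (iv F40629) F40628
theorem F40740 : act 2 n21510 = n20329 := d5_2 D19212 D21510 F37894 (iv F34471) F34470
theorem F40741 : act 4 n21510 = n20328 := d7_2 F40736 D21510 (iv F40735)
theorem F40742 : act 5 n21510 = n19213 := d8_2 (iv F35281) D21510 (iv D19213)
def n21511 : Q := act 0 n19213
theorem D21511 : act 0 n19213 = n21511 := rfl
theorem F40743 : act 1 n21511 = n21268 := d0_2 D19213 D21511 F40169 (iv F35175) F35174
theorem F40744 : act 2 n21511 = n20332 := d1_2 F40017 D21511 (iv F40016)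
theorem F40745 : act 4 n21511 = n19217 := d3_2 (iv F35282) D21511 (iv D19217)
theorem F40746 : act 5 n21511 = n20331 := d4_2 F40742 D21511 (iv F40739)
def n21512 : Q := act 3 n19213
theorem D21512 : act 3 n19213 = n21512 := rfl
theorem F40747 : act 1 n21512 = n19214 := d6_1 D21512 (iv D19214) D19213
theorem F40748 : act 4 n21512 = n21169 := d12_2 (iv F35282) D21512 (iv D21169) F35297 (iv D19218)
def n21513 : Q := act 3 n19215
theorem D21513 : act 3 n19215 = n21513 := rfl
theorem F40749 : act 0 n21513 = n21262 := d2_1 D21513 (iv D21262) (iv F35284)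
theorem F40750 : act 1 n21513 = n21269 := d6_1 D21513 (iv D21269) (iv F35285)
theorem F40751 : act 5 n21513 = n21289 := d13_2 F40737 D21513 F40738
theorem F40752 : act 2 n21446 = n21513 := d15_0 (iv D21513) (iv D19215) (iv D16399) (iv F29081) F29082 (iv F34037) D21079 F39721 D21446
def n21514 : Q := act 2 n19218
theorem D21514 : act 2 n19218 = n21514 := rfl
theorem F40753 : act 0 n21514 = n21356 := d1_1 D21514 F40374 (iv F35295)
theorem F40754 : act 1 n21514 = n19279 := d5_1 D21514 (iv D19279) F29212 (iv F29089) (iv F35296)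
theorem F40755 : act 4 n21514 = n20419 := d10_2 F35297 D21514 F38140
def n21515 : Q := act 3 n19219
theorem D21515 : act 3 n19219 = n21515 := rfl
theorem F40756 : act 1 n21515 = n21264 := d6_1 D21515 F40160 (iv F35298)
theorem F40757 : act 4 n21515 = n21262 := d12_2 D19219 D21515 (iv D21262) F34706 (iv F29091)
theorem F40758 : act 2 n21447 = n21515 := d10_3 F40757 F40154 D21447
theorem F40759 : act 3 n21449 = n21447 := d15_1 (iv F40579) F40758 (iv D21515) F35299 F29095 (iv F28945) (iv F35115) D21445 F40576
theorem F40760 : act 1 n21448 = n21449 := d6_3 F40759 F40578 D21448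
theorem F40761 : act 5 n21447 = n21448 := d13_2 D21449 F40759 (iv D21448)
def n21516 : Q := act 5 n19219
theorem D21516 : act 5 n19219 = n21516 := rfl
theorem F40762 : act 0 n21516 = n21171 := d4_1 D21516 (iv F40710) F40708
theorem F40763 : act 1 n21516 = n21354 := d8_1 D21516 (iv D21354) (iv F35298)
theorem F40764 : act 2 n21516 = n19220 := d11_1 D21516 (iv D19220) (iv F35299)
theorem F40765 : act 4 n21516 = n19286 := d14_1 D21516 F35441 F29229 (iv F29092) D19219
def n21517 : Q := act 1 n19221
theorem D21517 : act 1 n19221 = n21517 := rfl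
theorem F40766 : act 0 n21517 = n19343 := d0_1 D21517 (iv F40663) F40662 F35204 (iv F35304)
theorem F40767 : act 2 n21517 = n19341 := d5_2 D19221 D21517 (iv F40684) F40685 F35229
theorem F40768 : act 3 n21517 = n19251 := d6_2 (iv F35305) D21517 (iv D19251)
theorem F40769 : act 5 n21517 = n19239 := d8_2 (iv F35306) D21517 (iv D19239)
def n21518 : Q := act 4 n19221
theorem D21518 : act 4 n19221 = n21518 := rfl
theorem F40770 : act 0 n21518 = n19224 := d3_1 D21518 (iv D19224) (iv F35304)
theorem F40771 : act 2 n21518 = n19222 := d10_1 D21518 (iv D19222) D19221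
theorem F40772 : act 5 n21518 = n21134 := d14_2 (iv F35306) D21518 (iv D21134) (iv D18732) (iv F29151)
def n21519 : Q := act 4 n19223
theorem D21519 : act 4 n19223 = n21519 := rfl
theorem F40773 : act 0 n21519 = n19252 := d3_1 D21519 (iv D19252) (iv F35310)
theorem F40774 : act 2 n21519 = n19250 := d10_1 D21519 (iv D19250) (iv F35311)
def n21520 : Q := act 3 n19224
theorem D21520 : act 3 n19224 = n21520 := rfl
def n21521 : Q := act 5 n19224
theorem D21521 : act 5 n19224 = n21521 := rfl
theorem F40775 : act 0 n21521 = n21134 := d4_1 D21521 (iv F40772) F40770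
theorem F40776 : act 2 n21521 = n19225 := d11_1 D21521 (iv D19225) (iv F35313)
theorem F40777 : act 4 n21521 = n19245 := d14_1 D21521 (iv D19245) (iv D16430) (iv F29098) D19224
def n21522 : Q := act 1 n19226
theorem D21522 : act 1 n19226 = n21522 := rfl
theorem F40778 : act 0 n21522 = n19345 := d0_1 D21522 F35583 F29343 (iv F29114) (iv F35318)
theorem F40779 : act 2 n21522 = n19239 := d5_2 D19226 D21522 (iv D19239) (iv D16427) (iv F29112)
theorem F40780 : act 4 n21522 = n20605 := d7_2 (iv F35319) D21522 (iv D20605)
theorem F40781 : act 5 n21522 = n19341 := d8_2 F40687 D21522 (iv F40684)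
theorem F40782 : act 3 n19342 = n21522 := d13_3 F40781 (iv D19341) D19342
def n21523 : Q := act 3 n19226
theorem D21523 : act 3 n19226 = n21523 := rfl
theorem F40783 : act 0 n21523 = n19227 := d2_1 D21523 (iv D19227) (iv F35318)
theorem F40784 : act 1 n21523 = n19342 := d6_1 D21523 F40782 (iv D21522)
theorem F40785 : act 2 n21523 = n19327 := d9_1 D21523 F35553 F29309 F22844 (iv F22651) (iv F28966) (iv F35222) F35223 (iv F35533) (iv F35535) (iv D16505) (iv D13429) (iv F22693) D16411 D19226
theorem F40786 : act 5 n21523 = n19325 := d13_2 F40687 D21523 (iv F40686)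
def n21524 : Q := act 2 n19227
theorem D21524 : act 2 n19227 = n21524 := rfl
theorem F40787 : act 0 n21524 = n19327 := d1_1 D21524 (iv F40785) F40783
theorem F40788 : act 1 n21524 = n19322 := d5_1 D21524 F35538 F29303 (iv F29331) (iv F35320)
theorem F40789 : act 3 n21524 = n19322 := d9_2 D19227 D21524 F35538 F29304 (iv F29036) (iv F35230) (iv F40685) F40686 (iv D19325) (iv D16508) (iv D13431) (iv D10540) (iv F17521) D13350 D16412
theorem F40790 : act 5 n21524 = n19321 := d11_2 (iv F35321) D21524 F35533
def n21525 : Q := act 4 n19227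
theorem D21525 : act 4 n19227 = n21525 := rfl
theorem F40791 : act 1 n21525 = n19335 := d7_1 D21525 (iv D19335) (iv F35320)
theorem F40792 : act 3 n21525 = n20631 := d12_1 D21525 (iv D20631) F35325 (iv D19228) D19227
def n21526 : Q := act 5 n19230
theorem D21526 : act 5 n19230 = n21526 := rfl
theorem F40793 : act 1 n21526 = n21081 := d8_1 D21526 F39728 F35331
theorem F40794 : act 2 n21526 = n21078 := d11_1 D21526 F39719 F35797
theorem F40795 : act 4 n21526 = n21077 := d14_1 D21526 F39716 F34038 (iv F29124) D19230
def n21527 : Q := act 3 n19231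
theorem D21527 : act 3 n19231 = n21527 := rfl
theorem F40796 : act 1 n21527 = n21080 := d6_1 D21527 F39725 (iv F35331)
theorem F40797 : act 4 n21527 = n21079 := d12_2 D19231 D21527 (iv D21079) F34038 F29122
theorem F40798 : act 2 n21527 = n21290 := d15_2 (iv F35332) D21527 (iv F40683) (iv D21491) (iv D19188) F28957 (iv F28782) (iv F35102) F35099
def n21528 : Q := act 3 n19232
theorem D21528 : act 3 n19232 = n21528 := rfl
theorem F40799 : act 0 n21528 = n19441 := d2_1 D21528 F35788 (iv F35333)
theorem F40800 : act 1 n21528 = n21438 := d6_1 D21528 (iv D21438) F35335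
theorem F40801 : act 2 n21528 = n19438 := d9_1 D21528 (iv D19438) F29538 (iv F29197) F29196 D16749 D19548 (iv F38679) F38678 (iv D19278) (iv D16464) (iv D13386) (iv F22700) D16420 D19232
theorem F40802 : act 4 n21528 = n21427 := d12_2 (iv F35334) D21528 (iv D21427) (iv D19118) (iv F31685)
def n21529 : Q := act 5 n19232
theorem D21529 : act 5 n19232 = n21529 := rfl
theorem F40803 : act 0 n21529 = n19548 := d4_1 D21529 F36091 (iv F35333)
theorem F40804 : act 1 n21529 = n21439 := d8_1 D21529 (iv D21439) F35335
theorem F40805 : act 2 n21529 = n19233 := d11_1 D21529 (iv D19233) D19232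
theorem F40806 : act 4 n21529 = n21426 := d14_1 D21529 (iv D21426) (iv D19117) (iv F31686) (iv F35334)
def n21530 : Q := act 4 n19233
theorem D21530 : act 4 n19233 = n21530 := rfl
theorem F40807 : act 0 n21530 = n19549 := d3_1 D21530 (iv D19549) (iv F35336)
theorem F40808 : act 1 n21530 = n19237 := d7_1 D21530 (iv D19237) (iv F35337)
theorem F40809 : act 2 n21530 = n21426 := d10_1 D21530 (iv F40806) F40805
theorem F40810 : act 3 n21530 = n19436 := d12_1 D21530 (iv D19436) (iv D16624) (iv F29138) (iv F35338)
theorem F40811 : act 5 n21530 = n21082 := d14_2 D19233 D21530 (iv D21082) (iv D18682) F29134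
def n21531 : Q := act 3 n19235
theorem D21531 : act 3 n19235 = n21531 := rfl
theorem F40812 : act 0 n21531 = n21079 := d2_1 D21531 (iv D21079) (iv F35342)
theorem F40813 : act 1 n21531 = n21428 := d6_1 D21531 (iv D21428) (iv F35343)
theorem F40814 : act 2 n21531 = n21289 := d9_1 D21531 F40738 (iv D21509) (iv D19211) F29066 D18676 D21077 (iv F39717) (iv F40154) (iv D21262) F35257 (iv D19200) F29020 (iv F29142) (iv F35344)
theorem F40815 : act 5 n21531 = n21446 := d15_8 (iv F40154) (iv D21262) F35257 (iv D19200) F29020 (iv F29142) (iv F35344) D21531 (iv D21446)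
def n21532 : Q := act 5 n19235
theorem D21532 : act 5 n19235 = n21532 := rfl
theorem F40816 : act 0 n21532 = n21077 := d4_1 D21532 F39716 (iv F35342)
theorem F40817 : act 1 n21532 = n20320 := d8_1 D21532 F37869 (iv F35343)
theorem F40818 : act 2 n21532 = n19236 := d11_1 D21532 (iv D19236) (iv F35344)
theorem F40819 : act 3 n21532 = n21446 := d13_1 D21532 (iv F40815) (iv D21531)
def n21533 : Q := act 4 n19236
theorem D21533 : act 4 n19236 = n21533 := rfl
theorem F40820 : act 0 n21533 = n21078 := d3_1 D21533 (iv D21078) (iv F35345)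
theorem F40821 : act 1 n21533 = n21082 := d7_1 D21533 (iv D21082) (iv F35346)
theorem F40822 : act 3 n21533 = n20396 := d12_1 D21533 (iv D20396) F31883 (iv F29149) (iv F35347)
theorem F40823 : act 5 n21533 = n19237 := d14_2 D19236 D21533 (iv D19237) (iv D16424) D16423
def n21534 : Q := act 0 n19239
theorem D21534 : act 0 n19239 = n21534 := rfl
theorem F40824 : act 1 n21534 = n19240 := d0_2 D19239 D21534 (iv D19240) (iv D16428) (iv F29150)
theorem F40825 : act 2 n21534 = n19345 := d1_2 F40779 D21534 (iv F40778)
theorem F40826 : act 4 n21534 = n21130 := d3_2 (iv F35354) D21534 (iv D21130)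
theorem F40827 : act 5 n21534 = n19343 := d4_2 F40769 D21534 (iv F40766)
def n21535 : Q := act 3 n19240
theorem D21535 : act 3 n19240 = n21535 := rfl
theorem F40828 : act 0 n21535 = n19241 := d2_1 D21535 (iv D19241) D19240
def n21536 : Q := act 2 n19241
theorem D21536 : act 2 n19241 = n21536 := rfl
def n21537 : Q := act 4 n19241
theorem D21537 : act 4 n19241 = n21537 := rfl
theorem F40829 : act 1 n21537 = n19243 := d7_1 D21537 (iv D19243) (iv F35356)
def n21538 : Q := act 3 n19242
theorem D21538 : act 3 n19242 = n21538 := rfl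
theorem F40830 : act 1 n21538 = n19244 := d6_1 D21538 (iv D19244) (iv F35357)
theorem F40831 : act 5 n21138 = n21538 := d8_0 F40830 (iv F35361) D21138
def n21539 : Q := act 5 n19242
theorem D21539 : act 5 n19242 = n21539 := rfl
theorem F40832 : act 1 n21539 = n19245 := d8_1 D21539 (iv D19245) (iv F35357)
theorem F40833 : act 2 n21539 = n19246 := d11_1 D21539 (iv D19246) (iv F35358)
theorem F40834 : act 3 n21539 = n21138 := d13_1 D21539 F40831 (iv D21538)
def n21540 : Q := act 3 n19243
theorem D21540 : act 3 n19243 = n21540 := rfl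
theorem F40835 : act 0 n21540 = n21133 := d2_1 D21540 F40532 F40530
theorem F40836 : act 4 n21540 = n19244 := d12_2 D19243 D21540 (iv D19244) (iv D16430) D16429
theorem F40837 : act 2 n21540 = n21141 := d15_6 F40475 F35009 (iv F35020) D21411 (iv F40503) D21540 F39838 F39499 (iv F40473)
def n21541 : Q := act 5 n19243
theorem D21541 : act 5 n19243 = n21541 := rfl
def n21542 : Q := act 1 n19247
theorem D21542 : act 1 n19247 = n21542 := rfl
theorem F40838 : act 3 n21542 = n20378 := d6_2 (iv F35367) D21542 F38026
theorem F40839 : act 4 n21542 = n20470 := d7_2 (iv F35366) D21542 F38244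
theorem F40840 : act 5 n21542 = n20377 := d8_2 F35368 D21542 F38025
def n21543 : Q := act 2 n19249
theorem D21543 : act 2 n19249 = n21543 := rfl
def n21544 : Q := act 4 n19249
theorem D21544 : act 4 n19249 = n21544 := rfl
theorem F40841 : act 1 n21544 = n19250 := d7_1 D21544 (iv D19250) (iv F35371)
theorem F40842 : act 3 n21544 = n19311 := d12_1 D21544 (iv D19311) (iv D16493) (iv F29163) D19249
def n21545 : Q := act 5 n19250
theorem D21545 : act 5 n19250 = n21545 := rfl
theorem F40843 : act 0 n21545 = n19253 := d4_1 D21545 (iv D19253) (iv F35372)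
theorem F40844 : act 3 n21545 = n19312 := d13_1 D21545 (iv D19312) (iv F35373)
def n21546 : Q := act 0 n19251
theorem D21546 : act 0 n19251 = n21546 := rfl
theorem F40845 : act 2 n21546 = n19369 := d1_2 (iv F35374) D21546 F35637
theorem F40846 : act 3 n21546 = n19343 := d2_2 F40768 D21546 (iv F40766)
def n21547 : Q := act 4 n19251
theorem D21547 : act 4 n19251 = n21547 := rfl
theorem F40847 : act 1 n21547 = n19252 := d7_1 D21547 (iv D19252) D19251
theorem F40848 : act 2 n21547 = n19370 := d10_1 D21547 (iv D19370) (iv F35374)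
def n21548 : Q := act 3 n19252
theorem D21548 : act 3 n19252 = n21548 := rfl
def n21549 : Q := act 5 n19252
theorem D21549 : act 5 n19252 = n21549 := rfl
theorem F40849 : act 2 n21549 = n19253 := d11_1 D21549 (iv D19253) (iv F35375)
def n21550 : Q := act 3 n19254
theorem D21550 : act 3 n19254 = n21550 := rfl
theorem F40850 : act 1 n21550 = n20175 := d6_1 D21550 F37525 F37452
theorem F40851 : act 5 n21550 = n20173 := d13_2 F37933 D21550 (iv F37932)
def n21551 : Q := act 4 n19254
theorem D21551 : act 4 n19254 = n21551 := rfl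
theorem F40852 : act 2 n21551 = n19255 := d10_1 D21551 (iv D19255) D19254
def n21552 : Q := act 5 n19255
theorem D21552 : act 5 n19255 = n21552 := rfl
theorem F40853 : act 1 n21552 = n19256 := d8_1 D21552 (iv D19256) (iv F35377)
def n21553 : Q := act 5 n19258
theorem D21553 : act 5 n19258 = n21553 := rfl
theorem F40854 : act 0 n21553 = n19260 := d4_1 D21553 (iv D19260) D19258
theorem F40855 : act 2 n21553 = n19266 := d11_1 D21553 (iv D19266) (iv F35382)
def n21554 : Q := act 5 n19259
theorem D21554 : act 5 n19259 = n21554 := rfl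
theorem F40856 : act 1 n21554 = n19263 := d8_1 D21554 (iv D19263) (iv F35383)
theorem F40857 : act 3 n21554 = n19260 := d13_1 D21554 (iv D19260) D19259
def n21555 : Q := act 4 n19260
theorem D21555 : act 4 n19260 = n21555 := rfl
theorem F40858 : act 1 n21555 = n19264 := d7_1 D21555 (iv D19264) (iv F35384)
theorem F40859 : act 2 n21555 = n19269 := d10_1 D21555 (iv D19269) (iv F35385)
def n21556 : Q := act 3 n19264
theorem D21556 : act 3 n19264 = n21556 := rfl
def n21557 : Q := act 2 n19265
theorem D21557 : act 2 n19265 = n21557 := rfl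
theorem F40860 : act 0 n21557 = n19267 := d1_1 D21557 (iv D19267) (iv F35397)
theorem F40861 : act 1 n21557 = n20898 := d5_1 D21557 (iv D20898) (iv F38061) F38062 (iv F35398)
theorem F40862 : act 5 n21557 = n21159 := d11_2 F35399 D21557 F39875
def n21558 : Q := act 4 n19265
theorem D21558 : act 4 n19265 = n21558 := rfl
theorem F40863 : act 0 n21558 = n19268 := d3_1 D21558 (iv D19268) (iv F35397)
theorem F40864 : act 1 n21558 = n21179 := d7_1 D21558 (iv D21179) (iv F35398)
def n21559 : Q := act 4 n19266
theorem D21559 : act 4 n19266 = n21559 := rfl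
theorem F40865 : act 0 n21559 = n19269 := d3_1 D21559 (iv D19269) (iv F35400)
theorem F40866 : act 1 n21559 = n21178 := d7_1 D21559 (iv D21178) (iv F35401)
def n21560 : Q := act 3 n19267
theorem D21560 : act 3 n19267 = n21560 := rfl
theorem F40867 : act 1 n21560 = n21161 := d6_1 D21560 F39881 (iv F35403)
theorem F40868 : act 5 n21560 = n21160 := d13_2 (iv F35404) D21560 (iv D21160)
def n21561 : Q := act 4 n19267
theorem D21561 : act 4 n19267 = n21561 := rfl
theorem F40869 : act 1 n21561 = n21162 := d7_1 D21561 (iv D21162) (iv F35403)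
theorem F40870 : act 2 n21561 = n19268 := d10_1 D21561 (iv D19268) D19267
def n21562 : Q := act 5 n19268
theorem D21562 : act 5 n19268 = n21562 := rfl
theorem F40871 : act 1 n21562 = n19270 := d8_1 D21562 (iv D19270) (iv F35405)
theorem F40872 : act 4 n21562 = n21165 := d14_1 D21562 (iv D21165) F34184 F29174 D19268
def n21563 : Q := act 3 n19269
theorem D21563 : act 3 n19269 = n21563 := rfl
theorem F40873 : act 1 n21563 = n19271 := d6_1 D21563 (iv D19271) (iv F35406)
theorem F40874 : act 4 n21563 = n21164 := d12_2 D19269 D21563 (iv D21164) F34184 (iv F29176)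
def n21564 : Q := act 2 n19271
theorem D21564 : act 2 n19271 = n21564 := rfl
theorem F40875 : act 0 n21564 = n21176 := d1_1 D21564 F39911 (iv F35410)
theorem F40876 : act 4 n21564 = n21166 := d10_2 (iv F35411) D21564 (iv D21166)
def n21565 : Q := act 4 n19275
theorem D21565 : act 4 n19275 = n21565 := rfl
theorem F40877 : act 1 n21565 = n19276 := d7_1 D21565 (iv D19276) D19275
theorem F40878 : act 2 n21565 = n19554 := d10_1 D21565 F36109 F35826
theorem F40879 : act 5 n21565 = n19553 := d14_2 (iv F35823) D21565 (iv D19553) F29856 D19451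
def n21566 : Q := act 1 n19277
theorem D21566 : act 1 n19277 = n21566 := rfl
theorem F40880 : act 0 n21566 = n20083 := d0_1 D21566 F37331 F31008 (iv F29204) (iv F35421)
theorem F40881 : act 2 n21566 = n19546 := d5_2 D19277 D21566 F36083 F29811 (iv F29201)
theorem F40882 : act 4 n21566 = n20094 := d7_2 (iv F35422) D21566 F37350
theorem F40883 : act 5 n21566 = n19437 := d8_2 (iv F35423) D21566 F35779
def n21567 : Q := act 3 n19277
theorem D21567 : act 3 n19277 = n21567 := rfl
theorem F40884 : act 0 n21567 = n19278 := d2_1 D21567 (iv D19278) (iv F35421)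
theorem F40885 : act 5 n21567 = n19438 := d13_2 (iv F35423) D21567 (iv D19438)
def n21568 : Q := act 4 n19278
theorem D21568 : act 4 n19278 = n21568 := rfl
theorem F40886 : act 1 n21568 = n20118 := d7_1 D21568 F37388 (iv F35424)
theorem F40887 : act 3 n21568 = n20112 := d12_1 D21568 (iv D20112) F31078 (iv F29205) D19278
def n21569 : Q := act 3 n19279
theorem D21569 : act 3 n19279 = n21569 := rfl
theorem F40888 : act 0 n21569 = n19303 := d2_1 D21569 (iv D19303) (iv F35426)
def n21570 : Q := act 1 n19280
theorem D21570 : act 1 n19280 = n21570 := rfl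
theorem F40889 : act 2 n21570 = n19282 := d5_2 D19280 D21570 (iv D19282) (iv D16469) (iv F29215)
theorem F40890 : act 3 n21570 = n20664 := d6_2 F39343 D21570 (iv F39341)
theorem F40891 : act 4 n21570 = n20354 := d7_2 (iv F35429) D21570 (iv D20354)
def n21571 : Q := act 5 n19280
theorem D21571 : act 5 n19280 = n21571 := rfl
theorem F40892 : act 0 n21571 = n20360 := d4_1 D21571 (iv D20360) (iv F35428)
theorem F40893 : act 2 n21571 = n19281 := d11_1 D21571 (iv D19281) D19280
theorem F40894 : act 3 n21571 = n20614 := d13_1 D21571 F39344 F39343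
def n21572 : Q := act 4 n19281
theorem D21572 : act 4 n19281 = n21572 := rfl
theorem F40895 : act 0 n21572 = n20361 := d3_1 D21572 (iv D20361) (iv F35430)
theorem F40896 : act 1 n21572 = n19285 := d7_1 D21572 (iv D19285) (iv F35431)
theorem F40897 : act 3 n21572 = n20424 := d12_1 D21572 (iv D20424) F31959 (iv F29220) (iv F35432)
theorem F40898 : act 5 n21572 = n20357 := d14_2 D19281 D21572 (iv D20357) (iv D17709) (iv F29216)
def n21573 : Q := act 0 n19282
theorem D21573 : act 0 n19282 = n21573 := rfl
theorem F40899 : act 1 n21573 = n20376 := d0_2 D19282 D21573 (iv D20376) (iv D17727) (iv F29221)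
theorem F40900 : act 4 n21573 = n20371 := d3_2 (iv F35433) D21573 (iv D20371)
def n21574 : Q := act 4 n19284
theorem D21574 : act 4 n19284 = n21574 := rfl
theorem F40901 : act 0 n21574 = n20380 := d3_1 D21574 (iv D20380) (iv F35435)
theorem F40902 : act 2 n21574 = n19285 := d10_1 D21574 (iv D19285) (iv F35436)
theorem F40903 : act 3 n21574 = n20468 := d12_1 D21574 (iv D20468) (iv F34604) D21235 (iv F40092)
theorem F40904 : act 5 n21574 = n20375 := d14_2 D19284 D21574 (iv D20375) (iv D17725) (iv F29222)
def n21575 : Q := act 1 n19286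
theorem D21575 : act 1 n19286 = n21575 := rfl
theorem F40905 : act 2 n21575 = n19313 := d5_2 D19286 D21575 F35517 F29289 (iv F29226)
theorem F40906 : act 3 n21575 = n21175 := d6_2 (iv F35442) D21575 (iv D21175)
theorem F40907 : act 4 n21575 = n21354 := d7_2 F40765 D21575 (iv F40763)
theorem F40908 : act 5 n21575 = n19287 := d8_2 (iv F35441) D21575 (iv D19287)
theorem F40909 : act 0 n21364 = n21575 := d4_3 F40908 (iv F35445) D21364
def n21576 : Q := act 3 n19287
theorem D21576 : act 3 n19287 = n21576 := rfl
theorem F40910 : act 0 n21576 = n21363 := d2_1 D21576 (iv D21363) F35445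
theorem F40911 : act 1 n21576 = n19288 := d6_1 D21576 (iv D19288) D19287
theorem F40912 : act 4 n21576 = n21355 := d12_2 (iv F35444) D21576 (iv D21355) (iv D19043) (iv F29231)
theorem F40913 : act 5 n21576 = n21175 := d13_2 F40908 D21576 (iv F40906)
def n21577 : Q := act 4 n19289
theorem D21577 : act 4 n19289 = n21577 := rfl
theorem F40914 : act 0 n21577 = n19293 := d3_1 D21577 (iv D19293) (iv F35449)
theorem F40915 : act 1 n21577 = n20656 := d7_1 D21577 (iv D20656) F35451
theorem F40916 : act 2 n21577 = n19290 := d10_1 D21577 (iv D19290) D19289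
theorem F40917 : act 5 n19877 = n21577 := d11_0 F40916 (iv F35455) D19877
theorem F40918 : act 3 n19864 = n21577 := d15_3 (iv F24013) D17086 D19864 F40916 F35454 F29251 (iv F30489) (iv D17077) F24005
def n21578 : Q := act 3 n19291
theorem D21578 : act 3 n19291 = n21578 := rfl
theorem F40919 : act 0 n21578 = n19294 := d2_1 D21578 (iv D19294) (iv F35456)
theorem F40920 : act 1 n21578 = n20056 := d6_1 D21578 F37270 (iv F35457)
theorem F40921 : act 4 n21578 = n19876 := d12_2 D19291 D21578 F37792 (iv D20285) F31559
theorem F40922 : act 5 n21578 = n19296 := d13_2 (iv F35459) D21578 (iv D19296)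
theorem F40923 : act 2 n19440 = n21578 := d11_3 F40922 (iv F35477) D19440
def n21579 : Q := act 3 n19293
theorem D21579 : act 3 n19293 = n21579 := rfl
theorem F40924 : act 0 n21579 = n19864 := d2_1 D21579 F40918 F40914
theorem F40925 : act 1 n21579 = n20654 := d6_1 D21579 (iv D20654) (iv F35465)
theorem F40926 : act 4 n21579 = n20662 := d12_2 D19293 D21579 F38672 F35464 (iv D19292)
theorem F40927 : act 5 n21579 = n19883 := d13_2 F35467 D21579 (iv D19883)
theorem F40928 : act 2 n21579 = n19851 := d15_2 (iv F35466) D21579 (iv D19851) F30485 F24006 (iv F24030) D17099 F35455 F35452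
def n21580 : Q := act 2 n19294
theorem D21580 : act 2 n19294 = n21580 := rfl
theorem F40929 : act 0 n21580 = n19440 := d1_1 D21580 F40923 F40919
theorem F40930 : act 4 n21580 = n19880 := d10_2 (iv F35469) D21580 F36838
theorem F40931 : act 5 n21580 = n19297 := d11_2 (iv F35470) D21580 (iv D19297)
theorem F40932 : act 1 n20072 = n21580 := d8_3 F40931 (iv F35480) D20072
def n21581 : Q := act 1 n19295
theorem D21581 : act 1 n19295 = n21581 := rfl
theorem F40933 : act 0 n21581 = n20068 := d0_1 D21581 F37298 (iv F30983) (iv F32579) (iv F35471)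
theorem F40934 : act 2 n21581 = n20072 := d5_2 D19295 D21581 F40932 (iv D21580) F35468
theorem F40935 : act 4 n21581 = n20634 := d7_2 (iv F35472) D21581 F38615
theorem F40936 : act 5 n21581 = n19298 := d8_2 (iv F35473) D21581 (iv D19298)
def n21582 : Q := act 3 n19297
theorem D21582 : act 3 n19297 = n21582 := rfl
theorem F40937 : act 0 n21582 = n19439 := d2_1 D21582 (iv D19439) (iv F35478)
theorem F40938 : act 1 n21582 = n20071 := d6_1 D21582 (iv D20071) F35480
theorem F40939 : act 4 n21582 = n19438 := d12_2 (iv F35479) D21582 (iv D19438) (iv D16627) D16626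
theorem F40940 : act 2 n21582 = n21427 := d15_2 D19297 D21582 (iv D21427) F35075 D19122 (iv F35458) D21578 F40922 F35474
def n21583 : Q := act 3 n19298
theorem D21583 : act 3 n19298 = n21583 := rfl
theorem F40941 : act 0 n21583 = n20067 := d2_1 D21583 (iv D20067) (iv F35481)
theorem F40942 : act 1 n21583 = n19299 := d6_1 D21583 (iv D19299) D19298
theorem F40943 : act 4 n21583 = n20635 := d12_2 (iv F35483) D21583 (iv D20635) (iv D18068) (iv F30276)
def n21584 : Q := act 1 n19300
theorem D21584 : act 1 n19300 = n21584 := rfl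
theorem F40944 : act 2 n21584 = n19306 := d5_2 D19300 D21584 (iv D19306) (iv D16489) (iv F29260)
theorem F40945 : act 3 n21584 = n19992 := d6_2 (iv F35489) D21584 F37101
theorem F40946 : act 4 n21584 = n19302 := d7_2 (iv F35488) D21584 (iv D19302)
theorem F40947 : act 5 n21584 = n20879 := d8_2 F35490 D21584 F39223
theorem F40948 : act 0 n21584 = n21358 := d15_9 F40375 F34941 (iv F34959) (iv F37094) F37093 (iv F37105) F37104 D20879 (iv F40947)
def n21585 : Q := act 4 n19301
theorem D21585 : act 4 n19301 = n21585 := rfl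
theorem F40949 : act 0 n21585 = n20422 := d3_1 D21585 (iv D20422) (iv F35491)
theorem F40950 : act 1 n21585 = n19309 := d7_1 D21585 (iv D19309) (iv F35492)
theorem F40951 : act 2 n21585 = n20880 := d10_1 D21585 (iv D20880) (iv F35493)
theorem F40952 : act 3 n21585 = n20606 := d12_1 D21585 (iv D20606) F32418 (iv F29265) (iv F35494)
theorem F40953 : act 5 n21585 = n19305 := d14_2 D19301 D21585 (iv D19305) (iv D16488) (iv F29261)
def n21586 : Q := act 4 n19303
theorem D21586 : act 4 n19303 = n21586 := rfl
theorem F40954 : act 3 n21586 = n20881 := d12_1 D21586 (iv D20881) (iv F35489) F35488 D19303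
def n21587 : Q := act 5 n19303
theorem D21587 : act 5 n19303 = n21587 := rfl
theorem F40955 : act 2 n21587 = n19332 := d11_1 D21587 (iv F40402) F40401
theorem F40956 : act 3 n21587 = n19304 := d13_1 D21587 (iv D19304) D19303
def n21588 : Q := act 4 n19304
theorem D21588 : act 4 n19304 = n21588 := rfl
theorem F40957 : act 2 n21588 = n19305 := d10_1 D21588 (iv D19305) (iv F35497)
theorem F40958 : act 5 n21588 = n20880 := d14_2 D19304 D21588 (iv D20880) F35490 F35488
def n21589 : Q := act 5 n19306
theorem D21589 : act 5 n19306 = n21589 := rfl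
theorem F40959 : act 0 n21589 = n21360 := d4_1 D21589 (iv D21360) (iv F35499)
theorem F40960 : act 1 n21589 = n19308 := d8_1 D21589 (iv D19308) D19306
theorem F40961 : act 2 n21589 = n20879 := d11_1 D21589 (iv F40947) F40944
theorem F40962 : act 3 n21589 = n20053 := d13_1 D21589 (iv F37259) F35501
def n21590 : Q := act 3 n19310
theorem D21590 : act 3 n19310 = n21590 := rfl
theorem F40963 : act 1 n21590 = n21115 := d6_1 D21590 F39801 (iv F35510)
theorem F40964 : act 5 n21590 = n21142 := d13_2 (iv F35511) D21590 F39839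
def n21591 : Q := act 4 n19310
theorem D21591 : act 4 n19310 = n21591 := rfl
theorem F40965 : act 1 n21591 = n21117 := d7_1 D21591 (iv D21117) (iv F35510)
theorem F40966 : act 2 n21591 = n19311 := d10_1 D21591 (iv D19311) D19310
def n21592 : Q := act 5 n19311
theorem D21592 : act 5 n19311 = n21592 := rfl
theorem F40967 : act 1 n21592 = n19312 := d8_1 D21592 (iv D19312) (iv F35512)
theorem F40968 : act 4 n21592 = n21150 := d14_1 D21592 (iv D21150) (iv D18749) (iv F29276) D19311
def n21593 : Q := act 4 n19313
theorem D21593 : act 4 n19313 = n21593 := rfl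
theorem F40969 : act 0 n21593 = n21365 := d3_1 D21593 (iv D21365) (iv F35516)
theorem F40970 : act 1 n21593 = n19314 := d7_1 D21593 (iv D19314) (iv F35517)
theorem F40971 : act 2 n21593 = n21354 := d10_1 D21593 (iv F40907) F40905
theorem F40972 : act 3 n21593 = n21341 := d12_1 D21593 (iv D21341) F34895 D19026 (iv F35518)
theorem F40973 : act 5 n21593 = n19315 := d14_2 D19313 D21593 (iv D19315) (iv D16500) (iv F29284)
def n21594 : Q := act 3 n19314
theorem D21594 : act 3 n19314 = n21594 := rfl
theorem F40974 : act 1 n21594 = n21341 := d6_1 D21594 (iv F40972) F40970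
theorem F40975 : act 4 n21594 = n21337 := d12_2 D19314 D21594 F40340 F34889 F33277
theorem F40976 : act 5 n21594 = n19316 := d13_2 (iv F35520) D21594 (iv D19316)
def n21595 : Q := act 3 n19315
theorem D21595 : act 3 n19315 = n21595 := rfl
theorem F40977 : act 0 n21595 = n21366 := d2_1 D21595 (iv D21366) (iv F35521)
theorem F40978 : act 1 n21595 = n19316 := d6_1 D21595 (iv D19316) (iv F35522)
theorem F40979 : act 4 n21595 = n21340 := d12_2 D19315 D21595 F40347 F34921 (iv F29294)
theorem F40980 : act 5 n21595 = n21341 := d13_2 F40973 D21595 (iv F40972)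
def n21596 : Q := act 2 n19316
theorem D21596 : act 2 n19316 = n21596 := rfl
def n21597 : Q := act 4 n19317
theorem D21597 : act 4 n19317 = n21597 := rfl
theorem F40981 : act 0 n21597 = n19318 := d3_1 D21597 (iv D19318) D19317
theorem F40982 : act 1 n21597 = n21116 := d7_1 D21597 (iv D21116) (iv F35524)
def n21598 : Q := act 3 n19318
theorem D21598 : act 3 n19318 = n21598 := rfl
theorem F40983 : act 1 n21598 = n19319 := d6_1 D21598 (iv D19319) (iv F35527)
theorem F40984 : act 4 n21598 = n21088 := d12_2 D19318 D21598 (iv D21088) F34061 (iv F29296)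
def n21599 : Q := act 5 n19318
theorem D21599 : act 5 n19318 = n21599 := rfl
theorem F40985 : act 1 n21599 = n19320 := d8_1 D21599 (iv D19320) (iv F35527)
theorem F40986 : act 4 n21599 = n21129 := d14_1 D21599 (iv D21129) (iv D18728) (iv F29297) D19318
def n21600 : Q := act 2 n19319
theorem D21600 : act 2 n19319 = n21600 := rfl
theorem F40987 : act 0 n21600 = n21113 := d1_1 D21600 F39798 (iv F35528)
theorem F40988 : act 4 n21600 = n21089 := d10_2 (iv F35529) D21600 (iv D21089)
def n21601 : Q := act 5 n19319
theorem D21601 : act 5 n19319 = n21601 := rfl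
theorem F40989 : act 0 n21601 = n21114 := d4_1 D21601 (iv D21114) (iv F35528)
theorem F40990 : act 3 n21601 = n19320 := d13_1 D21601 (iv D19320) D19319
def n21602 : Q := act 4 n19322
theorem D21602 : act 4 n19322 = n21602 := rfl
theorem F40991 : act 0 n21602 = n19328 := d3_1 D21602 (iv D19328) (iv F35537)
theorem F40992 : act 2 n21602 = n19323 := d10_1 D21602 (iv D19323) (iv F35538)
theorem F40993 : act 5 n21602 = n20617 := d14_2 D19322 D21602 (iv D20617) (iv D18018) (iv F29301)
def n21603 : Q := act 5 n19326
theorem D21603 : act 5 n19326 = n21603 := rfl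
theorem F40994 : act 0 n21603 = n20616 := d4_1 D21603 (iv D20616) (iv F35549)
theorem F40995 : act 1 n21603 = n19373 := d8_1 D21603 F35642 (iv F35550)
theorem F40996 : act 3 n21603 = n20232 := d13_1 D21603 F37657 (iv F35551)
def n21604 : Q := act 4 n19327
theorem D21604 : act 4 n19327 = n21604 := rfl
theorem F40997 : act 1 n21604 = n19378 := d7_1 D21604 (iv D19378) (iv F35552)
def n21605 : Q := act 3 n19328
theorem D21605 : act 3 n19328 = n21605 := rfl
theorem F40998 : act 1 n21605 = n19379 := d6_1 D21605 (iv D19379) (iv F35554)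
theorem F40999 : act 5 n21605 = n21184 := d13_2 (iv F35556) D21605 (iv D21184)
def n21606 : Q := act 2 n19329
theorem D21606 : act 2 n19329 = n21606 := rfl
theorem F41000 : act 4 n21606 = n19330 := d10_2 (iv F35558) D21606 (iv D19330)
theorem F41001 : act 5 n21606 = n20631 := d11_2 (iv F35559) D21606 F38612
def n21607 : Q := act 4 n19332
theorem D21607 : act 4 n19332 = n21607 := rfl
theorem F41002 : act 3 n21607 = n20630 := d12_1 D21607 (iv D20630) (iv D18050) (iv F29314) D19332
def n21608 : Q := act 1 n19333
theorem D21608 : act 1 n19333 = n21608 := rfl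
theorem F41003 : act 3 n21608 = n19360 := d6_2 (iv F35566) D21608 (iv D19360)
theorem F41004 : act 4 n21608 = n19334 := d7_2 (iv F35564) D21608 (iv D19334)
theorem F41005 : act 5 n21608 = n20633 := d8_2 (iv F35565) D21608 F38614
def n21609 : Q := act 3 n19335
theorem D21609 : act 3 n19335 = n21609 := rfl
theorem F41006 : act 0 n21609 = n19348 := d2_1 D21609 (iv D19348) (iv F35569)
theorem F41007 : act 1 n21609 = n20631 := d6_1 D21609 (iv F40792) F40791
theorem F41008 : act 4 n21609 = n19361 := d12_2 D19335 D21609 (iv D19361) (iv D16548) (iv F29332)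
theorem F41009 : act 2 n20633 = n21609 := d10_3 F41008 F35617 D20633
def n21610 : Q := act 3 n19336
theorem D21610 : act 3 n19336 = n21610 := rfl
theorem F41010 : act 0 n21610 = n19337 := d2_1 D21610 (iv D19337) D19336
def n21611 : Q := act 5 n19336
theorem D21611 : act 5 n19336 = n21611 := rfl
theorem F41011 : act 0 n21611 = n19338 := d4_1 D21611 (iv D19338) D19336
theorem F41012 : act 2 n21611 = n19350 := d11_1 D21611 (iv D19350) (iv F35571)
def n21612 : Q := act 2 n19337
theorem D21612 : act 2 n19337 = n21612 := rfl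
def n21613 : Q := act 4 n19337
theorem D21613 : act 4 n19337 = n21613 := rfl
theorem F41013 : act 1 n21613 = n19339 := d7_1 D21613 (iv D19339) (iv F35573)
theorem F41014 : act 3 n21613 = n19344 := d12_1 D21613 (iv D19344) (iv D16526) (iv F29335) D19337
def n21614 : Q := act 4 n19338
theorem D21614 : act 4 n19338 = n21614 := rfl
theorem F41015 : act 1 n21614 = n19340 := d7_1 D21614 (iv D19340) (iv F35574)
theorem F41016 : act 2 n21614 = n19353 := d10_1 D21614 (iv D19353) (iv F35575)
theorem F41017 : act 5 n21614 = n19346 := d14_2 D19338 D21614 (iv D19346) (iv D16527) (iv F29335)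
def n21615 : Q := act 5 n19339
theorem D21615 : act 5 n19339 = n21615 := rfl
theorem F41018 : act 2 n21615 = n21595 := d11_1 D21615 F40980 F40348
theorem F41019 : act 3 n21615 = n19347 := d13_1 D21615 (iv D19347) (iv F35576)
def n21616 : Q := act 3 n19340
theorem D21616 : act 3 n19340 = n21616 := rfl
theorem F41020 : act 5 n21616 = n19348 := d13_2 (iv F35578) D21616 (iv D19348)
def n21617 : Q := act 4 n19341
theorem D21617 : act 4 n19341 = n21617 := rfl
theorem F41021 : act 0 n21617 = n19344 := d3_1 D21617 (iv D19344) (iv F35579)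
def n21618 : Q := act 4 n19342
theorem D21618 : act 4 n19342 = n21618 := rfl
theorem F41022 : act 0 n21618 = n19346 := d3_1 D21618 (iv D19346) (iv F35580)
theorem F41023 : act 2 n21618 = n19358 := d10_1 D21618 (iv D19358) (iv F35581)
def n21619 : Q := act 4 n19343
theorem D21619 : act 4 n19343 = n21619 := rfl
theorem F41024 : act 2 n21619 = n19344 := d10_1 D21619 (iv D19344) D19343
def n21620 : Q := act 5 n19344
theorem D21620 : act 5 n19344 = n21620 := rfl
theorem F41025 : act 1 n21620 = n19347 := d8_1 D21620 (iv D19347) (iv F35582)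
def n21621 : Q := act 3 n19346
theorem D21621 : act 3 n19346 = n21621 := rfl
theorem F41026 : act 1 n21621 = n19348 := d6_1 D21621 (iv D19348) (iv F35585)
def n21622 : Q := act 2 n19348
theorem D21622 : act 2 n19348 = n21622 := rfl
theorem F41027 : act 0 n21622 = n20633 := d1_1 D21622 F41009 F41006
theorem F41028 : act 4 n21622 = n20632 := d10_2 F40446 D21622 (iv F40445)
def n21623 : Q := act 2 n19349
theorem D21623 : act 2 n19349 = n21623 := rfl
theorem F41029 : act 0 n21623 = n19351 := d1_1 D21623 (iv D19351) (iv F35587)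
theorem F41030 : act 1 n21623 = n19979 := d5_1 D21623 F37063 (iv F35138) F35139 (iv F35588)
theorem F41031 : act 5 n21623 = n19363 := d11_2 F35589 D21623 F35623
def n21624 : Q := act 4 n19349
theorem D21624 : act 4 n19349 = n21624 := rfl
theorem F41032 : act 0 n21624 = n19352 := d3_1 D21624 (iv D19352) (iv F35587)
theorem F41033 : act 1 n21624 = n19375 := d7_1 D21624 (iv D19375) (iv F35588)
theorem F41034 : act 3 n21624 = n19357 := d12_1 D21624 (iv D19357) (iv D16540) (iv F29348) D19349
theorem F41035 : act 5 n21624 = n19357 := d14_2 F35589 D21624 (iv D19357) (iv F29373) (iv F29397)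
def n21625 : Q := act 4 n19350
theorem D21625 : act 4 n19350 = n21625 := rfl
theorem F41036 : act 0 n21625 = n19353 := d3_1 D21625 (iv D19353) (iv F35590)
theorem F41037 : act 1 n21625 = n19374 := d7_1 D21625 (iv D19374) (iv F35591)
theorem F41038 : act 3 n21625 = n19358 := d12_1 D21625 (iv D19358) F29376 (iv F29397) (iv F35592)
theorem F41039 : act 5 n21625 = n19358 := d14_2 D19350 D21625 (iv D19358) (iv D16541) (iv F29348)
def n21626 : Q := act 3 n19351
theorem D21626 : act 3 n19351 = n21626 := rfl
theorem F41040 : act 1 n21626 = n19367 := d6_1 D21626 F35633 (iv F35593)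
theorem F41041 : act 5 n21626 = n19364 := d13_2 (iv F35594) D21626 (iv D19364)
def n21627 : Q := act 4 n19351
theorem D21627 : act 4 n19351 = n21627 := rfl
theorem F41042 : act 1 n21627 = n19368 := d7_1 D21627 (iv D19368) (iv F35593)
theorem F41043 : act 2 n21627 = n19352 := d10_1 D21627 (iv D19352) D19351
theorem F41044 : act 5 n21627 = n19359 := d14_2 (iv F35594) D21627 (iv D19359) F29378 (iv F29385)
def n21628 : Q := act 1 n19354
theorem D21628 : act 1 n19354 = n21628 := rfl
theorem F41045 : act 3 n21628 = n20633 := d6_2 (iv F35602) D21628 F38614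
theorem F41046 : act 4 n21628 = n19355 := d7_2 (iv F35603) D21628 (iv D19355)
theorem F41047 : act 5 n21628 = n19360 := d8_2 (iv F35604) D21628 (iv D19360)
def n21629 : Q := act 4 n19356
theorem D21629 : act 4 n19356 = n21629 := rfl
theorem F41048 : act 0 n21629 = n19359 := d3_1 D21629 (iv D19359) (iv F35607)
theorem F41049 : act 2 n21629 = n19357 := d10_1 D21629 (iv D19357) D19356
def n21630 : Q := act 3 n19359
theorem D21630 : act 3 n19359 = n21630 := rfl
theorem F41050 : act 1 n21630 = n19372 := d6_1 D21630 (iv D19372) (iv F35613)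
def n21631 : Q := act 3 n19363
theorem D21631 : act 3 n19363 = n21631 := rfl
theorem F41051 : act 0 n21631 = n19364 := d2_1 D21631 (iv D19364) D19363
theorem F41052 : act 1 n21631 = n19978 := d6_1 D21631 (iv D19978) (iv F35622)
def n21632 : Q := act 2 n19364
theorem D21632 : act 2 n19364 = n21632 := rfl
def n21633 : Q := act 4 n19364
theorem D21633 : act 4 n19364 = n21633 := rfl
theorem F41053 : act 1 n21633 = n19366 := d7_1 D21633 (iv D19366) (iv F35625)
theorem F41054 : act 3 n21633 = n19370 := d12_1 D21633 (iv D19370) (iv D16555) (iv F29385) D19364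
def n21634 : Q := act 1 n19365
theorem D21634 : act 1 n19365 = n21634 := rfl
theorem F41055 : act 3 n21634 = n19650 := d6_2 (iv F35627) D21634 F36350
theorem F41056 : act 5 n21634 = n19649 := d8_2 F35628 D21634 F36349
def n21635 : Q := act 4 n19365
theorem D21635 : act 4 n19365 = n21635 := rfl
theorem F41057 : act 0 n21635 = n19984 := d3_1 D21635 (iv D19984) (iv F35626)
theorem F41058 : act 2 n21635 = n19366 := d10_1 D21635 (iv D19366) D19365
def n21636 : Q := act 5 n19366
theorem D21636 : act 5 n19366 = n21636 := rfl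
theorem F41059 : act 0 n21636 = n19985 := d4_1 D21636 (iv D19985) (iv F35629)
theorem F41060 : act 3 n21636 = n19371 := d13_1 D21636 (iv D19371) (iv F35630)
def n21637 : Q := act 4 n19367
theorem D21637 : act 4 n19367 = n21637 := rfl
theorem F41061 : act 0 n21637 = n19986 := d3_1 D21637 (iv D19986) (iv F35631)
theorem F41062 : act 2 n21637 = n19651 := d10_1 D21637 (iv D19651) (iv F35632)
def n21638 : Q := act 4 n19369
theorem D21638 : act 4 n19369 = n21638 := rfl
theorem F41063 : act 0 n21638 = n19370 := d3_1 D21638 (iv D19370) (iv F35637)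
def n21639 : Q := act 5 n19370
theorem D21639 : act 5 n19370 = n21639 := rfl
theorem F41064 : act 1 n21639 = n19371 := d8_1 D21639 (iv D19371) (iv F35638)
def n21640 : Q := act 4 n19373
theorem D21640 : act 4 n19373 = n21640 := rfl
theorem F41065 : act 0 n21640 = n19377 := d3_1 D21640 (iv D19377) (iv F35641)
theorem F41066 : act 2 n21640 = n19374 := d10_1 D21640 (iv D19374) D19373
theorem F41067 : act 5 n21640 = n19378 := d14_2 (iv F35642) D21640 (iv D19378) (iv F35545) F35544
def n21641 : Q := act 4 n19376
theorem D21641 : act 4 n19376 = n21641 := rfl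
theorem F41068 : act 0 n21641 = n20202 := d3_1 D21641 F37575 (iv F35651)
theorem F41069 : act 1 n21641 = n20209 := d7_1 D21641 F37598 (iv F35652)
theorem F41070 : act 2 n21641 = n20201 := d10_1 D21641 F37573 (iv F35654)
theorem F41071 : act 5 n21641 = n20202 := d14_2 (iv F35653) D21641 F37575 (iv F37648) F37647
def n21642 : Q := act 3 n19377
theorem D21642 : act 3 n19377 = n21642 := rfl
theorem F41072 : act 1 n21642 = n21184 := d6_1 D21642 (iv D21184) (iv F35655)
theorem F41073 : act 5 n21642 = n19379 := d13_2 (iv F35657) D21642 (iv D19379)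
def n21643 : Q := act 3 n19378
theorem D21643 : act 3 n19378 = n21643 := rfl
theorem F41074 : act 0 n21643 = n19379 := d2_1 D21643 (iv D19379) (iv F35658)
theorem F41075 : act 4 n21643 = n19379 := d12_2 D19378 D21643 (iv D19379) (iv D16567) (iv F29412)
def n21644 : Q := act 2 n19379
theorem D21644 : act 2 n19379 = n21644 := rfl
def n21645 : Q := act 3 n19381
theorem D21645 : act 3 n19381 = n21645 := rfl
theorem F41076 : act 0 n21645 = n19383 := d2_1 D21645 (iv D19383) (iv F35665)
theorem F41077 : act 1 n21645 = n19425 := d6_1 D21645 (iv F39356) F39355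
theorem F41078 : act 2 n21645 = n20576 := d9_1 D21645 F38474 F37744 F31518 F25020 F22938 (iv F22961) D16593 D19403 (iv F37736) (iv D20263) (iv D17583) F25016 D16571 D19381
theorem F41079 : act 5 n21645 = n19401 := d13_2 (iv F35666) D21645 (iv D19401)
def n21646 : Q := act 4 n19381
theorem D21646 : act 4 n19381 = n21646 := rfl
theorem F41080 : act 0 n21646 = n19384 := d3_1 D21646 (iv D19384) (iv F35665)
theorem F41081 : act 2 n21646 = n19382 := d10_1 D21646 (iv D19382) D19381
def n21647 : Q := act 5 n19382
theorem D21647 : act 5 n19382 = n21647 := rfl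
theorem F41082 : act 0 n21647 = n19385 := d4_1 D21647 (iv D19385) (iv F35667)
theorem F41083 : act 1 n21647 = n19388 := d8_1 D21647 (iv D19388) (iv F35668)
theorem F41084 : act 4 n21647 = n19413 := d14_1 D21647 (iv D19413) (iv D16601) (iv F29429) D19382
def n21648 : Q := act 2 n19383
theorem D21648 : act 2 n19383 = n21648 := rfl
theorem F41085 : act 0 n21648 = n20576 := d1_1 D21648 (iv F41078) F41076
theorem F41086 : act 1 n21648 = n19422 := d5_1 D21648 (iv D19422) F29485 (iv F29470) (iv F35669)
theorem F41087 : act 3 n21648 = n20652 := d9_2 D19383 D21648 (iv D20652) (iv D18101) (iv F27309) (iv F27311) (iv F29463) D19401 (iv F37741) (iv D20265) (iv D17584) (iv D14543) F19317 D13493 D16572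
theorem F41088 : act 5 n21648 = n19403 := d11_2 (iv F35670) D21648 (iv D19403)
def n21649 : Q := act 4 n19383
theorem D21649 : act 4 n19383 = n21649 := rfl
theorem F41089 : act 1 n21649 = n19409 := d7_1 D21649 (iv D19409) (iv F35669)
def n21650 : Q := act 3 n19384
theorem D21650 : act 3 n19384 = n21650 := rfl
theorem F41090 : act 1 n21650 = n19411 := d6_1 D21650 (iv D19411) (iv F35671)
def n21651 : Q := act 5 n19384
theorem D21651 : act 5 n19384 = n21651 := rfl
theorem F41091 : act 1 n21651 = n19410 := d8_1 D21651 F35722 (iv F35671)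
theorem F41092 : act 2 n21651 = n19385 := d11_1 D21651 (iv D19385) (iv F35672)
theorem F41093 : act 4 n21651 = n19406 := d14_1 D21651 (iv D19406) (iv D16594) (iv F29431) D19384
def n21652 : Q := act 2 n19389
theorem D21652 : act 2 n19389 = n21652 := rfl
def n21653 : Q := act 2 n19390
theorem D21653 : act 2 n19390 = n21653 := rfl
theorem F41094 : act 4 n21653 = n19397 := d10_2 (iv F35681) D21653 (iv D19397)
def n21654 : Q := act 1 n19393
theorem D21654 : act 1 n19393 = n21654 := rfl
theorem F41095 : act 0 n21654 = n19394 := d0_1 D21654 (iv D19394) (iv F35677) F37447 (iv F35687)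
theorem F41096 : act 4 n21654 = n19394 := d7_2 (iv F35688) D21654 (iv D19394)
def n21655 : Q := act 3 n19394
theorem D21655 : act 3 n19394 = n21655 := rfl
theorem F41097 : act 1 n21655 = n19395 := d6_1 D21655 (iv D19395) D19394
def n21656 : Q := act 4 n19395
theorem D21656 : act 4 n19395 = n21656 := rfl
theorem F41098 : act 0 n21656 = n20257 := d3_1 D21656 F37717 F37443
theorem F41099 : act 2 n21656 = n20158 := d10_1 D21656 F37502 (iv F35689)
theorem F41100 : act 3 n21656 = n21260 := d12_1 D21656 F40149 F39994 F35688 D19395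
theorem F41101 : act 5 n21656 = n21255 := d14_2 F37733 D21656 (iv D21255) F34755 F37734
def n21657 : Q := act 3 n19397
theorem D21657 : act 3 n19397 = n21657 := rfl
theorem F41102 : act 0 n21657 = n21247 := d2_1 D21657 F40120 F39770
theorem F41103 : act 2 n21657 = n21243 := d9_1 D21657 (iv D21243) (iv D18925) (iv D16074) F22116 D15831 D18700 D21099 (iv F40124) F40125 F34675 F28388 (iv F22952) D16588 D19397
theorem F41104 : act 5 n21657 = n21245 := d13_2 (iv F35695) D21657 (iv D21245)
theorem F41105 : act 4 n21596 = n21657 := d10_0 F41103 F40115 D21596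
def n21658 : Q := act 4 n19399
theorem D21658 : act 4 n19399 = n21658 := rfl
theorem F41106 : act 1 n21658 = n19400 := d7_1 D21658 (iv D19400) (iv F35699)
def n21659 : Q := act 3 n19400
theorem D21659 : act 3 n19400 = n21659 := rfl
theorem F41107 : act 0 n21659 = n19411 := d2_1 D21659 (iv D19411) (iv F35701)
theorem F41108 : act 4 n21659 = n19427 := d12_2 D19400 D21659 (iv D19427) (iv D16612) (iv F29461)
def n21660 : Q := act 5 n19402
theorem D21660 : act 5 n19402 = n21660 := rfl
theorem F41109 : act 0 n21660 = n19406 := d4_1 D21660 (iv D19406) (iv F35705)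
theorem F41110 : act 2 n21660 = n19413 := d11_1 D21660 (iv D19413) (iv F35706)
def n21661 : Q := act 5 n19404
theorem D21661 : act 5 n19404 = n21661 := rfl
theorem F41111 : act 1 n21661 = n19408 := d8_1 D21661 (iv D19408) (iv F35709)
theorem F41112 : act 2 n21661 = n20884 := d11_1 D21661 F39229 (iv F35710)
def n21662 : Q := act 5 n19407
theorem D21662 : act 5 n19407 = n21662 := rfl
theorem F41113 : act 0 n21662 = n20585 := d4_1 D21662 (iv D20585) (iv F35714)
theorem F41114 : act 2 n21662 = n20587 := d11_1 D21662 F38501 (iv F35716)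
theorem F41115 : act 3 n21662 = n19408 := d13_1 D21662 (iv D19408) D19407
def n21663 : Q := act 4 n19408
theorem D21663 : act 4 n19408 = n21663 := rfl
theorem F41116 : act 0 n21663 = n19428 := d3_1 D21663 F35751 (iv F35717)
theorem F41117 : act 2 n21663 = n19424 := d10_1 D21663 F35745 (iv F35718)
theorem F41118 : act 5 n21663 = n19409 := d14_2 D19408 D21663 (iv D19409) (iv D16596) D16595
def n21664 : Q := act 3 n19409
theorem D21664 : act 3 n19409 = n21664 := rfl
theorem F41119 : act 0 n21664 = n19427 := d2_1 D21664 (iv D19427) (iv F35719)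
theorem F41120 : act 4 n21664 = n19411 := d12_2 D19409 D21664 (iv D19411) (iv D16599) (iv F29471)
def n21665 : Q := act 3 n19410
theorem D21665 : act 3 n19410 = n21665 := rfl
theorem F41121 : act 5 n21665 = n19411 := d13_2 (iv F35722) D21665 (iv D19411)
def n21666 : Q := act 2 n19411
theorem D21666 : act 2 n19411 = n21666 := rfl
def n21667 : Q := act 5 n19412
theorem D21667 : act 5 n19412 = n21667 := rfl
theorem F41122 : act 0 n21667 = n19415 := d4_1 D21667 (iv D19415) (iv F35723)
theorem F41123 : act 2 n21667 = n19938 := d11_1 D21667 (iv F39394) F39395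
theorem F41124 : act 3 n21667 = n19413 := d13_1 D21667 (iv D19413) D19412
def n21668 : Q := act 4 n19415
theorem D21668 : act 4 n19415 = n21668 := rfl
theorem F41125 : act 1 n21668 = n19419 := d7_1 D21668 (iv D19419) (iv F35725)
def n21669 : Q := act 4 n19418
theorem D21669 : act 4 n19418 = n21669 := rfl
theorem F41126 : act 0 n21669 = n21261 := d3_1 D21669 F40150 F39989
theorem F41127 : act 2 n21669 = n19419 := d10_1 D21669 (iv D19419) (iv F35729)
theorem F41128 : act 3 n21669 = n20338 := d12_1 D21669 F37919 (iv D18853) (iv F34423) (iv F35730)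
def n21670 : Q := act 4 n19422
theorem D21670 : act 4 n19422 = n21670 := rfl
theorem F41129 : act 0 n21670 = n20554 := d3_1 D21670 (iv D20554) (iv F35735)
theorem F41130 : act 2 n21670 = n19423 := d10_1 D21670 (iv D19423) D19422
theorem F41131 : act 5 n21670 = n20883 := d14_2 (iv F35736) D21670 F39227 F33349 (iv F32289)
def n21671 : Q := act 4 n19425
theorem D21671 : act 4 n19425 = n21671 := rfl
theorem F41132 : act 0 n21671 = n19426 := d3_1 D21671 (iv D19426) D19425
theorem F41133 : act 2 n21671 = n19768 := d10_1 D21671 (iv D19768) (iv F35746)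
def n21672 : Q := act 3 n19426
theorem D21672 : act 3 n19426 = n21672 := rfl
theorem F41134 : act 1 n21672 = n19427 := d6_1 D21672 (iv D19427) (iv F35748)
def n21673 : Q := act 5 n19426
theorem D21673 : act 5 n19426 = n21673 := rfl
theorem F41135 : act 1 n21673 = n19428 := d8_1 D21673 (iv D19428) (iv F35748)
theorem F41136 : act 2 n21673 = n19770 := d11_1 D21673 (iv D19770) (iv F35749)
theorem F41137 : act 4 n21673 = n20392 := d14_1 D21673 F38069 (iv D17978) (iv F29490) D19426
def n21674 : Q := act 2 n19427
theorem D21674 : act 2 n19427 = n21674 := rfl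
theorem F41138 : act 3 n21674 = n20442 := d15_3 (iv F29491) D19427 D21674 F38201 F32052 (iv F32139) (iv F35744) (iv D19424) F29487
theorem F41139 : act 5 n20448 = n21674 := d13_0 F41138 F38202 D20448
def n21675 : Q := act 5 n19427
theorem D21675 : act 5 n19427 = n21675 := rfl
theorem F41140 : act 2 n21675 = n20448 := d11_1 D21675 F41139 (iv D21674)
theorem F41141 : act 3 n21675 = n19428 := d13_1 D21675 (iv D19428) D19427
def n21676 : Q := act 4 n19429
theorem D21676 : act 4 n19429 = n21676 := rfl
theorem F41142 : act 0 n21676 = n19432 := d3_1 D21676 (iv D19432) (iv F35752)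
theorem F41143 : act 2 n21676 = n19430 := d10_1 D21676 (iv D19430) D19429
theorem F41144 : act 3 n21676 = n19809 := d12_1 D21676 F36719 F35794 (iv D19443) (iv F35753)
theorem F41145 : act 5 n21676 = n19562 := d14_2 (iv F35754) D21676 F36143 (iv F33769) D18595
def n21677 : Q := act 4 n19431
theorem D21677 : act 4 n19431 = n21677 := rfl
theorem F41146 : act 0 n21677 = n19443 := d3_1 D21677 (iv D19443) (iv F35759)
theorem F41147 : act 2 n21677 = n19442 := d10_1 D21677 (iv D19442) (iv F35760)
theorem F41148 : act 3 n21677 = n19811 := d12_1 D21677 F36723 F35764 (iv D19432) D19431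
theorem F41149 : act 5 n21677 = n19566 := d14_2 (iv F35761) D21677 F36154 (iv D19263) D19262
def n21678 : Q := act 4 n19434
theorem D21678 : act 4 n19434 = n21678 := rfl
theorem F41150 : act 0 n21678 = n19436 := d3_1 D21678 (iv D19436) (iv F35770)
theorem F41151 : act 1 n21678 = n19547 := d7_1 D21678 (iv D19547) (iv F35771)
theorem F41152 : act 2 n21678 = n19863 := d10_1 D21678 (iv D19863) (iv F35772)
theorem F41153 : act 3 n21678 = n19549 := d12_1 D21678 (iv D19549) (iv D16749) (iv F29526) D19434
theorem F41154 : act 5 n21678 = n21083 := d14_2 (iv F35773) D21678 F39732 F39591 (iv D19860)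
def n21679 : Q := act 1 n19435
theorem D21679 : act 1 n19435 = n21679 := rfl
theorem F41155 : act 2 n21679 = n20372 := d5_2 D19435 D21679 F38014 F31837 (iv F29528)
theorem F41156 : act 3 n21679 = n19849 := d6_2 (iv F35775) D21679 F36785
theorem F41157 : act 5 n21679 = n19847 := d8_2 (iv F35776) D21679 F36782
def n21680 : Q := act 4 n19435
theorem D21680 : act 4 n19435 = n21680 := rfl
theorem F41158 : act 0 n21680 = n19863 := d3_1 D21680 (iv D19863) (iv F35774)
theorem F41159 : act 2 n21680 = n19436 := d10_1 D21680 (iv D19436) D19435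
def n21681 : Q := act 5 n19436
theorem D21681 : act 5 n19436 = n21681 := rfl
theorem F41160 : act 0 n21681 = n21083 := d4_1 D21681 (iv F41154) F41150
theorem F41161 : act 1 n21681 = n20396 := d8_1 D21681 F38075 (iv F35777)
theorem F41162 : act 3 n21681 = n21082 := d13_1 D21681 (iv F40811) F40810
theorem F41163 : act 4 n21681 = n20393 := d14_1 D21681 (iv D20393) (iv D17744) (iv F29529) D19436
def n21682 : Q := act 3 n19437
theorem D21682 : act 3 n19437 = n21682 := rfl
theorem F41164 : act 0 n21682 = n20074 := d2_1 D21682 F37311 (iv F35778)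
theorem F41165 : act 1 n21682 = n19438 := d6_1 D21682 (iv D19438) (iv F35779)
theorem F41166 : act 4 n21682 = n20071 := d12_2 D19437 D21682 (iv D20071) F30987 F29532
def n21683 : Q := act 5 n19439
theorem D21683 : act 5 n19439 = n21683 := rfl
theorem F41167 : act 1 n21683 = n20063 := d8_1 D21683 (iv D20063) (iv F35781)
theorem F41168 : act 2 n21683 = n21414 := d11_1 D21683 F40513 (iv F35783)
theorem F41169 : act 3 n21683 = n19440 := d13_1 D21683 (iv D19440) D19439
def n21684 : Q := act 2 n19456
theorem D21684 : act 2 n19456 = n21684 := rfl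
theorem F41170 : act 0 n21684 = n19458 := d1_1 D21684 (iv D19458) (iv F35840)
theorem F41171 : act 4 n21684 = n20734 := d10_2 (iv F35842) D21684 (iv D20734)
def n21685 : Q := act 1 n19469
theorem D21685 : act 1 n19469 = n21685 := rfl
theorem F41172 : act 2 n21685 = n20317 := d5_2 D19469 D21685 F37863 F31661 (iv F29636)
theorem F41173 : act 3 n21685 = n19476 := d6_2 (iv F35884) D21685 F35898
theorem F41174 : act 4 n21685 = n19524 := d7_2 (iv F35885) D21685 (iv D19524)
theorem F41175 : act 5 n21685 = n19475 := d8_2 (iv F35886) D21685 F35895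
def n21686 : Q := act 0 n19470
theorem D21686 : act 0 n19470 = n21686 := rfl
theorem F41176 : act 2 n21686 = n19474 := d1_2 (iv F35887) D21686 (iv D19474)
theorem F41177 : act 4 n21686 = n19569 := d3_2 (iv F35888) D21686 (iv D19569)
def n21687 : Q := act 3 n19470
theorem D21687 : act 3 n19470 = n21687 := rfl
theorem F41178 : act 1 n21687 = n19471 := d6_1 D21687 (iv D19471) D19470
def n21688 : Q := act 5 n19470
theorem D21688 : act 5 n19470 = n21688 := rfl
theorem F41179 : act 1 n21688 = n19472 := d8_1 D21688 (iv D19472) D19470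
theorem F41180 : act 2 n21688 = n19476 := d11_1 D21688 (iv D19476) (iv F35887)
def n21689 : Q := act 2 n19471
theorem D21689 : act 2 n19471 = n21689 := rfl
theorem F41181 : act 3 n21689 = n19472 := d15_3 D16670 D19471 D21689 F35889 F29641 (iv F23532) (iv F29944) (iv D16803) F23527
theorem F41182 : act 5 n19471 = n21689 := d13_0 F41181 (iv D19472) D19471
def n21690 : Q := act 4 n19471
theorem D21690 : act 4 n19471 = n21690 := rfl
theorem F41183 : act 3 n21690 = n19571 := d12_1 D21690 (iv D19571) (iv D16783) (iv F29639) D19471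
def n21691 : Q := act 4 n19472
theorem D21691 : act 4 n19472 = n21691 := rfl
theorem F41184 : act 2 n21691 = n19473 := d10_1 D21691 (iv D19473) (iv F35889)
theorem F41185 : act 5 n21691 = n19567 := d14_2 D19472 D21691 F36155 F29912 (iv F29639)
def n21692 : Q := act 3 n19474
theorem D21692 : act 3 n19474 = n21692 := rfl
theorem F41186 : act 0 n21692 = n19475 := d2_1 D21692 (iv D19475) D19474
theorem F41187 : act 1 n21692 = n19529 := d6_1 D21692 F36045 (iv F35893)
theorem F41188 : act 4 n21692 = n19496 := d12_2 (iv F35894) D21692 (iv D19496) F29699 (iv F29919)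
theorem F41189 : act 2 n20315 = n21692 := d10_3 F41188 (iv F35960) D20315
def n21693 : Q := act 5 n19474
theorem D21693 : act 5 n19474 = n21693 := rfl
theorem F41190 : act 0 n21693 = n19476 := d4_1 D21693 (iv D19476) D19474
theorem F41191 : act 1 n21693 = n19578 := d8_1 D21693 F36177 (iv F35893)
def n21694 : Q := act 4 n19476
theorem D21694 : act 4 n19476 = n21694 := rfl
theorem F41192 : act 1 n21694 = n19477 := d7_1 D21694 (iv D19477) (iv F35898)
theorem F41193 : act 5 n21694 = n19572 := d14_2 D19476 D21694 F36163 F29917 (iv F29642)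
def n21695 : Q := act 3 n19477
theorem D21695 : act 3 n19477 = n21695 := rfl
theorem F41194 : act 0 n21695 = n19577 := d2_1 D21695 (iv D19577) (iv F35899)
theorem F41195 : act 2 n21695 = n19573 := d9_1 D21695 (iv D19573) (iv D16784) (iv D13727) F18085 D10799 D13737 D16793 (iv F36176) (iv D19577) (iv D16789) (iv D13734) (iv F23491) (iv F29649) (iv F35900)
theorem F41196 : act 4 n21695 = n19525 := d12_2 D19477 D21695 (iv D19525) (iv F35885) F35884
theorem F41197 : act 5 n21695 = n19573 := d13_2 (iv F35901) D21695 (iv D19573)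
def n21696 : Q := act 2 n19478
theorem D21696 : act 2 n19478 = n21696 := rfl
theorem F41198 : act 0 n21696 = n19479 := d1_1 D21696 (iv D19479) (iv F35902)
theorem F41199 : act 5 n21696 = n20314 := d11_2 (iv F35904) D21696 F37860
def n21697 : Q := act 4 n19478
theorem D21697 : act 4 n19478 = n21697 := rfl
theorem F41200 : act 0 n21697 = n19480 := d3_1 D21697 (iv D19480) (iv F35902)
theorem F41201 : act 1 n21697 = n19522 := d7_1 D21697 F36030 (iv F35903)
theorem F41202 : act 3 n21697 = n19485 := d12_1 D21697 (iv D19485) (iv D16682) (iv F29651) D19478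
theorem F41203 : act 5 n21697 = n19499 := d14_2 (iv F35904) D21697 (iv D19499) F29708 D17651
def n21698 : Q := act 1 n19479
theorem D21698 : act 1 n19479 = n21698 := rfl
theorem F41204 : act 2 n21698 = n19482 := d5_2 D19479 D21698 (iv D19482) (iv D16679) (iv F29652)
theorem F41205 : act 5 n19531 = n21698 := d11_0 F41204 F35913 (iv F36048)
def n21699 : Q := act 3 n19479
theorem D21699 : act 3 n19479 = n21699 := rfl
def n21700 : Q := act 4 n19479
theorem D21700 : act 4 n19479 = n21700 := rfl
theorem F41206 : act 2 n21700 = n19480 := d10_1 D21700 (iv D19480) D19479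
theorem F41207 : act 5 n19502 = n21700 := d11_0 F41206 (iv F35907) (iv F35972)
def n21701 : Q := act 5 n19479
theorem D21701 : act 5 n19479 = n21701 := rfl
theorem F41208 : act 0 n21701 = n20314 := d4_1 D21701 (iv F41199) F41198
theorem F41209 : act 1 n21701 = n19531 := d8_1 D21701 F41205 (iv D21698)
theorem F41210 : act 2 n21701 = n19481 := d11_1 D21701 (iv D19481) D19479
theorem F41211 : act 4 n21701 = n19497 := d14_1 D21701 F35963 D19502 F41207 (iv D21700)
def n21702 : Q := act 0 n19482
theorem D21702 : act 0 n19482 = n21702 := rfl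
theorem F41212 : act 3 n21702 = n19578 := d2_2 (iv F35912) D21702 (iv D19578)
theorem F41213 : act 5 n21702 = n19529 := d4_2 (iv F35913) D21702 F36044
def n21703 : Q := act 4 n19482
theorem D21703 : act 4 n19482 = n21703 := rfl
theorem F41214 : act 1 n21703 = n19483 := d7_1 D21703 (iv D19483) D19482
theorem F41215 : act 5 n21703 = n19504 := d14_2 (iv F35913) D21703 (iv D19504) F29712 D16724
def n21704 : Q := act 3 n19483
theorem D21704 : act 3 n19483 = n21704 := rfl
theorem F41216 : act 0 n21704 = n19525 := d2_1 D21704 (iv D19525) (iv F35914)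
theorem F41217 : act 2 n21704 = n19520 := d9_1 D21704 (iv D19520) (iv D16713) (iv D13643) F17960 (iv F17983) (iv F23308) D16730 (iv F35952) (iv D19494) (iv D16691) (iv D13622) (iv F23197) (iv F29657) (iv F35915)
theorem F41218 : act 4 n21704 = n19577 := d12_2 D19483 D21704 (iv D19577) F29922 (iv F29654)
theorem F41219 : act 5 n21704 = n19505 := d13_2 (iv F35916) D21704 (iv D19505)
def n21705 : Q := act 4 n19484
theorem D21705 : act 4 n19484 = n21705 := rfl
theorem F41220 : act 0 n21705 = n19486 := d3_1 D21705 (iv D19486) (iv F35917)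
theorem F41221 : act 1 n21705 = n20817 := d7_1 D21705 (iv D20817) (iv F35918)
theorem F41222 : act 2 n21705 = n19485 := d10_1 D21705 (iv D19485) D19484
theorem F41223 : act 5 n21705 = n19508 := d14_2 (iv F35919) D21705 (iv D19508) F29716 (iv F29682)
def n21706 : Q := act 3 n19486
theorem D21706 : act 3 n19486 = n21706 := rfl
theorem F41224 : act 1 n21706 = n19492 := d6_1 D21706 (iv D19492) (iv F35924)
theorem F41225 : act 4 n21706 = n20825 := d12_2 D19486 D21706 (iv D20825) (iv D18307) F29668
theorem F41226 : act 5 n21706 = n19511 := d13_2 (iv F35926) D21706 (iv D19511)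
def n21707 : Q := act 4 n19488
theorem D21707 : act 4 n19488 = n21707 := rfl
theorem F41227 : act 0 n21707 = n19490 := d3_1 D21707 (iv D19490) (iv F35931)
theorem F41228 : act 1 n21707 = n20816 := d7_1 D21707 (iv D20816) (iv F35932)
theorem F41229 : act 3 n21707 = n19624 := d12_1 D21707 (iv D19624) (iv D16834) (iv F29682) D19488
def n21708 : Q := act 5 n19490
theorem D21708 : act 5 n19490 = n21708 := rfl
theorem F41230 : act 1 n21708 = n19491 := d8_1 D21708 (iv D19491) (iv F35936)
theorem F41231 : act 2 n21708 = n21560 := d11_1 D21708 F40868 F39877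
theorem F41232 : act 3 n21708 = n19626 := d13_1 D21708 (iv D19626) (iv F35937)
theorem F41233 : act 4 n21708 = n20826 := d14_1 D21708 (iv D20826) (iv D18307) (iv F29684) D19490
def n21709 : Q := act 0 n19493
theorem D21709 : act 0 n19493 = n21709 := rfl
theorem F41234 : act 1 n21709 = n19526 := d0_2 D19493 D21709 (iv D19526) (iv D16719) (iv F29691)
theorem F41235 : act 2 n21709 = n19748 := d1_2 (iv F35946) D21709 F36564
theorem F41236 : act 4 n21709 = n19495 := d3_2 (iv F35947) D21709 (iv D19495)
theorem F41237 : act 5 n21709 = n19581 := d4_2 (iv F35948) D21709 F36180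
def n21710 : Q := act 3 n19493
theorem D21710 : act 3 n19493 = n21710 := rfl
theorem F41238 : act 1 n21710 = n19494 := d6_1 D21710 (iv D19494) D19493
theorem F41239 : act 4 n21710 = n19535 := d12_2 (iv F35947) D21710 (iv D19535) (iv D16729) (iv F29695)
theorem F41240 : act 5 n21710 = n19582 := d13_2 (iv F35948) D21710 (iv D19582)
def n21711 : Q := act 3 n19497
theorem D21711 : act 3 n19497 = n21711 := rfl
theorem F41241 : act 0 n21711 = n19729 := d2_1 D21711 F36529 (iv F35961)
theorem F41242 : act 1 n21711 = n19530 := d6_1 D21711 (iv D19530) (iv F35962)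
theorem F41243 : act 5 n21711 = n19501 := d13_2 (iv F35963) D21711 (iv D19501)
theorem F41244 : act 2 n21711 = n19727 := d15_2 D19497 D21711 (iv D19727) (iv D16931) (iv D13859) (iv F23239) D16696 F29708 (iv F29703)
def n21712 : Q := act 3 n19498
theorem D21712 : act 3 n19498 = n21712 := rfl
theorem F41245 : act 0 n21712 = n19501 := d2_1 D21712 (iv D19501) (iv F35964)
theorem F41246 : act 1 n21712 = n20243 := d6_1 D21712 F37685 (iv F35965)
theorem F41247 : act 2 n21712 = n19714 := d9_1 D21712 (iv D19714) F30181 F23744 (iv F23233) D16695 D19497 D21711 F41244 (iv D19727) (iv D16931) (iv D13859) (iv F23239) D16696 D19498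
theorem F41248 : act 5 n21712 = n19729 := d13_2 (iv F35966) D21712 F36529
def n21713 : Q := act 4 n19498
theorem D21713 : act 4 n19498 = n21713 := rfl
theorem F41249 : act 0 n21713 = n19502 := d3_1 D21713 (iv D19502) (iv F35964)
theorem F41250 : act 1 n21713 = n20298 := d7_1 D21713 (iv D20298) (iv F35965)
theorem F41251 : act 2 n21713 = n19499 := d10_1 D21713 (iv D19499) D19498
def n21714 : Q := act 0 n19500
theorem D21714 : act 0 n19500 = n21714 := rfl
theorem F41252 : act 1 n21714 = n20245 := d0_2 D19500 D21714 F37689 (iv F35965) F35964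
theorem F41253 : act 2 n21714 = n19503 := d1_2 (iv F35970) D21714 (iv D19503)
theorem F41254 : act 5 n21714 = n19528 := d4_2 (iv F35971) D21714 F36042
theorem F41255 : act 3 n19707 = n21714 := d13_3 F41254 F36043 (iv F36486)
def n21715 : Q := act 3 n19500
theorem D21715 : act 3 n19500 = n21715 := rfl
theorem F41256 : act 0 n21715 = n19707 := d2_1 D21715 F41255 (iv D21714)
theorem F41257 : act 1 n21715 = n19501 := d6_1 D21715 (iv D19501) D19500
theorem F41258 : act 2 n21715 = n19705 := d9_1 D21715 (iv D19705) (iv D16909) (iv D13835) (iv F23296) D16722 D19528 F36043 (iv D17438) (iv D14387) F19053 (iv F18251) (iv F23294) (iv F29711) (iv F35970)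
theorem F41259 : act 5 n21715 = n19530 := d13_2 (iv F35971) D21715 (iv D19530)
def n21716 : Q := act 4 n19500
theorem D21716 : act 4 n19500 = n21716 := rfl
theorem F41260 : act 1 n21716 = n19502 := d7_1 D21716 (iv D19502) D19500
theorem F41261 : act 2 n21716 = n19504 := d10_1 D21716 (iv D19504) (iv F35970)
def n21717 : Q := act 4 n19501
theorem D21717 : act 4 n19501 = n21717 := rfl
def n21718 : Q := act 3 n19502
theorem D21718 : act 3 n19502 = n21718 := rfl
def n21719 : Q := act 4 n19503
theorem D21719 : act 4 n19503 = n21719 := rfl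
theorem F41262 : act 0 n21719 = n19504 := d3_1 D21719 (iv D19504) D19503
theorem F41263 : act 1 n21719 = n19534 := d7_1 D21719 (iv D19534) (iv F35973)
def n21720 : Q := act 3 n19504
theorem D21720 : act 3 n19504 = n21720 := rfl
theorem F41264 : act 1 n21720 = n19505 := d6_1 D21720 (iv D19505) (iv F35976)
theorem F41265 : act 4 n21720 = n19527 := d12_2 D19504 D21720 (iv D19527) F29763 (iv F29711)
def n21721 : Q := act 4 n19506
theorem D21721 : act 4 n19506 = n21721 := rfl
theorem F41266 : act 0 n21721 = n19583 := d3_1 D21721 (iv D19583) (iv F35980)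
theorem F41267 : act 1 n21721 = n19508 := d7_1 D21721 (iv D19508) D19506
theorem F41268 : act 2 n21721 = n19536 := d10_1 D21721 (iv D19536) (iv F35981)
theorem F41269 : act 5 n21721 = n20817 := d14_2 (iv F35982) D21721 (iv D20817) (iv D18297) (iv F30013)
def n21722 : Q := act 4 n19507
theorem D21722 : act 4 n19507 = n21722 := rfl
theorem F41270 : act 0 n21722 = n19510 := d3_1 D21722 (iv D19510) (iv F35984)
theorem F41271 : act 1 n21722 = n19630 := d7_1 D21722 (iv D19630) (iv F35985)
def n21723 : Q := act 3 n19508
theorem D21723 : act 3 n19508 = n21723 := rfl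
theorem F41272 : act 0 n21723 = n19511 := d2_1 D21723 (iv D19511) (iv F35987)
def n21724 : Q := act 4 n19509
theorem D21724 : act 4 n19509 = n21724 := rfl
theorem F41273 : act 1 n21724 = n19628 := d7_1 D21724 (iv D19628) (iv F35989)
theorem F41274 : act 2 n21724 = n19510 := d10_1 D21724 (iv D19510) D19509
def n21725 : Q := act 3 n19510
theorem D21725 : act 3 n19510 = n21725 := rfl
theorem F41275 : act 1 n21725 = n19585 := d6_1 D21725 (iv D19585) (iv F35992)
theorem F41276 : act 4 n21725 = n19511 := d12_2 D19510 D21725 (iv D19511) (iv D16704) D16703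
def n21726 : Q := act 5 n19510
theorem D21726 : act 5 n19510 = n21726 := rfl
theorem F41277 : act 1 n21726 = n19586 := d8_1 D21726 (iv D19586) (iv F35992)
theorem F41278 : act 4 n21726 = n19626 := d14_1 D21726 (iv D19626) (iv D16836) (iv F29720) D19510
def n21727 : Q := act 2 n19511
theorem D21727 : act 2 n19511 = n21727 := rfl
def n21728 : Q := act 1 n19518
theorem D21728 : act 1 n19518 = n21728 := rfl
theorem F41279 : act 2 n21728 = n21568 := d5_2 D19518 D21728 F40886 F37390 F36012
theorem F41280 : act 3 n21728 = n20189 := d6_2 (iv F36018) D21728 F37544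
theorem F41281 : act 4 n21728 = n20669 := d7_2 (iv F36016) D21728 (iv D20669)
theorem F41282 : act 5 n21728 = n20188 := d8_2 (iv F36017) D21728 F37543
def n21729 : Q := act 0 n19519
theorem D21729 : act 0 n19519 = n21729 := rfl
theorem F41283 : act 1 n21729 = n19581 := d0_2 D19519 D21729 F36180 F29930 (iv F29746)
theorem F41284 : act 2 n21729 = n19696 := d1_2 (iv F36019) D21729 F36452
theorem F41285 : act 4 n21729 = n19521 := d3_2 (iv F36020) D21729 (iv D19521)
theorem F41286 : act 5 n21729 = n19526 := d4_2 (iv F36021) D21729 (iv D19526)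
def n21730 : Q := act 3 n19519
theorem D21730 : act 3 n19519 = n21730 := rfl
theorem F41287 : act 1 n21730 = n19520 := d6_1 D21730 (iv D19520) D19519
theorem F41288 : act 4 n21730 = n19580 := d12_2 (iv F36020) D21730 (iv D19580) F29926 (iv F29750)
theorem F41289 : act 5 n21730 = n19527 := d13_2 (iv F36021) D21730 (iv D19527)
def n21731 : Q := act 1 n19523
theorem D21731 : act 1 n19523 = n21731 := rfl
theorem F41290 : act 2 n21731 = n19524 := d5_2 D19523 D21731 (iv D19524) (iv D16718) (iv F29758)
theorem F41291 : act 4 n21731 = n20317 := d7_2 (iv F36034) D21731 F37863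
theorem F41292 : act 5 n21731 = n19533 := d8_2 (iv F36035) D21731 F36053
def n21732 : Q := act 0 n19524
theorem D21732 : act 0 n19524 = n21732 := rfl
theorem F41293 : act 5 n21732 = n19534 := d4_2 (iv F36036) D21732 F36055
def n21733 : Q := act 3 n19524
theorem D21733 : act 3 n19524 = n21733 := rfl
theorem F41294 : act 1 n21733 = n19525 := d6_1 D21733 (iv D19525) D19524
theorem F41295 : act 5 n21733 = n19535 := d13_2 (iv F36036) D21733 (iv D19535)
def n21734 : Q := act 3 n19526
theorem D21734 : act 3 n19526 = n21734 := rfl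
theorem F41296 : act 0 n21734 = n19527 := d2_1 D21734 (iv D19527) D19526
def n21735 : Q := act 2 n19527
theorem D21735 : act 2 n19527 = n21735 := rfl
def n21736 : Q := act 1 n19528
theorem D21736 : act 1 n19528 = n21736 := rfl
theorem F41297 : act 0 n21736 = n20275 := d0_1 D21736 F37767 (iv F35961) F35962 (iv F36042)
theorem F41298 : act 2 n21736 = n20271 := d5_2 D19528 D21736 F37755 F35960 F35958
theorem F41299 : act 3 n21736 = n20151 := d6_2 (iv F36043) D21736 (iv D20151)
theorem F41300 : act 5 n21736 = n20245 := d8_2 F41254 D21736 (iv F41252)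
def n21737 : Q := act 4 n19528
theorem D21737 : act 4 n19528 = n21737 := rfl
theorem F41301 : act 0 n21737 = n19531 := d3_1 D21737 (iv D19531) (iv F36042)
theorem F41302 : act 2 n21737 = n19529 := d10_1 D21737 (iv D19529) D19528
def n21738 : Q := act 4 n19530
theorem D21738 : act 4 n19530 = n21738 := rfl
theorem F41303 : act 0 n21738 = n20152 := d3_1 D21738 (iv D20152) (iv F36046)
theorem F41304 : act 2 n21738 = n20150 := d10_1 D21738 (iv D20150) (iv F36047)
def n21739 : Q := act 3 n19531
theorem D21739 : act 3 n19531 = n21739 := rfl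
def n21740 : Q := act 4 n19532
theorem D21740 : act 4 n19532 = n21740 := rfl
theorem F41305 : act 0 n21740 = n19533 := d3_1 D21740 (iv D19533) D19532
theorem F41306 : act 1 n21740 = n20295 := d7_1 D21740 (iv D20295) (iv F36049)
theorem F41307 : act 2 n21740 = n19534 := d10_1 D21740 (iv D19534) (iv F36050)
def n21741 : Q := act 3 n19534
theorem D21741 : act 3 n19534 = n21741 := rfl
theorem F41308 : act 0 n21741 = n19535 := d2_1 D21741 (iv D19535) (iv F36055)
def n21742 : Q := act 2 n19535
theorem D21742 : act 2 n19535 = n21742 := rfl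
def n21743 : Q := act 3 n19536
theorem D21743 : act 3 n19536 = n21743 := rfl
theorem F41309 : act 0 n21743 = n20635 := d2_1 D21743 (iv D20635) (iv F36057)
theorem F41310 : act 1 n21743 = n19537 := d6_1 D21743 (iv D19537) (iv F36058)
theorem F41311 : act 4 n21743 = n20067 := d12_2 D19536 D21743 (iv D20067) F30976 (iv F29779)
theorem F41312 : act 5 n21743 = n21031 := d13_2 (iv F36059) D21743 (iv D21031)
def n21744 : Q := act 1 n19538
theorem D21744 : act 1 n19538 = n21744 := rfl
theorem F41313 : act 2 n21744 = n20188 := d5_2 D19538 D21744 F37543 (iv F36002) F35999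
theorem F41314 : act 4 n21744 = n21683 := d7_2 (iv F37288) D21744 F41167
theorem F41315 : act 5 n21744 = n21568 := d8_2 F37389 D21744 F40886
def n21745 : Q := act 2 n19539
theorem D21745 : act 2 n19539 = n21745 := rfl
theorem F41316 : act 4 n21745 = n21032 := d10_2 (iv F36063) D21745 (iv D21032)
theorem F41317 : act 3 n21745 = n21745 := d15_3 (iv F29788) D19539 D21745 (iv D21745) (iv D19539) F29788 D17270 (iv F30861) F24680
def n21746 : Q := act 5 n19542
theorem D21746 : act 5 n19542 = n21746 := rfl
theorem F41318 : act 0 n21746 = n20634 := d4_1 D21746 (iv D20634) (iv F36070)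
theorem F41319 : act 1 n21746 = n19543 := d8_1 D21746 (iv D19543) (iv F36071)
theorem F41320 : act 2 n21746 = n20076 := d11_1 D21746 F37315 (iv F36072)
theorem F41321 : act 3 n21746 = n21030 := d13_1 D21746 (iv D21030) (iv F36073)
theorem F41322 : act 4 n21746 = n20068 := d14_1 D21746 (iv D20068) F30976 (iv F29802) D19542
def n21747 : Q := act 1 n19550
theorem D21747 : act 1 n19550 = n21747 := rfl
theorem F41323 : act 0 n21747 = n19757 := d0_1 D21747 F36594 F33179 (iv F36212) F36211
theorem F41324 : act 2 n21747 = n19753 := d5_2 D19550 D21747 F36579 F33097 (iv F29841)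
theorem F41325 : act 3 n21747 = n19568 := d6_2 (iv F36096) D21747 (iv D19568)
theorem F41326 : act 4 n21747 = n19757 := d7_2 (iv F36097) D21747 F36594
theorem F41327 : act 5 n21747 = n19570 := d8_2 F36098 D21747 F36161
def n21748 : Q := act 4 n19551
theorem D21748 : act 4 n19551 = n21748 := rfl
theorem F41328 : act 0 n21748 = n19765 := d3_1 D21748 (iv D19765) (iv F36099)
theorem F41329 : act 1 n21748 = n20807 := d7_1 D21748 F39061 (iv F36100)
theorem F41330 : act 2 n21748 = n19571 := d10_1 D21748 (iv D19571) (iv F36101)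
theorem F41331 : act 5 n21748 = n20805 := d14_2 D19551 D21748 (iv D20805) F33090 (iv F29842)
def n21749 : Q := act 4 n19552
theorem D21749 : act 4 n19552 = n21749 := rfl
theorem F41332 : act 1 n21749 = n21676 := d7_1 D21749 (iv D21676) (iv F36103)
theorem F41333 : act 5 n21749 = n20567 := d14_2 (iv F36104) D21749 (iv D20567) (iv F33806) F35818
def n21750 : Q := act 4 n19558
theorem D21750 : act 4 n19558 = n21750 := rfl
theorem F41334 : act 0 n21750 = n20192 := d3_1 D21750 F37549 (iv F36125)
theorem F41335 : act 1 n21750 = n20864 := d7_1 D21750 (iv D20864) (iv F36126)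
theorem F41336 : act 2 n21750 = n20193 := d10_1 D21750 F37551 (iv F36127)
def n21751 : Q := act 3 n19559
theorem D21751 : act 3 n19559 = n21751 := rfl
theorem F41337 : act 0 n21751 = n20992 := d2_1 D21751 F39480 (iv F36129)
theorem F41338 : act 1 n21751 = n20993 := d6_1 D21751 F39483 (iv F36130)
theorem F41339 : act 5 n21751 = n20994 := d13_2 (iv F36132) D21751 F39487
theorem F41340 : act 2 n21751 = n19782 := d15_2 (iv F36131) D21751 (iv D19782) F30360 F23895 (iv F23917) D17017 (iv F36119) F36115
def n21752 : Q := act 2 n19561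
theorem D21752 : act 2 n19561 = n21752 := rfl
theorem F41341 : act 0 n21752 = n19824 := d1_1 D21752 F36746 (iv F36138)
theorem F41342 : act 4 n21752 = n21012 := d10_2 (iv F36140) D21752 (iv D21012)
theorem F41343 : act 5 n21752 = n19775 := d11_2 (iv F36141) D21752 F36645
def n21753 : Q := act 3 n19562
theorem D21753 : act 3 n19562 = n21753 := rfl
theorem F41344 : act 0 n21753 = n19814 := d2_1 D21753 F36727 (iv F36142)
theorem F41345 : act 2 n21753 = n19810 := d9_1 D21753 F36721 F30421 (iv F29848) F29847 (iv F29498) (iv F35762) (iv F35764) (iv D17038) (iv D13959) F18448 (iv F18064) (iv F23475) D16772 D19562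
theorem F41346 : act 4 n21753 = n21020 := d12_2 (iv F36143) D21753 (iv D21020) (iv D18596) (iv F33767)
theorem F41347 : act 5 n21753 = n19809 := d13_2 F41145 D21753 (iv F41144)
def n21754 : Q := act 2 n19564
theorem D21754 : act 2 n19564 = n21754 := rfl
theorem F41348 : act 0 n21754 = n19632 := d1_1 D21754 F36304 F36149
theorem F41349 : act 4 n21754 = n21029 := d10_2 (iv F36147) D21754 F39593
theorem F41350 : act 5 n21754 = n19630 := d11_2 F36148 D21754 F36301
def n21755 : Q := act 1 n19566
theorem D21755 : act 1 n19566 = n21755 := rfl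
theorem F41351 : act 4 n21755 = n21554 := d7_2 (iv F36154) D21755 F40856
def n21756 : Q := act 3 n19566
theorem D21756 : act 3 n19566 = n21756 := rfl
theorem F41352 : act 0 n21756 = n19896 := d2_1 D21756 F36866 (iv F36153)
theorem F41353 : act 2 n21756 = n19812 := d9_1 D21756 F36725 F30426 (iv F29861) F29860 F29551 (iv F35792) (iv F35794) (iv D17123) (iv D14043) F18522 (iv F18068) (iv F23479) D16775 D19566
theorem F41354 : act 4 n21756 = n21556 := d12_2 (iv F36154) D21756 (iv D21556) (iv D19264) (iv F35395)
theorem F41355 : act 5 n21756 = n19811 := d13_2 F41149 D21756 (iv F41148)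
def n21757 : Q := act 1 n19567
theorem D21757 : act 1 n19567 = n21757 := rfl
theorem F41356 : act 2 n21757 = n19572 := d5_2 D19567 D21757 (iv D19572) (iv D16784) (iv F29910)
theorem F41357 : act 4 n21757 = n19568 := d7_2 (iv F36155) D21757 (iv D19568)
def n21758 : Q := act 4 n19570
theorem D21758 : act 4 n19570 = n21758 := rfl
theorem F41358 : act 0 n21758 = n20804 := d3_1 D21758 (iv D20804) (iv F36160)
theorem F41359 : act 1 n21758 = n19571 := d7_1 D21758 (iv D19571) (iv F36161)
theorem F41360 : act 2 n21758 = n20802 := d10_1 D21758 (iv D20802) (iv F36162)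
theorem F41361 : act 5 n21758 = n20804 := d14_2 F41327 D21758 (iv D20804) (iv F36596) (iv F41326)
def n21759 : Q := act 5 n19571
theorem D21759 : act 5 n19571 = n21759 := rfl
theorem F41362 : act 1 n21759 = n20804 := d8_1 D21759 (iv F41361) F41359
theorem F41363 : act 2 n21759 = n20805 := d11_1 D21759 (iv F41331) F41330
theorem F41364 : act 4 n21759 = n20803 := d14_1 D21759 F39053 (iv F36097) (iv F36098) D19571
def n21760 : Q := act 0 n19572
theorem D21760 : act 0 n19572 = n21760 := rfl
theorem F41365 : act 1 n21760 = n19579 := d0_2 D19572 D21760 (iv D19579) (iv D16792) (iv F29914)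
theorem F41366 : act 4 n21760 = n19574 := d3_2 (iv F36163) D21760 (iv D19574)
def n21761 : Q := act 3 n19572
theorem D21761 : act 3 n19572 = n21761 := rfl
theorem F41367 : act 1 n21761 = n19573 := d6_1 D21761 (iv D19573) D19572
theorem F41368 : act 4 n21761 = n19582 := d12_2 (iv F36163) D21761 (iv D19582) (iv D16796) (iv F29916)
def n21762 : Q := act 0 n19576
theorem D21762 : act 0 n19576 = n21762 := rfl
theorem F41369 : act 4 n21762 = n19578 := d3_2 (iv F36173) D21762 (iv D19578)
theorem F41370 : act 5 n21762 = n19579 := d4_2 (iv F36174) D21762 (iv D19579)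
def n21763 : Q := act 3 n19576
theorem D21763 : act 3 n19576 = n21763 := rfl
theorem F41371 : act 1 n21763 = n19577 := d6_1 D21763 (iv D19577) D19576
theorem F41372 : act 5 n21763 = n19580 := d13_2 (iv F36174) D21763 (iv D19580)
def n21764 : Q := act 3 n19579
theorem D21764 : act 3 n19579 = n21764 := rfl
theorem F41373 : act 0 n21764 = n19580 := d2_1 D21764 (iv D19580) D19579
def n21765 : Q := act 2 n19580
theorem D21765 : act 2 n19580 = n21765 := rfl
def n21766 : Q := act 3 n19581
theorem D21766 : act 3 n19581 = n21766 := rfl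
theorem F41374 : act 0 n21766 = n19582 := d2_1 D21766 (iv D19582) (iv F36180)
def n21767 : Q := act 2 n19582
theorem D21767 : act 2 n19582 = n21767 := rfl
def n21768 : Q := act 3 n19583
theorem D21768 : act 3 n19583 = n21768 := rfl
theorem F41375 : act 1 n21768 = n19584 := d6_1 D21768 (iv D19584) (iv F36183)
theorem F41376 : act 4 n21768 = n19631 := d12_2 D19583 D21768 (iv D19631) (iv D16842) (iv F29933)
theorem F41377 : act 5 n21768 = n20820 := d13_2 (iv F36185) D21768 (iv D20820)
def n21769 : Q := act 2 n19584
theorem D21769 : act 2 n19584 = n21769 := rfl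
theorem F41378 : act 0 n21769 = n19587 := d1_1 D21769 (iv D19587) (iv F36186)
theorem F41379 : act 3 n21769 = n19752 := d9_2 D19584 D21769 (iv D19752) (iv D16963) F23820 (iv F23216) (iv F29689) D19492 F35945 (iv D18308) F26744 F20645 (iv F18329) (iv F23516) (iv F29936)
theorem F41380 : act 4 n21769 = n19633 := d10_2 (iv F36187) D21769 (iv D19633)
theorem F41381 : act 5 n21769 = n19760 := d11_2 (iv F36188) D21769 F36600
def n21770 : Q := act 2 n19585
theorem D21770 : act 2 n19585 = n21770 := rfl
theorem F41382 : act 0 n21770 = n19633 := d1_1 D21770 (iv D19633) (iv F36189)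
theorem F41383 : act 3 n21770 = n19586 := d9_2 D19585 D21770 F36192 F30026 F23808 (iv F23591) (iv F30032) (iv F36306) (iv D19633) (iv D16843) F23589 F18175 (iv F18334) (iv F23586) (iv F29939)
theorem F41384 : act 4 n21770 = n19587 := d10_2 (iv F36190) D21770 (iv D19587)
theorem F41385 : act 5 n19585 = n21770 := d14_0 F41384 F36194 (iv F35943) F35944 (iv F36190)
def n21771 : Q := act 1 n19587
theorem D21771 : act 1 n19587 = n21771 := rfl
theorem F41386 : act 3 n21771 = n20826 := d6_2 (iv F36195) D21771 F39101
theorem F41387 : act 5 n21771 = n20825 := d8_2 (iv F36194) D21771 F39100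
def n21772 : Q := act 0 n19588
theorem D21772 : act 0 n19588 = n21772 := rfl
theorem F41388 : act 1 n21772 = n21686 := d0_2 D19588 D21772 (iv D21686) (iv D19470) (iv F29940)
theorem F41389 : act 2 n21772 = n19597 := d1_2 (iv F36196) D21772 (iv D19597)
theorem F41390 : act 4 n21772 = n19592 := d3_2 (iv F36197) D21772 (iv D19592)
def n21773 : Q := act 3 n19588
theorem D21773 : act 3 n19588 = n21773 := rfl
theorem F41391 : act 1 n21773 = n19589 := d6_1 D21773 (iv D19589) D19588
def n21774 : Q := act 5 n19588
theorem D21774 : act 5 n19588 = n21774 := rfl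
theorem F41392 : act 1 n21774 = n19590 := d8_1 D21774 (iv D19590) D19588
theorem F41393 : act 2 n21774 = n19599 := d11_1 D21774 (iv D19599) (iv F36196)
theorem F41394 : act 4 n21774 = n19688 := d14_1 D21774 (iv D19688) (iv D16891) F29946 (iv F36197)
def n21775 : Q := act 2 n19589
theorem D21775 : act 2 n19589 = n21775 := rfl
theorem F41395 : act 0 n21775 = n21689 := d1_1 D21775 (iv D21689) (iv F36198)
theorem F41396 : act 3 n21775 = n19590 := d9_2 D19589 D21775 F36200 F29944 F23532 (iv F29641) (iv F35889) (iv F41181) (iv D21689) (iv D19471) (iv D16670) (iv D13604) (iv F18122) D13747 D16802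
theorem F41397 : act 5 n19589 = n21775 := d13_0 F41396 (iv D19590) D19589
def n21776 : Q := act 4 n19589
theorem D21776 : act 4 n19589 = n21776 := rfl
theorem F41398 : act 0 n21776 = n21690 := d3_1 D21776 (iv D21690) (iv F36198)
theorem F41399 : act 3 n21776 = n19594 := d12_1 D21776 (iv D19594) (iv D16805) (iv F29941) D19589
def n21777 : Q := act 4 n19590
theorem D21777 : act 4 n19590 = n21777 := rfl
theorem F41400 : act 0 n21777 = n21691 := d3_1 D21777 (iv D21691) (iv F36199)
theorem F41401 : act 1 n21777 = n19688 := d7_1 D21777 (iv F41394) F41392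
theorem F41402 : act 2 n21777 = n19591 := d10_1 D21777 (iv D19591) (iv F36200)
theorem F41403 : act 5 n21777 = n19596 := d14_2 D19590 D21777 (iv D19596) (iv D16806) (iv F29941)
theorem F41404 : act 3 n19688 = n21777 := d13_3 F41403 F36219 D19688
def n21778 : Q := act 4 n19593
theorem D21778 : act 4 n19593 = n21778 := rfl
theorem F41405 : act 0 n21778 = n21759 := d3_1 D21778 F41364 F39050
theorem F41406 : act 1 n21778 = n19594 := d7_1 D21778 (iv D19594) (iv F36208)
theorem F41407 : act 5 n21778 = n19594 := d14_2 (iv F36209) D21778 (iv D19594) D19595 (iv F36215)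
def n21779 : Q := act 3 n19597
theorem D21779 : act 3 n19597 = n21779 := rfl
theorem F41408 : act 0 n21779 = n19598 := d2_1 D21779 (iv D19598) D19597
theorem F41409 : act 1 n21779 = n19607 := d6_1 D21779 (iv D19607) (iv F36220)
theorem F41410 : act 4 n21779 = n19687 := d12_2 (iv F36221) D21779 (iv D19687) (iv D16889) (iv F29965)
theorem F41411 : act 2 n20918 = n21779 := d10_3 F41410 F36432 D20918
def n21780 : Q := act 5 n19597
theorem D21780 : act 5 n19597 = n21780 := rfl
theorem F41412 : act 0 n21780 = n19599 := d4_1 D21780 (iv D19599) D19597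
theorem F41413 : act 1 n21780 = n19608 := d8_1 D21780 (iv D19608) (iv F36220)
theorem F41414 : act 4 n21780 = n19686 := d14_1 D21780 (iv D19686) (iv D16888) (iv F29966) (iv F36221)
def n21781 : Q := act 2 n19598
theorem D21781 : act 2 n19598 = n21781 := rfl
theorem F41415 : act 0 n21781 = n20918 := d1_1 D21781 F41411 F41408
theorem F41416 : act 4 n21781 = n19689 := d10_2 (iv F36223) D21781 (iv D19689)
theorem F41417 : act 3 n21748 = n21781 := d12_5 F41416 F36435 F33417 (iv F36102) D21748
def n21782 : Q := act 5 n19598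
theorem D21782 : act 5 n19598 = n21782 := rfl
theorem F41418 : act 1 n21782 = n19601 := d8_1 D21782 (iv D19601) (iv F36222)
theorem F41419 : act 3 n21782 = n19599 := d13_1 D21782 (iv D19599) D19598
def n21783 : Q := act 4 n19601
theorem D21783 : act 4 n19601 = n21783 := rfl
theorem F41420 : act 0 n21783 = n19616 := d3_1 D21783 (iv D19616) (iv F36230)
theorem F41421 : act 2 n21783 = n19605 := d10_1 D21783 (iv D19605) (iv F36231)
theorem F41422 : act 3 n21783 = n19681 := d12_1 D21783 (iv D19681) F30113 (iv F29959) (iv F36232)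
theorem F41423 : act 5 n21783 = n19682 := d14_2 D19601 D21783 F36422 F30115 (iv F29956)
def n21784 : Q := act 5 n19605
theorem D21784 : act 5 n19605 = n21784 := rfl
theorem F41424 : act 0 n21784 = n20215 := d4_1 D21784 (iv D20215) (iv F36243)
theorem F41425 : act 1 n21784 = n20777 := d8_1 D21784 (iv F39115) (iv F39116)
theorem F41426 : act 2 n21784 = n19682 := d11_1 D21784 (iv F41423) F41421
theorem F41427 : act 3 n21784 = n19995 := d13_1 D21784 F37110 (iv F36244)
theorem F41428 : act 4 n21784 = n19683 := d14_1 D21784 F36423 (iv F36228) (iv F36229) D19605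
def n21785 : Q := act 2 n19607
theorem D21785 : act 2 n19607 = n21785 := rfl
theorem F41429 : act 0 n21785 = n19609 := d1_1 D21785 (iv D19609) (iv F36250)
def n21786 : Q := act 4 n19607
theorem D21786 : act 4 n19607 = n21786 := rfl
theorem F41430 : act 0 n21786 = n19610 := d3_1 D21786 (iv D19610) (iv F36250)
theorem F41431 : act 1 n21786 = n19687 := d7_1 D21786 (iv F41410) F41409
theorem F41432 : act 3 n21786 = n19618 := d12_1 D21786 (iv D19618) (iv D16826) (iv F29980) D19607
def n21787 : Q := act 5 n19607
theorem D21787 : act 5 n19607 = n21787 := rfl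
theorem F41433 : act 0 n21787 = n19611 := d4_1 D21787 (iv D19611) (iv F36250)
theorem F41434 : act 3 n21787 = n19608 := d13_1 D21787 (iv D19608) D19607
def n21788 : Q := act 4 n19608
theorem D21788 : act 4 n19608 = n21788 := rfl
theorem F41435 : act 0 n21788 = n19612 := d3_1 D21788 (iv D19612) (iv F36251)
theorem F41436 : act 1 n21788 = n19686 := d7_1 D21788 (iv F41414) F41413
theorem F41437 : act 2 n21788 = n21762 := d10_1 D21788 F41369 (iv F36252)
theorem F41438 : act 5 n21788 = n19619 := d14_2 D19608 D21788 (iv D19619) (iv D16827) (iv F29980)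
def n21789 : Q := act 1 n19609
theorem D21789 : act 1 n19609 = n21789 := rfl
theorem F41439 : act 2 n21789 = n19613 := d5_2 D19609 D21789 (iv D19613) (iv D16822) (iv F29981)
theorem F41440 : act 5 n20213 = n21789 := d11_0 F41439 F36261 D20213
def n21790 : Q := act 3 n19609
theorem D21790 : act 3 n19609 = n21790 := rfl
def n21791 : Q := act 4 n19609
theorem D21791 : act 4 n19609 = n21791 := rfl
theorem F41441 : act 2 n21791 = n19610 := d10_1 D21791 (iv D19610) D19609
def n21792 : Q := act 5 n19609
theorem D21792 : act 5 n19609 = n21792 := rfl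
theorem F41442 : act 1 n21792 = n20213 := d8_1 D21792 F41440 (iv D21789)
theorem F41443 : act 2 n21792 = n19611 := d11_1 D21792 (iv D19611) D19609
def n21793 : Q := act 5 n19610
theorem D21793 : act 5 n19610 = n21793 := rfl
theorem F41444 : act 1 n21793 = n19615 := d8_1 D21793 (iv D19615) (iv F36253)
theorem F41445 : act 3 n21793 = n19621 := d13_1 D21793 (iv D19621) (iv F36254)
def n21794 : Q := act 4 n19611
theorem D21794 : act 4 n19611 = n21794 := rfl
theorem F41446 : act 1 n21794 = n19616 := d7_1 D21794 (iv D19616) (iv F36255)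
def n21795 : Q := act 3 n19612
theorem D21795 : act 3 n19612 = n21795 := rfl
theorem F41447 : act 1 n21795 = n19617 := d6_1 D21795 (iv D19617) (iv F36257)
theorem F41448 : act 5 n21795 = n19622 := d13_2 (iv F36259) D21795 (iv D19622)
def n21796 : Q := act 0 n19613
theorem D21796 : act 0 n19613 = n21796 := rfl
theorem F41449 : act 1 n21796 = n20092 := d0_2 D19613 D21796 (iv F39613) F39614 F36226
theorem F41450 : act 3 n21796 = n20025 := d2_2 (iv F36260) D21796 F37186
theorem F41451 : act 5 n21796 = n20212 := d4_2 (iv F36261) D21796 F37608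
def n21797 : Q := act 4 n19613
theorem D21797 : act 4 n19613 = n21797 := rfl
theorem F41452 : act 1 n21797 = n19614 := d7_1 D21797 (iv D19614) D19613
def n21798 : Q := act 4 n19615
theorem D21798 : act 4 n19615 = n21798 := rfl
theorem F41453 : act 0 n21798 = n19682 := d3_1 D21798 F36422 (iv F36264)
theorem F41454 : act 2 n21798 = n20215 := d10_1 D21798 F37612 F36997
theorem F41455 : act 3 n21798 = n19661 := d12_1 D21798 (iv D19661) F30090 (iv F30007) (iv F36265)
theorem F41456 : act 5 n21798 = n19616 := d14_2 D19615 D21798 (iv D19616) (iv D16824) D16823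
def n21799 : Q := act 3 n19616
theorem D21799 : act 3 n19616 = n21799 := rfl
theorem F41457 : act 0 n21799 = n19681 := d2_1 D21799 (iv F41422) F41420
theorem F41458 : act 2 n21799 = n19666 := d9_1 D21799 F36378 F30708 D17235 D19995 (iv F41427) F41426 (iv D19682) F30114 (iv D14137) (iv F24206) D17208 (iv F30724) (iv F31374) (iv F36266)
theorem F41459 : act 4 n21799 = n19617 := d12_2 D19616 D21799 (iv D19617) (iv D16825) (iv F29989)
theorem F41460 : act 5 n21799 = n19661 := d13_2 F41456 D21799 (iv F41455)
def n21800 : Q := act 2 n19617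
theorem D21800 : act 2 n19617 = n21800 := rfl
theorem F41461 : act 0 n21800 = n19680 := d1_1 D21800 F36417 (iv F36267)
theorem F41462 : act 3 n21800 = n19994 := d9_2 D19617 D21800 F37107 (iv D18061) F26055 (iv F23546) F23545 (iv F23654) (iv F30112) (iv F36414) F36413 F33307 F26929 (iv F23562) (iv F29991)
theorem F41463 : act 4 n21800 = n19666 := d10_2 F41459 D21800 (iv F41458)
theorem F41464 : act 5 n21800 = n19623 := d11_2 (iv F36268) D21800 (iv D19623)
def n21801 : Q := act 5 n19618
theorem D21801 : act 5 n19618 = n21801 := rfl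
theorem F41465 : act 0 n21801 = n19621 := d4_1 D21801 (iv D19621) (iv F36269)
theorem F41466 : act 1 n21801 = n19671 := d8_1 D21801 F36390 (iv F36270)
theorem F41467 : act 4 n21801 = n19657 := d14_1 D21801 (iv D19657) F30082 F29995 D19618
def n21802 : Q := act 3 n19619
theorem D21802 : act 3 n19619 = n21802 := rfl
theorem F41468 : act 0 n21802 = n19622 := d2_1 D21802 (iv D19622) (iv F36271)
theorem F41469 : act 1 n21802 = n19669 := d6_1 D21802 F36385 (iv F36272)
theorem F41470 : act 4 n21802 = n19656 := d12_2 D19619 D21802 (iv D19656) F30082 (iv F29999)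
def n21803 : Q := act 3 n19620
theorem D21803 : act 3 n19620 = n21803 := rfl
theorem F41471 : act 1 n21803 = n19655 := d6_1 D21803 (iv D19655) (iv F36274)
def n21804 : Q := act 5 n19620
theorem D21804 : act 5 n19620 = n21804 := rfl
theorem F41472 : act 1 n21804 = n19652 := d8_1 D21804 F36356 (iv F36274)
theorem F41473 : act 2 n21804 = n19621 := d11_1 D21804 (iv D19621) (iv F36275)
theorem F41474 : act 4 n21804 = n19650 := d14_1 D21804 (iv D19650) F30070 (iv F30001) D19620
def n21805 : Q := act 2 n19622
theorem D21805 : act 2 n19622 = n21805 := rfl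
theorem F41475 : act 4 n21805 = n19658 := d10_2 (iv F36279) D21805 (iv D19658)
def n21806 : Q := act 1 n19623
theorem D21806 : act 1 n19623 = n21806 := rfl
theorem F41476 : act 4 n21806 = n19660 := d7_2 (iv F36281) D21806 (iv D19660)
def n21807 : Q := act 3 n19623
theorem D21807 : act 3 n19623 = n21807 := rfl
theorem F41477 : act 0 n21807 = n19679 := d2_1 D21807 F36414 (iv F36280)
theorem F41478 : act 2 n21807 = n20210 := d9_1 D21807 (iv D20210) F31356 (iv F29962) F29961 (iv F30113) (iv F36417) F36418 (iv D18379) (iv D15405) F20811 (iv F18159) (iv F23573) D16832 D19623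
theorem F41479 : act 4 n21807 = n19667 := d12_2 (iv F36281) D21807 (iv D19667) (iv D16875) (iv F30086)
theorem F41480 : act 5 n21807 = n19994 := d13_2 F41464 D21807 (iv F41462)
def n21808 : Q := act 5 n19624
theorem D21808 : act 5 n19624 = n21808 := rfl
theorem F41481 : act 0 n21808 = n19626 := d4_1 D21808 (iv D19626) (iv F36282)
theorem F41482 : act 1 n21808 = n21029 := d8_1 D21808 F39594 (iv F36283)
theorem F41483 : act 2 n21808 = n21554 := d11_1 D21808 (iv D21554) (iv F36284)
def n21809 : Q := act 5 n19625
theorem D21809 : act 5 n19625 = n21809 := rfl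
theorem F41484 : act 0 n21809 = n21554 := d4_1 D21809 (iv D21554) (iv F36285)
theorem F41485 : act 1 n21809 = n21011 := d8_1 D21809 (iv D21011) (iv F36286)
theorem F41486 : act 2 n21809 = n19626 := d11_1 D21809 (iv D19626) (iv F36287)
theorem F41487 : act 3 n21809 = n21553 := d13_1 D21809 (iv D21553) F36288
def n21810 : Q := act 4 n19627
theorem D21810 : act 4 n19627 = n21810 := rfl
theorem F41488 : act 0 n21810 = n21749 := d3_1 D21810 (iv D21749) (iv F36290)
theorem F41489 : act 1 n21810 = n20240 := d7_1 D21810 (iv D20240) (iv F36291)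
theorem F41490 : act 2 n21810 = n19636 := d10_1 D21810 (iv D19636) (iv F36292)
def n21811 : Q := act 3 n19628
theorem D21811 : act 3 n19628 = n21811 := rfl
theorem F41491 : act 0 n21811 = n19895 := d2_1 D21811 F36864 (iv F36294)
def n21812 : Q := act 5 n19628
theorem D21812 : act 5 n19628 = n21812 := rfl
theorem F41492 : act 0 n21812 = n21565 := d4_1 D21812 F40879 (iv F36294)
theorem F41493 : act 2 n21812 = n19629 := d11_1 D21812 (iv D19629) (iv F36295)
theorem F41494 : act 4 n21812 = n21011 := d14_1 D21812 (iv D21011) F33752 (iv F30021) D19628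
def n21813 : Q := act 3 n19630
theorem D21813 : act 3 n19630 = n21813 := rfl
theorem F41495 : act 0 n21813 = n19631 := d2_1 D21813 (iv D19631) (iv F36300)
def n21814 : Q := act 2 n19631
theorem D21814 : act 2 n19631 = n21814 := rfl
theorem F41496 : act 3 n21814 = n21814 := d15_3 (iv F30031) D19631 D21814 (iv D21814) (iv D19631) F30031 D19564 (iv F36148) F36144
def n21815 : Q := act 5 n19631
theorem D21815 : act 5 n19631 = n21815 := rfl
theorem F41497 : act 1 n21815 = n19633 := d8_1 D21815 (iv F36307) (iv F36302)
theorem F41498 : act 3 n21815 = n19632 := d13_1 D21815 (iv D19632) D19631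
def n21816 : Q := act 4 n19634
theorem D21816 : act 4 n19634 = n21816 := rfl
theorem F41499 : act 0 n21816 = n19636 := d3_1 D21816 (iv D19636) (iv F36308)
theorem F41500 : act 1 n21816 = n19775 := d7_1 D21816 (iv D19775) (iv F36309)
theorem F41501 : act 2 n21816 = n21749 := d10_1 D21816 (iv D21749) (iv F36310)
def n21817 : Q := act 3 n19635
theorem D21817 : act 3 n19635 = n21817 := rfl
theorem F41502 : act 0 n21817 = n19637 := d2_1 D21817 (iv D19637) (iv F36312)
theorem F41503 : act 1 n21817 = n19776 := d6_1 D21817 (iv D19776) (iv F36313)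
theorem F41504 : act 5 n21817 = n20903 := d13_2 (iv F36315) D21817 (iv D20903)
def n21818 : Q := act 3 n19636
theorem D21818 : act 3 n19636 = n21818 := rfl
theorem F41505 : act 1 n21818 = n20223 := d6_1 D21818 (iv D20223) (iv F36316)
theorem F41506 : act 4 n21818 = n19637 := d12_2 D19636 D21818 (iv D19637) (iv D16848) D16847
def n21819 : Q := act 2 n19637
theorem D21819 : act 2 n19637 = n21819 := rfl
theorem F41507 : act 1 n21819 = n21070 := d5_1 D21819 (iv D21070) F37628 (iv D20224) (iv F36317)
def n21820 : Q := act 5 n19637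
theorem D21820 : act 5 n19637 = n21820 := rfl
theorem F41508 : act 0 n21820 = n20903 := d4_1 D21820 (iv F41504) F41502
theorem F41509 : act 1 n21820 = n20225 := d8_1 D21820 (iv D20225) (iv F36317)
theorem F41510 : act 3 n21820 = n19638 := d13_1 D21820 (iv D19638) D19637
def n21821 : Q := act 5 n19639
theorem D21821 : act 5 n19639 = n21821 := rfl
theorem F41511 : act 0 n21821 = n19640 := d4_1 D21821 (iv D19640) (iv F36322)
theorem F41512 : act 1 n21821 = n19773 := d8_1 D21821 (iv D19773) (iv F36323)
theorem F41513 : act 2 n21821 = n19641 := d11_1 D21821 (iv D19641) (iv F36324)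
theorem F41514 : act 3 n21821 = n20578 := d13_1 D21821 (iv D20578) (iv F36325)
theorem F41515 : act 4 n21821 = n19817 := d14_1 D21821 (iv D19817) (iv D17041) (iv F30051) D19639
def n21822 : Q := act 1 n19642
theorem D21822 : act 1 n19642 = n21822 := rfl
theorem F41516 : act 2 n21822 = n19644 := d5_2 D19642 D21822 (iv D19644) (iv D16856) (iv F30061)
theorem F41517 : act 4 n21822 = n20204 := d7_2 (iv F36333) D21822 (iv D20204)
def n21823 : Q := act 3 n19642
theorem D21823 : act 3 n19642 = n21823 := rfl
def n21824 : Q := act 5 n19642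
theorem D21824 : act 5 n19642 = n21824 := rfl
theorem F41518 : act 2 n21824 = n19643 := d11_1 D21824 (iv D19643) D19642
def n21825 : Q := act 4 n19643
theorem D21825 : act 4 n19643 = n21825 := rfl
theorem F41519 : act 0 n21825 = n20048 := d3_1 D21825 (iv F38718) F38715
theorem F41520 : act 1 n21825 = n19647 := d7_1 D21825 (iv D19647) (iv F36334)
theorem F41521 : act 3 n21825 = n19977 := d12_1 D21825 F37060 F30759 (iv F30064) (iv F36335)
theorem F41522 : act 5 n21825 = n19976 := d14_2 D19643 D21825 F37056 F30762 (iv F30062)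
def n21826 : Q := act 0 n19644
theorem D21826 : act 0 n19644 = n21826 := rfl
theorem F41523 : act 1 n21826 = n20123 := d0_2 D19644 D21826 F37399 F31396 (iv F30065)
theorem F41524 : act 4 n21826 = n20122 := d3_2 (iv F36336) D21826 F37396
theorem F41525 : act 3 n20121 = n21826 := d12_5 F41524 (iv D20122) (iv D17389) D17388 D20121
def n21827 : Q := act 3 n19644
theorem D21827 : act 3 n19644 = n21827 := rfl
theorem F41526 : act 0 n21827 = n20121 := d2_1 D21827 F41525 (iv D21826)
theorem F41527 : act 1 n21827 = n19645 := d6_1 D21827 (iv D19645) D19644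
theorem F41528 : act 4 n21827 = n20119 := d12_2 (iv F36336) D21827 (iv D20119) (iv F31098) (iv F31333)
def n21828 : Q := act 5 n19644
theorem D21828 : act 5 n19644 = n21828 := rfl
theorem F41529 : act 1 n21828 = n19646 := d8_1 D21828 (iv D19646) D19644
theorem F41530 : act 4 n21828 = n20220 := d14_1 D21828 (iv D20220) (iv D17524) (iv F31334) (iv F36336)
def n21829 : Q := act 3 n19648
theorem D21829 : act 3 n19648 = n21829 := rfl
theorem F41531 : act 0 n21829 = n19649 := d2_1 D21829 (iv D19649) D19648
theorem F41532 : act 1 n21829 = n20430 := d6_1 D21829 (iv D20430) (iv F36346)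
def n21830 : Q := act 5 n19648
theorem D21830 : act 5 n19648 = n21830 := rfl
theorem F41533 : act 0 n21830 = n19650 := d4_1 D21830 (iv D19650) D19648
theorem F41534 : act 1 n21830 = n20431 := d8_1 D21830 (iv D20431) (iv F36346)
theorem F41535 : act 2 n21830 = n19657 := d11_1 D21830 (iv D19657) (iv F36347)
def n21831 : Q := act 2 n19649
theorem D21831 : act 2 n19649 = n21831 := rfl
def n21832 : Q := act 4 n19649
theorem D21832 : act 4 n19649 = n21832 := rfl
theorem F41536 : act 1 n21832 = n19651 := d7_1 D21832 (iv D19651) (iv F36349)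
theorem F41537 : act 3 n21832 = n19653 := d12_1 D21832 (iv D19653) (iv D16863) (iv F30070) D19649
def n21833 : Q := act 5 n19651
theorem D21833 : act 5 n19651 = n21833 := rfl
theorem F41538 : act 0 n21833 = n20434 := d4_1 D21833 (iv D20434) (iv F36352)
theorem F41539 : act 3 n21833 = n19654 := d13_1 D21833 (iv D19654) (iv F36353)
def n21834 : Q := act 3 n19652
theorem D21834 : act 3 n19652 = n21834 := rfl
theorem F41540 : act 0 n21834 = n20435 := d2_1 D21834 (iv D20435) (iv F36354)
theorem F41541 : act 5 n21834 = n19655 := d13_2 (iv F36356) D21834 (iv D19655)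
def n21835 : Q := act 5 n19653
theorem D21835 : act 5 n19653 = n21835 := rfl
theorem F41542 : act 1 n21835 = n19654 := d8_1 D21835 (iv D19654) (iv F36357)
theorem F41543 : act 2 n21835 = n21072 := d11_1 D21835 F39699 F36446
def n21836 : Q := act 2 n19655
theorem D21836 : act 2 n19655 = n21836 := rfl
def n21837 : Q := act 2 n19656
theorem D21837 : act 2 n19656 = n21837 := rfl
theorem F41544 : act 0 n21837 = n19658 := d1_1 D21837 (iv D19658) (iv F36358)
def n21838 : Q := act 5 n19656
theorem D21838 : act 5 n19656 = n21838 := rfl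
theorem F41545 : act 0 n21838 = n19659 := d4_1 D21838 (iv D19659) (iv F36358)
theorem F41546 : act 1 n21838 = n19670 := d8_1 D21838 (iv D19670) (iv F36359)
theorem F41547 : act 3 n21838 = n19657 := d13_1 D21838 (iv D19657) D19656
def n21839 : Q := act 1 n19658
theorem D21839 : act 1 n19658 = n21839 := rfl
theorem F41548 : act 2 n21839 = n19660 := d5_2 D19658 D21839 (iv D19660) (iv D16869) (iv F30083)
theorem F41549 : act 5 n19664 = n21839 := d11_0 F41548 F36365 D19664
def n21840 : Q := act 3 n19658
theorem D21840 : act 3 n19658 = n21840 := rfl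
def n21841 : Q := act 5 n19658
theorem D21841 : act 5 n19658 = n21841 := rfl
theorem F41550 : act 1 n21841 = n19664 := d8_1 D21841 F41549 (iv D21839)
theorem F41551 : act 2 n21841 = n19659 := d11_1 D21841 (iv D19659) D19658
def n21842 : Q := act 4 n19659
theorem D21842 : act 4 n19659 = n21842 := rfl
theorem F41552 : act 1 n21842 = n19661 := d7_1 D21842 (iv D19661) (iv F36362)
def n21843 : Q := act 0 n19660
theorem D21843 : act 0 n19660 = n21843 := rfl
theorem F41553 : act 1 n21843 = n19667 := d0_2 D19660 D21843 F36379 (iv D16882) (iv F30085)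
theorem F41554 : act 3 n21843 = n19663 := d2_2 (iv F36364) D21843 F36371
theorem F41555 : act 5 n21843 = n19662 := d4_2 (iv F36365) D21843 F36368
def n21844 : Q := act 2 n19662
theorem D21844 : act 2 n19662 = n21844 := rfl
theorem F41556 : act 0 n21844 = n19664 := d1_1 D21844 (iv D19664) (iv F36368)
theorem F41557 : act 1 n21844 = n20881 := d5_1 D21844 F39224 F37040 (iv D19972) (iv F36369)
theorem F41558 : act 4 n21844 = n19992 := d10_2 (iv F36370) D21844 (iv D19992)
def n21845 : Q := act 3 n19664
theorem D21845 : act 3 n19664 = n21845 := rfl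
def n21846 : Q := act 4 n19664
theorem D21846 : act 4 n19664 = n21846 := rfl
theorem F41559 : act 0 n21846 = n19992 := d3_1 D21846 (iv F41558) F41556
theorem F41560 : act 2 n21846 = n19665 := d10_1 D21846 (iv D19665) D19664
theorem F41561 : act 3 n21358 = n21846 := d9_0 F41560 F36376 F30706 D17307 D20053 (iv F40962) F40961 (iv D20879) (iv F37104) F37105 (iv F37093) F37094 F34959 (iv F34941) (iv F40375)
theorem F41562 : act 4 n21845 = n21357 := d12_4 D21358 F41561 (iv D21846) D21845 (iv D21357)
theorem F41563 : act 5 n21846 = n20878 := d15_8 (iv F37104) F37105 (iv F37093) F37094 F34959 (iv F34941) (iv F40375) F41561 (iv D20878)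
def n21847 : Q := act 5 n19665
theorem D21847 : act 5 n19665 = n21847 := rfl
theorem F41564 : act 0 n21847 = n19993 := d4_1 D21847 (iv D19993) (iv F36374)
theorem F41565 : act 1 n21847 = n19666 := d8_1 D21847 (iv D19666) (iv F36375)
theorem F41566 : act 2 n21847 = n20878 := d11_1 D21847 (iv F41563) F41560
theorem F41567 : act 3 n21847 = n19971 := d13_1 D21847 (iv D19971) (iv F36376)
def n21848 : Q := act 1 n19668
theorem D21848 : act 1 n19668 = n21848 := rfl
theorem F41568 : act 0 n21848 = n20234 := d0_1 D21848 F37662 F36392 (iv D19672) (iv F36382)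
theorem F41569 : act 3 n21848 = n20233 := d6_2 (iv F36383) D21848 F37658
theorem F41570 : act 4 n20872 = n21848 := d12_0 F41569 F37660 (iv F37586) F37587 (iv F39218)
theorem F41571 : act 5 n20874 = n21848 := d13_0 F41569 F37661 (iv F39220)
def n21849 : Q := act 4 n19668
theorem D21849 : act 4 n19668 = n21849 := rfl
theorem F41572 : act 0 n21849 = n19674 := d3_1 D21849 (iv D19674) (iv F36382)
theorem F41573 : act 1 n21849 = n20872 := d7_1 D21849 F41570 (iv D21848)
theorem F41574 : act 2 n21849 = n19669 := d10_1 D21849 (iv D19669) D19668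
theorem F41575 : act 3 n21849 = n20208 := d12_1 D21849 (iv D20208) (iv F37589) F37590 (iv F36383)
theorem F41576 : act 5 n20866 = n21849 := d13_0 F41575 F37596 D20866
def n21850 : Q := act 5 n19668
theorem D21850 : act 5 n19668 = n21850 := rfl
theorem F41577 : act 0 n21850 = n19675 := d4_1 D21850 (iv D19675) (iv F36382)
theorem F41578 : act 1 n21850 = n20874 := d8_1 D21850 F41571 (iv D21848)
theorem F41579 : act 2 n21850 = n19670 := d11_1 D21850 (iv D19670) D19668
theorem F41580 : act 3 n21850 = n21185 := d13_1 D21850 (iv D21185) (iv F36383)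
theorem F41581 : act 4 n21850 = n20870 := d14_1 D21850 (iv D20870) (iv F39202) F41576 (iv D21849)
def n21851 : Q := act 5 n19669
theorem D21851 : act 5 n19669 = n21851 := rfl
theorem F41582 : act 0 n21851 = n19676 := d4_1 D21851 (iv D19676) (iv F36384)
theorem F41583 : act 2 n21851 = n20866 := d11_1 D21851 F41576 F41574
theorem F41584 : act 3 n21851 = n19686 := d13_1 D21851 (iv D19686) (iv F36385)
theorem F41585 : act 4 n20869 = n21851 := d10_0 F41583 F39202 D20869
def n21852 : Q := act 4 n19670
theorem D21852 : act 4 n19670 = n21852 := rfl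
theorem F41586 : act 0 n21852 = n19677 := d3_1 D21852 (iv D19677) (iv F36386)
theorem F41587 : act 2 n21852 = n20870 := d10_1 D21852 (iv F41581) F41579
theorem F41588 : act 5 n21852 = n20869 := d14_2 D19670 D21852 F41585 (iv D21851) (iv D19669)
def n21853 : Q := act 3 n19671
theorem D21853 : act 3 n19671 = n21853 := rfl
theorem F41589 : act 0 n21853 = n19678 := d2_1 D21853 (iv D19678) (iv F36388)
theorem F41590 : act 2 n21853 = n20919 := d9_1 D21853 F39290 F33427 F27094 (iv F26641) F26642 F24168 D16893 D19689 F36435 (iv D18441) (iv D15486) (iv F27077) D18436 (iv F36389)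
theorem F41591 : act 5 n21853 = n19687 := d13_2 (iv F36390) D21853 (iv D19687)
def n21854 : Q := act 5 n19673
theorem D21854 : act 5 n19673 = n21854 := rfl
theorem F41592 : act 0 n21854 = n21185 := d4_1 D21854 (iv D21185) (iv F36396)
theorem F41593 : act 1 n21854 = n19975 := d8_1 D21854 F37053 (iv F36397)
theorem F41594 : act 2 n21854 = n20863 := d11_1 D21854 (iv D20863) (iv F36398)
theorem F41595 : act 3 n21854 = n19675 := d13_1 D21854 (iv D19675) D19673
theorem F41596 : act 4 n21854 = n20863 := d14_1 D21854 (iv D20863) F33289 (iv F31364) F36399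
def n21855 : Q := act 4 n19675
theorem D21855 : act 4 n19675 = n21855 := rfl
theorem F41597 : act 0 n21855 = n20870 := d3_1 D21855 (iv F41581) F41577
theorem F41598 : act 1 n21855 = n19973 := d7_1 D21855 F37043 (iv F36404)
theorem F41599 : act 2 n21855 = n19677 := d10_1 D21855 (iv D19677) (iv F36405)
theorem F41600 : act 3 n21855 = n20239 := d12_1 D21855 F37678 (iv F39194) (iv F41596) F41595
theorem F41601 : act 5 n21855 = n20238 := d14_2 D19675 D21855 F37674 F36403 (iv D19674)
def n21856 : Q := act 4 n19676
theorem D21856 : act 4 n19676 = n21856 := rfl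
theorem F41602 : act 0 n21856 = n20869 := d3_1 D21856 F41585 F41582
theorem F41603 : act 1 n21856 = n19681 := d7_1 D21856 (iv D19681) (iv F36406)
theorem F41604 : act 2 n21856 = n20238 := d10_1 D21856 F37674 (iv F36407)
theorem F41605 : act 5 n21856 = n19677 := d14_2 D19676 D21856 (iv D19677) (iv D16880) D16879
def n21857 : Q := act 3 n19677
theorem D21857 : act 3 n19677 = n21857 := rfl
theorem F41606 : act 1 n21857 = n19682 := d6_1 D21857 (iv D19682) (iv F36409)
theorem F41607 : act 4 n21857 = n19678 := d12_2 D19677 D21857 (iv D19678) (iv D16881) (iv F30106)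
theorem F41608 : act 2 n21857 = n20776 := d15_2 F41599 D21857 (iv D20776) F33036 F26645 (iv F26972) D18384 D20870 (iv F41597)
def n21858 : Q := act 4 n19684
theorem D21858 : act 4 n19684 = n21858 := rfl
theorem F41609 : act 0 n21858 = n21757 := d3_1 D21858 F41357 (iv F36424)
theorem F41610 : act 1 n21858 = n19685 := d7_1 D21858 (iv D19685) D19684
theorem F41611 : act 2 n21858 = n21760 := d10_1 D21858 F41366 (iv F36425)
theorem F41612 : act 3 n21858 = n21757 := d12_1 D21858 F41357 (iv F41325) F41326 F36595
def n21859 : Q := act 5 n19685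
theorem D21859 : act 5 n19685 = n21859 := rfl
theorem F41613 : act 0 n21859 = n19688 := d4_1 D21859 (iv D19688) (iv F36427)
theorem F41614 : act 2 n21859 = n19686 := d11_1 D21859 (iv D19686) (iv F36428)
theorem F41615 : act 3 n21859 = n21691 := d13_1 D21859 F41185 (iv F36429)
def n21860 : Q := act 0 n19690
theorem D21860 : act 0 n19690 = n21860 := rfl
theorem F41616 : act 3 n21860 = n20091 := d2_2 (iv F36439) D21860 F37345
theorem F41617 : act 4 n21860 = n20092 := d3_2 F39615 D21860 (iv F39613)
def n21861 : Q := act 2 n19692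
theorem D21861 : act 2 n19692 = n21861 := rfl
theorem F41618 : act 0 n21861 = n20289 := d1_1 D21861 F37802 (iv F36440)
theorem F41619 : act 1 n21861 = n20313 := d5_1 D21861 F38491 F38490 D20584 (iv F38495)
theorem F41620 : act 4 n21861 = n20290 := d10_2 F39853 D21861 (iv F39855)
theorem F41621 : act 3 n21861 = n21054 := d15_7 (iv F33788) (iv F35822) F35821 F29582 (iv F30123) D19692 D21861 (iv D21054) F33931
theorem F41622 : act 5 n21053 = n21861 := d13_0 F41621 (iv D21054) D21053
def n21862 : Q := act 5 n19692
theorem D21862 : act 5 n19692 = n21862 := rfl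
theorem F41623 : act 0 n21862 = n21009 := d4_1 D21862 (iv D21009) (iv F36440)
theorem F41624 : act 2 n21862 = n21053 := d11_1 D21862 F41622 (iv D21861)
theorem F41625 : act 3 n21862 = n19693 := d13_1 D21862 (iv D19693) D19692
def n21863 : Q := act 4 n19695
theorem D21863 : act 4 n19695 = n21863 := rfl
theorem F41626 : act 0 n21863 = n19700 := d3_1 D21863 (iv D19700) (iv F36448)
theorem F41627 : act 1 n21863 = n20827 := d7_1 D21863 (iv D20827) (iv F36449)
theorem F41628 : act 2 n21863 = n21005 := d10_1 D21863 (iv D21005) (iv F36450)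
def n21864 : Q := act 3 n19696
theorem D21864 : act 3 n19696 = n21864 := rfl
theorem F41629 : act 0 n21864 = n19701 := d2_1 D21864 (iv D19701) (iv F36452)
theorem F41630 : act 1 n21864 = n20176 := d6_1 D21864 F37527 (iv F36453)
theorem F41631 : act 5 n21864 = n19706 := d13_2 (iv F36454) D21864 (iv D19706)
def n21865 : Q := act 3 n19697
theorem D21865 : act 3 n19697 = n21865 := rfl
theorem F41632 : act 0 n21865 = n21832 := d2_1 D21865 F41537 (iv F36455)
theorem F41633 : act 1 n21865 = n20860 := d6_1 D21865 (iv D20860) (iv F36456)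
theorem F41634 : act 4 n21865 = n21829 := d12_2 D19697 D21865 (iv D21829) F36348 (iv F30144)
theorem F41635 : act 2 n21865 = n21107 := d15_2 (iv F36457) D21865 (iv D21107) F34105 D18917 (iv F34644) D21072 F39699 F36444
def n21866 : Q := act 5 n19697
theorem D21866 : act 5 n19697 = n21866 := rfl
theorem F41636 : act 0 n21866 = n21835 := d4_1 D21866 (iv D21835) (iv F36455)
theorem F41637 : act 1 n21866 = n20861 := d8_1 D21866 (iv D20861) (iv F36456)
theorem F41638 : act 2 n21866 = n19699 := d11_1 D21866 (iv D19699) (iv F36457)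
def n21867 : Q := act 4 n19698
theorem D21867 : act 4 n19698 = n21867 := rfl
theorem F41639 : act 0 n21867 = n21005 := d3_1 D21867 (iv D21005) (iv F36458)
theorem F41640 : act 1 n21867 = n20561 := d7_1 D21867 (iv D20561) (iv F36459)
theorem F41641 : act 2 n21867 = n19700 := d10_1 D21867 (iv D19700) (iv F36460)
def n21868 : Q := act 4 n19699
theorem D21868 : act 4 n19699 = n21868 := rfl
theorem F41642 : act 1 n21868 = n19702 := d7_1 D21868 (iv D19702) (iv F36462)
theorem F41643 : act 3 n21868 = n20164 := d12_1 D21868 (iv D20164) F31241 (iv F30170) (iv F36463)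
theorem F41644 : act 5 n21868 = n19700 := d14_2 D19699 D21868 (iv D19700) (iv D16903) D16902
def n21869 : Q := act 3 n19700
theorem D21869 : act 3 n19700 = n21869 := rfl
theorem F41645 : act 1 n21869 = n19703 := d6_1 D21869 (iv D19703) (iv F36464)
theorem F41646 : act 4 n21869 = n19701 := d12_2 D19700 D21869 (iv D19701) (iv D16904) (iv F30148)
theorem F41647 : act 5 n21869 = n20164 := d13_2 F41644 D21869 (iv F41643)
def n21870 : Q := act 2 n19701
theorem D21870 : act 2 n19701 = n21870 := rfl
theorem F41648 : act 5 n21870 = n19710 := d11_2 (iv F36466) D21870 (iv D19710)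
def n21871 : Q := act 1 n19704
theorem D21871 : act 1 n19704 = n21871 := rfl
theorem F41649 : act 3 n21871 = n21033 := d6_2 (iv F36476) D21871 (iv D21033)
theorem F41650 : act 4 n21871 = n20171 := d7_2 (iv F36477) D21871 F37519
theorem F41651 : act 5 n21871 = n19711 := d8_2 (iv F36478) D21871 (iv D19711)
def n21872 : Q := act 4 n19705
theorem D21872 : act 4 n19705 = n21872 := rfl
theorem F41652 : act 0 n21872 = n19708 := d3_1 D21872 (iv D19708) (iv F36479)
theorem F41653 : act 1 n21872 = n20255 := d7_1 D21872 (iv D20255) (iv F36480)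
theorem F41654 : act 3 n21872 = n21240 := d12_1 D21872 (iv D21240) F34647 F32112 D19705
def n21873 : Q := act 2 n19706
theorem D21873 : act 2 n19706 = n21873 := rfl
theorem F41655 : act 0 n21873 = n19710 := d1_1 D21873 (iv D19710) (iv F36482)
theorem F41656 : act 4 n21873 = n20159 := d10_2 (iv F36484) D21873 (iv D20159)
def n21874 : Q := act 4 n19707
theorem D21874 : act 4 n19707 = n21874 := rfl
theorem F41657 : act 1 n21874 = n20246 := d7_1 D21874 (iv D20246) (iv F36485)
theorem F41658 : act 2 n21874 = n19708 := d10_1 D21874 (iv D19708) D19707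
def n21875 : Q := act 3 n19708
theorem D21875 : act 3 n19708 = n21875 := rfl
theorem F41659 : act 0 n21875 = n21240 := d2_1 D21875 (iv F41654) F41652
theorem F41660 : act 1 n21875 = n20158 := d6_1 D21875 (iv D20158) (iv F36487)
theorem F41661 : act 4 n21875 = n19709 := d12_2 D19708 D21875 (iv D19709) (iv D16913) D16912
def n21876 : Q := act 5 n19708
theorem D21876 : act 5 n19708 = n21876 := rfl
theorem F41662 : act 1 n21876 = n20157 := d8_1 D21876 F37500 (iv F36487)
theorem F41663 : act 4 n21876 = n20153 := d14_1 D21876 (iv D20153) (iv D17439) (iv F30166) D19708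
def n21877 : Q := act 2 n19709
theorem D21877 : act 2 n19709 = n21877 := rfl
theorem F41664 : act 0 n21877 = n21105 := d1_1 D21877 F39785 (iv F36488)
theorem F41665 : act 5 n21877 = n21106 := d11_2 (iv F36490) D21877 F39787
def n21878 : Q := act 1 n19710
theorem D21878 : act 1 n19710 = n21878 := rfl
theorem F41666 : act 2 n21878 = n19711 := d5_2 D19710 D21878 (iv D19711) (iv D16916) (iv F30171)
theorem F41667 : act 4 n21878 = n20161 := d7_2 (iv F36491) D21878 (iv D20161)
def n21879 : Q := act 3 n19710
theorem D21879 : act 3 n19710 = n21879 := rfl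
def n21880 : Q := act 0 n19711
theorem D21880 : act 0 n19711 = n21880 := rfl
theorem F41668 : act 1 n21880 = n20187 := d0_2 D19711 D21880 F37542 F31261 (iv F30173)
theorem F41669 : act 4 n21880 = n20165 := d3_2 (iv F36492) D21880 (iv D20165)
def n21881 : Q := act 3 n19711
theorem D21881 : act 3 n19711 = n21881 := rfl
theorem F41670 : act 1 n21881 = n19712 := d6_1 D21881 (iv D19712) D19711
theorem F41671 : act 4 n21881 = n20172 := d12_2 (iv F36492) D21881 (iv D20172) (iv D17455) (iv F31242)
theorem F41672 : act 5 n21881 = n21033 := d13_2 F41651 D21881 (iv F41649)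
def n21882 : Q := act 3 n19713
theorem D21882 : act 3 n19713 = n21882 := rfl
theorem F41673 : act 0 n21882 = n19718 := d2_1 D21882 (iv D19718) (iv F36497)
theorem F41674 : act 1 n21882 = n21674 := d6_1 D21882 F41138 F38200
theorem F41675 : act 4 n21882 = n20253 := d12_2 D19713 D21882 (iv D20253) (iv D17574) (iv F30176)
theorem F41676 : act 5 n21882 = n21058 := d13_2 (iv F36499) D21882 (iv D21058)
def n21883 : Q := act 4 n19714
theorem D21883 : act 4 n19714 = n21883 := rfl
theorem F41677 : act 1 n21883 = n19716 := d7_1 D21883 (iv D19716) (iv F36500)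
def n21884 : Q := act 3 n19715
theorem D21884 : act 3 n19715 = n21884 := rfl
theorem F41678 : act 1 n21884 = n19718 := d6_1 D21884 (iv D19718) (iv F36502)
def n21885 : Q := act 5 n19715
theorem D21885 : act 5 n19715 = n21885 := rfl
theorem F41679 : act 1 n21885 = n19719 := d8_1 D21885 (iv D19719) (iv F36502)
theorem F41680 : act 2 n21885 = n19721 := d11_1 D21885 (iv D19721) (iv F36503)
theorem F41681 : act 4 n21885 = n19732 := d14_1 D21885 (iv D19732) (iv D16934) F30182 D19715
def n21886 : Q := act 3 n19716
theorem D21886 : act 3 n19716 = n21886 := rfl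
theorem F41682 : act 0 n21886 = n20253 := d2_1 D21886 (iv D20253) (iv F36504)
theorem F41683 : act 4 n21886 = n19718 := d12_2 D19716 D21886 (iv D19718) (iv D16921) D16920
def n21887 : Q := act 5 n19716
theorem D21887 : act 5 n19716 = n21887 := rfl
theorem F41684 : act 0 n21887 = n20254 := d4_1 D21887 (iv D20254) (iv F36504)
theorem F41685 : act 2 n21887 = n20250 := d11_1 D21887 (iv D20250) (iv F36505)
def n21888 : Q := act 4 n19717
theorem D21888 : act 4 n19717 = n21888 := rfl
theorem F41686 : act 0 n21888 = n19725 := d3_1 D21888 (iv D19725) (iv F36506)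
theorem F41687 : act 1 n21888 = n19730 := d7_1 D21888 (iv D19730) (iv F36507)
theorem F41688 : act 2 n21888 = n19724 := d10_1 D21888 (iv D19724) (iv F36508)
def n21889 : Q := act 2 n19718
theorem D21889 : act 2 n19718 = n21889 := rfl
def n21890 : Q := act 5 n19718
theorem D21890 : act 5 n19718 = n21890 := rfl
theorem F41689 : act 0 n21890 = n21058 := d4_1 D21890 (iv F41676) F41673
theorem F41690 : act 3 n21890 = n19719 := d13_1 D21890 (iv D19719) D19718
def n21891 : Q := act 2 n19720
theorem D21891 : act 2 n19720 = n21891 := rfl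
theorem F41691 : act 4 n21891 = n19733 := d10_2 (iv F36514) D21891 (iv D19733)
def n21892 : Q := act 5 n19720
theorem D21892 : act 5 n19720 = n21892 := rfl
theorem F41692 : act 1 n21892 = n19722 := d8_1 D21892 (iv D19722) (iv F36513)
theorem F41693 : act 3 n21892 = n19721 := d13_1 D21892 (iv D19721) D19720
def n21893 : Q := act 2 n19723
theorem D21893 : act 2 n19723 = n21893 := rfl
theorem F41694 : act 0 n21893 = n20151 := d1_1 D21893 F37486 (iv F36519)
theorem F41695 : act 1 n21893 = n19729 := d5_1 D21893 (iv D19729) (iv F36507) F36508 (iv F36520)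
theorem F41696 : act 3 n21893 = n20275 := d9_2 D19723 D21893 (iv D20275) (iv D17594) (iv D14551) (iv D11518) (iv F19297) D14530 D17567 D20245 F37690 (iv D17633) F25101 (iv F25037) (iv F30199)
theorem F41697 : act 5 n21893 = n20243 := d11_2 (iv F36521) D21893 (iv D20243)
def n21894 : Q := act 4 n19723
theorem D21894 : act 4 n19723 = n21894 := rfl
theorem F41698 : act 0 n21894 = n20154 := d3_1 D21894 (iv D20154) (iv F36519)
theorem F41699 : act 1 n21894 = n19724 := d7_1 D21894 (iv D19724) (iv F36520)
def n21895 : Q := act 5 n19724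
theorem D21895 : act 5 n19724 = n21895 := rfl
theorem F41700 : act 0 n21895 = n19726 := d4_1 D21895 (iv D19726) (iv F36522)
theorem F41701 : act 4 n21895 = n20250 := d14_1 D21895 (iv D20250) (iv D17572) (iv F30202) D19724
def n21896 : Q := act 5 n19725
theorem D21896 : act 5 n19725 = n21896 := rfl
theorem F41702 : act 2 n21896 = n19726 := d11_1 D21896 (iv D19726) (iv F36523)
theorem F41703 : act 4 n21896 = n20254 := d14_1 D21896 (iv D20254) (iv D17574) (iv F30203) D19725
def n21897 : Q := act 4 n19727
theorem D21897 : act 4 n19727 = n21897 := rfl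
theorem F41704 : act 0 n21897 = n19730 := d3_1 D21897 (iv D19730) (iv F36526)
theorem F41705 : act 1 n21897 = n21234 := d7_1 D21897 F40087 F37419
theorem F41706 : act 3 n21897 = n21233 := d12_1 D21897 F40085 F34590 F32036 D19727
def n21898 : Q := act 4 n19729
theorem D21898 : act 4 n19729 = n21898 := rfl
theorem F41707 : act 2 n21898 = n19730 := d10_1 D21898 (iv D19730) D19729
def n21899 : Q := act 3 n19730
theorem D21899 : act 3 n19730 = n21899 := rfl
theorem F41708 : act 0 n21899 = n21233 := d2_1 D21899 (iv F41706) F41704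
theorem F41709 : act 4 n21899 = n19731 := d12_2 D19730 D21899 (iv D19731) (iv D16934) D16933
theorem F41710 : act 2 n21473 = n21899 := d10_3 F41709 (iv F36531) (iv F40637)
def n21900 : Q := act 5 n19730
theorem D21900 : act 5 n19730 = n21900 := rfl
def n21901 : Q := act 0 n19735
theorem D21901 : act 0 n19735 = n21901 := rfl
theorem F41711 : act 1 n21901 = n21121 := d0_2 D19735 D21901 (iv D21121) (iv D18721) (iv F30215)
theorem F41712 : act 2 n21901 = n19736 := d1_2 (iv F36537) D21901 (iv D19736)
theorem F41713 : act 4 n21901 = n20613 := d3_2 (iv F36538) D21901 (iv D20613)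
theorem F41714 : act 5 n21901 = n19744 := d4_2 (iv F36539) D21901 (iv D19744)
def n21902 : Q := act 1 n19737
theorem D21902 : act 1 n19737 = n21902 := rfl
theorem F41715 : act 2 n21902 = n20048 := d5_2 D19737 D21902 F37248 (iv F32760) F32759
theorem F41716 : act 3 n21902 = n19818 := d6_2 (iv F36545) D21902 F36736
theorem F41717 : act 5 n21902 = n20047 := d8_2 (iv F36544) D21902 F37245
def n21903 : Q := act 0 n19738
theorem D21903 : act 0 n19738 = n21903 := rfl
theorem F41718 : act 1 n21903 = n19744 := d0_2 D19738 D21903 (iv D19744) (iv D16953) (iv F30226)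
theorem F41719 : act 2 n21903 = n21100 := d1_2 (iv F36546) D21903 F39774
theorem F41720 : act 3 n21903 = n21750 := d2_2 F37548 D21903 F41334
theorem F41721 : act 4 n21903 = n21751 := d3_2 F39481 D21903 F41337
theorem F41722 : act 5 n21903 = n21121 := d4_2 (iv F36547) D21903 (iv D21121)
def n21904 : Q := act 1 n19740
theorem D21904 : act 1 n19740 = n21904 := rfl
theorem F41723 : act 4 n21904 = n19741 := d7_2 (iv F36550) D21904 (iv D19741)
def n21905 : Q := act 3 n19740
theorem D21905 : act 3 n19740 = n21905 := rfl
def n21906 : Q := act 0 n19741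
theorem D21906 : act 0 n19741 = n21906 := rfl
theorem F41724 : act 2 n21906 = n20220 := d1_2 F39477 D21906 (iv F39476)
theorem F41725 : act 5 n20219 = n21906 := d11_0 F41724 (iv D20220) (iv F37618)
def n21907 : Q := act 3 n19741
theorem D21907 : act 3 n19741 = n21907 := rfl
theorem F41726 : act 1 n21907 = n19742 := d6_1 D21907 (iv D19742) D19741
theorem F41727 : act 2 n21165 = n21907 := d5_0 F41726 F36552 F31958 (iv F34187) (iv F39887)
theorem F41728 : act 5 n20423 = n21907 := d8_0 F41726 F36553 D20423
def n21908 : Q := act 5 n19741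
theorem D21908 : act 5 n19741 = n21908 := rfl
theorem F41729 : act 0 n21908 = n20219 := d4_1 D21908 F41725 (iv D21906)
theorem F41730 : act 1 n21908 = n19743 := d8_1 D21908 (iv D19743) D19741
theorem F41731 : act 2 n21908 = n20217 := d11_1 D21908 (iv F39478) F39477
theorem F41732 : act 3 n21908 = n20423 := d13_1 D21908 F41728 (iv D21907)
theorem F41733 : act 4 n20216 = n21908 := d12_0 F41732 F38149 D21160 (iv F39878) (iv F37614)
def n21909 : Q := act 4 n19742
theorem D21909 : act 4 n19742 = n21909 := rfl
theorem F41734 : act 0 n21909 = n20426 := d3_1 D21909 (iv D20426) (iv F36551)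
theorem F41735 : act 2 n21909 = n20424 := d10_1 D21909 (iv D20424) (iv F36552)
theorem F41736 : act 5 n21909 = n21162 := d14_2 (iv F36553) D21909 (iv D21162) (iv D18765) (iv F31956)
def n21910 : Q := act 2 n19745
theorem D21910 : act 2 n19745 = n21910 := rfl
theorem F41737 : act 0 n21910 = n19746 := d1_1 D21910 (iv D19746) (iv F36558)
def n21911 : Q := act 3 n19746
theorem D21911 : act 3 n19746 = n21911 := rfl
theorem F41738 : act 1 n21911 = n20594 := d6_1 D21911 (iv D20594) (iv F36560)
theorem F41739 : act 5 n21911 = n19986 := d13_2 F36894 D21911 F37077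
theorem F41740 : act 2 n21911 = n20434 := d15_6 (iv F33726) F33727 F30232 D16955 D19746 D21911 (iv F39199) (iv D20865) F33298
theorem F41741 : act 4 n19985 = n21911 := d14_5 F41739 (iv D19986) (iv D17217) D17216 D19985
def n21912 : Q := act 2 n19751
theorem D21912 : act 2 n19751 = n21912 := rfl
theorem F41742 : act 4 n21912 = n21008 := d10_2 (iv F36573) D21912 (iv D21008)
theorem F41743 : act 5 n21912 = n19758 := d11_2 (iv F36574) D21912 (iv D19758)
def n21913 : Q := act 1 n19752
theorem D21913 : act 1 n19752 = n21913 := rfl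
theorem F41744 : act 4 n21913 = n20819 := d7_2 (iv F36576) D21913 F39090
theorem F41745 : act 5 n21913 = n19759 := d8_2 (iv F36577) D21913 (iv D19759)
def n21914 : Q := act 2 n19756
theorem D21914 : act 2 n19756 = n21914 := rfl
theorem F41746 : act 0 n21914 = n19758 := d1_1 D21914 (iv D19758) (iv F36591)
theorem F41747 : act 4 n21914 = n20808 := d10_2 (iv F36593) D21914 (iv D20808)
def n21915 : Q := act 1 n19758
theorem D21915 : act 1 n19758 = n21915 := rfl
theorem F41748 : act 2 n21915 = n19759 := d5_2 D19758 D21915 (iv D19759) (iv D16971) (iv F30270)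
theorem F41749 : act 4 n21915 = n20809 := d7_2 (iv F36597) D21915 (iv D20809)
def n21916 : Q := act 3 n19758
theorem D21916 : act 3 n19758 = n21916 := rfl
def n21917 : Q := act 0 n19759
theorem D21917 : act 0 n19759 = n21917 := rfl
theorem F41750 : act 1 n21917 = n20824 := d0_2 D19759 D21917 F39099 F33139 (iv F30272)
theorem F41751 : act 4 n21917 = n20813 := d3_2 (iv F36598) D21917 (iv D20813)
def n21918 : Q := act 3 n19759
theorem D21918 : act 3 n19759 = n21918 := rfl
theorem F41752 : act 1 n21918 = n19760 := d6_1 D21918 (iv D19760) D19759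
theorem F41753 : act 4 n21918 = n20820 := d12_2 (iv F36598) D21918 (iv D20820) (iv D18300) (iv F33108)
def n21919 : Q := act 3 n19761
theorem D21919 : act 3 n19761 = n21919 := rfl
theorem F41754 : act 0 n21919 = n19762 := d2_1 D21919 (iv D19762) D19761
theorem F41755 : act 1 n21919 = n19799 := d6_1 D21919 (iv D19799) (iv F36602)
theorem F41756 : act 4 n21919 = n19804 := d12_2 (iv F36604) D21919 (iv D19804) (iv D17030) (iv F30286)
def n21920 : Q := act 2 n19762
theorem D21920 : act 2 n19762 = n21920 := rfl
theorem F41757 : act 4 n21920 = n19806 := d10_2 (iv F36606) D21920 (iv D19806)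
def n21921 : Q := act 4 n19764
theorem D21921 : act 4 n19764 = n21921 := rfl
theorem F41758 : act 0 n21921 = n20686 := d3_1 D21921 (iv D20686) (iv F36611)
theorem F41759 : act 1 n21921 = n19765 := d7_1 D21921 (iv D19765) (iv F36612)
theorem F41760 : act 2 n21921 = n20684 := d10_1 D21921 (iv D20684) (iv F36613)
theorem F41761 : act 5 n21921 = n20684 := d14_2 (iv F36614) D21921 (iv D20684) F32784 F30409
def n21922 : Q := act 5 n19765
theorem D21922 : act 5 n19765 = n21922 := rfl
theorem F41762 : act 0 n21922 = n20805 := d4_1 D21922 (iv F41331) F41328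
theorem F41763 : act 1 n21922 = n20684 := d8_1 D21922 (iv F41761) F41759
theorem F41764 : act 2 n21922 = n21778 := d11_1 D21922 F41407 (iv F36615)
theorem F41765 : act 4 n21922 = n20682 := d14_1 D21922 F38726 (iv F35800) F35801 D19765
def n21923 : Q := act 3 n19766
theorem D21923 : act 3 n19766 = n21923 := rfl
theorem F41766 : act 0 n21923 = n19767 := d2_1 D21923 (iv D19767) (iv F36616)
theorem F41767 : act 1 n21923 = n19774 := d6_1 D21923 (iv D19774) (iv F36617)
theorem F41768 : act 4 n21923 = n19816 := d12_2 D19766 D21923 (iv D19816) (iv D17041) (iv F30297)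
theorem F41769 : act 5 n21923 = n20574 := d13_2 (iv F36619) D21923 (iv D20574)
def n21924 : Q := act 2 n19767
theorem D21924 : act 2 n19767 = n21924 := rfl
theorem F41770 : act 1 n21924 = n20426 := d5_1 D21924 F38154 F31962 F30304 (iv F36620)
theorem F41771 : act 4 n21924 = n19818 := d10_2 (iv F36621) D21924 (iv D19818)
theorem F41772 : act 5 n21924 = n20575 := d11_2 (iv F36622) D21924 (iv D20575)
def n21925 : Q := act 5 n19768
theorem D21925 : act 5 n19768 = n21925 := rfl
theorem F41773 : act 0 n21925 = n19770 := d4_1 D21925 (iv D19770) (iv F36623)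
theorem F41774 : act 1 n21925 = n20578 := d8_1 D21925 (iv D20578) (iv F36624)
theorem F41775 : act 3 n21925 = n19773 := d13_1 D21925 (iv D19773) (iv F36625)
theorem F41776 : act 4 n21925 = n20391 := d14_1 D21925 F38067 (iv D17981) F30307 D19768
def n21926 : Q := act 3 n19769
theorem D21926 : act 3 n19769 = n21926 := rfl
theorem F41777 : act 0 n21926 = n19771 := d2_1 D21926 (iv D19771) (iv F36626)
theorem F41778 : act 1 n21926 = n20574 := d6_1 D21926 (iv D20574) (iv F36627)
theorem F41779 : act 4 n21926 = n20390 := d12_2 D19769 D21926 F38063 (iv D17981) (iv F30311)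
theorem F41780 : act 5 n21926 = n19774 := d13_2 (iv F36629) D21926 (iv D19774)
theorem F41781 : act 2 n21926 = n21179 := d15_2 (iv F36628) D21926 (iv F40675) F40674 (iv D19796) (iv D17019) (iv D13942) (iv F23897) (iv F30357)
def n21927 : Q := act 3 n19772
theorem D21927 : act 3 n19772 = n21927 := rfl
theorem F41782 : act 0 n21927 = n19776 := d2_1 D21927 (iv D19776) (iv F36637)
theorem F41783 : act 1 n21927 = n20221 := d6_1 D21927 (iv D20221) (iv F36638)
theorem F41784 : act 4 n21927 = n19823 := d12_2 D19772 D21927 (iv D19823) (iv D17051) (iv F30327)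
def n21928 : Q := act 5 n19772
theorem D21928 : act 5 n19772 = n21928 := rfl
theorem F41785 : act 0 n21928 = n19777 := d4_1 D21928 (iv D19777) (iv F36637)
theorem F41786 : act 1 n21928 = n20222 := d8_1 D21928 (iv D20222) (iv F36638)
theorem F41787 : act 2 n21928 = n19773 := d11_1 D21928 (iv D19773) (iv F36639)
theorem F41788 : act 4 n21928 = n20236 := d14_1 D21928 (iv D20236) (iv D17552) F30328 D19772
def n21929 : Q := act 2 n19774
theorem D21929 : act 2 n19774 = n21929 := rfl
theorem F41789 : act 0 n21929 = n19778 := d1_1 D21929 (iv D19778) (iv F36642)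
theorem F41790 : act 4 n21929 = n20904 := d10_2 (iv F36643) D21929 (iv D20904)
theorem F41791 : act 5 n21929 = n21179 := d11_2 F41780 D21929 (iv F41781)
def n21930 : Q := act 3 n19775
theorem D21930 : act 3 n19775 = n21930 := rfl
theorem F41792 : act 0 n21930 = n19823 := d2_1 D21930 (iv D19823) (iv F36644)
theorem F41793 : act 4 n21930 = n19776 := d12_2 D19775 D21930 (iv D19776) (iv D16994) D16993
def n21931 : Q := act 2 n19776
theorem D21931 : act 2 n19776 = n21931 := rfl
def n21932 : Q := act 5 n19776
theorem D21932 : act 5 n19776 = n21932 := rfl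
theorem F41794 : act 1 n21932 = n20903 := d8_1 D21932 (iv F41504) F41503
theorem F41795 : act 3 n21932 = n19777 := d13_1 D21932 (iv D19777) D19776
def n21933 : Q := act 5 n19779
theorem D21933 : act 5 n19779 = n21933 := rfl
theorem F41796 : act 0 n21933 = n19783 := d4_1 D21933 (iv D19783) (iv F36652)
theorem F41797 : act 1 n21933 = n20854 := d8_1 D21933 F39169 (iv F36653)
theorem F41798 : act 2 n21933 = n19780 := d11_1 D21933 (iv D19780) (iv F36654)
theorem F41799 : act 3 n21933 = n20997 := d13_1 D21933 (iv D20997) (iv F36655)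
def n21934 : Q := act 2 n19781
theorem D21934 : act 2 n19781 = n21934 := rfl
theorem F41800 : act 0 n21934 = n19784 := d1_1 D21934 (iv D19784) (iv F36659)
theorem F41801 : act 5 n21934 = n19793 := d11_2 (iv F36661) D21934 (iv D19793)
def n21935 : Q := act 1 n19784
theorem D21935 : act 1 n19784 = n21935 := rfl
theorem F41802 : act 2 n21935 = n19785 := d5_2 D19784 D21935 (iv D19785) (iv D17006) (iv F30363)
theorem F41803 : act 4 n21935 = n19844 := d7_2 F39384 D21935 (iv F39383)
theorem F41804 : act 5 n21935 = n19795 := d8_2 (iv F36665) D21935 (iv D19795)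
def n21936 : Q := act 3 n19784
theorem D21936 : act 3 n19784 = n21936 := rfl
theorem F41805 : act 5 n21936 = n19796 := d13_2 (iv F36665) D21936 (iv D19796)
def n21937 : Q := act 0 n19785
theorem D21937 : act 0 n19785 = n21937 := rfl
theorem F41806 : act 1 n21937 = n19871 := d0_2 D19785 D21937 F36819 F30514 (iv F30365)
theorem F41807 : act 4 n21937 = n19842 := d3_2 (iv F36666) D21937 F36779
theorem F41808 : act 5 n21937 = n19797 := d4_2 (iv F36667) D21937 (iv D19797)
def n21938 : Q := act 3 n19786
theorem D21938 : act 3 n19786 = n21938 := rfl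
theorem F41809 : act 0 n21938 = n19787 := d2_1 D21938 (iv D19787) D19786
theorem F41810 : act 5 n21938 = n19799 := d13_2 (iv F36670) D21938 (iv D19799)
def n21939 : Q := act 2 n19787
theorem D21939 : act 2 n19787 = n21939 := rfl
theorem F41811 : act 1 n21939 = n19872 := d5_1 D21939 (iv D19872) F30513 (iv F30372) (iv F36671)
theorem F41812 : act 5 n21939 = n19800 := d11_2 (iv F36672) D21939 (iv D19800)
def n21940 : Q := act 1 n19788
theorem D21940 : act 1 n19788 = n21940 := rfl
theorem F41813 : act 0 n21940 = n20663 := d0_1 D21940 (iv F38794) F38793 F32860 (iv F36673)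
theorem F41814 : act 3 n21940 = n20526 := d6_2 (iv F36674) D21940 (iv D20526)
theorem F41815 : act 5 n21940 = n20545 := d8_2 F38814 D21940 (iv F38812)
def n21941 : Q := act 4 n19788
theorem D21941 : act 4 n19788 = n21941 := rfl
theorem F41816 : act 0 n21941 = n19791 := d3_1 D21941 (iv D19791) (iv F36673)
theorem F41817 : act 2 n21941 = n19789 := d10_1 D21941 (iv D19789) D19788
theorem F41818 : act 3 n20362 = n21941 := d9_0 F41817 F36676 F30406 (iv D14707) F19588 D11652 D14713 D17756 (iv F36684) F36685 (iv F36706) F36707 F31885 (iv F31827) (iv F37983)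
theorem F41819 : act 5 n21941 = n20401 := d13_2 (iv F37984) F41818 (iv D20401)
def n21942 : Q := act 5 n19789
theorem D21942 : act 5 n19789 = n21942 := rfl
theorem F41820 : act 0 n21942 = n19792 := d4_1 D21942 (iv D19792) (iv F36675)
theorem F41821 : act 1 n21942 = n19819 := d8_1 D21942 F38772 F38769
theorem F41822 : act 2 n21942 = n20401 := d11_1 D21942 (iv F41819) F41817
theorem F41823 : act 3 n21942 = n19802 := d13_1 D21942 (iv D19802) (iv F36676)
def n21943 : Q := act 4 n19790
theorem D21943 : act 4 n19790 = n21943 := rfl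
theorem F41824 : act 0 n21943 = n20527 := d3_1 D21943 (iv D20527) (iv F36677)
theorem F41825 : act 1 n21943 = n20359 := d7_1 D21943 F38829 F38826
theorem F41826 : act 2 n21943 = n20523 := d10_1 D21943 (iv D20523) (iv F36678)
theorem F41827 : act 3 n21943 = n20358 := d12_1 D21943 F37976 F36681 (iv D19791) D19790
theorem F41828 : act 5 n20538 = n21943 := d13_0 F41827 (iv F37977) D20538
def n21944 : Q := act 1 n19793
theorem D21944 : act 1 n19793 = n21944 := rfl
theorem F41829 : act 2 n21944 = n19848 := d5_2 D19793 D21944 F36784 F30485 (iv F30385)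
theorem F41830 : act 4 n21944 = n19825 := d7_2 (iv F36687) D21944 (iv D19825)
def n21945 : Q := act 3 n19794
theorem D21945 : act 3 n19794 = n21945 := rfl
theorem F41831 : act 0 n21945 = n20994 := d2_1 D21945 F39487 (iv F36688)
theorem F41832 : act 1 n21945 = n20940 := d6_1 D21945 (iv D20940) (iv F36689)
theorem F41833 : act 2 n21945 = n20997 := d9_1 D21945 (iv F41799) F41798 F36658 (iv F35766) F35767 (iv F36131) D21751 F41340 (iv D19782) F30360 F23895 (iv F23917) D17017 D19794
theorem F41834 : act 5 n21945 = n20992 := d13_2 (iv F36691) D21945 F39480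
def n21946 : Q := act 0 n19795
theorem D21946 : act 0 n19795 = n21946 := rfl
theorem F41835 : act 2 n21946 = n19797 := d1_2 (iv F36692) D21946 (iv D19797)
theorem F41836 : act 4 n21946 = n19829 := d3_2 (iv F36693) D21946 (iv D19829)
def n21947 : Q := act 3 n19795
theorem D21947 : act 3 n19795 = n21947 := rfl
theorem F41837 : act 1 n21947 = n19796 := d6_1 D21947 (iv D19796) D19795
def n21948 : Q := act 2 n19798
theorem D21948 : act 2 n19798 = n21948 := rfl
theorem F41838 : act 4 n21948 = n19845 := d10_2 (iv F36697) D21948 (iv D19845)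
def n21949 : Q := act 2 n19799
theorem D21949 : act 2 n19799 = n21949 := rfl
theorem F41839 : act 0 n21949 = n19800 := d1_1 D21949 (iv D19800) (iv F36698)
def n21950 : Q := act 1 n19800
theorem D21950 : act 1 n19800 = n21950 := rfl
theorem F41840 : act 2 n21950 = n19801 := d5_2 D19800 D21950 (iv D19801) (iv D17024) (iv F30398)
theorem F41841 : act 5 n21950 = n19872 := d8_2 F41812 D21950 (iv F41811)
def n21951 : Q := act 3 n19800
theorem D21951 : act 3 n19800 = n21951 := rfl
def n21952 : Q := act 0 n19801
theorem D21952 : act 0 n19801 = n21952 := rfl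
theorem F41842 : act 3 n21952 = n19871 := d2_2 (iv F36699) D21952 F36819
theorem F41843 : act 5 n21952 = n19870 := d4_2 (iv F36700) D21952 F36818
def n21953 : Q := act 2 n19804
theorem D21953 : act 2 n19804 = n21953 := rfl
theorem F41844 : act 0 n21953 = n19806 := d1_1 D21953 (iv D19806) (iv F36708)
def n21954 : Q := act 3 n19806
theorem D21954 : act 3 n19806 = n21954 := rfl
theorem F41845 : act 1 n21954 = n19914 := d6_1 D21954 (iv F39029) F39027
theorem F41846 : act 2 n21954 = n19823 := d15_2 D19806 D21954 (iv D19823) F30453 (iv F30439) (iv F36710) (iv F39033) F39034 F36708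
def n21955 : Q := act 2 n19807
theorem D21955 : act 2 n19807 = n21955 := rfl
theorem F41847 : act 4 n21955 = n19893 := d10_2 (iv F36713) D21955 (iv D19893)
theorem F41848 : act 3 n21955 = n20845 := d15_1 D21955 (iv D20845) (iv D18346) F26857 (iv F26847) (iv F33224) D20838 F39139 F38577
def n21956 : Q := act 5 n19807
theorem D21956 : act 5 n19807 = n21956 := rfl
theorem F41849 : act 0 n21956 = n20838 := d4_1 D21956 F39139 F38577
theorem F41850 : act 1 n21956 = n19810 := d8_1 D21956 (iv D19810) (iv F36712)
theorem F41851 : act 3 n21956 = n19808 := d13_1 D21956 (iv D19808) D19807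
def n21957 : Q := act 1 n19809
theorem D21957 : act 1 n19809 = n21957 := rfl
theorem F41852 : act 3 n21957 = n21749 := d6_2 F41144 D21957 F41332
theorem F41853 : act 4 n21957 = n19895 := d7_2 (iv F36719) D21957 (iv D19895)
def n21958 : Q := act 4 n19810
theorem D21958 : act 4 n19810 = n21958 := rfl
theorem F41854 : act 0 n21958 = n19815 := d3_1 D21958 (iv D19815) (iv F36720)
theorem F41855 : act 2 n21958 = n21020 := d10_1 D21958 (iv F41346) F41345
theorem F41856 : act 3 n21958 = n19886 := d12_1 D21958 (iv D19886) F30548 (iv F30422) (iv F36721)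
theorem F41857 : act 5 n21958 = n19897 := d14_2 D19810 D21958 (iv D19897) (iv D17124) (iv F30419)
def n21959 : Q := act 1 n19811
theorem D21959 : act 1 n19811 = n21959 := rfl
theorem F41858 : act 4 n21959 = n19813 := d7_2 (iv F36723) D21959 (iv D19813)
def n21960 : Q := act 4 n19812
theorem D21960 : act 4 n19812 = n21960 := rfl
theorem F41859 : act 0 n21960 = n19897 := d3_1 D21960 (iv D19897) (iv F36724)
theorem F41860 : act 2 n21960 = n21556 := d10_1 D21960 (iv F41354) F41353
theorem F41861 : act 3 n21960 = n19890 := d12_1 D21960 (iv D19890) F30557 (iv F30427) (iv F36725)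
theorem F41862 : act 5 n21960 = n19815 := d14_2 D19812 D21960 (iv D19815) (iv D17039) (iv F30424)
def n21961 : Q := act 0 n19813
theorem D21961 : act 0 n19813 = n21961 := rfl
theorem F41863 : act 3 n21961 = n20240 := d2_2 (iv F37559) D21961 F37679
def n21962 : Q := act 5 n19813
theorem D21962 : act 5 n19813 = n21962 := rfl
theorem F41864 : act 1 n21962 = n19814 := d8_1 D21962 (iv D19814) D19813
theorem F41865 : act 3 n21962 = n21013 := d13_1 D21962 F39539 (iv F37559)
def n21963 : Q := act 4 n19814
theorem D21963 : act 4 n19814 = n21963 := rfl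
theorem F41866 : act 0 n21963 = n21020 := d3_1 D21963 (iv F41346) F41344
theorem F41867 : act 2 n21963 = n19815 := d10_1 D21963 (iv D19815) (iv F36726)
theorem F41868 : act 3 n21963 = n21016 := d12_1 D21963 (iv D21016) (iv D18585) (iv F33774) (iv F36727)
theorem F41869 : act 5 n21963 = n21556 := d14_2 D19814 D21963 (iv F41354) F41355 F36723
def n21964 : Q := act 2 n19816
theorem D21964 : act 2 n19816 = n21964 := rfl
theorem F41870 : act 0 n21964 = n19818 := d1_1 D21964 (iv D19818) (iv F36729)
theorem F41871 : act 5 n21964 = n20425 := d11_2 F36731 D21964 F38153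
def n21965 : Q := act 2 n19819
theorem D21965 : act 2 n19819 = n21965 := rfl
theorem F41872 : act 0 n21965 = n19831 := d1_1 D21965 (iv F38782) F38780
theorem F41873 : act 3 n21965 = n19827 := d9_2 D19819 D21965 F36750 F30458 F29869 (iv D16763) (iv F29573) (iv F32830) (iv F32831) (iv D17056) (iv D13980) (iv D11000) (iv F18459) D13967 D17044
theorem F41874 : act 5 n21965 = n19826 := d11_2 (iv F38772) D21965 (iv F38770)
def n21966 : Q := act 3 n19820
theorem D21966 : act 3 n19820 = n21966 := rfl
theorem F41875 : act 1 n21966 = n19821 := d6_1 D21966 (iv D19821) (iv F36738)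
theorem F41876 : act 4 n21966 = n20398 := d12_2 D19820 D21966 (iv D20398) (iv D17750) (iv F30440)
def n21967 : Q := act 2 n19821
theorem D21967 : act 2 n19821 = n21967 := rfl
theorem F41877 : act 0 n21967 = n20410 := d1_1 D21967 (iv D20410) (iv F36739)
theorem F41878 : act 4 n21967 = n20399 := d10_2 (iv F36740) D21967 (iv D20399)
theorem F41879 : act 5 n21860 = n21967 := d14_0 F41878 F38081 (iv F39120) F39121 (iv F41617)
def n21968 : Q := act 5 n19821
theorem D21968 : act 5 n19821 = n21968 := rfl
theorem F41880 : act 0 n21968 = n20411 := d4_1 D21968 (iv D20411) (iv F36739)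
theorem F41881 : act 2 n21968 = n21860 := d11_1 D21968 F41879 (iv D21967)
theorem F41882 : act 3 n21968 = n19822 := d13_1 D21968 (iv D19822) D19821
theorem F41883 : act 4 n21968 = n20832 := d14_1 D21968 F39118 F33191 (iv F31892) (iv F36740)
def n21969 : Q := act 5 n19823
theorem D21969 : act 5 n19823 = n21969 := rfl
theorem F41884 : act 1 n21969 = n20242 := d8_1 D21969 (iv D20242) (iv F36744)
theorem F41885 : act 3 n21969 = n19824 := d13_1 D21969 (iv D19824) D19823
def n21970 : Q := act 0 n19825
theorem D21970 : act 0 n19825 = n21970 := rfl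
theorem F41886 : act 1 n21970 = n19829 := d0_2 D19825 D21970 (iv D19829) (iv D17055) (iv F30455)
theorem F41887 : act 2 n21970 = n19846 := d1_2 (iv F36747) D21970 (iv D19846)
theorem F41888 : act 5 n19839 = n21970 := d11_0 F41887 (iv F38937) F38936
def n21971 : Q := act 3 n19825
theorem D21971 : act 3 n19825 = n21971 := rfl
theorem F41889 : act 1 n21971 = n19826 := d6_1 D21971 (iv D19826) D19825
def n21972 : Q := act 5 n19825
theorem D21972 : act 5 n19825 = n21972 := rfl
theorem F41890 : act 0 n21972 = n19839 := d4_1 D21972 F41888 (iv D21970)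
theorem F41891 : act 1 n21972 = n19827 := d8_1 D21972 (iv D19827) D19825
theorem F41892 : act 2 n21972 = n19849 := d11_1 D21972 (iv D19849) (iv F36747)
def n21973 : Q := act 4 n19827
theorem D21973 : act 4 n19827 = n21973 := rfl
theorem F41893 : act 0 n21973 = n19832 := d3_1 D21973 (iv D19832) (iv F36749)
theorem F41894 : act 2 n21973 = n19828 := d10_1 D21973 (iv D19828) (iv F36750)
def n21974 : Q := act 3 n19829
theorem D21974 : act 3 n19829 = n21974 := rfl
theorem F41895 : act 0 n21974 = n19830 := d2_1 D21974 (iv D19830) D19829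
theorem F41896 : act 2 n21974 = n19834 := d9_1 D21974 (iv D19834) (iv D17060) (iv D13986) F18485 D11013 D13994 D17069 (iv F33490) (iv D18465) (iv F33481) F33482 F27294 (iv F30465) (iv F36753)
theorem F41897 : act 5 n21974 = n19840 := d13_2 (iv F36754) D21974 (iv D19840)
def n21975 : Q := act 3 n19832
theorem D21975 : act 3 n19832 = n21975 := rfl
theorem F41898 : act 1 n21975 = n19843 := d6_1 D21975 (iv D19843) (iv F36759)
def n21976 : Q := act 2 n19837
theorem D21976 : act 2 n19837 = n21976 := rfl
theorem F41899 : act 0 n21976 = n19869 := d1_1 D21976 F36815 (iv F36773)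
theorem F41900 : act 1 n21976 = n20852 := d5_1 D21976 F39161 F33709 D20728 (iv F38872)
theorem F41901 : act 3 n21976 = n20351 := d9_2 D19837 D21976 F37957 F31791 F25254 (iv F25258) (iv F30538) (iv D17107) (iv F30534) F30535 (iv D14795) (iv D11734) (iv F19486) D14649 (iv F30476)
theorem F41902 : act 4 n21976 = n19838 := d10_2 (iv F36774) D21976 (iv D19838)
theorem F41903 : act 5 n21976 = n19884 := d11_2 (iv F36775) D21976 F36843
def n21977 : Q := act 1 n19838
theorem D21977 : act 1 n19838 = n21977 := rfl
theorem F41904 : act 0 n21977 = n20855 := d0_1 D21977 F39170 (iv F36813) (iv F38910) F38909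
theorem F41905 : act 2 n21977 = n20998 := d5_2 D19838 D21977 F39498 F38875 F33565
theorem F41906 : act 3 n21977 = n21401 := d6_2 F38855 D21977 F40470
theorem F41907 : act 4 n21977 = n20852 := d7_2 F41902 D21977 (iv F41900)
theorem F41908 : act 5 n21977 = n21400 := d8_2 F38908 D21977 F40466
def n21978 : Q := act 3 n19839
theorem D21978 : act 3 n19839 = n21978 := rfl
theorem F41909 : act 1 n21978 = n19840 := d6_1 D21978 (iv D19840) D19839
def n21979 : Q := act 4 n19839
theorem D21979 : act 4 n19839 = n21979 := rfl
theorem F41910 : act 1 n21979 = n19841 := d7_1 D21979 (iv D19841) D19839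
def n21980 : Q := act 3 n19841
theorem D21980 : act 3 n19841 = n21980 := rfl
theorem F41911 : act 0 n21980 = n19843 := d2_1 D21980 (iv D19843) (iv F36777)
def n21981 : Q := act 5 n19841
theorem D21981 : act 5 n19841 = n21981 := rfl
theorem F41912 : act 0 n21981 = n19844 := d4_1 D21981 (iv D19844) (iv F36777)
theorem F41913 : act 2 n21981 = n19842 := d11_1 D21981 (iv D19842) (iv F36778)
def n21982 : Q := act 2 n19843
theorem D21982 : act 2 n19843 = n21982 := rfl
def n21983 : Q := act 5 n19843
theorem D21983 : act 5 n19843 = n21983 := rfl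
theorem F41914 : act 3 n21983 = n19844 := d13_1 D21983 (iv D19844) D19843
def n21984 : Q := act 4 n19846
theorem D21984 : act 4 n19846 = n21984 := rfl
theorem F41915 : act 0 n21984 = n19848 := d3_1 D21984 (iv D19848) D19846
theorem F41916 : act 1 n21984 = n19856 := d7_1 D21984 (iv D19856) (iv F36781)
def n21985 : Q := act 4 n19847
theorem D21985 : act 4 n19847 = n21985 := rfl
theorem F41917 : act 1 n21985 = n19850 := d7_1 D21985 (iv D19850) (iv F36782)
theorem F41918 : act 2 n21985 = n20395 := d10_1 D21985 (iv D20395) F36783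
def n21986 : Q := act 3 n19848
theorem D21986 : act 3 n19848 = n21986 := rfl
theorem F41919 : act 1 n21986 = n19851 := d6_1 D21986 (iv D19851) (iv F36784)
def n21987 : Q := act 5 n19848
theorem D21987 : act 5 n19848 = n21987 := rfl
theorem F41920 : act 1 n21987 = n19852 := d8_1 D21987 (iv D19852) (iv F36784)
def n21988 : Q := act 4 n19849
theorem D21988 : act 4 n19849 = n21988 := rfl
theorem F41921 : act 1 n21988 = n19853 := d7_1 D21988 (iv D19853) (iv F36785)
def n21989 : Q := act 3 n19850
theorem D21989 : act 3 n19850 = n21989 := rfl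
theorem F41922 : act 0 n21989 = n19861 := d2_1 D21989 (iv D19861) (iv F36786)
theorem F41923 : act 4 n21989 = n19851 := d12_2 D19850 D21989 (iv D19851) (iv D17075) D17074
theorem F41924 : act 2 n21989 = n20662 := d15_2 (iv F36787) D21989 F38672 F32665 (iv F32095) (iv F33827) D21028 F39591 F36805
theorem F41925 : act 5 n20661 = n21989 := d11_0 F41924 (iv D20662) D20661
def n21990 : Q := act 5 n19850
theorem D21990 : act 5 n19850 = n21990 := rfl
theorem F41926 : act 0 n21990 = n19862 := d4_1 D21990 (iv D19862) (iv F36786)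
theorem F41927 : act 2 n21990 = n20393 := d11_1 D21990 (iv D20393) (iv F36787)
theorem F41928 : act 3 n21990 = n20661 := d13_1 D21990 F41925 (iv D21989)
def n21991 : Q := act 5 n19851
theorem D21991 : act 5 n19851 = n21991 := rfl
theorem F41929 : act 0 n21991 = n19865 := d4_1 D21991 (iv D19865) (iv F36788)
theorem F41930 : act 2 n21991 = n19883 := d11_1 D21991 (iv F40927) F40928
theorem F41931 : act 3 n21991 = n19852 := d13_1 D21991 (iv D19852) D19851
def n21992 : Q := act 4 n19852
theorem D21992 : act 4 n19852 = n21992 := rfl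
theorem F41932 : act 0 n21992 = n19866 := d3_1 D21992 (iv D19866) (iv F36789)
theorem F41933 : act 2 n21992 = n19854 := d10_1 D21992 (iv D19854) (iv F36790)
theorem F41934 : act 5 n21992 = n19853 := d14_2 D19852 D21992 (iv D19853) (iv D17076) D17075
def n21993 : Q := act 3 n19853
theorem D21993 : act 3 n19853 = n21993 := rfl
theorem F41935 : act 0 n21993 = n19867 := d2_1 D21993 (iv D19867) (iv F36791)
def n21994 : Q := act 3 n19856
theorem D21994 : act 3 n19856 = n21994 := rfl
theorem F41936 : act 0 n21994 = n19858 := d2_1 D21994 (iv D19858) (iv F36798)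
def n21995 : Q := act 5 n19856
theorem D21995 : act 5 n19856 = n21995 := rfl
theorem F41937 : act 0 n21995 = n19859 := d4_1 D21995 (iv D19859) (iv F36798)
theorem F41938 : act 2 n21995 = n19871 := d11_1 D21995 (iv D19871) (iv F36799)
def n21996 : Q := act 3 n19857
theorem D21996 : act 3 n19857 = n21996 := rfl
theorem F41939 : act 1 n21996 = n19861 := d6_1 D21996 (iv D19861) (iv F36800)
theorem F41940 : act 4 n21996 = n19858 := d12_2 D19857 D21996 (iv D19858) (iv D17082) D17081
def n21997 : Q := act 5 n19857
theorem D21997 : act 5 n19857 = n21997 := rfl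
theorem F41941 : act 1 n21997 = n19862 := d8_1 D21997 (iv D19862) (iv F36800)
theorem F41942 : act 2 n21997 = n19888 := d11_1 D21997 (iv D19888) (iv F36801)
def n21998 : Q := act 2 n19858
theorem D21998 : act 2 n19858 = n21998 := rfl
def n21999 : Q := act 5 n19858
theorem D21999 : act 5 n19858 = n21999 := rfl
theorem F41943 : act 1 n21999 = n19865 := d8_1 D21999 (iv D19865) (iv F36802)
theorem F41944 : act 3 n21999 = n19859 := d13_1 D21999 (iv D19859) D19858
def n22000 : Q := act 2 n19861
theorem D22000 : act 2 n19861 = n22000 := rfl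
theorem F41945 : act 0 n22000 = n20662 := d1_1 D22000 (iv F41924) F41922
theorem F41946 : act 3 n22000 = n20655 := d9_2 D19861 D22000 F38666 (iv F38112) F38111 (iv F38071) (iv F41927) F41928 (iv D20661) (iv D18112) F26261 (iv F25608) (iv F31911) (iv F36808) F36807
theorem F41947 : act 4 n22000 = n19864 := d10_2 (iv F36809) D22000 (iv D19864)
theorem F41948 : act 1 n20657 = n22000 := d6_3 F41946 F38665 D20657
theorem F41949 : act 5 n20657 = n22000 := d13_0 F41946 F38667 D20657
def n22001 : Q := act 5 n19861
theorem D22001 : act 5 n19861 = n22001 := rfl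
theorem F41950 : act 0 n22001 = n20661 := d4_1 D22001 F41925 F41922
theorem F41951 : act 2 n22001 = n20657 := d11_1 D22001 F41949 (iv D22000)
theorem F41952 : act 3 n22001 = n19862 := d13_1 D22001 (iv D19862) D19861
def n22002 : Q := act 4 n19862
theorem D22002 : act 4 n19862 = n22002 := rfl
theorem F41953 : act 2 n22002 = n21083 := d10_1 D22002 F39732 (iv F39592)
theorem F41954 : act 5 n22002 = n19863 := d14_2 D19862 D22002 (iv D19863) (iv D17085) D17084
def n22003 : Q := act 3 n19863
theorem D22003 : act 3 n19863 = n22003 := rfl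
theorem F41955 : act 4 n22003 = n19867 := d12_2 D19863 D22003 (iv D19867) (iv D17088) (iv F30502)
def n22004 : Q := act 1 n19864
theorem D22004 : act 1 n19864 = n22004 := rfl
theorem F41956 : act 3 n22004 = n20656 := d6_2 (iv F40918) D22004 (iv F40915)
theorem F41957 : act 4 n22004 = n20657 := d7_2 F41947 D22004 F41948
theorem F41958 : act 0 n20659 = n22004 := d3_3 F41957 F38669 (iv F38671)
def n22005 : Q := act 5 n19864
theorem D22005 : act 5 n19864 = n22005 := rfl
theorem F41959 : act 0 n22005 = n19883 := d4_1 D22005 (iv F40927) F40924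
theorem F41960 : act 2 n22005 = n19865 := d11_1 D22005 (iv D19865) D19864
theorem F41961 : act 3 n22005 = n19877 := d13_1 D22005 F40917 (iv F40918)
def n22006 : Q := act 4 n19865
theorem D22006 : act 4 n19865 = n22006 := rfl
def n22007 : Q := act 3 n19866
theorem D22007 : act 3 n19866 = n22007 := rfl
theorem F41962 : act 5 n22007 = n19867 := d13_2 (iv F36812) D22007 (iv D19867)
def n22008 : Q := act 2 n19867
theorem D22008 : act 2 n19867 = n22008 := rfl
theorem F41963 : act 3 n22008 = n21408 := d15_3 (iv F30504) D19867 D22008 F40494 (iv F39233) F39232 F39043 F36794 F30490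
def n22009 : Q := act 2 n19870
theorem D22009 : act 2 n19870 = n22009 := rfl
theorem F41964 : act 0 n22009 = n19872 := d1_1 D22009 (iv D19872) (iv F36818)
def n22010 : Q := act 3 n19872
theorem D22010 : act 3 n19872 = n22010 := rfl
def n22011 : Q := act 3 n19873
theorem D22011 : act 3 n19873 = n22011 := rfl
theorem F41965 : act 0 n22011 = n20637 := d2_1 D22011 (iv D20637) (iv F36820)
theorem F41966 : act 1 n22011 = n19875 := d6_1 D22011 (iv D19875) (iv F36821)
theorem F41967 : act 4 n22011 = n19874 := d12_2 D19873 D22011 (iv D19874) (iv D17097) D17096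
theorem F41968 : act 5 n20640 = n22011 := d14_0 F41967 F36825 F32599 (iv F32594) D20640
def n22012 : Q := act 5 n19873
theorem D22012 : act 5 n19873 = n22012 := rfl
theorem F41969 : act 0 n22012 = n20636 := d4_1 D22012 F38622 (iv F36820)
theorem F41970 : act 1 n22012 = n19876 := d8_1 D22012 (iv D19876) (iv F36821)
theorem F41971 : act 2 n22012 = n20057 := d11_1 D22012 F37272 (iv F36822)
theorem F41972 : act 3 n22012 = n20640 := d13_1 D22012 F41968 (iv D22011)
theorem F41973 : act 4 n22012 = n20056 := d14_1 D22012 (iv D20056) F30949 (iv F30520) D19873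
def n22013 : Q := act 2 n19874
theorem D22013 : act 2 n19874 = n22013 := rfl
theorem F41974 : act 0 n22013 = n20638 := d1_1 D22013 (iv D20638) (iv F36823)
theorem F41975 : act 5 n22013 = n20579 := d11_2 (iv F36825) D22013 F38481
def n22014 : Q := act 2 n19875
theorem D22014 : act 2 n19875 = n22014 := rfl
theorem F41976 : act 0 n22014 = n19881 := d1_1 D22014 (iv D19881) (iv F36826)
theorem F41977 : act 4 n22014 = n19877 := d10_2 (iv F36827) D22014 (iv D19877)
def n22015 : Q := act 1 n19877
theorem D22015 : act 1 n19877 = n22015 := rfl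
theorem F41978 : act 5 n22015 = n20656 := d8_2 (iv F40917) D22015 (iv F40915)
theorem F41979 : act 0 n20660 = n22015 := d4_3 F41978 F38668 D20660
def n22016 : Q := act 3 n19878
theorem D22016 : act 3 n19878 = n22016 := rfl
theorem F41980 : act 0 n22016 = n20084 := d2_1 D22016 (iv D20084) (iv F36831)
theorem F41981 : act 1 n22016 = n19879 := d6_1 D22016 (iv D19879) (iv F36832)
theorem F41982 : act 4 n22016 = n20093 := d12_2 D19878 D22016 (iv D20093) F31041 (iv F30529)
def n22017 : Q := act 5 n19878
theorem D22017 : act 5 n19878 = n22017 := rfl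
theorem F41983 : act 0 n22017 = n20076 := d4_1 D22017 F37315 (iv F36831)
theorem F41984 : act 1 n22017 = n19880 := d8_1 D22017 (iv D19880) (iv F36832)
theorem F41985 : act 2 n22017 = n20634 := d11_1 D22017 (iv D20634) (iv F36833)
theorem F41986 : act 4 n22017 = n20072 := d14_1 D22017 (iv D20072) F30987 (iv F30530) D19878
def n22018 : Q := act 5 n19879
theorem D22018 : act 5 n19879 = n22018 := rfl
theorem F41987 : act 0 n22018 = n20111 := d4_1 D22018 (iv D20111) (iv F36834)
theorem F41988 : act 2 n22018 = n20897 := d11_1 D22018 (iv D20897) F36836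
theorem F41989 : act 3 n22018 = n19880 := d13_1 D22018 (iv D19880) D19879
def n22019 : Q := act 3 n19881
theorem D22019 : act 3 n19881 = n22019 := rfl
theorem F41990 : act 1 n22019 = n20649 := d6_1 D22019 F38654 F37787
theorem F41991 : act 5 n22019 = n20648 := d13_2 F37786 D22019 F38651
theorem F41992 : act 4 n20660 = n22019 := d14_5 F41991 (iv D20648) F32622 D18111 D20660
def n22020 : Q := act 0 n19882
theorem D22020 : act 0 n19882 = n22020 := rfl
theorem F41993 : act 1 n22020 = n20660 := d0_2 D19882 D22020 F41979 (iv D22015) F36830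
theorem F41994 : act 2 n22020 = n20653 := d1_2 (iv F36840) D22020 F38662
theorem F41995 : act 4 n22020 = n20649 := d3_2 F37789 D22020 F38652
theorem F41996 : act 5 n22020 = n20650 := d4_2 (iv F36841) D22020 F38655
def n22021 : Q := act 3 n19882
theorem D22021 : act 3 n19882 = n22021 := rfl
theorem F41997 : act 1 n22021 = n19883 := d6_1 D22021 (iv D19883) D19882
theorem F41998 : act 5 n22021 = n20654 := d13_2 (iv F36841) D22021 (iv D20654)
def n22022 : Q := act 4 n19883
theorem D22022 : act 4 n19883 = n22022 := rfl
theorem F41999 : act 3 n22022 = n20660 := d12_1 D22022 F41992 (iv D22019) F36839 D19883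
theorem F42000 : act 5 n22022 = n20659 := d14_2 F40927 D22022 F38671 D20662 (iv F40926)
def n22023 : Q := act 4 n19885
theorem D22023 : act 4 n19885 = n22023 := rfl
theorem F42001 : act 0 n22023 = n20837 := d3_1 D22023 (iv D20837) (iv F36846)
theorem F42002 : act 1 n22023 = n19886 := d7_1 D22023 (iv D19886) (iv F36847)
theorem F42003 : act 2 n22023 = n20382 := d10_1 D22023 (iv D20382) (iv F36848)
def n22024 : Q := act 4 n19888
theorem D22024 : act 4 n19888 = n22024 := rfl
theorem F42004 : act 1 n22024 = n19890 := d7_1 D22024 (iv D19890) (iv F36854)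
theorem F42005 : act 5 n22024 = n19889 := d14_2 D19888 D22024 (iv D19889) (iv D17115) (iv F30552)
def n22025 : Q := act 2 n19891
theorem D22025 : act 2 n19891 = n22025 := rfl
theorem F42006 : act 0 n22025 = n19893 := d1_1 D22025 (iv D19893) (iv F36859)
def n22026 : Q := act 5 n19891
theorem D22026 : act 5 n19891 = n22026 := rfl
theorem F42007 : act 0 n22026 = n19894 := d4_1 D22026 (iv D19894) (iv F36859)
theorem F42008 : act 3 n22026 = n19892 := d13_1 D22026 (iv D19892) D19891
def n22027 : Q := act 1 n19893
theorem D22027 : act 1 n19893 = n22027 := rfl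
theorem F42009 : act 2 n22027 = n19895 := d5_2 D19893 D22027 (iv D19895) (iv D17123) (iv F30562)
def n22028 : Q := act 3 n19893
theorem D22028 : act 3 n19893 = n22028 := rfl
def n22029 : Q := act 5 n19893
theorem D22029 : act 5 n19893 = n22029 := rfl
theorem F42010 : act 2 n22029 = n19894 := d11_1 D22029 (iv D19894) D19893
theorem F42011 : act 3 n22027 = n22029 := d15_7 (iv D22025) (iv D19891) F30559 (iv F29858) (iv F36106) (iv F36864) (iv F42009) (iv D22029) (iv F42006)
theorem F42012 : act 1 n22029 = n22028 := d6_1 F42011 (iv D22028) D22027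
theorem F42013 : act 5 n22028 = n22027 := d13_0 F42011 (iv D22029) D22028
def n22030 : Q := act 4 n19894
theorem D22030 : act 4 n19894 = n22030 := rfl
theorem F42014 : act 1 n22030 = n19897 := d7_1 D22030 (iv D19897) (iv F36862)
def n22031 : Q := act 5 n19895
theorem D22031 : act 5 n19895 = n22031 := rfl
theorem F42015 : act 1 n22031 = n19896 := d8_1 D22031 (iv D19896) D19895
theorem F42016 : act 2 n22031 = n22028 := d11_1 D22031 F42013 F42009
theorem F42017 : act 3 n22031 = n21565 := d13_1 D22031 F40879 (iv F36864)
def n22032 : Q := act 4 n19896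
theorem D22032 : act 4 n19896 = n22032 := rfl
theorem F42018 : act 0 n22032 = n21556 := d3_1 D22032 (iv F41354) F41352
theorem F42019 : act 2 n22032 = n19897 := d10_1 D22032 (iv D19897) (iv F36865)
theorem F42020 : act 3 n22032 = n21019 := d12_1 D22032 (iv D21019) F33796 D19276 (iv F36866)
theorem F42021 : act 5 n22032 = n21020 := d14_2 D19896 D22032 (iv F41346) F41347 F36719
def n22033 : Q := act 3 n19899
theorem D22033 : act 3 n19899 = n22033 := rfl
theorem F42022 : act 0 n22033 = n19904 := d2_1 D22033 (iv D19904) (iv F36871)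
theorem F42023 : act 1 n22033 = n19965 := d6_1 D22033 (iv D19965) (iv F36872)
theorem F42024 : act 4 n22033 = n19900 := d12_2 D19899 D22033 (iv D19900) (iv D17127) D17126
theorem F42025 : act 5 n20046 = n22033 := d14_0 F42024 F37027 (iv D19969) (iv F30921) D20046
def n22034 : Q := act 5 n19899
theorem D22034 : act 5 n19899 = n22034 := rfl
theorem F42026 : act 0 n22034 = n19905 := d4_1 D22034 (iv D19905) (iv F36871)
theorem F42027 : act 1 n22034 = n19966 := d8_1 D22034 (iv D19966) (iv F36872)
theorem F42028 : act 2 n22034 = n20601 := d11_1 D22034 (iv D20601) (iv F36873)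
theorem F42029 : act 3 n22034 = n20046 := d13_1 D22034 F42025 (iv D22033)
theorem F42030 : act 4 n22034 = n19946 := d14_1 D22034 (iv D19946) (iv D17171) (iv F30573) D19899
def n22035 : Q := act 2 n19900
theorem D22035 : act 2 n19900 = n22035 := rfl
theorem F42031 : act 0 n22035 = n19906 := d1_1 D22035 (iv D19906) (iv F36874)
def n22036 : Q := act 1 n19902
theorem D22036 : act 1 n19902 = n22036 := rfl
theorem F42032 : act 2 n22036 = n19919 := d5_2 D19902 D22036 (iv D19919) (iv D17144) (iv F30580)
theorem F42033 : act 3 n22036 = n21155 := d6_2 (iv F36881) D22036 (iv D21155)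
theorem F42034 : act 4 n22036 = n19956 := d7_2 (iv F36880) D22036 (iv D19956)
def n22037 : Q := act 5 n19903
theorem D22037 : act 5 n19903 = n22037 := rfl
theorem F42035 : act 0 n22037 = n20601 := d4_1 D22037 (iv D20601) (iv F36882)
theorem F42036 : act 1 n22037 = n19964 := d8_1 D22037 (iv D19964) (iv F36883)
theorem F42037 : act 2 n22037 = n19905 := d11_1 D22037 (iv D19905) (iv F36884)
theorem F42038 : act 3 n22037 = n21144 := d13_1 D22037 (iv D21144) (iv F36885)
theorem F42039 : act 4 n22037 = n19948 := d14_1 D22037 (iv D19948) (iv D17174) (iv F30585) D19903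
def n22038 : Q := act 2 n19904
theorem D22038 : act 2 n19904 = n22038 := rfl
theorem F42040 : act 4 n22038 = n19906 := d10_2 (iv F36887) D22038 (iv D19906)
def n22039 : Q := act 5 n19904
theorem D22039 : act 5 n19904 = n22039 := rfl
theorem F42041 : act 0 n22039 = n20046 := d4_1 D22039 F42025 F42022
theorem F42042 : act 1 n22039 = n19951 := d8_1 D22039 F36988 (iv F36886)
theorem F42043 : act 3 n22039 = n19905 := d13_1 D22039 (iv D19905) D19904
theorem F42044 : act 4 n22039 = n20044 := d14_1 D22039 F37241 F37023 (iv D19907) (iv F36887)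
def n22040 : Q := act 1 n19906
theorem D22040 : act 1 n19906 = n22040 := rfl
theorem F42045 : act 2 n22040 = n19954 := d5_2 D19906 D22040 (iv D19954) (iv D17182) (iv F30587)
def n22041 : Q := act 3 n19906
theorem D22041 : act 3 n19906 = n22041 := rfl
def n22042 : Q := act 5 n19906
theorem D22042 : act 5 n19906 = n22042 := rfl
theorem F42046 : act 2 n22042 = n19907 := d11_1 D22042 (iv D19907) D19906
def n22043 : Q := act 0 n19908
theorem D22043 : act 0 n19908 = n22043 := rfl
theorem F42047 : act 2 n22043 = n19910 := d1_2 (iv F36892) D22043 (iv D19910)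
theorem F42048 : act 3 n22043 = n21637 := d2_2 F37077 D22043 F41061
theorem F42049 : act 4 n22043 = n19960 := d3_2 (iv F36893) D22043 (iv D19960)
theorem F42050 : act 5 n22043 = n21910 := d4_2 (iv F36894) D22043 F41737
def n22044 : Q := act 3 n19911
theorem D22044 : act 3 n19911 = n22044 := rfl
theorem F42051 : act 0 n22044 = n19912 := d2_1 D22044 (iv D19912) (iv F36901)
theorem F42052 : act 1 n22044 = n19920 := d6_1 D22044 (iv D19920) (iv F36902)
theorem F42053 : act 2 n22044 = n20223 := d9_1 D22044 (iv D20223) F31409 (iv F30937) F30936 (iv F35134) (iv F36907) (iv F39873) F39872 F37683 F31482 (iv F30946) (iv F31430) F31431 (iv F36903)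
theorem F42054 : act 4 n22044 = n20224 := d12_2 D19911 D22044 F37627 (iv D18665) (iv F30597)
def n22045 : Q := act 2 n19917
theorem D22045 : act 2 n19917 = n22045 := rfl
theorem F42055 : act 0 n22045 = n19932 := d1_1 D22045 (iv D19932) (iv F36917)
theorem F42056 : act 3 n22045 = n21684 := d9_2 D19917 D22045 (iv D21684) (iv D19456) F30635 (iv D17154) F24100 D14068 D17156 F36946 F36943 F30643 (iv F35838) F36916 F36914
theorem F42057 : act 5 n22045 = n19918 := d11_2 (iv F36919) D22045 (iv D19918)
def n22046 : Q := act 1 n19918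
theorem D22046 : act 1 n19918 = n22046 := rfl
theorem F42058 : act 2 n22046 = n19956 := d5_2 D19918 D22046 (iv D19956) (iv D17183) (iv F30616)
theorem F42059 : act 4 n22046 = n19919 := d7_2 (iv F36921) D22046 (iv D19919)
def n22047 : Q := act 3 n19918
theorem D22047 : act 3 n19918 = n22047 := rfl
theorem F42060 : act 0 n22047 = n19933 := d2_1 D22047 (iv F36946) (iv F36920)
theorem F42061 : act 2 n22047 = n19937 := d9_1 D22047 F36953 F36939 (iv D19931) F30631 D17155 D19932 F36942 (iv D19458) (iv D16654) (iv F29592) (iv F30611) F30610 D17143 D19918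
theorem F42062 : act 4 n22047 = n19934 := d12_2 (iv F36921) D22047 (iv F39406) F39405 F33609
theorem F42063 : act 5 n22047 = n21684 := d13_2 F42057 D22047 (iv F42056)
def n22048 : Q := act 0 n19919
theorem D22048 : act 0 n19919 = n22048 := rfl
theorem F42064 : act 1 n22048 = n19934 := d0_2 D19919 D22048 (iv D19934) (iv D17157) (iv F30618)
def n22049 : Q := act 2 n19920
theorem D22049 : act 2 n19920 = n22049 := rfl
theorem F42065 : act 0 n22049 = n19923 := d1_1 D22049 (iv D19923) (iv F36922)
theorem F42066 : act 4 n22049 = n21070 := d10_2 (iv F36923) D22049 (iv D21070)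
def n22050 : Q := act 2 n19921
theorem D22050 : act 2 n19921 = n22050 := rfl
theorem F42067 : act 0 n22050 = n21070 := d1_1 D22050 (iv D21070) (iv F36924)
theorem F42068 : act 4 n22050 = n19923 := d10_2 (iv F36926) D22050 (iv D19923)
theorem F42069 : act 3 n22050 = n21383 := d15_7 F40110 F34664 (iv F31761) F31762 (iv F30623) D19921 D22050 (iv D21383) (iv F40108)
theorem F42070 : act 5 n21382 = n22050 := d13_0 F42069 (iv D21383) D21382
def n22051 : Q := act 5 n19921
theorem D22051 : act 5 n19921 = n22051 := rfl
theorem F42071 : act 0 n22051 = n21071 := d4_1 D22051 (iv D21071) (iv F36924)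
theorem F42072 : act 1 n22051 = n19926 := d8_1 D22051 (iv D19926) (iv F36925)
theorem F42073 : act 2 n22051 = n21382 := d11_1 D22051 F42070 (iv D22050)
theorem F42074 : act 3 n22051 = n19922 := d13_1 D22051 (iv D19922) D19921
theorem F42075 : act 4 n21384 = n22051 := d12_0 F42074 F36930 F32511 (iv F38604) (iv F40429)
def n22052 : Q := act 1 n19923
theorem D22052 : act 1 n19923 = n22052 := rfl
theorem F42076 : act 2 n22052 = n19927 := d5_2 D19923 D22052 (iv D19927) (iv D17151) (iv F30624)
def n22053 : Q := act 3 n19923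
theorem D22053 : act 3 n19923 = n22053 := rfl
theorem F42077 : act 2 n22053 = n21834 := d15_2 D19923 D22053 (iv D21834) F36355 F30076 (iv F31445) D20228 F37639 F36922
theorem F42078 : act 5 n21836 = n22053 := d11_0 F42077 F41541 D21836
def n22054 : Q := act 5 n19923
theorem D22054 : act 5 n19923 = n22054 := rfl
theorem F42079 : act 2 n22054 = n19924 := d11_1 D22054 (iv D19924) D19923
theorem F42080 : act 3 n22054 = n21836 := d13_1 D22054 F42078 (iv D22053)
theorem F42081 : act 4 n22054 = n21385 := d14_1 D22054 (iv D21385) (iv F40427) F42070 F42068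
def n22055 : Q := act 4 n19924
theorem D22055 : act 4 n19924 = n22055 := rfl
theorem F42082 : act 1 n22055 = n19930 := d7_1 D22055 (iv D19930) (iv F36931)
theorem F42083 : act 2 n22055 = n21385 := d10_1 D22055 (iv F42081) F42079
theorem F42084 : act 3 n22055 = n19943 := d12_1 D22055 (iv D19943) F30650 (iv F30627) (iv F36932)
theorem F42085 : act 5 n22055 = n21384 := d14_2 D19924 D22055 F42075 (iv D22051) F36926
def n22056 : Q := act 1 n19925
theorem D22056 : act 1 n19925 = n22056 := rfl
theorem F42086 : act 4 n22056 = n19927 := d7_2 (iv F36933) D22056 (iv D19927)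
def n22057 : Q := act 3 n19925
theorem D22057 : act 3 n19925 = n22057 := rfl
theorem F42087 : act 2 n22057 = n21890 := d15_2 D19925 D22057 F41690 F36511 F30190 (iv F32930) D20735 F38894 F33718
theorem F42088 : act 5 n21889 = n22057 := d11_0 F42087 (iv D21890) D21889
def n22058 : Q := act 5 n19925
theorem D22058 : act 5 n19925 = n22058 := rfl
theorem F42089 : act 2 n22058 = n19926 := d11_1 D22058 (iv D19926) D19925
theorem F42090 : act 3 n22058 = n21889 := d13_1 D22058 F42088 (iv D22057)
def n22059 : Q := act 0 n19927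
theorem D22059 : act 0 n19927 = n22059 := rfl
def n22060 : Q := act 3 n19927
theorem D22060 : act 3 n19927 = n22060 := rfl
theorem F42091 : act 1 n22060 = n19928 := d6_1 D22060 (iv D19928) D19927
def n22061 : Q := act 5 n19927
theorem D22061 : act 5 n19927 = n22061 := rfl
theorem F42092 : act 1 n22061 = n19929 := d8_1 D22061 (iv D19929) D19927
def n22062 : Q := act 4 n19928
theorem D22062 : act 4 n19928 = n22062 := rfl
def n22063 : Q := act 4 n19929
theorem D22063 : act 4 n19929 = n22063 := rfl
theorem F42093 : act 2 n22063 = n19930 := d10_1 D22063 (iv D19930) (iv F36935)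
def n22064 : Q := act 2 n19936
theorem D22064 : act 2 n19936 = n22064 := rfl
theorem F42094 : act 0 n22064 = n21836 := d1_1 D22064 (iv D21836) (iv F36950)
def n22065 : Q := act 4 n19936
theorem D22065 : act 4 n19936 = n22065 := rfl
theorem F42095 : act 0 n22065 = n21006 := d3_1 D22065 F39519 (iv F36950)
theorem F42096 : act 1 n22065 = n20842 := d7_1 D22065 F39147 (iv F36951)
theorem F42097 : act 3 n22065 = n19944 := d12_1 D22065 (iv D19944) (iv D17168) (iv F30642) D19936
def n22066 : Q := act 4 n19938
theorem D22066 : act 4 n19938 = n22066 := rfl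
theorem F42098 : act 1 n22066 = n19939 := d7_1 D22066 (iv D19939) (iv F36956)
theorem F42099 : act 3 n22066 = n21894 := d12_1 D22066 (iv D21894) (iv D19723) (iv F30646) D19938
def n22067 : Q := act 5 n19939
theorem D22067 : act 5 n19939 = n22067 := rfl
theorem F42100 : act 0 n22067 = n19942 := d4_1 D22067 (iv D19942) (iv F36957)
theorem F42101 : act 3 n22067 = n21895 := d13_1 D22067 (iv D21895) (iv F36958)
def n22068 : Q := act 0 n19940
theorem D22068 : act 0 n19940 = n22068 := rfl
def n22069 : Q := act 4 n19940
theorem D22069 : act 4 n19940 = n22069 := rfl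
theorem F42102 : act 1 n22069 = n19941 := d7_1 D22069 (iv D19941) D19940
def n22070 : Q := act 3 n19941
theorem D22070 : act 3 n19941 = n22070 := rfl
def n22071 : Q := act 5 n19941
theorem D22071 : act 5 n19941 = n22071 := rfl
theorem F42103 : act 2 n22071 = n19942 := d11_1 D22071 (iv D19942) (iv F36959)
def n22072 : Q := act 5 n19944
theorem D22072 : act 5 n19944 = n22072 := rfl
theorem F42104 : act 0 n22072 = n21007 := d4_1 D22072 (iv D21007) (iv F36962)
theorem F42105 : act 1 n22072 = n20843 := d8_1 D22072 (iv D20843) (iv F36963)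
theorem F42106 : act 2 n22072 = n21003 := d11_1 D22072 (iv D21003) (iv F36964)
theorem F42107 : act 4 n22072 = n20865 := d14_1 D22072 (iv D20865) (iv D18375) (iv F30654) D19944
def n22073 : Q := act 2 n19950
theorem D22073 : act 2 n19950 = n22073 := rfl
theorem F42108 : act 0 n22073 = n19961 := d1_1 D22073 F37008 (iv F36982)
theorem F42109 : act 1 n22073 = n21629 := d5_1 D22073 F41049 F35610 (iv F35126) (iv F36983)
theorem F42110 : act 3 n22073 = n19958 := d9_2 D19950 D22073 F37002 F30684 (iv F30666) F30667 F28841 D16316 (iv F30686) (iv D17186) (iv D14112) (iv D11104) (iv F18597) D14103 D17177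
theorem F42111 : act 4 n22073 = n21215 := d10_2 (iv F36984) D22073 F40028
theorem F42112 : act 5 n22073 = n19957 := d11_2 (iv F36985) D22073 F37000
def n22074 : Q := act 1 n19952
theorem D22074 : act 1 n19952 = n22074 := rfl
theorem F42113 : act 3 n22074 = n21828 := d6_2 (iv F36990) D22074 F41529
theorem F42114 : act 4 n22074 = n19954 := d7_2 (iv F36991) D22074 (iv D19954)
theorem F42115 : act 5 n22074 = n21827 := d8_2 (iv F36992) D22074 F41527
def n22075 : Q := act 1 n19953
theorem D22075 : act 1 n19953 = n22075 := rfl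
theorem F42116 : act 3 n22075 = n21797 := d6_2 (iv F36994) D22075 F41452
theorem F42117 : act 5 n22075 = n19954 := d8_2 (iv F36995) D22075 (iv D19954)
def n22076 : Q := act 0 n19954
theorem D22076 : act 0 n19954 = n22076 := rfl
def n22077 : Q := act 3 n19954
theorem D22077 : act 3 n19954 = n22077 := rfl
theorem F42118 : act 1 n22077 = n19955 := d6_1 D22077 (iv D19955) D19954
theorem F42119 : act 5 n22077 = n21797 := d13_2 F42117 D22077 (iv F42116)
def n22078 : Q := act 0 n19956
theorem D22078 : act 0 n19956 = n22078 := rfl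
theorem F42120 : act 1 n22078 = n19960 := d0_2 D19956 D22078 (iv D19960) (iv D17185) (iv F30682)
theorem F42121 : act 3 n21627 = n22078 := d6_0 F42120 F37005 (iv F41042)
theorem F42122 : act 5 n21630 = n22078 := d8_0 F42120 F37006 (iv F41050)
def n22079 : Q := act 3 n19956
theorem D22079 : act 3 n19956 = n22079 := rfl
theorem F42123 : act 0 n22079 = n21627 := d2_1 D22079 F42121 (iv D22078)
theorem F42124 : act 1 n22079 = n19957 := d6_1 D22079 (iv D19957) D19956
theorem F42125 : act 2 n21624 = n22079 := d5_0 F42124 F37000 F35136 (iv F35648) (iv F41033)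
theorem F42126 : act 4 n21623 = n22079 := d7_0 F42124 F37064 (iv F41030)
theorem F42127 : act 5 n21629 = n22079 := d8_0 F42124 (iv F42112) F42109
def n22080 : Q := act 5 n19956
theorem D22080 : act 5 n19956 = n22080 := rfl
theorem F42128 : act 0 n22080 = n21630 := d4_1 D22080 F42122 (iv D22078)
theorem F42129 : act 1 n22080 = n19958 := d8_1 D22080 (iv D19958) D19956
theorem F42130 : act 3 n22080 = n21629 := d13_1 D22080 F42127 (iv D22079)
def n22081 : Q := act 4 n19958
theorem D22081 : act 4 n19958 = n22081 := rfl
theorem F42131 : act 0 n22081 = n19962 := d3_1 D22081 (iv D19962) (iv F37001)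
theorem F42132 : act 2 n22081 = n19959 := d10_1 D22081 (iv D19959) (iv F37002)
def n22082 : Q := act 3 n19962
theorem D22082 : act 3 n19962 = n22082 := rfl
theorem F42133 : act 1 n22082 = n21217 := d6_1 D22082 F40034 F38158
theorem F42134 : act 4 n22082 = n21216 := d12_2 D19962 D22082 (iv D21216) (iv F37010) F37009
def n22083 : Q := act 2 n19963
theorem D22083 : act 2 n19963 = n22083 := rfl
theorem F42135 : act 0 n22083 = n21128 := d1_1 D22083 F39825 (iv F37012)
theorem F42136 : act 4 n22083 = n21127 := d10_2 (iv F37014) D22083 (iv D21127)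
def n22084 : Q := act 5 n19963
theorem D22084 : act 5 n19963 = n22084 := rfl
theorem F42137 : act 0 n22084 = n21129 := d4_1 D22084 (iv D21129) (iv F37012)
theorem F42138 : act 1 n22084 = n21144 := d8_1 D22084 (iv D21144) (iv F37013)
theorem F42139 : act 3 n22084 = n19964 := d13_1 D22084 (iv D19964) D19963
def n22085 : Q := act 2 n19967
theorem D22085 : act 2 n19967 = n22085 := rfl
theorem F42140 : act 0 n22085 = n19968 := d1_1 D22085 (iv D19968) (iv F37021)
theorem F42141 : act 4 n22085 = n22042 := d10_2 (iv F37023) D22085 F42046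
theorem F42142 : act 3 n22085 = n19968 := d15_1 D22085 (iv D19968) (iv D17199) F24180 (iv F18780) (iv F24377) D17298 F30921 (iv F37021)
def n22086 : Q := act 4 n19968
theorem D22086 : act 4 n19968 = n22086 := rfl
theorem F42143 : act 0 n22086 = n22042 := d3_1 D22086 (iv F42141) F42140
theorem F42144 : act 2 n22086 = n19969 := d10_1 D22086 (iv D19969) D19968
theorem F42145 : act 5 n22035 = n22086 := d11_0 F42144 (iv F37027) D22035
theorem F42146 : act 3 n20797 = n22086 := d15_3 (iv F26681) D18273 D20797 F42144 F37026 F36877 (iv F33075) (iv D18272) F26678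
def n22087 : Q := act 2 n19976
theorem D22087 : act 2 n19976 = n22087 := rfl
theorem F42147 : act 0 n22087 = n20047 := d1_1 D22087 (iv D20047) (iv F37054)
theorem F42148 : act 1 n22087 = n20219 := d5_1 D22087 F37618 F31395 F30724 (iv F37055)
theorem F42149 : act 3 n22087 = n20425 := d9_2 D19976 D22087 F38153 (iv F36735) F36734 (iv F37081) F37080 (iv F37249) (iv F41715) F41716 (iv D19818) (iv D17042) F23946 (iv F24228) (iv F30721)
theorem F42150 : act 4 n22087 = n19988 := d10_2 (iv F37056) D22087 (iv D19988)
def n22088 : Q := act 4 n19978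
theorem D22088 : act 4 n19978 = n22088 := rfl
theorem F42151 : act 0 n22088 = n19981 := d3_1 D22088 (iv D19981) (iv F37061)
def n22089 : Q := act 1 n19980
theorem D22089 : act 1 n19980 = n22089 := rfl
theorem F42152 : act 2 n22089 = n19983 := d5_2 D19980 D22089 (iv D19983) (iv D17215) (iv F30732)
theorem F42153 : act 3 n22089 = n20621 := d6_2 (iv F37065) D22089 F38589
theorem F42154 : act 5 n22089 = n20432 := d8_2 F37066 D22089 F38170
theorem F42155 : act 0 n20624 = n22089 := d4_3 F42154 F38169 D20624
def n22090 : Q := act 4 n19980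
theorem D22090 : act 4 n19980 = n22090 := rfl
theorem F42156 : act 2 n22090 = n19981 := d10_1 D22090 (iv D19981) D19980
def n22091 : Q := act 5 n19981
theorem D22091 : act 5 n19981 = n22091 := rfl
theorem F42157 : act 1 n22091 = n19985 := d8_1 D22091 (iv D19985) (iv F37067)
theorem F42158 : act 4 n22091 = n20594 := d14_1 D22091 F38520 F37071 (iv D19982) D19981
def n22092 : Q := act 0 n19983
theorem D22092 : act 0 n19983 = n22092 := rfl
theorem F42159 : act 2 n22092 = n20624 := d1_2 F42152 D22092 F42155
theorem F42160 : act 3 n22092 = n20431 := d2_2 (iv F37072) D22092 F38167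
theorem F42161 : act 5 n22092 = n20430 := d4_2 (iv F37073) D22092 F38165
def n22093 : Q := act 4 n19983
theorem D22093 : act 4 n19983 = n22093 := rfl
theorem F42162 : act 1 n22093 = n19984 := d7_1 D22093 (iv D19984) D19983
def n22094 : Q := act 3 n19984
theorem D22094 : act 3 n19984 = n22094 := rfl
theorem F42163 : act 4 n22094 = n20435 := d12_2 D19984 D22094 (iv D20435) (iv D17804) (iv F30736)
def n22095 : Q := act 5 n19984
theorem D22095 : act 5 n19984 = n22095 := rfl
theorem F42164 : act 2 n22095 = n19985 := d11_1 D22095 (iv D19985) (iv F37074)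
theorem F42165 : act 4 n22095 = n20434 := d14_1 D22095 (iv D20434) (iv D17803) F30737 D19984
def n22096 : Q := act 3 n19988
theorem D22096 : act 3 n19988 = n22096 := rfl
theorem F42166 : act 0 n22096 = n20049 := d2_1 D22096 (iv D20049) (iv F37083)
theorem F42167 : act 1 n22096 = n20218 := d6_1 D22096 (iv D20218) (iv F37084)
theorem F42168 : act 5 n22096 = n20205 := d13_2 (iv F37085) D22096 (iv D20205)
def n22097 : Q := act 4 n19993
theorem D22097 : act 4 n19993 = n22097 := rfl
theorem F42169 : act 1 n22097 = n19994 := d7_1 D22097 (iv D19994) (iv F37103)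
theorem F42170 : act 2 n22097 = n20875 := d10_1 D22097 F39221 (iv F37104)
def n22098 : Q := act 3 n19997
theorem D22098 : act 3 n19997 = n22098 := rfl
theorem F42171 : act 0 n22098 = n20120 := d2_1 D22098 F37394 (iv F37115)
theorem F42172 : act 2 n22098 = n20119 := d15_2 D19997 D22098 (iv D20119) F31097 F24536 (iv F24547) D17393 F31112 (iv F30790)
def n22099 : Q := act 4 n19997
theorem D22099 : act 4 n19997 = n22099 := rfl
theorem F42173 : act 0 n22099 = n21891 := d3_1 D22099 F41691 (iv F37115)
theorem F42174 : act 2 n22099 = n19998 := d10_1 D22099 (iv D19998) D19997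
def n22100 : Q := act 5 n19998
theorem D22100 : act 5 n19998 = n22100 := rfl
theorem F42175 : act 0 n22100 = n21892 := d4_1 D22100 (iv D21892) (iv F37116)
theorem F42176 : act 1 n22100 = n19999 := d8_1 D22100 (iv D19999) (iv F37117)
theorem F42177 : act 3 n22100 = n20135 := d13_1 D22100 (iv D20135) (iv F37118)
def n22101 : Q := act 1 n20001
theorem D22101 : act 1 n20001 = n22101 := rfl
theorem F42178 : act 2 n22101 = n20007 := d5_2 D20001 D22101 (iv D20007) (iv D17247) (iv F30800)
theorem F42179 : act 4 n22101 = n20003 := d7_2 (iv F37126) D22101 (iv D20003)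
def n22102 : Q := act 3 n20001
theorem D22102 : act 3 n20001 = n22102 := rfl
def n22103 : Q := act 5 n20001
theorem D22103 : act 5 n20001 = n22103 := rfl
theorem F42180 : act 2 n22103 = n20002 := d11_1 D22103 (iv D20002) D20001
def n22104 : Q := act 4 n20002
theorem D22104 : act 4 n20002 = n22104 := rfl
theorem F42181 : act 1 n22104 = n20010 := d7_1 D22104 (iv D20010) (iv F37127)
theorem F42182 : act 3 n22104 = n20069 := d12_1 D22104 (iv D20069) F30980 (iv F30803) (iv F37128)
theorem F42183 : act 5 n22104 = n20006 := d14_2 D20002 D22104 (iv D20006) (iv D17246) (iv F30801)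
def n22105 : Q := act 0 n20003
theorem D22105 : act 0 n20003 = n22105 := rfl
theorem F42184 : act 1 n22105 = n20810 := d0_2 D20003 D22105 F39067 (iv D20060) F30957
theorem F42185 : act 2 n22105 = n20011 := d1_2 (iv F37129) D22105 (iv D20011)
theorem F42186 : act 5 n22105 = n20031 := d4_2 F37130 D22105 F37206
theorem F42187 : act 3 n20809 = n22105 := d13_3 F42186 F37207 F39066
def n22106 : Q := act 3 n20003
theorem D22106 : act 3 n20003 = n22106 := rfl
theorem F42188 : act 0 n22106 = n20809 := d2_1 D22106 F42187 (iv D22105)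
theorem F42189 : act 1 n22106 = n20004 := d6_1 D22106 (iv D20004) D20003
theorem F42190 : act 2 n22106 = n20813 := d9_1 D22106 F39076 F33128 (iv F29785) F29784 D17274 D20031 F37207 (iv D18298) (iv D15306) F20638 D12652 (iv F24330) (iv F30810) (iv F37129)
theorem F42191 : act 5 n22106 = n20034 := d13_2 F37130 D22106 (iv D20034)
def n22107 : Q := act 4 n20004
theorem D22107 : act 4 n20004 = n22107 := rfl
def n22108 : Q := act 5 n20004
theorem D22108 : act 5 n20004 = n22108 := rfl
theorem F42192 : act 1 n22108 = n20034 := d8_1 D22108 (iv F42191) F42189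
theorem F42193 : act 2 n22108 = n22096 := d11_1 D22108 F42168 F37582
theorem F42194 : act 3 n22108 = n20005 := d13_1 D22108 (iv D20005) D20004
def n22109 : Q := act 4 n20005
theorem D22109 : act 4 n20005 = n22109 := rfl
theorem F42195 : act 1 n22109 = n20035 := d7_1 D22109 (iv D20035) (iv F37131)
theorem F42196 : act 2 n22109 = n20006 := d10_1 D22109 (iv D20006) (iv F37132)
def n22110 : Q := act 0 n20007
theorem D22110 : act 0 n20007 = n22110 := rfl
theorem F42197 : act 1 n22110 = n20018 := d0_2 D20007 D22110 (iv D20018) (iv D17255) (iv F30806)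
theorem F42198 : act 4 n22110 = n20011 := d3_2 (iv F37135) D22110 (iv D20011)
def n22111 : Q := act 3 n20007
theorem D22111 : act 3 n20007 = n22111 := rfl
theorem F42199 : act 1 n22111 = n20008 := d6_1 D22111 (iv D20008) D20007
theorem F42200 : act 4 n22111 = n20037 := d12_2 (iv F37135) D22111 (iv D20037) (iv D17278) (iv F30810)
theorem F42201 : act 5 n22110 = n22111 := d14_0 F42200 F37222 (iv D20032) (iv F37147) (iv F42198)
def n22112 : Q := act 5 n20007
theorem D22112 : act 5 n20007 = n22112 := rfl
theorem F42202 : act 0 n22112 = n22111 := d4_1 D22112 (iv F42201) (iv D22110)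
theorem F42203 : act 1 n22112 = n20009 := d8_1 D22112 (iv D20009) D20007
theorem F42204 : act 3 n22112 = n22110 := d13_1 D22112 F42201 (iv D22111)
theorem F42205 : act 4 n22112 = n20036 := d14_1 D22112 (iv D20036) (iv D17277) (iv F30811) (iv F37135)
def n22113 : Q := act 2 n20008
theorem D22113 : act 2 n20008 = n22113 := rfl
theorem F42206 : act 0 n22113 = n20019 := d1_1 D22113 (iv D20019) (iv F37136)
theorem F42207 : act 3 n22113 = n20016 := d9_2 D20008 D22113 F37157 F30825 F24292 (iv F24295) (iv F30827) F31023 (iv F31003) F31022 (iv D14268) (iv D11240) (iv F18700) D14173 D17247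
theorem F42208 : act 4 n22113 = n20038 := d10_2 (iv F37137) D22113 (iv D20038)
theorem F42209 : act 5 n22113 = n20015 := d11_2 F37164 D22113 (iv F37161)
def n22114 : Q := act 1 n20012
theorem D22114 : act 1 n20012 = n22114 := rfl
theorem F42210 : act 2 n22114 = n20014 := d5_2 D20012 D22114 (iv D20014) (iv D17253) (iv F30816)
theorem F42211 : act 4 n22114 = n20060 := d7_2 (iv F37149) D22114 (iv D20060)
def n22115 : Q := act 3 n20012
theorem D22115 : act 3 n20012 = n22115 := rfl
theorem F42212 : act 0 n22115 = n22102 := d2_1 D22115 (iv D22102) (iv F37148)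
def n22116 : Q := act 5 n20012
theorem D22116 : act 5 n20012 = n22116 := rfl
theorem F42213 : act 0 n22116 = n22103 := d4_1 D22116 (iv D22103) (iv F37148)
theorem F42214 : act 2 n22116 = n20013 := d11_1 D22116 (iv D20013) D20012
def n22117 : Q := act 4 n20013
theorem D22117 : act 4 n20013 = n22117 := rfl
theorem F42215 : act 0 n22117 = n22104 := d3_1 D22117 (iv D22104) (iv F37150)
theorem F42216 : act 1 n22117 = n20017 := d7_1 D22117 (iv D20017) (iv F37151)
theorem F42217 : act 3 n22117 = n20057 := d12_1 D22117 (iv D20057) F30952 (iv F30821) (iv F37152)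
theorem F42218 : act 5 n22117 = n20058 := d14_2 D20013 D22117 F37275 F30956 (iv F30817)
def n22118 : Q := act 0 n20014
theorem D22118 : act 0 n20014 = n22118 := rfl
theorem F42219 : act 1 n22118 = n20015 := d0_2 D20014 D22118 F37154 (iv D17343) (iv F30822)
theorem F42220 : act 4 n22118 = n20065 := d3_2 (iv F37153) D22118 (iv D20065)
theorem F42221 : act 3 n20014 = n22118 := d12_5 F42220 F37292 F31224 (iv F30971) (iv F37153)
def n22119 : Q := act 5 n20014
theorem D22119 : act 5 n20014 = n22119 := rfl
theorem F42222 : act 1 n22119 = n20016 := d8_1 D22119 (iv D20016) D20014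
def n22120 : Q := act 4 n20016
theorem D22120 : act 4 n20016 = n22120 := rfl
theorem F42223 : act 0 n22120 = n20082 := d3_1 D22120 F37329 (iv F37156)
theorem F42224 : act 2 n22120 = n20017 := d10_1 D22120 (iv D20017) (iv F37157)
theorem F42225 : act 5 n22120 = n20064 := d14_2 D20016 D22120 F37290 F30970 (iv F30823)
def n22121 : Q := act 4 n20019
theorem D22121 : act 4 n20019 = n22121 := rfl
theorem F42226 : act 0 n22121 = n20038 := d3_1 D22121 (iv F42208) F42206
theorem F42227 : act 1 n22121 = n20082 := d7_1 D22121 F37329 (iv F37165)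
theorem F42228 : act 2 n22121 = n20020 := d10_1 D22121 (iv D20020) D20019
theorem F42229 : act 5 n22121 = n20086 := d14_2 (iv F37167) D22121 F37339 F31015 (iv F31004)
def n22122 : Q := act 3 n20023
theorem D22122 : act 3 n20023 = n22122 := rfl
theorem F42230 : act 0 n22122 = n20024 := d2_1 D22122 (iv D20024) (iv F37180)
theorem F42231 : act 1 n22122 = n20128 := d6_1 D22122 F37412 (iv F37181)
theorem F42232 : act 4 n22122 = n22075 := d12_2 (iv F37182) D22122 F42116 (iv D21797) F36260
theorem F42233 : act 5 n22122 = n20119 := d13_2 (iv F37183) D22122 (iv D20119)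
def n22123 : Q := act 2 n20024
theorem D22123 : act 2 n20024 = n22123 := rfl
theorem F42234 : act 1 n22123 = n20125 := d5_1 D22123 (iv D20125) F31111 (iv F31034) (iv F37184)
theorem F42235 : act 3 n22123 = n20125 := d9_2 D20024 D22123 (iv D20125) (iv D17393) F24547 (iv F24536) (iv F31097) D20119 (iv F42172) (iv D22098) (iv D19997) (iv D17238) F24260 D14192 D17267
theorem F42236 : act 5 n22123 = n20120 := d11_2 (iv F37185) D22123 (iv D20120)
def n22124 : Q := act 4 n20024
theorem D22124 : act 4 n20024 = n22124 := rfl
theorem F42237 : act 0 n22124 = n22075 := d3_1 D22124 (iv F42232) F42230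
theorem F42238 : act 1 n22124 = n20091 := d7_1 D22124 (iv D20091) (iv F37184)
theorem F42239 : act 5 n22076 = n22124 := d4_0 F42237 F42117 D22076
def n22125 : Q := act 3 n20026
theorem D22125 : act 3 n20026 = n22125 := rfl
theorem F42240 : act 0 n22125 = n21442 := d2_1 D22125 F40572 (iv F37190)
theorem F42241 : act 1 n22125 = n20078 := d6_1 D22125 (iv F37320) (iv F37191)
theorem F42242 : act 4 n22125 = n20077 := d12_2 F39598 D22125 F37316 (iv F41322) F41321
theorem F42243 : act 5 n22125 = n20146 := d13_2 (iv F37192) D22125 (iv D20146)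
def n22126 : Q := act 2 n20030
theorem D22126 : act 2 n20030 = n22126 := rfl
theorem F42244 : act 0 n22126 = n20086 := d1_1 D22126 F37338 (iv F37203)
theorem F42245 : act 4 n22126 = n20088 := d10_2 (iv F37204) D22126 F37340
theorem F42246 : act 5 n22126 = n20038 := d11_2 (iv F37205) D22126 (iv D20038)
def n22127 : Q := act 1 n20031
theorem D22127 : act 1 n20031 = n22127 := rfl
theorem F42247 : act 0 n22127 = n21036 := d0_1 D22127 F39609 F37276 F37131 (iv F37206)
theorem F42248 : act 2 n22127 = n21034 := d5_2 D20031 D22127 F39603 F37340 F31194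
theorem F42249 : act 3 n22127 = n20811 := d6_2 (iv F37207) D22127 F39069
theorem F42250 : act 5 n22127 = n20810 := d8_2 F42186 D22127 (iv F42184)
def n22128 : Q := act 4 n20031
theorem D22128 : act 4 n20031 = n22128 := rfl
theorem F42251 : act 0 n22128 = n20035 := d3_1 D22128 (iv D20035) (iv F37206)
theorem F42252 : act 2 n22128 = n20032 := d10_1 D22128 (iv D20032) D20031
def n22129 : Q := act 4 n20034
theorem D22129 : act 4 n20034 = n22129 := rfl
theorem F42253 : act 0 n22129 = n20818 := d3_1 D22129 (iv D20818) (iv F37215)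
theorem F42254 : act 2 n22129 = n20816 := d10_1 D22129 (iv D20816) (iv F37216)
def n22130 : Q := act 3 n20035
theorem D22130 : act 3 n20035 = n22130 := rfl
theorem F42255 : act 2 n22130 = n22016 := d15_2 (iv F37217) D22130 (iv D22016) F36833 F32566 (iv F30876) D20037 F37222 F37208
def n22131 : Q := act 5 n20035
theorem D22131 : act 5 n20035 = n22131 := rfl
theorem F42256 : act 2 n22131 = n20036 := d11_1 D22131 (iv D20036) (iv F37217)
def n22132 : Q := act 2 n20037
theorem D22132 : act 2 n20037 = n22132 := rfl
theorem F42257 : act 0 n22132 = n22131 := d1_1 D22132 F42256 (iv F37220)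
theorem F42258 : act 5 n22132 = n22128 := d11_2 (iv F37222) D22132 F42252
def n22133 : Q := act 1 n20038
theorem D22133 : act 1 n20038 = n22133 := rfl
def n22134 : Q := act 3 n20038
theorem D22134 : act 3 n20038 = n22134 := rfl
theorem F42259 : act 2 n22134 = n20106 := d9_1 D22134 (iv D20106) F31068 F24514 (iv F24695) D17432 (iv F37338) (iv F37847) (iv D20306) (iv D17643) F25114 F19397 (iv F24331) D17280 D20038
def n22135 : Q := act 1 n20039
theorem D22135 : act 1 n20039 = n22135 := rfl
theorem F42260 : act 0 n22135 = n20090 := d0_1 D22135 (iv F39606) F39605 F33857 (iv F37223)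
theorem F42261 : act 2 n22135 = n20040 := d5_2 D20039 D22135 F37226 F35880 F33873
theorem F42262 : act 4 n22135 = n20066 := d7_2 (iv F37224) D22135 (iv D20066)
theorem F42263 : act 5 n20039 = n22135 := d14_0 F42262 F37296 F31021 (iv F30974) (iv F37224)
def n22136 : Q := act 3 n20039
theorem D22136 : act 3 n20039 = n22136 := rfl
theorem F42264 : act 0 n22136 = n20089 := d2_1 D22136 (iv D20089) (iv F37223)
theorem F42265 : act 4 n22136 = n20087 := d12_2 (iv F37224) D22136 (iv D20087) F31013 (iv F30973)
def n22137 : Q := act 2 n20041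
theorem D22137 : act 2 n20041 = n22137 := rfl
theorem F42266 : act 0 n22137 = n20043 := d1_1 D22137 (iv D20043) (iv F37229)
theorem F42267 : act 1 n22137 = n21334 := d5_1 D22137 F40331 F38389 F32472 (iv F37230)
theorem F42268 : act 4 n22137 = n20053 := d10_2 (iv F37231) D22137 (iv D20053)
theorem F42269 : act 5 n22137 = n21324 := d11_2 F38582 D22137 F40306
def n22138 : Q := act 3 n20043
theorem D22138 : act 3 n20043 = n22138 := rfl
theorem F42270 : act 1 n22138 = n21327 := d6_1 D22138 F40316 (iv F37236)
theorem F42271 : act 5 n22138 = n21325 := d13_2 (iv F37238) D22138 (iv D21325)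
def n22139 : Q := act 2 n20044
theorem D22139 : act 2 n20044 = n22139 := rfl
theorem F42272 : act 0 n22139 = n20045 := d1_1 D22139 (iv D20045) (iv F37239)
theorem F42273 : act 1 n22139 = n22098 := d5_1 D22139 F42172 F37392 (iv F37122) (iv F37240)
theorem F42274 : act 3 n22139 = n20045 := d9_2 D20044 D22139 (iv D20045) (iv D17298) F24377 F18780 (iv F24180) D17199 D19968 (iv F42142) (iv D22085) (iv D19967) F30700 (iv F24386) (iv F30918)
theorem F42275 : act 5 n22139 = n22085 := d11_2 (iv F37241) D22139 (iv D22085)
def n22140 : Q := act 4 n20045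
theorem D22140 : act 4 n20045 = n22140 := rfl
theorem F42276 : act 1 n22140 = n22099 := d7_1 D22140 (iv D22099) (iv F37242)
theorem F42277 : act 2 n22140 = n20046 := d10_1 D22140 (iv D20046) D20045
def n22141 : Q := act 2 n20049
theorem D22141 : act 2 n20049 = n22141 := rfl
theorem F42278 : act 0 n22141 = n22108 := d1_1 D22141 F42193 F42166
theorem F42279 : act 3 n22141 = n20059 := d9_2 D20049 D22141 (iv D20059) (iv D17318) F24422 D14453 D17499 D20205 F37582 (iv D20004) (iv D17245) (iv D14171) (iv F18784) D14227 D17303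
theorem F42280 : act 5 n22141 = n20061 := d11_2 F38700 D22141 (iv F38701)
def n22142 : Q := act 4 n20049
theorem D22142 : act 4 n20049 = n22142 := rfl
theorem F42281 : act 1 n22142 = n20368 := d7_1 D22142 F38711 F38708
theorem F42282 : act 3 n22142 = n20367 := d12_1 D22142 F37999 (iv F37247) F37246 D20049
theorem F42283 : act 5 n20899 = n22142 := d13_0 F42282 F38000 D20899
def n22143 : Q := act 3 n20050
theorem D22143 : act 3 n20050 = n22143 := rfl
theorem F42284 : act 0 n22143 = n22123 := d2_1 D22143 F42235 F37403
theorem F42285 : act 1 n22143 = n22085 := d6_1 D22143 F42142 (iv F37250)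
theorem F42286 : act 2 n22143 = n22122 := d9_1 D22143 (iv D22122) (iv D20023) (iv D17266) F24312 D16936 D19733 (iv F37394) (iv D20120) (iv D17388) F24529 (iv F24283) (iv F24397) D17305 D20050
theorem F42287 : act 5 n22143 = n22098 := d13_2 (iv F37251) D22143 (iv D22098)
def n22144 : Q := act 4 n20050
theorem D22144 : act 4 n20050 = n22144 := rfl
theorem F42288 : act 1 n22144 = n22086 := d7_1 D22144 (iv D22086) (iv F37250)
theorem F42289 : act 2 n22144 = n20051 := d10_1 D22144 (iv D20051) D20050
def n22145 : Q := act 5 n20051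
theorem D22145 : act 5 n20051 = n22145 := rfl
theorem F42290 : act 1 n22145 = n20052 := d8_1 D22145 (iv D20052) (iv F37252)
theorem F42291 : act 3 n22145 = n20241 := d13_1 D22145 (iv D20241) (iv F37253)
theorem F42292 : act 4 n22145 = n22100 := d14_1 D22145 (iv D22100) (iv D19998) (iv F30934) D20051
def n22146 : Q := act 2 n20058
theorem D22146 : act 2 n20058 = n22146 := rfl
theorem F42293 : act 0 n22146 = n22109 := d1_1 D22146 F42196 (iv F37273)
theorem F42294 : act 4 n22146 = n20059 := d10_2 (iv F37275) D22146 (iv D20059)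
def n22147 : Q := act 4 n20061
theorem D22147 : act 4 n20061 = n22147 := rfl
theorem F42295 : act 0 n22147 = n22107 := d3_1 D22147 (iv D22107) (iv F37279)
theorem F42296 : act 1 n22147 = n21914 := d7_1 D22147 F41747 F39063
def n22148 : Q := act 3 n20064
theorem D22148 : act 3 n20064 = n22148 := rfl
theorem F42297 : act 0 n22148 = n20087 := d2_1 D22148 (iv D20087) (iv F37289)
theorem F42298 : act 4 n22148 = n20089 := d12_2 (iv F37290) D22148 (iv D20089) (iv D17353) (iv F30969)
def n22149 : Q := act 2 n20067
theorem D22149 : act 2 n20067 = n22149 := rfl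
def n22150 : Q := act 2 n20071
theorem D22150 : act 2 n20071 = n22150 := rfl
theorem F42299 : act 0 n22150 = n20073 := d1_1 D22150 (iv D20073) (iv F37308)
def n22151 : Q := act 5 n20071
theorem D22151 : act 5 n20071 = n22151 := rfl
theorem F42300 : act 0 n22151 = n20075 := d4_1 D22151 (iv D20075) (iv F37308)
theorem F42301 : act 3 n22151 = n20072 := d13_1 D22151 (iv D20072) D20071
def n22152 : Q := act 1 n20073
theorem D22152 : act 1 n20073 = n22152 := rfl
theorem F42302 : act 2 n22152 = n20077 := d5_2 D20073 D22152 (iv D20077) (iv D17337) (iv F30988)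
theorem F42303 : act 5 n22149 = n22152 := d11_0 F42302 F37317 D22149
def n22153 : Q := act 3 n20073
theorem D22153 : act 3 n20073 = n22153 := rfl
def n22154 : Q := act 4 n20073
theorem D22154 : act 4 n20073 = n22154 := rfl
theorem F42304 : act 2 n22154 = n20074 := d10_1 D22154 (iv D20074) D20073
theorem F42305 : act 3 n22154 = n22154 := d15_3 (iv F31006) (iv F37311) (iv F42304) F42304 F37311 F31006 D19546 F36085 (iv D19545)
theorem F42306 : act 4 n22153 = n22153 := d12_4 D22154 F42305 (iv D22154) D22153 (iv D22153)
def n22155 : Q := act 5 n20073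
theorem D22155 : act 5 n20073 = n22155 := rfl
theorem F42307 : act 1 n22155 = n22149 := d8_1 D22155 F42303 (iv D22152)
theorem F42308 : act 2 n22155 = n20075 := d11_1 D22155 (iv D20075) D20073
def n22156 : Q := act 5 n20074
theorem D22156 : act 5 n20074 = n22156 := rfl
theorem F42309 : act 1 n22156 = n20079 := d8_1 D22156 (iv D20079) (iv F37310)
theorem F42310 : act 3 n22156 = n20083 := d13_1 D22156 (iv D20083) (iv F37311)
def n22157 : Q := act 4 n20075
theorem D22157 : act 4 n20075 = n22157 := rfl
theorem F42311 : act 1 n22157 = n20080 := d7_1 D22157 (iv D20080) (iv F37312)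
def n22158 : Q := act 3 n20076
theorem D22158 : act 3 n20076 = n22158 := rfl
theorem F42312 : act 1 n22158 = n20081 := d6_1 D22158 (iv D20081) (iv F37314)
theorem F42313 : act 5 n22158 = n20084 := d13_2 (iv F37315) D22158 (iv D20084)
def n22159 : Q := act 0 n20077
theorem D22159 : act 0 n20077 = n22159 := rfl
theorem F42314 : act 1 n22159 = n20327 := d0_2 D20077 D22159 F37887 (iv F37281) F37280
theorem F42315 : act 3 n22159 = n21581 := d2_2 (iv F37316) D22159 F40933
theorem F42316 : act 4 n22159 = n21442 := d3_2 F42242 D22159 (iv F42240)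
theorem F42317 : act 5 n22159 = n21583 := d4_2 (iv F37317) D22159 F40941
def n22160 : Q := act 4 n20079
theorem D22160 : act 4 n20079 = n22160 := rfl
theorem F42318 : act 0 n22160 = n20118 := d3_1 D22160 F37388 (iv F37322)
theorem F42319 : act 2 n22160 = n20147 := d10_1 D22160 (iv D20147) (iv F37323)
theorem F42320 : act 3 n22160 = n20098 := d12_1 D22160 (iv D20098) F31049 (iv F31010) (iv F37324)
theorem F42321 : act 5 n22160 = n20080 := d14_2 D20079 D22160 (iv D20080) (iv D17339) D17338
def n22161 : Q := act 3 n20080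
theorem D22161 : act 3 n20080 = n22161 := rfl
theorem F42322 : act 0 n22161 = n20117 := d2_1 D22161 F37386 (iv F37325)
theorem F42323 : act 2 n22161 = n20105 := d9_1 D22161 F37370 (iv D19523) (iv D16717) (iv F29739) D19517 (iv F37390) (iv D20118) F31645 (iv D17639) (iv F29770) F29771 (iv F29782) D19537 (iv F37326)
theorem F42324 : act 4 n22161 = n20081 := d12_2 D20080 D22161 (iv D20081) (iv D17340) (iv F30995)
theorem F42325 : act 5 n22161 = n20098 := d13_2 F42321 D22161 (iv F42320)
def n22162 : Q := act 2 n20081
theorem D22162 : act 2 n20081 = n22162 := rfl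
theorem F42326 : act 0 n22162 = n20116 := d1_1 D22162 F37385 (iv F37327)
theorem F42327 : act 4 n22162 = n20105 := d10_2 F42324 D22162 (iv F42323)
theorem F42328 : act 5 n22162 = n20085 := d11_2 (iv F37328) D22162 (iv D20085)
def n22163 : Q := act 3 n20082
theorem D22163 : act 3 n20082 = n22163 := rfl
theorem F42329 : act 5 n22163 = n20087 := d13_2 (iv F37330) D22163 (iv D20087)
theorem F42330 : act 2 n22163 = n20115 := d15_2 D20082 D22163 (iv D20115) F31079 F24520 (iv F24431) D17323 (iv F37160) F37158
def n22164 : Q := act 2 n20084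
theorem D22164 : act 2 n20084 = n22164 := rfl
theorem F42331 : act 0 n22164 = n22130 := d1_1 D22164 F42255 F41980
theorem F42332 : act 4 n22164 = n20095 := d10_2 (iv F37335) D22164 (iv D20095)
theorem F42333 : act 3 n22164 = n22128 := d15_3 F36072 D20084 D22164 F42252 F37210 F37197 (iv F38616) (iv D20634) (iv F36070)
def n22165 : Q := act 1 n20085
theorem D22165 : act 1 n20085 = n22165 := rfl
theorem F42334 : act 4 n22165 = n20097 := d7_2 (iv F37337) D22165 (iv D20097)
def n22166 : Q := act 3 n20085
theorem D22166 : act 3 n20085 = n22166 := rfl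
theorem F42335 : act 0 n22166 = n20115 := d2_1 D22166 (iv D20115) (iv F37336)
theorem F42336 : act 4 n22166 = n20106 := d12_2 (iv F37337) D22166 (iv D20106) (iv D17371) (iv F31045)
def n22167 : Q := act 2 n20087
theorem D22167 : act 2 n20087 = n22167 := rfl
theorem F42337 : act 5 n22167 = n20115 := d11_2 F42329 D22167 (iv F42330)
theorem F42338 : act 3 n22167 = n20116 := d15_3 D17349 D20087 D22167 F37385 F31080 (iv F30964) (iv F37159) F37160 F30966
def n22168 : Q := act 5 n20091
theorem D22168 : act 5 n20091 = n22168 := rfl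
theorem F42339 : act 0 n22168 = n20129 := d4_1 D22168 (iv D20129) (iv F37345)
theorem F42340 : act 1 n22168 = n22076 := d8_1 D22168 F42239 F42238
theorem F42341 : act 2 n22168 = n20127 := d11_1 D22168 (iv D20127) (iv F37346)
theorem F42342 : act 3 n22168 = n21967 := d13_1 D22168 (iv F41879) F41616
theorem F42343 : act 4 n22168 = n20124 := d14_1 D22168 (iv D20124) (iv D17390) (iv F31035) D20091
def n22169 : Q := act 2 n20093
theorem D22169 : act 2 n20093 = n22169 := rfl
theorem F42344 : act 0 n22169 = n20095 := d1_1 D22169 (iv D20095) (iv F37347)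
theorem F42345 : act 1 n22169 = n20895 := d5_1 D22169 (iv D20895) F33383 (iv F31070) (iv F37348)
theorem F42346 : act 4 n22169 = n22130 := d10_2 F41982 D22169 F42255
theorem F42347 : act 3 n22169 = n22129 := d15_1 D22169 F42254 F39085 (iv F35830) (iv F35831) F35419 (iv F37353) (iv D20096) (iv F37347)
def n22170 : Q := act 5 n20093
theorem D22170 : act 5 n20093 = n22170 := rfl
theorem F42348 : act 0 n22170 = n20096 := d4_1 D22170 (iv D20096) (iv F37347)
theorem F42349 : act 1 n22170 = n20107 := d8_1 D22170 (iv D20107) (iv F37348)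
theorem F42350 : act 3 n22170 = n20094 := d13_1 D22170 (iv D20094) D20093
def n22171 : Q := act 1 n20095
theorem D22171 : act 1 n20095 = n22171 := rfl
theorem F42351 : act 2 n22171 = n20097 := d5_2 D20095 D22171 (iv D20097) (iv D17362) (iv F31042)
theorem F42352 : act 5 n20102 = n22171 := d11_0 F42351 F37355 D20102
def n22172 : Q := act 5 n20095
theorem D22172 : act 5 n20095 = n22172 := rfl
theorem F42353 : act 1 n22172 = n20102 := d8_1 D22172 F42352 (iv D22171)
theorem F42354 : act 2 n22172 = n20096 := d11_1 D22172 (iv D20096) D20095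
def n22173 : Q := act 4 n20096
theorem D22173 : act 4 n20096 = n22173 := rfl
theorem F42355 : act 1 n22173 = n20098 := d7_1 D22173 (iv D20098) (iv F37352)
def n22174 : Q := act 0 n20097
theorem D22174 : act 0 n20097 = n22174 := rfl
theorem F42356 : act 1 n22174 = n20113 := d0_2 D20097 D22174 (iv D20113) (iv D17377) (iv F31044)
theorem F42357 : act 3 n22174 = n20101 := d2_2 (iv F37354) D22174 F37364
theorem F42358 : act 5 n22174 = n20100 := d4_2 (iv F37355) D22174 F37363
def n22175 : Q := act 2 n20100
theorem D22175 : act 2 n20100 = n22175 := rfl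
theorem F42359 : act 0 n22175 = n20102 := d1_1 D22175 (iv D20102) (iv F37363)
theorem F42360 : act 3 n22175 = n21180 := d15_1 D22175 (iv D21180) (iv D18789) F27943 (iv F25444) (iv F31066) (iv F37354) F37355 (iv F37363)
def n22176 : Q := act 4 n20100
theorem D22176 : act 4 n20100 = n22176 := rfl
theorem F42361 : act 0 n22176 = n20103 := d3_1 D22176 (iv D20103) (iv F37363)
theorem F42362 : act 3 n22176 = n21740 := d12_1 D22176 (iv D21740) F36051 F31627 D20100
def n22177 : Q := act 4 n20101
theorem D22177 : act 4 n20101 = n22177 := rfl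
theorem F42363 : act 0 n22177 = n20104 := d3_1 D22177 (iv D20104) (iv F37364)
theorem F42364 : act 2 n22177 = n20416 := d10_1 D22177 (iv D20416) (iv F37365)
def n22178 : Q := act 4 n20102
theorem D22178 : act 4 n20102 = n22178 := rfl
theorem F42365 : act 2 n22178 = n20103 := d10_1 D22178 (iv D20103) D20102
def n22179 : Q := act 5 n20103
theorem D22179 : act 5 n20103 = n22179 := rfl
theorem F42366 : act 1 n22179 = n20105 := d8_1 D22179 (iv D20105) (iv F37366)
theorem F42367 : act 3 n22179 = n21731 := d13_1 D22179 F41292 (iv F37367)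
def n22180 : Q := act 3 n20104
theorem D22180 : act 3 n20104 = n22180 := rfl
theorem F42368 : act 1 n22180 = n20106 := d6_1 D22180 (iv D20106) (iv F37368)
def n22181 : Q := act 4 n20107
theorem D22181 : act 4 n20107 = n22181 := rfl
theorem F42369 : act 0 n22181 = n20112 := d3_1 D22181 (iv D20112) (iv F37371)
theorem F42370 : act 2 n22181 = n20892 := d10_1 D22181 (iv D20892) (iv F37372)
def n22182 : Q := act 0 n20108
theorem D22182 : act 0 n20108 = n22182 := rfl
theorem F42371 : act 1 n22182 = n20894 := d0_2 D20108 D22182 F39248 F33383 (iv F31073)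
theorem F42372 : act 2 n22182 = n20113 := d1_2 (iv F37374) D22182 (iv D20113)
theorem F42373 : act 3 n22182 = n20893 := d2_2 (iv F37375) D22182 (iv D20893)
def n22183 : Q := act 4 n20108
theorem D22183 : act 4 n20108 = n22183 := rfl
theorem F42374 : act 1 n22183 = n20109 := d7_1 D22183 (iv D20109) D20108
theorem F42375 : act 2 n22183 = n20114 := d10_1 D22183 (iv D20114) (iv F37374)
def n22184 : Q := act 3 n20109
theorem D22184 : act 3 n20109 = n22184 := rfl
theorem F42376 : act 0 n22184 = n20559 := d2_1 D22184 F38445 (iv F37376)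
theorem F42377 : act 4 n22184 = n20555 := d12_2 D20109 D22184 (iv D20555) F32289 (iv F31074)
theorem F42378 : act 2 n22184 = n20648 := d15_2 (iv F37377) D22184 F38651 F37785 (iv F31563) (iv F36838) (iv F41989) (iv D22018) F36834
def n22185 : Q := act 5 n20109
theorem D22185 : act 5 n20109 = n22185 := rfl
theorem F42379 : act 0 n22185 = n20897 := d4_1 D22185 (iv D20897) (iv F37376)
theorem F42380 : act 2 n22185 = n20111 := d11_1 D22185 (iv D20111) (iv F37377)
def n22186 : Q := act 4 n20110
theorem D22186 : act 4 n20110 = n22186 := rfl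
theorem F42381 : act 0 n22186 = n20892 := d3_1 D22186 (iv D20892) (iv F37378)
theorem F42382 : act 2 n22186 = n20112 := d10_1 D22186 (iv D20112) (iv F37379)
def n22187 : Q := act 4 n20111
theorem D22187 : act 4 n20111 = n22187 := rfl
theorem F42383 : act 1 n22187 = n20117 := d7_1 D22187 (iv D20117) (iv F37381)
theorem F42384 : act 3 n22187 = n21744 := d12_1 D22187 F41314 F41169 F35785 (iv F37382)
theorem F42385 : act 5 n22187 = n20112 := d14_2 D20111 D22187 (iv D20112) (iv D17376) D17375
def n22188 : Q := act 4 n20113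
theorem D22188 : act 4 n20113 = n22188 := rfl
theorem F42386 : act 0 n22188 = n20114 := d3_1 D22188 (iv D20114) D20113
def n22189 : Q := act 3 n20114
theorem D22189 : act 3 n20114 = n22189 := rfl
theorem F42387 : act 1 n22189 = n20115 := d6_1 D22189 (iv D20115) (iv F37384)
def n22190 : Q := act 5 n20114
theorem D22190 : act 5 n20114 = n22190 := rfl
theorem F42388 : act 1 n22190 = n20116 := d8_1 D22190 (iv D20116) (iv F37384)
def n22191 : Q := act 4 n20120
theorem D22191 : act 4 n20120 = n22191 := rfl
theorem F42389 : act 1 n22191 = n21891 := d7_1 D22191 F41691 (iv F37393)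
theorem F42390 : act 2 n22191 = n20121 := d10_1 D22191 (iv D20121) D20120
def n22192 : Q := act 5 n20121
theorem D22192 : act 5 n20121 = n22192 := rfl
theorem F42391 : act 0 n22192 = n22074 := d4_1 D22192 F42115 F41526
theorem F42392 : act 1 n22192 = n20124 := d8_1 D22192 (iv D20124) (iv F37395)
theorem F42393 : act 4 n22192 = n22076 := d14_1 D22192 F42239 (iv D22124) F37185 D20121
def n22193 : Q := act 4 n20125
theorem D22193 : act 4 n20125 = n22193 := rfl
theorem F42394 : act 0 n22193 = n22144 := d3_1 D22193 (iv D22144) (iv F37403)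
theorem F42395 : act 2 n22193 = n20126 := d10_1 D22193 (iv D20126) D20125
def n22194 : Q := act 5 n20126
theorem D22194 : act 5 n20126 = n22194 := rfl
theorem F42396 : act 0 n22194 = n22145 := d4_1 D22194 (iv D22145) (iv F37405)
theorem F42397 : act 1 n22194 = n20127 := d8_1 D22194 (iv D20127) (iv F37406)
theorem F42398 : act 3 n22194 = n20197 := d13_1 D22194 (iv D20197) (iv F37407)
theorem F42399 : act 4 n22194 = n21892 := d14_1 D22194 (iv D21892) F36514 (iv F31112) D20126
def n22195 : Q := act 4 n20131
theorem D22195 : act 4 n20131 = n22195 := rfl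
theorem F42400 : act 0 n22195 = n20442 := d3_1 D22195 (iv D20442) (iv F37421)
theorem F42401 : act 1 n22195 = n20134 := d7_1 D22195 (iv D20134) (iv F37422)
theorem F42402 : act 2 n22195 = n20132 := d10_1 D22195 (iv D20132) (iv F37423)
theorem F42403 : act 5 n22195 = n20441 := d14_2 D20131 D22195 (iv D20441) (iv D17813) (iv F31123)
def n22196 : Q := act 4 n20133
theorem D22196 : act 4 n20133 = n22196 := rfl
theorem F42404 : act 0 n22196 = n21883 := d3_1 D22196 (iv D21883) (iv F37428)
theorem F42405 : act 2 n22196 = n21717 := d10_1 D22196 (iv D21717) (iv F37429)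
def n22197 : Q := act 3 n20134
theorem D22197 : act 3 n20134 = n22197 := rfl
theorem F42406 : act 0 n22197 = n21884 := d2_1 D22197 (iv D21884) (iv F37431)
def n22198 : Q := act 5 n20134
theorem D22198 : act 5 n20134 = n22198 := rfl
theorem F42407 : act 0 n22198 = n21885 := d4_1 D22198 (iv D21885) (iv F37431)
theorem F42408 : act 1 n22198 = n20441 := d8_1 D22198 (iv F42403) F42401
theorem F42409 : act 2 n22198 = n20135 := d11_1 D22198 (iv D20135) (iv F37432)
theorem F42410 : act 4 n22198 = n20440 := d14_1 D22198 (iv D20440) F32036 (iv F31140) D20134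
def n22199 : Q := act 5 n20137
theorem D22199 : act 5 n20137 = n22199 := rfl
theorem F42411 : act 1 n22199 = n21896 := d8_1 D22199 (iv D21896) (iv F37438)
theorem F42412 : act 2 n22199 = n20138 := d11_1 D22199 (iv D20138) (iv F37439)
theorem F42413 : act 3 n22199 = n20446 := d13_1 D22199 (iv D20446) (iv F37440)
def n22200 : Q := act 4 n20141
theorem D22200 : act 4 n20141 = n22200 := rfl
theorem F42414 : act 1 n22200 = n21551 := d7_1 D22200 (iv D21551) (iv F37452)
theorem F42415 : act 2 n22200 = n20142 := d10_1 D22200 (iv D20142) D20141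
def n22201 : Q := act 2 n20146
theorem D22201 : act 2 n20146 = n22201 := rfl
theorem F42416 : act 0 n22201 = n21745 := d1_1 D22201 (iv D21745) (iv F37470)
theorem F42417 : act 3 n22201 = n22201 := d15_1 D22201 (iv D22201) (iv D20146) F31178 (iv F30864) (iv F36065) (iv F40572) F40573 (iv F37470)
def n22202 : Q := act 5 n20150
theorem D22202 : act 5 n20150 = n22202 := rfl
theorem F42418 : act 0 n22202 = n20153 := d4_1 D22202 (iv D20153) (iv F37484)
theorem F42419 : act 1 n22202 = n21212 := d8_1 D22202 F40021 (iv F37485)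
theorem F42420 : act 3 n22202 = n21211 := d13_1 D22202 F40019 F37895
def n22203 : Q := act 4 n20151
theorem D22203 : act 4 n20151 = n22203 := rfl
theorem F42421 : act 1 n22203 = n20152 := d7_1 D22203 (iv D20152) D20151
theorem F42422 : act 2 n22203 = n20154 := d10_1 D22203 (iv D20154) (iv F37486)
def n22204 : Q := act 3 n20152
theorem D22204 : act 3 n20152 = n22204 := rfl
def n22205 : Q := act 5 n20152
theorem D22205 : act 5 n20152 = n22205 := rfl
theorem F42423 : act 2 n22205 = n20153 := d11_1 D22205 (iv D20153) (iv F37488)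
def n22206 : Q := act 3 n20154
theorem D22206 : act 3 n20154 = n22206 := rfl
theorem F42424 : act 0 n22206 = n22066 := d2_1 D22206 F42099 F41698
theorem F42425 : act 1 n22206 = n20155 := d6_1 D22206 (iv D20155) (iv F37490)
theorem F42426 : act 4 n22206 = n20248 := d12_2 D20154 D22206 (iv D20248) (iv D17569) (iv F31228)
theorem F42427 : act 2 n21668 = n22206 := d10_3 F42426 (iv F37697) D21668
theorem F42428 : act 5 n21668 = n22206 := d14_0 F42426 F37696 F35676 D19415 D21668
def n22207 : Q := act 5 n20154
theorem D22207 : act 5 n20154 = n22207 := rfl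
theorem F42429 : act 1 n22207 = n20156 := d8_1 D22207 (iv D20156) (iv F37490)
theorem F42430 : act 3 n22207 = n21668 := d13_1 D22207 F42428 (iv D22206)
theorem F42431 : act 4 n22207 = n20247 := d14_1 D22207 (iv D20247) (iv D17568) (iv F31229) D20154
def n22208 : Q := act 2 n20155
theorem D22208 : act 2 n20155 = n22208 := rfl
theorem F42432 : act 0 n22208 = n20260 := d1_1 D22208 (iv D20260) (iv F37491)
theorem F42433 : act 1 n22208 = n21669 := d5_1 D22208 F41127 (iv F41125) F42427 F42425
theorem F42434 : act 3 n22208 = n21278 := d9_2 D20155 D22208 F40192 F34746 F31748 (iv F31153) (iv F31508) D20259 (iv F40152) (iv D21261) F34699 F28416 (iv F25166) F25167 (iv F31231)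
theorem F42435 : act 4 n22208 = n20249 := d10_2 (iv F37492) D22208 (iv D20249)
theorem F42436 : act 5 n22208 = n21669 := d11_2 F37493 D22208 F41127
def n22209 : Q := act 1 n20159
theorem D22209 : act 1 n20159 = n22209 := rfl
theorem F42437 : act 2 n22209 = n20173 := d5_2 D20159 D22209 (iv D20173) (iv D17458) (iv F31237)
def n22210 : Q := act 5 n20159
theorem D22210 : act 5 n20159 = n22210 := rfl
theorem F42438 : act 0 n22210 = n20163 := d4_1 D22210 (iv D20163) (iv F37503)
theorem F42439 : act 2 n22210 = n20160 := d11_1 D22210 (iv D20160) D20159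
def n22211 : Q := act 4 n20160
theorem D22211 : act 4 n20160 = n22211 := rfl
theorem F42440 : act 0 n22211 = n20164 := d3_1 D22211 (iv D20164) (iv F37504)
theorem F42441 : act 1 n22211 = n20177 := d7_1 D22211 (iv D20177) (iv F37505)
def n22212 : Q := act 0 n20161
theorem D22212 : act 0 n20161 = n22212 := rfl
theorem F42442 : act 2 n22212 = n20165 := d1_2 (iv F37507) D22212 (iv D20165)
theorem F42443 : act 5 n22212 = n20166 := d4_2 F37508 D22212 F37515
def n22213 : Q := act 3 n20161
theorem D22213 : act 3 n20161 = n22213 := rfl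
theorem F42444 : act 1 n22213 = n20162 := d6_1 D22213 (iv D20162) D20161
theorem F42445 : act 5 n22213 = n20169 := d13_2 F37508 D22213 (iv D20169)
def n22214 : Q := act 4 n20162
theorem D22214 : act 4 n20162 = n22214 := rfl
def n22215 : Q := act 5 n20162
theorem D22215 : act 5 n20162 = n22215 := rfl
theorem F42446 : act 1 n22215 = n20169 := d8_1 D22215 (iv F42445) F42444
theorem F42447 : act 3 n22215 = n20163 := d13_1 D22215 (iv D20163) D20162
def n22216 : Q := act 4 n20163
theorem D22216 : act 4 n20163 = n22216 := rfl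
theorem F42448 : act 1 n22216 = n20170 := d7_1 D22216 (iv D20170) (iv F37509)
theorem F42449 : act 2 n22216 = n20164 := d10_1 D22216 (iv D20164) (iv F37510)
def n22217 : Q := act 1 n20166
theorem D22217 : act 1 n20166 = n22217 := rfl
def n22218 : Q := act 4 n20166
theorem D22218 : act 4 n20166 = n22218 := rfl
theorem F42450 : act 0 n22218 = n20170 := d3_1 D22218 (iv D20170) (iv F37515)
theorem F42451 : act 2 n22218 = n20167 := d10_1 D22218 (iv D20167) D20166
def n22219 : Q := act 5 n20167
theorem D22219 : act 5 n20167 = n22219 := rfl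
theorem F42452 : act 0 n22219 = n20171 := d4_1 D22219 (iv D20171) (iv F37516)
def n22220 : Q := act 3 n20168
theorem D22220 : act 3 n20168 = n22220 := rfl
theorem F42453 : act 0 n22220 = n20172 := d2_1 D22220 (iv D20172) (iv F37517)
def n22221 : Q := act 4 n20169
theorem D22221 : act 4 n20169 = n22221 := rfl
def n22222 : Q := act 3 n20170
theorem D22222 : act 3 n20170 = n22222 := rfl
def n22223 : Q := act 5 n20170
theorem D22223 : act 5 n20170 = n22223 := rfl
theorem F42454 : act 2 n22223 = n20171 := d11_1 D22223 (iv D20171) (iv F37518)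
def n22224 : Q := act 2 n20172
theorem D22224 : act 2 n20172 = n22224 := rfl
def n22225 : Q := act 4 n20173
theorem D22225 : act 4 n20173 = n22225 := rfl
theorem F42455 : act 1 n22225 = n20174 := d7_1 D22225 (iv D20174) D20173
def n22226 : Q := act 3 n20174
theorem D22226 : act 3 n20174 = n22226 := rfl
theorem F42456 : act 0 n22226 = n20183 := d2_1 D22226 (iv D20183) (iv F37521)
theorem F42457 : act 2 n22226 = n20823 := d15_2 (iv F37522) D22226 (iv D20823) F33138 F26743 (iv F24782) (iv F31259) (iv D17465) (iv F31251)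
def n22227 : Q := act 5 n20174
theorem D22227 : act 5 n20174 = n22227 := rfl
theorem F42458 : act 0 n22227 = n20184 := d4_1 D22227 (iv D20184) (iv F37521)
theorem F42459 : act 2 n22227 = n20176 := d11_1 D22227 (iv D20176) (iv F37522)
def n22228 : Q := act 4 n20175
theorem D22228 : act 4 n20175 = n22228 := rfl
theorem F42460 : act 0 n22228 = n20185 := d3_1 D22228 (iv D20185) (iv F37523)
theorem F42461 : act 2 n22228 = n20177 := d10_1 D22228 (iv D20177) (iv F37524)
def n22229 : Q := act 4 n20176
theorem D22229 : act 4 n20176 = n22229 := rfl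
theorem F42462 : act 0 n22229 = n20186 := d3_1 D22229 (iv D20186) (iv F37526)
theorem F42463 : act 3 n22229 = n20827 := d12_1 D22229 (iv D20827) (iv D18313) (iv F31271) (iv F37527)
theorem F42464 : act 5 n22229 = n20177 := d14_2 D20176 D22229 (iv D20177) (iv D17460) D17459
def n22230 : Q := act 4 n20178
theorem D22230 : act 4 n20178 = n22230 := rfl
theorem F42465 : act 0 n22230 = n20180 := d3_1 D22230 (iv D20180) D20178
theorem F42466 : act 2 n22230 = n20187 := d10_1 D22230 (iv D20187) (iv F37529)
def n22231 : Q := act 4 n20179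
theorem D22231 : act 4 n20179 = n22231 := rfl
theorem F42467 : act 1 n22231 = n20181 := d7_1 D22231 (iv D20181) (iv F37530)
def n22232 : Q := act 3 n20180
theorem D22232 : act 3 n20180 = n22232 := rfl
theorem F42468 : act 1 n22232 = n20183 := d6_1 D22232 (iv D20183) (iv F37531)
def n22233 : Q := act 5 n20180
theorem D22233 : act 5 n20180 = n22233 := rfl
theorem F42469 : act 1 n22233 = n20184 := d8_1 D22233 (iv D20184) (iv F37531)
theorem F42470 : act 2 n22233 = n20189 := d11_1 D22233 (iv D20189) (iv F37532)
def n22234 : Q := act 3 n20181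
theorem D22234 : act 3 n20181 = n22234 := rfl
theorem F42471 : act 4 n22234 = n20183 := d12_2 D20181 D22234 (iv D20183) (iv D17463) D17462
theorem F42472 : act 2 n22234 = n20678 := d15_2 (iv F37533) D22234 (iv D20678) F32733 (iv F32551) (iv F33997) (iv F37938) (iv D20344) (iv F36548)
def n22235 : Q := act 5 n20181
theorem D22235 : act 5 n20181 = n22235 := rfl
theorem F42473 : act 2 n22235 = n20720 := d11_1 D22235 F38849 (iv F37533)
theorem F42474 : act 4 n20721 = n22235 := d10_0 F42473 F38848 D20721
def n22236 : Q := act 4 n20182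
theorem D22236 : act 4 n20182 = n22236 := rfl
theorem F42475 : act 0 n22236 = n22200 := d3_1 D22236 (iv D22200) (iv F37534)
theorem F42476 : act 2 n22236 = n20722 := d10_1 D22236 F38853 (iv F37535)
theorem F42477 : act 5 n22236 = n20721 := d14_2 D20182 D22236 F42474 (iv D22235) (iv D20181)
def n22237 : Q := act 2 n20183
theorem D22237 : act 2 n20183 = n22237 := rfl
theorem F42478 : act 0 n22237 = n20823 := d1_1 D22237 (iv F42457) F42456
theorem F42479 : act 4 n22237 = n20678 := d10_2 F42471 D22237 (iv F42472)
theorem F42480 : act 3 n22237 = n20676 := d15_3 (iv F31256) D20183 D22237 F38706 F33136 (iv F31270) (iv F37527) (iv D20176) F31251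
def n22238 : Q := act 5 n20183
theorem D22238 : act 5 n20183 = n22238 := rfl
theorem F42481 : act 3 n22238 = n20184 := d13_1 D22238 (iv D20184) D20183
def n22239 : Q := act 4 n20184
theorem D22239 : act 4 n20184 = n22239 := rfl
theorem F42482 : act 2 n22239 = n20186 := d10_1 D22239 (iv D20186) (iv F37537)
theorem F42483 : act 5 n22239 = n20185 := d14_2 D20184 D22239 (iv D20185) (iv D17464) D17463
def n22240 : Q := act 3 n20185
theorem D22240 : act 3 n20185 = n22240 := rfl
theorem F42484 : act 2 n22240 = n21064 := d15_2 (iv F37538) D22240 (iv D21064) F33973 (iv F33736) (iv F39103) (iv F42463) F42464 F37528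
def n22241 : Q := act 3 n20187
theorem D22241 : act 3 n20187 = n22241 := rfl
theorem F42485 : act 0 n22241 = n20188 := d2_1 D22241 (iv D20188) (iv F37542)
def n22242 : Q := act 5 n20187
theorem D22242 : act 5 n20187 = n22242 := rfl
theorem F42486 : act 0 n22242 = n20189 := d4_1 D22242 (iv D20189) (iv F37542)
def n22243 : Q := act 0 n20190
theorem D22243 : act 0 n20190 = n22243 := rfl
theorem F42487 : act 1 n22243 = n20859 := d0_2 D20190 D22243 F39182 F33272 F31601
theorem F42488 : act 5 n22243 = n20193 := d4_2 (iv F37545) D22243 (iv D20193)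
def n22244 : Q := act 1 n20191
theorem D22244 : act 1 n20191 = n22244 := rfl
theorem F42489 : act 2 n22244 = n20826 := d5_2 D20191 D22244 F39101 F33140 (iv F31275)
theorem F42490 : act 4 n22244 = n21560 := d7_2 F39882 D22244 F40867
theorem F42491 : act 5 n22244 = n20822 := d8_2 (iv F37546) D22244 F39097
def n22245 : Q := act 3 n20191
theorem D22245 : act 3 n20191 = n22245 := rfl
theorem F42492 : act 5 n22245 = n20823 := d13_2 (iv F37546) D22245 (iv D20823)
def n22246 : Q := act 3 n20193
theorem D22246 : act 3 n20193 = n22246 := rfl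
theorem F42493 : act 0 n22246 = n20194 := d2_1 D22246 (iv D20194) D20193
theorem F42494 : act 1 n22246 = n20858 := d6_1 D22246 (iv D20858) (iv F37550)
theorem F42495 : act 4 n22246 = n20857 := d12_2 (iv F37551) D22246 (iv D20857) (iv D18359) D18358
def n22247 : Q := act 2 n20194
theorem D22247 : act 2 n20194 = n22247 := rfl
def n22248 : Q := act 4 n20195
theorem D22248 : act 4 n20195 = n22248 := rfl
theorem F42496 : act 0 n22248 = n21724 := d3_1 D22248 (iv D21724) (iv F37553)
theorem F42497 : act 1 n22248 = n21677 := d7_1 D22248 (iv D21677) (iv F37554)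
theorem F42498 : act 2 n22248 = n21722 := d10_1 D22248 (iv D21722) (iv F37555)
theorem F42499 : act 3 n22248 = n21959 := d12_1 D22248 F41858 F37559 (iv D20196) D20195
theorem F42500 : act 5 n22248 = n21755 := d14_2 (iv F37556) D22248 F41351 (iv D21554) F35857
def n22249 : Q := act 3 n20198
theorem D22249 : act 3 n20198 = n22249 := rfl
theorem F42501 : act 0 n22249 = n20199 := d2_1 D22249 (iv D20199) D20198
theorem F42502 : act 1 n22249 = n20200 := d6_1 D22249 F37568 (iv F37562)
theorem F42503 : act 4 n22249 = n20199 := d12_2 (iv F37564) D22249 (iv D20199) F31303 F31315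
theorem F42504 : act 5 n22249 = n20199 := d13_2 F37565 D22249 (iv D20199)
def n22250 : Q := act 2 n20199
theorem D22250 : act 2 n20199 = n22250 := rfl
def n22251 : Q := act 1 n20202
theorem D22251 : act 1 n20202 = n22251 := rfl
theorem F42505 : act 0 n22251 = n21186 := d0_1 D22251 F39932 (iv F37597) (iv F41069) F41068
theorem F42506 : act 2 n22251 = n20203 := d5_2 D20202 D22251 (iv D20203) (iv D17497) (iv F31323)
theorem F42507 : act 4 n22251 = n20232 := d7_2 (iv F37575) D22251 (iv D20232)
theorem F42508 : act 5 n22251 = n20209 := d8_2 F41071 D22251 (iv F41069)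
def n22252 : Q := act 3 n20202
theorem D22252 : act 3 n20202 = n22252 := rfl
def n22253 : Q := act 4 n20205
theorem D22253 : act 4 n20205 = n22253 := rfl
theorem F42509 : act 2 n22253 = n22107 := d10_1 D22253 (iv D22107) (iv F37582)
def n22254 : Q := act 3 n20209
theorem D22254 : act 3 n20209 = n22254 := rfl
theorem F42510 : act 0 n22254 = n21187 := d2_1 D22254 (iv D21187) (iv F37597)
theorem F42511 : act 4 n22254 = n21184 := d12_2 (iv F37598) D22254 (iv D21184) (iv D18812) (iv F32449)
def n22255 : Q := act 2 n20212
theorem D22255 : act 2 n20212 = n22255 := rfl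
theorem F42512 : act 0 n22255 = n20213 := d1_1 D22255 (iv D20213) (iv F37608)
def n22256 : Q := act 3 n20213
theorem D22256 : act 3 n20213 = n22256 := rfl
def n22257 : Q := act 4 n20213
theorem D22257 : act 4 n20213 = n22257 := rfl
theorem F42513 : act 2 n22257 = n20214 := d10_1 D22257 (iv D20214) D20213
def n22258 : Q := act 5 n20214
theorem D22258 : act 5 n20214 = n22258 := rfl
theorem F42514 : act 1 n22258 = n20215 := d8_1 D22258 (iv D20215) (iv F37609)
theorem F42515 : act 3 n22258 = n20220 := d13_1 D22258 (iv D20220) (iv F37610)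
theorem F42516 : act 4 n22258 = n22077 := d14_1 D22258 F42119 (iv D21797) F36261 D20214
def n22259 : Q := act 4 n20218
theorem D22259 : act 4 n20218 = n22259 := rfl
theorem F42517 : act 0 n22259 = n21160 := d3_1 D22259 (iv F39878) (iv F37616)
theorem F42518 : act 2 n22259 = n21707 := d10_1 D22259 (iv D21707) (iv F37617)
theorem F42519 : act 3 n21159 = n22259 := d9_0 F42518 F41229 F36284 (iv D19259) F29169 D16450 D19267 D21560 (iv F41231) F41232 (iv F41486) F41487 F40855 F35402 (iv F39875)
def n22260 : Q := act 3 n20219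
theorem D22260 : act 3 n20219 = n22260 := rfl
theorem F42520 : act 0 n22260 = n20423 := d2_1 D22260 (iv F41732) F41729
theorem F42521 : act 1 n22260 = n20425 := d6_1 D22260 (iv F42149) F42148
theorem F42522 : act 4 n22260 = n21159 := d12_2 D20219 D22260 F42519 (iv D22259) (iv D20218)
theorem F42523 : act 2 n21163 = n22260 := d10_3 F42522 F39875 (iv F39885)
def n22261 : Q := act 3 n20226
theorem D22261 : act 3 n20226 = n22261 := rfl
theorem F42524 : act 0 n22261 = n21158 := d2_1 D22261 F39873 (iv F37630)
theorem F42525 : act 1 n22261 = n20228 := d6_1 D22261 (iv D20228) (iv F37631)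
theorem F42526 : act 2 n22261 = n20487 := d9_1 D22261 F38291 F32185 (iv F37256) F37255 F37030 F36869 D19912 F36905 (iv D17564) F24992 (iv F24409) (iv F24929) (iv F31416) (iv F37632)
theorem F42527 : act 4 n22261 = n20486 := d12_2 D20226 D22261 F38288 F32507 (iv F31413)
theorem F42528 : act 5 n22261 = n22044 := d13_2 (iv F37633) D22261 (iv D22044)
def n22262 : Q := act 3 n20227
theorem D22262 : act 3 n20227 = n22262 := rfl
theorem F42529 : act 0 n22262 = n22055 := d2_1 D22262 F42084 (iv F37634)
theorem F42530 : act 1 n22262 = n20486 := d6_1 D22262 F38288 (iv F37635)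
theorem F42531 : act 4 n22262 = n20228 := d12_2 D20227 D22262 (iv D20228) (iv D17543) (iv F31443)
theorem F42532 : act 5 n22262 = n20627 := d13_2 (iv F37637) D22262 (iv D20627)
def n22263 : Q := act 2 n20228
theorem D22263 : act 2 n20228 = n22263 := rfl
theorem F42533 : act 0 n22263 = n22054 := d1_1 D22263 F42079 (iv F37638)
theorem F42534 : act 3 n22263 = n22064 := d9_2 D20228 D22263 (iv D22064) (iv D19936) (iv D17159) (iv D14071) (iv F24093) D17147 D19923 D22053 F42077 (iv D21834) F36355 F30076 (iv F31445)
theorem F42535 : act 5 n22263 = n22049 := d11_2 (iv F37639) D22263 (iv D22049)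
def n22264 : Q := act 2 n20234
theorem D22264 : act 2 n20234 = n22264 := rfl
theorem F42536 : act 4 n22264 = n20877 := d10_2 (iv F37663) D22264 F39222
theorem F42537 : act 5 n22264 = n20881 := d11_2 (iv F37664) D22264 F39224
def n22265 : Q := act 5 n20235
theorem D22265 : act 5 n20235 = n22265 := rfl
theorem F42538 : act 0 n22265 = n20901 := d4_1 D22265 (iv D20901) (iv F37665)
theorem F42539 : act 1 n22265 = n20237 := d8_1 D22265 (iv D20237) (iv F37666)
theorem F42540 : act 3 n22265 = n20236 := d13_1 D22265 (iv D20236) D20235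
def n22266 : Q := act 5 n20240
theorem D22266 : act 5 n20240 = n22266 := rfl
theorem F42541 : act 0 n22266 = n21013 := d4_1 D22266 F39539 (iv F37679)
theorem F42542 : act 2 n22266 = n20241 := d11_1 D22266 (iv D20241) (iv F37680)
theorem F42543 : act 4 n22266 = n21014 := d14_1 D22266 F39542 F38470 F35849 D20240
def n22267 : Q := act 4 n20243
theorem D22267 : act 4 n20243 = n22267 := rfl
theorem F42544 : act 0 n22267 = n20246 := d3_1 D22267 (iv D20246) (iv F37684)
theorem F42545 : act 2 n22267 = n20244 := d10_1 D22267 (iv D20244) D20243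
def n22268 : Q := act 5 n20244
theorem D22268 : act 5 n20244 = n22268 := rfl
theorem F42546 : act 0 n22268 = n20247 := d4_1 D22268 (iv D20247) (iv F37686)
theorem F42547 : act 1 n22268 = n20250 := d8_1 D22268 (iv D20250) (iv F37687)
theorem F42548 : act 3 n22268 = n21647 := d13_1 D22268 (iv D21647) (iv F37688)
def n22269 : Q := act 4 n20245
theorem D22269 : act 4 n20245 = n22269 := rfl
theorem F42549 : act 0 n22269 = n20298 := d3_1 D22269 (iv D20298) (iv F37689)
theorem F42550 : act 2 n22269 = n20295 := d10_1 D22269 (iv D20295) (iv F37690)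
def n22270 : Q := act 3 n20246
theorem D22270 : act 3 n20246 = n22270 := rfl
def n22271 : Q := act 5 n20246
theorem D22271 : act 5 n20246 = n22271 := rfl
theorem F42551 : act 2 n22271 = n20247 := d11_1 D22271 (iv D20247) (iv F37691)
def n22272 : Q := act 4 n20251
theorem D22272 : act 4 n20251 = n22272 := rfl
theorem F42552 : act 0 n22272 = n20252 := d3_1 D22272 (iv D20252) D20251
theorem F42553 : act 1 n22272 = n22196 := d7_1 D22272 (iv D22196) (iv F37704)
theorem F42554 : act 2 n22272 = n20255 := d10_1 D22272 (iv D20255) (iv F37705)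
theorem F42555 : act 3 n21666 = n22272 := d15_3 (iv F29474) D19411 D21666 F42554 F37712 F34649 (iv F34075) F34076 F29462
def n22273 : Q := act 3 n20252
theorem D22273 : act 3 n20252 = n22273 := rfl
theorem F42556 : act 0 n22273 = n21666 := d2_1 D22273 F42555 F42552
theorem F42557 : act 1 n22273 = n20253 := d6_1 D22273 (iv D20253) (iv F37708)
theorem F42558 : act 4 n22273 = n21674 := d12_2 D20252 D22273 F41138 (iv D20442) F32050
theorem F42559 : act 2 n22273 = n21659 := d15_4 F34486 F32114 (iv F37709) D22273 (iv D21659) F35702 (iv F34482) F34483 (iv F34484)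
def n22274 : Q := act 5 n20252
theorem D22274 : act 5 n20252 = n22274 := rfl
theorem F42560 : act 1 n22274 = n20254 := d8_1 D22274 (iv D20254) (iv F37708)
theorem F42561 : act 2 n22274 = n20256 := d11_1 D22274 (iv D20256) (iv F37709)
theorem F42562 : act 4 n22274 = n22199 := d14_1 D22274 (iv D22199) (iv D20137) (iv F31498) D20252
def n22275 : Q := act 2 n20253
theorem D22275 : act 2 n20253 = n22275 := rfl
def n22276 : Q := act 5 n20253
theorem D22276 : act 5 n20253 = n22276 := rfl
theorem F42563 : act 3 n22276 = n20254 := d13_1 D22276 (iv D20254) D20253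
def n22277 : Q := act 5 n20255
theorem D22277 : act 5 n20255 = n22277 := rfl
theorem F42564 : act 0 n22277 = n20256 := d4_1 D22277 (iv D20256) (iv F37711)
theorem F42565 : act 3 n22277 = n21214 := d13_1 D22277 F40026 (iv F37712)
theorem F42566 : act 4 n22277 = n21212 := d14_1 D22277 F40021 (iv D20136) (iv F31503) D20255
def n22278 : Q := act 1 n20260
theorem D22278 : act 1 n20260 = n22278 := rfl
theorem F42567 : act 2 n22278 = n22069 := d5_2 D20260 D22278 F42102 F36959 (iv F31510)
theorem F42568 : act 4 n22278 = n20261 := d7_2 (iv F37728) D22278 (iv D20261)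
def n22279 : Q := act 0 n20261
theorem D22279 : act 0 n20261 = n22279 := rfl
theorem F42569 : act 1 n22279 = n21204 := d0_2 D20261 D22279 F39989 (iv F37699) F37698
theorem F42570 : act 2 n22279 = n22068 := d1_2 (iv F37729) D22279 (iv D22068)
theorem F42571 : act 5 n22279 = n21654 := d4_2 (iv F37730) D22279 F41095
theorem F42572 : act 3 n21203 = n22279 := d6_0 F42569 (iv D21204) D21203
def n22280 : Q := act 3 n20261
theorem D22280 : act 3 n20261 = n22280 := rfl
theorem F42573 : act 0 n22280 = n21203 := d2_1 D22280 F42572 (iv D22279)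
theorem F42574 : act 1 n22280 = n20262 := d6_1 D22280 (iv D20262) D20261
theorem F42575 : act 5 n22280 = n21655 := d13_2 (iv F37730) D22280 (iv D21655)
theorem F42576 : act 4 n21281 = n22280 := d7_0 F42574 (iv F37734) D21281
def n22281 : Q := act 4 n20263
theorem D22281 : act 4 n20263 = n22281 := rfl
theorem F42577 : act 0 n22281 = n20266 := d3_1 D22281 (iv D20266) (iv F37735)
theorem F42578 : act 1 n22281 = n22184 := d7_1 D22281 F42377 F38429
theorem F42579 : act 2 n22281 = n20264 := d10_1 D22281 (iv D20264) D20263
theorem F42580 : act 3 n22281 = n22183 := d12_1 D22281 (iv D22183) F37375 F35708 (iv F37736)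
def n22282 : Q := act 5 n20264
theorem D22282 : act 5 n20264 = n22282 := rfl
theorem F42581 : act 0 n22282 = n20268 := d4_1 D22282 (iv D20268) (iv F37737)
theorem F42582 : act 1 n22282 = n20281 := d8_1 D22282 (iv D20281) (iv F37738)
theorem F42583 : act 3 n22282 = n20273 := d13_1 D22282 (iv D20273) (iv F37739)
def n22283 : Q := act 3 n20266
theorem D22283 : act 3 n20266 = n22283 := rfl
theorem F42584 : act 0 n22283 = n22183 := d2_1 D22283 (iv F42580) F42577
theorem F42585 : act 4 n22283 = n22182 := d12_2 D20266 D22283 F42373 F39247 (iv D20265)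
theorem F42586 : act 2 n22188 = n22283 := d10_3 F42585 F42372 D22188
def n22284 : Q := act 5 n20266
theorem D22284 : act 5 n20266 = n22284 := rfl
theorem F42587 : act 2 n22284 = n20268 := d11_1 D22284 (iv D20268) (iv F37742)
def n22285 : Q := act 2 n20269
theorem D22285 : act 2 n20269 = n22285 := rfl
theorem F42588 : act 0 n22285 = n20983 := d1_1 D22285 (iv D20983) (iv F37747)
theorem F42589 : act 1 n22285 = n22247 := d5_1 D22285 (iv D22247) F37552 (iv F31529) (iv F37748)
theorem F42590 : act 3 n22285 = n21660 := d9_2 D20269 D22285 F41110 (iv F41124) F41123 (iv D19938) (iv F31536) D20274 F37766 (iv D19405) F29466 D16602 (iv F37448) (iv D19386) (iv F31521)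
theorem F42591 : act 5 n22285 = n20279 := d11_2 (iv F37749) D22285 (iv D20279)
def n22286 : Q := act 4 n20270
theorem D22286 : act 4 n20270 = n22286 := rfl
theorem F42592 : act 0 n22286 = n20293 := d3_1 D22286 (iv D20293) (iv F37750)
theorem F42593 : act 1 n22286 = n20272 := d7_1 D22286 (iv D20272) D20270
theorem F42594 : act 2 n22286 = n20286 := d10_1 D22286 (iv D20286) (iv F37751)
theorem F42595 : act 5 n22286 = n22177 := d14_2 (iv F37752) D22286 (iv D22177) (iv D20101) (iv F31627)
def n22287 : Q := act 4 n20271
theorem D22287 : act 4 n20271 = n22287 := rfl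
theorem F42596 : act 0 n22287 = n20276 := d3_1 D22287 (iv D20276) (iv F37754)
theorem F42597 : act 1 n22287 = n20315 := d7_1 D22287 (iv D20315) (iv F37755)
def n22288 : Q := act 3 n20272
theorem D22288 : act 3 n20272 = n22288 := rfl
theorem F42598 : act 0 n22288 = n20277 := d2_1 D22288 (iv D20277) (iv F37757)
def n22289 : Q := act 5 n20272
theorem D22289 : act 5 n20272 = n22289 := rfl
theorem F42599 : act 0 n22289 = n20278 := d4_1 D22289 (iv D20278) (iv F37757)
theorem F42600 : act 1 n22289 = n22177 := d8_1 D22289 (iv F42595) F42593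
theorem F42601 : act 2 n22289 = n20273 := d11_1 D22289 (iv D20273) (iv F37758)
theorem F42602 : act 4 n22289 = n20297 := d14_1 D22289 (iv D20297) (iv D17634) (iv F31531) D20272
def n22290 : Q := act 4 n20275
theorem D22290 : act 4 n20275 = n22290 := rfl
theorem F42603 : act 1 n22290 = n20314 := d7_1 D22290 (iv D20314) (iv F37767)
theorem F42604 : act 2 n22290 = n20276 := d10_1 D22290 (iv D20276) D20275
def n22291 : Q := act 3 n20276
theorem D22291 : act 3 n20276 = n22291 := rfl
theorem F42605 : act 1 n22291 = n20304 := d6_1 D22291 (iv D20304) (iv F37769)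
theorem F42606 : act 4 n22291 = n20277 := d12_2 D20276 D22291 (iv D20277) (iv D17595) D17594
def n22292 : Q := act 5 n20276
theorem D22292 : act 5 n20276 = n22292 := rfl
theorem F42607 : act 1 n22292 = n20303 := d8_1 D22292 F37841 (iv F37769)
theorem F42608 : act 4 n22292 = n20300 := d14_1 D22292 (iv D20300) (iv D17636) (iv F31539) D20276
def n22293 : Q := act 2 n20277
theorem D22293 : act 2 n20277 = n22293 := rfl
theorem F42609 : act 1 n22293 = n22167 := d5_1 D22293 (iv D22167) F37848 (iv D20306) (iv F37770)
theorem F42610 : act 3 n22293 = n22190 := d15_7 F42586 (iv D22283) F37742 F31516 (iv F31541) D20277 D22293 (iv D22190) (iv F42386)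
theorem F42611 : act 5 n22189 = n22293 := d13_0 F42610 (iv D22190) D22189
def n22294 : Q := act 5 n20277
theorem D22294 : act 5 n20277 = n22294 := rfl
theorem F42612 : act 1 n22294 = n20305 := d8_1 D22294 F37846 (iv F37770)
theorem F42613 : act 2 n22294 = n22189 := d11_1 D22294 F42611 (iv D22293)
theorem F42614 : act 3 n22294 = n20278 := d13_1 D22294 (iv D20278) D20277
theorem F42615 : act 4 n22189 = n22294 := d12_0 F42614 F37773 F31642 D20114 D22189
def n22295 : Q := act 1 n20279
theorem D22295 : act 1 n20279 = n22295 := rfl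
theorem F42616 : act 0 n22295 = n21091 := d0_1 D22295 F39752 F34069 (iv F35711) (iv F37774)
theorem F42617 : act 2 n22295 = n20280 := d5_2 D20279 D22295 (iv D20280) (iv D17598) (iv F31544)
theorem F42618 : act 3 n22295 = n21090 := d6_2 F37776 D22295 F39749
theorem F42619 : act 4 n22295 = n20309 := d7_2 (iv F37775) D22295 (iv D20309)
theorem F42620 : act 5 n22295 = n22247 := d8_2 F42591 D22295 (iv F42589)
def n22296 : Q := act 0 n20280
theorem D22296 : act 0 n20280 = n22296 := rfl
theorem F42621 : act 1 n22296 = n20290 := d0_2 D20280 D22296 (iv D20290) (iv D17621) (iv F31546)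
theorem F42622 : act 2 n22296 = n21091 := d1_2 F42617 D22296 (iv F42616)
theorem F42623 : act 3 n22296 = n22243 := d2_2 (iv F37777) D22296 (iv D22243)
theorem F42624 : act 4 n22296 = n20313 := d3_2 (iv F37778) D22296 (iv D20313)
theorem F42625 : act 5 n22296 = n22246 := d4_2 (iv F37779) D22296 F42493
def n22297 : Q := act 4 n20282
theorem D22297 : act 4 n20282 = n22297 := rfl
theorem F42626 : act 0 n22297 = n20283 := d3_1 D22297 (iv D20283) D20282
theorem F42627 : act 2 n22297 = n20285 := d10_1 D22297 (iv D20285) (iv F37782)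
theorem F42628 : act 5 n22297 = n22014 := d14_2 (iv F37783) D22297 F41977 F40917 (iv D21577)
def n22298 : Q := act 3 n20293
theorem D22298 : act 3 n20293 = n22298 := rfl
theorem F42629 : act 1 n22298 = n20294 := d6_1 D22298 (iv D20294) (iv F37816)
theorem F42630 : act 4 n22298 = n20316 := d12_2 D20293 D22298 (iv D20316) (iv D17654) (iv F31629)
theorem F42631 : act 5 n22298 = n22180 := d13_2 (iv F37817) D22298 (iv D22180)
def n22299 : Q := act 2 n20294
theorem D22299 : act 2 n20294 = n22299 := rfl
theorem F42632 : act 0 n22299 = n20306 := d1_1 D22299 (iv D20306) (iv F37818)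
theorem F42633 : act 4 n22299 = n20318 := d10_2 (iv F37819) D22299 (iv D20318)
theorem F42634 : act 5 n22299 = n22134 := d11_2 (iv F37820) D22299 F42259
theorem F42635 : act 3 n22299 = n22126 := d15_1 D22299 (iv D22126) (iv D20030) F30869 (iv F25117) (iv F31649) D20305 F37846 (iv F37818)
def n22300 : Q := act 3 n20295
theorem D22300 : act 3 n20295 = n22300 := rfl
theorem F42636 : act 0 n22300 = n20299 := d2_1 D22300 (iv D20299) (iv F37821)
theorem F42637 : act 1 n22300 = n22176 := d6_1 D22300 F42362 F41306
theorem F42638 : act 4 n22300 = n20296 := d12_2 D20295 D22300 (iv D20296) (iv D17634) D17633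
def n22301 : Q := act 5 n20295
theorem D22301 : act 5 n20295 = n22301 := rfl
theorem F42639 : act 0 n22301 = n20300 := d4_1 D22301 (iv D20300) (iv F37821)
def n22302 : Q := act 2 n20296
theorem D22302 : act 2 n20296 = n22302 := rfl
theorem F42640 : act 0 n22302 = n20301 := d1_1 D22302 (iv D20301) (iv F37822)
theorem F42641 : act 5 n22302 = n22182 := d11_2 F37824 D22302 F42372
def n22303 : Q := act 3 n20298
theorem D22303 : act 3 n20298 = n22303 := rfl
def n22304 : Q := act 5 n20298
theorem D22304 : act 5 n20298 = n22304 := rfl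
theorem F42642 : act 2 n22304 = n20300 := d11_1 D22304 (iv D20300) (iv F37829)
def n22305 : Q := act 2 n20299
theorem D22305 : act 2 n20299 = n22305 := rfl
theorem F42643 : act 1 n22305 = n22186 := d5_1 D22305 F42382 F37383 F31645 (iv F37830)
theorem F42644 : act 4 n22305 = n20301 := d10_2 (iv F37831) D22305 (iv D20301)
def n22306 : Q := act 5 n20299
theorem D22306 : act 5 n20299 = n22306 := rfl
theorem F42645 : act 1 n22306 = n20302 := d8_1 D22306 (iv D20302) (iv F37830)
theorem F42646 : act 3 n22306 = n20300 := d13_1 D22306 (iv D20300) D20299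
theorem F42647 : act 4 n22306 = n22190 := d14_1 D22306 (iv D22190) (iv D20114) F31639 (iv F37831)
def n22307 : Q := act 3 n20303
theorem D22307 : act 3 n20303 = n22307 := rfl
theorem F42648 : act 0 n22307 = n20319 := d2_1 D22307 F37867 (iv F37839)
theorem F42649 : act 2 n22307 = n22136 := d9_1 D22307 (iv D22136) (iv D20039) (iv D17284) F24348 (iv F19406) (iv F25129) D17655 D20318 F37864 F37343 F31028 (iv F30858) (iv F31659) (iv F37840)
theorem F42650 : act 4 n22307 = n22167 := d12_2 D20303 D22307 F42338 (iv F37838) F37837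
theorem F42651 : act 5 n22307 = n20304 := d13_2 (iv F37841) D22307 (iv D20304)
def n22308 : Q := act 2 n20304
theorem D22308 : act 2 n20304 = n22308 := rfl
theorem F42652 : act 0 n22308 = n20318 := d1_1 D22308 (iv D20318) (iv F37842)
theorem F42653 : act 3 n22308 = n22135 := d9_2 D20304 D22308 F42261 F37227 F30891 (iv F25130) (iv F31661) (iv F37867) F37866 (iv D20089) F31026 F24483 (iv F24318) (iv F25128) (iv F31647)
theorem F42654 : act 4 n22308 = n20306 := d10_2 (iv F37843) D22308 (iv D20306)
theorem F42655 : act 5 n22308 = n22136 := d11_2 F42651 D22308 (iv F42649)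
theorem F42656 : act 1 n22136 = n22308 := d7_3 F42654 (iv F37848) (iv F42265)
def n22309 : Q := act 2 n20305
theorem D22309 : act 2 n20305 = n22309 := rfl
theorem F42657 : act 0 n22309 = n22134 := d1_1 D22309 F42259 (iv F37844)
theorem F42658 : act 1 n22309 = n22163 := d5_1 D22309 F42330 (iv F42387) (iv F42613) F42612
theorem F42659 : act 3 n22309 = n22121 := d9_2 D20305 D22309 F42228 F37169 F30835 (iv F25099) (iv F31631) D20294 D22299 F42635 (iv D22126) (iv D20030) F30869 (iv F25117) (iv F31649)
theorem F42660 : act 4 n22309 = n22163 := d10_2 (iv F37845) D22309 F42330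
theorem F42661 : act 5 n22309 = n20306 := d11_2 (iv F37846) D22309 (iv D20306)
def n22310 : Q := act 5 n20307
theorem D22310 : act 5 n20307 = n22310 := rfl
theorem F42662 : act 0 n22310 = n20311 := d4_1 D22310 (iv D20311) (iv F37849)
theorem F42663 : act 1 n22310 = n21662 := d8_1 D22310 (iv D21662) (iv F37850)
theorem F42664 : act 2 n22310 = n20308 := d11_1 D22310 (iv D20308) D20307
theorem F42665 : act 3 n22310 = n21661 := d13_1 D22310 (iv D21661) (iv F37852)
def n22311 : Q := act 4 n20308
theorem D22311 : act 4 n20308 = n22311 := rfl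
theorem F42666 : act 0 n22311 = n20312 := d3_1 D22311 (iv D20312) (iv F37853)
theorem F42667 : act 1 n22311 = n20985 := d7_1 D22311 (iv F39927) F39925
theorem F42668 : act 5 n22311 = n20984 := d14_2 D20308 D22311 (iv D20984) (iv F37765) F37764
def n22312 : Q := act 5 n20310
theorem D22312 : act 5 n20310 = n22312 := rfl
theorem F42669 : act 0 n22312 = n21661 := d4_1 D22312 (iv D21661) (iv F37856)
theorem F42670 : act 3 n22312 = n20311 := d13_1 D22312 (iv D20311) D20310
def n22313 : Q := act 4 n20311
theorem D22313 : act 4 n20311 = n22313 := rfl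
theorem F42671 : act 1 n22313 = n21052 := d7_1 D22313 F39651 F38507
theorem F42672 : act 2 n22313 = n20312 := d10_1 D22313 (iv D20312) (iv F37858)
def n22314 : Q := act 3 n20314
theorem D22314 : act 3 n20314 = n22314 := rfl
theorem F42673 : act 2 n22314 = n22256 := d15_2 (iv F37860) D22314 (iv D22256) (iv D20213) (iv D17515) F24884 D16677 D19481 F35908
def n22315 : Q := act 3 n20315
theorem D22315 : act 3 n20315 = n22315 := rfl
theorem F42674 : act 0 n22315 = n20316 := d2_1 D22315 (iv D20316) (iv F37861)
def n22316 : Q := act 5 n20315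
theorem D22316 : act 5 n20315 = n22316 := rfl
theorem F42675 : act 0 n22316 = n20317 := d4_1 D22316 (iv D20317) (iv F37861)
def n22317 : Q := act 2 n20316
theorem D22317 : act 2 n20316 = n22317 := rfl
def n22318 : Q := act 5 n20316
theorem D22318 : act 5 n20316 = n22318 := rfl
theorem F42676 : act 1 n22318 = n20319 := d8_1 D22318 (iv D20319) (iv F37862)
theorem F42677 : act 3 n22318 = n20317 := d13_1 D22318 (iv D20317) D20316
def n22319 : Q := act 1 n20318
theorem D22319 : act 1 n20318 = n22319 := rfl
theorem F42678 : act 0 n22319 = n21038 := d0_1 D22319 F39612 (iv F42264) F42656 F42652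
theorem F42679 : act 3 n22319 = n21035 := d6_2 (iv F37864) D22319 F39606
theorem F42680 : act 5 n22319 = n21038 := d8_2 F37865 D22319 F39612
def n22320 : Q := act 4 n20319
theorem D22320 : act 4 n20319 = n22320 := rfl
theorem F42681 : act 0 n22320 = n22167 := d3_1 D22320 (iv F42650) F42648
theorem F42682 : act 2 n22320 = n22148 := d10_1 D22320 F42298 (iv F37866)
theorem F42683 : act 3 n22320 = n22162 := d12_1 D22320 F42327 F37370 F36034 (iv F37867)
theorem F42684 : act 5 n22320 = n22166 := d14_2 D20319 D22320 F42336 (iv F37820) F37819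
def n22321 : Q := act 3 n20320
theorem D22321 : act 3 n20320 = n22321 := rfl
theorem F42685 : act 0 n22321 = n20323 := d2_1 D22321 (iv D20323) (iv F37868)
theorem F42686 : act 1 n22321 = n21446 := d6_1 D22321 (iv F40819) F40817
theorem F42687 : act 2 n22321 = n22213 := d9_1 D22321 (iv D22213) F37507 F31242 (iv F25137) F25138 (iv F28774) D19124 D21429 F40549 (iv D20166) (iv D17451) (iv F25132) D17657 D20320
theorem F42688 : act 5 n22321 = n21428 := d13_2 (iv F37869) D22321 (iv D21428)
def n22322 : Q := act 4 n20320
theorem D22322 : act 4 n20320 = n22322 := rfl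
theorem F42689 : act 0 n22322 = n20324 := d3_1 D22322 (iv D20324) (iv F37868)
theorem F42690 : act 2 n22322 = n20321 := d10_1 D22322 (iv D20321) D20320
def n22323 : Q := act 5 n20321
theorem D22323 : act 5 n20321 = n22323 := rfl
theorem F42691 : act 0 n22323 = n20325 := d4_1 D22323 (iv D20325) (iv F37870)
theorem F42692 : act 1 n22323 = n21426 := d8_1 D22323 (iv D21426) (iv F37871)
theorem F42693 : act 3 n22323 = n22219 := d13_1 D22323 (iv D22219) (iv F37872)
theorem F42694 : act 4 n22323 = n21439 := d14_1 D22323 (iv D21439) (iv D19132) F31664 D20321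
def n22324 : Q := act 3 n20322
theorem D22324 : act 3 n20322 = n22324 := rfl
theorem F42695 : act 0 n22324 = n20326 := d2_1 D22324 (iv D20326) (iv F37873)
theorem F42696 : act 1 n22324 = n21427 := d6_1 D22324 (iv D21427) (iv F37874)
theorem F42697 : act 4 n22324 = n21438 := d12_2 D20322 D22324 (iv D21438) (iv D19132) (iv F31668)
theorem F42698 : act 5 n22324 = n22220 := d13_2 (iv F37876) D22324 (iv D22220)
def n22325 : Q := act 2 n20323
theorem D22325 : act 2 n20323 = n22325 := rfl
theorem F42699 : act 0 n22325 = n22213 := d1_1 D22325 (iv F42687) F42685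
theorem F42700 : act 1 n22325 = n21443 := d5_1 D22325 (iv D21443) F35113 (iv F35090) (iv F37877)
theorem F42701 : act 3 n22325 = n22212 := d9_2 D20323 D22325 F42442 F37513 (iv F31667) F31668 (iv F35085) D21428 F40547 (iv D20169) (iv D17453) (iv D14398) (iv F19407) D14608 D17659
theorem F42702 : act 5 n22325 = n21429 := d11_2 (iv F37878) D22325 (iv D21429)
def n22326 : Q := act 4 n20323
theorem D22326 : act 4 n20323 = n22326 := rfl
theorem F42703 : act 1 n22326 = n21435 := d7_1 D22326 (iv D21435) (iv F37877)
def n22327 : Q := act 3 n20324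
theorem D22327 : act 3 n20324 = n22327 := rfl
theorem F42704 : act 1 n22327 = n21437 := d6_1 D22327 (iv D21437) (iv F37879)
def n22328 : Q := act 5 n20324
theorem D22328 : act 5 n20324 = n22328 := rfl
theorem F42705 : act 1 n22328 = n21436 := d8_1 D22328 F40564 (iv F37879)
theorem F42706 : act 2 n22328 = n20325 := d11_1 D22328 (iv D20325) (iv F37880)
theorem F42707 : act 4 n22328 = n21432 := d14_1 D22328 (iv D21432) (iv D19125) (iv F31670) D20324
def n22329 : Q := act 2 n20326
theorem D22329 : act 2 n20326 = n22329 := rfl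
theorem F42708 : act 4 n22329 = n21440 := d10_2 (iv F37885) D22329 (iv D21440)
theorem F42709 : act 5 n22329 = n22224 := d11_2 (iv F37886) D22329 (iv D22224)
def n22330 : Q := act 3 n20328
theorem D22330 : act 3 n20328 = n22330 := rfl
theorem F42710 : act 0 n22330 = n20330 := d2_1 D22330 (iv D20330) (iv F37891)
theorem F42711 : act 1 n22330 = n21289 := d6_1 D22330 F40738 F40735
theorem F42712 : act 2 n22330 = n22215 := d9_1 D22330 F42447 F37510 F31241 (iv F25163) F25164 (iv F28441) D18953 D21270 F40175 (iv D20159) (iv D17445) (iv F25158) D17669 D20328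
theorem F42713 : act 5 n22330 = n21269 := d13_2 (iv F37892) D22330 (iv D21269)
def n22331 : Q := act 2 n20330
theorem D22331 : act 2 n20330 = n22331 := rfl
theorem F42714 : act 0 n22331 = n22215 := d1_1 D22331 (iv F42712) F42710
theorem F42715 : act 1 n22331 = n21284 := d5_1 D22331 (iv D21284) F34763 (iv F34734) (iv F37896)
theorem F42716 : act 3 n22331 = n22210 := d9_2 D20330 D22331 F42439 F37506 (iv F31704) F31705 (iv F34728) D21269 F40173 (iv D20162) (iv D17447) (iv D14393) (iv F19433) D14617 D17671
theorem F42717 : act 5 n22331 = n21270 := d11_2 (iv F37897) D22331 (iv D21270)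
def n22332 : Q := act 4 n20330
theorem D22332 : act 4 n20330 = n22332 := rfl
theorem F42718 : act 1 n22332 = n21275 := d7_1 D22332 (iv D21275) (iv F37896)
def n22333 : Q := act 3 n20331
theorem D22333 : act 3 n20331 = n22333 := rfl
theorem F42719 : act 1 n22333 = n21276 := d6_1 D22333 (iv D21276) (iv F37898)
def n22334 : Q := act 4 n20342
theorem D22334 : act 4 n20342 = n22334 := rfl
theorem F42720 : act 0 n22334 = n21416 := d3_1 D22334 (iv D21416) F37934
theorem F42721 : act 1 n22334 = n20343 := d7_1 D22334 (iv D20343) D20342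
theorem F42722 : act 2 n22334 = n20345 := d10_1 D22334 (iv D20345) (iv F37931)
def n22335 : Q := act 3 n20343
theorem D22335 : act 3 n20343 = n22335 := rfl
theorem F42723 : act 0 n22335 = n22234 := d2_1 D22335 (iv D22234) (iv F37935)
theorem F42724 : act 4 n22335 = n22226 := d12_2 D20343 D22335 (iv D22226) (iv D20174) (iv F31766)
def n22336 : Q := act 5 n20343
theorem D22336 : act 5 n20343 = n22336 := rfl
theorem F42725 : act 0 n22336 = n22235 := d4_1 D22336 (iv D22235) (iv F37935)
theorem F42726 : act 2 n22336 = n20344 := d11_1 D22336 (iv D20344) (iv F37936)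
def n22337 : Q := act 5 n20345
theorem D22337 : act 5 n20345 = n22337 := rfl
theorem F42727 : act 0 n22337 = n21417 := d4_1 D22337 (iv D21417) (iv F37939)
theorem F42728 : act 1 n22337 = n20347 := d8_1 D22337 (iv D20347) (iv F37940)
theorem F42729 : act 4 n22337 = n21552 := d14_1 D22337 (iv D21552) (iv D19255) (iv F31771) D20345
def n22338 : Q := act 5 n20346
theorem D22338 : act 5 n20346 = n22338 := rfl
theorem F42730 : act 0 n22338 = n21242 := d4_1 D22338 (iv D21242) (iv F37941)
theorem F42731 : act 2 n22338 = n21383 := d11_1 D22338 (iv D21383) F37943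
theorem F42732 : act 3 n22338 = n20347 := d13_1 D22338 (iv D20347) D20346
theorem F42733 : act 4 n22338 = n21395 := d14_1 D22338 (iv D21395) (iv D19075) (iv F34657) (iv F37942)
def n22339 : Q := act 2 n20350
theorem D22339 : act 2 n20350 = n22339 := rfl
theorem F42734 : act 0 n22339 = n20363 := d1_1 D22339 F37986 (iv F37954)
theorem F42735 : act 3 n22339 = n20356 := d9_2 D20350 D22339 F37971 F31805 F25290 D15904 D18795 (iv F34238) (iv F34239) (iv D17713) (iv D14668) (iv D11615) (iv F19483) D14647 D17701
theorem F42736 : act 5 n22339 = n20355 := d11_2 F38805 D22339 (iv F38804)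
def n22340 : Q := act 0 n20354
theorem D22340 : act 0 n20354 = n22340 := rfl
theorem F42737 : act 1 n22340 = n20362 := d0_2 D20354 D22340 (iv D20362) (iv D17712) (iv F31802)
theorem F42738 : act 2 n22340 = n20371 := d1_2 (iv F37968) D22340 (iv D20371)
theorem F42739 : act 5 n20400 = n22340 := d11_0 F42738 (iv F38013) (iv F38083)
def n22341 : Q := act 3 n20354
theorem D22341 : act 3 n20354 = n22341 := rfl
theorem F42740 : act 1 n22341 = n20355 := d6_1 D22341 (iv D20355) D20354
theorem F42741 : act 4 n22341 = n20663 := d12_2 F40891 D22341 (iv D20663) D20664 (iv F40890)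
def n22342 : Q := act 5 n20354
theorem D22342 : act 5 n20354 = n22342 := rfl
theorem F42742 : act 0 n22342 = n20400 := d4_1 D22342 F42739 (iv D22340)
theorem F42743 : act 1 n22342 = n20356 := d8_1 D22342 (iv D20356) D20354
theorem F42744 : act 2 n22342 = n20373 := d11_1 D22342 (iv D20373) (iv F37968)
def n22343 : Q := act 4 n20356
theorem D22343 : act 4 n20356 = n22343 := rfl
theorem F42745 : act 0 n22343 = n20364 := d3_1 D22343 (iv D20364) (iv F37970)
theorem F42746 : act 2 n22343 = n20357 := d10_1 D22343 (iv D20357) (iv F37971)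
def n22344 : Q := act 0 n20358
theorem D22344 : act 0 n20358 = n22344 := rfl
theorem F42747 : act 2 n22344 = n20369 := d1_2 (iv F37975) D22344 (iv D20369)
theorem F42748 : act 3 n22344 = n20527 := d2_2 F41827 D22344 (iv F41824)
theorem F42749 : act 4 n22344 = n20362 := d3_2 (iv F37976) D22344 (iv D20362)
theorem F42750 : act 5 n22344 = n20537 := d4_2 F37977 D22344 F38388
def n22345 : Q := act 5 n20359
theorem D22345 : act 5 n20359 = n22345 := rfl
theorem F42751 : act 0 n22345 = n20614 := d4_1 D22345 F39344 F39340
theorem F42752 : act 1 n22345 = n20538 := d8_1 D22345 F41828 F41825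
theorem F42753 : act 2 n22345 = n20611 := d11_1 D22345 (iv F39335) F39333
theorem F42754 : act 3 n22345 = n20360 := d13_1 D22345 (iv D20360) D20359
def n22346 : Q := act 4 n20360
theorem D22346 : act 4 n20360 = n22346 := rfl
theorem F42755 : act 1 n22346 = n20407 := d7_1 D22346 F38096 (iv F37978)
theorem F42756 : act 2 n22346 = n20361 := d10_1 D22346 (iv D20361) (iv F37979)
theorem F42757 : act 5 n22346 = n20364 := d14_2 D20360 D22346 (iv D20364) (iv D17714) (iv F31806)
def n22347 : Q := act 3 n20364
theorem D22347 : act 3 n20364 = n22347 := rfl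
theorem F42758 : act 1 n22347 = n20406 := d6_1 D22347 (iv D20406) (iv F37988)
def n22348 : Q := act 2 n20365
theorem D22348 : act 2 n20365 = n22348 := rfl
theorem F42759 : act 0 n22348 = n21162 := d1_1 D22348 F39883 (iv F37990)
theorem F42760 : act 1 n22348 = n20575 := d5_1 D22348 (iv D20575) F32337 (iv F31830) (iv F37991)
theorem F42761 : act 4 n22348 = n20366 := d10_2 (iv F37992) D22348 (iv D20366)
theorem F42762 : act 5 n22348 = n20426 := d11_2 (iv F37993) D22348 F38154
def n22349 : Q := act 0 n20367
theorem D22349 : act 0 n20367 = n22349 := rfl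
theorem F42763 : act 1 n22349 = n21159 := d0_2 D20367 D22349 (iv D21159) (iv D18763) (iv F31817)
theorem F42764 : act 2 n22349 = n20370 := d1_2 (iv F37998) D22349 (iv D20370)
theorem F42765 : act 4 n22349 = n20425 := d3_2 (iv F37999) D22349 (iv D20425)
theorem F42766 : act 5 n22349 = n20898 := d4_2 (iv F38000) D22349 F39250
def n22350 : Q := act 3 n20371
theorem D22350 : act 3 n20371 = n22350 := rfl
theorem F42767 : act 0 n22350 = n20372 := d2_1 D22350 (iv D20372) D20371
theorem F42768 : act 1 n22350 = n20381 := d6_1 D22350 (iv D20381) (iv F38012)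
theorem F42769 : act 5 n22350 = n20394 := d13_2 F38013 D22350 F38073
def n22351 : Q := act 4 n20372
theorem D22351 : act 4 n20372 = n22351 := rfl
theorem F42770 : act 1 n22351 = n20374 := d7_1 D22351 (iv D20374) (iv F38014)
def n22352 : Q := act 4 n20373
theorem D22352 : act 4 n20373 = n22352 := rfl
theorem F42771 : act 0 n22352 = n20847 := d3_1 D22352 (iv D20847) (iv F38016)
theorem F42772 : act 1 n22352 = n20375 := d7_1 D22352 (iv D20375) (iv F38017)
def n22353 : Q := act 3 n20376
theorem D22353 : act 3 n20376 = n22353 := rfl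
theorem F42773 : act 0 n22353 = n20377 := d2_1 D22353 (iv D20377) D20376
def n22354 : Q := act 5 n20376
theorem D22354 : act 5 n20376 = n22354 := rfl
theorem F42774 : act 0 n22354 = n20378 := d4_1 D22354 (iv D20378) D20376
theorem F42775 : act 2 n22354 = n20387 := d11_1 D22354 (iv D20387) (iv F38023)
theorem F42776 : act 4 n22354 = n20572 := d14_1 D22354 F38467 (iv D18350) (iv F31851) (iv F38024)
def n22355 : Q := act 2 n20377
theorem D22355 : act 2 n20377 = n22355 := rfl
def n22356 : Q := act 4 n20377
theorem D22356 : act 4 n20377 = n22356 := rfl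
theorem F42777 : act 1 n22356 = n20379 := d7_1 D22356 (iv D20379) (iv F38025)
theorem F42778 : act 3 n22356 = n20382 := d12_1 D22356 (iv D20382) (iv D17732) (iv F31845) D20377
def n22357 : Q := act 4 n20381
theorem D22357 : act 4 n20381 = n22357 := rfl
theorem F42779 : act 0 n22357 = n20382 := d3_1 D22357 (iv D20382) (iv F38034)
theorem F42780 : act 2 n22357 = n20837 := d10_1 D22357 (iv D20837) (iv F38035)
def n22358 : Q := act 5 n20382
theorem D22358 : act 5 n20382 = n22358 := rfl
theorem F42781 : act 1 n22358 = n20384 := d8_1 D22358 (iv D20384) (iv F38037)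
theorem F42782 : act 4 n22358 = n20851 := d14_1 D22358 (iv D20851) (iv D18351) (iv F31853) D20382
def n22359 : Q := act 3 n20388
theorem D22359 : act 3 n20388 = n22359 := rfl
theorem F42783 : act 1 n22359 = n20488 := d6_1 D22359 F38295 (iv F38053)
theorem F42784 : act 4 n22359 = n21820 := d12_2 (iv F38054) D22359 F41510 F36321 (iv F32333)
theorem F42785 : act 5 n22359 = n20485 := d13_2 (iv F38055) D22359 (iv D20485)
def n22360 : Q := act 2 n20391
theorem D22360 : act 2 n20391 = n22360 := rfl
theorem F42786 : act 0 n22360 = n20392 := d1_1 D22360 (iv D20392) (iv F38065)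
theorem F42787 : act 3 n22360 = n20590 := d9_2 D20391 D22360 (iv D20590) (iv D17987) (iv F28946) F28947 (iv F31874) F31875 (iv F32352) D20583 (iv F38491) (iv F38506) F38505 (iv D18782) (iv F31877)
theorem F42788 : act 5 n22360 = n20582 := d11_2 (iv F38067) D22360 F38487
theorem F42789 : act 1 n22312 = n22360 := d8_3 F42788 F38486 D22312
def n22361 : Q := act 3 n20392
theorem D22361 : act 3 n20392 = n22361 := rfl
theorem F42790 : act 0 n22361 = n20590 := d2_1 D22361 (iv F42787) F42786
theorem F42791 : act 1 n22361 = n20585 := d6_1 D22361 F38496 (iv F38068)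
theorem F42792 : act 2 n22361 = n20588 := d9_1 D22361 (iv D20588) (iv F35211) F35212 (iv F38062) F38063 (iv F38487) (iv F38488) F37855 (iv F32377) F32376 (iv D15893) (iv F25366) D17743 D20392
theorem F42793 : act 5 n22361 = n20583 := d13_2 (iv F38069) D22361 (iv D20583)
def n22362 : Q := act 4 n20394
theorem D22362 : act 4 n20394 = n22362 := rfl
theorem F42794 : act 0 n22362 = n20395 := d3_1 D22362 (iv D20395) D20394
theorem F42795 : act 1 n22362 = n20848 := d7_1 D22362 (iv D20848) (iv F38072)
def n22363 : Q := act 3 n20397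
theorem D22363 : act 3 n20397 = n22363 := rfl
theorem F42796 : act 0 n22363 = n20398 := d2_1 D22363 (iv D20398) (iv F38076)
theorem F42797 : act 5 n22363 = n20685 := d13_2 (iv F38078) D22363 (iv D20685)
def n22364 : Q := act 2 n20398
theorem D22364 : act 2 n20398 = n22364 := rfl
theorem F42798 : act 5 n22364 = n20688 := d11_2 (iv F38080) D22364 (iv D20688)
def n22365 : Q := act 1 n20399
theorem D22365 : act 1 n20399 = n22365 := rfl
theorem F42799 : act 0 n22365 = n22258 := d0_1 D22365 F42514 (iv F41424) F41425 F38997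
theorem F42800 : act 3 n22365 = n20991 := d6_2 (iv F38082) D22365 (iv D20991)
theorem F42801 : act 5 n22365 = n20834 := d8_2 (iv F38081) D22365 (iv D20834)
def n22366 : Q := act 3 n20400
theorem D22366 : act 3 n20400 = n22366 := rfl
theorem F42802 : act 1 n22366 = n20401 := d6_1 D22366 (iv D20401) D20400
def n22367 : Q := act 4 n20400
theorem D22367 : act 4 n20400 = n22367 := rfl
theorem F42803 : act 1 n22367 = n20402 := d7_1 D22367 (iv D20402) D20400
theorem F42804 : act 2 n22367 = n20847 := d10_1 D22367 (iv D20847) (iv F38083)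
def n22368 : Q := act 4 n20401
theorem D22368 : act 4 n20401 = n22368 := rfl
theorem F42805 : act 0 n22368 = n20405 := d3_1 D22368 (iv D20405) (iv F38084)
def n22369 : Q := act 3 n20402
theorem D22369 : act 3 n20402 = n22369 := rfl
theorem F42806 : act 0 n22369 = n20406 := d2_1 D22369 (iv D20406) (iv F38085)
def n22370 : Q := act 5 n20402
theorem D22370 : act 5 n20402 = n22370 := rfl
theorem F42807 : act 0 n22370 = n20407 := d4_1 D22370 (iv D20407) (iv F38085)
theorem F42808 : act 2 n22370 = n20403 := d11_1 D22370 (iv D20403) (iv F38086)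
theorem F42809 : act 4 n22370 = n20537 := d14_1 D22370 (iv F42750) F42749 F37984 D20402
def n22371 : Q := act 2 n20404
theorem D22371 : act 2 n20404 = n22371 := rfl
theorem F42810 : act 0 n22371 = n20408 := d1_1 D22371 (iv D20408) (iv F38091)
theorem F42811 : act 4 n22371 = n20514 := d10_2 (iv F38093) D22371 F38355
theorem F42812 : act 5 n22371 = n20525 := d11_2 (iv F38094) D22371 F38368
def n22372 : Q := act 3 n20405
theorem D22372 : act 3 n20405 = n22372 := rfl
theorem F42813 : act 4 n22372 = n20406 := d12_2 D20405 D22372 (iv D20406) (iv D17757) D17756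
def n22373 : Q := act 2 n20406
theorem D22373 : act 2 n20406 = n22373 := rfl
def n22374 : Q := act 5 n20406
theorem D22374 : act 5 n20406 = n22374 := rfl
theorem F42814 : act 3 n22374 = n20407 := d13_1 D22374 (iv D20407) D20406
def n22375 : Q := act 3 n20408
theorem D22375 : act 3 n20408 = n22375 := rfl
theorem F42815 : act 1 n22375 = n20522 := d6_1 D22375 (iv D20522) (iv F38097)
theorem F42816 : act 5 n22375 = n20531 := d13_2 (iv F38099) D22375 (iv D20531)
def n22376 : Q := act 4 n20411
theorem D22376 : act 4 n20411 = n22376 := rfl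
theorem F42817 : act 0 n22376 = n20832 := d3_1 D22376 (iv F41883) F41880
theorem F42818 : act 1 n22376 = n21781 := d7_1 D22376 F41416 (iv F38106)
theorem F42819 : act 2 n22376 = n21039 := d10_1 D22376 F39615 (iv F38107)
theorem F42820 : act 3 n22376 = n20807 := d12_1 D22376 F39061 F33186 (iv F31909) (iv F38108)
theorem F42821 : act 5 n22376 = n20806 := d14_2 D20411 D22376 F39057 F33188 F33038
def n22377 : Q := act 2 n20417
theorem D22377 : act 2 n20417 = n22377 := rfl
theorem F42822 : act 5 n22377 = n21180 := d11_2 (iv F38134) D22377 (iv D21180)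
def n22378 : Q := act 0 n20419
theorem D22378 : act 0 n20419 = n22378 := rfl
theorem F42823 : act 1 n22378 = n21358 := d0_2 D20419 D22378 (iv F40948) (iv D21584) F35487
theorem F42824 : act 2 n22378 = n21168 := d1_2 (iv F38140) D22378 (iv D21168)
theorem F42825 : act 4 n22378 = n21356 := d3_2 F40755 D22378 (iv F40753)
def n22379 : Q := act 3 n20419
theorem D22379 : act 3 n20419 = n22379 := rfl
theorem F42826 : act 1 n22379 = n20420 := d6_1 D22379 (iv D20420) D20419
theorem F42827 : act 5 n20873 = n22379 := d8_0 F42826 F38143 D20873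
def n22380 : Q := act 5 n20419
theorem D22380 : act 5 n20419 = n22380 := rfl
theorem F42828 : act 1 n22380 = n20421 := d8_1 D22380 (iv D20421) D20419
theorem F42829 : act 2 n22380 = n21170 := d11_1 D22380 (iv D21170) (iv F38140)
theorem F42830 : act 3 n22380 = n20873 := d13_1 D22380 F42827 (iv D22379)
def n22381 : Q := act 4 n20420
theorem D22381 : act 4 n20420 = n22381 := rfl
theorem F42831 : act 0 n22381 = n20881 := d3_1 D22381 (iv D20881) (iv F38141)
theorem F42832 : act 2 n22381 = n20874 := d10_1 D22381 (iv D20874) (iv F38142)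
def n22382 : Q := act 4 n20421
theorem D22382 : act 4 n20421 = n22382 := rfl
theorem F42833 : act 0 n22382 = n20880 := d3_1 D22382 (iv D20880) (iv F38144)
theorem F42834 : act 2 n22382 = n20422 := d10_1 D22382 (iv D20422) (iv F38145)
def n22383 : Q := act 3 n20426
theorem D22383 : act 3 n20426 = n22383 := rfl
def n22384 : Q := act 5 n20433
theorem D22384 : act 5 n20433 = n22384 := rfl
theorem F42835 : act 1 n22384 = n20434 := d8_1 D22384 (iv D20434) (iv F38172)
def n22385 : Q := act 2 n20435
theorem D22385 : act 2 n20435 = n22385 := rfl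
theorem F42836 : act 0 n22385 = n22053 := d1_1 D22385 F42077 F41540
theorem F42837 : act 3 n22385 = n22049 := d9_2 D20435 D22385 (iv D22049) (iv D19920) F30620 F24107 (iv F30080) D19655 D21836 (iv F42080) F42079 F36932 F30626 (iv F25530) (iv F32009)
theorem F42838 : act 5 n22385 = n22064 := d11_2 (iv F38173) D22385 (iv D22064)
def n22386 : Q := act 3 n20441
theorem D22386 : act 3 n20441 = n22386 := rfl
theorem F42839 : act 0 n22386 = n20448 := d2_1 D22386 (iv D20448) (iv F38198)
theorem F42840 : act 4 n22386 = n20457 := d12_2 D20441 D22386 (iv D20457) (iv D17836) (iv F32040)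
def n22387 : Q := act 4 n20443
theorem D22387 : act 4 n20443 = n22387 := rfl
theorem F42841 : act 0 n22387 = n20445 := d3_1 D22387 (iv D20445) (iv F38203)
theorem F42842 : act 1 n22387 = n21899 := d7_1 D22387 F41709 (iv F38204)
theorem F42843 : act 3 n22387 = n21888 := d12_1 D22387 (iv D21888) F36509 (iv F32056) D20443
def n22388 : Q := act 4 n20444
theorem D22388 : act 4 n20444 = n22388 := rfl
theorem F42844 : act 2 n22388 = n20445 := d10_1 D22388 (iv D20445) D20444
def n22389 : Q := act 5 n20445
theorem D22389 : act 5 n20445 = n22389 := rfl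
theorem F42845 : act 1 n22389 = n20446 := d8_1 D22389 (iv D20446) (iv F38205)
theorem F42846 : act 3 n22389 = n21896 := d13_1 D22389 (iv D21896) (iv F38206)
def n22390 : Q := act 4 n20446
theorem D22390 : act 4 n20446 = n22390 := rfl
theorem F42847 : act 0 n22390 = n20458 := d3_1 D22390 (iv F40082) F40081
theorem F42848 : act 2 n22390 = n20454 := d10_1 D22390 (iv F40015) F40013
theorem F42849 : act 5 n22390 = n20447 := d14_2 D20446 D22390 (iv D20447) (iv D17821) D17820
def n22391 : Q := act 3 n20447
theorem D22391 : act 3 n20447 = n22391 := rfl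
theorem F42850 : act 0 n22391 = n20457 := d2_1 D22391 (iv D20457) (iv F38207)
theorem F42851 : act 4 n22391 = n20448 := d12_2 D20447 D22391 (iv D20448) (iv D17822) (iv F32060)
def n22392 : Q := act 3 n20450
theorem D22392 : act 3 n20450 = n22392 := rfl
theorem F42852 : act 0 n22392 = n20887 := d2_1 D22392 (iv D20887) F38215
theorem F42853 : act 1 n22392 = n20451 := d6_1 D22392 (iv D20451) D20450
theorem F42854 : act 4 n22392 = n21405 := d12_2 (iv F38213) D22392 F40487 (iv F38192) F38191
theorem F42855 : act 5 n22392 = n20882 := d13_2 (iv F38214) D22392 (iv D20882)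
theorem F42856 : act 2 n22231 = n22392 := d10_3 F42854 F40486 D22231
def n22393 : Q := act 3 n20452
theorem D22393 : act 3 n20452 = n22393 := rfl
theorem F42857 : act 2 n22393 = n20663 := d9_1 D22393 (iv D20663) (iv D18121) (iv D15134) (iv F22540) D16331 D19159 D21463 F40601 (iv D20545) (iv D17934) (iv D14899) (iv F25603) D17833 D20452
def n22394 : Q := act 4 n20452
theorem D22394 : act 4 n20452 = n22394 := rfl
theorem F42858 : act 2 n22394 = n20453 := d10_1 D22394 (iv D20453) D20452
def n22395 : Q := act 5 n20453
theorem D22395 : act 5 n20453 = n22395 := rfl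
theorem F42859 : act 1 n22395 = n20454 := d8_1 D22395 (iv D20454) (iv F38218)
theorem F42860 : act 3 n22395 = n20467 := d13_1 D22395 (iv D20467) (iv F38219)
def n22396 : Q := act 4 n20455
theorem D22396 : act 4 n20455 = n22396 := rfl
theorem F42861 : act 0 n22396 = n20456 := d3_1 D22396 (iv D20456) D20455
def n22397 : Q := act 3 n20456
theorem D22397 : act 3 n20456 = n22397 := rfl
theorem F42862 : act 1 n22397 = n20457 := d6_1 D22397 (iv D20457) (iv F38224)
def n22398 : Q := act 5 n20456
theorem D22398 : act 5 n20456 = n22398 := rfl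
theorem F42863 : act 1 n22398 = n20458 := d8_1 D22398 (iv D20458) (iv F38224)
def n22399 : Q := act 2 n20457
theorem D22399 : act 2 n20457 = n22399 := rfl
def n22400 : Q := act 5 n20457
theorem D22400 : act 5 n20457 = n22400 := rfl
theorem F42864 : act 3 n22400 = n20458 := d13_1 D22400 (iv D20458) D20457
def n22401 : Q := act 3 n20460
theorem D22401 : act 3 n20460 = n22401 := rfl
def n22402 : Q := act 5 n20460
theorem D22402 : act 5 n20460 = n22402 := rfl
theorem F42865 : act 2 n22402 = n20461 := d11_1 D22402 (iv D20461) (iv F38228)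
def n22403 : Q := act 4 n20463
theorem D22403 : act 4 n20463 = n22403 := rfl
theorem F42866 : act 0 n22403 = n20466 := d3_1 D22403 (iv D20466) (iv F38236)
theorem F42867 : act 2 n22403 = n20464 := d10_1 D22403 (iv D20464) D20463
def n22404 : Q := act 4 n20465
theorem D22404 : act 4 n20465 = n22404 := rfl
def n22405 : Q := act 3 n20466
theorem D22405 : act 3 n20466 = n22405 := rfl
def n22406 : Q := act 5 n20466
theorem D22406 : act 5 n20466 = n22406 := rfl
theorem F42868 : act 2 n22406 = n20467 := d11_1 D22406 (iv D20467) (iv F38239)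
def n22407 : Q := act 4 n20469
theorem D22407 : act 4 n20469 = n22407 := rfl
theorem F42869 : act 0 n22407 = n20471 := d3_1 D22407 (iv D20471) D20469
theorem F42870 : act 2 n22407 = n20472 := d10_1 D22407 (iv D20472) (iv F38243)
theorem F42871 : act 5 n22407 = n20849 := d14_2 F39577 D22407 F39584 (iv D21026) (iv F39576)
theorem F42872 : act 3 n20572 = n22407 := d13_3 F42871 (iv D20849) (iv F38467)
def n22408 : Q := act 5 n20473
theorem D22408 : act 5 n20473 = n22408 := rfl
theorem F42873 : act 0 n22408 = n20570 := d4_1 D22408 F38461 F38252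
theorem F42874 : act 1 n22408 = n20476 := d8_1 D22408 (iv D20476) (iv F38250)
theorem F42875 : act 2 n22408 = n20566 := d11_1 D22408 F38458 (iv F38251)
theorem F42876 : act 3 n22408 = n20474 := d13_1 D22408 (iv D20474) D20473
theorem F42877 : act 4 n22408 = n21862 := d14_1 D22408 (iv D21862) (iv F39853) F39854 F39465
def n22409 : Q := act 1 n20475
theorem D22409 : act 1 n20475 = n22409 := rfl
theorem F42878 : act 2 n22409 = n20857 := d5_2 D20475 D22409 F39178 (iv F38251) F38250
def n22410 : Q := act 3 n20475
theorem D22410 : act 3 n20475 = n22410 := rfl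
def n22411 : Q := act 5 n20475
theorem D22411 : act 5 n20475 = n22411 := rfl
theorem F42879 : act 2 n22411 = n20476 := d11_1 D22411 (iv D20476) D20475
theorem F42880 : act 4 n22411 = n20585 := d14_1 D22411 (iv D20585) (iv F34070) D21093 (iv F39759)
def n22412 : Q := act 4 n20476
theorem D22412 : act 4 n20476 = n22412 := rfl
theorem F42881 : act 0 n22412 = n20587 := d3_1 D22412 (iv F39811) F39809
theorem F42882 : act 1 n22412 = n21862 := d7_1 D22412 (iv F42877) F42874
theorem F42883 : act 2 n22412 = n20585 := d10_1 D22412 (iv F42880) F42879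
theorem F42884 : act 3 n22412 = n20586 := d12_1 D22412 F38499 (iv F34582) F34583 (iv F38256)
theorem F42885 : act 5 n22412 = n20584 := d14_2 D20476 D22412 F38493 F34167 F34120
def n22413 : Q := act 0 n20477
theorem D22413 : act 0 n20477 = n22413 := rfl
theorem F42886 : act 1 n22413 = n20484 := d0_2 D20477 D22413 (iv D20484) (iv D17875) (iv F32151)
theorem F42887 : act 2 n22413 = n20493 := d1_2 (iv F38257) D22413 (iv D20493)
theorem F42888 : act 4 n22413 = n20481 := d3_2 (iv F38258) D22413 (iv D20481)
def n22414 : Q := act 3 n20477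
theorem D22414 : act 3 n20477 = n22414 := rfl
theorem F42889 : act 1 n22414 = n20478 := d6_1 D22414 (iv D20478) D20477
theorem F42890 : act 4 n22414 = n21969 := d12_2 (iv F38258) D22414 F41885 F38277 (iv D20482)
theorem F42891 : act 5 n21156 = n22414 := d8_0 F42889 (iv F38262) D21156
def n22415 : Q := act 5 n20477
theorem D22415 : act 5 n20477 = n22415 := rfl
theorem F42892 : act 1 n22415 = n20479 := d8_1 D22415 (iv D20479) D20477
theorem F42893 : act 2 n22415 = n20495 := d11_1 D22415 (iv D20495) (iv F38257)
theorem F42894 : act 3 n22415 = n21156 := d13_1 D22415 F42891 (iv D22414)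
theorem F42895 : act 4 n22415 = n22265 := d14_1 D22415 (iv D22265) F38283 (iv D20483) (iv F38258)
def n22416 : Q := act 3 n20484
theorem D22416 : act 3 n20484 = n22416 := rfl
theorem F42896 : act 0 n22416 = n20485 := d2_1 D22416 (iv D20485) D20484
def n22417 : Q := act 2 n20485
theorem D22417 : act 2 n20485 = n22417 := rfl
def n22418 : Q := act 4 n20485
theorem D22418 : act 4 n20485 = n22418 := rfl
theorem F42897 : act 1 n22418 = n20487 := d7_1 D22418 (iv D20487) (iv F38286)
theorem F42898 : act 3 n22418 = n20491 := d12_1 D22418 (iv D20491) (iv D17880) (iv F32169) D20485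
theorem F42899 : act 5 n22418 = n21818 := d14_2 F42785 D22418 F41506 D21820 (iv F42784)
def n22419 : Q := act 4 n20489
theorem D22419 : act 4 n20489 = n22419 := rfl
theorem F42900 : act 0 n22419 = n20491 := d3_1 D22419 (iv D20491) (iv F38297)
theorem F42901 : act 1 n22419 = n21752 := d7_1 D22419 F41342 F39534
theorem F42902 : act 2 n22419 = n20567 := d10_1 D22419 (iv D20567) (iv F38298)
theorem F42903 : act 5 n22419 = n21816 := d14_2 (iv F38299) D22419 (iv D21816) F36311 (iv F32325)
def n22420 : Q := act 4 n20490
theorem D22420 : act 4 n20490 = n22420 := rfl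
theorem F42904 : act 0 n22420 = n20567 := d3_1 D22420 (iv D20567) (iv F38300)
theorem F42905 : act 1 n22420 = n22266 := d7_1 D22420 F42543 F39540
theorem F42906 : act 2 n22420 = n20491 := d10_1 D22420 (iv D20491) D20490
theorem F42907 : act 5 n22420 = n21810 := d14_2 (iv F38302) D22420 (iv D21810) F36293 (iv F32330)
def n22421 : Q := act 3 n20493
theorem D22421 : act 3 n20493 = n22421 := rfl
theorem F42908 : act 0 n22421 = n20494 := d2_1 D22421 (iv D20494) D20493
theorem F42909 : act 1 n22421 = n20513 := d6_1 D22421 (iv D20513) (iv F38309)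
def n22422 : Q := act 5 n20493
theorem D22422 : act 5 n20493 = n22422 := rfl
theorem F42910 : act 0 n22422 = n20495 := d4_1 D22422 (iv D20495) D20493
theorem F42911 : act 1 n22422 = n20514 := d8_1 D22422 (iv D20514) (iv F38309)
def n22423 : Q := act 2 n20494
theorem D22423 : act 2 n20494 = n22423 := rfl
def n22424 : Q := act 4 n20494
theorem D22424 : act 4 n20494 = n22424 := rfl
theorem F42912 : act 1 n22424 = n20497 := d7_1 D22424 (iv D20497) (iv F38311)
theorem F42913 : act 3 n22424 = n20502 := d12_1 D22424 (iv D20502) (iv D17893) (iv F32200) D20494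
def n22425 : Q := act 5 n20494
theorem D22425 : act 5 n20494 = n22425 := rfl
theorem F42914 : act 1 n22425 = n20498 := d8_1 D22425 (iv D20498) (iv F38311)
theorem F42915 : act 3 n22425 = n20495 := d13_1 D22425 (iv D20495) D20494
def n22426 : Q := act 4 n20495
theorem D22426 : act 4 n20495 = n22426 := rfl
theorem F42916 : act 1 n22426 = n20499 := d7_1 D22426 (iv D20499) (iv F38312)
theorem F42917 : act 2 n22426 = n22265 := d10_1 D22426 (iv F42895) F42893
theorem F42918 : act 5 n22426 = n20503 := d14_2 D20495 D22426 (iv D20503) (iv D17894) (iv F32200)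
def n22427 : Q := act 1 n20496
theorem D22427 : act 1 n20496 = n22427 := rfl
theorem F42919 : act 3 n22427 = n20512 := d6_2 (iv F38314) D22427 F38352
theorem F42920 : act 5 n22427 = n20511 := d8_2 F38315 D22427 F38351
def n22428 : Q := act 4 n20496
theorem D22428 : act 4 n20496 = n22428 := rfl
theorem F42921 : act 0 n22428 = n20518 := d3_1 D22428 F40242 (iv F38313)
theorem F42922 : act 2 n22428 = n20497 := d10_1 D22428 (iv D20497) D20496
def n22429 : Q := act 5 n20497
theorem D22429 : act 5 n20497 = n22429 := rfl
theorem F42923 : act 0 n22429 = n20520 := d4_1 D22429 (iv D20520) (iv F38316)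
theorem F42924 : act 3 n22429 = n20504 := d13_1 D22429 (iv D20504) (iv F38317)
def n22430 : Q := act 3 n20499
theorem D22430 : act 3 n20499 = n22430 := rfl
theorem F42925 : act 0 n22430 = n20522 := d2_1 D22430 (iv D20522) (iv F38321)
theorem F42926 : act 2 n22430 = n21576 := d9_1 D22430 (iv D21576) F35443 (iv F29286) F28572 F22277 (iv F25738) D17920 D20536 (iv F40388) F40387 F34950 (iv F34869) F34870 (iv F38322)
theorem F42927 : act 5 n22430 = n20505 := d13_2 (iv F38323) D22430 (iv D20505)
def n22431 : Q := act 4 n20500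
theorem D22431 : act 4 n20500 = n22431 := rfl
theorem F42928 : act 0 n22431 = n20502 := d3_1 D22431 (iv D20502) (iv F38324)
theorem F42929 : act 1 n22431 = n20523 := d7_1 D22431 (iv D20523) (iv F38325)
theorem F42930 : act 2 n22431 = n20666 := d10_1 D22431 (iv D20666) (iv F38326)
def n22432 : Q := act 5 n20502
theorem D22432 : act 5 n20502 = n22432 := rfl
theorem F42931 : act 1 n22432 = n20504 := d8_1 D22432 (iv D20504) (iv F38332)
theorem F42932 : act 2 n22432 = n20668 := d11_1 D22432 (iv D20668) (iv F38333)
theorem F42933 : act 4 n22432 = n20550 := d14_1 D22432 (iv D20550) (iv D17939) F32209 D20502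
def n22433 : Q := act 0 n20506
theorem D22433 : act 0 n20506 = n22433 := rfl
theorem F42934 : act 1 n22433 = n20629 := d0_2 D20506 D22433 (iv D20629) (iv D18049) (iv F32216)
theorem F42935 : act 2 n22433 = n20510 := d1_2 (iv F38341) D22433 (iv D20510)
def n22434 : Q := act 3 n20506
theorem D22434 : act 3 n20506 = n22434 := rfl
theorem F42936 : act 1 n22434 = n20507 := d6_1 D22434 (iv D20507) D20506
theorem F42937 : act 2 n21132 = n22434 := d5_0 F42936 F38343 F32417 (iv F34138) (iv F39829)
theorem F42938 : act 5 n20605 = n22434 := d8_0 F42936 F38344 D20605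
def n22435 : Q := act 5 n20506
theorem D22435 : act 5 n20506 = n22435 := rfl
theorem F42939 : act 1 n22435 = n20508 := d8_1 D22435 (iv D20508) D20506
theorem F42940 : act 2 n22435 = n20512 := d11_1 D22435 (iv D20512) (iv F38341)
theorem F42941 : act 3 n22435 = n20605 := d13_1 D22435 F42938 (iv D22434)
def n22436 : Q := act 4 n20507
theorem D22436 : act 4 n20507 = n22436 := rfl
theorem F42942 : act 0 n22436 = n20630 := d3_1 D22436 (iv D20630) (iv F38342)
theorem F42943 : act 2 n22436 = n20606 := d10_1 D22436 (iv D20606) (iv F38343)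
def n22437 : Q := act 4 n20508
theorem D22437 : act 4 n20508 = n22437 := rfl
theorem F42944 : act 0 n22437 = n20631 := d3_1 D22437 (iv D20631) (iv F38345)
theorem F42945 : act 2 n22437 = n20509 := d10_1 D22437 (iv D20509) (iv F38346)
def n22438 : Q := act 3 n20510
theorem D22438 : act 3 n20510 = n22438 := rfl
theorem F42946 : act 0 n22438 = n20511 := d2_1 D22438 (iv D20511) D20510
def n22439 : Q := act 5 n20510
theorem D22439 : act 5 n20510 = n22439 := rfl
theorem F42947 : act 0 n22439 = n20512 := d4_1 D22439 (iv D20512) D20510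
def n22440 : Q := act 2 n20511
theorem D22440 : act 2 n20511 = n22440 := rfl
def n22441 : Q := act 2 n20513
theorem D22441 : act 2 n20513 = n22441 := rfl
theorem F42948 : act 0 n22441 = n20515 := d1_1 D22441 (iv D20515) (iv F38353)
theorem F42949 : act 3 n22441 = n20523 := d15_1 D22441 (iv F41826) F41827 F37975 F31819 (iv F32225) (iv F38359) (iv D20517) (iv F38353)
theorem F42950 : act 4 n20513 = n22441 := d12_0 F42949 (iv D20523) (iv D17910) (iv F32222) D20513
def n22442 : Q := act 5 n20513
theorem D22442 : act 5 n20513 = n22442 := rfl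
theorem F42951 : act 0 n22442 = n20517 := d4_1 D22442 (iv D20517) (iv F38353)
theorem F42952 : act 3 n22442 = n20514 := d13_1 D22442 (iv D20514) D20513
def n22443 : Q := act 5 n20515
theorem D22443 : act 5 n20515 = n22443 := rfl
theorem F42953 : act 1 n22443 = n20520 := d8_1 D22443 (iv D20520) (iv F40244)
theorem F42954 : act 2 n22443 = n20517 := d11_1 D22443 (iv D20517) D20515
theorem F42955 : act 3 n22443 = n20529 := d13_1 D22443 (iv D20529) (iv F40245)
def n22444 : Q := act 4 n20517
theorem D22444 : act 4 n20517 = n22444 := rfl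
theorem F42956 : act 1 n22444 = n20521 := d7_1 D22444 (iv D20521) (iv F38358)
def n22445 : Q := act 4 n20520
theorem D22445 : act 4 n20520 = n22445 := rfl
theorem F42957 : act 5 n22445 = n20521 := d14_2 D20520 D22445 (iv D20521) (iv D17908) D17907
def n22446 : Q := act 3 n20521
theorem D22446 : act 3 n20521 = n22446 := rfl
theorem F42958 : act 4 n22446 = n20522 := d12_2 D20521 D22446 (iv D20522) (iv D17909) (iv F32227)
def n22447 : Q := act 5 n20523
theorem D22447 : act 5 n20523 = n22447 := rfl
theorem F42959 : act 0 n22447 = n20529 := d4_1 D22447 (iv D20529) (iv F38363)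
theorem F42960 : act 2 n22447 = n20538 := d11_1 D22447 F41828 F41826
def n22448 : Q := act 4 n20524
theorem D22448 : act 4 n20524 = n22448 := rfl
theorem F42961 : act 0 n22448 = n20530 := d3_1 D22448 (iv D20530) (iv F38364)
theorem F42962 : act 1 n22448 = n20548 := d7_1 D22448 (iv D20548) (iv F38365)
def n22449 : Q := act 3 n20525
theorem D22449 : act 3 n20525 = n22449 := rfl
theorem F42963 : act 0 n22449 = n20531 := d2_1 D22449 (iv D20531) (iv F38367)
def n22450 : Q := act 4 n20526
theorem D22450 : act 4 n20526 = n22450 := rfl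
theorem F42964 : act 0 n22450 = n20664 := d3_1 D22450 (iv D20664) F38370
theorem F42965 : act 1 n22450 = n20527 := d7_1 D22450 (iv D20527) D20526
theorem F42966 : act 2 n22450 = n20532 := d10_1 D22450 (iv D20532) (iv F38369)
def n22451 : Q := act 5 n20527
theorem D22451 : act 5 n20527 = n22451 := rfl
theorem F42967 : act 0 n22451 = n20538 := d4_1 D22451 F41828 F41824
theorem F42968 : act 2 n22451 = n20529 := d11_1 D22451 (iv D20529) (iv F38372)
theorem F42969 : act 3 n22451 = n20537 := d13_1 D22451 (iv F42750) F42748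
def n22452 : Q := act 4 n20528
theorem D22452 : act 4 n20528 = n22452 := rfl
theorem F42970 : act 1 n22452 = n20546 := d7_1 D22452 (iv D20546) (iv F38373)
theorem F42971 : act 2 n22452 = n20530 := d10_1 D22452 (iv D20530) (iv F38374)
def n22453 : Q := act 4 n20529
theorem D22453 : act 4 n20529 = n22453 := rfl
theorem F42972 : act 1 n22453 = n20534 := d7_1 D22453 (iv D20534) (iv F38375)
theorem F42973 : act 5 n22453 = n20530 := d14_2 D20529 D22453 (iv D20530) (iv D17914) D17913
def n22454 : Q := act 3 n20530
theorem D22454 : act 3 n20530 = n22454 := rfl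
theorem F42974 : act 1 n22454 = n20535 := d6_1 D22454 (iv D20535) (iv F38376)
theorem F42975 : act 4 n22454 = n20531 := d12_2 D20530 D22454 (iv D20531) (iv D17915) (iv F32235)
def n22455 : Q := act 2 n20531
theorem D22455 : act 2 n20531 = n22455 := rfl
def n22456 : Q := act 5 n20532
theorem D22456 : act 5 n20532 = n22456 := rfl
theorem F42976 : act 0 n22456 = n20665 := d4_1 D22456 (iv D20665) (iv F38378)
theorem F42977 : act 1 n22456 = n20533 := d8_1 D22456 (iv D20533) (iv F38379)
theorem F42978 : act 4 n22456 = n20547 := d14_1 D22456 (iv D20547) (iv D17935) (iv F32240) D20532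
def n22457 : Q := act 3 n20534
theorem D22457 : act 3 n20534 = n22457 := rfl
theorem F42979 : act 0 n22457 = n20552 := d2_1 D22457 F38420 (iv F38383)
theorem F42980 : act 5 n22457 = n20535 := d13_2 (iv F38385) D22457 (iv D20535)
def n22458 : Q := act 2 n20535
theorem D22458 : act 2 n20535 = n22458 := rfl
theorem F42981 : act 0 n22458 = n20551 := d1_1 D22458 (iv D20551) (iv F38386)
theorem F42982 : act 4 n22458 = n20536 := d10_2 (iv F38387) D22458 (iv D20536)
def n22459 : Q := act 1 n20536
theorem D22459 : act 1 n20536 = n22459 := rfl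
def n22460 : Q := act 1 n20537
theorem D22460 : act 1 n20537 = n22460 := rfl
def n22461 : Q := act 4 n20538
theorem D22461 : act 4 n20538 = n22461 := rfl
def n22462 : Q := act 3 n20541
theorem D22462 : act 3 n20541 = n22462 := rfl
theorem F42983 : act 1 n22462 = n20624 := d6_1 D22462 F38597 (iv F38397)
theorem F42984 : act 4 n22462 = n21601 := d12_2 (iv F38398) D22462 F40990 F35532 F34137
theorem F42985 : act 5 n22462 = n20622 := d13_2 (iv F38399) D22462 (iv D20622)
def n22463 : Q := act 4 n20545
theorem D22463 : act 4 n20545 = n22463 := rfl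
def n22464 : Q := act 3 n20546
theorem D22464 : act 3 n20546 = n22464 := rfl
def n22465 : Q := act 5 n20546
theorem D22465 : act 5 n20546 = n22465 := rfl
theorem F42986 : act 2 n22465 = n20547 := d11_1 D22465 (iv D20547) (iv F38415)
def n22466 : Q := act 3 n20548
theorem D22466 : act 3 n20548 = n22466 := rfl
theorem F42987 : act 0 n22466 = n20549 := d2_1 D22466 (iv D20549) (iv F38417)
def n22467 : Q := act 5 n20548
theorem D22467 : act 5 n20548 = n22467 := rfl
theorem F42988 : act 0 n22467 = n20550 := d4_1 D22467 (iv D20550) (iv F38417)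
def n22468 : Q := act 5 n20549
theorem D22468 : act 5 n20549 = n22468 := rfl
theorem F42989 : act 1 n22468 = n20552 := d8_1 D22468 (iv D20552) (iv F38418)
theorem F42990 : act 2 n22468 = n21051 := d11_1 D22468 F39906 F39904
theorem F42991 : act 3 n22468 = n20550 := d13_1 D22468 (iv D20550) D20549
def n22469 : Q := act 4 n20552
theorem D22469 : act 4 n20552 = n22469 := rfl
def n22470 : Q := act 4 n20553
theorem D22470 : act 4 n20553 = n22470 := rfl
theorem F42992 : act 0 n22470 = n20658 := d3_1 D22470 (iv D20658) (iv F38421)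
theorem F42993 : act 1 n22470 = n20579 := d7_1 D22470 (iv D20579) (iv F38422)
theorem F42994 : act 2 n22470 = n20656 := d10_1 D22470 (iv D20656) (iv F38424)
def n22471 : Q := act 3 n20554
theorem D22471 : act 3 n20554 = n22471 := rfl
theorem F42995 : act 1 n22471 = n20580 := d6_1 D22471 (iv D20580) (iv F38425)
theorem F42996 : act 5 n22471 = n20889 := d13_2 (iv F38427) D22471 (iv D20889)
def n22472 : Q := act 4 n20557
theorem D22472 : act 4 n20557 = n22472 := rfl
theorem F42997 : act 0 n22472 = n20641 := d3_1 D22472 (iv D20641) (iv F38437)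
theorem F42998 : act 1 n22472 = n20559 := d7_1 D22472 (iv D20559) (iv F38438)
theorem F42999 : act 2 n22472 = n20640 := d10_1 D22472 (iv D20640) (iv F38439)
theorem F43000 : act 3 n22472 = n20896 := d12_1 D22472 (iv D20896) (iv D18422) (iv F32291) D20557
def n22473 : Q := act 4 n20558
theorem D22473 : act 4 n20558 = n22473 := rfl
theorem F43001 : act 0 n22473 = n20648 := d3_1 D22473 (iv D20648) (iv F38441)
theorem F43002 : act 1 n22473 = n22297 := d7_1 D22473 (iv D22297) (iv F38442)
theorem F43003 : act 2 n22473 = n20559 := d10_1 D22473 (iv D20559) D20558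
theorem F43004 : act 3 n22473 = n22297 := d12_1 D22473 (iv D22297) (iv F38643) F38644 (iv F38443)
def n22474 : Q := act 5 n20559
theorem D22474 : act 5 n20559 = n22474 := rfl
theorem F43005 : act 3 n22474 = n20897 := d13_1 D22474 (iv D20897) (iv F38445)
def n22475 : Q := act 5 n20560
theorem D22475 : act 5 n20560 = n22475 := rfl
theorem F43006 : act 0 n22475 = n20562 := d4_1 D22475 (iv D20562) (iv F38446)
theorem F43007 : act 2 n22475 = n20843 := d11_1 D22475 (iv D20843) (iv F38447)
theorem F43008 : act 3 n22475 = n20565 := d13_1 D22475 (iv D20565) (iv F38448)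
theorem F43009 : act 4 n22475 = n20859 := d14_1 D22475 (iv D20859) (iv D18360) (iv F32298) D20560
def n22476 : Q := act 3 n20561
theorem D22476 : act 3 n20561 = n22476 := rfl
theorem F43010 : act 0 n22476 = n20842 := d2_1 D22476 (iv D20842) (iv F38449)
theorem F43011 : act 4 n22476 = n20840 := d12_2 D20561 D22476 (iv D20840) (iv D18341) (iv F32302)
def n22477 : Q := act 5 n20561
theorem D22477 : act 5 n20561 = n22477 := rfl
theorem F43012 : act 0 n22477 = n20843 := d4_1 D22477 (iv D20843) (iv F38449)
theorem F43013 : act 2 n22477 = n20562 := d11_1 D22477 (iv D20562) (iv F38450)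
theorem F43014 : act 4 n22477 = n20861 := d14_1 D22477 (iv D20861) (iv D18362) (iv F32301) D20561
def n22478 : Q := act 4 n20563
theorem D22478 : act 4 n20563 = n22478 := rfl
theorem F43015 : act 1 n22478 = n20564 := d7_1 D22478 (iv D20564) D20563
def n22479 : Q := act 3 n20564
theorem D22479 : act 3 n20564 = n22479 := rfl
theorem F43016 : act 0 n22479 = n20568 := d2_1 D22479 (iv D20568) (iv F38454)
def n22480 : Q := act 5 n20564
theorem D22480 : act 5 n20564 = n22480 := rfl
theorem F43017 : act 0 n22480 = n20569 := d4_1 D22480 (iv D20569) (iv F38454)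
theorem F43018 : act 2 n22480 = n20565 := d11_1 D22480 (iv D20565) (iv F38455)
def n22481 : Q := act 3 n20567
theorem D22481 : act 3 n20567 = n22481 := rfl
theorem F43019 : act 1 n22481 = n21753 := d6_1 D22481 (iv D21753) (iv F38459)
theorem F43020 : act 4 n22481 = n20568 := d12_2 D20567 D22481 (iv D20568) (iv D17958) D17957
theorem F43021 : act 5 n22481 = n21957 := d13_2 F41333 D22481 F41852
def n22482 : Q := act 2 n20568
theorem D22482 : act 2 n20568 = n22482 := rfl
def n22483 : Q := act 5 n20568
theorem D22483 : act 5 n20568 = n22483 := rfl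
theorem F43022 : act 1 n22483 = n22032 := d8_1 D22483 F42021 F39564
theorem F43023 : act 3 n22483 = n20569 := d13_1 D22483 (iv D20569) D20568
theorem F43024 : act 4 n22483 = n22031 := d14_1 D22483 (iv D22031) (iv F41853) (iv F43021) F43020
def n22484 : Q := act 1 n20572
theorem D22484 : act 1 n20572 = n22484 := rfl
theorem F43025 : act 5 n22484 = n20847 := d8_2 (iv F38467) D22484 F39154
def n22485 : Q := act 2 n20574
theorem D22485 : act 2 n20574 = n22485 := rfl
theorem F43026 : act 0 n22485 = n20575 := d1_1 D22485 (iv D20575) (iv F38471)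
theorem F43027 : act 4 n22485 = n20898 := d10_2 (iv F38472) D22485 (iv D20898)
def n22486 : Q := act 3 n20575
theorem D22486 : act 3 n20575 = n22486 := rfl
def n22487 : Q := act 4 n20576
theorem D22487 : act 4 n20576 = n22487 := rfl
theorem F43028 : act 1 n22487 = n20577 := d7_1 D22487 (iv D20577) D20576
def n22488 : Q := act 3 n20577
theorem D22488 : act 3 n20577 = n22488 := rfl
theorem F43029 : act 0 n22488 = n20580 := d2_1 D22488 (iv D20580) (iv F38476)
theorem F43030 : act 4 n22488 = n20643 := d12_2 D20577 D22488 (iv D20643) F32603 (iv F32340)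
def n22489 : Q := act 5 n20577
theorem D22489 : act 5 n20577 = n22489 := rfl
theorem F43031 : act 0 n22489 = n20581 := d4_1 D22489 (iv D20581) (iv F38476)
theorem F43032 : act 2 n22489 = n20578 := d11_1 D22489 (iv D20578) (iv F38477)
theorem F43033 : act 4 n22489 = n20890 := d14_1 D22489 F39242 (iv F38434) F38435 D20577
def n22490 : Q := act 3 n20579
theorem D22490 : act 3 n20579 = n22490 := rfl
theorem F43034 : act 0 n22490 = n20643 := d2_1 D22490 (iv D20643) (iv F38480)
theorem F43035 : act 4 n22490 = n20580 := d12_2 D20579 D22490 (iv D20580) (iv D17974) D17973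
def n22491 : Q := act 2 n20580
theorem D22491 : act 2 n20580 = n22491 := rfl
def n22492 : Q := act 5 n20580
theorem D22492 : act 5 n20580 = n22492 := rfl
theorem F43036 : act 1 n22492 = n20889 := d8_1 D22492 (iv F42996) F42995
theorem F43037 : act 3 n22492 = n20581 := d13_1 D22492 (iv D20581) D20580
def n22493 : Q := act 1 n20592
theorem D22493 : act 1 n20592 = n22493 := rfl
theorem F43038 : act 2 n22493 = n20968 := d5_2 D20592 D22493 (iv D20968) (iv D18513) (iv F32391)
theorem F43039 : act 5 n22493 = n22036 := d8_2 (iv F38515) D22493 (iv D22036)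
def n22494 : Q := act 4 n20592
theorem D22494 : act 4 n20592 = n22494 := rfl
theorem F43040 : act 0 n22494 = n20595 := d3_1 D22494 (iv D20595) (iv F38514)
theorem F43041 : act 2 n22494 = n20593 := d10_1 D22494 (iv D20593) D20592
theorem F43042 : act 5 n22494 = n22081 := d14_2 (iv F38515) D22494 (iv D22081) (iv D19958) (iv F36880)
def n22495 : Q := act 3 n20595
theorem D22495 : act 3 n20595 = n22495 := rfl
theorem F43043 : act 5 n22495 = n22082 := d13_2 (iv F38522) D22495 (iv D22082)
def n22496 : Q := act 3 n20596
theorem D22496 : act 3 n20596 = n22496 := rfl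
theorem F43044 : act 0 n22496 = n20598 := d2_1 D22496 (iv D20598) (iv F38523)
theorem F43045 : act 1 n22496 = n20758 := d6_1 D22496 (iv D20758) (iv F38524)
theorem F43046 : act 4 n22496 = n20598 := d12_2 D20596 D22496 (iv D20598) (iv D17998) (iv F32399)
def n22497 : Q := act 5 n20596
theorem D22497 : act 5 n20596 = n22497 := rfl
theorem F43047 : act 0 n22497 = n20599 := d4_1 D22497 (iv D20599) (iv F38523)
theorem F43048 : act 1 n22497 = n20759 := d8_1 D22497 (iv D20759) (iv F38524)
theorem F43049 : act 2 n22497 = n20597 := d11_1 D22497 (iv D20597) (iv F38525)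
theorem F43050 : act 4 n22497 = n20796 := d14_1 D22497 (iv D20796) (iv D18271) (iv F32400) D20596
def n22498 : Q := act 2 n20598
theorem D22498 : act 2 n20598 = n22498 := rfl
def n22499 : Q := act 5 n20598
theorem D22499 : act 5 n20598 = n22499 := rfl
theorem F43051 : act 1 n22499 = n20784 := d8_1 D22499 F39012 (iv F38530)
theorem F43052 : act 3 n22499 = n20599 := d13_1 D22499 (iv D20599) D20598
def n22500 : Q := act 3 n20602
theorem D22500 : act 3 n20602 = n22500 := rfl
theorem F43053 : act 0 n22500 = n22462 := d2_1 D22500 (iv D22462) (iv F38540)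
theorem F43054 : act 1 n22500 = n21154 := d6_1 D22500 F39866 (iv F38541)
theorem F43055 : act 4 n22500 = n21114 := d12_2 D20602 D22500 F39799 F34116 (iv F32413)
theorem F43056 : act 5 n22500 = n20603 := d13_2 (iv F38543) D22500 (iv D20603)
def n22501 : Q := act 2 n20603
theorem D22501 : act 2 n20603 = n22501 := rfl
theorem F43057 : act 0 n22501 = n21108 := d1_1 D22501 F39789 F38592
theorem F43058 : act 4 n22501 = n20604 := d10_2 (iv F38545) D22501 (iv D20604)
theorem F43059 : act 3 n22501 = n21335 := d15_1 D22501 (iv D21335) (iv D19021) F28557 D17926 D20541 D22462 F42985 F38592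
def n22502 : Q := act 1 n20604
theorem D22502 : act 1 n20604 = n22502 := rfl
theorem F43060 : act 2 n22502 = n21155 := d5_2 D20604 D22502 (iv D21155) (iv D18759) (iv F32415)
theorem F43061 : act 3 n22502 = n21086 := d6_2 (iv F38548) D22502 (iv D21086)
theorem F43062 : act 5 n22502 = n21112 := d8_2 (iv F38547) D22502 (iv D21112)
def n22503 : Q := act 3 n20607
theorem D22503 : act 3 n20607 = n22503 := rfl
theorem F43063 : act 0 n22503 = n20768 := d2_1 D22503 (iv D20768) (iv F38551)
theorem F43064 : act 1 n22503 = n20795 := d6_1 D22503 (iv D20795) (iv F38552)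
theorem F43065 : act 4 n22503 = n20608 := d12_2 D20607 D22503 (iv D20608) (iv D18008) D18007
def n22504 : Q := act 5 n20607
theorem D22504 : act 5 n20607 = n22504 := rfl
theorem F43066 : act 0 n22504 = n20767 := d4_1 D22504 F38980 (iv F38551)
theorem F43067 : act 1 n22504 = n20796 := d8_1 D22504 (iv D20796) (iv F38552)
theorem F43068 : act 2 n22504 = n20760 := d11_1 D22504 F38965 (iv F38553)
theorem F43069 : act 4 n22504 = n20759 := d14_1 D22504 (iv D20759) (iv D18235) (iv F32422) D20607
def n22505 : Q := act 2 n20608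
theorem D22505 : act 2 n20608 = n22505 := rfl
theorem F43070 : act 0 n22505 = n20786 := d1_1 D22505 (iv D20786) (iv F38554)
theorem F43071 : act 3 n22505 = n20913 := d15_1 D22505 F39276 F33414 F27084 (iv F26666) (iv F33058) (iv F39013) (iv D20787) (iv F38554)
theorem F43072 : act 5 n20912 = n22505 := d13_0 F43071 (iv D20913) D20912
def n22506 : Q := act 5 n20608
theorem D22506 : act 5 n20608 = n22506 := rfl
theorem F43073 : act 0 n22506 = n20787 := d4_1 D22506 (iv D20787) (iv F38554)
theorem F43074 : act 1 n22506 = n20798 := d8_1 D22506 (iv D20798) (iv F38555)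
theorem F43075 : act 2 n22506 = n20912 := d11_1 D22506 F43072 (iv D22505)
theorem F43076 : act 3 n22506 = n20609 := d13_1 D22506 (iv D20609) D20608
def n22507 : Q := act 0 n20610
theorem D22507 : act 0 n20610 = n22507 := rfl
theorem F43077 : act 1 n22507 = n20613 := d0_2 D20610 D22507 (iv D20613) (iv D18012) (iv F32430)
theorem F43078 : act 2 n22507 = n21122 := d1_2 (iv F38560) D22507 (iv D21122)
theorem F43079 : act 4 n22507 = n21121 := d3_2 (iv F38561) D22507 (iv D21121)
theorem F43080 : act 5 n20667 = n22507 := d14_0 F43079 (iv F41722) F41721 F41339 F39488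
theorem F43081 : act 3 n22507 = n20668 := d13_1 F43080 (iv D20668) D20667
def n22508 : Q := act 3 n20610
theorem D22508 : act 3 n20610 = n22508 := rfl
theorem F43082 : act 0 n22508 = n20668 := d2_1 D22508 (iv F43081) (iv D22507)
theorem F43083 : act 1 n22508 = n20611 := d6_1 D22508 (iv D20611) D20610
theorem F43084 : act 5 n20666 = n22508 := d8_0 F43083 (iv F39335) F39332
def n22509 : Q := act 5 n20610
theorem D22509 : act 5 n20610 = n22509 := rfl
theorem F43085 : act 0 n22509 = n20667 := d4_1 D22509 F43080 (iv D22507)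
theorem F43086 : act 1 n22509 = n20612 := d8_1 D22509 (iv D20612) D20610
theorem F43087 : act 2 n22509 = n21124 := d11_1 D22509 (iv D21124) (iv F38560)
theorem F43088 : act 3 n22509 = n20666 := d13_1 D22509 F43084 (iv D22508)
theorem F43089 : act 4 n22509 = n21945 := d14_1 D22509 F41834 F39481 F36547 (iv F38561)
def n22510 : Q := act 1 n20614
theorem D22510 : act 1 n20614 = n22510 := rfl
theorem F43090 : act 2 n22510 = n20665 := d5_2 D20614 D22510 F38674 (iv F33985) F33984
theorem F43091 : act 5 n22510 = n20664 := d8_2 (iv F39344) D22510 (iv F39341)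
def n22511 : Q := act 4 n20616
theorem D22511 : act 4 n20616 = n22511 := rfl
theorem F43092 : act 1 n22511 = n20617 := d7_1 D22511 (iv D20617) (iv F38573)
def n22512 : Q := act 3 n20617
theorem D22512 : act 3 n20617 = n22512 := rfl
theorem F43093 : act 0 n22512 = n21184 := d2_1 D22512 (iv D21184) (iv F38575)
theorem F43094 : act 4 n22512 = n21187 := d12_2 D20617 D22512 (iv D21187) (iv D18816) (iv F32446)
def n22513 : Q := act 2 n20618
theorem D22513 : act 2 n20618 = n22513 := rfl
theorem F43095 : act 0 n22513 = n21955 := d1_1 D22513 (iv D21955) (iv F38577)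
theorem F43096 : act 4 n22513 = n22025 := d10_2 (iv F38579) D22513 (iv D22025)
def n22514 : Q := act 4 n20624
theorem D22514 : act 4 n20624 = n22514 := rfl
theorem F43097 : act 1 n22514 = n21601 := d7_1 D22514 (iv F42984) F42983
theorem F43098 : act 3 n22514 = n21599 := d12_1 D22514 F40986 F39827 (iv D20625) (iv F38597)
theorem F43099 : act 5 n22514 = n21598 := d14_2 D20624 D22514 F40984 F39745 (iv D20623)
def n22515 : Q := act 2 n20635
theorem D22515 : act 2 n20635 = n22515 := rfl
theorem F43100 : act 5 n22515 = n21032 := d11_2 (iv F38618) D22515 (iv D21032)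
def n22516 : Q := act 2 n20637
theorem D22516 : act 2 n20637 = n22516 := rfl
theorem F43101 : act 1 n22516 = n22284 := d5_1 D22516 F42587 F37745 (iv F32585) (iv F38623)
theorem F43102 : act 4 n22516 = n20638 := d10_2 (iv F38624) D22516 (iv D20638)
theorem F43103 : act 5 n22516 = n20641 := d11_2 (iv F38625) D22516 F38633
def n22517 : Q := act 1 n20638
theorem D22517 : act 1 n20638 = n22517 := rfl
theorem F43104 : act 2 n22517 = n20639 := d5_2 D20638 D22517 (iv D20639) (iv D18078) (iv F32576)
theorem F43105 : act 4 n22517 = n22284 := d7_2 F43102 D22517 (iv F43101)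
theorem F43106 : act 5 n22517 = n20642 := d8_2 (iv F38626) D22517 (iv D20642)
def n22518 : Q := act 3 n20638
theorem D22518 : act 3 n20638 = n22518 := rfl
theorem F43107 : act 5 n22518 = n20643 := d13_2 (iv F38626) D22518 (iv D20643)
def n22519 : Q := act 0 n20639
theorem D22519 : act 0 n20639 = n22519 := rfl
theorem F43108 : act 1 n22519 = n20653 := d0_2 D20639 D22519 F38662 F32651 (iv F32588)
theorem F43109 : act 3 n22519 = n22311 := d2_2 (iv F38627) D22519 F42666
theorem F43110 : act 4 n22519 = n22282 := d3_2 (iv F38628) D22519 F42581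
theorem F43111 : act 5 n22519 = n20644 := d4_2 (iv F38629) D22519 (iv D20644)
def n22520 : Q := act 3 n20641
theorem D22520 : act 3 n20641 = n22520 := rfl
theorem F43112 : act 0 n22520 = n20896 := d2_1 D22520 (iv F43000) F42997
theorem F43113 : act 1 n22520 = n22283 := d6_1 D22520 (iv D22283) (iv F38632)
theorem F43114 : act 4 n22520 = n20894 := d12_2 D20641 D22520 (iv D20894) (iv F38434) (iv F38436)
def n22521 : Q := act 0 n20642
theorem D22521 : act 0 n20642 = n22521 := rfl
theorem F43115 : act 1 n22521 = n20658 := d0_2 D20642 D22521 (iv F42992) F42993 F38480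
theorem F43116 : act 2 n22521 = n20644 := d1_2 (iv F38634) D22521 (iv D20644)
theorem F43117 : act 4 n22521 = n20652 := d3_2 (iv F38635) D22521 F38659
def n22522 : Q := act 3 n20642
theorem D22522 : act 3 n20642 = n22522 := rfl
theorem F43118 : act 1 n22522 = n20643 := d6_1 D22522 (iv D20643) D20642
def n22523 : Q := act 2 n20643
theorem D22523 : act 2 n20643 = n22523 := rfl
def n22524 : Q := act 2 n20645
theorem D22524 : act 2 n20645 = n22524 := rfl
theorem F43119 : act 4 n22524 = n22285 := d10_2 (iv F38639) D22524 (iv D22285)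
theorem F43120 : act 5 n22524 = n22313 := d11_2 (iv F38640) D22524 F42672
def n22525 : Q := act 3 n20647
theorem D22525 : act 3 n20647 = n22525 := rfl
theorem F43121 : act 0 n22525 = n20651 := d2_1 D22525 (iv D20651) (iv F38646)
theorem F43122 : act 1 n22525 = n20662 := d6_1 D22525 F38672 (iv F38647)
theorem F43123 : act 4 n22525 = n20654 := d12_2 D20647 D22525 (iv D20654) (iv D18103) (iv F32615)
theorem F43124 : act 5 n22525 = n20651 := d13_2 (iv F38649) D22525 (iv D20651)
def n22526 : Q := act 3 n20650
theorem D22526 : act 3 n20650 = n22526 := rfl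
theorem F43125 : act 0 n22526 = n20654 := d2_1 D22526 (iv D20654) (iv F38655)
theorem F43126 : act 1 n22526 = n20659 := d6_1 D22526 (iv D20659) (iv F38656)
theorem F43127 : act 4 n22526 = n20651 := d12_2 D20650 D22526 (iv D20651) (iv D18095) (iv F32629)
def n22527 : Q := act 2 n20651
theorem D22527 : act 2 n20651 = n22527 := rfl
def n22528 : Q := act 2 n20654
theorem D22528 : act 2 n20654 = n22528 := rfl
def n22529 : Q := act 3 n20658
theorem D22529 : act 3 n20658 = n22529 := rfl
def n22530 : Q := act 5 n20658
theorem D22530 : act 5 n20658 = n22530 := rfl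
theorem F43128 : act 2 n22530 = n20660 := d11_1 D22530 (iv D20660) (iv F38670)
def n22531 : Q := act 2 n20659
theorem D22531 : act 2 n20659 = n22531 := rfl
theorem F43129 : act 4 n22531 = n20661 := d10_2 (iv F38671) D22531 (iv D20661)
def n22532 : Q := act 1 n20661
theorem D22532 : act 1 n20661 = n22532 := rfl
def n22533 : Q := act 2 n20667
theorem D22533 : act 2 n20667 = n22533 := rfl
theorem F43130 : act 0 n22533 = n21124 := d1_1 D22533 (iv F43087) F43085
theorem F43131 : act 1 n22533 = n20726 := d5_1 D22533 F38864 F32912 (iv F32691) (iv F38676)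
theorem F43132 : act 4 n22533 = n20724 := d10_2 F39488 D22533 (iv F39486)
theorem F43133 : act 5 n22533 = n21122 := d11_2 (iv F43080) D22533 (iv F43078)
def n22534 : Q := act 0 n20669
theorem D22534 : act 0 n20669 = n22534 := rfl
theorem F43134 : act 2 n22534 = n21567 := d1_2 (iv F38678) D22534 F40884
theorem F43135 : act 3 n22534 = n21529 := d2_2 (iv F38679) D22534 F40803
theorem F43136 : act 5 n22534 = n21528 := d4_2 (iv F38680) D22534 F40799
def n22535 : Q := act 4 n20671
theorem D22535 : act 4 n20671 = n22535 := rfl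
theorem F43137 : act 0 n22535 = n21822 := d3_1 D22535 F41517 (iv F38686)
theorem F43138 : act 1 n22535 = n20672 := d7_1 D22535 (iv D20672) D20671
theorem F43139 : act 2 n22535 = n21826 := d10_1 D22535 F41524 (iv F38687)
theorem F43140 : act 5 n22535 = n21904 := d14_2 F38689 D22535 F41723 D21908 (iv F41733)
def n22536 : Q := act 3 n20672
theorem D22536 : act 3 n20672 = n22536 := rfl
theorem F43141 : act 0 n22536 = n20678 := d2_1 D22536 (iv D20678) (iv F38690)
theorem F43142 : act 4 n22536 = n20823 := d12_2 D20672 D22536 (iv D20823) (iv D18305) (iv F32720)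
theorem F43143 : act 5 n22536 = n21905 := d13_2 F38692 D22536 (iv D21905)
theorem F43144 : act 2 n22536 = n22335 := d15_2 (iv F38691) D22536 (iv D22335) F37936 F31768 (iv F30222) (iv F32738) (iv D18142) (iv F32721)
def n22537 : Q := act 4 n20674
theorem D22537 : act 4 n20674 = n22537 := rfl
theorem F43145 : act 0 n22537 = n22253 := d3_1 D22537 (iv D22253) (iv F38698)
theorem F43146 : act 1 n22537 = n20676 := d7_1 D22537 (iv D20676) (iv F38699)
theorem F43147 : act 2 n22537 = n22147 := d10_1 D22537 (iv D22147) (iv F38701)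
def n22538 : Q := act 3 n20675
theorem D22538 : act 3 n20675 = n22538 := rfl
theorem F43148 : act 0 n22538 = n21823 := d2_1 D22538 (iv D21823) (iv F38702)
theorem F43149 : act 1 n22538 = n20678 := d6_1 D22538 (iv D20678) (iv F38703)
theorem F43150 : act 2 n22538 = n22492 := d15_2 (iv F38704) D22538 F43037 F38483 (iv F36328) F36327 (iv F36335) (iv D19643) (iv F32751)
theorem F43151 : act 5 n22491 = n22538 := d11_0 F43150 (iv D22492) D22491
def n22539 : Q := act 5 n20675
theorem D22539 : act 5 n20675 = n22539 := rfl
theorem F43152 : act 0 n22539 = n21824 := d4_1 D22539 (iv D21824) (iv F38702)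
theorem F43153 : act 1 n22539 = n20679 := d8_1 D22539 (iv D20679) (iv F38703)
theorem F43154 : act 2 n22539 = n20680 := d11_1 D22539 (iv D20680) (iv F38704)
theorem F43155 : act 3 n22539 = n22491 := d13_1 D22539 F43151 (iv D22538)
theorem F43156 : act 4 n22539 = n21902 := d14_1 D22539 F41717 F37246 F32730 D20675
def n22540 : Q := act 5 n20678
theorem D22540 : act 5 n20678 = n22540 := rfl
theorem F43157 : act 0 n22540 = n21905 := d4_1 D22540 (iv F43143) F43141
theorem F43158 : act 1 n22540 = n22491 := d8_1 D22540 F43151 F43149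
theorem F43159 : act 3 n22540 = n20679 := d13_1 D22540 (iv D20679) D20678
theorem F43160 : act 4 n22383 = n22540 := d12_0 F43159 F38714 F36545 D20426 D22383
def n22541 : Q := act 2 n20681
theorem D22541 : act 2 n20681 = n22541 := rfl
theorem F43161 : act 0 n22541 = n20811 := d1_1 D22541 F39070 (iv F38719)
theorem F43162 : act 1 n22541 = n22141 := d5_1 D22541 (iv D22141) (iv F38708) F38709 (iv F38720)
theorem F43163 : act 3 n22541 = n21036 := d9_2 D20681 D22541 (iv D21036) (iv D18617) (iv D15732) (iv D12657) (iv F20617) D15297 D18288 D20810 F39068 F37292 F31223 (iv F27621) (iv F32769)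
theorem F43164 : act 4 n22541 = n22377 := d10_2 (iv F38721) D22541 (iv D22377)
theorem F43165 : act 5 n22541 = n20808 := d11_2 (iv F38722) D22541 (iv D20808)
def n22542 : Q := act 3 n20683
theorem D22542 : act 3 n20683 = n22542 := rfl
theorem F43166 : act 0 n22542 = n20830 := d2_1 D22542 (iv D20830) (iv F38727)
theorem F43167 : act 1 n22542 = n20685 := d6_1 D22542 (iv D20685) (iv F38728)
def n22543 : Q := act 3 n20684
theorem D22543 : act 3 n20684 = n22543 := rfl
theorem F43168 : act 0 n22543 = n20687 := d2_1 D22543 (iv D20687) (iv F38730)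
theorem F43169 : act 4 n22543 = n20685 := d12_2 D20684 D22543 (iv D20685) (iv D18157) D18156
def n22544 : Q := act 2 n20685
theorem D22544 : act 2 n20685 = n22544 := rfl
theorem F43170 : act 0 n22544 = n20688 := d1_1 D22544 (iv D20688) (iv F38731)
def n22545 : Q := act 3 n20686
theorem D22545 : act 3 n20686 = n22545 := rfl
theorem F43171 : act 1 n22545 = n20832 := d6_1 D22545 (iv D20832) (iv F38732)
theorem F43172 : act 5 n22545 = n20687 := d13_2 (iv F38734) D22545 (iv D20687)
def n22546 : Q := act 2 n20687
theorem D22546 : act 2 n20687 = n22546 := rfl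
theorem F43173 : act 1 n22546 = n22255 := d5_1 D22546 (iv D22255) F39123 (iv D20833) (iv F38735)
theorem F43174 : act 4 n22546 = n20688 := d10_2 (iv F38736) D22546 (iv D20688)
def n22547 : Q := act 1 n20688
theorem D22547 : act 1 n20688 = n22547 := rfl
theorem F43175 : act 2 n22547 = n20834 := d5_2 D20688 D22547 (iv D20834) (iv D18329) (iv F32790)
theorem F43176 : act 4 n22547 = n22255 := d7_2 F43174 D22547 (iv F43173)
theorem F43177 : act 0 n22257 = n22547 := d3_3 F43176 F42512 D22257
def n22548 : Q := act 3 n20688
theorem D22548 : act 3 n20688 = n22548 := rfl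
def n22549 : Q := act 1 n20690
theorem D22549 : act 1 n20690 = n22549 := rfl
theorem F43178 : act 2 n22549 = n20703 := d5_2 D20690 D22549 (iv D20703) (iv D18178) (iv F32808)
theorem F43179 : act 3 n22549 = n21226 := d6_2 (iv F38743) D22549 F40060
theorem F43180 : act 4 n22549 = n20931 := d7_2 (iv F38742) D22549 (iv D20931)
theorem F43181 : act 0 n21463 = n22549 := d2_3 F43179 F40059 D21463
theorem F43182 : act 5 n22393 = n22549 := d13_0 F43179 F40061 D22393
def n22550 : Q := act 5 n20690
theorem D22550 : act 5 n20690 = n22550 := rfl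
theorem F43183 : act 0 n22550 = n20694 := d4_1 D22550 (iv D20694) (iv F38741)
theorem F43184 : act 1 n22550 = n22393 := d8_1 D22550 F43182 (iv D22549)
theorem F43185 : act 2 n22550 = n20691 := d11_1 D22550 (iv D20691) D20690
theorem F43186 : act 3 n22550 = n21056 := d13_1 D22550 F39662 (iv F38743)
theorem F43187 : act 4 n22550 = n21974 := d14_1 D22550 F41897 (iv F39317) F39318 (iv F38742)
def n22551 : Q := act 0 n20692
theorem D22551 : act 0 n20692 = n22551 := rfl
theorem F43188 : act 1 n22551 = n21463 := d0_2 D20692 D22551 F43181 (iv D22549) F38741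
theorem F43189 : act 2 n22551 = n20696 := d1_2 (iv F38748) D22551 (iv D20696)
theorem F43190 : act 4 n22551 = n20933 := d3_2 (iv F38749) D22551 (iv D20933)
theorem F43191 : act 5 n22551 = n20697 := d4_2 F38750 D22551 F38765
theorem F43192 : act 3 n21049 = n22551 := d13_3 F43191 F38766 (iv F39648)
def n22552 : Q := act 3 n20692
theorem D22552 : act 3 n20692 = n22552 := rfl
theorem F43193 : act 0 n22552 = n21049 := d2_1 D22552 F43192 (iv D22551)
theorem F43194 : act 1 n22552 = n20693 := d6_1 D22552 (iv D20693) D20692
theorem F43195 : act 2 n22552 = n21045 := d9_1 D22552 (iv D21045) (iv D18633) (iv D15749) (iv F26442) D18171 D20697 F38766 (iv D19185) (iv D16356) F22576 (iv F21433) (iv F26446) (iv F32817) (iv F38748)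
theorem F43196 : act 5 n22552 = n20700 := d13_2 F38750 D22552 (iv D20700)
def n22553 : Q := act 4 n20693
theorem D22553 : act 4 n20693 = n22553 := rfl
theorem F43197 : act 0 n22553 = n22388 := d3_1 D22553 (iv D22388) (iv F38751)
theorem F43198 : act 2 n22553 = n22387 := d10_1 D22553 (iv D22387) (iv F38752)
theorem F43199 : act 3 n22553 = n20936 := d12_1 D22553 (iv D20936) (iv D18470) (iv F32814) D20693
def n22554 : Q := act 5 n20693
theorem D22554 : act 5 n20693 = n22554 := rfl
theorem F43200 : act 0 n22554 = n21056 := d4_1 D22554 F39662 (iv F38751)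
theorem F43201 : act 1 n22554 = n20700 := d8_1 D22554 (iv F43196) F43194
theorem F43202 : act 2 n22554 = n21055 := d11_1 D22554 F39660 (iv F38752)
theorem F43203 : act 3 n22554 = n20694 := d13_1 D22554 (iv D20694) D20693
theorem F43204 : act 4 n21947 = n22554 := d12_0 F43203 F38755 (iv D19830) (iv F36693) D21947
def n22555 : Q := act 1 n20697
theorem D22555 : act 1 n20697 = n22555 := rfl
theorem F43205 : act 0 n22555 = n22393 := d0_1 D22555 (iv F43184) F43183 F38753 (iv F38765)
theorem F43206 : act 2 n22555 = n21940 := d5_2 D20697 D22555 (iv D21940) (iv D19788) (iv F32825)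
theorem F43207 : act 3 n22555 = n21464 := d6_2 (iv F38766) D22555 F40603
theorem F43208 : act 4 n22555 = n21971 := d7_2 F38767 D22555 F41889
theorem F43209 : act 5 n22555 = n21463 := d8_2 F43191 D22555 (iv F43188)
def n22556 : Q := act 3 n20699
theorem D22556 : act 3 n20699 = n22556 := rfl
theorem F43210 : act 0 n22556 = n20702 := d2_1 D22556 (iv D20702) (iv F38773)
theorem F43211 : act 1 n22556 = n21938 := d6_1 D22556 (iv D21938) (iv F38774)
theorem F43212 : act 4 n22556 = n20937 := d12_2 D20699 D22556 (iv D20937) (iv F38763) F38762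
theorem F43213 : act 5 n22556 = n21919 := d13_2 (iv F38776) D22556 (iv D21919)
def n22557 : Q := act 2 n20702
theorem D22557 : act 2 n20702 = n22557 := rfl
theorem F43214 : act 1 n22557 = n21948 := d5_1 D22557 (iv D21948) F36696 (iv F32841) (iv F38785)
theorem F43215 : act 4 n22557 = n20938 := d10_2 (iv F38786) D22557 (iv D20938)
theorem F43216 : act 5 n22557 = n21920 := d11_2 (iv F38787) D22557 (iv D21920)
def n22558 : Q := act 4 n20703
theorem D22558 : act 4 n20703 = n22558 := rfl
theorem F43217 : act 0 n22558 = n22463 := d3_1 D22558 (iv D22463) F38789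
theorem F43218 : act 1 n22558 = n20704 := d7_1 D22558 (iv D20704) D20703
theorem F43219 : act 2 n22558 = n20931 := d10_1 D22558 (iv F43180) F43178
def n22559 : Q := act 3 n20704
theorem D22559 : act 3 n20704 = n22559 := rfl
theorem F43220 : act 0 n22559 = n20714 := d2_1 D22559 (iv D20714) (iv F38791)
theorem F43221 : act 4 n22559 = n21064 := d12_2 D20704 D22559 (iv D21064) (iv D18656) (iv F32845)
def n22560 : Q := act 5 n20704
theorem D22560 : act 5 n20704 = n22560 := rfl
theorem F43222 : act 0 n22560 = n20715 := d4_1 D22560 (iv D20715) (iv F38791)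
theorem F43223 : act 2 n22560 = n20706 := d11_1 D22560 (iv D20706) (iv F38792)
theorem F43224 : act 4 n22560 = n22339 := d14_1 D22560 F42736 F38797 (iv D20705) D20704
def n22561 : Q := act 4 n20709
theorem D22561 : act 4 n20709 = n22561 := rfl
theorem F43225 : act 0 n22561 = n20711 := d3_1 D22561 (iv D20711) D20709
theorem F43226 : act 1 n22561 = n22463 := d7_1 D22561 (iv D22463) (iv F38812)
theorem F43227 : act 2 n22561 = n20716 := d10_1 D22561 (iv D20716) (iv F38813)
theorem F43228 : act 5 n22561 = n22368 := d14_2 (iv F38814) D22561 (iv D22368) (iv F41819) (iv D21941)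
def n22562 : Q := act 4 n20710
theorem D22562 : act 4 n20710 = n22562 := rfl
theorem F43229 : act 0 n22562 = n22452 := d3_1 D22562 (iv D22452) (iv F38816)
theorem F43230 : act 1 n22562 = n20712 := d7_1 D22562 (iv D20712) (iv F38817)
theorem F43231 : act 2 n22562 = n22448 := d10_1 D22562 (iv D22448) (iv F38818)
theorem F43232 : act 5 n22562 = n22461 := d14_2 (iv F38819) D22562 (iv D22461) F41828 (iv D21943)
def n22563 : Q := act 3 n20711
theorem D22563 : act 3 n20711 = n22563 := rfl
theorem F43233 : act 1 n22563 = n20714 := d6_1 D22563 (iv D20714) (iv F38820)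
theorem F43234 : act 5 n22563 = n22372 := d13_2 (iv F38822) D22563 (iv D22372)
def n22564 : Q := act 3 n20712
theorem D22564 : act 3 n20712 = n22564 := rfl
theorem F43235 : act 0 n22564 = n21064 := d2_1 D22564 (iv D21064) (iv F38823)
theorem F43236 : act 4 n22564 = n20714 := d12_2 D20712 D22564 (iv D20714) (iv D18184) D18183
def n22565 : Q := act 5 n20712
theorem D22565 : act 5 n20712 = n22565 := rfl
theorem F43237 : act 0 n22565 = n21065 := d4_1 D22565 (iv D21065) (iv F38823)
theorem F43238 : act 1 n22565 = n22461 := d8_1 D22565 (iv F43232) F43230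
theorem F43239 : act 2 n22565 = n21062 := d11_1 D22565 (iv D21062) (iv F38824)
theorem F43240 : act 4 n22565 = n22345 := d14_1 D22565 (iv D22345) F38829 (iv D20713) D20712
def n22566 : Q := act 2 n20714
theorem D22566 : act 2 n20714 = n22566 := rfl
theorem F43241 : act 3 n22566 = n22200 := d15_3 (iv F32859) D20714 D22566 F42415 F37455 F34018 (iv F38800) (iv D20706) F32846
def n22567 : Q := act 5 n20714
theorem D22567 : act 5 n20714 = n22567 := rfl
theorem F43242 : act 1 n22567 = n22372 := d8_1 D22567 (iv F43234) F43233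
theorem F43243 : act 3 n22567 = n20715 := d13_1 D22567 (iv D20715) D20714
theorem F43244 : act 4 n22347 = n22567 := d12_0 F43243 F38832 F37987 D20364 D22347
def n22568 : Q := act 3 n20716
theorem D22568 : act 3 n20716 = n22568 := rfl
theorem F43245 : act 0 n22568 = n20717 := d2_1 D22568 (iv D20717) (iv F38833)
theorem F43246 : act 1 n22568 = n20937 := d6_1 D22568 (iv D20937) (iv F38834)
theorem F43247 : act 4 n22568 = n21938 := d12_2 D20716 D22568 (iv D21938) F36669 (iv F32867)
theorem F43248 : act 5 n20774 = n22568 := d4_0 F43245 (iv F38837) D20774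
def n22569 : Q := act 5 n20716
theorem D22569 : act 5 n20716 = n22569 := rfl
theorem F43249 : act 0 n22569 = n20718 := d4_1 D22569 (iv D20718) (iv F38833)
theorem F43250 : act 1 n22569 = n20930 := d8_1 D22569 F39325 (iv F38834)
theorem F43251 : act 2 n22569 = n22368 := d11_1 D22569 (iv F43228) F43227
theorem F43252 : act 3 n22569 = n20774 := d13_1 D22569 F43248 (iv D22568)
theorem F43253 : act 4 n22569 = n21942 := d14_1 D22569 (iv D21942) (iv D19789) (iv F32868) D20716
def n22570 : Q := act 2 n20717
theorem D22570 : act 2 n20717 = n22570 := rfl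
theorem F43254 : act 1 n22570 = n20757 := d5_1 D22570 (iv D20757) F32994 (iv F32872) (iv F38835)
theorem F43255 : act 4 n22570 = n21939 := d10_2 (iv F38836) D22570 (iv D21939)
theorem F43256 : act 5 n22570 = n20771 := d11_2 F38837 D22570 F38987
def n22571 : Q := act 2 n20719
theorem D22571 : act 2 n20719 = n22571 := rfl
theorem F43257 : act 0 n22571 = n20721 := d1_1 D22571 (iv D20721) (iv F38842)
theorem F43258 : act 4 n22571 = n22336 := d10_2 (iv F38844) D22571 F42726
theorem F43259 : act 5 n22571 = n22200 := d11_2 (iv F38845) D22571 F42415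
def n22572 : Q := act 1 n20721
theorem D22572 : act 1 n20721 = n22572 := rfl
theorem F43260 : act 2 n22572 = n20925 := d5_2 D20721 D22572 (iv D20925) (iv D18453) (iv F32901)
def n22573 : Q := act 3 n20721
theorem D22573 : act 3 n20721 = n22573 := rfl
def n22574 : Q := act 3 n20726
theorem D22574 : act 3 n20726 = n22574 := rfl
theorem F43261 : act 0 n22574 = n20730 := d2_1 D22574 (iv D20730) (iv F38863)
theorem F43262 : act 4 n22574 = n20954 := d12_2 D20726 D22574 F39374 F38862 (iv D20725)
theorem F43263 : act 5 n22574 = n21135 := d13_2 (iv F38865) D22574 (iv D21135)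
def n22575 : Q := act 2 n20727
theorem D22575 : act 2 n20727 = n22575 := rfl
theorem F43264 : act 0 n22575 = n20731 := d1_1 D22575 (iv D20731) (iv F38866)
theorem F43265 : act 4 n22575 = n20969 := d10_2 (iv F38867) D22575 F39415
theorem F43266 : act 5 n22575 = n20734 := d11_2 (iv F38868) D22575 (iv D20734)
theorem F43267 : act 3 n22575 = n20935 := d15_1 D22575 (iv D20935) (iv D18470) (iv D15526) (iv D12443) (iv F20451) D15221 (iv F32922) (iv F38866)
def n22576 : Q := act 3 n20729
theorem D22576 : act 3 n20729 = n22576 := rfl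
theorem F43268 : act 0 n22576 = n20954 := d2_1 D22576 F39374 (iv F38874)
theorem F43269 : act 1 n22576 = n21141 := d6_1 D22576 F39838 F39498
theorem F43270 : act 2 n22576 = n20959 := d9_1 D22576 (iv D20959) (iv D18504) (iv D15569) F21088 (iv F21072) (iv F27262) D18499 D20953 F39373 (iv D19845) (iv D17072) (iv F27284) (iv F33566) (iv F38875)
theorem F43271 : act 4 n22576 = n20730 := d12_2 D20729 D22576 (iv D20730) (iv D18208) D18207
theorem F43272 : act 5 n22576 = n20943 := d13_2 (iv F38876) D22576 (iv D20943)
def n22577 : Q := act 2 n20730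
theorem D22577 : act 2 n20730 = n22577 := rfl
theorem F43273 : act 4 n22577 = n20959 := d10_2 F43271 D22577 (iv F43270)
theorem F43274 : act 5 n22577 = n21136 := d11_2 (iv F38878) D22577 (iv D21136)
theorem F43275 : act 3 n22577 = n22063 := d15_1 D22577 F42093 (iv F38888) F38887 (iv F38511) F38510 D21135 (iv F43263) F43261
def n22578 : Q := act 3 n20731
theorem D22578 : act 3 n20731 = n22578 := rfl
theorem F43276 : act 0 n22578 = n20935 := d2_1 D22578 (iv F43267) F43264
theorem F43277 : act 1 n22578 = n20800 := d6_1 D22578 (iv D20800) (iv F38879)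
theorem F43278 : act 5 n22578 = n20739 := d13_2 (iv F38881) D22578 (iv D20739)
theorem F43279 : act 2 n22578 = n20932 := d15_2 D20731 D22578 (iv D20932) (iv D18468) (iv D15523) (iv F26513) D18212 (iv F38868) F38866
def n22579 : Q := act 2 n20732
theorem D22579 : act 2 n20732 = n22579 := rfl
theorem F43280 : act 0 n22579 = n20736 := d1_1 D22579 (iv D20736) (iv F38882)
theorem F43281 : act 4 n22579 = n22058 := d10_2 (iv F38883) D22579 F42089
theorem F43282 : act 5 n22579 = n22063 := d11_2 F38884 D22579 F42093
theorem F43283 : act 3 n22579 = n21136 := d15_1 D22579 (iv D21136) (iv D18735) (iv F32384) F32385 (iv F32934) (iv F38897) (iv D20737) (iv F38882)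
def n22580 : Q := act 1 n20734
theorem D22580 : act 1 n20734 = n22580 := rfl
def n22581 : Q := act 3 n20734
theorem D22581 : act 3 n20734 = n22581 := rfl
theorem F43284 : act 0 n22581 = n20739 := d2_1 D22581 (iv D20739) (iv F38890)
theorem F43285 : act 2 n22581 = n20929 := d9_1 D22581 (iv D20929) (iv D18466) (iv D15516) (iv F26504) D18209 D20731 D22578 F43279 (iv D20932) (iv D18468) (iv D15523) (iv F26513) D18212 D20734
theorem F43286 : act 5 n22581 = n20935 := d13_2 F43266 D22581 (iv F43267)
theorem F43287 : act 4 n21982 = n22581 := d10_0 F43285 F39322 D21982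
def n22582 : Q := act 2 n20735
theorem D22582 : act 2 n20735 = n22582 := rfl
theorem F43288 : act 0 n22582 = n22058 := d1_1 D22582 F42089 (iv F38891)
theorem F43289 : act 4 n22582 = n20736 := d10_2 (iv F38893) D22582 (iv D20736)
theorem F43290 : act 5 n22582 = n21000 := d11_2 (iv F38894) D22582 (iv D21000)
def n22583 : Q := act 1 n20736
theorem D22583 : act 1 n20736 = n22583 := rfl
theorem F43291 : act 2 n22583 = n21156 := d5_2 D20736 D22583 (iv D21156) (iv D18760) (iv F32932)
def n22584 : Q := act 3 n20736
theorem D22584 : act 3 n20736 = n22584 := rfl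
theorem F43292 : act 0 n22584 = n21136 := d2_1 D22584 (iv F43283) F43280
theorem F43293 : act 2 n22584 = n21135 := d9_1 D22584 (iv D21135) (iv F38510) F38511 (iv F38887) F38888 (iv F42093) (iv F43275) (iv D22577) (iv D20730) F32918 F26502 (iv F26518) D18214 D20736
def n22585 : Q := act 5 n20736
theorem D22585 : act 5 n20736 = n22585 := rfl
theorem F43294 : act 0 n22585 = n22063 := d4_1 D22585 (iv F43282) F43280
theorem F43295 : act 2 n22585 = n20737 := d11_1 D22585 (iv D20737) D20736
theorem F43296 : act 4 n22585 = n20791 := d14_1 D22585 F39025 (iv F39506) (iv F43290) F43289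
def n22586 : Q := act 0 n20738
theorem D22586 : act 0 n20738 = n22586 := rfl
theorem F43297 : act 2 n22586 = n20740 := d1_2 (iv F38899) D22586 (iv D20740)
theorem F43298 : act 4 n22586 = n22045 := d3_2 (iv F38900) D22586 F42055
theorem F43299 : act 5 n22586 = n20799 := d4_2 (iv F38901) D22586 F39040
theorem F43300 : act 3 n21982 = n22586 := d15_7 (iv D18277) (iv D15286) (iv F26555) F26556 (iv F30479) D19843 D21982 F43299 F39040
def n22587 : Q := act 3 n20738
theorem D22587 : act 3 n20738 = n22587 := rfl
theorem F43301 : act 0 n22587 = n21982 := d2_1 D22587 F43300 (iv D22586)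
theorem F43302 : act 1 n22587 = n20739 := d6_1 D22587 (iv D20739) D20738
theorem F43303 : act 4 n22587 = n20739 := d12_2 (iv F38900) D22587 (iv D20739) (iv F35846) (iv F36942)
theorem F43304 : act 5 n22587 = n20800 := d13_2 (iv F38901) D22587 (iv D20800)
theorem F43305 : act 2 n22587 = n21980 := d15_2 (iv F38899) D22587 (iv D21980) F36778 (iv F32964) F32963 D18275 (iv F38905) (iv D20740)
def n22588 : Q := act 2 n20739
theorem D22588 : act 2 n20739 = n22588 := rfl
theorem F43306 : act 0 n22588 = n20929 := d1_1 D22588 (iv F43285) F43284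
theorem F43307 : act 3 n22588 = n20927 := d9_2 D20739 D22588 (iv D20927) (iv D18460) (iv F32915) D20727 D22575 F43267 (iv D20935) (iv D18470) (iv D15526) (iv D12443) (iv F20451) D15221 D18216
theorem F43308 : act 4 n22588 = n21980 := d10_2 F43303 D22588 (iv F43305)
theorem F43309 : act 5 n22588 = n20932 := d11_2 F43278 D22588 (iv F43279)
def n22589 : Q := act 1 n20747
theorem D22589 : act 1 n20747 = n22589 := rfl
theorem F43310 : act 2 n22589 = n20748 := d5_2 D20747 D22589 (iv D20748) (iv D18227) (iv F32970)
theorem F43311 : act 4 n22589 = n20790 := d7_2 (iv F38930) D22589 (iv D20790)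
theorem F43312 : act 5 n22589 = n20938 := d8_2 (iv F38931) D22589 F39330
def n22590 : Q := act 3 n20747
theorem D22590 : act 3 n20747 = n22590 := rfl
theorem F43313 : act 0 n22590 = n20959 := d2_1 D22590 (iv D20959) (iv F38929)
theorem F43314 : act 5 n22590 = n20953 := d13_2 (iv F38931) D22590 F39373
theorem F43315 : act 2 n22590 = n20954 := d15_2 D20747 D22590 F39374 F33579 F27266 (iv F27290) (iv F33588) (iv D18505) (iv F32969)
def n22591 : Q := act 0 n20748
theorem D22591 : act 0 n20748 = n22591 := rfl
theorem F43316 : act 1 n22591 = n20774 := d0_2 D20748 D22591 (iv D20774) (iv D18249) (iv F32973)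
theorem F43317 : act 3 n22591 = n20930 := d2_2 (iv F38932) D22591 (iv D20930)
theorem F43318 : act 4 n22591 = n20794 := d3_2 (iv F38933) D22591 (iv D20794)
theorem F43319 : act 5 n22591 = n20937 := d4_2 (iv F38934) D22591 F39329
def n22592 : Q := act 3 n20749
theorem D22592 : act 3 n20749 = n22592 := rfl
theorem F43320 : act 0 n22592 = n21679 := d2_1 D22592 F41156 (iv F38935)
theorem F43321 : act 1 n22592 = n20750 := d6_1 D22592 (iv D20750) D20749
theorem F43322 : act 5 n22592 = n20779 := d13_2 (iv F38937) D22592 F39004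
theorem F43323 : act 2 n22350 = n22592 := d11_3 F43322 F39003 (iv F42769)
def n22593 : Q := act 4 n20749
theorem D22593 : act 4 n20749 = n22593 := rfl
theorem F43324 : act 0 n22593 = n21988 := d3_1 D22593 (iv D21988) (iv F38935)
theorem F43325 : act 1 n22593 = n20751 := d7_1 D22593 (iv D20751) D20749
theorem F43326 : act 2 n22593 = n21979 := d10_1 D22593 (iv D21979) (iv F38936)
def n22594 : Q := act 4 n20750
theorem D22594 : act 4 n20750 = n22594 := rfl
theorem F43327 : act 0 n22594 = n20754 := d3_1 D22594 (iv D20754) (iv F38938)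
theorem F43328 : act 2 n22594 = n20782 := d10_1 D22594 (iv D20782) (iv F38939)
def n22595 : Q := act 3 n20751
theorem D22595 : act 3 n20751 = n22595 := rfl
theorem F43329 : act 0 n22595 = n20755 := d2_1 D22595 (iv D20755) (iv F38941)
def n22596 : Q := act 5 n20751
theorem D22596 : act 5 n20751 = n22596 := rfl
theorem F43330 : act 0 n22596 = n20756 := d4_1 D22596 (iv D20756) (iv F38941)
theorem F43331 : act 2 n22596 = n20752 := d11_1 D22596 (iv D20752) (iv F38942)
theorem F43332 : act 4 n22596 = n21995 := d14_1 D22596 (iv D21995) (iv D19856) (iv F32978) D20751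
def n22597 : Q := act 2 n20753
theorem D22597 : act 2 n20753 = n22597 := rfl
theorem F43333 : act 0 n22597 = n20757 := d1_1 D22597 (iv D20757) (iv F38947)
theorem F43334 : act 4 n22597 = n22009 := d10_2 (iv F38949) D22597 (iv D22009)
theorem F43335 : act 5 n22597 = n20762 := d11_2 (iv F38950) D22597 (iv D20762)
theorem F43336 : act 3 n22597 = n20785 := d15_1 D22597 (iv D20785) (iv D18262) (iv D15273) (iv D12176) (iv F20528) D15251 (iv F32996) (iv F38947)
def n22598 : Q := act 3 n20754
theorem D22598 : act 3 n20754 = n22598 := rfl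
theorem F43337 : act 1 n22598 = n22003 := d6_1 D22598 (iv D22003) (iv F38951)
theorem F43338 : act 4 n22598 = n20755 := d12_2 D20754 D22598 (iv D20755) (iv D18232) D18231
def n22599 : Q := act 5 n20754
theorem D22599 : act 5 n20754 = n22599 := rfl
theorem F43339 : act 1 n22599 = n22002 := d8_1 D22599 F41954 (iv F38951)
theorem F43340 : act 2 n22599 = n22024 := d11_1 D22599 F42005 (iv F38952)
theorem F43341 : act 4 n22599 = n21997 := d14_1 D22599 (iv D21997) (iv D19857) (iv F32987) D20754
def n22600 : Q := act 2 n20755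
theorem D22600 : act 2 n20755 = n22600 := rfl
def n22601 : Q := act 5 n20755
theorem D22601 : act 5 n20755 = n22601 := rfl
theorem F43342 : act 1 n22601 = n22007 := d8_1 D22601 F41962 (iv F38953)
theorem F43343 : act 3 n22601 = n20756 := d13_1 D22601 (iv D20756) D20755
def n22602 : Q := act 3 n20757
theorem D22602 : act 3 n20757 = n22602 := rfl
theorem F43344 : act 0 n22602 = n20785 := d2_1 D22602 (iv F43336) F43333
theorem F43345 : act 5 n22602 = n20772 := d13_2 (iv F38958) D22602 (iv D20772)
theorem F43346 : act 2 n22602 = n20763 := d15_2 D20757 D22602 (iv D20763) F33006 F26611 (iv F26597) D18238 (iv F38950) F38947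
theorem F43347 : act 4 n20765 = n22602 := d10_0 F43346 F38972 D20765
def n22603 : Q := act 2 n20758
theorem D22603 : act 2 n20758 = n22603 := rfl
theorem F43348 : act 0 n22603 = n20765 := d1_1 D22603 (iv D20765) (iv F38959)
theorem F43349 : act 4 n22603 = n20785 := d10_2 (iv F38960) D22603 (iv D20785)
def n22604 : Q := act 5 n20758
theorem D22604 : act 5 n20758 = n22604 := rfl
theorem F43350 : act 0 n22604 = n20766 := d4_1 D22604 (iv D20766) (iv F38959)
theorem F43351 : act 3 n22604 = n20759 := d13_1 D22604 (iv D20759) D20758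
def n22605 : Q := act 3 n20760
theorem D22605 : act 3 n20760 = n22605 := rfl
theorem F43352 : act 0 n22605 = n20769 := d2_1 D22605 (iv D20769) (iv F38963)
theorem F43353 : act 1 n22605 = n20789 := d6_1 D22605 F39020 (iv F38964)
theorem F43354 : act 4 n22605 = n21952 := d12_2 D20760 D22605 F41842 (iv F38946) F38945
theorem F43355 : act 5 n22605 = n20761 := d13_2 (iv F38965) D22605 (iv D20761)
def n22606 : Q := act 2 n20761
theorem D22606 : act 2 n20761 = n22606 := rfl
theorem F43356 : act 0 n22606 = n20770 := d1_1 D22606 (iv D20770) (iv F38966)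
theorem F43357 : act 4 n22606 = n20762 := d10_2 (iv F38968) D22606 (iv D20762)
def n22607 : Q := act 1 n20762
theorem D22607 : act 1 n20762 = n22607 := rfl
theorem F43358 : act 2 n22607 = n20958 := d5_2 D20762 D22607 (iv D20958) (iv D18504) (iv F33003)
def n22608 : Q := act 3 n20762
theorem D22608 : act 3 n20762 = n22608 := rfl
theorem F43359 : act 0 n22608 = n20772 := d2_1 D22608 (iv D20772) (iv F38969)
theorem F43360 : act 2 n22608 = n20784 := d9_1 D22608 (iv D20784) (iv D18261) (iv D15271) (iv F26580) D18234 D20757 D22602 F43346 (iv D20763) F33006 F26611 (iv F26597) D18238 D20762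
theorem F43361 : act 5 n22608 = n20785 := d13_2 F43335 D22608 (iv F43336)
def n22609 : Q := act 5 n20763
theorem D22609 : act 5 n20763 = n22609 := rfl
theorem F43362 : act 0 n22609 = n20784 := d4_1 D22609 F39012 (iv F38970)
theorem F43363 : act 1 n22609 = n20766 := d8_1 D22609 (iv D20766) (iv F38971)
theorem F43364 : act 2 n22609 = n20772 := d11_1 D22609 (iv F43345) F43346
theorem F43365 : act 3 n22609 = n20764 := d13_1 D22609 (iv D20764) D20763
def n22610 : Q := act 1 n20765
theorem D22610 : act 1 n20765 = n22610 := rfl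
def n22611 : Q := act 3 n20765
theorem D22611 : act 3 n20765 = n22611 := rfl
theorem F43366 : act 4 n22611 = n22010 := d12_2 (iv F43347) D22611 (iv D22010) (iv F38957) D22602
def n22612 : Q := act 5 n20765
theorem D22612 : act 5 n20765 = n22612 := rfl
theorem F43367 : act 2 n22612 = n20766 := d11_1 D22612 (iv D20766) D20765
def n22613 : Q := act 4 n20766
theorem D22613 : act 4 n20766 = n22613 := rfl
def n22614 : Q := act 3 n20767
theorem D22614 : act 3 n20767 = n22614 := rfl
theorem F43368 : act 1 n22614 = n20787 := d6_1 D22614 F39013 (iv F38978)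
theorem F43369 : act 5 n22614 = n20768 := d13_2 (iv F38980) D22614 (iv D20768)
def n22615 : Q := act 2 n20768
theorem D22615 : act 2 n20768 = n22615 := rfl
theorem F43370 : act 4 n22615 = n20786 := d10_2 (iv F38982) D22615 (iv D20786)
def n22616 : Q := act 2 n20769
theorem D22616 : act 2 n20769 = n22616 := rfl
theorem F43371 : act 1 n22616 = n20922 := d5_1 D22616 (iv D20922) F33436 (iv F33019) (iv F38983)
theorem F43372 : act 4 n22616 = n21950 := d10_2 (iv F38984) D22616 F41840
theorem F43373 : act 5 n22616 = n20770 := d11_2 (iv F38985) D22616 (iv D20770)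
def n22617 : Q := act 1 n20770
theorem D22617 : act 1 n20770 = n22617 := rfl
theorem F43374 : act 2 n22617 = n20773 := d5_2 D20770 D22617 (iv D20773) (iv D18248) (iv F33012)
theorem F43375 : act 4 n22617 = n20771 := d7_2 (iv F38986) D22617 (iv D20771)
theorem F43376 : act 5 n22617 = n20922 := d8_2 F43373 D22617 (iv F43371)
def n22618 : Q := act 3 n20770
theorem D22618 : act 3 n20770 = n22618 := rfl
def n22619 : Q := act 0 n20771
theorem D22619 : act 0 n20771 = n22619 := rfl
theorem F43377 : act 2 n22619 = n20774 := d1_2 (iv F38987) D22619 (iv D20774)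
def n22620 : Q := act 3 n20771
theorem D22620 : act 3 n20771 = n22620 := rfl
theorem F43378 : act 1 n22620 = n20772 := d6_1 D22620 (iv D20772) D20771
def n22621 : Q := act 4 n20772
theorem D22621 : act 4 n20772 = n22621 := rfl
def n22622 : Q := act 0 n20773
theorem D22622 : act 0 n20773 = n22622 := rfl
theorem F43379 : act 1 n22622 = n20794 := d0_2 D20773 D22622 (iv D20794) (iv D18269) (iv F33022)
theorem F43380 : act 3 n22622 = n20921 := d2_2 (iv F38988) D22622 F39294
theorem F43381 : act 4 n22622 = n20774 := d3_2 (iv F38989) D22622 (iv D20774)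
theorem F43382 : act 5 n22622 = n20920 := d4_2 (iv F38990) D22622 F39291
def n22623 : Q := act 3 n20775
theorem D22623 : act 3 n20775 = n22623 := rfl
theorem F43383 : act 0 n22623 = n20776 := d2_1 D22623 (iv D20776) (iv F38991)
theorem F43384 : act 1 n22623 = n22363 := d6_1 D22623 (iv D22363) (iv F38992)
theorem F43385 : act 4 n22623 = n20919 := d12_2 D20775 D22623 F39290 F33428 (iv F33034)
theorem F43386 : act 5 n22623 = n22542 := d13_2 (iv F38994) D22623 (iv D22542)
def n22624 : Q := act 5 n20778
theorem D22624 : act 5 n20778 = n22624 := rfl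
theorem F43387 : act 0 n22624 = n20815 := d4_1 D22624 (iv D20815) (iv F38999)
theorem F43388 : act 1 n22624 = n20781 := d8_1 D22624 (iv D20781) (iv F39000)
theorem F43389 : act 2 n22624 = n21025 := d11_1 D22624 F39580 F39156
theorem F43390 : act 3 n22624 = n20814 := d13_1 D22624 (iv D20814) (iv F39001)
def n22625 : Q := act 4 n20779
theorem D22625 : act 4 n20779 = n22625 := rfl
theorem F43391 : act 0 n22625 = n21985 := d3_1 D22625 (iv D21985) (iv F39002)
theorem F43392 : act 1 n22625 = n20780 := d7_1 D22625 (iv D20780) D20779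
theorem F43393 : act 2 n22625 = n22362 := d10_1 D22625 (iv D22362) (iv F39003)
def n22626 : Q := act 3 n20780
theorem D22626 : act 3 n20780 = n22626 := rfl
theorem F43394 : act 0 n22626 = n21996 := d2_1 D22626 (iv D21996) (iv F39005)
theorem F43395 : act 4 n22626 = n21994 := d12_2 D20780 D22626 (iv D21994) (iv D19856) (iv F33049)
def n22627 : Q := act 5 n20780
theorem D22627 : act 5 n20780 = n22627 := rfl
theorem F43396 : act 0 n22627 = n21997 := d4_1 D22627 (iv D21997) (iv F39005)
theorem F43397 : act 2 n22627 = n20781 := d11_1 D22627 (iv D20781) (iv F39006)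
def n22628 : Q := act 4 n20781
theorem D22628 : act 4 n20781 = n22628 := rfl
theorem F43398 : act 0 n22628 = n22024 := d3_1 D22628 (iv D22024) (iv F39007)
theorem F43399 : act 5 n22628 = n20782 := d14_2 D20781 D22628 (iv D20782) (iv D18259) D18258
def n22629 : Q := act 3 n20782
theorem D22629 : act 3 n20782 = n22629 := rfl
theorem F43400 : act 0 n22629 = n20914 := d2_1 D22629 F39278 (iv F39009)
theorem F43401 : act 4 n22629 = n20783 := d12_2 D20782 D22629 (iv D20783) (iv D18260) (iv F33053)
def n22630 : Q := act 2 n20783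
theorem D22630 : act 2 n20783 = n22630 := rfl
theorem F43402 : act 0 n22630 = n20913 := d1_1 D22630 F39276 (iv F39010)
theorem F43403 : act 3 n22630 = n20786 := d9_2 D20783 D22630 (iv D20786) (iv D18263) F26664 F20577 (iv F20938) D15484 D18439 D20912 (iv F43075) F43076 F38558 F32428 (iv F33055)
theorem F43404 : act 5 n22630 = n20908 := d11_2 (iv F39011) D22630 (iv D20908)
def n22631 : Q := act 4 n20784
theorem D22631 : act 4 n20784 = n22631 := rfl
def n22632 : Q := act 1 n20785
theorem D22632 : act 1 n20785 = n22632 := rfl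
def n22633 : Q := act 1 n20786
theorem D22633 : act 1 n20786 = n22633 := rfl
def n22634 : Q := act 5 n20786
theorem D22634 : act 5 n20786 = n22634 := rfl
theorem F43405 : act 0 n22634 = n20912 := d4_1 D22634 F43072 F43070
theorem F43406 : act 2 n22634 = n20787 := d11_1 D22634 (iv D20787) D20786
theorem F43407 : act 3 n22634 = n20908 := d13_1 D22634 (iv F43404) F43403
def n22635 : Q := act 4 n20787
theorem D22635 : act 4 n20787 = n22635 := rfl
def n22636 : Q := act 1 n20788
theorem D22636 : act 1 n20788 = n22636 := rfl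
theorem F43408 : act 3 n22636 = n22061 := d6_2 (iv F39016) D22636 F42092
theorem F43409 : act 4 n22636 = n20958 := d7_2 (iv F39015) D22636 (iv D20958)
theorem F43410 : act 5 n22636 = n22060 := d8_2 F39017 D22636 F42091
def n22637 : Q := act 4 n20789
theorem D22637 : act 4 n20789 = n22637 := rfl
theorem F43411 : act 0 n22637 = n20793 := d3_1 D22637 (iv D20793) (iv F39018)
theorem F43412 : act 1 n22637 = n21952 := d7_1 D22637 (iv F43354) F43353
theorem F43413 : act 2 n22637 = n22062 := d10_1 D22637 (iv D22062) (iv F39019)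
theorem F43414 : act 3 n22637 = n21937 := d12_1 D22637 F41807 (iv F38927) F38928 (iv F39020)
theorem F43415 : act 5 n22637 = n20961 := d14_2 D20789 D22637 (iv D20961) (iv D18505) (iv F33060)
def n22638 : Q := act 0 n20790
theorem D22638 : act 0 n20790 = n22638 := rfl
theorem F43416 : act 2 n22638 = n20794 := d1_2 (iv F39021) D22638 (iv D20794)
theorem F43417 : act 5 n22638 = n21953 := d4_2 F39022 D22638 F41844
def n22639 : Q := act 3 n20790
theorem D22639 : act 3 n20790 = n22639 := rfl
theorem F43418 : act 1 n22639 = n20791 := d6_1 D22639 (iv D20791) D20790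
theorem F43419 : act 5 n22639 = n21954 := d13_2 F39022 D22639 (iv D21954)
theorem F43420 : act 2 n22639 = n21969 := d15_2 (iv F39021) D22639 F41885 F36746 (iv F36123) F36122 D19804 (iv F39034) (iv D20794)
def n22640 : Q := act 4 n20792
theorem D22640 : act 4 n20792 = n22640 := rfl
theorem F43421 : act 0 n22640 = n22062 := d3_1 D22640 (iv D22062) (iv F39026)
theorem F43422 : act 1 n22640 = n21920 := d7_1 D22640 F41757 (iv F39027)
theorem F43423 : act 2 n22640 = n20793 := d10_1 D22640 (iv D20793) (iv F39028)
theorem F43424 : act 5 n22640 = n21948 := d14_2 D20792 D22640 F41838 (iv F38931) F38930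
def n22641 : Q := act 2 n20795
theorem D22641 : act 2 n20795 = n22641 := rfl
theorem F43425 : act 0 n22641 = n20797 := d1_1 D22641 (iv D20797) (iv F39035)
theorem F43426 : act 4 n22641 = n20797 := d10_2 (iv F39036) D22641 (iv D20797)
theorem F43427 : act 3 n22641 = n22042 := d15_1 D22641 F42046 F36891 F30589 (iv F26683) (iv F33076) (iv F39039) (iv D20798) (iv F39035)
theorem F43428 : act 5 n22041 = n22641 := d13_0 F43427 (iv D22042) D22041
def n22642 : Q := act 5 n20795
theorem D22642 : act 5 n20795 = n22642 := rfl
theorem F43429 : act 0 n22642 = n20798 := d4_1 D22642 (iv D20798) (iv F39035)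
theorem F43430 : act 2 n22642 = n22041 := d11_1 D22642 F43428 (iv D22641)
theorem F43431 : act 3 n22642 = n20796 := d13_1 D22642 (iv D20796) D20795
def n22643 : Q := act 1 n20797
theorem D22643 : act 1 n20797 = n22643 := rfl
theorem F43432 : act 3 n22643 = n22144 := d6_2 (iv F42146) D22643 F42288
def n22644 : Q := act 5 n20797
theorem D22644 : act 5 n20797 = n22644 := rfl
theorem F43433 : act 0 n22644 = n22041 := d4_1 D22644 F43428 F43425
theorem F43434 : act 2 n22644 = n20798 := d11_1 D22644 (iv D20798) D20797
theorem F43435 : act 3 n22644 = n22035 := d13_1 D22644 F42145 (iv F42146)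
def n22645 : Q := act 4 n20798
theorem D22645 : act 4 n20798 = n22645 := rfl
def n22646 : Q := act 1 n20799
theorem D22646 : act 1 n20799 = n22646 := rfl
theorem F43436 : act 4 n22646 = n20968 := d7_2 (iv F39041) D22646 (iv D20968)
def n22647 : Q := act 3 n20799
theorem D22647 : act 3 n20799 = n22647 := rfl
theorem F43437 : act 0 n22647 = n20800 := d2_1 D22647 (iv D20800) (iv F39040)
theorem F43438 : act 2 n22647 = n21983 := d9_1 D22647 F41914 F36780 (iv F32967) F32966 (iv F32935) (iv F38899) D22587 F43305 (iv D21980) F36778 (iv F32964) F32963 D18275 D20799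
theorem F43439 : act 4 n22647 = n22070 := d12_2 (iv F39041) D22647 (iv D22070) (iv D19941) (iv F33611)
theorem F43440 : act 5 n22647 = n21982 := d13_2 F43299 D22647 F43300
def n22648 : Q := act 2 n20800
theorem D22648 : act 2 n20800 = n22648 := rfl
theorem F43441 : act 0 n22648 = n21983 := d1_1 D22648 (iv F43438) F43437
theorem F43442 : act 3 n22648 = n21981 := d9_2 D20800 D22648 F41913 (iv F38927) F38926 (iv F38903) (iv F43297) (iv F43300) (iv D21982) (iv D19843) F30479 (iv F26556) F26555 D15286 D18277
theorem F43443 : act 5 n22648 = n21980 := d11_2 F43304 D22648 (iv F43305)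
def n22649 : Q := act 4 n20800
theorem D22649 : act 4 n20800 = n22649 := rfl
theorem F43444 : act 0 n22649 = n22070 := d3_1 D22649 (iv F43439) F43437
theorem F43445 : act 3 n22649 = n20971 := d12_1 D22649 (iv D20971) (iv D18515) (iv F33081) D20800
def n22650 : Q := act 3 n20804
theorem D22650 : act 3 n20804 = n22650 := rfl
def n22651 : Q := act 3 n20805
theorem D22651 : act 3 n20805 = n22651 := rfl
theorem F43446 : act 1 n22651 = n20806 := d6_1 D22651 (iv D20806) (iv F39055)
theorem F43447 : act 4 n22651 = n20830 := d12_2 D20805 D22651 (iv D20830) (iv D18324) (iv F33089)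
theorem F43448 : act 5 n22651 = n21781 := d13_2 F41331 D22651 (iv F41417)
theorem F43449 : act 2 n21782 = n22651 := d11_3 F43448 (iv D21781) D21782
def n22652 : Q := act 4 n20810
theorem D22652 : act 4 n20810 = n22652 := rfl
theorem F43450 : act 0 n22652 = n22114 := d3_1 D22652 F42211 (iv F39067)
theorem F43451 : act 2 n22652 = n22118 := d10_1 D22652 F42220 (iv F39068)
def n22653 : Q := act 4 n20811
theorem D22653 : act 4 n20811 = n22653 := rfl
theorem F43452 : act 0 n22653 = n22377 := d3_1 D22653 (iv F43164) F43161
theorem F43453 : act 1 n22653 = n20818 := d7_1 D22653 (iv D20818) (iv F39069)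
theorem F43454 : act 2 n22653 = n20812 := d10_1 D22653 (iv D20812) (iv F39070)
theorem F43455 : act 5 n22653 = n21008 := d14_2 D20811 D22653 (iv F41742) F41743 F36597
theorem F43456 : act 3 n22171 = n22653 := d13_3 F43455 F39522 F42352
def n22654 : Q := act 4 n20815
theorem D22654 : act 4 n20815 = n22654 := rfl
theorem F43457 : act 1 n22654 = n20829 := d7_1 D22654 (iv D20829) (iv F39082)
theorem F43458 : act 2 n22654 = n22358 := d10_1 D22654 F42782 F39159
theorem F43459 : act 3 n22654 = n22030 := d12_1 D22654 (iv D22030) F36863 (iv F33125) (iv F39083)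
theorem F43460 : act 5 n22654 = n22023 := d14_2 D20815 D22654 (iv D22023) (iv D19885) (iv F33122)
def n22655 : Q := act 5 n20816
theorem D22655 : act 5 n20816 = n22655 := rfl
theorem F43461 : act 0 n22655 = n20819 := d4_1 D22655 (iv D20819) (iv F39084)
theorem F43462 : act 3 n22655 = n21029 := d13_1 D22655 F39594 (iv F39085)
def n22656 : Q := act 3 n20817
theorem D22656 : act 3 n20817 = n22656 := rfl
theorem F43463 : act 0 n22656 = n20820 := d2_1 D22656 (iv D20820) (iv F39086)
def n22657 : Q := act 5 n20818
theorem D22657 : act 5 n20818 = n22657 := rfl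
theorem F43464 : act 1 n22657 = n21008 := d8_1 D22657 (iv F43455) F43453
theorem F43465 : act 2 n22657 = n20819 := d11_1 D22657 (iv D20819) (iv F39088)
theorem F43466 : act 3 n22657 = n22172 := d13_1 D22657 (iv D22172) F39089
def n22658 : Q := act 2 n20820
theorem D22658 : act 2 n20820 = n22658 := rfl
def n22659 : Q := act 4 n20821
theorem D22659 : act 4 n20821 = n22659 := rfl
theorem F43467 : act 0 n22659 = n20822 := d3_1 D22659 (iv D20822) D20821
theorem F43468 : act 1 n22659 = n22253 := d7_1 D22659 (iv D22253) (iv F39093)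
theorem F43469 : act 2 n22659 = n20824 := d10_1 D22659 (iv D20824) (iv F39094)
def n22660 : Q := act 3 n20822
theorem D22660 : act 3 n20822 = n22660 := rfl
theorem F43470 : act 1 n22660 = n20823 := d6_1 D22660 (iv D20823) (iv F39097)
def n22661 : Q := act 3 n20824
theorem D22661 : act 3 n20824 = n22661 := rfl
theorem F43471 : act 0 n22661 = n20825 := d2_1 D22661 (iv D20825) (iv F39099)
def n22662 : Q := act 5 n20824
theorem D22662 : act 5 n20824 = n22662 := rfl
theorem F43472 : act 0 n22662 = n20826 := d4_1 D22662 (iv D20826) (iv F39099)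
def n22663 : Q := act 2 n20825
theorem D22663 : act 2 n20825 = n22663 := rfl
def n22664 : Q := act 2 n20830
theorem D22664 : act 2 n20830 = n22664 := rfl
theorem F43473 : act 1 n22664 = n21783 := d5_1 D22664 F41421 F39116 (iv D20831) (iv F39110)
theorem F43474 : act 4 n22664 = n21782 := d10_2 F43447 D22664 F43449
theorem F43475 : act 5 n22664 = n21857 := d11_2 (iv F39111) D22664 F41608
theorem F43476 : act 3 n22664 = n21856 := d15_1 D22664 F41604 (iv D20238) F31471 (iv F33045) (iv F38993) D22623 F43386 F43166
def n22665 : Q := act 3 n20837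
theorem D22665 : act 3 n20837 = n22665 := rfl
theorem F43477 : act 1 n22665 = n22629 := d6_1 D22665 (iv D22629) (iv F39137)
theorem F43478 : act 4 n22665 = n20838 := d12_2 D20837 D22665 (iv D20838) (iv D18339) D18338
def n22666 : Q := act 5 n20837
theorem D22666 : act 5 n20837 = n22666 := rfl
theorem F43479 : act 0 n22666 = n22654 := d4_1 D22666 F43460 F42001
theorem F43480 : act 1 n22666 = n22628 := d8_1 D22666 F43399 (iv F39137)
theorem F43481 : act 4 n22666 = n22624 := d14_1 D22666 (iv D22624) (iv D20778) (iv F33222) D20837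
def n22667 : Q := act 2 n20838
theorem D22667 : act 2 n20838 = n22667 := rfl
theorem F43482 : act 5 n22667 = n22513 := d11_2 (iv F39139) D22667 (iv D22513)
def n22668 : Q := act 3 n20839
theorem D22668 : act 3 n20839 = n22668 := rfl
theorem F43483 : act 0 n22668 = n21803 := d2_1 D22668 (iv D21803) (iv F39140)
theorem F43484 : act 1 n22668 = n20840 := d6_1 D22668 (iv D20840) (iv F39141)
def n22669 : Q := act 5 n20839
theorem D22669 : act 5 n20839 = n22669 := rfl
theorem F43485 : act 0 n22669 = n21804 := d4_1 D22669 (iv D21804) (iv F39140)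
theorem F43486 : act 1 n22669 = n20841 := d8_1 D22669 (iv D20841) (iv F39141)
theorem F43487 : act 2 n22669 = n21801 := d11_1 D22669 (iv D21801) (iv F39142)
theorem F43488 : act 4 n22669 = n21830 := d14_1 D22669 (iv D21830) F36348 F33228 D20839
def n22670 : Q := act 2 n20840
theorem D22670 : act 2 n20840 = n22670 := rfl
theorem F43489 : act 0 n22670 = n20845 := d1_1 D22670 (iv D20845) (iv F39143)
theorem F43490 : act 3 n22670 = n22513 := d15_1 D22670 (iv D22513) (iv D20618) F32460 (iv F26862) (iv F33244) (iv F39153) (iv D20846) (iv F39143)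
def n22671 : Q := act 5 n20840
theorem D22671 : act 5 n20840 = n22671 := rfl
theorem F43491 : act 0 n22671 = n20846 := d4_1 D22671 (iv D20846) (iv F39143)
theorem F43492 : act 3 n22671 = n20841 := d13_1 D22671 (iv D20841) D20840
def n22672 : Q := act 2 n20842
theorem D22672 : act 2 n20842 = n22672 := rfl
theorem F43493 : act 4 n22672 = n20845 := d10_2 (iv F39147) D22672 (iv D20845)
def n22673 : Q := act 5 n20842
theorem D22673 : act 5 n20842 = n22673 := rfl
theorem F43494 : act 3 n22673 = n20843 := d13_1 D22673 (iv D20843) D20842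
def n22674 : Q := act 4 n20843
theorem D22674 : act 4 n20843 = n22674 := rfl
theorem F43495 : act 0 n22674 = n20861 := d3_1 D22674 (iv F43014) F43012
theorem F43496 : act 1 n22674 = n20865 := d7_1 D22674 (iv F42107) F42105
theorem F43497 : act 2 n22674 = n20859 := d10_1 D22674 (iv F43009) F43007
theorem F43498 : act 5 n22674 = n20844 := d14_2 D20843 D22674 (iv D20844) (iv D18345) D18344
theorem F43499 : act 3 n22384 = n22674 := d13_3 F43498 F39151 D22384
def n22675 : Q := act 1 n20845
theorem D22675 : act 1 n20845 = n22675 := rfl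
def n22676 : Q := act 5 n20845
theorem D22676 : act 5 n20845 = n22676 := rfl
theorem F43500 : act 2 n22676 = n20846 := d11_1 D22676 (iv D20846) D20845
def n22677 : Q := act 4 n20846
theorem D22677 : act 4 n20846 = n22677 := rfl
theorem F43501 : act 1 n22677 = n22094 := d7_1 D22677 F42163 (iv F39152)
theorem F43502 : act 3 n22677 = n22093 := d12_1 D22677 (iv D22093) F37072 (iv F33245) (iv F39153)
def n22678 : Q := act 3 n20847
theorem D22678 : act 3 n20847 = n22678 := rfl
theorem F43503 : act 1 n22678 = n20849 := d6_1 D22678 (iv D20849) (iv F39154)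
def n22679 : Q := act 4 n20854
theorem D22679 : act 4 n20854 = n22679 := rfl
theorem F43504 : act 0 n22679 = n20998 := d3_1 D22679 (iv D20998) (iv F39167)
theorem F43505 : act 2 n22679 = n20855 := d10_1 D22679 (iv D20855) D20854
theorem F43506 : act 5 n22679 = n21402 := d14_2 (iv F39169) D22679 (iv D21402) F35007 F34083
def n22680 : Q := act 5 n20860
theorem D22680 : act 5 n20860 = n22680 := rfl
theorem F43507 : act 0 n22680 = n22384 := d4_1 D22680 (iv D22384) (iv F39184)
theorem F43508 : act 2 n22680 = n21088 := d11_1 D22680 F39745 F39186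
theorem F43509 : act 3 n22680 = n20861 := d13_1 D22680 (iv D20861) D20860
def n22681 : Q := act 5 n20864
theorem D22681 : act 5 n20864 = n22681 := rfl
theorem F43510 : act 0 n22681 = n21001 := d4_1 D22681 (iv D21001) (iv F39195)
theorem F43511 : act 2 n22681 = n20865 := d11_1 D22681 (iv D20865) (iv F39196)
theorem F43512 : act 3 n22681 = n21901 := d13_1 D22681 F41714 F39197
theorem F43513 : act 4 n22681 = n21003 := d14_1 D22681 (iv D21003) (iv D18561) (iv F33297) D20864
def n22682 : Q := act 1 n20869
theorem D22682 : act 1 n20869 = n22682 := rfl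
theorem F43514 : act 2 n22682 = n20873 := d5_2 D20869 D22682 (iv D20873) (iv D18388) (iv F33316)
def n22683 : Q := act 3 n20869
theorem D22683 : act 3 n20869 = n22683 := rfl
theorem F43515 : act 0 n22683 = n22664 := d2_1 D22683 F43476 F41602
theorem F43516 : act 2 n22683 = n22542 := d9_1 D22683 (iv D22542) F38729 (iv F33387) (iv F37677) (iv F41600) F41599 D21857 F41608 (iv D20776) F33036 F26645 (iv F26972) D18384 D20869
def n22684 : Q := act 1 n20871
theorem D22684 : act 1 n20871 = n22684 := rfl
theorem F43517 : act 4 n22684 = n20873 := d7_2 (iv F39216) D22684 (iv D20873)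
def n22685 : Q := act 3 n20871
theorem D22685 : act 3 n20871 = n22685 := rfl
theorem F43518 : act 0 n22685 = n20876 := d2_1 D22685 (iv D20876) (iv F39215)
def n22686 : Q := act 5 n20871
theorem D22686 : act 5 n20871 = n22686 := rfl
theorem F43519 : act 0 n22686 = n20877 := d4_1 D22686 (iv D20877) (iv F39215)
theorem F43520 : act 2 n22686 = n20872 := d11_1 D22686 (iv D20872) D20871
def n22687 : Q := act 0 n20873
theorem D22687 : act 0 n20873 = n22687 := rfl
theorem F43521 : act 1 n22687 = n20878 := d0_2 D20873 D22687 (iv D20878) (iv D18392) (iv F33324)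
def n22688 : Q := act 0 n20875
theorem D22688 : act 0 n20875 = n22688 := rfl
theorem F43522 : act 4 n22688 = n20878 := d3_2 (iv F39221) D22688 (iv D20878)
def n22689 : Q := act 3 n20875
theorem D22689 : act 3 n20875 = n22689 := rfl
theorem F43523 : act 1 n22689 = n20876 := d6_1 D22689 (iv D20876) D20875
def n22690 : Q := act 5 n20875
theorem D22690 : act 5 n20875 = n22690 := rfl
theorem F43524 : act 1 n22690 = n20877 := d8_1 D22690 (iv D20877) D20875
def n22691 : Q := act 2 n20876
theorem D22691 : act 2 n20876 = n22691 := rfl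
theorem F43525 : act 3 n22691 = n20877 := d15_3 D18390 D20876 D22691 F39222 F33328 (iv F33323) (iv F39218) (iv D20872) F33320
theorem F43526 : act 5 n20876 = n22691 := d13_0 F43525 (iv D20877) D20876
def n22692 : Q := act 4 n20876
theorem D22692 : act 4 n20876 = n22692 := rfl
theorem F43527 : act 3 n22692 = n20880 := d12_1 D22692 (iv D20880) (iv D18393) (iv F33327) D20876
def n22693 : Q := act 3 n20878
theorem D22693 : act 3 n20878 = n22693 := rfl
theorem F43528 : act 0 n22693 = n20879 := d2_1 D22693 (iv D20879) D20878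
theorem F43529 : act 2 n22693 = n21360 := d9_1 D22693 F40379 (iv F37090) (iv D19989) F30769 D17231 D19992 (iv F40945) F40944 (iv F35501) (iv F37262) F37263 (iv F37034) (iv F41567) F41566
theorem F43530 : act 5 n22693 = n21358 := d13_2 F41563 D22693 F41561
def n22694 : Q := act 4 n20879
theorem D22694 : act 4 n20879 = n22694 := rfl
theorem F43531 : act 1 n22694 = n20880 := d7_1 D22694 (iv D20880) (iv F39223)
def n22695 : Q := act 2 n20882
theorem D22695 : act 2 n20882 = n22695 := rfl
theorem F43532 : act 0 n22695 = n20888 := d1_1 D22695 (iv D20888) (iv F39225)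
theorem F43533 : act 1 n22695 = n22235 := d5_1 D22695 F42473 F38847 D20924 (iv F39307)
theorem F43534 : act 4 n22695 = n22572 := d10_2 F39309 D22695 F43260
theorem F43535 : act 5 n22695 = n22231 := d11_2 F42855 D22695 F42856
def n22696 : Q := act 1 n20883
theorem D22696 : act 1 n20883 = n22696 := rfl
theorem F43536 : act 4 n22696 = n20884 := d7_2 (iv F39227) D22696 (iv D20884)
def n22697 : Q := act 3 n20883
theorem D22697 : act 3 n20883 = n22697 := rfl
theorem F43537 : act 0 n22697 = n20889 := d2_1 D22697 (iv D20889) (iv F39226)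
def n22698 : Q := act 0 n20884
theorem D22698 : act 0 n20884 = n22698 := rfl
theorem F43538 : act 1 n22698 = n20890 := d0_2 D20884 D22698 (iv D20890) (iv D18413) (iv F33348)
theorem F43539 : act 2 n22698 = n22312 := d1_2 F41112 D22698 F42669
theorem F43540 : act 3 n22698 = n22302 := d2_2 (iv F39228) D22698 F42640
theorem F43541 : act 5 n22698 = n20893 := d4_2 (iv F39229) D22698 (iv D20893)
def n22699 : Q := act 2 n20886
theorem D22699 : act 2 n20886 = n22699 := rfl
theorem F43542 : act 0 n22699 = n22572 := d1_1 D22699 F43260 (iv F39310)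
theorem F43543 : act 4 n22699 = n20888 := d10_2 (iv F39236) D22699 (iv D20888)
theorem F43544 : act 5 n22699 = n21408 := d11_2 (iv F39237) D22699 F40494
def n22700 : Q := act 2 n20887
theorem D22700 : act 2 n20887 = n22700 := rfl
theorem F43545 : act 0 n22700 = n22231 := d1_1 D22700 F42856 F42852
theorem F43546 : act 1 n22700 = n21416 := d5_1 D22700 F40516 F35034 (iv F35022) (iv F39238)
theorem F43547 : act 4 n22700 = n21409 := d10_2 (iv F39239) D22700 F40497
theorem F43548 : act 5 n22700 = n20888 := d11_2 (iv F39240) D22700 (iv D20888)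
def n22701 : Q := act 1 n20888
theorem D22701 : act 1 n20888 = n22701 := rfl
theorem F43549 : act 2 n22701 = n21417 := d5_2 D20888 D22701 F40517 (iv F39175) F39174
theorem F43550 : act 5 n22701 = n21416 := d8_2 F43548 D22701 (iv F43546)
def n22702 : Q := act 3 n20888
theorem D22702 : act 3 n20888 = n22702 := rfl
def n22703 : Q := act 2 n20889
theorem D22703 : act 2 n20889 = n22703 := rfl
theorem F43551 : act 1 n22703 = n22234 := d5_1 D22703 F42472 (iv F43149) F43150 F43036
theorem F43552 : act 3 n22703 = n22231 := d15_3 D18412 D20889 D22703 F42856 (iv D22392) F38212 (iv F35740) F35741 F33346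
theorem F43553 : act 4 n22232 = n22703 := d12_0 F43552 (iv D22231) (iv D20179) D20180 D22232
def n22704 : Q := act 4 n20889
theorem D22704 : act 4 n20889 = n22704 := rfl
theorem F43554 : act 2 n22704 = n22232 := d10_1 D22704 F43553 (iv D22703)
theorem F43555 : act 3 n22704 = n20892 := d12_1 D22704 (iv D20892) (iv D18414) (iv F33365) D20889
def n22705 : Q := act 3 n20890
theorem D22705 : act 3 n20890 = n22705 := rfl
theorem F43556 : act 0 n22705 = n20891 := d2_1 D22705 (iv D20891) D20890
theorem F43557 : act 1 n22705 = n22302 := d6_1 D22705 (iv F43540) F43538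
theorem F43558 : act 5 n22705 = n20894 := d13_2 (iv F39242) D22705 (iv D20894)
def n22706 : Q := act 2 n20891
theorem D22706 : act 2 n20891 = n22706 := rfl
theorem F43559 : act 5 n22706 = n20895 := d11_2 (iv F39244) D22706 (iv D20895)
def n22707 : Q := act 4 n20891
theorem D22707 : act 4 n20891 = n22707 := rfl
theorem F43560 : act 1 n22707 = n20892 := d7_1 D22707 (iv D20892) (iv F39243)
def n22708 : Q := act 5 n20892
theorem D22708 : act 5 n20892 = n22708 := rfl
theorem F43561 : act 4 n22708 = n20897 := d14_1 D22708 (iv D20897) (iv D18423) (iv F33368) D20892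
def n22709 : Q := act 2 n20894
theorem D22709 : act 2 n20894 = n22709 := rfl
theorem F43562 : act 0 n22709 = n20895 := d1_1 D22709 (iv D20895) (iv F39248)
def n22710 : Q := act 3 n20895
theorem D22710 : act 3 n20895 = n22710 := rfl
theorem F43563 : act 1 n22710 = n22129 := d6_1 D22710 (iv F42347) F42345
theorem F43564 : act 4 n22108 = n22710 := d7_0 F43563 (iv D22129) (iv F42192)
def n22711 : Q := act 4 n20895
theorem D22711 : act 4 n20895 = n22711 := rfl
theorem F43565 : act 1 n22711 = n22130 := d7_1 D22711 (iv F42346) F42345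
theorem F43566 : act 2 n22711 = n20896 := d10_1 D22711 (iv D20896) D20895
theorem F43567 : act 3 n22711 = n22109 := d12_1 D22711 (iv D22109) (iv F42194) F43564 (iv D22710)
def n22712 : Q := act 5 n20896
theorem D22712 : act 5 n20896 = n22712 := rfl
theorem F43568 : act 1 n22712 = n20897 := d8_1 D22712 (iv D20897) (iv F39249)
def n22713 : Q := act 3 n20898
theorem D22713 : act 3 n20898 = n22713 := rfl
theorem F43569 : act 0 n22713 = n20899 := d2_1 D22713 (iv D20899) (iv F39250)
def n22714 : Q := act 2 n20899
theorem D22714 : act 2 n20899 = n22714 := rfl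
theorem F43570 : act 1 n22714 = n21180 := d5_1 D22714 (iv D21180) F34220 D18790 (iv F39251)
def n22715 : Q := act 4 n20899
theorem D22715 : act 4 n20899 = n22715 := rfl
theorem F43571 : act 1 n22715 = n21182 := d7_1 D22715 (iv D21182) (iv F39251)
theorem F43572 : act 5 n22715 = n22537 := d14_2 (iv F42283) D22715 (iv D22537) F38700 D22142
def n22716 : Q := act 3 n20900
theorem D22716 : act 3 n20900 = n22716 := rfl
theorem F43573 : act 0 n22716 = n21173 := d2_1 D22716 F39900 (iv F39252)
theorem F43574 : act 1 n22716 = n22449 := d6_1 D22716 (iv D22449) (iv F39253)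
theorem F43575 : act 4 n22716 = n22466 := d12_2 (iv F39254) D22716 (iv D22466) (iv D20548) (iv F38331)
theorem F43576 : act 2 n22716 = n21172 := d15_2 D20900 D22716 (iv D21172) (iv F38057) F38058 (iv F37669) (iv F42540) (iv D22265) F37665
def n22717 : Q := act 5 n20900
theorem D22717 : act 5 n20900 = n22717 := rfl
theorem F43577 : act 0 n22717 = n22426 := d4_1 D22717 F42918 (iv F39252)
theorem F43578 : act 1 n22717 = n22371 := d8_1 D22717 F42812 (iv F39253)
theorem F43579 : act 2 n22717 = n20901 := d11_1 D22717 (iv D20901) D20900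
theorem F43580 : act 4 n22717 = n22422 := d14_1 D22717 (iv D22422) F38310 D20501 (iv F39254)
def n22718 : Q := act 4 n20901
theorem D22718 : act 4 n20901 = n22718 := rfl
theorem F43581 : act 0 n22718 = n22415 := d3_1 D22718 F42895 F42538
theorem F43582 : act 1 n22718 = n20902 := d7_1 D22718 (iv D20902) (iv F39255)
theorem F43583 : act 2 n22718 = n22422 := d10_1 D22718 (iv F43580) F43579
theorem F43584 : act 5 n22718 = n22413 := d14_2 D20901 D22718 F42888 (iv F38274) F33390
def n22719 : Q := act 3 n20902
theorem D22719 : act 3 n20902 = n22719 := rfl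
theorem F43585 : act 0 n22719 = n22359 := d2_1 D22719 (iv D22359) (iv F39257)
theorem F43586 : act 4 n22719 = n20903 := d12_2 D20902 D22719 (iv D20903) (iv D18430) (iv F33395)
theorem F43587 : act 5 n22719 = n22416 := d13_2 (iv F39259) D22719 (iv D22416)
def n22720 : Q := act 2 n20903
theorem D22720 : act 2 n20903 = n22720 := rfl
theorem F43588 : act 3 n22720 = n22083 := d15_1 D22720 (iv D22083) (iv D19963) F30692 F24175 (iv F30044) D19637 D21820 F41508
def n22721 : Q := act 1 n20904
theorem D22721 : act 1 n20904 = n22721 := rfl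
theorem F43589 : act 0 n22721 = n21165 := d0_1 D22721 F39887 F34186 (iv F33399) (iv F39260)
theorem F43590 : act 5 n22721 = n21163 := d8_2 (iv F39261) D22721 F39884
def n22722 : Q := act 3 n20904
theorem D22722 : act 3 n20904 = n22722 := rfl
theorem F43591 : act 0 n22722 = n20905 := d2_1 D22722 (iv D20905) (iv F39260)
theorem F43592 : act 5 n22722 = n21172 := d13_2 (iv F39261) D22722 (iv D21172)
def n22723 : Q := act 2 n20905
theorem D22723 : act 2 n20905 = n22723 := rfl
theorem F43593 : act 1 n22723 = n22430 := d5_1 D22723 F42926 F40911 F35448 (iv F39262)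
theorem F43594 : act 3 n22723 = n22426 := d9_2 D20905 D22723 F42917 F42540 F37669 (iv F38058) F38057 D21172 (iv F43576) (iv D22716) (iv D20900) (iv D18427) F27062 D15477 D18433
theorem F43595 : act 5 n22723 = n21173 := d11_2 (iv F39263) D22723 (iv D21173)
def n22724 : Q := act 4 n20905
theorem D22724 : act 4 n20905 = n22724 := rfl
theorem F43596 : act 1 n22724 = n21177 := d7_1 D22724 (iv D21177) (iv F39262)
def n22725 : Q := act 2 n20906
theorem D22725 : act 2 n20906 = n22725 := rfl
theorem F43597 : act 0 n22725 = n20909 := d1_1 D22725 (iv D20909) (iv F39264)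
theorem F43598 : act 4 n22725 = n20908 := d10_2 (iv F39266) D22725 (iv D20908)
def n22726 : Q := act 5 n20906
theorem D22726 : act 5 n20906 = n22726 := rfl
theorem F43599 : act 0 n22726 = n20910 := d4_1 D22726 (iv D20910) (iv F39264)
theorem F43600 : act 1 n22726 = n22026 := d8_1 D22726 (iv D22026) (iv F39265)
theorem F43601 : act 3 n22726 = n20907 := d13_1 D22726 (iv D20907) D20906
def n22727 : Q := act 1 n20908
theorem D22727 : act 1 n20908 = n22727 := rfl
def n22728 : Q := act 1 n20909
theorem D22728 : act 1 n20909 = n22728 := rfl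
theorem F43602 : act 2 n22728 = n21959 := d5_2 D20909 D22728 (iv D21959) (iv D19811) (iv F33409)
theorem F43603 : act 4 n22728 = n20911 := d7_2 (iv F39272) D22728 (iv D20911)
def n22729 : Q := act 3 n20909
theorem D22729 : act 3 n20909 = n22729 := rfl
def n22730 : Q := act 5 n20909
theorem D22730 : act 5 n20909 = n22730 := rfl
theorem F43604 : act 2 n22730 = n20910 := d11_1 D22730 (iv D20910) D20909
def n22731 : Q := act 4 n20910
theorem D22731 : act 4 n20910 = n22731 := rfl
theorem F43605 : act 1 n22731 = n21960 := d7_1 D22731 (iv D21960) (iv F39273)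
theorem F43606 : act 3 n22731 = n22024 := d12_1 D22731 (iv D22024) F36855 (iv F33412) (iv F39274)
theorem F43607 : act 5 n22731 = n20914 := d14_2 D20910 D22731 (iv D20914) (iv D18440) (iv F33410)
def n22732 : Q := act 0 n20911
theorem D22732 : act 0 n20911 = n22732 := rfl
theorem F43608 : act 2 n22732 = n21961 := d1_2 (iv F39275) D22732 (iv D21961)
def n22733 : Q := act 3 n20911
theorem D22733 : act 3 n20911 = n22733 := rfl
theorem F43609 : act 1 n22733 = n20912 := d6_1 D22733 (iv D20912) D20911
def n22734 : Q := act 5 n20911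
theorem D22734 : act 5 n20911 = n22734 := rfl
theorem F43610 : act 1 n22734 = n20913 := d8_1 D22734 (iv D20913) D20911
theorem F43611 : act 2 n22734 = n21962 := d11_1 D22734 (iv D21962) (iv F39275)
def n22735 : Q := act 4 n20912
theorem D22735 : act 4 n20912 = n22735 := rfl
def n22736 : Q := act 4 n20913
theorem D22736 : act 4 n20913 = n22736 := rfl
theorem F43612 : act 2 n22736 = n20914 := d10_1 D22736 (iv D20914) (iv F39276)
def n22737 : Q := act 3 n20915
theorem D22737 : act 3 n20915 = n22737 := rfl
theorem F43613 : act 0 n22737 = n20916 := d2_1 D22737 (iv D20916) D20915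
theorem F43614 : act 1 n22737 = n21968 := d6_1 D22737 F41882 (iv F39279)
theorem F43615 : act 4 n22737 = n22545 := d12_2 (iv F39281) D22737 (iv D22545) (iv D20686) F36610
theorem F43616 : act 5 n22737 = n21966 := d13_2 F39282 D22737 (iv D21966)
def n22738 : Q := act 2 n20916
theorem D22738 : act 2 n20916 = n22738 := rfl
def n22739 : Q := act 4 n20916
theorem D22739 : act 4 n20916 = n22739 := rfl
theorem F43617 : act 0 n22739 = n22545 := d3_1 D22739 (iv F43615) F43613
theorem F43618 : act 1 n22739 = n20918 := d7_1 D22739 (iv D20918) (iv F39283)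
theorem F43619 : act 3 n22739 = n21921 := d12_1 D22739 (iv D21921) (iv D19764) (iv F33425) D20916
theorem F43620 : act 5 n22543 = n22739 := d13_0 F43619 F41761 D22543
def n22740 : Q := act 5 n20916
theorem D22740 : act 5 n20916 = n22740 := rfl
theorem F43621 : act 0 n22740 = n21966 := d4_1 D22740 (iv F43616) F43613
theorem F43622 : act 1 n22740 = n20919 := d8_1 D22740 (iv D20919) (iv F39283)
theorem F43623 : act 3 n22740 = n20917 := d13_1 D22740 (iv D20917) D20916
theorem F43624 : act 4 n22740 = n22363 := d14_1 D22740 F42797 (iv F43169) F43620 (iv D22739)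
def n22741 : Q := act 5 n20918
theorem D22741 : act 5 n20918 = n22741 := rfl
theorem F43625 : act 0 n22741 = n22651 := d4_1 D22741 F43448 F41415
theorem F43626 : act 1 n22741 = n22543 := d8_1 D22741 F43620 F43618
theorem F43627 : act 3 n22741 = n21922 := d13_1 D22741 (iv D21922) (iv F39288)
theorem F43628 : act 4 n22741 = n22542 := d14_1 D22741 (iv F43386) F43385 (iv D20919) D20918
def n22742 : Q := act 2 n20920
theorem D22742 : act 2 n20920 = n22742 := rfl
theorem F43629 : act 0 n22742 = n20922 := d1_1 D22742 (iv D20922) (iv F39291)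
theorem F43630 : act 4 n22742 = n21949 := d10_2 (iv F39293) D22742 (iv D21949)
def n22743 : Q := act 3 n20922
theorem D22743 : act 3 n20922 = n22743 := rfl
def n22744 : Q := act 1 n20927
theorem D22744 : act 1 n20927 = n22744 := rfl
theorem F43631 : act 4 n22744 = n21978 := d7_2 (iv F39317) D22744 F41909
theorem F43632 : act 5 n22744 = n20931 := d8_2 (iv F39318) D22744 (iv D20931)
def n22745 : Q := act 0 n20928
theorem D22745 : act 0 n20928 = n22745 := rfl
theorem F43633 : act 2 n22745 = n20930 := d1_2 (iv F39319) D22745 (iv D20930)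
theorem F43634 : act 4 n22745 = n21965 := d3_2 (iv F39320) D22745 F41872
theorem F43635 : act 5 n22745 = n20933 := d4_2 (iv F39321) D22745 (iv D20933)
def n22746 : Q := act 3 n20928
theorem D22746 : act 3 n20928 = n22746 := rfl
theorem F43636 : act 1 n22746 = n20929 := d6_1 D22746 (iv D20929) D20928
theorem F43637 : act 4 n22746 = n21975 := d12_2 (iv F39320) D22746 (iv D21975) (iv D19832) (iv F36758)
theorem F43638 : act 5 n22746 = n20934 := d13_2 (iv F39321) D22746 (iv D20934)
def n22747 : Q := act 0 n20931
theorem D22747 : act 0 n20931 = n22747 := rfl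
theorem F43639 : act 1 n22747 = n20933 := d0_2 D20931 D22747 (iv D20933) (iv D18469) (iv F33494)
theorem F43640 : act 2 n22747 = n22463 := d1_2 F43219 D22747 (iv F43217)
theorem F43641 : act 4 n22747 = n21463 := d3_2 F43180 D22747 F43181
def n22748 : Q := act 3 n20931
theorem D22748 : act 3 n20931 = n22748 := rfl
theorem F43642 : act 1 n22748 = n20932 := d6_1 D22748 (iv D20932) D20931
def n22749 : Q := act 4 n20932
theorem D22749 : act 4 n20932 = n22749 := rfl
theorem F43643 : act 0 n22749 = n20936 := d3_1 D22749 (iv D20936) (iv F39326)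
theorem F43644 : act 3 n22749 = n22388 := d12_1 D22749 (iv D22388) (iv F38743) F38742 D20932
def n22750 : Q := act 3 n20933
theorem D22750 : act 3 n20933 = n22750 := rfl
theorem F43645 : act 0 n22750 = n20934 := d2_1 D22750 (iv D20934) D20933
def n22751 : Q := act 2 n20934
theorem D22751 : act 2 n20934 = n22751 := rfl
def n22752 : Q := act 4 n20934
theorem D22752 : act 4 n20934 = n22752 := rfl
theorem F43646 : act 1 n22752 = n20936 := d7_1 D22752 (iv D20936) (iv F39328)
def n22753 : Q := act 1 n20935
theorem D22753 : act 1 n20935 = n22753 := rfl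
def n22754 : Q := act 4 n20935
theorem D22754 : act 4 n20935 = n22754 := rfl
theorem F43647 : act 2 n22754 = n20936 := d10_1 D22754 (iv D20936) D20935
theorem F43648 : act 5 n22754 = n22070 := d14_2 F43286 D22754 (iv F43439) F43440 F43287
theorem F43649 : act 3 n22071 = n22754 := d13_3 F43648 (iv D22070) D22071
def n22755 : Q := act 5 n20936
theorem D22755 : act 5 n20936 = n22755 := rfl
theorem F43650 : act 2 n22755 = n22070 := d11_1 D22755 (iv F43648) F43647
theorem F43651 : act 4 n22755 = n21983 := d14_1 D22755 (iv D21983) (iv F39322) F39323 D20936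
def n22756 : Q := act 2 n20937
theorem D22756 : act 2 n20937 = n22756 := rfl
theorem F43652 : act 0 n22756 = n20938 := d1_1 D22756 (iv D20938) (iv F39329)
def n22757 : Q := act 3 n20938
theorem D22757 : act 3 n20938 = n22757 := rfl
theorem F43653 : act 1 n22757 = n20953 := d6_1 D22757 F39373 (iv F39330)
def n22758 : Q := act 3 n20942
theorem D22758 : act 3 n20942 = n22758 := rfl
theorem F43654 : act 1 n22758 = n20943 := d6_1 D22758 (iv D20943) (iv F39345)
theorem F43655 : act 4 n22758 = n21140 := d12_2 D20942 D22758 F39837 F34152 (iv F33556)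
theorem F43656 : act 5 n22758 = n21141 := d13_2 F39499 D22758 F39838
def n22759 : Q := act 2 n20943
theorem D22759 : act 2 n20943 = n22759 := rfl
theorem F43657 : act 0 n22759 = n20953 := d1_1 D22759 (iv D20953) (iv F39346)
theorem F43658 : act 3 n22759 = n20960 := d9_2 D20943 D22759 F39387 F33588 F27290 (iv F27266) (iv F33579) (iv F39374) (iv F43315) (iv D22590) (iv D20747) (iv D18226) F26559 (iv F27252) (iv F33559)
theorem F43659 : act 4 n22759 = n21652 := d10_2 (iv F39347) D22759 (iv D21652)
theorem F43660 : act 5 n22759 = n20959 := d11_2 F43272 D22759 (iv F43270)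
def n22760 : Q := act 4 n20944
theorem D22760 : act 4 n20944 = n22760 := rfl
theorem F43661 : act 0 n22760 = n20947 := d3_1 D22760 (iv D20947) (iv F39348)
theorem F43662 : act 1 n22760 = n21095 := d7_1 D22760 (iv D21095) (iv F39349)
theorem F43663 : act 2 n22760 = n21658 := d10_1 D22760 (iv D21658) (iv F39350)
theorem F43664 : act 5 n22760 = n21102 := d14_2 (iv F39351) D22760 (iv D21102) (iv D18703) (iv F34079)
def n22761 : Q := act 3 n20945
theorem D22761 : act 3 n20945 = n22761 := rfl
theorem F43665 : act 0 n22761 = n20948 := d2_1 D22761 (iv D20948) (iv F39352)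
def n22762 : Q := act 5 n20945
theorem D22762 : act 5 n20945 = n22762 := rfl
theorem F43666 : act 0 n22762 = n20949 := d4_1 D22762 (iv D20949) (iv F39352)
theorem F43667 : act 1 n22762 = n22679 := d8_1 D22762 F43506 F40474
theorem F43668 : act 2 n22762 = n20956 := d11_1 D22762 (iv D20956) (iv F39353)
theorem F43669 : act 4 n22762 = n21933 := d14_1 D22762 (iv D21933) (iv D19779) (iv F33568) D20945
def n22763 : Q := act 4 n20946
theorem D22763 : act 4 n20946 = n22763 := rfl
theorem F43670 : act 0 n22763 = n21658 := d3_1 D22763 (iv D21658) (iv F39354)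
theorem F43671 : act 1 n22763 = n21646 := d7_1 D22763 (iv D21646) (iv F39355)
theorem F43672 : act 2 n22763 = n20947 := d10_1 D22763 (iv D20947) D20946
def n22764 : Q := act 3 n20947
theorem D22764 : act 3 n20947 = n22764 := rfl
theorem F43673 : act 1 n22764 = n20950 := d6_1 D22764 (iv D20950) (iv F39358)
theorem F43674 : act 4 n22764 = n20948 := d12_2 D20947 D22764 (iv D20948) (iv D18496) D18495
def n22765 : Q := act 5 n20947
theorem D22765 : act 5 n20947 = n22765 := rfl
theorem F43675 : act 0 n22765 = n21102 := d4_1 D22765 (iv F43664) F43661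
theorem F43676 : act 1 n22765 = n20951 := d8_1 D22765 (iv D20951) (iv F39358)
theorem F43677 : act 4 n22765 = n21101 := d14_1 D22765 (iv D21101) F34094 (iv F33570) D20947
def n22766 : Q := act 2 n20948
theorem D22766 : act 2 n20948 = n22766 := rfl
def n22767 : Q := act 5 n20948
theorem D22767 : act 5 n20948 = n22767 := rfl
theorem F43678 : act 1 n22767 = n20954 := d8_1 D22767 (iv D20954) (iv F39359)
theorem F43679 : act 3 n22767 = n20949 := d13_1 D22767 (iv D20949) D20948
def n22768 : Q := act 2 n20950
theorem D22768 : act 2 n20950 = n22768 := rfl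
theorem F43680 : act 0 n22768 = n21652 := d1_1 D22768 (iv D21652) (iv F39363)
theorem F43681 : act 4 n22768 = n20953 := d10_2 (iv F39364) D22768 (iv D20953)
def n22769 : Q := act 5 n20950
theorem D22769 : act 5 n20950 = n22769 := rfl
theorem F43682 : act 0 n22769 = n21137 := d4_1 D22769 (iv F39834) (iv F39363)
theorem F43683 : act 3 n22769 = n20951 := d13_1 D22769 (iv D20951) D20950
theorem F43684 : act 4 n22769 = n21135 := d14_1 D22769 (iv F43263) F43262 (iv D20954) (iv F39364)
def n22770 : Q := act 2 n20955
theorem D22770 : act 2 n20955 = n22770 := rfl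
theorem F43685 : act 0 n22770 = n20957 := d1_1 D22770 (iv D20957) (iv F39375)
theorem F43686 : act 4 n22770 = n21934 := d10_2 (iv F39377) D22770 (iv D21934)
theorem F43687 : act 5 n22770 = n21973 := d11_2 F39378 D22770 F41894
def n22771 : Q := act 3 n20957
theorem D22771 : act 3 n20957 = n22771 := rfl
theorem F43688 : act 1 n22771 = n21983 := d6_1 D22771 F41914 (iv F39383)
theorem F43689 : act 5 n22771 = n21975 := d13_2 (iv F39385) D22771 (iv D21975)
def n22772 : Q := act 0 n20958
theorem D22772 : act 0 n20958 = n22772 := rfl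
def n22773 : Q := act 3 n20958
theorem D22773 : act 3 n20958 = n22773 := rfl
theorem F43690 : act 1 n22773 = n20959 := d6_1 D22773 (iv D20959) D20958
def n22774 : Q := act 5 n20958
theorem D22774 : act 5 n20958 = n22774 := rfl
theorem F43691 : act 1 n22774 = n20960 := d8_1 D22774 (iv D20960) D20958
def n22775 : Q := act 4 n20960
theorem D22775 : act 4 n20960 = n22775 := rfl
theorem F43692 : act 0 n22775 = n21948 := d3_1 D22775 F41838 (iv F39386)
theorem F43693 : act 2 n22775 = n20961 := d10_1 D22775 (iv D20961) (iv F39387)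
theorem F43694 : act 5 n22775 = n22062 := d14_2 D20960 D22775 (iv D22062) F39017 F39015
def n22776 : Q := act 5 n20963
theorem D22776 : act 5 n20963 = n22776 := rfl
theorem F43695 : act 0 n22776 = n20966 := d4_1 D22776 (iv D20966) (iv F39396)
theorem F43696 : act 1 n22776 = n21667 := d8_1 D22776 (iv D21667) (iv F39397)
theorem F43697 : act 2 n22776 = n20970 := d11_1 D22776 F39418 (iv F39399)
theorem F43698 : act 3 n22776 = n20964 := d13_1 D22776 (iv D20964) D20963
theorem F43699 : act 4 n22776 = n22067 := d14_1 D22776 (iv D22067) (iv D19939) (iv F33596) (iv F39398)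
def n22777 : Q := act 1 n20965
theorem D22777 : act 1 n20965 = n22777 := rfl
theorem F43700 : act 0 n22777 = n20967 := d0_1 D22777 (iv D20967) F33607 (iv F36948) (iv F39404)
theorem F43701 : act 2 n22777 = n21654 := d5_2 D20965 D22777 (iv D21654) (iv D19393) (iv F33602)
theorem F43702 : act 3 n22777 = n22048 := d6_2 (iv F39406) D22777 F42064
theorem F43703 : act 4 n22777 = n20967 := d7_2 (iv F39405) D22777 (iv D20967)
theorem F43704 : act 5 n22068 = n22777 := d11_0 F43701 (iv F42571) F42570
def n22778 : Q := act 5 n20965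
theorem D22778 : act 5 n20965 = n22778 := rfl
theorem F43705 : act 0 n22778 = n20970 := d4_1 D22778 F39418 (iv F39404)
theorem F43706 : act 1 n22778 = n22068 := d8_1 D22778 F43704 (iv D22777)
theorem F43707 : act 2 n22778 = n20966 := d11_1 D22778 (iv D20966) D20965
theorem F43708 : act 3 n22778 = n20969 := d13_1 D22778 F39416 (iv F39406)
theorem F43709 : act 4 n22778 = n22071 := d14_1 D22778 (iv D22071) (iv D19941) (iv F33608) (iv F39405)
def n22779 : Q := act 0 n20968
theorem D22779 : act 0 n20968 = n22779 := rfl
theorem F43710 : act 1 n22779 = n20969 := d0_2 D20968 D22779 (iv D20969) (iv D18514) (iv F33610)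
theorem F43711 : act 3 n22779 = n22068 := d2_2 (iv F39413) D22779 (iv D22068)
theorem F43712 : act 5 n22779 = n22048 := d4_2 (iv F39414) D22779 (iv D22048)
def n22780 : Q := act 4 n20970
theorem D22780 : act 4 n20970 = n22780 := rfl
theorem F43713 : act 0 n22780 = n22071 := d3_1 D22780 (iv F43709) F43705
theorem F43714 : act 1 n22780 = n20971 := d7_1 D22780 (iv D20971) (iv F39417)
theorem F43715 : act 2 n22780 = n22067 := d10_1 D22780 (iv F43699) F43697
theorem F43716 : act 5 n22780 = n20971 := d14_2 (iv F39418) D22780 (iv D20971) F33617 (iv F36949)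
def n22781 : Q := act 4 n20973
theorem D22781 : act 4 n20973 = n22781 := rfl
theorem F43717 : act 0 n22781 = n20989 := d3_1 D22781 F39471 (iv F39425)
theorem F43718 : act 1 n22781 = n21120 := d7_1 D22781 F39811 (iv F39426)
theorem F43719 : act 2 n22781 = n20985 := d10_1 D22781 (iv F39927) F39926
theorem F43720 : act 3 n22781 = n21239 := d12_1 D22781 F40106 F38230 F34171 (iv F39427)
theorem F43721 : act 5 n22781 = n20974 := d14_2 D20973 D22781 (iv D20974) (iv D18521) (iv F33625)
def n22782 : Q := act 3 n20975
theorem D22782 : act 3 n20975 = n22782 := rfl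
theorem F43722 : act 0 n22782 = n20980 := d2_1 D22782 (iv D20980) (iv F39432)
theorem F43723 : act 1 n22782 = n20986 := d6_1 D22782 (iv D20986) (iv F39433)
theorem F43724 : act 4 n22782 = n20986 := d12_2 (iv F39434) D22782 (iv D20986) (iv D18535) (iv F33641)
def n22783 : Q := act 5 n20975
theorem D22783 : act 5 n20975 = n22783 := rfl
theorem F43725 : act 0 n22783 = n20979 := d4_1 D22783 (iv F39446) (iv F39432)
theorem F43726 : act 1 n22783 = n20982 := d8_1 D22783 F39453 (iv F39433)
theorem F43727 : act 2 n22783 = n20976 := d11_1 D22783 (iv D20976) D20975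
theorem F43728 : act 4 n22783 = n20981 := d14_1 D22783 F39449 F33657 (iv F33642) (iv F39434)
def n22784 : Q := act 1 n20977
theorem D22784 : act 1 n20977 = n22784 := rfl
theorem F43729 : act 0 n22784 = n21501 := d0_1 D22784 (iv D21501) (iv F40050) F40051 (iv F39439)
theorem F43730 : act 2 n22784 = n21024 := d5_2 D20977 D22784 (iv D21024) (iv D18601) (iv F33644)
theorem F43731 : act 4 n22784 = n21225 := d7_2 (iv F39440) D22784 F40057
def n22785 : Q := act 3 n20977
theorem D22785 : act 3 n20977 = n22785 := rfl
theorem F43732 : act 0 n22785 = n22401 := d2_1 D22785 (iv D22401) (iv F39439)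
theorem F43733 : act 4 n22785 = n22401 := d12_2 (iv F39440) D22785 (iv D22401) (iv D20460) (iv F38227)
def n22786 : Q := act 5 n20977
theorem D22786 : act 5 n20977 = n22786 := rfl
theorem F43734 : act 0 n22786 = n22402 := d4_1 D22786 (iv D22402) (iv F39439)
theorem F43735 : act 2 n22786 = n20978 := d11_1 D22786 (iv D20978) D20977
def n22787 : Q := act 4 n20978
theorem D22787 : act 4 n20978 = n22787 := rfl
theorem F43736 : act 0 n22787 = n21239 := d3_1 D22787 F40106 (iv F39441)
theorem F43737 : act 1 n22787 = n21027 := d7_1 D22787 (iv D21027) (iv F39442)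
theorem F43738 : act 3 n22787 = n20989 := d12_1 D22787 F39471 F33751 (iv F33648) (iv F39443)
theorem F43739 : act 5 n22787 = n20988 := d14_2 D20978 D22787 F39468 F34611 (iv F33645)
def n22788 : Q := act 3 n20979
theorem D22788 : act 3 n20979 = n22788 := rfl
theorem F43740 : act 1 n22788 = n20980 := d6_1 D22788 (iv D20980) D20979
theorem F43741 : act 5 n22788 = n20980 := d13_2 F39446 D22788 (iv D20980)
theorem F43742 : act 2 n22788 = n22401 := d15_2 (iv F39444) D22788 (iv D22401) F38228 F32117 F27911 D18522 D20976 F39435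
def n22789 : Q := act 2 n20980
theorem D22789 : act 2 n20980 = n22789 := rfl
theorem F43743 : act 5 n22789 = n22401 := d11_2 F43741 D22789 (iv F43742)
theorem F43744 : act 3 n22789 = n22402 := d15_3 D18527 D20980 D22789 F42865 F38230 F34170 (iv F39437) (iv D20976) F33633
def n22790 : Q := act 4 n20980
theorem D22790 : act 4 n20980 = n22790 := rfl
theorem F43745 : act 0 n22790 = n20986 := d3_1 D22790 (iv F43724) F43722
theorem F43746 : act 3 n22790 = n20982 := d12_1 D22790 (iv D20982) (iv D18530) (iv F33649) D20980
theorem F43747 : act 5 n20986 = n22790 := d13_0 F43746 F39453 D20986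
def n22791 : Q := act 4 n20983
theorem D22791 : act 4 n20983 = n22791 := rfl
theorem F43748 : act 0 n22791 = n22524 := d3_1 D22791 F43119 F42588
theorem F43749 : act 1 n22791 = n21119 := d7_1 D22791 (iv D21119) (iv F39454)
theorem F43750 : act 2 n22791 = n20984 := d10_1 D22791 (iv D20984) D20983
def n22792 : Q := act 2 n20986
theorem D22792 : act 2 n20986 = n22792 := rfl
theorem F43751 : act 3 n22792 = n22527 := d15_1 D22792 (iv D22527) (iv D20651) F32631 (iv F27368) (iv F33665) D20986 F43747 F43745
def n22793 : Q := act 2 n20988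
theorem D22793 : act 2 n20988 = n22793 := rfl
theorem F43752 : act 0 n22793 = n21238 := d1_1 D22793 F40104 (iv F39466)
theorem F43753 : act 4 n22793 = n21237 := d10_2 (iv F39468) D22793 (iv D21237)
theorem F43754 : act 1 n22404 = n22793 := d7_3 F43753 (iv F40102) D22404
def n22794 : Q := act 1 n20990
theorem D22794 : act 1 n20990 = n22794 := rfl
theorem F43755 : act 0 n22794 = n21828 := d0_1 D22794 F41529 F36339 (iv F33720) (iv F39472)
theorem F43756 : act 2 n22794 = n21904 := d5_2 D20990 D22794 (iv D21904) (iv D19740) (iv F33673)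
theorem F43757 : act 3 n22794 = n22192 := d6_2 (iv F39473) D22794 F42392
theorem F43758 : act 4 n22794 = n20991 := d7_2 (iv F39474) D22794 (iv D20991)
theorem F43759 : act 5 n22794 = n21826 := d8_2 (iv F39475) D22794 F41523
def n22795 : Q := act 2 n20995
theorem D22795 : act 2 n20995 = n22795 := rfl
theorem F43760 : act 0 n22795 = n20996 := d1_1 D22795 (iv D20996) (iv F39489)
theorem F43761 : act 3 n22795 = n21460 := d9_2 D20995 D22795 F40596 F35154 (iv F35380) F35381 F32004 (iv F31994) (iv F38159) (iv F40034) F40033 F35150 (iv F31776) D20349 (iv F37953)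
theorem F43762 : act 4 n22795 = n21910 := d10_2 (iv F39491) D22795 (iv D21910)
theorem F43763 : act 5 n22795 = n21459 := d11_2 (iv F39492) D22795 F40595
def n22796 : Q := act 3 n20996
theorem D22796 : act 3 n20996 = n22796 := rfl
theorem F43764 : act 0 n22796 = n21460 := d2_1 D22796 (iv F43761) F43760
theorem F43765 : act 1 n22796 = n22495 := d6_1 D22796 (iv D22495) (iv F39493)
theorem F43766 : act 2 n22796 = n21456 := d9_1 D22796 F40589 (iv F37948) (iv F38163) F38162 (iv F38157) (iv F40595) (iv D21459) F35153 F28897 (iv F29168) (iv F33310) F33309 D18547 D20996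
theorem F43767 : act 4 n22796 = n21453 := d12_2 (iv F39494) D22796 F40585 F41741 (iv D21911)
theorem F43768 : act 5 n22796 = n21217 := d13_2 (iv F39495) D22796 F40034
def n22797 : Q := act 1 n21000
theorem D22797 : act 1 n21000 = n22797 := rfl
theorem F43769 : act 2 n22797 = n21927 := d5_2 D21000 D22797 F41783 (iv F39502) F39501
theorem F43770 : act 4 n22797 = n21954 := d7_2 (iv F39506) D22797 F41845
theorem F43771 : act 0 n21931 = n22797 := d1_3 F43769 F41782 D21931
def n22798 : Q := act 3 n21000
theorem D22798 : act 3 n21000 = n22798 := rfl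
theorem F43772 : act 0 n22798 = n22057 := d2_1 D22798 (iv D22057) (iv F39505)
theorem F43773 : act 2 n22798 = n21058 := d9_1 D22798 (iv D21058) F33942 (iv F32799) F32798 (iv F36934) (iv F42089) F42090 (iv D21889) (iv D19718) F30185 F23741 (iv F27424) D18555 D21000
def n22799 : Q := act 5 n21002
theorem D22799 : act 5 n21002 = n22799 := rfl
theorem F43774 : act 1 n22799 = n21003 := d8_1 D22799 (iv D21003) (iv F39511)
theorem F43775 : act 3 n22799 = n21061 := d13_1 D22799 (iv D21061) (iv F39512)
def n22800 : Q := act 3 n21005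
theorem D22800 : act 3 n21005 = n22800 := rfl
theorem F43776 : act 1 n22800 = n21006 := d6_1 D22800 (iv D21006) (iv F39518)
theorem F43777 : act 4 n22800 = n21803 := d12_2 D21005 D22800 (iv D21803) (iv D19620) (iv F33737)
def n22801 : Q := act 5 n21005
theorem D22801 : act 5 n21005 = n22801 := rfl
theorem F43778 : act 1 n22801 = n21007 := d8_1 D22801 (iv D21007) (iv F39518)
theorem F43779 : act 4 n22801 = n21835 := d14_1 D22801 (iv D21835) (iv D19653) (iv F33738) D21005
def n22802 : Q := act 2 n21006
theorem D22802 : act 2 n21006 = n22802 := rfl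
theorem F43780 : act 4 n22802 = n21836 := d10_2 (iv F39519) D22802 (iv D21836)
theorem F43781 : act 3 n22802 = n21345 := d15_3 (iv F33739) D21006 D22802 F40353 F34930 (iv F33967) (iv F39514) (iv D21003) F33733
theorem F43782 : act 5 n21344 = n22802 := d13_0 F43781 (iv D21345) D21344
def n22803 : Q := act 5 n21006
theorem D22803 : act 5 n21006 = n22803 := rfl
theorem F43783 : act 2 n22803 = n21344 := d11_1 D22803 F43782 (iv D22802)
theorem F43784 : act 3 n22803 = n21007 := d13_1 D22803 (iv D21007) D21006
def n22804 : Q := act 5 n21010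
theorem D22804 : act 5 n21010 = n22804 := rfl
theorem F43785 : act 0 n22804 = n21018 := d4_1 D22804 (iv D21018) (iv F39527)
theorem F43786 : act 1 n22804 = n21553 := d8_1 D22804 (iv D21553) (iv F39528)
theorem F43787 : act 2 n22804 = n21054 := d11_1 D22804 (iv D21054) F39530
theorem F43788 : act 3 n22804 = n21011 := d13_1 D22804 (iv D21011) D21010
theorem F43789 : act 4 n22804 = n22480 := d14_1 D22804 (iv D22480) (iv D20564) (iv F33802) (iv F39529)
def n22805 : Q := act 4 n21015
theorem D22805 : act 4 n21015 = n22805 := rfl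
theorem F43790 : act 0 n22805 = n22478 := d3_1 D22805 (iv D22478) (iv F39544)
theorem F43791 : act 1 n22805 = n21016 := d7_1 D22805 (iv D21016) (iv F39545)
theorem F43792 : act 2 n22805 = n21481 := d10_1 D22805 (iv D21481) (iv F39547)
theorem F43793 : act 5 n22805 = n21555 := d14_2 (iv F39546) D22805 (iv D21555) (iv D19260) (iv F33783)
def n22806 : Q := act 1 n21023
theorem D22806 : act 1 n21023 = n22806 := rfl
theorem F43794 : act 0 n22806 = n21227 := d0_1 D22806 (iv D21227) F34556 D18895 (iv F39575)
theorem F43795 : act 2 n22806 = n21225 := d5_2 D21023 D22806 F40057 (iv D20459) (iv F33819)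
theorem F43796 : act 4 n22806 = n21024 := d7_2 (iv F39576) D22806 (iv D21024)
theorem F43797 : act 5 n22806 = n21347 := d8_2 (iv F39577) D22806 F40359
theorem F43798 : act 3 n21318 = n22806 := d13_3 F43797 (iv D21347) (iv F40286)
def n22807 : Q := act 3 n21023
theorem D22807 : act 3 n21023 = n22807 := rfl
theorem F43799 : act 0 n22807 = n21230 := d2_1 D22807 (iv D21230) (iv F39575)
theorem F43800 : act 1 n22807 = n21318 := d6_1 D22807 F43798 (iv D22806)
theorem F43801 : act 2 n22807 = n21342 := d9_1 D22807 F40349 F34986 F29296 (iv F28318) F28319 (iv F32146) D20470 (iv F40408) F40409 (iv D21127) (iv D18726) F27886 D18599 D21023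
theorem F43802 : act 5 n22807 = n21346 := d13_2 (iv F39577) D22807 (iv F40357)
def n22808 : Q := act 3 n21024
theorem D22808 : act 3 n21024 = n22808 := rfl
theorem F43803 : act 0 n22808 = n21505 := d2_1 D22808 (iv D21505) (iv F39578)
theorem F43804 : act 1 n22808 = n21025 := d6_1 D22808 (iv D21025) D21024
theorem F43805 : act 5 n22362 = n22808 := d8_0 F43804 F39580 (iv F42795)
def n22809 : Q := act 5 n21024
theorem D22809 : act 5 n21024 = n22809 := rfl
theorem F43806 : act 0 n22809 = n21506 := d4_1 D22809 (iv D21506) (iv F39578)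
theorem F43807 : act 1 n22809 = n21026 := d8_1 D22809 (iv D21026) D21024
theorem F43808 : act 3 n22809 = n22362 := d13_1 D22809 F43805 (iv D22808)
theorem F43809 : act 4 n22678 = n22809 := d12_0 F43808 (iv D22362) F38073 D20847 D22678
def n22810 : Q := act 4 n21025
theorem D22810 : act 4 n21025 = n22810 := rfl
theorem F43810 : act 0 n22810 = n22358 := d3_1 D22810 F42782 (iv F39579)
theorem F43811 : act 2 n22810 = n22666 := d10_1 D22810 F43481 F43389
theorem F43812 : act 5 n22810 = n22357 := d14_2 (iv F39580) D22810 (iv D22357) F38036 D20848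
def n22811 : Q := act 2 n21031
theorem D22811 : act 2 n21031 = n22811 := rfl
theorem F43813 : act 0 n22811 = n21032 := d1_1 D22811 (iv D21032) (iv F39599)
theorem F43814 : act 4 n22811 = n22201 := d10_2 (iv F39601) D22811 (iv D22201)
def n22812 : Q := act 1 n21032
theorem D22812 : act 1 n21032 = n22812 := rfl
theorem F43815 : act 2 n22812 = n21033 := d5_2 D21032 D22812 (iv D21033) (iv D18613) (iv F33845)
def n22813 : Q := act 3 n21032
theorem D22813 : act 3 n21032 = n22813 := rfl
theorem F43816 : act 4 n22813 = n22813 := d12_2 F41316 D22813 (iv D22813) (iv F41316) F41317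
def n22814 : Q := act 0 n21033
theorem D22814 : act 0 n21033 = n22814 := rfl
def n22815 : Q := act 4 n21034
theorem D22815 : act 4 n21034 = n22815 := rfl
theorem F43817 : act 0 n22815 = n21037 := d3_1 D22815 (iv D21037) (iv F39602)
theorem F43818 : act 1 n22815 = n22126 := d7_1 D22815 F42245 (iv F39603)
theorem F43819 : act 5 n22133 = n22815 := d8_0 F43818 F42246 D22133
def n22816 : Q := act 4 n21036
theorem D22816 : act 4 n21036 = n22816 := rfl
theorem F43820 : act 1 n22816 = n22146 := d7_1 D22816 F42294 (iv F39609)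
theorem F43821 : act 2 n22816 = n21037 := d10_1 D22816 (iv D21037) D21036
def n22817 : Q := act 3 n21037
theorem D22817 : act 3 n21037 = n22817 := rfl
theorem F43822 : act 1 n22817 = n22148 := d6_1 D22817 (iv D22148) (iv F39611)
theorem F43823 : act 4 n22817 = n21038 := d12_2 D21037 D22817 (iv D21038) (iv D18618) D18617
def n22818 : Q := act 5 n21037
theorem D22818 : act 5 n21037 = n22818 := rfl
theorem F43824 : act 0 n22818 = n22133 := d4_1 D22818 F43819 F43817
theorem F43825 : act 1 n22818 = n22120 := d8_1 D22818 F42225 (iv F39611)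
theorem F43826 : act 4 n22818 = n22119 := d14_1 D22818 (iv D22119) F37153 (iv F33856) D21037
def n22819 : Q := act 2 n21038
theorem D22819 : act 2 n21038 = n22819 := rfl
def n22820 : Q := act 5 n21040
theorem D22820 : act 5 n21040 = n22820 := rfl
theorem F43827 : act 0 n22820 = n21042 := d4_1 D22820 (iv D21042) (iv F39617)
theorem F43828 : act 1 n22820 = n22475 := d8_1 D22820 (iv D22475) (iv F39618)
theorem F43829 : act 2 n22820 = n22799 := d11_1 D22820 (iv D22799) (iv F39619)
theorem F43830 : act 3 n22820 = n21047 := d13_1 D22820 (iv D21047) (iv F39620)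
theorem F43831 : act 4 n22820 = n22243 := d14_1 D22820 F42488 F37551 (iv F33886) D21040
def n22821 : Q := act 5 n21041
theorem D22821 : act 5 n21041 = n22821 := rfl
theorem F43832 : act 0 n22821 = n22799 := d4_1 D22821 (iv D22799) (iv F39621)
theorem F43833 : act 1 n22821 = n21075 := d8_1 D22821 F39710 (iv F39622)
theorem F43834 : act 2 n22821 = n21042 := d11_1 D22821 (iv D21042) (iv F39623)
theorem F43835 : act 4 n22821 = n21074 := d14_1 D22821 F39706 F37549 F33891 D21041
def n22822 : Q := act 2 n21043
theorem D22822 : act 2 n21043 = n22822 := rfl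
theorem F43836 : act 0 n22822 = n22409 := d1_1 D22822 F42878 (iv F39627)
theorem F43837 : act 1 n22822 = n22524 := d5_1 D22822 (iv D22524) F38638 (iv F33913) (iv F39628)
theorem F43838 : act 4 n22822 = n22247 := d10_2 (iv F39629) D22822 (iv D22247)
theorem F43839 : act 5 n22822 = n21052 := d11_2 (iv F39630) D22822 (iv D21052)
def n22823 : Q := act 4 n21044
theorem D22823 : act 4 n21044 = n22823 := rfl
theorem F43840 : act 0 n22823 = n21481 := d3_1 D22823 (iv D21481) (iv F39631)
theorem F43841 : act 1 n22823 = n21046 := d7_1 D22823 (iv D21046) D21044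
theorem F43842 : act 2 n22823 = n22478 := d10_1 D22823 (iv D22478) (iv F39632)
theorem F43843 : act 5 n22823 = n21559 := d14_2 (iv F39633) D22823 (iv D21559) (iv D19266) (iv F35200)
def n22824 : Q := act 4 n21045
theorem D22824 : act 4 n21045 = n22824 := rfl
theorem F43844 : act 0 n22824 = n21050 := d3_1 D22824 (iv D21050) (iv F39635)
theorem F43845 : act 1 n22824 = n21473 := d7_1 D22824 F40637 (iv F39636)
def n22825 : Q := act 3 n21046
theorem D22825 : act 3 n21046 = n22825 := rfl
theorem F43846 : act 0 n22825 = n21051 := d2_1 D22825 (iv D21051) (iv F39638)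
def n22826 : Q := act 2 n21048
theorem D22826 : act 2 n21048 = n22826 := rfl
theorem F43847 : act 0 n22826 = n21052 := d1_1 D22826 (iv D21052) (iv F39643)
theorem F43848 : act 1 n22826 = n22411 := d5_1 D22826 F42879 (iv F42874) F42875 (iv F39644)
theorem F43849 : act 4 n22826 = n22361 := d10_2 (iv F39645) D22826 F42792
theorem F43850 : act 5 n22826 = n22409 := d11_2 (iv F39646) D22826 F42878
def n22827 : Q := act 4 n21049
theorem D22827 : act 4 n21049 = n22827 := rfl
theorem F43851 : act 1 n22827 = n21461 := d7_1 D22827 F40598 (iv F39647)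
theorem F43852 : act 2 n22827 = n21050 := d10_1 D22827 (iv D21050) D21049
def n22828 : Q := act 3 n21050
theorem D22828 : act 3 n21050 = n22828 := rfl
theorem F43853 : act 1 n22828 = n21466 := d6_1 D22828 (iv D21466) (iv F39649)
theorem F43854 : act 4 n22828 = n21051 := d12_2 D21050 D22828 (iv D21051) (iv D18637) D18636
theorem F43855 : act 5 n22724 = n22828 := d14_0 F43854 F39906 (iv D21174) (iv F39263) D22724
def n22829 : Q := act 5 n21050
theorem D22829 : act 5 n21050 = n22829 := rfl
theorem F43856 : act 1 n22829 = n21467 := d8_1 D22829 (iv D21467) (iv F39649)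
theorem F43857 : act 3 n22829 = n22724 := d13_1 D22829 F43855 (iv D22828)
theorem F43858 : act 4 n22829 = n21490 := d14_1 D22829 (iv D21490) (iv D19186) (iv F33924) D21050
def n22830 : Q := act 3 n21052
theorem D22830 : act 3 n21052 = n22830 := rfl
def n22831 : Q := act 4 n21055
theorem D22831 : act 4 n21055 = n22831 := rfl
theorem F43859 : act 0 n22831 = n21057 := d3_1 D22831 (iv D21057) (iv F39658)
theorem F43860 : act 1 n22831 = n22396 := d7_1 D22831 (iv D22396) (iv F39659)
theorem F43861 : act 2 n22831 = n21947 := d10_1 D22831 F43204 F43202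
def n22832 : Q := act 4 n21056
theorem D22832 : act 4 n21056 = n22832 := rfl
theorem F43862 : act 0 n22832 = n21947 := d3_1 D22832 F43204 F43200
theorem F43863 : act 1 n22832 = n22394 := d7_1 D22832 (iv D22394) (iv F39661)
theorem F43864 : act 2 n22832 = n21057 := d10_1 D22832 (iv D21057) D21056
theorem F43865 : act 3 n22832 = n21946 := d12_1 D22832 F41836 D21974 (iv F43187) F43186
def n22833 : Q := act 3 n21057
theorem D22833 : act 3 n21057 = n22833 := rfl
theorem F43866 : act 1 n22833 = n22391 := d6_1 D22833 (iv D22391) (iv F39663)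
theorem F43867 : act 4 n22833 = n21058 := d12_2 D21057 D22833 (iv D21058) (iv D18645) D18644
def n22834 : Q := act 5 n21057
theorem D22834 : act 5 n21057 = n22834 := rfl
theorem F43868 : act 1 n22834 = n22390 := d8_1 D22834 F42849 (iv F39663)
theorem F43869 : act 4 n22834 = n22389 := d14_1 D22834 (iv D22389) (iv D20445) (iv F33940) D21057
def n22835 : Q := act 5 n21060
theorem D22835 : act 5 n21060 = n22835 := rfl
theorem F43870 : act 0 n22835 = n21061 := d4_1 D22835 (iv D21061) (iv F39669)
theorem F43871 : act 1 n22835 = n21062 := d8_1 D22835 (iv D21062) (iv F39670)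
theorem F43872 : act 2 n22835 = n22467 := d11_1 D22835 (iv D22467) (iv F39671)
theorem F43873 : act 3 n22835 = n22821 := d13_1 D22835 (iv D22821) (iv F39672)
theorem F43874 : act 4 n22835 = n22508 := d14_1 D22835 (iv F43084) (iv D20666) (iv F33961) D21060
def n22836 : Q := act 3 n21063
theorem D22836 : act 3 n21063 = n22836 := rfl
theorem F43875 : act 0 n22836 = n22464 := d2_1 D22836 (iv D22464) (iv F39678)
theorem F43876 : act 1 n22836 = n21064 := d6_1 D22836 (iv D21064) (iv F39679)
def n22837 : Q := act 5 n21063
theorem D22837 : act 5 n21063 = n22837 := rfl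
theorem F43877 : act 0 n22837 = n22465 := d4_1 D22837 (iv D22465) (iv F39678)
theorem F43878 : act 1 n22837 = n21065 := d8_1 D22837 (iv D21065) (iv F39679)
theorem F43879 : act 2 n22837 = n21067 := d11_1 D22837 (iv D21067) (iv F39680)
theorem F43880 : act 4 n22837 = n22510 := d14_1 D22837 F43091 (iv D20664) (iv F33971) D21063
def n22838 : Q := act 5 n21064
theorem D22838 : act 5 n21064 = n22838 := rfl
theorem F43881 : act 3 n22838 = n21065 := d13_1 D22838 (iv D21065) D21064
def n22839 : Q := act 2 n21066
theorem D22839 : act 2 n21066 = n22839 := rfl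
theorem F43882 : act 0 n22839 = n21319 := d1_1 D22839 F40288 (iv F39683)
theorem F43883 : act 4 n22839 = n21318 := d10_2 (iv F39685) D22839 F40285
def n22840 : Q := act 5 n21066
theorem D22840 : act 5 n21066 = n22840 := rfl
theorem F43884 : act 0 n22840 = n21322 := d4_1 D22840 (iv D21322) (iv F39683)
theorem F43885 : act 1 n22840 = n21069 := d8_1 D22840 (iv D21069) (iv F39684)
theorem F43886 : act 3 n22840 = n21067 := d13_1 D22840 (iv D21067) D21066
theorem F43887 : act 4 n22840 = n21349 := d14_1 D22840 (iv D21349) (iv D19037) (iv F34840) (iv F39685)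
def n22841 : Q := act 1 n21068
theorem D22841 : act 1 n21068 = n22841 := rfl
theorem F43888 : act 4 n22841 = n21342 := d7_2 (iv F39690) D22841 (iv D21342)
def n22842 : Q := act 3 n21068
theorem D22842 : act 3 n21068 = n22842 := rfl
theorem F43889 : act 0 n22842 = n21344 := d2_1 D22842 (iv D21344) (iv F39689)
theorem F43890 : act 4 n22842 = n21398 := d12_2 (iv F39690) D22842 (iv D21398) (iv D19077) (iv F34923)
def n22843 : Q := act 5 n21068
theorem D22843 : act 5 n21068 = n22843 := rfl
theorem F43891 : act 0 n22843 = n21345 := d4_1 D22843 (iv D21345) (iv F39689)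
theorem F43892 : act 2 n22843 = n21069 := d11_1 D22843 (iv D21069) D21068
theorem F43893 : act 4 n22843 = n21375 := d14_1 D22843 (iv D21375) (iv D19061) (iv F34924) (iv F39690)
def n22844 : Q := act 3 n21070
theorem D22844 : act 3 n21070 = n22844 := rfl
theorem F43894 : act 0 n22844 = n21383 := d2_1 D22844 (iv F42069) F42067
theorem F43895 : act 2 n22844 = n21242 := d9_1 D22844 F40112 (iv F37928) F37929 (iv F36929) (iv F42074) F42073 (iv D21382) F37943 (iv D20346) F31773 F25228 (iv F27753) D18666 D21070
theorem F43896 : act 5 n22844 = n21241 := d15_8 F37943 (iv D20346) F31773 F25228 (iv F27753) D18666 D21070 D22844 F40108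
theorem F43897 : act 4 n21399 = n22844 := d14_5 F43896 (iv D21241) F34661 D19077 D21399
def n22845 : Q := act 5 n21070
theorem D22845 : act 5 n21070 = n22845 := rfl
theorem F43898 : act 0 n22845 = n21382 := d4_1 D22845 F42070 F42067
theorem F43899 : act 2 n22845 = n21071 := d11_1 D22845 (iv D21071) D21070
theorem F43900 : act 3 n22845 = n21241 := d13_1 D22845 (iv F43896) (iv D22844)
theorem F43901 : act 4 n21374 = n22845 := d12_0 F43900 (iv D21241) F34662 D19061 D21374
def n22846 : Q := act 4 n21072
theorem D22846 : act 4 n21072 = n22846 := rfl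
theorem F43902 : act 0 n22846 = n21868 := d3_1 D22846 (iv D21868) (iv F39697)
theorem F43903 : act 1 n22846 = n21073 := d7_1 D22846 (iv D21073) (iv F39698)
theorem F43904 : act 2 n22846 = n22801 := d10_1 D22846 F43779 F41543
theorem F43905 : act 3 n22846 = n22211 := d12_1 D22846 (iv D22211) F37506 (iv F34012) D21072
theorem F43906 : act 5 n22846 = n21863 := d14_2 (iv F39699) D22846 (iv D21863) (iv D19695) D19694
def n22847 : Q := act 0 n21074
theorem D22847 : act 0 n21074 = n22847 := rfl
theorem F43907 : act 1 n22847 = n22681 := d0_2 D21074 D22847 F43510 F39507 (iv F34020)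
theorem F43908 : act 2 n22847 = n22243 := d1_2 (iv F39704) D22847 (iv D22243)
theorem F43909 : act 3 n22847 = n21121 := d2_2 (iv F39705) D22847 (iv D21121)
theorem F43910 : act 4 n22847 = n22799 := d3_2 F43835 D22847 (iv F43832)
theorem F43911 : act 5 n22847 = n21750 := d4_2 (iv F39706) D22847 F41334
def n22848 : Q := act 5 n21080
theorem D22848 : act 5 n21080 = n22848 := rfl
theorem F43912 : act 0 n22848 = n21434 := d4_1 D22848 (iv D21434) (iv F39723)
theorem F43913 : act 2 n22848 = n21288 := d11_1 D22848 (iv D21288) (iv F39724)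
theorem F43914 : act 3 n22848 = n21526 := d13_1 D22848 (iv D21526) (iv F39725)
theorem F43915 : act 4 n22848 = n21449 := d14_1 D22848 (iv D21449) (iv D19140) F34041 D21080
def n22849 : Q := act 3 n21081
theorem D22849 : act 3 n21081 = n22849 := rfl
theorem F43916 : act 0 n22849 = n21437 := d2_1 D22849 (iv D21437) (iv F39726)
theorem F43917 : act 1 n22849 = n22848 := d6_1 D22849 F43914 F40793
theorem F43918 : act 4 n22849 = n21448 := d12_2 D21081 D22849 (iv D21448) (iv D19140) (iv F34044)
theorem F43919 : act 5 n22849 = n21527 := d13_2 (iv F39728) D22849 (iv D21527)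
def n22850 : Q := act 2 n21084
theorem D22850 : act 2 n21084 = n22850 := rfl
theorem F43920 : act 0 n22850 = n21104 := d1_1 D22850 (iv D21104) (iv F39733)
theorem F43921 : act 4 n22850 = n21085 := d10_2 (iv F39735) D22850 (iv D21085)
theorem F43922 : act 5 n22850 = n21653 := d11_2 (iv F39736) D22850 (iv D21653)
def n22851 : Q := act 1 n21085
theorem D22851 : act 1 n21085 = n22851 := rfl
theorem F43923 : act 3 n22851 = n21112 := d6_2 (iv F39738) D22851 (iv D21112)
theorem F43924 : act 5 n22851 = n21086 := d8_2 (iv F39739) D22851 (iv D21086)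
def n22852 : Q := act 0 n21086
theorem D22852 : act 0 n21086 = n22852 := rfl
theorem F43925 : act 1 n22852 = n21106 := d0_2 D21086 D22852 (iv D21106) (iv D18707) (iv F34060)
theorem F43926 : act 2 n22852 = n22280 := d1_2 F39987 D22852 F42573
def n22853 : Q := act 3 n21087
theorem D22853 : act 3 n21087 = n22853 := rfl
theorem F43927 : act 0 n22853 = n21088 := d2_1 D22853 (iv D21088) D21087
theorem F43928 : act 1 n22853 = n21109 := d6_1 D22853 (iv D21109) (iv F39740)
theorem F43929 : act 2 n22853 = n22384 := d9_1 D22853 F43499 F43497 F39183 (iv F39855) (iv D21151) F34163 (iv F38596) F39186 (iv D20860) F33268 D18363 (iv F33666) (iv F39423) (iv F39741)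
theorem F43930 : act 5 n22853 = n21152 := d13_2 (iv F39743) D22853 (iv D21152)
def n22854 : Q := act 1 n21089
theorem D22854 : act 1 n21089 = n22854 := rfl
theorem F43931 : act 3 n22854 = n21105 := d6_2 (iv F39747) D22854 (iv D21105)
theorem F43932 : act 5 n22854 = n21107 := d8_2 (iv F39748) D22854 F39788
def n22855 : Q := act 5 n21090
theorem D22855 : act 5 n21090 = n22855 := rfl
theorem F43933 : act 0 n22855 = n21092 := d4_1 D22855 (iv D21092) D21090
theorem F43934 : act 1 n22855 = n21660 := d8_1 D22855 (iv D21660) (iv F39749)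
theorem F43935 : act 2 n22855 = n21101 := d11_1 D22855 (iv D21101) (iv F39750)
theorem F43936 : act 3 n22855 = n22247 := d13_1 D22855 (iv F42620) F42618
def n22856 : Q := act 5 n21091
theorem D22856 : act 5 n21091 = n22856 := rfl
theorem F43937 : act 0 n22856 = n22247 := d4_1 D22856 (iv F42620) F42616
theorem F43938 : act 1 n22856 = n21093 := d8_1 D22856 (iv D21093) (iv F39752)
theorem F43939 : act 2 n22856 = n22246 := d11_1 D22856 (iv F42625) F42622
theorem F43940 : act 3 n22856 = n21092 := d13_1 D22856 (iv D21092) D21091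
theorem F43941 : act 4 n22856 = n22409 := d14_1 D22856 (iv F43850) F43849 F42793 (iv F39753)
def n22857 : Q := act 4 n21092
theorem D22857 : act 4 n21092 = n22857 := rfl
theorem F43942 : act 1 n22857 = n21094 := d7_1 D22857 (iv D21094) (iv F39754)
theorem F43943 : act 2 n22857 = n21102 := d10_1 D22857 (iv D21102) (iv F39755)
theorem F43944 : act 5 n22857 = n21658 := d14_2 D21092 D22857 (iv D21658) (iv D19399) (iv F34068)
def n22858 : Q := act 3 n21094
theorem D22858 : act 3 n21094 = n22858 := rfl
theorem F43945 : act 0 n22858 = n21665 := d2_1 D22858 (iv D21665) (iv F39760)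
theorem F43946 : act 4 n22858 = n22410 := d12_2 D21094 D22858 (iv D22410) F39759 F39758
theorem F43947 : act 5 n22858 = n21659 := d13_2 (iv F39762) D22858 (iv D21659)
def n22859 : Q := act 3 n21095
theorem D22859 : act 3 n21095 = n22859 := rfl
theorem F43948 : act 0 n22859 = n21140 := d2_1 D22859 F39837 (iv F39763)
theorem F43949 : act 5 n22859 = n21103 := d13_2 (iv F39765) D22859 (iv D21103)
def n22860 : Q := act 2 n21096
theorem D22860 : act 2 n21096 = n22860 := rfl
theorem F43950 : act 0 n22860 = n21653 := d1_1 D22860 (iv D21653) (iv F39766)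
theorem F43951 : act 4 n22860 = n21097 := d10_2 (iv F39768) D22860 (iv D21097)
theorem F43952 : act 5 n22860 = n21104 := d11_2 (iv F39769) D22860 (iv D21104)
def n22861 : Q := act 1 n21097
theorem D22861 : act 1 n21097 = n22861 := rfl
theorem F43953 : act 2 n22861 = n21213 := d5_2 D21097 D22861 F40022 F34477 (iv F34091)
theorem F43954 : act 5 n22861 = n21098 := d8_2 (iv F39771) D22861 (iv D21098)
def n22862 : Q := act 3 n21098
theorem D22862 : act 3 n21098 = n22862 := rfl
theorem F43955 : act 1 n22862 = n21099 := d6_1 D22862 (iv D21099) D21098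
def n22863 : Q := act 4 n21099
theorem D22863 : act 4 n21099 = n22863 := rfl
theorem F43956 : act 0 n22863 = n21335 := d3_1 D22863 F40338 F40118
theorem F43957 : act 2 n22863 = n21333 := d10_1 D22863 F40329 F40124
theorem F43958 : act 3 n22863 = n21108 := d12_1 D22863 (iv D21108) (iv D18708) (iv F34093) D21099
def n22864 : Q := act 3 n21102
theorem D22864 : act 3 n21102 = n22864 := rfl
theorem F43959 : act 1 n22864 = n21103 := d6_1 D22864 (iv D21103) (iv F39781)
theorem F43960 : act 4 n22864 = n21123 := d12_2 D21102 D22864 (iv D21123) F34126 (iv F34099)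
def n22865 : Q := act 2 n21103
theorem D22865 : act 2 n21103 = n22865 := rfl
theorem F43961 : act 0 n22865 = n21139 := d1_1 D22865 F39835 (iv F39782)
theorem F43962 : act 4 n22865 = n21125 := d10_2 (iv F39783) D22865 (iv D21125)
def n22866 : Q := act 1 n21104
theorem D22866 : act 1 n21104 = n22866 := rfl
theorem F43963 : act 2 n22866 = n21240 := d5_2 D21104 D22866 F40107 F34649 (iv F34102)
theorem F43964 : act 4 n22866 = n21105 := d7_2 (iv F39784) D22866 (iv D21105)
def n22867 : Q := act 3 n21104
theorem D22867 : act 3 n21104 = n22867 := rfl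
def n22868 : Q := act 3 n21106
theorem D22868 : act 3 n21106 = n22868 := rfl
theorem F43965 : act 0 n22868 = n21107 := d2_1 D22868 (iv D21107) D21106
theorem F43966 : act 2 n22868 = n21832 := d15_2 (iv F39787) D22868 F41537 (iv F36446) F36447 (iv F32111) (iv F34647) (iv D18918) D18916
theorem F43967 : act 4 n21831 = n22868 := d10_0 F43966 (iv D21832) D21831
def n22869 : Q := act 4 n21107
theorem D22869 : act 4 n21107 = n22869 := rfl
theorem F43968 : act 0 n22869 = n21831 := d3_1 D22869 F43967 F43965
theorem F43969 : act 1 n22869 = n21108 := d7_1 D22869 (iv D21108) (iv F39788)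
theorem F43970 : act 2 n22869 = n21829 := d10_1 D22869 (iv F41634) F41635
def n22870 : Q := act 5 n21108
theorem D22870 : act 5 n21108 = n22870 := rfl
theorem F43971 : act 2 n22870 = n22462 := d11_1 D22870 F42985 (iv F39789)
def n22871 : Q := act 4 n21109
theorem D22871 : act 4 n21109 = n22871 := rfl
theorem F43972 : act 0 n22871 = n21111 := d3_1 D22871 (iv D21111) (iv F39790)
theorem F43973 : act 2 n22871 = n22091 := d10_1 D22871 F42158 (iv F39791)
theorem F43974 : act 3 n22871 = n21116 := d12_1 D22871 (iv D21116) (iv D18713) (iv F34107) D21109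
theorem F43975 : act 5 n22871 = n22090 := d14_2 (iv F39792) D22871 (iv D22090) (iv F37066) F36974
def n22872 : Q := act 1 n21110
theorem D22872 : act 1 n21110 = n22872 := rfl
theorem F43976 : act 2 n22872 = n21112 := d5_2 D21110 D22872 (iv D21112) (iv D18711) (iv F34109)
theorem F43977 : act 3 n22872 = n22493 := d6_2 (iv F39794) D22872 (iv D22493)
theorem F43978 : act 5 n22872 = n21155 := d8_2 (iv F39795) D22872 (iv D21155)
def n22873 : Q := act 4 n21110
theorem D22873 : act 4 n21110 = n22873 := rfl
theorem F43979 : act 0 n22873 = n22091 := d3_1 D22873 F42158 (iv F39793)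
theorem F43980 : act 2 n22873 = n21111 := d10_1 D22873 (iv D21111) D21110
theorem F43981 : act 5 n22873 = n22088 := d14_2 (iv F39795) D22873 (iv D22088) F39863 F39862
def n22874 : Q := act 5 n21111
theorem D22874 : act 5 n21111 = n22874 := rfl
theorem F43982 : act 0 n22874 = n22090 := d4_1 D22874 (iv F43975) F43972
theorem F43983 : act 1 n22874 = n21114 := d8_1 D22874 (iv D21114) (iv F39796)
theorem F43984 : act 2 n22874 = n22088 := d11_1 D22874 (iv F43981) F43980
theorem F43985 : act 3 n22874 = n21118 := d13_1 D22874 (iv D21118) (iv F39797)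
theorem F43986 : act 4 n22874 = n21154 := d14_1 D22874 (iv D21154) F34178 (iv F34110) D21111
def n22875 : Q := act 0 n21112
theorem D22875 : act 0 n21112 = n22875 := rfl
def n22876 : Q := act 4 n21112
theorem D22876 : act 4 n21112 = n22876 := rfl
theorem F43987 : act 1 n22876 = n21113 := d7_1 D22876 (iv D21113) D21112
def n22877 : Q := act 3 n21113
theorem D22877 : act 3 n21113 = n22877 := rfl
def n22878 : Q := act 5 n21113
theorem D22878 : act 5 n21113 = n22878 := rfl
theorem F43988 : act 2 n22878 = n21114 := d11_1 D22878 (iv D21114) (iv F39798)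
def n22879 : Q := act 4 n21115
theorem D22879 : act 4 n21115 = n22879 := rfl
theorem F43989 : act 0 n22879 = n21117 := d3_1 D22879 (iv D21117) (iv F39800)
theorem F43990 : act 2 n22879 = n21116 := d10_1 D22879 (iv D21116) D21115
def n22880 : Q := act 5 n21116
theorem D22880 : act 5 n21116 = n22880 := rfl
theorem F43991 : act 0 n22880 = n21118 := d4_1 D22880 (iv D21118) (iv F39803)
theorem F43992 : act 3 n22880 = n22090 := d13_1 D22880 (iv F43975) F43974
theorem F43993 : act 4 n22880 = n21144 := d14_1 D22880 (iv D21144) (iv D18744) (iv F34113) D21116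
def n22881 : Q := act 3 n21117
theorem D22881 : act 3 n21117 = n22881 := rfl
def n22882 : Q := act 5 n21117
theorem D22882 : act 5 n21117 = n22882 := rfl
theorem F43994 : act 2 n22882 = n21118 := d11_1 D22882 (iv D21118) (iv F39804)
theorem F43995 : act 4 n22882 = n21148 := d14_1 D22882 (iv D21148) (iv D18746) (iv F34114) D21117
def n22883 : Q := act 3 n21119
theorem D22883 : act 3 n21119 = n22883 := rfl
theorem F43996 : act 0 n22883 = n22410 := d2_1 D22883 (iv D22410) (iv F39807)
theorem F43997 : act 4 n22883 = n21665 := d12_2 D21119 D22883 (iv D21665) (iv D19410) (iv F34122)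
theorem F43998 : act 2 n22883 = n22400 := d15_2 (iv F39808) D22883 F42864 F38225 F32093 (iv F32150) (iv F38256) (iv D20476) (iv F34123)
theorem F43999 : act 5 n22399 = n22883 := d11_0 F43998 (iv D22400) D22399
def n22884 : Q := act 5 n21119
theorem D22884 : act 5 n21119 = n22884 := rfl
theorem F44000 : act 0 n22884 = n22411 := d4_1 D22884 (iv D22411) (iv F39807)
theorem F44001 : act 2 n22884 = n21120 := d11_1 D22884 (iv D21120) (iv F39808)
theorem F44002 : act 3 n22884 = n22399 := d13_1 D22884 F43999 (iv D22883)
theorem F44003 : act 4 n22884 = n21662 := d14_1 D22884 (iv D21662) F35715 (iv F34121) D21119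
def n22885 : Q := act 3 n21122
theorem D22885 : act 3 n21122 = n22885 := rfl
theorem F44004 : act 0 n22885 = n21123 := d2_1 D22885 (iv D21123) D21122
theorem F44005 : act 1 n22885 = n21135 := d6_1 D22885 (iv D21135) (iv F39813)
def n22886 : Q := act 2 n21123
theorem D22886 : act 2 n21123 = n22886 := rfl
def n22887 : Q := act 5 n21123
theorem D22887 : act 5 n21123 = n22887 := rfl
theorem F44006 : act 1 n22887 = n21126 := d8_1 D22887 (iv D21126) (iv F39815)
theorem F44007 : act 3 n22887 = n21124 := d13_1 D22887 (iv D21124) D21123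
def n22888 : Q := act 1 n21125
theorem D22888 : act 1 n21125 = n22888 := rfl
theorem F44008 : act 3 n22888 = n21132 := d6_2 (iv F39819) D22888 F39829
theorem F44009 : act 5 n22888 = n21131 := d8_2 F39820 D22888 F39828
def n22889 : Q := act 4 n21126
theorem D22889 : act 4 n21126 = n22889 := rfl
theorem F44010 : act 0 n22889 = n21141 := d3_1 D22889 (iv D21141) (iv F39821)
theorem F44011 : act 2 n22889 = n21133 := d10_1 D22889 (iv D21133) (iv F39822)
theorem F44012 : act 3 n22889 = n22679 := d12_1 D22889 (iv D22679) F39168 (iv F34130) (iv F39823)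
def n22890 : Q := act 3 n21128
theorem D22890 : act 3 n21128 = n22890 := rfl
theorem F44013 : act 0 n22890 = n22720 := d2_1 D22890 F43588 F42135
theorem F44014 : act 1 n22890 = n22845 := d6_1 D22890 F43900 F40109
theorem F44015 : act 2 n22890 = n21820 := d15_2 (iv F39825) D22890 F41510 F36320 (iv F30694) (iv F37015) (iv F42139) (iv D22084) F37012
theorem F44016 : act 5 n21819 = n22890 := d11_0 F44015 (iv D21820) D21819
def n22891 : Q := act 5 n21128
theorem D22891 : act 5 n21128 = n22891 := rfl
theorem F44017 : act 1 n22891 = n22844 := d8_1 D22891 F43896 F40109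
theorem F44018 : act 2 n22891 = n21129 := d11_1 D22891 (iv D21129) (iv F39825)
theorem F44019 : act 3 n22891 = n21819 := d13_1 D22891 F44016 (iv D22890)
def n22892 : Q := act 3 n21130
theorem D22892 : act 3 n21130 = n22892 := rfl
theorem F44020 : act 0 n22892 = n21131 := d2_1 D22892 (iv D21131) D21130
def n22893 : Q := act 5 n21130
theorem D22893 : act 5 n21130 = n22893 := rfl
theorem F44021 : act 0 n22893 = n21132 := d4_1 D22893 (iv D21132) D21130
def n22894 : Q := act 2 n21131
theorem D22894 : act 2 n21131 = n22894 := rfl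
def n22895 : Q := act 4 n21131
theorem D22895 : act 4 n21131 = n22895 := rfl
theorem F44022 : act 1 n22895 = n21133 := d7_1 D22895 (iv D21133) (iv F39828)
def n22896 : Q := act 4 n21132
theorem D22896 : act 4 n21132 = n22896 := rfl
theorem F44023 : act 1 n22896 = n21134 := d7_1 D22896 (iv D21134) (iv F39829)
def n22897 : Q := act 5 n21133
theorem D22897 : act 5 n21133 = n22897 := rfl
def n22898 : Q := act 3 n21134
theorem D22898 : act 3 n21134 = n22898 := rfl
def n22899 : Q := act 1 n21136
theorem D22899 : act 1 n21136 = n22899 := rfl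
theorem F44024 : act 2 n22899 = n21138 := d5_2 D21136 D22899 (iv D21138) (iv D18736) (iv F34140)
def n22900 : Q := act 4 n21136
theorem D22900 : act 4 n21136 = n22900 := rfl
theorem F44025 : act 2 n22900 = n21137 := d10_1 D22900 (iv D21137) D21136
theorem F44026 : act 5 n22900 = n21652 := d14_2 F43274 D22900 (iv F43659) F43660 (iv F43273)
def n22901 : Q := act 0 n21138
theorem D22901 : act 0 n21138 = n22901 := rfl
def n22902 : Q := act 4 n21138
theorem D22902 : act 4 n21138 = n22902 := rfl
theorem F44027 : act 1 n22902 = n21139 := d7_1 D22902 (iv D21139) D21138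
def n22903 : Q := act 3 n21139
theorem D22903 : act 3 n21139 = n22903 := rfl
def n22904 : Q := act 5 n21139
theorem D22904 : act 5 n21139 = n22904 := rfl
theorem F44028 : act 2 n22904 = n21140 := d11_1 D22904 (iv D21140) (iv F39835)
def n22905 : Q := act 4 n21142
theorem D22905 : act 4 n21142 = n22905 := rfl
theorem F44029 : act 1 n22905 = n21143 := d7_1 D22905 (iv D21143) D21142
def n22906 : Q := act 3 n21143
theorem D22906 : act 3 n21143 = n22906 := rfl
theorem F44030 : act 0 n22906 = n21147 := d2_1 D22906 (iv D21147) (iv F39840)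
theorem F44031 : act 4 n22906 = n21147 := d12_2 D21143 D22906 (iv D21147) (iv D18746) (iv F34154)
def n22907 : Q := act 5 n21143
theorem D22907 : act 5 n21143 = n22907 := rfl
theorem F44032 : act 0 n22907 = n21148 := d4_1 D22907 (iv D21148) (iv F39840)
theorem F44033 : act 2 n22907 = n21144 := d11_1 D22907 (iv D21144) (iv F39841)
def n22908 : Q := act 4 n21145
theorem D22908 : act 4 n21145 = n22908 := rfl
theorem F44034 : act 0 n22908 = n21146 := d3_1 D22908 (iv D21146) D21145
theorem F44035 : act 2 n22908 = n21149 := d10_1 D22908 (iv D21149) (iv F39843)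
def n22909 : Q := act 3 n21146
theorem D22909 : act 3 n21146 = n22909 := rfl
theorem F44036 : act 1 n22909 = n21147 := d6_1 D22909 (iv D21147) (iv F39844)
def n22910 : Q := act 5 n21146
theorem D22910 : act 5 n21146 = n22910 := rfl
theorem F44037 : act 1 n22910 = n21148 := d8_1 D22910 (iv D21148) (iv F39844)
theorem F44038 : act 2 n22910 = n21150 := d11_1 D22910 (iv D21150) (iv F39845)
def n22911 : Q := act 2 n21147
theorem D22911 : act 2 n21147 = n22911 := rfl
def n22912 : Q := act 5 n21147
theorem D22912 : act 5 n21147 = n22912 := rfl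
theorem F44039 : act 3 n22912 = n21148 := d13_1 D22912 (iv D21148) D21147
def n22913 : Q := act 5 n21149
theorem D22913 : act 5 n21149 = n22913 := rfl
theorem F44040 : act 0 n22913 = n21150 := d4_1 D22913 (iv D21150) (iv F39847)
theorem F44041 : act 1 n22913 = n22338 := d8_1 D22913 (iv D22338) (iv F39848)
theorem F44042 : act 3 n22913 = n22337 := d13_1 D22913 (iv D22337) (iv F39849)
def n22914 : Q := act 1 n21153
theorem D22914 : act 1 n21153 = n22914 := rfl
theorem F44043 : act 0 n22914 = n21626 := d0_1 D22914 F41040 F35631 (iv F37068) (iv F39860)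
theorem F44044 : act 3 n22914 = n21623 := d6_2 (iv F39861) D22914 F41030
theorem F44045 : act 4 n22914 = n21155 := d7_2 (iv F39862) D22914 (iv D21155)
theorem F44046 : act 5 n22914 = n21631 := d8_2 F39863 D22914 F41052
def n22915 : Q := act 0 n21155
theorem D22915 : act 0 n21155 = n22915 := rfl
theorem F44047 : act 1 n22915 = n21637 := d0_2 D21155 D22915 F41061 F37075 F36895
theorem F44048 : act 4 n22915 = n21626 := d3_2 F44045 D22915 (iv F44043)
def n22916 : Q := act 0 n21156
theorem D22916 : act 0 n21156 = n22916 := rfl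
theorem F44049 : act 1 n22916 = n22719 := d0_2 D21156 D22916 F43585 F42783 F38293
theorem F44050 : act 3 n22916 = n22718 := d2_2 F42894 D22916 F43581
theorem F44051 : act 4 n21932 = n22916 := d12_0 F44050 (iv D22718) F39256 (iv F36648) (iv F41795)
def n22917 : Q := act 4 n21156
theorem D22917 : act 4 n21156 = n22917 := rfl
theorem F44052 : act 0 n22917 = n21932 := d3_1 D22917 F44051 (iv D22916)
theorem F44053 : act 1 n22917 = n21157 := d7_1 D22917 (iv D21157) D21156
theorem F44054 : act 3 n22917 = n21928 := d12_1 D22917 F41788 (iv F42540) (iv F42895) F42894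
theorem F44055 : act 5 n22917 = n21927 := d14_2 (iv F42891) D22917 F41784 D21969 (iv F42890)
def n22918 : Q := act 3 n21162
theorem D22918 : act 3 n21162 = n22918 := rfl
theorem F44056 : act 4 n22918 = n22245 := d12_2 D21162 D22918 (iv D22245) (iv F39882) F39881
def n22919 : Q := act 3 n21163
theorem D22919 : act 3 n21163 = n22919 := rfl
theorem F44057 : act 0 n22919 = n21164 := d2_1 D22919 (iv D21164) D21163
theorem F44058 : act 1 n22919 = n21172 := d6_1 D22919 (iv D21172) (iv F39884)
def n22920 : Q := act 2 n21164
theorem D22920 : act 2 n21164 = n22920 := rfl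
def n22921 : Q := act 5 n21164
theorem D22921 : act 5 n21164 = n22921 := rfl
theorem F44059 : act 1 n22921 = n21167 := d8_1 D22921 (iv D21167) (iv F39886)
theorem F44060 : act 3 n22921 = n21165 := d13_1 D22921 (iv D21165) D21164
def n22922 : Q := act 1 n21166
theorem D22922 : act 1 n21166 = n22922 := rfl
theorem F44061 : act 0 n22922 = n22459 := d0_1 D22922 (iv D22459) F39908 (iv D21175) (iv F39888)
theorem F44062 : act 3 n22922 = n21170 := d6_2 (iv F39889) D22922 F39897
theorem F44063 : act 5 n22922 = n21169 := d8_2 F39890 D22922 F39896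
def n22923 : Q := act 3 n21168
theorem D22923 : act 3 n21168 = n22923 := rfl
theorem F44064 : act 0 n22923 = n21169 := d2_1 D22923 (iv D21169) D21168
theorem F44065 : act 1 n22923 = n21363 := d6_1 D22923 (iv D21363) (iv F39894)
theorem F44066 : act 5 n22459 = n22923 := d8_0 F44065 F40386 D22459
def n22924 : Q := act 5 n21168
theorem D22924 : act 5 n21168 = n22924 := rfl
theorem F44067 : act 0 n22924 = n21170 := d4_1 D22924 (iv D21170) D21168
theorem F44068 : act 1 n22924 = n21364 := d8_1 D22924 (iv D21364) (iv F39894)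
theorem F44069 : act 3 n22924 = n22459 := d13_1 D22924 F44066 (iv D22923)
def n22925 : Q := act 2 n21169
theorem D22925 : act 2 n21169 = n22925 := rfl
def n22926 : Q := act 4 n21170
theorem D22926 : act 4 n21170 = n22926 := rfl
theorem F44070 : act 1 n22926 = n21171 := d7_1 D22926 (iv D21171) (iv F39897)
def n22927 : Q := act 3 n21171
theorem D22927 : act 3 n21171 = n22927 := rfl
def n22928 : Q := act 4 n21172
theorem D22928 : act 4 n21172 = n22928 := rfl
theorem F44071 : act 0 n22928 = n21174 := d3_1 D22928 (iv D21174) (iv F39899)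
theorem F44072 : act 2 n22928 = n22466 := d10_1 D22928 (iv F43575) F43576
theorem F44073 : act 3 n22928 = n21178 := d12_1 D22928 (iv D21178) (iv D18782) (iv F34192) D21172
theorem F44074 : act 5 n22825 = n22928 := d13_0 F44073 F39914 D22825
def n22929 : Q := act 3 n21176
theorem D22929 : act 3 n21176 = n22929 := rfl
theorem F44075 : act 1 n22929 = n21292 := d6_1 D22929 F40223 (iv F39910)
theorem F44076 : act 5 n22929 = n21290 := d13_2 F40681 D22929 (iv F40683)
theorem F44077 : act 2 n22929 = n22849 := d15_2 (iv F39911) D22929 (iv D22849) F39727 F34047 (iv F35190) (iv F40643) (iv F40644) F35410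
def n22930 : Q := act 4 n21180
theorem D22930 : act 4 n21180 = n22930 := rfl
theorem F44078 : act 0 n22930 = n21912 := d3_1 D22930 F41742 (iv F39916)
theorem F44079 : act 2 n22930 = n21181 := d10_1 D22930 (iv D21181) D21180
theorem F44080 : act 5 n22930 = n21914 := d14_2 F42822 D22930 F41747 (iv F43165) F43164
def n22931 : Q := act 3 n21182
theorem D22931 : act 3 n21182 = n22931 := rfl
theorem F44081 : act 0 n22931 = n22245 := d2_1 D22931 (iv D22245) (iv F39921)
theorem F44082 : act 2 n22931 = n22238 := d9_1 D22931 F42481 F37537 F31259 F24782 (iv F26743) (iv F33138) D20823 (iv F42457) (iv D22226) F37522 F31252 (iv F31267) (iv F34222) (iv F39922)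
theorem F44083 : act 5 n22931 = n22237 := d13_2 (iv F39923) D22931 F42480
def n22932 : Q := act 2 n21184
theorem D22932 : act 2 n21184 = n22932 := rfl
def n22933 : Q := act 3 n21186
theorem D22933 : act 3 n21186 = n22933 := rfl
theorem F44084 : act 1 n22933 = n21187 := d6_1 D22933 (iv D21187) (iv F39932)
theorem F44085 : act 5 n22933 = n21187 := d13_2 (iv F39934) D22933 (iv D21187)
theorem F44086 : act 2 n22933 = n21187 := d15_2 (iv F39933) D22933 (iv D21187) F34299 F31340 F31338 D17506 (iv F37578) (iv F37579)
def n22934 : Q := act 1 n21189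
theorem D22934 : act 1 n21189 = n22934 := rfl
theorem F44087 : act 0 n22934 = n21294 := d0_1 D22934 (iv D21294) F34779 D19331 (iv F39940)
theorem F44088 : act 2 n22934 = n21195 := d5_2 D21189 D22934 (iv D21195) (iv D18832) (iv F34339)
theorem F44089 : act 4 n22934 = n22433 := d7_2 (iv F39941) D22934 F42934
theorem F44090 : act 5 n21307 = n22934 := d11_0 F44088 F39962 D21307
def n22935 : Q := act 3 n21189
theorem D22935 : act 3 n21189 = n22935 := rfl
theorem F44091 : act 0 n22935 = n21367 := d2_1 D22935 F40392 (iv F39940)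
theorem F44092 : act 2 n22935 = n21340 := d9_1 D22935 F40347 F34920 (iv F34332) F34331 (iv F35567) (iv F40406) (iv D21371) (iv D19059) (iv D16210) F22309 (iv F21889) (iv F28056) D18826 D21189
theorem F44093 : act 4 n22935 = n21615 := d12_2 (iv F39941) D22935 F41019 (iv F40451) F40450
theorem F44094 : act 5 n22935 = n21339 := d15_8 (iv D19059) (iv D16210) F22309 (iv F21889) (iv F28056) D18826 D21189 D22935 F40343
def n22936 : Q := act 5 n21189
theorem D22936 : act 5 n21189 = n22936 := rfl
theorem F44095 : act 0 n22936 = n21371 := d4_1 D22936 F40405 (iv F39940)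
theorem F44096 : act 1 n22936 = n21307 := d8_1 D22936 F44090 (iv D22934)
theorem F44097 : act 2 n22936 = n21190 := d11_1 D22936 (iv D21190) D21189
theorem F44098 : act 3 n22936 = n21339 := d13_1 D22936 (iv F44094) (iv D22935)
theorem F44099 : act 4 n22936 = n21616 := d14_1 D22936 F41020 (iv F40446) F40447 (iv F39941)
def n22937 : Q := act 4 n21190
theorem D22937 : act 4 n21190 = n22937 := rfl
theorem F44100 : act 0 n22937 = n21608 := d3_1 D22937 F41004 (iv F39942)
theorem F44101 : act 1 n22937 = n21196 := d7_1 D22937 (iv D21196) (iv F39943)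
theorem F44102 : act 2 n22937 = n21616 := d10_1 D22937 (iv F44099) F44097
theorem F44103 : act 3 n22937 = n21196 := d12_1 D22937 (iv D21196) F34361 (iv F34344) (iv F39944)
theorem F44104 : act 5 n22937 = n21622 := d14_2 D21190 D22937 F41028 (iv D20632) (iv F34340)
def n22938 : Q := act 5 n21191
theorem D22938 : act 5 n21191 = n22938 := rfl
theorem F44105 : act 0 n22938 = n21218 := d4_1 D22938 (iv D21218) (iv F39945)
theorem F44106 : act 1 n22938 = n21192 := d8_1 D22938 (iv D21192) (iv F39946)
theorem F44107 : act 2 n22938 = n21201 := d11_1 D22938 (iv D21201) (iv F39947)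
theorem F44108 : act 3 n22938 = n22456 := d13_1 D22938 (iv D22456) (iv F39948)
theorem F44109 : act 4 n22938 = n21201 := d14_1 D22938 (iv D21201) (iv D18842) (iv F34348) D21191
def n22939 : Q := act 3 n21193
theorem D22939 : act 3 n21193 = n22939 := rfl
theorem F44110 : act 0 n22939 = n21298 := d2_1 D22939 (iv D21298) (iv F39953)
theorem F44111 : act 1 n22939 = n22438 := d6_1 D22939 (iv D22438) F39955
theorem F44112 : act 2 n22939 = n22429 := d9_1 D22939 F42924 F38337 (iv F34420) F34419 (iv F35605) (iv F40248) F40249 F40241 F32226 (iv F32242) (iv F34351) F34350 D18830 D21193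
theorem F44113 : act 4 n22939 = n21311 := d12_2 (iv F39954) D22939 (iv D21311) (iv D18994) (iv F34357)
theorem F44114 : act 5 n22939 = n22428 := d15_8 F40241 F32226 (iv F32242) (iv F34351) F34350 D18830 D21193 D22939 F42921
def n22940 : Q := act 5 n21193
theorem D22940 : act 5 n21193 = n22940 := rfl
theorem F44115 : act 0 n22940 = n21299 := d4_1 D22940 (iv D21299) (iv F39953)
theorem F44116 : act 1 n22940 = n22439 := d8_1 D22940 (iv D22439) F39955
theorem F44117 : act 2 n22940 = n21194 := d11_1 D22940 (iv D21194) D21193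
theorem F44118 : act 3 n22940 = n22428 := d13_1 D22940 (iv F44114) (iv D22939)
theorem F44119 : act 4 n22940 = n21310 := d14_1 D22940 (iv D21310) (iv D18993) F34358 (iv F39954)
def n22941 : Q := act 4 n21194
theorem D22941 : act 4 n21194 = n22941 := rfl
theorem F44120 : act 0 n22941 = n21628 := d3_1 D22941 F41046 (iv F39956)
theorem F44121 : act 1 n22941 = n21622 := d7_1 D22941 F41028 (iv F39957)
theorem F44122 : act 2 n22941 = n21310 := d10_1 D22941 (iv F44119) F44117
theorem F44123 : act 3 n22941 = n21622 := d12_1 D22941 F41028 (iv F39938) F39939 (iv F39958)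
theorem F44124 : act 5 n22941 = n21196 := d14_2 D21194 D22941 (iv D21196) (iv D18833) (iv F34354)
def n22942 : Q := act 5 n21198
theorem D22942 : act 5 n21198 = n22942 := rfl
theorem F44125 : act 0 n22942 = n21310 := d4_1 D22942 (iv D21310) (iv F39969)
theorem F44126 : act 1 n22942 = n21301 := d8_1 D22942 F40255 (iv F39970)
theorem F44127 : act 2 n22942 = n21628 := d11_1 D22942 F41047 (iv F39971)
theorem F44128 : act 3 n22942 = n21301 := d13_1 D22942 F40255 (iv F39972)
theorem F44129 : act 4 n22942 = n21299 := d14_1 D22942 (iv D21299) F34792 (iv F34377) D21198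
def n22943 : Q := act 3 n21199
theorem D22943 : act 3 n21199 = n22943 := rfl
theorem F44130 : act 0 n22943 = n21311 := d2_1 D22943 (iv D21311) (iv F39973)
theorem F44131 : act 1 n22943 = n21300 := d6_1 D22943 F40252 (iv F39974)
theorem F44132 : act 4 n22943 = n21298 := d12_2 D21199 D22943 (iv D21298) F34792 (iv F34381)
theorem F44133 : act 5 n22943 = n21300 := d13_2 (iv F39976) D22943 F40252
theorem F44134 : act 2 n22445 = n22943 := d11_3 F44133 F40251 (iv F42957)
def n22944 : Q := act 5 n21200
theorem D22944 : act 5 n21200 = n22944 := rfl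
theorem F44135 : act 0 n22944 = n21201 := d4_1 D22944 (iv D21201) (iv F39977)
theorem F44136 : act 1 n22944 = n21202 := d8_1 D22944 (iv D21202) (iv F39978)
theorem F44137 : act 2 n22944 = n21218 := d11_1 D22944 (iv D21218) (iv F39979)
theorem F44138 : act 3 n22944 = n21349 := d13_1 D22944 (iv D21349) (iv F39980)
theorem F44139 : act 4 n22944 = n21218 := d14_1 D22944 (iv D21218) (iv D18881) (iv F34392) D21200
def n22945 : Q := act 5 n21203
theorem D22945 : act 5 n21203 = n22945 := rfl
theorem F44140 : act 0 n22945 = n21655 := d4_1 D22945 (iv F42575) F42573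
theorem F44141 : act 1 n22945 = n21205 := d8_1 D22945 (iv D21205) D21203
theorem F44142 : act 2 n22945 = n22851 := d11_1 D22945 F43924 (iv F39987)
theorem F44143 : act 3 n22945 = n21654 := d13_1 D22945 (iv F42571) (iv F42572)
def n22946 : Q := act 2 n21208
theorem D22946 : act 2 n21208 = n22946 := rfl
theorem F44144 : act 0 n22946 = n21461 := d1_1 D22946 (iv D21461) (iv F40005)
theorem F44145 : act 1 n22946 = n22388 := d5_1 D22946 F42844 F38205 F34462 (iv F40006)
theorem F44146 : act 4 n22946 = n21226 := d10_2 (iv F40007) D22946 (iv D21226)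
def n22947 : Q := act 5 n21208
theorem D22947 : act 5 n21208 = n22947 := rfl
theorem F44147 : act 0 n22947 = n21462 := d4_1 D22947 (iv D21462) (iv F40005)
theorem F44148 : act 1 n22947 = n21210 := d8_1 D22947 (iv D21210) (iv F40006)
theorem F44149 : act 3 n22947 = n21209 := d13_1 D22947 (iv D21209) D21208
theorem F44150 : act 4 n22947 = n22395 := d14_1 D22947 (iv D22395) (iv D20453) (iv F34551) (iv F40007)
def n22948 : Q := act 2 n21212
theorem D22948 : act 2 n21212 = n22948 := rfl
theorem F44151 : act 0 n22948 = n22199 := d1_1 D22948 F42412 (iv F40020)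
theorem F44152 : act 3 n22948 = n21232 := d9_2 D21212 D22948 (iv D21232) (iv D18900) (iv F34449) F34450 F31734 (iv F31152) (iv F37439) F37440 F34462 (iv D18862) F28159 D15996 D18864
theorem F44153 : act 5 n22948 = n21234 := d11_2 (iv F40021) D22948 F40088
def n22949 : Q := act 4 n21213
theorem D22949 : act 4 n21213 = n22949 := rfl
theorem F44154 : act 1 n22949 = n21214 := d7_1 D22949 (iv D21214) (iv F40022)
theorem F44155 : act 5 n22949 = n21240 := d14_2 (iv F40023) D22949 (iv D21240) (iv D18918) (iv F34480)
def n22950 : Q := act 3 n21215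
theorem D22950 : act 3 n21215 = n22950 := rfl
theorem F44156 : act 0 n22950 = n21216 := d2_1 D22950 (iv D21216) D21215
theorem F44157 : act 1 n22950 = n21457 := d6_1 D22950 F40590 (iv F40027)
theorem F44158 : act 5 n22950 = n21450 := d13_2 (iv F40029) D22950 (iv D21450)
def n22951 : Q := act 2 n21216
theorem D22951 : act 2 n21216 = n22951 := rfl
theorem F44159 : act 1 n22951 = n21454 := d5_1 D22951 (iv D21454) F35148 (iv F34514) (iv F40030)
theorem F44160 : act 5 n22951 = n21451 := d11_2 (iv F40031) D22951 (iv D21451)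
def n22952 : Q := act 2 n21219
theorem D22952 : act 2 n21219 = n22952 := rfl
theorem F44161 : act 0 n22952 = n21543 := d1_1 D22952 (iv D21543) (iv F40037)
theorem F44162 : act 1 n22952 = n21451 := d5_1 D22952 (iv D21451) F35123 (iv F34532) (iv F40038)
theorem F44163 : act 5 n22952 = n21454 := d11_2 (iv F40039) D22952 (iv D21454)
def n22953 : Q := act 4 n21219
theorem D22953 : act 4 n21219 = n22953 := rfl
theorem F44164 : act 0 n22953 = n21544 := d3_1 D22953 (iv D21544) (iv F40037)
theorem F44165 : act 1 n22953 = n21220 := d7_1 D22953 (iv D21220) (iv F40038)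
theorem F44166 : act 3 n22953 = n21394 := d12_1 D22953 (iv D21394) (iv D19074) (iv F34529) D21219
def n22954 : Q := act 5 n21220
theorem D22954 : act 5 n21220 = n22954 := rfl
theorem F44167 : act 0 n22954 = n21221 := d4_1 D22954 (iv D21221) (iv F40040)
theorem F44168 : act 2 n22954 = n21453 := d11_1 D22954 (iv D21453) (iv F40041)
theorem F44169 : act 3 n22954 = n21395 := d13_1 D22954 (iv D21395) (iv F40042)
theorem F44170 : act 4 n22954 = n21456 := d14_1 D22954 (iv D21456) (iv D19153) (iv F34533) D21220
def n22955 : Q := act 1 n21222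
theorem D22955 : act 1 n21222 = n22955 := rfl
theorem F44171 : act 0 n22955 = n21225 := d0_1 D22955 F40057 F38226 (iv F34547) (iv F40047)
theorem F44172 : act 2 n22955 = n21227 := d5_2 D21222 D22955 (iv D21227) (iv D18892) (iv F34538)
theorem F44173 : act 4 n22955 = n21501 := d7_2 (iv F40048) D22955 (iv D21501)
theorem F44174 : act 5 n22955 = n21350 := d8_2 (iv F40049) D22955 F40366
theorem F44175 : act 3 n21222 = n22955 := d13_3 F44174 F40367 (iv F40049)
def n22956 : Q := act 3 n21223
theorem D22956 : act 3 n21223 = n22956 := rfl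
theorem F44176 : act 0 n22956 = n21502 := d2_1 D22956 (iv D21502) (iv F40050)
theorem F44177 : act 1 n22956 = n22401 := d6_1 D22956 (iv D22401) (iv F40051)
def n22957 : Q := act 5 n21223
theorem D22957 : act 5 n21223 = n22957 := rfl
theorem F44178 : act 0 n22957 = n21503 := d4_1 D22957 (iv D21503) (iv F40050)
theorem F44179 : act 1 n22957 = n22402 := d8_1 D22957 (iv D22402) (iv F40051)
theorem F44180 : act 2 n22957 = n21224 := d11_1 D22957 (iv D21224) D21223
theorem F44181 : act 4 n22957 = n22406 := d14_1 D22957 (iv D22406) (iv D20466) (iv F34548) (iv F40052)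
def n22958 : Q := act 2 n21230
theorem D22958 : act 2 n21230 = n22958 := rfl
theorem F44182 : act 0 n22958 = n21342 := d1_1 D22958 (iv F43801) F43799
theorem F44183 : act 1 n22958 = n21302 := d5_1 D22958 (iv D21302) F34813 (iv F34570) (iv F40075)
theorem F44184 : act 3 n22958 = n21396 := d9_2 D21230 D22958 F40460 F35525 F34065 F33824 (iv F38243) F40357 F40356 F34962 (iv D18727) (iv D15851) (iv F25622) (iv F28308) (iv F34566)
theorem F44185 : act 5 n22958 = n21372 := d11_2 (iv F40076) D22958 F40408
def n22959 : Q := act 4 n21230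
theorem D22959 : act 4 n21230 = n22959 := rfl
theorem F44186 : act 1 n22959 = n21231 := d7_1 D22959 (iv D21231) (iv F40075)
theorem F44187 : act 3 n22959 = n22358 := d12_1 D22959 F42782 (iv F39568) F39567 D21230
theorem F44188 : act 5 n22959 = n22356 := d14_2 (iv F40076) D22959 (iv D22356) (iv F40840) F40839
def n22960 : Q := act 1 n21232
theorem D22960 : act 1 n21232 = n22960 := rfl
theorem F44189 : act 2 n22960 = n21475 := d5_2 D21232 D22960 F40639 F35180 (iv F34584)
theorem F44190 : act 4 n22960 = n22398 := d7_2 (iv F40082) D22960 F42863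
theorem F44191 : act 5 n22960 = n21233 := d8_2 (iv F40083) D22960 (iv D21233)
def n22961 : Q := act 3 n21238
theorem D22961 : act 3 n21238 = n22961 := rfl
theorem F44192 : act 1 n22961 = n22405 := d6_1 D22961 (iv D22405) (iv F40103)
theorem F44193 : act 2 n22961 = n22021 := d15_2 (iv F40104) D22961 (iv D22021) F36840 (iv F33671) (iv F39470) (iv F43738) F43739 F39466
theorem F44194 : act 5 n22528 = n22961 := d11_0 F44193 F41998 D22528
def n22962 : Q := act 5 n21238
theorem D22962 : act 5 n21238 = n22962 := rfl
theorem F44195 : act 1 n22962 = n22406 := d8_1 D22962 (iv D22406) (iv F40103)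
theorem F44196 : act 2 n22962 = n21239 := d11_1 D22962 (iv D21239) (iv F40104)
theorem F44197 : act 3 n22962 = n22528 := d13_1 D22962 F44194 (iv D22961)
theorem F44198 : act 4 n22962 = n22402 := d14_1 D22962 (iv D22402) (iv D20460) (iv F34613) D21238
def n22963 : Q := act 0 n21244
theorem D22963 : act 0 n21244 = n22963 := rfl
theorem F44199 : act 1 n22963 = n21279 := d0_2 D21244 D22963 F40194 (iv D21098) (iv F34671)
theorem F44200 : act 2 n22963 = n21281 := d1_2 (iv F40116) D22963 F40199
theorem F44201 : act 4 n22963 = n22852 := d3_2 (iv F40117) D22963 (iv D22852)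
def n22964 : Q := act 3 n21244
theorem D22964 : act 3 n21244 = n22964 := rfl
theorem F44202 : act 1 n22964 = n21245 := d6_1 D22964 (iv D21245) D21244
def n22965 : Q := act 2 n21246
theorem D22965 : act 2 n21246 = n22965 := rfl
theorem F44203 : act 3 n22965 = n21359 := d9_2 D21246 D22965 F40377 F34944 (iv F28658) (iv F34364) F34363 D19058 D21369 F40399 F35495 F29273 (iv F28664) F28665 (iv F34673)
theorem F44204 : act 5 n22965 = n21357 := d11_2 F40396 D22965 (iv F40397)
def n22966 : Q := act 4 n21246
theorem D22966 : act 4 n21246 = n22966 := rfl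
theorem F44205 : act 1 n22966 = n21248 := d7_1 D22966 (iv D21248) (iv F40119)
theorem F44206 : act 3 n22966 = n21251 := d12_1 D22966 (iv D21251) (iv D18931) (iv F34674) D21246
def n22967 : Q := act 1 n21247
theorem D22967 : act 1 n21247 = n22967 := rfl
theorem F44207 : act 3 n22967 = n22861 := d6_2 (iv F40120) D22967 (iv D22861)
theorem F44208 : act 5 n22967 = n22862 := d8_2 F40121 D22967 F43955
def n22968 : Q := act 4 n21247
theorem D22968 : act 4 n21247 = n22968 := rfl
theorem F44209 : act 0 n22968 = n21596 := d3_1 D22968 F41105 F41102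
theorem F44210 : act 2 n22968 = n21248 := d10_1 D22968 (iv D21248) D21247
def n22969 : Q := act 5 n21248
theorem D22969 : act 5 n21248 = n22969 := rfl
theorem F44211 : act 0 n22969 = n21594 := d4_1 D22969 F40976 (iv F40122)
theorem F44212 : act 3 n22969 = n21252 := d13_1 D22969 (iv D21252) (iv F40123)
def n22970 : Q := act 3 n21250
theorem D22970 : act 3 n21250 = n22970 := rfl
theorem F44213 : act 0 n22970 = n22965 := d2_1 D22970 F44203 F40376
theorem F44214 : act 1 n22970 = n21587 := d6_1 D22970 F40956 (iv F40126)
theorem F44215 : act 2 n22970 = n21362 := d9_1 D22970 (iv D21362) F34947 (iv D18840) F28099 D16198 D19044 D21357 (iv F40397) (iv D21368) F34957 (iv D16229) (iv F28389) D18931 D21250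
theorem F44216 : act 5 n22970 = n21369 := d13_2 (iv F40127) D22970 F40399
def n22971 : Q := act 4 n21250
theorem D22971 : act 4 n21250 = n22971 := rfl
theorem F44217 : act 1 n22971 = n21588 := d7_1 D22971 (iv D21588) (iv F40126)
theorem F44218 : act 2 n22971 = n21251 := d10_1 D22971 (iv D21251) D21250
theorem F44219 : act 5 n22971 = n22694 := d14_2 (iv F40127) D22971 (iv D22694) (iv F40947) F40946
def n22972 : Q := act 5 n21251
theorem D22972 : act 5 n21251 = n22972 := rfl
theorem F44220 : act 1 n22972 = n21252 := d8_1 D22972 (iv D21252) (iv F40128)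
theorem F44221 : act 2 n22972 = n22694 := d11_1 D22972 (iv F44219) F44218
theorem F44222 : act 4 n22972 = n21589 := d14_1 D22972 (iv D21589) F35500 (iv F34680) D21251
def n22973 : Q := act 2 n21253
theorem D22973 : act 2 n21253 = n22973 := rfl
theorem F44223 : act 0 n22973 = n21257 := d1_1 D22973 (iv D21257) (iv F40132)
theorem F44224 : act 5 n22973 = n22963 := d11_2 F40201 D22973 F44200
def n22974 : Q := act 4 n21253
theorem D22974 : act 4 n21253 = n22974 := rfl
theorem F44225 : act 0 n22974 = n21258 := d3_1 D22974 (iv D21258) (iv F40132)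
theorem F44226 : act 1 n22974 = n21255 := d7_1 D22974 (iv D21255) (iv F40133)
theorem F44227 : act 3 n22974 = n21258 := d12_1 D22974 (iv D21258) (iv D18938) (iv F34688) D21253
def n22975 : Q := act 4 n21254
theorem D22975 : act 4 n21254 = n22975 := rfl
theorem F44228 : act 0 n22975 = n21259 := d3_1 D22975 (iv D21259) (iv F40134)
theorem F44229 : act 1 n22975 = n21256 := d7_1 D22975 (iv D21256) (iv F40135)
theorem F44230 : act 2 n22975 = n21309 := d10_1 D22975 (iv D21309) (iv F40136)
theorem F44231 : act 3 n22975 = n22278 := d12_1 D22975 F42568 D22280 (iv F42576) F40200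
theorem F44232 : act 5 n22975 = n21259 := d14_2 D21254 D22975 (iv D21259) (iv D18939) (iv F34688)
def n22976 : Q := act 3 n21257
theorem D22976 : act 3 n21257 = n22976 := rfl
theorem F44233 : act 1 n22976 = n21657 := d6_1 D22976 (iv D21657) (iv F40142)
theorem F44234 : act 5 n22976 = n22964 := d13_2 (iv F40143) D22976 (iv D22964)
def n22977 : Q := act 4 n21257
theorem D22977 : act 4 n21257 = n22977 := rfl
theorem F44235 : act 1 n22977 = n21653 := d7_1 D22977 F41094 (iv F40142)
theorem F44236 : act 2 n22977 = n21258 := d10_1 D22977 (iv D21258) D21257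
def n22978 : Q := act 5 n21258
theorem D22978 : act 5 n21258 = n22978 := rfl
theorem F44237 : act 1 n22978 = n21260 := d8_1 D22978 (iv D21260) (iv F40144)
theorem F44238 : act 4 n22978 = n22945 := d14_1 D22978 (iv D22945) F39988 F35119 D21258
def n22979 : Q := act 3 n21259
theorem D22979 : act 3 n21259 = n22979 := rfl
theorem F44239 : act 0 n22979 = n22278 := d2_1 D22979 (iv F44231) F44228
theorem F44240 : act 1 n22979 = n21261 := d6_1 D22979 (iv D21261) (iv F40145)
theorem F44241 : act 4 n22979 = n22279 := d12_2 D21259 D22979 (iv F42572) F39988 F35118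
theorem F44242 : act 5 n22979 = n22278 := d13_2 F44232 D22979 (iv F44231)
def n22980 : Q := act 5 n21264
theorem D22980 : act 5 n21264 = n22980 := rfl
theorem F44243 : act 0 n22980 = n21274 := d4_1 D22980 (iv D21274) (iv F40158)
theorem F44244 : act 2 n22980 = n21293 := d11_1 D22980 F40226 (iv F40159)
theorem F44245 : act 3 n22980 = n21354 := d13_1 D22980 (iv D21354) (iv F40160)
theorem F44246 : act 4 n22980 = n21292 := d14_1 D22980 (iv D21292) (iv D18972) F34709 D21264
def n22981 : Q := act 3 n21265
theorem D22981 : act 3 n21265 = n22981 := rfl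
theorem F44247 : act 0 n22981 = n21276 := d2_1 D22981 (iv D21276) (iv F40161)
theorem F44248 : act 4 n22981 = n21291 := d12_2 D21265 D22981 (iv D21291) (iv D18972) (iv F34712)
theorem F44249 : act 5 n22981 = n21355 := d13_2 (iv F40163) D22981 (iv D21355)
theorem F44250 : act 2 n22469 = n22981 := d10_3 F44248 F40220 D22469
def n22982 : Q := act 2 n21266
theorem D22982 : act 2 n21266 = n22982 := rfl
theorem F44251 : act 1 n22982 = n21359 := d5_1 D22982 F40377 F34943 (iv F34719) (iv F40164)
theorem F44252 : act 5 n22982 = n21356 := d11_2 (iv F40165) D22982 F40374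
def n22983 : Q := act 4 n21266
theorem D22983 : act 4 n21266 = n22983 := rfl
theorem F44253 : act 1 n22983 = n21267 := d7_1 D22983 (iv D21267) (iv F40164)
theorem F44254 : act 3 n22983 = n21271 := d12_1 D22983 (iv D21271) (iv D18953) (iv F34717) D21266
def n22984 : Q := act 5 n21267
theorem D22984 : act 5 n21267 = n22984 := rfl
theorem F44255 : act 0 n22984 = n21354 := d4_1 D22984 (iv D21354) (iv F40166)
theorem F44256 : act 2 n22984 = n21365 := d11_1 D22984 F40389 (iv F40167)
theorem F44257 : act 3 n22984 = n21274 := d13_1 D22984 (iv D21274) (iv F40168)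
theorem F44258 : act 4 n22984 = n21364 := d14_1 D22984 (iv D21364) (iv D19049) (iv F34720) D21267
def n22985 : Q := act 3 n21268
theorem D22985 : act 3 n21268 = n22985 := rfl
theorem F44259 : act 0 n22985 = n21355 := d2_1 D22985 (iv D21355) (iv F40169)
theorem F44260 : act 4 n22985 = n21363 := d12_2 D21268 D22985 (iv D21363) (iv D19049) (iv F34723)
theorem F44261 : act 5 n22985 = n21276 := d13_2 (iv F40171) D22985 (iv D21276)
theorem F44262 : act 2 n22985 = n22446 := d15_2 (iv F40170) D22985 (iv D22446) (iv F40251) F40252 F34804 (iv F34714) F34715 (iv F34724)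
def n22986 : Q := act 4 n21269
theorem D22986 : act 4 n21269 = n22986 := rfl
theorem F44263 : act 0 n22986 = n21271 := d3_1 D22986 (iv D21271) (iv F40172)
theorem F44264 : act 2 n22986 = n22214 := d10_1 D22986 (iv D22214) (iv F40173)
def n22987 : Q := act 1 n21270
theorem D22987 : act 1 n21270 = n22987 := rfl
theorem F44265 : act 0 n22987 = n21443 := d0_1 D22987 (iv F42700) F42699 F42444 (iv F40174)
theorem F44266 : act 2 n22987 = n21272 := d5_2 D21270 D22987 (iv D21272) (iv D18954) (iv F34729)
theorem F44267 : act 3 n22987 = n22209 := d6_2 (iv F40175) D22987 (iv D22209)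
theorem F44268 : act 5 n22987 = n21284 := d8_2 F42717 D22987 (iv F42715)
def n22988 : Q := act 4 n21270
theorem D22988 : act 4 n21270 = n22988 := rfl
theorem F44269 : act 0 n22988 = n22214 := d3_1 D22988 (iv D22214) (iv F40174)
theorem F44270 : act 2 n22988 = n21271 := d10_1 D22988 (iv D21271) D21270
def n22989 : Q := act 5 n21271
theorem D22989 : act 5 n21271 = n22989 := rfl
theorem F44271 : act 1 n22989 = n21274 := d8_1 D22989 (iv D21274) (iv F40176)
def n22990 : Q := act 4 n21272
theorem D22990 : act 4 n21272 = n22990 := rfl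
theorem F44272 : act 0 n22990 = n21444 := d3_1 D22990 (iv D21444) (iv F40177)
theorem F44273 : act 1 n22990 = n21273 := d7_1 D22990 (iv D21273) D21272
theorem F44274 : act 3 n22990 = n21484 := d12_1 D22990 (iv D21484) (iv D19179) (iv F34767) (iv F40178)
def n22991 : Q := act 5 n21273
theorem D22991 : act 5 n21273 = n22991 := rfl
theorem F44275 : act 0 n22991 = n21293 := d4_1 D22991 F40226 (iv F40180)
theorem F44276 : act 2 n22991 = n21274 := d11_1 D22991 (iv D21274) (iv F40181)
theorem F44277 : act 3 n22991 = n21392 := d13_1 D22991 F40454 (iv F40182)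
theorem F44278 : act 4 n22991 = n21286 := d14_1 D22991 (iv D21286) (iv D18968) F34732 D21273
def n22992 : Q := act 4 n21274
theorem D22992 : act 4 n21274 = n22992 := rfl
theorem F44279 : act 0 n22992 = n21292 := d3_1 D22992 (iv F44246) F44243
theorem F44280 : act 2 n22992 = n21286 := d10_1 D22992 (iv F44278) F44276
theorem F44281 : act 3 n22992 = n22458 := d12_1 D22992 F42982 (iv F40388) (iv F44258) F44257
theorem F44282 : act 5 n22992 = n21275 := d14_2 D21274 D22992 (iv D21275) (iv D18956) D18955
def n22993 : Q := act 3 n21275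
theorem D22993 : act 3 n21275 = n22993 := rfl
theorem F44283 : act 0 n22993 = n21291 := d2_1 D22993 (iv D21291) (iv F40183)
theorem F44284 : act 2 n22993 = n22457 := d9_1 D22993 (iv D22457) F38384 (iv F34845) F34844 (iv F34776) (iv F40222) F40223 (iv D20551) (iv D17940) F25788 (iv F22283) (iv F28518) (iv F34769) (iv F40184)
theorem F44285 : act 4 n22993 = n21276 := d12_2 D21275 D22993 (iv D21276) (iv D18957) (iv F34735)
theorem F44286 : act 5 n22993 = n22458 := d13_2 F44282 D22993 (iv F44281)
def n22994 : Q := act 2 n21276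
theorem D22994 : act 2 n21276 = n22994 := rfl
theorem F44287 : act 0 n22994 = n22469 := d1_1 D22994 F44250 F44247
theorem F44288 : act 4 n22994 = n22457 := d10_2 F44285 D22994 (iv F44284)
theorem F44289 : act 5 n22994 = n22446 := d11_2 F44261 D22994 (iv F44262)
theorem F44290 : act 3 n22994 = n22445 := d15_1 D22994 F44134 (iv D22943) F39975 F34383 (iv F34939) D21355 (iv F44249) F44247
def n22995 : Q := act 3 n21279
theorem D22995 : act 3 n21279 = n22995 := rfl
theorem F44291 : act 0 n22995 = n22862 := d2_1 D22995 (iv D22862) (iv F40194)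
def n22996 : Q := act 5 n21279
theorem D22996 : act 5 n21279 = n22996 := rfl
theorem F44292 : act 0 n22996 = n22861 := d4_1 D22996 F43954 (iv F40194)
theorem F44293 : act 1 n22996 = n22973 := d8_1 D22996 F44224 F44199
theorem F44294 : act 2 n22996 = n21280 := d11_1 D22996 (iv D21280) D21279
def n22997 : Q := act 4 n21280
theorem D22997 : act 4 n21280 = n22997 := rfl
theorem F44295 : act 0 n22997 = n22949 := d3_1 D22997 (iv D22949) (iv F40196)
theorem F44296 : act 1 n22997 = n21282 := d7_1 D22997 (iv D21282) (iv F40197)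
theorem F44297 : act 3 n22997 = n21876 := d12_1 D22997 F41663 (iv F37901) F37902 (iv F40198)
theorem F44298 : act 5 n22997 = n21875 := d14_2 D21280 D22997 F41661 F36490 (iv F34750)
def n22998 : Q := act 2 n21283
theorem D22998 : act 2 n21283 = n22998 := rfl
theorem F44299 : act 0 n22998 = n21284 := d1_1 D22998 (iv D21284) (iv F40206)
theorem F44300 : act 1 n22998 = n21429 := d5_1 D22998 (iv D21429) F35086 (iv F34771) (iv F40207)
theorem F44301 : act 5 n22998 = n21443 := d11_2 (iv F40208) D22998 (iv D21443)
theorem F44302 : act 3 n22217 = n22998 := d6_0 F44300 F40549 D22217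
def n22999 : Q := act 4 n21283
theorem D22999 : act 4 n21283 = n22999 := rfl
theorem F44303 : act 0 n22999 = n21285 := d3_1 D22999 (iv D21285) (iv F40206)
theorem F44304 : act 1 n22999 = n21287 := d7_1 D22999 (iv D21287) (iv F40207)
theorem F44305 : act 3 n22999 = n21303 := d12_1 D22999 (iv D21303) (iv D18987) (iv F34761) D21283
def n23000 : Q := act 3 n21284
theorem D23000 : act 3 n21284 = n23000 := rfl
theorem F44306 : act 0 n23000 = n22217 := d2_1 D23000 F44302 F44299
theorem F44307 : act 1 n23000 = n22210 := d6_1 D23000 (iv F42716) F42715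
theorem F44308 : act 5 n23000 = n22209 := d13_2 F44268 D23000 (iv F44267)
theorem F44309 : act 2 n23000 = n21550 := d15_2 D21284 D23000 (iv D21550) (iv D19254) (iv D16440) (iv F28787) D19137 (iv F40208) F40206
def n23001 : Q := act 4 n21284
theorem D23001 : act 4 n21284 = n23001 := rfl
theorem F44310 : act 2 n23001 = n21285 := d10_1 D23001 (iv D21285) D21284
def n23002 : Q := act 5 n21285
theorem D23002 : act 5 n21285 = n23002 := rfl
theorem F44311 : act 1 n23002 = n21286 := d8_1 D23002 (iv D21286) (iv F40209)
theorem F44312 : act 3 n23002 = n21306 := d13_1 D23002 (iv D21306) (iv F40210)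
def n23003 : Q := act 5 n21287
theorem D23003 : act 5 n21287 = n23003 := rfl
theorem F44313 : act 0 n23003 = n21288 := d4_1 D23003 (iv D21288) (iv F40213)
theorem F44314 : act 2 n23003 = n21434 := d11_1 D23003 (iv D21434) (iv F40214)
theorem F44315 : act 3 n23003 = n21317 := d13_1 D23003 (iv D21317) (iv F40215)
theorem F44316 : act 4 n23003 = n21445 := d14_1 D23003 (iv D21445) (iv D19138) (iv F34772) D21287
def n23004 : Q := act 4 n21289
theorem D23004 : act 4 n21289 = n23004 := rfl
theorem F44317 : act 0 n23004 = n21290 := d3_1 D23004 (iv D21290) D21289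
def n23005 : Q := act 3 n21294
theorem D23005 : act 3 n21294 = n23005 := rfl
theorem F44318 : act 1 n23005 = n21295 := d6_1 D23005 (iv D21295) D21294
theorem F44319 : act 5 n23005 = n21312 := d13_2 F40229 D23005 (iv D21312)
def n23006 : Q := act 2 n21295
theorem D23006 : act 2 n21295 = n23006 := rfl
theorem F44320 : act 0 n23006 = n21587 := d1_1 D23006 F40955 (iv F40230)
theorem F44321 : act 3 n23006 = n21499 := d9_2 D21295 D23006 (iv D21499) (iv D19201) F29030 D16511 D19330 F40403 F40401 (iv D19303) (iv D16487) (iv D13411) (iv F22198) D16125 D18975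
theorem F44322 : act 5 n21569 = n23006 := d13_0 F44321 F40712 D21569
def n23007 : Q := act 4 n21295
theorem D23007 : act 4 n21295 = n23007 := rfl
theorem F44323 : act 0 n23007 = n21607 := d3_1 D23007 (iv D21607) (iv F40230)
theorem F44324 : act 3 n23007 = n22436 := d12_1 D23007 (iv D22436) (iv D20507) (iv F34780) D21295
def n23008 : Q := act 5 n21295
theorem D23008 : act 5 n21295 = n23008 := rfl
theorem F44325 : act 0 n23008 = n21370 := d4_1 D23008 F40402 (iv F40230)
theorem F44326 : act 1 n23008 = n21312 := d8_1 D23008 (iv F44319) F44318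
theorem F44327 : act 2 n23008 = n21569 := d11_1 D23008 F44322 (iv D23006)
theorem F44328 : act 3 n23008 = n21296 := d13_1 D23008 (iv D21296) D21295
def n23009 : Q := act 4 n21296
theorem D23009 : act 4 n21296 = n23009 := rfl
theorem F44329 : act 0 n23009 = n21606 := d3_1 D23009 F41000 (iv F40231)
theorem F44330 : act 1 n23009 = n21313 := d7_1 D23009 (iv D21313) (iv F40232)
theorem F44331 : act 2 n23009 = n21297 := d10_1 D23009 (iv D21297) (iv F40233)
theorem F44332 : act 5 n23009 = n22437 := d14_2 D21296 D23009 (iv D22437) (iv D20508) (iv F34780)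
def n23010 : Q := act 3 n21302
theorem D23010 : act 3 n21302 = n23010 := rfl
theorem F44333 : act 0 n23010 = n21304 := d2_1 D23010 (iv D21304) (iv F40256)
theorem F44334 : act 1 n23010 = n21396 := d6_1 D23010 (iv F44184) F44183
theorem F44335 : act 2 n23010 = n21590 := d9_1 D23010 (iv D21590) (iv D19310) (iv D16493) (iv F28490) F28491 (iv F28638) D19064 D21378 F40422 F39843 (iv F34652) F34651 D18987 D21302
theorem F44336 : act 5 n23010 = n21376 := d13_2 (iv F40257) D23010 (iv D21376)
def n23011 : Q := act 4 n21302
theorem D23011 : act 4 n21302 = n23011 := rfl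
theorem F44337 : act 0 n23011 = n21305 := d3_1 D23011 (iv D21305) (iv F40256)
theorem F44338 : act 2 n23011 = n21303 := d10_1 D23011 (iv D21303) D21302
def n23012 : Q := act 5 n21303
theorem D23012 : act 5 n21303 = n23012 := rfl
theorem F44339 : act 0 n23012 = n21306 := d4_1 D23012 (iv D21306) (iv F40258)
theorem F44340 : act 1 n23012 = n21317 := d8_1 D23012 (iv D21317) (iv F40259)
theorem F44341 : act 4 n23012 = n21386 := d14_1 D23012 (iv D21386) (iv D19069) (iv F34814) D21303
def n23013 : Q := act 2 n21304
theorem D23013 : act 2 n21304 = n23013 := rfl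
theorem F44342 : act 0 n23013 = n21590 := d1_1 D23013 (iv F44335) F44333
theorem F44343 : act 1 n23013 = n21393 := d5_1 D23013 (iv D21393) F34983 (iv F34926) (iv F40260)
theorem F44344 : act 3 n23013 = n21393 := d9_2 D21304 D23013 (iv D21393) (iv D19074) (iv F34593) (iv F34596) (iv F34966) D21376 F40417 F39839 F34156 (iv F28356) F28355 D16140 D18988
theorem F44345 : act 5 n23013 = n21378 := d11_2 (iv F40261) D23013 (iv D21378)
def n23014 : Q := act 4 n21304
theorem D23014 : act 4 n21304 = n23014 := rfl
theorem F44346 : act 1 n23014 = n21343 := d7_1 D23014 (iv D21343) (iv F40260)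
def n23015 : Q := act 3 n21305
theorem D23015 : act 3 n21305 = n23015 := rfl
theorem F44347 : act 1 n23015 = n21344 := d6_1 D23015 (iv D21344) (iv F40262)
def n23016 : Q := act 5 n21305
theorem D23016 : act 5 n21305 = n23016 := rfl
theorem F44348 : act 1 n23016 = n21345 := d8_1 D23016 (iv D21345) (iv F40262)
theorem F44349 : act 2 n23016 = n21306 := d11_1 D23016 (iv D21306) (iv F40263)
theorem F44350 : act 4 n23016 = n21381 := d14_1 D23016 (iv D21381) (iv D19065) (iv F34816) D21305
def n23017 : Q := act 3 n21307
theorem D23017 : act 3 n21307 = n23017 := rfl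
theorem F44351 : act 0 n23017 = n21312 := d2_1 D23017 (iv D21312) (iv F40266)
theorem F44352 : act 1 n23017 = n21339 := d6_1 D23017 (iv F44098) F44096
theorem F44353 : act 2 n23017 = n22964 := d15_2 D21307 D23017 (iv D22964) F40116 F35118 F34696 (iv F34784) F34786 (iv F34821)
theorem F44354 : act 4 n21338 = n23017 := d7_0 F44352 (iv D21339) D21338
def n23018 : Q := act 4 n21307
theorem D23018 : act 4 n21307 = n23018 := rfl
theorem F44355 : act 0 n23018 = n21313 := d3_1 D23018 (iv D21313) (iv F40266)
theorem F44356 : act 1 n23018 = n21616 := d7_1 D23018 (iv F44099) F44096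
theorem F44357 : act 2 n23018 = n21308 := d10_1 D23018 (iv D21308) D21307
theorem F44358 : act 3 n23018 = n21614 := d12_1 D23018 (iv D21614) (iv F40341) F44354 (iv D23017)
theorem F44359 : act 5 n21621 = n23018 := d13_0 F44358 F41017 D21621
def n23019 : Q := act 5 n21308
theorem D23019 : act 5 n21308 = n23019 := rfl
theorem F44360 : act 0 n23019 = n21314 := d4_1 D23019 (iv D21314) (iv F40267)
theorem F44361 : act 1 n23019 = n21310 := d8_1 D23019 (iv D21310) (iv F40268)
theorem F44362 : act 2 n23019 = n21621 := d11_1 D23019 F44359 F44357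
theorem F44363 : act 3 n23019 = n21314 := d13_1 D23019 (iv D21314) (iv F40269)
theorem F44364 : act 4 n23019 = n22439 := d14_1 D23019 (iv D22439) (iv F39961) F39962 D21308
def n23020 : Q := act 3 n21309
theorem D23020 : act 3 n21309 = n23020 := rfl
theorem F44365 : act 0 n23020 = n21315 := d2_1 D23020 (iv D21315) (iv F40270)
theorem F44366 : act 1 n23020 = n21311 := d6_1 D23020 (iv D21311) (iv F40271)
theorem F44367 : act 4 n23020 = n22438 := d12_2 D21309 D23020 (iv D22438) (iv F39961) F39960
theorem F44368 : act 5 n23020 = n21315 := d13_2 (iv F40272) D23020 (iv D21315)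
def n23021 : Q := act 2 n21311
theorem D23021 : act 2 n21311 = n23021 := rfl
theorem F44369 : act 0 n23021 = n22445 := d1_1 D23021 F44134 F44130
theorem F44370 : act 3 n23021 = n22469 := d9_2 D21311 D23021 F44250 (iv D22981) F40162 F34714 (iv F34804) (iv F40252) F40251 D22446 (iv F44262) (iv D22985) F40170 F34726 (iv F34826)
theorem F44371 : act 4 n23021 = n22429 := d10_2 F44113 D23021 (iv F44112)
theorem F44372 : act 5 n23021 = n21316 := d11_2 (iv F40274) D23021 (iv D21316)
def n23022 : Q := act 2 n21312
theorem D23022 : act 2 n21312 = n23022 := rfl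
theorem F44373 : act 0 n23022 = n22964 := d1_1 D23022 (iv F44353) F44351
theorem F44374 : act 3 n23022 = n22963 := d15_3 D18995 D21312 D23022 F44200 F40200 F40136 (iv F39960) F39962 F34821
theorem F44375 : act 1 n22995 = n23022 := d6_3 F44374 F44199 D22995
def n23023 : Q := act 4 n21312
theorem D23023 : act 4 n21312 = n23023 := rfl
theorem F44376 : act 0 n23023 = n21338 := d3_1 D23023 F44354 F44351
theorem F44377 : act 3 n21611 = n23023 := d2_0 F44376 F40341 (iv F41011)
theorem F44378 : act 5 n21610 = n23023 := d4_0 F44376 F40342 (iv F41010)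
def n23024 : Q := act 3 n21313
theorem D23024 : act 3 n21313 = n23024 := rfl
theorem F44379 : act 0 n23024 = n21614 := d2_1 D23024 (iv F44358) F44355
theorem F44380 : act 4 n23024 = n21611 := d12_2 D21313 D23024 F44377 (iv D23023) (iv D21312)
theorem F44381 : act 2 n23024 = n21625 := d15_6 (iv F41016) (iv F44358) F44357 F40269 (iv F40275) D23024 F41038 (iv F41039) F41036
theorem F44382 : act 5 n23024 = n21618 := d15_8 F35586 (iv F35599) (iv F41016) (iv F44358) F44357 F40269 (iv F40275) D23024 F41022
def n23025 : Q := act 5 n21313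
theorem D23025 : act 5 n21313 = n23025 := rfl
theorem F44383 : act 0 n23025 = n21621 := d4_1 D23025 F44359 F44355
theorem F44384 : act 1 n23025 = n22437 := d8_1 D23025 (iv F44332) F44330
theorem F44385 : act 2 n23025 = n21314 := d11_1 D23025 (iv D21314) (iv F40275)
theorem F44386 : act 3 n23025 = n21618 := d13_1 D23025 (iv F44382) (iv D23024)
theorem F44387 : act 4 n23025 = n22435 := d14_1 D23025 (iv D22435) (iv F40228) (iv F40229) D21313
def n23026 : Q := act 2 n21315
theorem D23026 : act 2 n21315 = n23026 := rfl
theorem F44388 : act 4 n23026 = n22440 := d10_2 (iv F40279) D23026 (iv D22440)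
def n23027 : Q := act 1 n21316
theorem D23027 : act 1 n21316 = n23027 := rfl
theorem F44389 : act 4 n23027 = n22425 := d7_2 (iv F40281) D23027 F42914
def n23028 : Q := act 3 n21316
theorem D23028 : act 3 n21316 = n23028 := rfl
theorem F44390 : act 0 n23028 = n22446 := d2_1 D23028 (iv D22446) (iv F40280)
theorem F44391 : act 2 n23028 = n21355 := d9_1 D23028 (iv D21355) F34939 (iv F34383) (iv F39975) D22943 (iv F44134) (iv F44290) (iv D22994) (iv D21276) F34736 F28444 (iv F28525) D18999 D21316
theorem F44392 : act 4 n23028 = n22430 := d12_2 (iv F40281) D23028 (iv D22430) (iv D20499) (iv F38320)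
theorem F44393 : act 5 n23028 = n22469 := d13_2 F44372 D23028 (iv F44370)
def n23029 : Q := act 3 n21319
theorem D23029 : act 3 n21319 = n23029 := rfl
theorem F44394 : act 1 n23029 = n21320 := d6_1 D23029 (iv D21320) (iv F40287)
theorem F44395 : act 4 n23029 = n21505 := d12_2 D21319 D23029 (iv D21505) (iv F40063) F40062
theorem F44396 : act 5 n22351 = n23029 := d14_0 F44395 (iv F40722) (iv D20395) F38015 D22351
def n23030 : Q := act 5 n21319
theorem D23030 : act 5 n21319 = n23030 := rfl
theorem F44397 : act 1 n23030 = n21321 := d8_1 D23030 (iv D21321) (iv F40287)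
theorem F44398 : act 2 n23030 = n21322 := d11_1 D23030 (iv D21322) (iv F40288)
theorem F44399 : act 3 n23030 = n22351 := d13_1 D23030 F44396 (iv D23029)
theorem F44400 : act 4 n23030 = n21353 := d14_1 D23030 (iv D21353) (iv D19039) (iv F34835) D21319
def n23031 : Q := act 3 n21324
theorem D23031 : act 3 n21324 = n23031 := rfl
theorem F44401 : act 0 n23031 = n21325 := d2_1 D23031 (iv D21325) D21324
theorem F44402 : act 1 n23031 = n21333 := d6_1 D23031 (iv D21333) (iv F40305)
theorem F44403 : act 4 n23031 = n21368 := d12_2 (iv F40307) D23031 (iv D21368) (iv D19055) (iv F34873)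
theorem F44404 : act 2 n23031 = n21845 := d15_2 (iv F40306) D23031 (iv D21845) (iv D19664) (iv D16872) (iv F24356) D17287 (iv F32462) D20619
def n23032 : Q := act 2 n21325
theorem D23032 : act 2 n21325 = n23032 := rfl
theorem F44405 : act 0 n23032 = n21845 := d1_1 D23032 (iv F44404) F44401
theorem F44406 : act 4 n23032 = n21369 := d10_2 (iv F40309) D23032 (iv D21369)
theorem F44407 : act 3 n23032 = n21844 := d15_3 (iv F34860) D21325 D23032 (iv D21844) (iv D19662) (iv F30895) D20041 (iv F38582) (iv D20619)
theorem F44408 : act 1 n21586 = n23032 := d6_3 F44407 F41557 (iv F40954)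
def n23033 : Q := act 1 n21326
theorem D23033 : act 1 n21326 = n23033 := rfl
theorem F44409 : act 2 n23033 = n21586 := d5_2 D21326 D23033 F44408 (iv D23032) F40308
theorem F44410 : act 3 n23033 = n21330 := d6_2 (iv F40311) D23033 F40321
theorem F44411 : act 4 n23033 = n21370 := d7_2 (iv F40312) D23033 (iv D21370)
theorem F44412 : act 5 n23033 = n21329 := d8_2 F40313 D23033 F40320
def n23034 : Q := act 4 n21327
theorem D23034 : act 4 n21327 = n23034 := rfl
theorem F44413 : act 0 n23034 = n21341 := d3_1 D23034 (iv D21341) (iv F40314)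
theorem F44414 : act 2 n23034 = n21331 := d10_1 D23034 (iv D21331) (iv F40315)
theorem F44415 : act 3 n23034 = n21365 := d12_1 D23034 (iv D21365) F34950 (iv F34866) (iv F40316)
theorem F44416 : act 5 n23034 = n21366 := d14_2 D21327 D23034 F40390 F34951 (iv F34863)
def n23035 : Q := act 3 n21328
theorem D23035 : act 3 n21328 = n23035 := rfl
theorem F44417 : act 0 n23035 = n21329 := d2_1 D23035 (iv D21329) D21328
theorem F44418 : act 1 n23035 = n21610 := d6_1 D23035 (iv D21610) (iv F40317)
def n23036 : Q := act 5 n21328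
theorem D23036 : act 5 n21328 = n23036 := rfl
theorem F44419 : act 0 n23036 = n21330 := d4_1 D23036 (iv D21330) D21328
theorem F44420 : act 1 n23036 = n21611 := d8_1 D23036 (iv D21611) (iv F40317)
theorem F44421 : act 2 n23036 = n21603 := d11_1 D23036 (iv D21603) (iv F40318)
def n23037 : Q := act 2 n21329
theorem D23037 : act 2 n21329 = n23037 := rfl
theorem F44422 : act 5 n23037 = n21586 := d11_2 F44412 D23037 (iv F44409)
theorem F44423 : act 3 n23037 = n22264 := d15_3 (iv F34875) D21329 D23037 (iv D22264) (iv D20234) (iv F37656) (iv F40996) (iv D21603) F35549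
def n23038 : Q := act 4 n21329
theorem D23038 : act 4 n21329 = n23038 := rfl
theorem F44424 : act 1 n23038 = n21331 := d7_1 D23038 (iv D21331) (iv F40320)
theorem F44425 : act 3 n23038 = n21493 := d12_1 D23038 (iv D21493) F35223 (iv F34876) D21329
theorem F44426 : act 5 n23038 = n21607 := d14_2 F44412 D23038 (iv D21607) (iv F40402) (iv F44411)
def n23039 : Q := act 4 n21330
theorem D23039 : act 4 n21330 = n23039 := rfl
theorem F44427 : act 1 n23039 = n21332 := d7_1 D23039 (iv D21332) (iv F40321)
theorem F44428 : act 2 n23039 = n22511 := d10_1 D23039 (iv D22511) (iv F40322)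
theorem F44429 : act 3 n23039 = n21606 := d12_1 D23039 F41000 F40403 (iv F44411) F44410
theorem F44430 : act 5 n23039 = n21525 := d14_2 D21330 D23039 (iv D21525) F35321 (iv F34876)
def n23040 : Q := act 5 n21331
theorem D23040 : act 5 n21331 = n23040 := rfl
theorem F44431 : act 0 n23040 = n21615 := d4_1 D23040 (iv D21615) (iv F40323)
theorem F44432 : act 1 n23040 = n21607 := d8_1 D23040 (iv F44426) F44424
theorem F44433 : act 2 n23040 = n21366 := d11_1 D23040 (iv F44416) F44414
theorem F44434 : act 3 n23040 = n21494 := d13_1 D23040 (iv D21494) (iv F40324)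
theorem F44435 : act 4 n23040 = n21367 := d14_1 D23040 F40391 (iv F40312) (iv F40313) D21331
def n23041 : Q := act 3 n21332
theorem D23041 : act 3 n21332 = n23041 := rfl
theorem F44436 : act 0 n23041 = n21616 := d2_1 D23041 (iv D21616) (iv F40325)
theorem F44437 : act 1 n23041 = n21606 := d6_1 D23041 (iv F44429) F44427
theorem F44438 : act 2 n23041 = n21608 := d9_1 D23041 F41003 (iv F39971) F39972 F34806 F28507 (iv F29346) D19348 D21622 (iv F44123) F44122 F40273 F34830 (iv F34882) (iv F40326)
theorem F44439 : act 4 n23041 = n21371 := d12_2 D21332 D23041 (iv D21371) (iv F40312) F40311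
theorem F44440 : act 5 n23041 = n21609 := d13_2 (iv F40327) D23041 (iv D21609)
def n23042 : Q := act 5 n21333
theorem D23042 : act 5 n21333 = n23042 := rfl
theorem F44441 : act 0 n23042 = n21337 := d4_1 D23042 (iv D21337) (iv F40328)
theorem F44442 : act 3 n23042 = n21334 := d13_1 D23042 (iv D21334) D21333
theorem F44443 : act 4 n23042 = n22969 := d14_1 D23042 (iv D22969) (iv D21248) D21249 (iv F40329)
def n23043 : Q := act 1 n21335
theorem D23043 : act 1 n21335 = n23043 := rfl
theorem F44444 : act 2 n23043 = n21338 := d5_2 D21335 D23043 (iv D21338) (iv D19023) (iv F34886)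
theorem F44445 : act 4 n23043 = n22964 := d7_2 (iv F40338) D23043 F44202
theorem F44446 : act 5 n21612 = n23043 := d11_0 F44444 F40342 D21612
def n23044 : Q := act 5 n21335
theorem D23044 : act 5 n21335 = n23044 := rfl
theorem F44447 : act 1 n23044 = n21612 := d8_1 D23044 F44446 (iv D23043)
theorem F44448 : act 2 n23044 = n21337 := d11_1 D23044 (iv D21337) D21335
def n23045 : Q := act 3 n21343
theorem D23045 : act 3 n21343 = n23045 := rfl
theorem F44449 : act 0 n23045 = n21398 := d2_1 D23045 (iv D21398) (iv F40351)
theorem F44450 : act 4 n23045 = n21344 := d12_2 D21343 D23045 (iv D21344) (iv D19034) D19033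
def n23046 : Q := act 5 n21343
theorem D23046 : act 5 n21343 = n23046 := rfl
theorem F44451 : act 0 n23046 = n21399 := d4_1 D23046 (iv D21399) (iv F40351)
theorem F44452 : act 2 n23046 = n21395 := d11_1 D23046 (iv D21395) (iv F40352)
theorem F44453 : act 4 n23046 = n21383 := d14_1 D23046 (iv D21383) (iv D19066) (iv F34927) D21343
def n23047 : Q := act 4 n21346
theorem D23047 : act 4 n21346 = n23047 := rfl
theorem F44454 : act 0 n23047 = n21542 := d3_1 D23047 F40839 (iv F40355)
theorem F44455 : act 1 n23047 = n21348 := d7_1 D23047 (iv D21348) D21346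
theorem F44456 : act 2 n23047 = n21373 := d10_1 D23047 (iv D21373) (iv F40356)
theorem F44457 : act 3 n23047 = n22354 := d12_1 D23047 F42776 F42872 (iv D22407) F40357
theorem F44458 : act 5 n22353 = n23047 := d13_0 F44457 (iv D22354) D22353
def n23048 : Q := act 4 n21347
theorem D23048 : act 4 n21347 = n23048 := rfl
theorem F44459 : act 0 n23048 = n21351 := d3_1 D23048 (iv D21351) (iv F40358)
theorem F44460 : act 1 n23048 = n22407 := d7_1 D23048 (iv D22407) (iv F40359)
theorem F44461 : act 2 n23048 = n22404 := d10_1 D23048 (iv D22404) (iv F40360)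
theorem F44462 : act 5 n23048 = n22678 := d14_2 F43797 D23048 F43809 (iv D22809) (iv F43796)
theorem F44463 : act 3 n22484 = n23048 := d13_3 F44462 (iv D22678) (iv F43025)
def n23049 : Q := act 3 n21348
theorem D23049 : act 3 n21348 = n23049 := rfl
theorem F44464 : act 0 n23049 = n21352 := d2_1 D23049 (iv D21352) (iv F40361)
theorem F44465 : act 1 n23049 = n22354 := d6_1 D23049 (iv F44457) F44455
theorem F44466 : act 4 n23049 = n22484 := d12_2 D21348 D23049 F44463 (iv D23048) (iv D21347)
theorem F44467 : act 5 n23049 = n21573 := d15_8 (iv F40889) F40890 F38673 (iv F34523) (iv F39979) F39980 (iv F40362) D23049 (iv D21573)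
theorem F44468 : act 2 n22460 = n23049 := d5_0 F44465 F42775 F38050 D20537 D22460
def n23050 : Q := act 5 n21348
theorem D23050 : act 5 n21348 = n23050 := rfl
theorem F44469 : act 0 n23050 = n21353 := d4_1 D23050 (iv D21353) (iv F40361)
theorem F44470 : act 1 n23050 = n22353 := d8_1 D23050 F44458 F44455
theorem F44471 : act 2 n23050 = n21349 := d11_1 D23050 (iv D21349) (iv F40362)
theorem F44472 : act 3 n23050 = n21573 := d13_1 D23050 (iv F44467) (iv D23049)
def n23051 : Q := act 4 n21350
theorem D23051 : act 4 n21350 = n23051 := rfl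
theorem F44473 : act 0 n23051 = n22404 := d3_1 D23051 (iv D22404) (iv F40365)
theorem F44474 : act 1 n23051 = n22403 := d7_1 D23051 (iv D22403) (iv F40366)
theorem F44475 : act 2 n23051 = n21351 := d10_1 D23051 (iv D21351) D21350
def n23052 : Q := act 3 n21351
theorem D23052 : act 3 n21351 = n23052 := rfl
theorem F44476 : act 0 n23052 = n22484 := d2_1 D23052 F44463 F44459
theorem F44477 : act 1 n23052 = n21574 := d6_1 D23052 F40903 (iv F40368)
theorem F44478 : act 4 n23052 = n21352 := d12_2 D21351 D23052 (iv D21352) (iv D19039) D19038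
theorem F44479 : act 5 n22352 = n23052 := d14_0 F44478 (iv F40370) F35433 D20373 D22352
def n23053 : Q := act 5 n21351
theorem D23053 : act 5 n21351 = n23053 := rfl
theorem F44480 : act 0 n23053 = n22678 := d4_1 D23053 (iv F44462) F44459
theorem F44481 : act 1 n23053 = n21507 := d8_1 D23053 F40728 (iv F40368)
theorem F44482 : act 3 n23053 = n22352 := d13_1 D23053 F44479 (iv D23052)
theorem F44483 : act 4 n23053 = n21506 := d14_1 D23053 (iv D21506) (iv F40063) F40064 D21351
def n23054 : Q := act 2 n21352
theorem D23054 : act 2 n21352 = n23054 := rfl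
theorem F44484 : act 0 n23054 = n22460 := d1_1 D23054 F44468 F44464
theorem F44485 : act 1 n23054 = n21571 := d5_1 D23054 F40893 F35431 (iv F35436) (iv F40369)
theorem F44486 : act 5 n23054 = n21570 := d11_2 F40370 D23054 F40889
theorem F44487 : act 3 n23054 = n22510 := d15_1 D23054 F43090 (iv F40036) (iv F44137) F44138 (iv F44471) F44472 (iv F44467) F44464
def n23055 : Q := act 3 n21356
theorem D23055 : act 3 n21356 = n23055 := rfl
theorem F44488 : act 1 n23055 = n21357 := d6_1 D23055 (iv D21357) D21356
theorem F44489 : act 2 n23055 = n22862 := d15_2 (iv F40374) D23055 (iv D22862) F39772 F34479 (iv F35288) (iv F40714) F40715 F35295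
def n23056 : Q := act 4 n21359
theorem D23056 : act 4 n21359 = n23056 := rfl
theorem F44490 : act 0 n23056 = n22971 := d3_1 D23056 (iv D22971) (iv F40376)
theorem F44491 : act 2 n23056 = n21361 := d10_1 D23056 (iv D21361) (iv F40377)
def n23057 : Q := act 4 n21360
theorem D23057 : act 4 n21360 = n23057 := rfl
theorem F44492 : act 0 n23057 = n22972 := d3_1 D23057 F44222 F40959
theorem F44493 : act 1 n23057 = n21365 := d7_1 D23057 (iv D21365) (iv F40378)
theorem F44494 : act 5 n23057 = n21361 := d14_2 D21360 D23057 (iv D21361) (iv D19046) D19045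
def n23058 : Q := act 3 n21361
theorem D23058 : act 3 n21361 = n23058 := rfl
theorem F44495 : act 0 n23058 = n22966 := d2_1 D23058 F44206 (iv F40380)
theorem F44496 : act 1 n23058 = n21366 := d6_1 D23058 (iv D21366) (iv F40381)
theorem F44497 : act 4 n23058 = n21362 := d12_2 D21361 D23058 (iv D21362) (iv D19047) (iv F34944)
def n23059 : Q := act 4 n21372
theorem D23059 : act 4 n21372 = n23059 := rfl
theorem F44498 : act 0 n23059 = n21373 := d3_1 D23059 (iv D21373) D21372
theorem F44499 : act 1 n23059 = n21377 := d7_1 D23059 (iv D21377) (iv F40407)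
theorem F44500 : act 2 n23059 = n21542 := d10_1 D23059 F40839 (iv F40408)
theorem F44501 : act 5 n22355 = n23059 := d11_0 F44500 F40840 D22355
def n23060 : Q := act 3 n21373
theorem D23060 : act 3 n21373 = n23060 := rfl
theorem F44502 : act 1 n23060 = n21374 := d6_1 D23060 (iv D21374) (iv F40410)
theorem F44503 : act 4 n23060 = n22890 := d12_2 D21373 D23060 (iv D22890) (iv D21128) (iv F34962)
theorem F44504 : act 2 n23060 = n22359 := d15_2 F44456 D23060 (iv D22359) (iv D20388) (iv D17738) (iv F31844) D20377 (iv F40840) (iv F44454)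
theorem F44505 : act 5 n22417 = n23060 := d11_0 F44504 F42785 D22417
def n23061 : Q := act 5 n21373
theorem D23061 : act 5 n21373 = n23061 := rfl
theorem F44506 : act 0 n23061 = n22355 := d4_1 D23061 F44501 F44498
theorem F44507 : act 1 n23061 = n21375 := d8_1 D23061 (iv D21375) (iv F40410)
theorem F44508 : act 2 n23061 = n22353 := d11_1 D23061 F44458 F44456
theorem F44509 : act 3 n23061 = n22417 := d13_1 D23061 F44505 (iv D23060)
def n23062 : Q := act 5 n21374
theorem D23062 : act 5 n21374 = n23062 := rfl
theorem F44510 : act 0 n23062 = n21385 := d4_1 D23062 (iv D21385) (iv F40411)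
theorem F44511 : act 1 n23062 = n22417 := d8_1 D23062 F44505 F44502
theorem F44512 : act 2 n23062 = n22262 := d11_1 D23062 F42532 (iv F40412)
theorem F44513 : act 3 n23062 = n21375 := d13_1 D23062 (iv D21375) D21374
theorem F44514 : act 4 n23062 = n22263 := d14_1 D23062 F42535 F42066 D22845 (iv F43901)
def n23063 : Q := act 4 n21376
theorem D23063 : act 4 n21376 = n23063 := rfl
theorem F44515 : act 0 n23063 = n21379 := d3_1 D23063 (iv D21379) (iv F40415)
theorem F44516 : act 1 n23063 = n22083 := d7_1 D23063 F42136 (iv F40416)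
theorem F44517 : act 2 n23063 = n22905 := d10_1 D23063 (iv D22905) (iv F40417)
def n23064 : Q := act 3 n21377
theorem D23064 : act 3 n21377 = n23064 := rfl
theorem F44518 : act 0 n23064 = n21380 := d2_1 D23064 (iv D21380) (iv F40418)
def n23065 : Q := act 5 n21377
theorem D23065 : act 5 n21377 = n23065 := rfl
theorem F44519 : act 0 n23065 = n21381 := d4_1 D23065 (iv D21381) (iv F40418)
theorem F44520 : act 1 n23065 = n22355 := d8_1 D23065 F44501 F44499
theorem F44521 : act 2 n23065 = n21386 := d11_1 D23065 (iv D21386) (iv F40419)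
def n23066 : Q := act 4 n21378
theorem D23066 : act 4 n21378 = n23066 := rfl
theorem F44522 : act 0 n23066 = n22905 := d3_1 D23066 (iv D22905) (iv F40420)
theorem F44523 : act 1 n23066 = n22908 := d7_1 D23066 (iv D22908) (iv F40421)
theorem F44524 : act 2 n23066 = n21379 := d10_1 D23066 (iv D21379) D21378
def n23067 : Q := act 3 n21379
theorem D23067 : act 3 n21379 = n23067 := rfl
theorem F44525 : act 1 n23067 = n21382 := d6_1 D23067 (iv D21382) (iv F40423)
theorem F44526 : act 4 n23067 = n21380 := d12_2 D21379 D23067 (iv D21380) (iv D19065) D19064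
def n23068 : Q := act 5 n21379
theorem D23068 : act 5 n21379 = n23068 := rfl
theorem F44527 : act 1 n23068 = n21383 := d8_1 D23068 (iv D21383) (iv F40423)
def n23069 : Q := act 2 n21380
theorem D23069 : act 2 n21380 = n23069 := rfl
theorem F44528 : act 1 n23069 = n22579 := d5_1 D23069 (iv D22579) F40430 (iv D21384) (iv F40424)
theorem F44529 : act 3 n23069 = n22899 := d15_3 (iv F34969) D21380 D23069 F44024 (iv F40834) F40833 (iv F40434) (iv D21386) F34971
def n23070 : Q := act 5 n21380
theorem D23070 : act 5 n21380 = n23070 := rfl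
theorem F44530 : act 1 n23070 = n21385 := d8_1 D23070 (iv D21385) (iv F40424)
theorem F44531 : act 3 n23070 = n21381 := d13_1 D23070 (iv D21381) D21380
def n23071 : Q := act 3 n21387
theorem D23071 : act 3 n21387 = n23071 := rfl
theorem F44532 : act 0 n23071 = n21538 := d2_1 D23071 (iv D21538) (iv F40435)
theorem F44533 : act 1 n23071 = n22892 := d6_1 D23071 (iv D22892) F40437
theorem F44534 : act 5 n23071 = n22901 := d15_8 (iv F44024) (iv F44529) (iv D23069) (iv D21380) F34969 D19070 D21387 D23071 (iv D22901)
def n23072 : Q := act 5 n21387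
theorem D23072 : act 5 n21387 = n23072 := rfl
theorem F44535 : act 0 n23072 = n21539 := d4_1 D23072 (iv D21539) (iv F40435)
theorem F44536 : act 1 n23072 = n22893 := d8_1 D23072 (iv D22893) F40437
theorem F44537 : act 2 n23072 = n21388 := d11_1 D23072 (iv D21388) D21387
theorem F44538 : act 3 n23072 = n22901 := d13_1 D23072 (iv F44534) (iv D23071)
def n23073 : Q := act 4 n21388
theorem D23073 : act 4 n21388 = n23073 := rfl
theorem F44539 : act 0 n23073 = n21487 := d3_1 D23073 F40672 (iv F40438)
theorem F44540 : act 1 n23073 = n21392 := d7_1 D23073 (iv D21392) (iv F40439)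
theorem F44541 : act 5 n23073 = n21484 := d14_2 D21388 D23073 (iv D21484) F35203 (iv F34976)
def n23074 : Q := act 3 n21389
theorem D23074 : act 3 n21389 = n23074 := rfl
theorem F44542 : act 0 n23074 = n22435 := d2_1 D23074 F42941 (iv F40441)
theorem F44543 : act 1 n23074 = n21390 := d6_1 D23074 (iv D21390) D21389
theorem F44544 : act 4 n23074 = n21621 := d12_2 (iv F40443) D23074 (iv D21621) (iv D19346) (iv F35584)
theorem F44545 : act 2 n22439 = n23074 := d10_3 F44544 (iv F44362) F44364
theorem F44546 : act 5 n22433 = n23074 := d14_0 F44544 F44359 (iv D23018) F44090 F44089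
def n23075 : Q := act 5 n21389
theorem D23075 : act 5 n21389 = n23075 := rfl
theorem F44547 : act 0 n23075 = n22434 := d4_1 D23075 (iv F42938) (iv F40441)
theorem F44548 : act 1 n23075 = n21391 := d8_1 D23075 (iv D21391) D21389
theorem F44549 : act 2 n23075 = n22893 := d11_1 D23075 (iv D22893) (iv F40442)
theorem F44550 : act 3 n23075 = n22433 := d13_1 D23075 F44546 (iv D23074)
theorem F44551 : act 4 n23075 = n21620 := d14_1 D23075 (iv D21620) (iv D19344) D19345 (iv F40443)
def n23076 : Q := act 4 n21393
theorem D23076 : act 4 n21393 = n23076 := rfl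
theorem F44552 : act 0 n23076 = n21591 := d3_1 D23076 (iv D21591) (iv F40455)
theorem F44553 : act 2 n23076 = n21394 := d10_1 D23076 (iv D21394) D21393
def n23077 : Q := act 5 n21394
theorem D23077 : act 5 n21394 = n23077 := rfl
theorem F44554 : act 0 n23077 = n21592 := d4_1 D23077 (iv D21592) (iv F40457)
theorem F44555 : act 1 n23077 = n21395 := d8_1 D23077 (iv D21395) (iv F40458)
theorem F44556 : act 4 n23077 = n22913 := d14_1 D23077 (iv D22913) (iv D21149) (iv F34984) D21394
def n23078 : Q := act 4 n21396
theorem D23078 : act 4 n21396 = n23078 := rfl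
theorem F44557 : act 0 n23078 = n21397 := d3_1 D23078 (iv D21397) D21396
theorem F44558 : act 2 n23078 = n21597 := d10_1 D23078 (iv D21597) (iv F40460)
def n23079 : Q := act 3 n21397
theorem D23079 : act 3 n21397 = n23079 := rfl
theorem F44559 : act 1 n23079 = n21398 := d6_1 D23079 (iv D21398) (iv F40462)
def n23080 : Q := act 5 n21397
theorem D23080 : act 5 n21397 = n23080 := rfl
theorem F44560 : act 1 n23080 = n21399 := d8_1 D23080 (iv D21399) (iv F40462)
theorem F44561 : act 2 n23080 = n21599 := d11_1 D23080 (iv D21599) (iv F40463)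
theorem F44562 : act 4 n23080 = n22891 := d14_1 D23080 (iv D22891) (iv D21128) (iv F34987) D21397
def n23081 : Q := act 2 n21398
theorem D23081 : act 2 n21398 = n23081 := rfl
theorem F44563 : act 3 n23081 = n22095 := d15_3 (iv F34988) D21398 D23081 F42164 (iv F40585) (iv F44168) F44169 (iv D21395) F34985
theorem F44564 : act 5 n22094 = n23081 := d13_0 F44563 (iv D22095) D22094
def n23082 : Q := act 5 n21398
theorem D23082 : act 5 n21398 = n23082 := rfl
theorem F44565 : act 2 n23082 = n22094 := d11_1 D23082 F44564 (iv D23081)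
theorem F44566 : act 3 n23082 = n21399 := d13_1 D23082 (iv D21399) D21398
theorem F44567 : act 4 n22385 = n23082 := d12_0 F44566 F43897 (iv D22844) (iv F42066) (iv F42837)
def n23083 : Q := act 3 n21402
theorem D23083 : act 3 n21402 = n23083 := rfl
theorem F44568 : act 0 n23083 = n22758 := d2_1 D23083 (iv D22758) (iv F40473)
theorem F44569 : act 1 n23083 = n22761 := d6_1 D23083 (iv D22761) (iv F40474)
theorem F44570 : act 4 n23083 = n22859 := d12_2 D21402 D23083 (iv D22859) (iv D21095) (iv F35008)
theorem F44571 : act 5 n23083 = n22889 := d13_2 F43506 D23083 F44012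
theorem F44572 : act 2 n22897 = n23083 := d11_3 F44571 F44011 D22897
def n23084 : Q := act 4 n21403
theorem D23084 : act 4 n21403 = n23084 := rfl
theorem F44573 : act 0 n23084 = n21408 := d3_1 D23084 (iv D21408) (iv F40476)
theorem F44574 : act 1 n23084 = n22236 := d7_1 D23084 (iv D22236) (iv F40477)
theorem F44575 : act 2 n23084 = n21404 := d10_1 D23084 (iv D21404) D21403
theorem F44576 : act 5 n23084 = n22572 := d14_2 F40479 D23084 (iv F43534) F43535 (iv D22231)
def n23085 : Q := act 3 n21406
theorem D23085 : act 3 n21406 = n23085 := rfl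
theorem F44577 : act 0 n23085 = n21550 := d2_1 D23085 (iv D21550) (iv F40488)
theorem F44578 : act 1 n23085 = n21407 := d6_1 D23085 (iv D21407) D21406
theorem F44579 : act 2 n23085 = n22217 := d9_1 D23085 F44302 (iv D22998) (iv D21283) F34760 (iv F31770) (iv F37931) F37932 (iv F42437) (iv F44267) F44266 F40178 F34766 (iv F35017) (iv F40489)
theorem F44580 : act 5 n23085 = n21415 := d13_2 F40490 D23085 (iv D21415)
def n23086 : Q := act 4 n21406
theorem D23086 : act 4 n21406 = n23086 := rfl
theorem F44581 : act 0 n23086 = n21551 := d3_1 D23086 (iv D21551) (iv F40488)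
theorem F44582 : act 1 n23086 = n21408 := d7_1 D23086 (iv D21408) D21406
theorem F44583 : act 2 n23086 = n21410 := d10_1 D23086 (iv D21410) (iv F40489)
def n23087 : Q := act 4 n21407
theorem D23087 : act 4 n21407 = n23087 := rfl
theorem F44584 : act 0 n23087 = n21424 := d3_1 D23087 (iv D21424) (iv F40491)
theorem F44585 : act 2 n23087 = n21423 := d10_1 D23087 (iv D21423) (iv F40492)
def n23088 : Q := act 3 n21410
theorem D23088 : act 3 n21410 = n23088 := rfl
theorem F44586 : act 0 n23088 = n21455 := d2_1 D23088 F40587 (iv F40499)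
theorem F44587 : act 1 n23088 = n21411 := d6_1 D23088 (iv D21411) (iv F40500)
theorem F44588 : act 4 n23088 = n21418 := d12_2 D21410 D23088 (iv D21418) (iv D19101) (iv F35017)
def n23089 : Q := act 5 n21410
theorem D23089 : act 5 n21410 = n23089 := rfl
theorem F44589 : act 0 n23089 = n21552 := d4_1 D23089 (iv D21552) (iv F40499)
theorem F44590 : act 1 n23089 = n21412 := d8_1 D23089 (iv D21412) (iv F40500)
theorem F44591 : act 4 n23089 = n21417 := d14_1 D23089 (iv D21417) (iv D19100) (iv F35018) D21410
def n23090 : Q := act 5 n21411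
theorem D23090 : act 5 n21411 = n23090 := rfl
theorem F44592 : act 0 n23090 = n21420 := d4_1 D23090 F40529 (iv F40501)
theorem F44593 : act 2 n23090 = n21541 := d11_1 D23090 (iv D21541) F40503
theorem F44594 : act 3 n23090 = n21412 := d13_1 D23090 (iv D21412) D21411
theorem F44595 : act 4 n23090 = n21545 := d14_1 D23090 (iv D21545) (iv D19250) (iv F35043) (iv F40502)
def n23091 : Q := act 3 n21413
theorem D23091 : act 3 n21413 = n23091 := rfl
theorem F44596 : act 0 n23091 = n21414 := d2_1 D23091 (iv D21414) (iv F40507)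
theorem F44597 : act 1 n23091 = n22220 := d6_1 D23091 (iv D22220) (iv F40508)
theorem F44598 : act 4 n23091 = n22241 := d12_2 D21413 D23091 (iv D22241) (iv D20187) F35026
theorem F44599 : act 5 n23091 = n21427 := d13_2 (iv F40510) D23091 (iv D21427)
def n23092 : Q := act 2 n21415
theorem D23092 : act 2 n21415 = n23092 := rfl
theorem F44600 : act 0 n23092 = n22209 := d1_1 D23092 F42437 (iv F40514)
theorem F44601 : act 1 n23092 = n22212 := d5_1 D23092 F42442 F37512 (iv F37529) (iv F40515)
theorem F44602 : act 3 n23092 = n21443 := d9_2 D21415 D23092 (iv D21443) (iv D19137) F28787 D16440 D19254 D21550 (iv F44309) (iv D23000) (iv D21284) (iv D18966) F28462 D16261 D19099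
theorem F44603 : act 5 n23092 = n22217 := d11_2 F44580 D23092 (iv F44579)
def n23093 : Q := act 4 n21415
theorem D23093 : act 4 n21415 = n23093 := rfl
theorem F44604 : act 0 n23093 = n22225 := d3_1 D23093 (iv D22225) (iv F40514)
theorem F44605 : act 1 n23093 = n22230 := d7_1 D23093 (iv D22230) (iv F40515)
def n23094 : Q := act 3 n21416
theorem D23094 : act 3 n21416 = n23094 := rfl
def n23095 : Q := act 2 n21418
theorem D23095 : act 2 n21418 = n23095 := rfl
theorem F44606 : act 0 n23095 = n21454 := d1_1 D23095 (iv D21454) (iv F40519)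
theorem F44607 : act 1 n23095 = n21536 := d5_1 D23095 (iv D21536) F35356 (iv F35044) (iv F40520)
theorem F44608 : act 5 n23095 = n21543 := d11_2 (iv F40521) D23095 (iv D21543)
theorem F44609 : act 3 n23095 = n21536 := d15_1 D23095 (iv D21536) (iv D19241) F29152 (iv F28916) (iv F34528) D21219 F40039 (iv F40519)
def n23096 : Q := act 2 n21420
theorem D23096 : act 2 n21420 = n23096 := rfl
theorem F44610 : act 0 n23096 = n21541 := d1_1 D23096 (iv F44593) F44592
theorem F44611 : act 3 n23096 = n22897 := d9_2 D21420 D23096 F44572 (iv D23083) F40475 F35009 (iv F35020) D21411 (iv F40503) D21540 F40837 F39838 (iv F41905) F41906 F40471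
theorem F44612 : act 4 n23096 = n21549 := d10_2 (iv F40528) D23096 F40849
theorem F44613 : act 5 n23096 = n21421 := d11_2 (iv F40529) D23096 (iv D21421)
def n23097 : Q := act 1 n21421
theorem D23097 : act 1 n21421 = n23097 := rfl
theorem F44614 : act 2 n23097 = n21458 := d5_2 D21421 D23097 F40592 F35153 (iv F35053)
theorem F44615 : act 3 n23097 = n22895 := d6_2 F40532 D23097 F44022
theorem F44616 : act 4 n23097 = n21422 := d7_2 (iv F40531) D23097 (iv D21422)
def n23098 : Q := act 0 n21422
theorem D23098 : act 0 n21422 = n23098 := rfl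
theorem F44617 : act 1 n23098 = n21535 := d0_2 D21422 D23098 F40828 F35356 (iv F35055)
theorem F44618 : act 2 n23098 = n21457 := d1_2 (iv F40533) D23098 (iv D21457)
theorem F44619 : act 3 n23098 = n21534 := d2_2 (iv F40534) D23098 (iv D21534)
theorem F44620 : act 5 n23098 = n21546 := d4_2 (iv F40535) D23098 (iv D21546)
def n23099 : Q := act 5 n21423
theorem D23099 : act 5 n21423 = n23099 := rfl
theorem F44621 : act 0 n23099 = n21425 := d4_1 D23099 (iv D21425) (iv F40536)
theorem F44622 : act 1 n23099 = n22219 := d8_1 D23099 (iv D22219) (iv F40537)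
theorem F44623 : act 3 n23099 = n21426 := d13_1 D23099 (iv D21426) (iv F40538)
theorem F44624 : act 4 n23099 = n22242 := d14_1 D23099 (iv D22242) (iv D20187) (iv F35060) D21423
def n23100 : Q := act 3 n21424
theorem D23100 : act 3 n21424 = n23100 := rfl
theorem F44625 : act 1 n23100 = n22240 := d6_1 D23100 (iv D22240) (iv F40539)
def n23101 : Q := act 5 n21424
theorem D23101 : act 5 n21424 = n23101 := rfl
theorem F44626 : act 1 n23101 = n22239 := d8_1 D23101 F42483 (iv F40539)
theorem F44627 : act 2 n23101 = n21425 := d11_1 D23101 (iv D21425) (iv F40540)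
theorem F44628 : act 4 n23101 = n22233 := d14_1 D23101 (iv D22233) (iv D20180) (iv F35062) D21424
def n23102 : Q := act 4 n21428
theorem D23102 : act 4 n21428 = n23102 := rfl
theorem F44629 : act 0 n23102 = n21430 := d3_1 D23102 (iv D21430) (iv F40546)
theorem F44630 : act 2 n23102 = n22221 := d10_1 D23102 (iv D22221) (iv F40547)
theorem F44631 : act 3 n23102 = n22328 := d12_1 D23102 F42707 F40556 (iv F35341) D21428
theorem F44632 : act 5 n22327 = n23102 := d13_0 F44631 (iv D22328) D22327
def n23103 : Q := act 4 n21429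
theorem D23103 : act 4 n21429 = n23103 := rfl
theorem F44633 : act 0 n23103 = n22221 := d3_1 D23103 (iv D22221) (iv F40548)
theorem F44634 : act 2 n23103 = n21430 := d10_1 D23103 (iv D21430) D21429
def n23104 : Q := act 3 n21430
theorem D23104 : act 3 n21430 = n23104 := rfl
theorem F44635 : act 0 n23104 = n22328 := d2_1 D23104 (iv F44631) F44629
theorem F44636 : act 1 n23104 = n21433 := d6_1 D23104 (iv D21433) (iv F40550)
theorem F44637 : act 4 n23104 = n21431 := d12_2 D21430 D23104 (iv D21431) (iv D19125) D19124
theorem F44638 : act 2 n22323 = n23104 := d10_3 F44637 (iv F40567) (iv F42694)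
theorem F44639 : act 5 n22322 = n23104 := d14_0 F44637 (iv F40552) (iv F35341) (iv F37869) D22322
def n23105 : Q := act 5 n21430
theorem D23105 : act 5 n21430 = n23105 := rfl
theorem F44640 : act 0 n23105 = n22327 := d4_1 D23105 F44632 F44629
theorem F44641 : act 1 n23105 = n21434 := d8_1 D23105 (iv D21434) (iv F40550)
theorem F44642 : act 3 n23105 = n22322 := d13_1 D23105 F44639 (iv D23104)
def n23106 : Q := act 5 n21433
theorem D23106 : act 5 n21433 = n23106 := rfl
theorem F44643 : act 0 n23106 = n21526 := d4_1 D23106 (iv D21526) (iv F40557)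
theorem F44644 : act 1 n23106 = n22322 := d8_1 D23106 F44639 F44636
theorem F44645 : act 2 n23106 = n21533 := d11_1 D23106 F40823 (iv F40559)
theorem F44646 : act 3 n23106 = n21434 := d13_1 D23106 (iv D21434) D21433
theorem F44647 : act 4 n23106 = n21532 := d14_1 D23106 (iv D21532) (iv D19235) (iv F35094) (iv F40558)
def n23107 : Q := act 4 n21434
theorem D23107 : act 4 n21434 = n23107 := rfl
theorem F44648 : act 0 n23107 = n21449 := d3_1 D23107 (iv F43915) F43912
theorem F44649 : act 2 n23107 = n21445 := d10_1 D23107 (iv F44316) F44314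
theorem F44650 : act 5 n23107 = n21435 := d14_2 D21434 D23107 (iv D21435) (iv D19127) D19126
def n23108 : Q := act 3 n21435
theorem D23108 : act 3 n21435 = n23108 := rfl
theorem F44651 : act 0 n23108 = n21448 := d2_1 D23108 (iv D21448) (iv F40560)
theorem F44652 : act 2 n23108 = n22927 := d9_1 D23108 (iv D22927) F39898 (iv F35238) F35237 (iv F35117) (iv F40579) F40759 F40758 (iv D21515) F35299 F29095 (iv F28945) (iv F35115) (iv F40561)
theorem F44653 : act 4 n23108 = n21437 := d12_2 D21435 D23108 (iv D21437) (iv D19130) (iv F35091)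
def n23109 : Q := act 3 n21436
theorem D23109 : act 3 n21436 = n23109 := rfl
theorem F44654 : act 0 n23109 = n21527 := d2_1 D23109 (iv D21527) (iv F40562)
theorem F44655 : act 1 n23109 = n23102 := d6_1 D23109 F44631 F42705
theorem F44656 : act 4 n23109 = n21531 := d12_2 D21436 D23109 (iv D21531) (iv D19235) (iv F35097)
theorem F44657 : act 5 n23109 = n21437 := d13_2 (iv F40564) D23109 (iv D21437)
theorem F44658 : act 2 n23004 = n23109 := d15_0 (iv D23109) F40563 F35101 F28952 (iv F34194) (iv F39911) D22929 F44076 (iv F44317)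
def n23110 : Q := act 2 n21437
theorem D23110 : act 2 n21437 = n23110 := rfl
theorem F44659 : act 0 n23110 = n22929 := d1_1 D23110 F44077 F43916
theorem F44660 : act 3 n23110 = n21564 := d9_2 D21437 D23110 (iv D21564) (iv D19271) F29180 (iv F29126) (iv F35332) D21527 F40798 (iv F40683) (iv D21491) (iv D19188) F28957 (iv F28782) (iv F35098)
theorem F44661 : act 4 n23110 = n22927 := d10_2 F44653 D23110 (iv F44652)
theorem F44662 : act 5 n23110 = n23004 := d11_2 F44657 D23110 F44658
def n23111 : Q := act 2 n21438
theorem D23111 : act 2 n21438 = n23111 := rfl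
theorem F44663 : act 0 n23111 = n21440 := d1_1 D23111 (iv D21440) (iv F40565)
theorem F44664 : act 3 n23111 = n23111 := d15_1 D23111 (iv D23111) (iv D21438) (iv F35340) (iv F40556) F40555 (iv F40570) (iv D21441) (iv F40565)
def n23112 : Q := act 5 n21438
theorem D23112 : act 5 n21438 = n23112 := rfl
theorem F44665 : act 0 n23112 = n21441 := d4_1 D23112 (iv D21441) (iv F40565)
theorem F44666 : act 1 n23112 = n22534 := d8_1 D23112 F43136 F40800
theorem F44667 : act 3 n23112 = n21439 := d13_1 D23112 (iv D21439) D21438
theorem F44668 : act 4 n22814 = n23112 := d3_0 F44665 (iv F40571) D22814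
def n23113 : Q := act 1 n21440
theorem D23113 : act 1 n21440 = n23113 := rfl
theorem F44669 : act 2 n23113 = n21442 := d5_2 D21440 D23113 (iv D21442) (iv D19135) (iv F35104)
theorem F44670 : act 3 n23113 = n23113 := d6_2 F40568 D23113 (iv D23113)
theorem F44671 : act 5 n23113 = n21745 := d15_8 (iv D22201) (iv D20146) F31178 (iv F30864) (iv F36065) (iv F40572) (iv F44669) F44670 (iv F42416)
def n23114 : Q := act 5 n21440
theorem D23114 : act 5 n21440 = n23114 := rfl
theorem F44672 : act 1 n23114 = n21745 := d8_1 D23114 (iv F44671) (iv D23113)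
theorem F44673 : act 2 n23114 = n21441 := d11_1 D23114 (iv D21441) D21440
theorem F44674 : act 3 n23114 = n23114 := d13_1 D23114 (iv D23114) F40568
theorem F44675 : act 4 n22812 = n23114 := d10_0 F44673 (iv F40571) (iv F43815)
def n23115 : Q := act 4 n21443
theorem D23115 : act 4 n21443 = n23115 := rfl
theorem F44676 : act 2 n23115 = n21444 := d10_1 D23115 (iv D21444) D21443
def n23116 : Q := act 5 n21444
theorem D23116 : act 5 n21444 = n23116 := rfl
theorem F44677 : act 1 n23116 = n21445 := d8_1 D23116 (iv D21445) (iv F40574)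
theorem F44678 : act 3 n23116 = n21487 := d13_1 D23116 (iv D21487) (iv F40575)
def n23117 : Q := act 4 n21446
theorem D23117 : act 4 n21446 = n23117 := rfl
theorem F44679 : act 0 n23117 = n21447 := d3_1 D23117 (iv D21447) D21446
theorem F44680 : act 3 n23117 = n23107 := d12_1 D23117 (iv D23107) (iv F44646) F44647 F40819
theorem F44681 : act 5 n23117 = n23108 := d14_2 F40815 D23117 F44653 (iv F44657) F44656
def n23118 : Q := act 2 n21448
theorem D23118 : act 2 n21448 = n23118 := rfl
theorem F44682 : act 0 n23118 = n22927 := d1_1 D23118 (iv F44652) F44651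
theorem F44683 : act 1 n23118 = n22980 := d5_1 D23118 F44244 F40224 (iv F40579) (iv F40760)
theorem F44684 : act 4 n23118 = n22929 := d10_2 F43918 D23118 F44077
theorem F44685 : act 5 n23118 = n21515 := d11_2 F40761 D23118 (iv F40758)
theorem F44686 : act 3 n23118 = n21516 := d15_1 D23118 F40764 F35302 (iv F35208) (iv F40577) (iv F44649) (iv F44680) F44681 F44651
def n23119 : Q := act 2 n21450
theorem D23119 : act 2 n21450 = n23119 := rfl
theorem F44687 : act 0 n23119 = n21451 := d1_1 D23119 (iv D21451) (iv F40580)
theorem F44688 : act 3 n23119 = n21451 := d15_1 D23119 (iv D21451) (iv D19144) F28798 (iv F28238) (iv F34511) D21216 F40031 (iv F40580)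
def n23120 : Q := act 4 n21450
theorem D23120 : act 4 n21450 = n23120 := rfl
theorem F44689 : act 0 n23120 = n21452 := d3_1 D23120 (iv D21452) (iv F40580)
theorem F44690 : act 1 n23120 = n21638 := d7_1 D23120 (iv D21638) (iv F40581)
theorem F44691 : act 3 n23120 = n22088 := d12_1 D23120 (iv D22088) (iv D19978) (iv F35122) D21450
def n23121 : Q := act 4 n21451
theorem D23121 : act 4 n21451 = n23121 := rfl
theorem F44692 : act 2 n23121 = n21452 := d10_1 D23121 (iv D21452) D21451
def n23122 : Q := act 5 n21452
theorem D23122 : act 5 n21452 = n23122 := rfl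
theorem F44693 : act 1 n23122 = n21453 := d8_1 D23122 (iv D21453) (iv F40582)
theorem F44694 : act 3 n23122 = n22091 := d13_1 D23122 (iv D22091) (iv F40583)
theorem F44695 : act 4 n23122 = n22495 := d14_1 D23122 F43043 F42134 F40031 D21452
def n23123 : Q := act 3 n21454
theorem D23123 : act 3 n21454 = n23123 := rfl
theorem F44696 : act 0 n23123 = n21536 := d2_1 D23123 (iv F44609) F44606
theorem F44697 : act 2 n23123 = n21535 := d15_2 D21454 D23123 (iv D21535) F35355 F29159 (iv F29162) D19249 (iv F40521) F40519
def n23124 : Q := act 4 n21454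
theorem D23124 : act 4 n21454 = n23124 := rfl
theorem F44698 : act 2 n23124 = n21455 := d10_1 D23124 (iv D21455) D21454
def n23125 : Q := act 5 n21455
theorem D23125 : act 5 n21455 = n23125 := rfl
theorem F44699 : act 1 n23125 = n21456 := d8_1 D23125 (iv D21456) (iv F40586)
theorem F44700 : act 3 n23125 = n21552 := d13_1 D23125 (iv D21552) (iv F40587)
def n23126 : Q := act 4 n21457
theorem D23126 : act 4 n21457 = n23126 := rfl
theorem F44701 : act 0 n23126 = n21458 := d3_1 D23126 (iv D21458) D21457
def n23127 : Q := act 3 n21458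
theorem D23127 : act 3 n21458 = n23127 := rfl
theorem F44702 : act 1 n23127 = n21459 := d6_1 D23127 (iv D21459) (iv F40592)
theorem F44703 : act 4 n23127 = n21630 := d12_2 D21458 D23127 (iv D21630) (iv D19359) (iv F35151)
theorem F44704 : act 2 n22580 = n23127 := d5_0 F44702 F40595 F38156 D20734 D22580
def n23128 : Q := act 5 n21458
theorem D23128 : act 5 n21458 = n23128 := rfl
theorem F44705 : act 1 n23128 = n21460 := d8_1 D23128 (iv D21460) (iv F40592)
theorem F44706 : act 4 n23128 = n21639 := d14_1 D23128 (iv D21639) (iv D19370) (iv F35152) D21458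
def n23129 : Q := act 3 n21461
theorem D23129 : act 3 n21461 = n23129 := rfl
def n23130 : Q := act 5 n21461
theorem D23130 : act 5 n21461 = n23130 := rfl
theorem F44707 : act 2 n23130 = n21462 := d11_1 D23130 (iv D21462) D21461
def n23131 : Q := act 4 n21462
theorem D23131 : act 4 n21462 = n23131 := rfl
theorem F44708 : act 0 n23131 = n22395 := d3_1 D23131 (iv F44150) F44147
theorem F44709 : act 1 n23131 = n21468 := d7_1 D23131 (iv D21468) (iv F40599)
theorem F44710 : act 3 n23131 = n21504 := d12_1 D23131 (iv D21504) F35265 (iv F35158) (iv F40600)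
theorem F44711 : act 5 n23131 = n21465 := d14_2 D21462 D23131 (iv D21465) (iv D19160) (iv F35156)
def n23132 : Q := act 4 n21464
theorem D23132 : act 4 n21464 = n23132 := rfl
theorem F44712 : act 0 n23132 = n22394 := d3_1 D23132 (iv D22394) (iv F40602)
theorem F44713 : act 1 n23132 = n21489 := d7_1 D23132 (iv D21489) (iv F40603)
theorem F44714 : act 2 n23132 = n21465 := d10_1 D23132 (iv D21465) (iv F40604)
theorem F44715 : act 3 n23132 = n21944 := d12_1 D23132 F41830 D21971 (iv F43208) F43207
def n23133 : Q := act 2 n21466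
theorem D23133 : act 2 n21466 = n23133 := rfl
theorem F44716 : act 0 n23133 = n21476 := d1_1 D23133 (iv D21476) (iv F40608)
theorem F44717 : act 3 n23133 = n21471 := d9_2 D21466 D23133 F40630 F35178 F28922 (iv F28925) (iv F35180) (iv F40647) F40646 (iv D19214) (iv D16395) (iv D13336) (iv F22542) D16333 D19161
theorem F44718 : act 4 n23133 = n21491 := d10_2 (iv F40609) D23133 (iv D21491)
theorem F44719 : act 5 n23133 = n21470 := d11_2 F40610 D23133 F40627
theorem F44720 : act 1 n22981 = n23133 := d8_3 F44719 F40625 (iv F44249)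
def n23134 : Q := act 3 n21473
theorem D23134 : act 3 n21473 = n23134 := rfl
theorem F44721 : act 0 n23134 = n21474 := d2_1 D23134 (iv D21474) D21473
def n23135 : Q := act 5 n21473
theorem D23135 : act 5 n21473 = n23135 := rfl
theorem F44722 : act 0 n23135 = n21475 := d4_1 D23135 (iv D21475) D21473
def n23136 : Q := act 2 n21474
theorem D23136 : act 2 n21474 = n23136 := rfl
def n23137 : Q := act 4 n21474
theorem D23137 : act 4 n21474 = n23137 := rfl
theorem F44723 : act 1 n23137 = n21477 := d7_1 D23137 (iv D21477) (iv F40638)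
theorem F44724 : act 3 n23137 = n21481 := d12_1 D23137 (iv D21481) (iv D19173) (iv F35179) D21474
theorem F44725 : act 5 n21563 = n23137 := d13_0 F44724 F40658 D21563
def n23138 : Q := act 5 n21474
theorem D23138 : act 5 n21474 = n23138 := rfl
theorem F44726 : act 1 n23138 = n21478 := d8_1 D23138 (iv D21478) (iv F40638)
theorem F44727 : act 3 n23138 = n21475 := d13_1 D23138 (iv D21475) D21474
theorem F44728 : act 4 n23138 = n22921 := d14_1 D23138 (iv D22921) (iv F40874) F44725 (iv D23137)
def n23139 : Q := act 4 n21475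
theorem D23139 : act 4 n21475 = n23139 := rfl
theorem F44729 : act 1 n23139 = n21479 := d7_1 D23139 (iv D21479) (iv F40639)
theorem F44730 : act 2 n23139 = n22398 := d10_1 D23139 (iv F44190) F44189
theorem F44731 : act 3 n23139 = n21562 := d12_1 D23139 F40872 (iv F44060) (iv F44728) F44727
theorem F44732 : act 5 n23139 = n21482 := d14_2 D21475 D23139 (iv D21482) (iv D19174) (iv F35179)
def n23140 : Q := act 1 n21476
theorem D23140 : act 1 n21476 = n23140 := rfl
theorem F44733 : act 0 n23140 = n22333 := d0_1 D23140 F42719 (iv F44247) F44720 F44716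
theorem F44734 : act 3 n23140 = n21510 := d6_2 (iv F40640) D23140 (iv D21510)
theorem F44735 : act 5 n23140 = n21512 := d8_2 F40641 D23140 F40747
def n23141 : Q := act 4 n21476
theorem D23141 : act 4 n21476 = n23141 := rfl
theorem F44736 : act 0 n23141 = n21491 := d3_1 D23141 (iv F44718) F44716
theorem F44737 : act 2 n23141 = n21477 := d10_1 D23141 (iv D21477) D21476
theorem F44738 : act 3 n23141 = n23004 := d12_1 D23141 (iv D23004) F40738 F40736 (iv F40640)
theorem F44739 : act 5 n23141 = n21564 := d14_2 F40641 D23141 F40876 (iv F39890) (iv F35283)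
def n23142 : Q := act 4 n21480
theorem D23142 : act 4 n21480 = n23142 := rfl
theorem F44740 : act 0 n23142 = n21482 := d3_1 D23142 (iv D21482) (iv F40653)
theorem F44741 : act 1 n23142 = n21488 := d7_1 D23142 (iv D21488) (iv F40654)
theorem F44742 : act 2 n23142 = n22396 := d10_1 D23142 (iv D22396) (iv F40655)
theorem F44743 : act 3 n23142 = n21558 := d12_1 D23142 (iv D21558) (iv D19265) (iv F35200) (iv F40656)
def n23143 : Q := act 3 n21483
theorem D23143 : act 3 n21483 = n23143 := rfl
theorem F44744 : act 0 n23143 = n21485 := d2_1 D23143 (iv D21485) (iv F40662)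
theorem F44745 : act 1 n23143 = n21546 := d6_1 D23143 F40846 (iv F40663)
theorem F44746 : act 5 n23143 = n21535 := d13_2 (iv F40664) D23143 (iv D21535)
def n23144 : Q := act 4 n21483
theorem D23144 : act 4 n21483 = n23144 := rfl
theorem F44747 : act 0 n23144 = n21486 := d3_1 D23144 (iv D21486) (iv F40662)
theorem F44748 : act 1 n23144 = n21619 := d7_1 D23144 (iv D21619) (iv F40663)
theorem F44749 : act 2 n23144 = n21484 := d10_1 D23144 (iv D21484) D21483
def n23145 : Q := act 2 n21485
theorem D23145 : act 2 n21485 = n23145 := rfl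
theorem F44750 : act 1 n23145 = n21543 := d5_1 D23145 (iv D21543) F35371 (iv F35311) (iv F40667)
theorem F44751 : act 3 n23145 = n21543 := d9_2 D21485 D23145 (iv D21543) (iv D19249) F29162 (iv F29159) (iv F35355) D21535 (iv F44697) (iv D23123) (iv D21454) (iv D19152) F28892 D16351 D19180
theorem F44752 : act 5 n23145 = n21536 := d11_2 (iv F40668) D23145 (iv D21536)
def n23146 : Q := act 4 n21485
theorem D23146 : act 4 n21485 = n23146 := rfl
theorem F44753 : act 1 n23146 = n21519 := d7_1 D23146 (iv D21519) (iv F40667)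
def n23147 : Q := act 3 n21486
theorem D23147 : act 3 n21486 = n23147 := rfl
theorem F44754 : act 1 n23147 = n21520 := d6_1 D23147 (iv D21520) (iv F40669)
def n23148 : Q := act 5 n21486
theorem D23148 : act 5 n21486 = n23148 := rfl
theorem F44755 : act 1 n23148 = n21521 := d8_1 D23148 (iv D21521) (iv F40669)
theorem F44756 : act 2 n23148 = n21487 := d11_1 D23148 (iv D21487) (iv F40670)
theorem F44757 : act 4 n23148 = n21539 := d14_1 D23148 (iv D21539) (iv D19242) (iv F35205) D21486
def n23149 : Q := act 5 n21488
theorem D23149 : act 5 n21488 = n23149 := rfl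
theorem F44758 : act 0 n23149 = n21490 := d4_1 D23149 (iv D21490) (iv F40673)
theorem F44759 : act 2 n23149 = n21936 := d11_1 D23149 F41805 (iv F40674)
theorem F44760 : act 3 n23149 = n21929 := d13_1 D23149 F41791 (iv F40675)
def n23150 : Q := act 5 n21489
theorem D23150 : act 5 n21489 = n23150 := rfl
theorem F44761 : act 0 n23150 = n21936 := d4_1 D23150 F41805 (iv F40676)
theorem F44762 : act 2 n23150 = n21490 := d11_1 D23150 (iv D21490) (iv F40677)
theorem F44763 : act 3 n23150 = n21934 := d13_1 D23150 F41801 (iv F40678)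
def n23151 : Q := act 4 n21492
theorem D23151 : act 4 n21492 = n23151 := rfl
theorem F44764 : act 0 n23151 = n21493 := d3_1 D23151 (iv D21493) D21492
theorem F44765 : act 1 n23151 = n21617 := d7_1 D23151 (iv D21617) (iv F40684)
theorem F44766 : act 2 n23151 = n21495 := d10_1 D23151 (iv D21495) (iv F40685)
theorem F44767 : act 5 n23151 = n22436 := d14_2 (iv F40687) D23151 (iv D22436) F38344 (iv F35319)
def n23152 : Q := act 2 n21496
theorem D23152 : act 2 n21496 = n23152 := rfl
theorem F44768 : act 0 n23152 = n21588 := d1_1 D23152 F40957 (iv F40699)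
theorem F44769 : act 4 n23152 = n21499 := d10_2 (iv F40701) D23152 (iv D21499)
theorem F44770 : act 5 n23152 = n22382 := d11_2 F40702 D23152 F42834
def n23153 : Q := act 1 n21498
theorem D23153 : act 1 n21498 = n23153 := rfl
theorem F44771 : act 0 n23153 = n22983 := d0_1 D23153 F44253 F40166 (iv F35298) (iv F40708)
theorem F44772 : act 4 n23153 = n21500 := d7_2 (iv F40709) D23153 (iv D21500)
theorem F44773 : act 5 n23153 = n22926 := d8_2 (iv F40710) D23153 F44070
theorem F44774 : act 3 n22986 = n23153 := d12_5 F44772 F40714 F35289 D21269 D22986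
def n23154 : Q := act 3 n21498
theorem D23154 : act 3 n21498 = n23154 := rfl
theorem F44775 : act 0 n23154 = n21515 := d2_1 D23154 (iv D21515) (iv F40708)
theorem F44776 : act 1 n23154 = n22986 := d6_1 D23154 F44774 (iv D23153)
theorem F44777 : act 2 n23154 = n23117 := d9_1 D23154 F44680 F44649 F40577 F35208 (iv F35302) (iv F40764) (iv F44686) (iv D23118) (iv D21448) F35116 F28790 (iv F28969) D19195 D21498
theorem F44778 : act 4 n23154 = n21513 := d12_2 (iv F40709) D23154 (iv D21513) F35286 (iv F35262)
theorem F44779 : act 5 n23154 = n22927 := d13_2 (iv F40710) D23154 (iv D22927)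
def n23155 : Q := act 1 n21499
theorem D23155 : act 1 n21499 = n23155 := rfl
theorem F44780 : act 0 n23155 = n22982 := d0_1 D23155 F44251 F40376 F40126 (iv F40711)
theorem F44781 : act 2 n23155 = n21500 := d5_2 D21499 D23155 (iv D21500) (iv D19202) (iv F35259)
theorem F44782 : act 5 n23155 = n21514 := d8_2 (iv F40712) D23155 F40754
def n23156 : Q := act 3 n21501
theorem D23156 : act 3 n21501 = n23156 := rfl
theorem F44783 : act 1 n23156 = n21502 := d6_1 D23156 (iv D21502) D21501
theorem F44784 : act 4 n23156 = n21502 := d12_2 F44173 D23156 (iv D21502) (iv F40048) F44175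
def n23157 : Q := act 5 n21501
theorem D23157 : act 5 n21501 = n23157 := rfl
theorem F44785 : act 1 n23157 = n21503 := d8_1 D23157 (iv D21503) D21501
theorem F44786 : act 2 n23157 = n21506 := d11_1 D23157 (iv D21506) (iv F40716)
def n23158 : Q := act 2 n21502
theorem D23158 : act 2 n21502 = n23158 := rfl
theorem F44787 : act 3 n23158 = n21503 := d15_3 D19203 D21502 D23158 F40717 F35265 (iv F34546) (iv F40055) (iv D21224) F34541
theorem F44788 : act 5 n21502 = n23158 := d13_0 F44787 (iv D21503) D21502
def n23159 : Q := act 4 n21503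
theorem D23159 : act 4 n21503 = n23159 := rfl
theorem F44789 : act 0 n23159 = n22406 := d3_1 D23159 (iv F44181) F44178
theorem F44790 : act 2 n23159 = n21504 := d10_1 D23159 (iv D21504) (iv F40717)
theorem F44791 : act 5 n23159 = n22403 := d14_2 D21503 D23159 (iv D22403) (iv F40049) F40048
def n23160 : Q := act 2 n21505
theorem D23160 : act 2 n21505 = n23160 := rfl
theorem F44792 : act 1 n23160 = n21990 := d5_1 D23160 F41927 F38070 (iv F35266) (iv F40721)
theorem F44793 : act 5 n23160 = n21985 := d11_2 F40722 D23160 F41918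
theorem F44794 : act 3 n22532 = n23160 := d6_0 F44792 F41928 D22532
def n23161 : Q := act 3 n21511
theorem D23161 : act 3 n21511 = n23161 := rfl
theorem F44795 : act 0 n23161 = n21512 := d2_1 D23161 (iv D21512) D21511
theorem F44796 : act 1 n23161 = n22985 := d6_1 D23161 (iv D22985) (iv F40743)
theorem F44797 : act 4 n23161 = n22923 := d12_2 (iv F40745) D23161 (iv D22923) F39895 F35294
theorem F44798 : act 5 n23161 = n22333 := d13_2 (iv F40746) D23161 (iv D22333)
def n23162 : Q := act 2 n21512
theorem D23162 : act 2 n21512 = n23162 := rfl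
theorem F44799 : act 4 n23162 = n22925 := d10_2 (iv F40748) D23162 (iv D22925)
def n23163 : Q := act 3 n21514
theorem D23163 : act 3 n21514 = n23163 := rfl
theorem F44800 : act 0 n23163 = n23055 := d2_1 D23163 (iv D23055) (iv F40753)
theorem F44801 : act 1 n23163 = n21569 := d6_1 D23163 (iv D21569) (iv F40754)
theorem F44802 : act 2 n23163 = n22995 := d15_2 D21514 D23163 (iv D22995) (iv D21279) (iv D18961) (iv F34716) D21266 F40165 (iv F35295)
def n23164 : Q := act 4 n21517
theorem D23164 : act 4 n21517 = n23164 := rfl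
theorem F44803 : act 0 n23164 = n21619 := d3_1 D23164 (iv D21619) (iv F40766)
theorem F44804 : act 1 n23164 = n21518 := d7_1 D23164 (iv D21518) D21517
theorem F44805 : act 2 n23164 = n21617 := d10_1 D23164 (iv D21617) (iv F40767)
theorem F44806 : act 5 n23164 = n22896 := d14_2 (iv F40769) D23164 (iv D22896) (iv D21132) (iv F35354)
def n23165 : Q := act 3 n21518
theorem D23165 : act 3 n21518 = n23165 := rfl
theorem F44807 : act 0 n23165 = n21520 := d2_1 D23165 (iv D21520) (iv F40770)
theorem F44808 : act 4 n23165 = n21548 := d12_2 D21518 D23165 (iv D21548) (iv D19252) (iv F35305)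
theorem F44809 : act 5 n23165 = n22898 := d13_2 (iv F40772) D23165 (iv D22898)
def n23166 : Q := act 3 n21519
theorem D23166 : act 3 n21519 = n23166 := rfl
theorem F44810 : act 0 n23166 = n21548 := d2_1 D23166 (iv D21548) (iv F40773)
theorem F44811 : act 4 n23166 = n21520 := d12_2 D21519 D23166 (iv D21520) (iv D19224) D19223
def n23167 : Q := act 5 n21519
theorem D23167 : act 5 n21519 = n23167 := rfl
theorem F44812 : act 0 n23167 = n21549 := d4_1 D23167 (iv D21549) (iv F40773)
theorem F44813 : act 2 n23167 = n21545 := d11_1 D23167 (iv D21545) (iv F40774)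
theorem F44814 : act 4 n23167 = n21541 := d14_1 D23167 (iv D21541) (iv D19243) (iv F35312) D21519
def n23168 : Q := act 2 n21520
theorem D23168 : act 2 n21520 = n23168 := rfl
def n23169 : Q := act 5 n21520
theorem D23169 : act 5 n21520 = n23169 := rfl
theorem F44815 : act 0 n23169 = n22898 := d4_1 D23169 (iv F44809) F44807
theorem F44816 : act 3 n23169 = n21521 := d13_1 D23169 (iv D21521) D21520
theorem F44817 : act 4 n22903 = n23169 := d12_0 F44816 F40777 F35364 D21139 D22903
def n23170 : Q := act 4 n21523
theorem D23170 : act 4 n21523 = n23170 := rfl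
theorem F44818 : act 0 n23170 = n21525 := d3_1 D23170 (iv D21525) (iv F40783)
theorem F44819 : act 1 n23170 = n21618 := d7_1 D23170 (iv D21618) (iv F40784)
theorem F44820 : act 2 n23170 = n21604 := d10_1 D23170 (iv D21604) (iv F40785)
theorem F44821 : act 3 n23170 = n22437 := d12_1 D23170 (iv D22437) F38347 (iv F35319) D21523
def n23171 : Q := act 4 n21524
theorem D23171 : act 4 n21524 = n23171 := rfl
theorem F44822 : act 0 n23171 = n21604 := d3_1 D23171 (iv D21604) (iv F40787)
theorem F44823 : act 1 n23171 = n21602 := d7_1 D23171 (iv D21602) (iv F40788)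
theorem F44824 : act 2 n23171 = n21525 := d10_1 D23171 (iv D21525) D21524
theorem F44825 : act 5 n23171 = n22511 := d14_2 (iv F40790) D23171 (iv D22511) (iv D20616) (iv F35534)
def n23172 : Q := act 4 n21535
theorem D23172 : act 4 n21535 = n23172 := rfl
theorem F44826 : act 0 n23172 = n21537 := d3_1 D23172 (iv D21537) (iv F40828)
def n23173 : Q := act 4 n21536
theorem D23173 : act 4 n21536 = n23173 := rfl
theorem F44827 : act 2 n23173 = n21537 := d10_1 D23173 (iv D21537) D21536
def n23174 : Q := act 3 n21537
theorem D23174 : act 3 n21537 = n23174 := rfl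
theorem F44828 : act 1 n23174 = n21540 := d6_1 D23174 (iv D21540) (iv F40829)
theorem F44829 : act 4 n23174 = n21538 := d12_2 D21537 D23174 (iv D21538) (iv D19242) D19241
theorem F44830 : act 2 n22773 = n23174 := d5_0 F44828 F40837 (iv F43269) F43270 (iv F43690)
def n23175 : Q := act 5 n21537
theorem D23175 : act 5 n21537 = n23175 := rfl
theorem F44831 : act 1 n23175 = n21541 := d8_1 D23175 (iv D21541) (iv F40829)
def n23176 : Q := act 2 n21538
theorem D23176 : act 2 n21538 = n23176 := rfl
theorem F44832 : act 1 n23176 = n22577 := d5_1 D23176 (iv D22577) F38877 (iv F35360) (iv F40830)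
theorem F44833 : act 4 n23176 = n22773 := d10_2 F44829 D23176 F44830
theorem F44834 : act 5 n23176 = n22899 := d11_2 F40831 D23176 F44024
def n23177 : Q := act 5 n21540
theorem D23177 : act 5 n21540 = n23177 := rfl
theorem F44835 : act 0 n23177 = n22897 := d4_1 D23177 (iv D22897) (iv F40835)
theorem F44836 : act 2 n23177 = n22758 := d11_1 D23177 F43656 (iv F40837)
theorem F44837 : act 3 n23177 = n21541 := d13_1 D23177 (iv D21541) D21540
theorem F44838 : act 4 n23177 = n22904 := d14_1 D23177 (iv D22904) (iv D21139) F35361 (iv F40836)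
def n23178 : Q := act 4 n21543
theorem D23178 : act 4 n21543 = n23178 := rfl
theorem F44839 : act 2 n23178 = n21544 := d10_1 D23178 (iv D21544) D21543
def n23179 : Q := act 5 n21544
theorem D23179 : act 5 n21544 = n23179 := rfl
theorem F44840 : act 1 n23179 = n21545 := d8_1 D23179 (iv D21545) (iv F40841)
theorem F44841 : act 3 n23179 = n21592 := d13_1 D23179 (iv D21592) (iv F40842)
def n23180 : Q := act 4 n21546
theorem D23180 : act 4 n21546 = n23180 := rfl
theorem F44842 : act 0 n23180 = n21547 := d3_1 D23180 (iv D21547) D21546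
theorem F44843 : act 2 n23180 = n21638 := d10_1 D23180 (iv D21638) (iv F40845)
def n23181 : Q := act 3 n21547
theorem D23181 : act 3 n21547 = n23181 := rfl
theorem F44844 : act 1 n23181 = n21548 := d6_1 D23181 (iv D21548) (iv F40847)
def n23182 : Q := act 5 n21547
theorem D23182 : act 5 n21547 = n23182 := rfl
theorem F44845 : act 1 n23182 = n21549 := d8_1 D23182 (iv D21549) (iv F40847)
theorem F44846 : act 2 n23182 = n21639 := d11_1 D23182 (iv D21639) (iv F40848)
def n23183 : Q := act 2 n21548
theorem D23183 : act 2 n21548 = n23183 := rfl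
theorem F44847 : act 3 n23183 = n22878 := d15_3 (iv F35375) D21548 D23183 F43988 F39799 (iv F35514) (iv F40844) (iv D21545) F35372
theorem F44848 : act 5 n22877 = n23183 := d13_0 F44847 (iv D22878) D22877
def n23184 : Q := act 5 n21548
theorem D23184 : act 5 n21548 = n23184 := rfl
theorem F44849 : act 2 n23184 = n22877 := d11_1 D23184 F44848 (iv D23183)
theorem F44850 : act 3 n23184 = n21549 := d13_1 D23184 (iv D21549) D21548
def n23185 : Q := act 4 n21550
theorem D23185 : act 4 n21550 = n23185 := rfl
theorem F44851 : act 1 n23185 = n22228 := d7_1 D23185 (iv D22228) (iv F40850)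
def n23186 : Q := act 3 n21551
theorem D23186 : act 3 n21551 = n23186 := rfl
theorem F44852 : act 1 n23186 = n22566 := d6_1 D23186 F43241 F42414
def n23187 : Q := act 5 n21551
theorem D23187 : act 5 n21551 = n23187 := rfl
theorem F44853 : act 1 n23187 = n22571 := d8_1 D23187 F43259 F42414
theorem F44854 : act 2 n23187 = n21552 := d11_1 D23187 (iv D21552) (iv F40852)
def n23188 : Q := act 4 n21553
theorem D23188 : act 4 n21553 = n23188 := rfl
theorem F44855 : act 0 n23188 = n21555 := d3_1 D23188 (iv D21555) (iv F40854)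
theorem F44856 : act 1 n23188 = n22480 := d7_1 D23188 (iv F43789) F43786
theorem F44857 : act 2 n23188 = n21559 := d10_1 D23188 (iv D21559) (iv F40855)
theorem F44858 : act 5 n23188 = n22478 := d14_2 D21553 D23188 (iv D22478) (iv F39555) F39554
def n23189 : Q := act 3 n21555
theorem D23189 : act 3 n21555 = n23189 := rfl
theorem F44859 : act 1 n23189 = n21556 := d6_1 D23189 (iv D21556) (iv F40858)
def n23190 : Q := act 3 n21557
theorem D23190 : act 3 n21557 = n23190 := rfl
theorem F44860 : act 0 n23190 = n21560 := d2_1 D23190 (iv D21560) (iv F40860)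
theorem F44861 : act 1 n23190 = n22713 := d6_1 D23190 (iv D22713) (iv F40861)
theorem F44862 : act 5 n23190 = n22259 := d13_2 (iv F40862) D23190 (iv F42519)
def n23191 : Q := act 4 n21557
theorem D23191 : act 4 n21557 = n23191 := rfl
theorem F44863 : act 0 n23191 = n21561 := d3_1 D23191 (iv D21561) (iv F40860)
theorem F44864 : act 1 n23191 = n22485 := d7_1 D23191 F43027 (iv F40861)
theorem F44865 : act 2 n23191 = n21558 := d10_1 D23191 (iv D21558) D21557
def n23192 : Q := act 5 n21558
theorem D23192 : act 5 n21558 = n23192 := rfl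
theorem F44866 : act 0 n23192 = n21562 := d4_1 D23192 (iv D21562) (iv F40863)
theorem F44867 : act 1 n23192 = n21929 := d8_1 D23192 F41791 (iv F40864)
theorem F44868 : act 4 n23192 = n22721 := d14_1 D23192 F43590 F39885 F35399 D21558
def n23193 : Q := act 3 n21559
theorem D23193 : act 3 n21559 = n23193 := rfl
theorem F44869 : act 0 n23193 = n21563 := d2_1 D23193 (iv D21563) (iv F40865)
theorem F44870 : act 1 n23193 = n22928 := d6_1 D23193 F44073 (iv F40866)
theorem F44871 : act 4 n23193 = n22919 := d12_2 D21559 D23193 (iv D22919) F39885 (iv F35402)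
def n23194 : Q := act 3 n21561
theorem D23194 : act 3 n21561 = n23194 := rfl
theorem F44872 : act 1 n23194 = n22918 := d6_1 D23194 (iv D22918) (iv F40869)
def n23195 : Q := act 5 n21561
theorem D23195 : act 5 n21561 = n23195 := rfl
theorem F44873 : act 1 n23195 = n21909 := d8_1 D23195 F41736 (iv F40869)
theorem F44874 : act 2 n23195 = n21562 := d11_1 D23195 (iv D21562) (iv F40870)
theorem F44875 : act 4 n23195 = n21907 := d14_1 D23195 (iv F41728) F38149 (iv F35404) D21561
def n23196 : Q := act 2 n21563
theorem D23196 : act 2 n21563 = n23196 := rfl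
theorem F44876 : act 4 n23196 = n22920 := d10_2 (iv F40874) D23196 (iv D22920)
def n23197 : Q := act 1 n21564
theorem D23197 : act 1 n21564 = n23197 := rfl
theorem F44877 : act 4 n23197 = n22922 := d7_2 (iv F40876) D23197 (iv D22922)
def n23198 : Q := act 3 n21566
theorem D23198 : act 3 n21566 = n23198 := rfl
theorem F44878 : act 0 n23198 = n22156 := d2_1 D23198 F42310 (iv F40880)
theorem F44879 : act 1 n23198 = n21567 := d6_1 D23198 (iv D21567) D21566
theorem F44880 : act 5 n23198 = n21682 := d13_2 (iv F40883) D23198 (iv D21682)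
def n23199 : Q := act 4 n21567
theorem D23199 : act 4 n21567 = n23199 := rfl
theorem F44881 : act 0 n23199 = n21568 := d3_1 D23199 (iv D21568) (iv F40884)
theorem F44882 : act 3 n23199 = n22181 := d12_1 D23199 (iv D22181) F37373 (iv F35422) D21567
def n23200 : Q := act 4 n21569
theorem D23200 : act 4 n21569 = n23200 := rfl
theorem F44883 : act 0 n23200 = n21586 := d3_1 D23200 (iv D21586) (iv F40888)
theorem F44884 : act 3 n23200 = n22381 := d12_1 D23200 (iv D22381) (iv D20420) (iv F35427) D21569
def n23201 : Q := act 0 n21570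
theorem D23201 : act 0 n21570 = n23201 := rfl
theorem F44885 : act 1 n23201 = n22344 := d0_2 D21570 D23201 (iv D22344) (iv D20358) (iv F35428)
theorem F44886 : act 2 n23201 = n21573 := d1_2 (iv F40889) D23201 (iv D21573)
theorem F44887 : act 3 n23201 = n22450 := d2_2 (iv F40890) D23201 F42964
theorem F44888 : act 4 n23201 = n22340 := d3_2 (iv F40891) D23201 (iv D22340)
theorem F44889 : act 5 n23201 = n22460 := d4_2 F44486 D23201 (iv F44484)
def n23202 : Q := act 4 n21571
theorem D23202 : act 4 n21571 = n23202 := rfl
theorem F44890 : act 0 n23202 = n22346 := d3_1 D23202 (iv D22346) (iv F40892)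
theorem F44891 : act 2 n23202 = n21572 := d10_1 D23202 (iv D21572) (iv F40893)
theorem F44892 : act 5 n23202 = n22343 := d14_2 D21571 D23202 (iv D22343) (iv D20356) (iv F35429)
def n23203 : Q := act 3 n21580
theorem D23203 : act 3 n21580 = n23203 := rfl
theorem F44893 : act 0 n23203 = n21683 := d2_1 D23203 F41169 (iv F40929)
theorem F44894 : act 1 n23203 = n22151 := d6_1 D23203 F42301 F40932
theorem F44895 : act 2 n23203 = n23091 := d9_1 D23203 (iv D23091) F40509 F35029 F34638 D19296 (iv F35477) D19439 F35783 (iv D19120) F28766 D16283 (iv F29242) D19294 D21580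
theorem F44896 : act 5 n23203 = n21582 := d13_2 (iv F40931) D23203 (iv D21582)
def n23204 : Q := act 2 n21583
theorem D23204 : act 2 n21583 = n23204 := rfl
theorem F44897 : act 0 n23204 = n22149 := d1_1 D23204 (iv D22149) (iv F40941)
theorem F44898 : act 1 n23204 = n22224 := d5_1 D23204 (iv D22224) F37520 (iv F35485) (iv F40942)
theorem F44899 : act 4 n23204 = n22515 := d10_2 (iv F40943) D23204 (iv D22515)
def n23205 : Q := act 4 n21587
theorem D23205 : act 4 n21587 = n23205 := rfl
theorem F44900 : act 2 n23205 = n21607 := d10_1 D23205 (iv D21607) (iv F40955)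
def n23206 : Q := act 3 n21588
theorem D23206 : act 3 n21588 = n23206 := rfl
theorem F44901 : act 5 n23206 = n22692 := d13_2 (iv F40958) D23206 F43527
def n23207 : Q := act 4 n21590
theorem D23207 : act 4 n21590 = n23207 := rfl
theorem F44902 : act 1 n23207 = n22879 := d7_1 D23207 (iv D22879) (iv F40963)
def n23208 : Q := act 3 n21591
theorem D23208 : act 3 n21591 = n23208 := rfl
theorem F44903 : act 1 n23208 = n22881 := d6_1 D23208 (iv D22881) (iv F40965)
def n23209 : Q := act 5 n21591
theorem D23209 : act 5 n21591 = n23209 := rfl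
theorem F44904 : act 1 n23209 = n22882 := d8_1 D23209 (iv D22882) (iv F40965)
theorem F44905 : act 2 n23209 = n21592 := d11_1 D23209 (iv D21592) (iv F40966)
theorem F44906 : act 4 n23209 = n22910 := d14_1 D23209 (iv D22910) (iv D21146) (iv F35511) D21591
def n23210 : Q := act 2 n21594
theorem D23210 : act 2 n21594 = n23210 := rfl
theorem F44907 : act 4 n23210 = n23044 := d10_2 (iv F40975) D23210 F44448
theorem F44908 : act 5 n23210 = n21596 := d11_2 (iv F40976) D23210 (iv D21596)
def n23211 : Q := act 1 n21596
theorem D23211 : act 1 n21596 = n23211 := rfl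
theorem F44909 : act 4 n23211 = n22976 := d7_2 (iv F41105) D23211 F44233
def n23212 : Q := act 3 n21596
theorem D23212 : act 3 n21596 = n23212 := rfl
theorem F44910 : act 2 n23212 = n22898 := d15_2 D21596 D23212 (iv D22898) F39830 (iv F35508) (iv F40130) (iv F44212) (iv D22969) F40122
def n23213 : Q := act 3 n21597
theorem D23213 : act 3 n21597 = n23213 := rfl
theorem F44911 : act 0 n23213 = n21598 := d2_1 D23213 (iv D21598) (iv F40981)
theorem F44912 : act 1 n23213 = n22871 := d6_1 D23213 F43974 (iv F40982)
theorem F44913 : act 4 n23213 = n22853 := d12_2 D21597 D23213 (iv D22853) F39742 (iv F35525)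
def n23214 : Q := act 5 n21597
theorem D23214 : act 5 n21597 = n23214 := rfl
theorem F44914 : act 0 n23214 = n21599 := d4_1 D23214 (iv D21599) (iv F40981)
theorem F44915 : act 1 n23214 = n22880 := d8_1 D23214 (iv D22880) (iv F40982)
theorem F44916 : act 4 n23214 = n22084 := d14_1 D23214 (iv D22084) F37014 (iv F35526) D21597
def n23215 : Q := act 2 n21598
theorem D23215 : act 2 n21598 = n23215 := rfl
theorem F44917 : act 4 n23215 = n22680 := d10_2 (iv F40984) D23215 F43508
def n23216 : Q := act 1 n21600
theorem D23216 : act 1 n21600 = n23216 := rfl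
theorem F44918 : act 4 n23216 = n22854 := d7_2 (iv F40988) D23216 (iv D22854)
def n23217 : Q := act 3 n21600
theorem D23217 : act 3 n21600 = n23217 := rfl
theorem F44919 : act 0 n23217 = n22877 := d2_1 D23217 (iv D22877) (iv F40987)
theorem F44920 : act 4 n23217 = n22867 := d12_2 (iv F40988) D23217 (iv D22867) F39784 (iv F39747)
def n23218 : Q := act 5 n21600
theorem D23218 : act 5 n21600 = n23218 := rfl
theorem F44921 : act 0 n23218 = n22878 := d4_1 D23218 (iv D22878) (iv F40987)
theorem F44922 : act 2 n23218 = n21601 := d11_1 D23218 (iv D21601) D21600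
theorem F44923 : act 4 n23218 = n22870 := d14_1 D23218 (iv D22870) (iv D21108) (iv F39748) (iv F40988)
def n23219 : Q := act 3 n21602
theorem D23219 : act 3 n21602 = n23219 := rfl
theorem F44924 : act 0 n23219 = n21605 := d2_1 D23219 (iv D21605) (iv F40991)
theorem F44925 : act 5 n23219 = n22512 := d13_2 (iv F40993) D23219 (iv D22512)
def n23220 : Q := act 4 n21603
theorem D23220 : act 4 n21603 = n23220 := rfl
theorem F44926 : act 0 n23220 = n22511 := d3_1 D23220 (iv D22511) (iv F40994)
theorem F44927 : act 1 n23220 = n21640 := d7_1 D23220 (iv D21640) (iv F40995)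
theorem F44928 : act 5 n23220 = n21604 := d14_2 D21603 D23220 (iv D21604) (iv D19327) D19326
theorem F44929 : act 3 n22932 = n23220 := d15_7 F44824 F40792 F38612 F32533 (iv F34296) D21184 D22932 F44928 (iv F44822)
def n23221 : Q := act 3 n21604
theorem D23221 : act 3 n21604 = n23221 := rfl
theorem F44930 : act 1 n23221 = n21643 := d6_1 D23221 (iv D21643) (iv F40997)
theorem F44931 : act 4 n23221 = n21605 := d12_2 D21604 D23221 (iv D21605) (iv D19328) (iv F35553)
theorem F44932 : act 5 n23221 = n22932 := d13_2 F44928 D23221 F44929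
theorem F44933 : act 2 n23221 = n21605 := d15_2 F44820 D23221 (iv D21605) F35555 D19329 D21606 (iv F44429) F44430 (iv F44818)
def n23222 : Q := act 2 n21610
theorem D23222 : act 2 n21610 = n23222 := rfl
theorem F44934 : act 0 n23222 = n21612 := d1_1 D23222 (iv D21612) (iv F41010)
theorem F44935 : act 3 n23222 = n21632 := d15_1 D23222 (iv D21632) (iv D19364) F29384 (iv F29352) (iv F35575) (iv F40341) F40342 (iv F41010)
def n23223 : Q := act 4 n21610
theorem D23223 : act 4 n21610 = n23223 := rfl
theorem F44936 : act 0 n23223 = n21613 := d3_1 D23223 (iv D21613) (iv F41010)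
theorem F44937 : act 3 n23223 = n21617 := d12_1 D23223 (iv D21617) (iv D19341) (iv F35572) D21610
def n23224 : Q := act 3 n21612
theorem D23224 : act 3 n21612 = n23224 := rfl
theorem F44938 : act 0 n23224 = n21632 := d2_1 D23224 (iv F44935) F44934
theorem F44939 : act 2 n23224 = n21631 := d15_2 D21612 D23224 (iv D21631) F35623 (iv F35592) (iv F41012) F44377 (iv F44378) F41010
def n23225 : Q := act 4 n21612
theorem D23225 : act 4 n21612 = n23225 := rfl
theorem F44940 : act 1 n23225 = n23210 := d7_1 D23225 F44907 F44447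
theorem F44941 : act 2 n23225 = n21613 := d10_1 D23225 (iv D21613) D21612
theorem F44942 : act 5 n23225 = n23211 := d14_2 (iv F44446) D23225 F44909 F44234 (iv F44445)
def n23226 : Q := act 5 n21613
theorem D23226 : act 5 n21613 = n23226 := rfl
theorem F44943 : act 1 n23226 = n21615 := d8_1 D23226 (iv D21615) (iv F41013)
theorem F44944 : act 2 n23226 = n23211 := d11_1 D23226 (iv F44942) F44941
theorem F44945 : act 3 n23226 = n21620 := d13_1 D23226 (iv D21620) (iv F41014)
def n23227 : Q := act 5 n21617
theorem D23227 : act 5 n21617 = n23227 := rfl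
theorem F44946 : act 0 n23227 = n21620 := d4_1 D23227 (iv D21620) (iv F41021)
theorem F44947 : act 1 n23227 = n22436 := d8_1 D23227 (iv F44767) F44765
theorem F44948 : act 2 n23227 = n22896 := d11_1 D23227 (iv F44806) F44805
theorem F44949 : act 4 n23227 = n22434 := d14_1 D23227 (iv F42938) (iv F40780) F40781 D21617
def n23228 : Q := act 3 n21619
theorem D23228 : act 3 n21619 = n23228 := rfl
def n23229 : Q := act 5 n21619
theorem D23229 : act 5 n21619 = n23229 := rfl
theorem F44950 : act 0 n23229 = n22896 := d4_1 D23229 (iv F44806) F44803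
theorem F44951 : act 2 n23229 = n21620 := d11_1 D23229 (iv D21620) (iv F41024)
theorem F44952 : act 4 n23229 = n22893 := d14_1 D23229 (iv D22893) (iv F40826) F40827 D21619
def n23230 : Q := act 2 n21626
theorem D23230 : act 2 n21626 = n23230 := rfl
theorem F44953 : act 1 n23230 = n21831 := d5_1 D23230 (iv D21831) F36349 (iv F35632) (iv F41040)
theorem F44954 : act 5 n23230 = n21632 := d11_2 (iv F41041) D23230 (iv D21632)
def n23231 : Q := act 2 n21630
theorem D23231 : act 2 n21630 = n23231 := rfl
theorem F44955 : act 1 n23231 = n21684 := d5_1 D23231 (iv D21684) F35841 (iv F35640) (iv F41050)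
theorem F44956 : act 4 n23231 = n22580 := d10_2 F44703 D23231 F44704
def n23232 : Q := act 4 n21631
theorem D23232 : act 4 n21631 = n23232 := rfl
theorem F44957 : act 0 n23232 = n21633 := d3_1 D23232 (iv D21633) (iv F41051)
theorem F44958 : act 1 n23232 = n22088 := d7_1 D23232 (iv D22088) (iv F41052)
theorem F44959 : act 3 n23232 = n21638 := d12_1 D23232 (iv D21638) (iv D19369) (iv F35624) D21631
def n23233 : Q := act 1 n21632
theorem D23233 : act 1 n21632 = n23233 := rfl
theorem F44960 : act 2 n23233 = n21634 := d5_2 D21632 D23233 (iv D21634) (iv D19365) (iv F35625)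
theorem F44961 : act 5 n23233 = n21831 := d8_2 F44954 D23233 (iv F44953)
def n23234 : Q := act 4 n21632
theorem D23234 : act 4 n21632 = n23234 := rfl
theorem F44962 : act 2 n23234 = n21633 := d10_1 D23234 (iv D21633) D21632
def n23235 : Q := act 5 n21633
theorem D23235 : act 5 n21633 = n23235 := rfl
theorem F44963 : act 1 n23235 = n21636 := d8_1 D23235 (iv D21636) (iv F41053)
theorem F44964 : act 3 n23235 = n21639 := d13_1 D23235 (iv D21639) (iv F41054)
def n23236 : Q := act 0 n21634
theorem D23236 : act 0 n21634 = n23236 := rfl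
theorem F44965 : act 1 n23236 = n22092 := d0_2 D21634 D23236 (iv D22092) (iv D19983) (iv F35626)
theorem F44966 : act 3 n23236 = n21830 := d2_2 (iv F41055) D23236 F41533
theorem F44967 : act 5 n23236 = n21829 := d4_2 (iv F41056) D23236 F41531
def n23237 : Q := act 4 n21634
theorem D23237 : act 4 n21634 = n23237 := rfl
theorem F44968 : act 1 n23237 = n21635 := d7_1 D23237 (iv D21635) D21634
def n23238 : Q := act 3 n21635
theorem D23238 : act 3 n21635 = n23238 := rfl
theorem F44969 : act 0 n23238 = n22094 := d2_1 D23238 (iv D22094) (iv F41057)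
theorem F44970 : act 4 n23238 = n21834 := d12_2 D21635 D23238 (iv D21834) (iv D19652) (iv F35627)
def n23239 : Q := act 5 n21635
theorem D23239 : act 5 n21635 = n23239 := rfl
theorem F44971 : act 0 n23239 = n22095 := d4_1 D23239 (iv D22095) (iv F41057)
theorem F44972 : act 2 n23239 = n21636 := d11_1 D23239 (iv D21636) (iv F41058)
theorem F44973 : act 4 n23239 = n21833 := d14_1 D23239 (iv D21833) (iv D19651) F35628 D21635
def n23240 : Q := act 4 n21636
theorem D23240 : act 4 n21636 = n23240 := rfl
theorem F44974 : act 0 n23240 = n21911 := d3_1 D23240 (iv F41741) (iv F41059)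
theorem F44975 : act 2 n23240 = n21833 := d10_1 D23240 (iv F44973) F44972
theorem F44976 : act 3 n23240 = n21910 := d12_1 D23240 (iv F43762) F43761 F40597 (iv F41060)
theorem F44977 : act 5 n23240 = n21637 := d14_2 D21636 D23240 (iv D21637) (iv D19367) D19366
def n23241 : Q := act 5 n21638
theorem D23241 : act 5 n21638 = n23241 := rfl
theorem F44978 : act 0 n23241 = n21639 := d4_1 D23241 (iv D21639) (iv F41063)
def n23242 : Q := act 3 n21640
theorem D23242 : act 3 n21640 = n23242 := rfl
theorem F44979 : act 0 n23242 = n21642 := d2_1 D23242 (iv D21642) (iv F41065)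
theorem F44980 : act 1 n23242 = n22932 := d6_1 D23242 F44929 F44927
theorem F44981 : act 4 n23242 = n22252 := d12_2 D21640 D23242 (iv D22252) F37575 (iv F35643)
theorem F44982 : act 5 n23242 = n21643 := d13_2 (iv F41067) D23242 (iv D21643)
def n23243 : Q := act 3 n21641
theorem D23243 : act 3 n21641 = n23243 := rfl
theorem F44983 : act 0 n23243 = n22252 := d2_1 D23243 (iv D22252) (iv F41068)
theorem F44984 : act 1 n23243 = n22254 := d6_1 D23243 (iv D22254) (iv F41069)
theorem F44985 : act 4 n23243 = n21642 := d12_2 D21641 D23243 (iv D21642) (iv D19377) D19376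
theorem F44986 : act 5 n23243 = n22252 := d13_2 (iv F41071) D23243 (iv D22252)
def n23244 : Q := act 2 n21642
theorem D23244 : act 2 n21642 = n23244 := rfl
theorem F44987 : act 5 n23244 = n21644 := d11_2 (iv F41073) D23244 (iv D21644)
def n23245 : Q := act 2 n21643
theorem D23245 : act 2 n21643 = n23245 := rfl
theorem F44988 : act 0 n23245 = n21644 := d1_1 D23245 (iv D21644) (iv F41074)
theorem F44989 : act 1 n23245 = n21644 := d5_1 D23245 (iv D21644) (iv F40998) (iv F44933) F44930
theorem F44990 : act 4 n23245 = n21644 := d10_2 (iv F41075) D23245 (iv D21644)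
theorem F44991 : act 3 n23245 = n21644 := d15_1 D23245 (iv D21644) (iv D19379) F29415 (iv F29405) (iv F35656) D21642 F41073 (iv F41074)
def n23246 : Q := act 4 n21645
theorem D23246 : act 4 n21645 = n23246 := rfl
theorem F44992 : act 0 n23246 = n21649 := d3_1 D23246 (iv D21649) (iv F41076)
theorem F44993 : act 1 n23246 = n21671 := d7_1 D23246 (iv D21671) (iv F41077)
theorem F44994 : act 2 n23246 = n22487 := d10_1 D23246 (iv D22487) (iv F41078)
def n23247 : Q := act 3 n21646
theorem D23247 : act 3 n21646 = n23247 := rfl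
theorem F44995 : act 0 n23247 = n21650 := d2_1 D23247 (iv D21650) (iv F41080)
def n23248 : Q := act 5 n21646
theorem D23248 : act 5 n21646 = n23248 := rfl
theorem F44996 : act 0 n23248 = n21651 := d4_1 D23248 (iv D21651) (iv F41080)
theorem F44997 : act 2 n23248 = n21647 := d11_1 D23248 (iv D21647) (iv F41081)
theorem F44998 : act 4 n23248 = n21660 := d14_1 D23248 (iv D21660) (iv D19402) (iv F35666) D21646
def n23249 : Q := act 4 n21648
theorem D23249 : act 4 n21648 = n23249 := rfl
theorem F44999 : act 0 n23249 = n22487 := d3_1 D23249 (iv D22487) (iv F41085)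
theorem F45000 : act 1 n23249 = n21670 := d7_1 D23249 (iv D21670) (iv F41086)
theorem F45001 : act 2 n23249 = n21649 := d10_1 D23249 (iv D21649) D21648
theorem F45002 : act 5 n23249 = n22696 := d14_2 (iv F41088) D23249 F43536 F39229 F35708
def n23250 : Q := act 3 n21649
theorem D23250 : act 3 n21649 = n23250 := rfl
theorem F45003 : act 1 n23250 = n21664 := d6_1 D23250 (iv D21664) (iv F41089)
theorem F45004 : act 4 n23250 = n21650 := d12_2 D21649 D23250 (iv D21650) (iv D19384) D19383
def n23251 : Q := act 5 n21649
theorem D23251 : act 5 n21649 = n23251 := rfl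
theorem F45005 : act 1 n23251 = n21663 := d8_1 D23251 F41118 (iv F41089)
theorem F45006 : act 2 n23251 = n22696 := d11_1 D23251 (iv F45002) F45001
theorem F45007 : act 4 n23251 = n21661 := d14_1 D23251 (iv D21661) (iv D19404) (iv F35670) D21649
def n23252 : Q := act 2 n21650
theorem D23252 : act 2 n21650 = n23252 := rfl
def n23253 : Q := act 5 n21650
theorem D23253 : act 5 n21650 = n23253 := rfl
theorem F45008 : act 1 n23253 = n21665 := d8_1 D23253 F41121 (iv F41090)
theorem F45009 : act 3 n23253 = n21651 := d13_1 D23253 (iv D21651) D21650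
def n23254 : Q := act 1 n21652
theorem D23254 : act 1 n21652 = n23254 := rfl
def n23255 : Q := act 3 n21652
theorem D23255 : act 3 n21652 = n23255 := rfl
def n23256 : Q := act 3 n21653
theorem D23256 : act 3 n21653 = n23256 := rfl
theorem F45010 : act 4 n23256 = n23212 := d12_2 (iv F41094) D23256 (iv D23212) F41105 (iv D21657)
def n23257 : Q := act 2 n21655
theorem D23257 : act 2 n21655 = n23257 := rfl
theorem F45011 : act 0 n23257 = n22851 := d1_1 D23257 (iv F44142) F44140
theorem F45012 : act 1 n23257 = n21877 := d5_1 D23257 (iv D21877) F36489 (iv F35689) (iv F41097)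
theorem F45013 : act 5 n23257 = n22852 := d11_2 F42575 D23257 F43926
theorem F45014 : act 3 n22875 = n23257 := d2_0 F45011 F43923 D22875
def n23258 : Q := act 4 n21655
theorem D23258 : act 4 n21655 = n23258 := rfl
theorem F45015 : act 0 n23258 = n22978 := d3_1 D23258 F44238 F44140
theorem F45016 : act 1 n23258 = n21656 := d7_1 D23258 (iv D21656) (iv F41097)
theorem F45017 : act 3 n23258 = n22978 := d12_1 D23258 F44238 F44143 F41096 D21655
theorem F45018 : act 5 n23258 = n22974 := d14_2 F42575 D23258 (iv D22974) (iv F40201) F42576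
def n23259 : Q := act 3 n21658
theorem D23259 : act 3 n21658 = n23259 := rfl
theorem F45019 : act 1 n23259 = n21659 := d6_1 D23259 (iv D21659) (iv F41106)
theorem F45020 : act 4 n23259 = n21672 := d12_2 D21658 D23259 (iv D21672) (iv D19426) (iv F35700)
def n23260 : Q := act 3 n21663
theorem D23260 : act 3 n21663 = n23260 := rfl
theorem F45021 : act 0 n23260 = n21675 := d2_1 D23260 F41141 (iv F41116)
theorem F45022 : act 2 n23260 = n22386 := d9_1 D23260 (iv D22386) F38199 F32042 (iv F28189) F28190 (iv F29491) D19427 D21674 F41138 F38201 F32052 (iv F32139) (iv F35744) (iv F41117)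
theorem F45023 : act 4 n23260 = n22399 := d12_2 D21663 D23260 (iv F44002) F44003 F41115
theorem F45024 : act 5 n23260 = n21664 := d13_2 (iv F41118) D23260 (iv D21664)
def n23261 : Q := act 2 n21664
theorem D23261 : act 2 n21664 = n23261 := rfl
theorem F45025 : act 0 n23261 = n21674 := d1_1 D23261 (iv D21674) (iv F41119)
theorem F45026 : act 3 n23261 = n22195 := d9_2 D21664 D23261 F42402 F37426 F32131 (iv F29493) (iv F35750) (iv F41141) F41140 (iv D20448) F32061 F25565 (iv F25658) (iv F29488) (iv F35720)
theorem F45027 : act 4 n23261 = n21666 := d10_2 (iv F41120) D23261 (iv D21666)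
theorem F45028 : act 5 n23261 = n22386 := d11_2 F45024 D23261 (iv F45022)
theorem F45029 : act 1 n22197 = n23261 := d6_3 F45026 F42401 D22197
def n23262 : Q := act 2 n21665
theorem D23262 : act 2 n21665 = n23262 := rfl
theorem F45030 : act 4 n23262 = n22400 := d10_2 F43997 D23262 (iv F43998)
theorem F45031 : act 5 n23262 = n21666 := d11_2 (iv F41121) D23262 (iv D21666)
def n23263 : Q := act 1 n21666
theorem D23263 : act 1 n21666 = n23263 := rfl
theorem F45032 : act 3 n23263 = n22196 := d6_2 (iv F42555) D23263 (iv F42553)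
theorem F45033 : act 4 n23263 = n22197 := d7_2 F45027 D23263 F45029
def n23264 : Q := act 4 n21667
theorem D23264 : act 4 n21667 = n23264 := rfl
theorem F45034 : act 0 n23264 = n21668 := d3_1 D23264 (iv D21668) (iv F41122)
theorem F45035 : act 1 n23264 = n22067 := d7_1 D23264 (iv F43699) F43696
theorem F45036 : act 2 n23264 = n22066 := d10_1 D23264 (iv D22066) (iv F41123)
theorem F45037 : act 5 n23264 = n22066 := d14_2 D21667 D23264 (iv D22066) (iv F39394) F39393
def n23265 : Q := act 3 n21670
theorem D23265 : act 3 n21670 = n23265 := rfl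
theorem F45038 : act 0 n23265 = n22471 := d2_1 D23265 (iv D22471) (iv F41129)
theorem F45039 : act 2 n23265 = n22702 := d9_1 D23265 (iv D22702) (iv D20888) (iv D18411) F27026 D15453 D18412 D20889 D22703 F43552 F42856 (iv D22392) F38212 (iv F35740) (iv F41130)
theorem F45040 : act 4 n23265 = n22529 := d12_2 D21670 D23265 (iv D22529) (iv D20658) (iv F35737)
theorem F45041 : act 5 n23265 = n22697 := d13_2 (iv F41131) D23265 (iv D22697)
def n23266 : Q := act 3 n21671
theorem D23266 : act 3 n21671 = n23266 := rfl
theorem F45042 : act 0 n23266 = n21672 := d2_1 D23266 (iv D21672) (iv F41132)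
def n23267 : Q := act 5 n21671
theorem D23267 : act 5 n21671 = n23267 := rfl
theorem F45043 : act 0 n23267 = n21673 := d4_1 D23267 (iv D21673) (iv F41132)
theorem F45044 : act 2 n23267 = n21925 := d11_1 D23267 (iv D21925) (iv F41133)
theorem F45045 : act 4 n23267 = n22360 := d14_1 D23267 F42788 (iv D20582) (iv F35747) D21671
def n23268 : Q := act 2 n21672
theorem D23268 : act 2 n21672 = n23268 := rfl
def n23269 : Q := act 5 n21672
theorem D23269 : act 5 n21672 = n23269 := rfl
theorem F45046 : act 1 n23269 = n21675 := d8_1 D23269 (iv D21675) (iv F41134)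
theorem F45047 : act 3 n23269 = n21673 := d13_1 D23269 (iv D21673) D21672
def n23270 : Q := act 4 n21675
theorem D23270 : act 4 n21675 = n23270 := rfl
theorem F45048 : act 0 n23270 = n22399 := d3_1 D23270 (iv F45023) F45021
theorem F45049 : act 2 n23270 = n22391 := d10_1 D23270 F42851 (iv F41140)
theorem F45050 : act 3 n23270 = n22411 := d12_1 D23270 F42880 F38496 (iv F35751) (iv F41141)
theorem F45051 : act 5 n23270 = n22410 := d14_2 D21675 D23270 (iv F43946) F43947 F41108
def n23271 : Q := act 4 n21679
theorem D23271 : act 4 n21679 = n23271 := rfl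
theorem F45052 : act 1 n23271 = n21680 := d7_1 D23271 (iv D21680) D21679
theorem F45053 : act 2 n23271 = n22351 := d10_1 D23271 (iv D22351) (iv F41155)
def n23272 : Q := act 3 n21680
theorem D23272 : act 3 n21680 = n23272 := rfl
theorem F45054 : act 0 n23272 = n22003 := d2_1 D23272 (iv D22003) (iv F41158)
theorem F45055 : act 4 n23272 = n21993 := d12_2 D21680 D23272 (iv D21993) (iv D19853) (iv F35775)
theorem F45056 : act 2 n23272 = n23100 := d15_2 (iv F41159) D23272 (iv D23100) F40540 F35064 (iv F34052) D21083 (iv F41154) F41150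
def n23273 : Q := act 5 n21680
theorem D23273 : act 5 n21680 = n23273 := rfl
theorem F45057 : act 0 n23273 = n22002 := d4_1 D23273 F41954 (iv F41158)
theorem F45058 : act 2 n23273 = n21681 := d11_1 D23273 (iv D21681) (iv F41159)
theorem F45059 : act 4 n23273 = n21990 := d14_1 D23273 (iv D21990) (iv D19850) (iv F35776) D21680
def n23274 : Q := act 2 n21682
theorem D23274 : act 2 n21682 = n23274 := rfl
theorem F45060 : act 0 n23274 = n22154 := d1_1 D23274 F42304 (iv F41164)
theorem F45061 : act 1 n23274 = n23111 := d5_1 D23274 (iv D23111) (iv F40800) F40801 (iv F41165)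
theorem F45062 : act 4 n23274 = n22150 := d10_2 (iv F41166) D23274 (iv D22150)
theorem F45063 : act 3 n23274 = n23274 := d15_1 D23274 (iv D23274) (iv D21682) (iv F36079) (iv F36081) (iv F37332) (iv F42310) (iv D22156) (iv F41164)
def n23275 : Q := act 0 n21685
theorem D23275 : act 0 n21685 = n23275 := rfl
theorem F45064 : act 1 n23275 = n21702 := d0_2 D21685 D23275 (iv D21702) (iv D19482) (iv F35883)
theorem F45065 : act 2 n23275 = n22316 := d1_2 (iv F41172) D23275 F42675
theorem F45066 : act 3 n23275 = n21693 := d2_2 (iv F41173) D23275 F41190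
theorem F45067 : act 4 n23275 = n21732 := d3_2 (iv F41174) D23275 (iv D21732)
theorem F45068 : act 5 n23275 = n21692 := d4_2 (iv F41175) D23275 F41186
def n23276 : Q := act 3 n21686
theorem D23276 : act 3 n21686 = n23276 := rfl
theorem F45069 : act 0 n23276 = n21687 := d2_1 D23276 (iv D21687) D21686
theorem F45070 : act 4 n23276 = n22650 := d12_2 (iv F41177) D23276 (iv D22650) (iv D20804) F36159
def n23277 : Q := act 5 n21686
theorem D23277 : act 5 n21686 = n23277 := rfl
theorem F45071 : act 0 n23277 = n21688 := d4_1 D23277 (iv D21688) D21686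
theorem F45072 : act 2 n23277 = n21693 := d11_1 D23277 (iv D21693) (iv F41176)
def n23278 : Q := act 2 n21687
theorem D23278 : act 2 n21687 = n23278 := rfl
def n23279 : Q := act 4 n21687
theorem D23279 : act 4 n21687 = n23279 := rfl
theorem F45073 : act 0 n23279 = n22650 := d3_1 D23279 (iv F45070) F45069
theorem F45074 : act 1 n23279 = n21690 := d7_1 D23279 (iv D21690) (iv F41178)
theorem F45075 : act 3 n23279 = n21758 := d12_1 D23279 (iv D21758) (iv D19570) (iv F35888) D21687
theorem F45076 : act 5 n22650 = n23279 := d13_0 F45075 F41361 D22650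
def n23280 : Q := act 5 n21687
theorem D23280 : act 5 n21687 = n23280 := rfl
theorem F45077 : act 1 n23280 = n21689 := d8_1 D23280 (iv F41182) (iv F41178)
theorem F45078 : act 3 n23280 = n21688 := d13_1 D23280 (iv D21688) D21687
def n23281 : Q := act 4 n21688
theorem D23281 : act 4 n21688 = n23281 := rfl
theorem F45079 : act 1 n23281 = n21691 := d7_1 D23281 (iv D21691) (iv F41179)
theorem F45080 : act 2 n23281 = n21694 := d10_1 D23281 (iv D21694) (iv F41180)
theorem F45081 : act 5 n23281 = n21757 := d14_2 D21688 D23281 F41357 F36157 (iv F35888)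
def n23282 : Q := act 4 n21689
theorem D23282 : act 4 n21689 = n23282 := rfl
theorem F45082 : act 2 n23282 = n21690 := d10_1 D23282 (iv D21690) D21689
def n23283 : Q := act 5 n21690
theorem D23283 : act 5 n21690 = n23283 := rfl
theorem F45083 : act 1 n23283 = n22650 := d8_1 D23283 F45076 F45074
theorem F45084 : act 3 n23283 = n21759 := d13_1 D23283 (iv D21759) (iv F41183)
def n23284 : Q := act 4 n21693
theorem D23284 : act 4 n21693 = n23284 := rfl
theorem F45085 : act 0 n23284 = n21694 := d3_1 D23284 (iv D21694) (iv F41190)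
theorem F45086 : act 1 n23284 = n21762 := d7_1 D23284 F41369 (iv F41191)
theorem F45087 : act 5 n23284 = n21760 := d14_2 D21693 D23284 F41366 F36168 (iv F35894)
def n23285 : Q := act 3 n21694
theorem D23285 : act 3 n21694 = n23285 := rfl
theorem F45088 : act 1 n23285 = n21695 := d6_1 D23285 (iv D21695) (iv F41192)
theorem F45089 : act 4 n23285 = n21733 := d12_2 D21694 D23285 (iv D21733) (iv F41174) F41173
theorem F45090 : act 5 n23285 = n21761 := d13_2 (iv F41193) D23285 (iv D21761)
def n23286 : Q := act 1 n21696
theorem D23286 : act 1 n21696 = n23286 := rfl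
theorem F45091 : act 2 n23286 = n22292 := d5_2 D21696 D23286 F42607 F37840 (iv F35903)
theorem F45092 : act 5 n23286 = n22290 := d8_2 (iv F41199) D23286 F42603
theorem F45093 : act 4 n22304 = n23286 := d14_5 F45092 (iv D22290) F37768 D20298 D22304
def n23287 : Q := act 3 n21696
theorem D23287 : act 3 n21696 = n23287 := rfl
theorem F45094 : act 0 n23287 = n21699 := d2_1 D23287 (iv D21699) (iv F41198)
theorem F45095 : act 5 n23287 = n22314 := d13_2 (iv F41199) D23287 (iv D22314)
def n23288 : Q := act 4 n21696
theorem D23288 : act 4 n21696 = n23288 := rfl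
theorem F45096 : act 0 n23288 = n21700 := d3_1 D23288 (iv D21700) (iv F41198)
theorem F45097 : act 1 n23288 = n22304 := d7_1 D23288 F45093 (iv D23286)
theorem F45098 : act 2 n23288 = n21697 := d10_1 D23288 (iv D21697) D21696
theorem F45099 : act 5 n23288 = n21713 := d14_2 (iv F41199) D23288 (iv D21713) F35966 D20314
def n23289 : Q := act 0 n21698
theorem D23289 : act 0 n21698 = n23289 := rfl
theorem F45100 : act 2 n23289 = n21702 := d1_2 (iv F41204) D23289 (iv D21702)
theorem F45101 : act 5 n23289 = n21737 := d4_2 F41205 D23289 F41301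
def n23290 : Q := act 3 n21698
theorem D23290 : act 3 n21698 = n23290 := rfl
theorem F45102 : act 1 n23290 = n21699 := d6_1 D23290 (iv D21699) D21698
theorem F45103 : act 5 n23290 = n21739 := d13_2 F41205 D23290 (iv D21739)
def n23291 : Q := act 4 n21698
theorem D23291 : act 4 n21698 = n23291 := rfl
theorem F45104 : act 1 n23291 = n21700 := d7_1 D23291 (iv D21700) D21698
theorem F45105 : act 2 n23291 = n21703 := d10_1 D23291 (iv D21703) (iv F41204)
theorem F45106 : act 5 n23291 = n21716 := d14_2 F41205 D23291 (iv D21716) F35971 D19531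
def n23292 : Q := act 2 n21699
theorem D23292 : act 2 n21699 = n23292 := rfl
def n23293 : Q := act 4 n21699
theorem D23293 : act 4 n21699 = n23293 := rfl
def n23294 : Q := act 5 n21699
theorem D23294 : act 5 n21699 = n23294 := rfl
theorem F45107 : act 0 n23294 = n22314 := d4_1 D23294 (iv F45095) F45094
theorem F45108 : act 1 n23294 = n21739 := d8_1 D23294 (iv F45103) F45102
theorem F45109 : act 3 n23294 = n21701 := d13_1 D23294 (iv D21701) D21699
def n23295 : Q := act 3 n21700
theorem D23295 : act 3 n21700 = n23295 := rfl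
theorem F45110 : act 5 n23295 = n21718 := d13_2 F41207 D23295 (iv D21718)
def n23296 : Q := act 4 n21702
theorem D23296 : act 4 n21702 = n23296 := rfl
theorem F45111 : act 0 n23296 = n21703 := d3_1 D23296 (iv D21703) D21702
theorem F45112 : act 1 n23296 = n21732 := d7_1 D23296 (iv F45067) F45064
theorem F45113 : act 5 n23296 = n21719 := d14_2 (iv F41213) D23296 (iv D21719) F35975 D19529
def n23297 : Q := act 3 n21703
theorem D23297 : act 3 n21703 = n23297 := rfl
theorem F45114 : act 1 n23297 = n21704 := d6_1 D23297 (iv D21704) (iv F41214)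
theorem F45115 : act 4 n23297 = n21763 := d12_2 D21703 D23297 (iv D21763) F36173 (iv F35912)
theorem F45116 : act 5 n23297 = n21720 := d13_2 (iv F41215) D23297 (iv D21720)
def n23298 : Q := act 3 n21705
theorem D23298 : act 3 n21705 = n23298 := rfl
theorem F45117 : act 0 n23298 = n21706 := d2_1 D23298 (iv D21706) (iv F41220)
theorem F45118 : act 1 n23298 = n22656 := d6_1 D23298 (iv D22656) (iv F41221)
theorem F45119 : act 4 n23298 = n22661 := d12_2 D21705 D23298 (iv D22661) (iv D20824) F35920
theorem F45120 : act 5 n23298 = n21723 := d13_2 (iv F41223) D23298 (iv D21723)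
def n23299 : Q := act 2 n21706
theorem D23299 : act 2 n21706 = n23299 := rfl
theorem F45121 : act 1 n23299 = n22663 := d5_1 D23299 (iv D22663) F39100 (iv F35945) (iv F41224)
theorem F45122 : act 4 n23299 = n22663 := d10_2 (iv F41225) D23299 (iv D22663)
theorem F45123 : act 5 n23299 = n21727 := d11_2 (iv F41226) D23299 (iv D21727)
def n23300 : Q := act 5 n21707
theorem D23300 : act 5 n21707 = n23300 := rfl
theorem F45124 : act 0 n23300 = n21708 := d4_1 D23300 (iv D21708) (iv F41227)
theorem F45125 : act 1 n23300 = n22655 := d8_1 D23300 (iv D22655) (iv F41228)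
theorem F45126 : act 2 n23300 = n23190 := d11_1 D23300 F44862 F42518
theorem F45127 : act 3 n23300 = n21808 := d13_1 D23300 (iv D21808) (iv F41229)
theorem F45128 : act 4 n23300 = n22662 := d14_1 D23300 (iv D22662) (iv D20824) (iv F35933) D21707
def n23301 : Q := act 3 n21709
theorem D23301 : act 3 n21709 = n23301 := rfl
theorem F45129 : act 0 n23301 = n21710 := d2_1 D23301 (iv D21710) D21709
theorem F45130 : act 1 n23301 = n21734 := d6_1 D23301 (iv D21734) (iv F41234)
theorem F45131 : act 4 n23301 = n21741 := d12_2 (iv F41236) D23301 (iv D21741) (iv D19534) (iv F35955)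
theorem F45132 : act 5 n23301 = n21766 := d13_2 (iv F41237) D23301 (iv D21766)
def n23302 : Q := act 2 n21710
theorem D23302 : act 2 n21710 = n23302 := rfl
theorem F45133 : act 1 n23302 = n21742 := d5_1 D23302 (iv D21742) F36056 (iv F35952) (iv F41238)
theorem F45134 : act 4 n23302 = n21742 := d10_2 (iv F41239) D23302 (iv D21742)
theorem F45135 : act 5 n23302 = n21767 := d11_2 (iv F41240) D23302 (iv D21767)
def n23303 : Q := act 4 n21711
theorem D23303 : act 4 n21711 = n23303 := rfl
theorem F45136 : act 0 n23303 = n21898 := d3_1 D23303 (iv D21898) (iv F41241)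
theorem F45137 : act 1 n23303 = n21738 := d7_1 D23303 (iv D21738) (iv F41242)
theorem F45138 : act 2 n23303 = n21897 := d10_1 D23303 (iv D21897) (iv F41244)
def n23304 : Q := act 4 n21712
theorem D23304 : act 4 n21712 = n23304 := rfl
theorem F45139 : act 0 n23304 = n21717 := d3_1 D23304 (iv D21717) (iv F41245)
theorem F45140 : act 1 n23304 = n22267 := d7_1 D23304 (iv D22267) (iv F41246)
theorem F45141 : act 2 n23304 = n21883 := d10_1 D23304 (iv D21883) (iv F41247)
def n23305 : Q := act 3 n21713
theorem D23305 : act 3 n21713 = n23305 := rfl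
theorem F45142 : act 0 n23305 = n21718 := d2_1 D23305 (iv D21718) (iv F41249)
theorem F45143 : act 1 n23305 = n22303 := d6_1 D23305 (iv D22303) (iv F41250)
def n23306 : Q := act 4 n21714
theorem D23306 : act 4 n21714 = n23306 := rfl
theorem F45144 : act 0 n23306 = n21716 := d3_1 D23306 (iv D21716) D21714
theorem F45145 : act 1 n23306 = n22269 := d7_1 D23306 (iv D22269) (iv F41252)
theorem F45146 : act 2 n23306 = n21719 := d10_1 D23306 (iv D21719) (iv F41253)
def n23307 : Q := act 4 n21715
theorem D23307 : act 4 n21715 = n23307 := rfl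
theorem F45147 : act 0 n23307 = n21874 := d3_1 D23307 (iv D21874) (iv F41256)
theorem F45148 : act 1 n23307 = n21717 := d7_1 D23307 (iv D21717) (iv F41257)
theorem F45149 : act 2 n23307 = n21872 := d10_1 D23307 (iv D21872) (iv F41258)
def n23308 : Q := act 3 n21716
theorem D23308 : act 3 n21716 = n23308 := rfl
theorem F45150 : act 1 n23308 = n21718 := d6_1 D23308 (iv D21718) (iv F41260)
def n23309 : Q := act 3 n21717
theorem D23309 : act 3 n21717 = n23309 := rfl
theorem F45151 : act 4 n23309 = n21718 := d12_2 D21717 D23309 (iv D21718) (iv D19502) D19501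
def n23310 : Q := act 5 n21717
theorem D23310 : act 5 n21717 = n23310 := rfl
def n23311 : Q := act 2 n21718
theorem D23311 : act 2 n21718 = n23311 := rfl
def n23312 : Q := act 3 n21719
theorem D23312 : act 3 n21719 = n23312 := rfl
theorem F45152 : act 0 n23312 = n21720 := d2_1 D23312 (iv D21720) (iv F41262)
theorem F45153 : act 1 n23312 = n21741 := d6_1 D23312 (iv D21741) (iv F41263)
theorem F45154 : act 4 n23312 = n21734 := d12_2 D21719 D23312 (iv D21734) F36040 (iv F35974)
def n23313 : Q := act 2 n21720
theorem D23313 : act 2 n21720 = n23313 := rfl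
theorem F45155 : act 1 n23313 = n21735 := d5_1 D23313 (iv D21735) F36041 (iv F35979) (iv F41264)
theorem F45156 : act 4 n23313 = n21735 := d10_2 (iv F41265) D23313 (iv D21735)
def n23314 : Q := act 3 n21721
theorem D23314 : act 3 n21721 = n23314 := rfl
theorem F45157 : act 0 n23314 = n21768 := d2_1 D23314 (iv D21768) (iv F41266)
theorem F45158 : act 1 n23314 = n21723 := d6_1 D23314 (iv D21723) (iv F41267)
theorem F45159 : act 4 n23314 = n21813 := d12_2 D21721 D23314 (iv D21813) (iv D19630) F35983
theorem F45160 : act 5 n23314 = n22656 := d13_2 (iv F41269) D23314 (iv D22656)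
def n23315 : Q := act 3 n21722
theorem D23315 : act 3 n21722 = n23315 := rfl
theorem F45161 : act 0 n23315 = n21725 := d2_1 D23315 (iv D21725) (iv F41270)
theorem F45162 : act 1 n23315 = n21813 := d6_1 D23315 (iv D21813) (iv F41271)
theorem F45163 : act 4 n23315 = n21723 := d12_2 D21722 D23315 (iv D21723) (iv D19508) D19507
def n23316 : Q := act 5 n21722
theorem D23316 : act 5 n21722 = n23316 := rfl
theorem F45164 : act 0 n23316 = n21726 := d4_1 D23316 (iv D21726) (iv F41270)
theorem F45165 : act 1 n23316 = n21754 := d8_1 D23316 F41350 (iv F41271)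
theorem F45166 : act 2 n23316 = n21755 := d11_1 D23316 (iv F42500) F42498
theorem F45167 : act 4 n23316 = n21808 := d14_1 D23316 (iv D21808) (iv D19624) (iv F35986) D21722
def n23317 : Q := act 2 n21723
theorem D23317 : act 2 n21723 = n23317 := rfl
theorem F45168 : act 0 n23317 = n21727 := d1_1 D23317 (iv D21727) (iv F41272)
def n23318 : Q := act 3 n21724
theorem D23318 : act 3 n21724 = n23318 := rfl
theorem F45169 : act 0 n23318 = n21959 := d2_1 D23318 (iv F42499) F42496
theorem F45170 : act 1 n23318 = n21811 := d6_1 D23318 (iv D21811) (iv F41273)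
theorem F45171 : act 4 n23318 = n21961 := d12_2 D21724 D23318 F41863 (iv D20240) (iv F35990)
def n23319 : Q := act 5 n21724
theorem D23319 : act 5 n21724 = n23319 := rfl
theorem F45172 : act 0 n23319 = n21755 := d4_1 D23319 (iv F42500) F42496
theorem F45173 : act 1 n23319 = n21812 := d8_1 D23319 (iv D21812) (iv F41273)
theorem F45174 : act 2 n23319 = n21726 := d11_1 D23319 (iv D21726) (iv F41274)
theorem F45175 : act 4 n23319 = n21809 := d14_1 D23319 (iv D21809) (iv D19625) (iv F35991) D21724
def n23320 : Q := act 2 n21725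
theorem D23320 : act 2 n21725 = n23320 := rfl
theorem F45176 : act 4 n23320 = n21727 := d10_2 (iv F41276) D23320 (iv D21727)
def n23321 : Q := act 5 n21725
theorem D23321 : act 5 n21725 = n23321 := rfl
theorem F45177 : act 1 n23321 = n21770 := d8_1 D23321 (iv F41385) (iv F41275)
theorem F45178 : act 3 n23321 = n21726 := d13_1 D23321 (iv D21726) D21725
theorem F45179 : act 4 n23321 = n21771 := d14_1 D23321 F41387 (iv F41225) F41226 (iv F41276)
def n23322 : Q := act 1 n21727
theorem D23322 : act 1 n21727 = n23322 := rfl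
theorem F45180 : act 2 n23322 = n21771 := d5_2 D21727 D23322 (iv D21771) (iv D19587) (iv F35993)
theorem F45181 : act 5 n23322 = n22663 := d8_2 F45123 D23322 (iv F45121)
def n23323 : Q := act 3 n21727
theorem D23323 : act 3 n21727 = n23323 := rfl
def n23324 : Q := act 0 n21728
theorem D23324 : act 0 n21728 = n23324 := rfl
theorem F45182 : act 1 n23324 = n22814 := d0_2 D21728 D23324 (iv D22814) (iv D21033) (iv F36015)
theorem F45183 : act 2 n23324 = n23199 := d1_2 (iv F41279) D23324 F44881
theorem F45184 : act 3 n23324 = n22242 := d2_2 (iv F41280) D23324 F42486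
theorem F45185 : act 4 n23324 = n22534 := d3_2 (iv F41281) D23324 (iv D22534)
theorem F45186 : act 5 n23324 = n22241 := d4_2 (iv F41282) D23324 F42485
def n23325 : Q := act 3 n21729
theorem D23325 : act 3 n21729 = n23325 := rfl
theorem F45187 : act 0 n23325 = n21730 := d2_1 D23325 (iv D21730) D21729
theorem F45188 : act 1 n23325 = n21766 := d6_1 D23325 (iv D21766) (iv F41283)
theorem F45189 : act 4 n23325 = n21764 := d12_2 (iv F41285) D23325 (iv D21764) F36178 (iv F36027)
theorem F45190 : act 5 n23325 = n21734 := d13_2 (iv F41286) D23325 (iv D21734)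
def n23326 : Q := act 2 n21730
theorem D23326 : act 2 n21730 = n23326 := rfl
theorem F45191 : act 4 n23326 = n21765 := d10_2 (iv F41288) D23326 (iv D21765)
theorem F45192 : act 5 n23326 = n21735 := d11_2 (iv F41289) D23326 (iv D21735)
def n23327 : Q := act 0 n21731
theorem D23327 : act 0 n21731 = n23327 := rfl
theorem F45193 : act 1 n23327 = n22301 := d0_2 D21731 D23327 F42639 F37832 (iv F36033)
theorem F45194 : act 2 n23327 = n21732 := d1_2 (iv F41290) D23327 (iv D21732)
theorem F45195 : act 4 n23327 = n22316 := d3_2 (iv F41291) D23327 F42675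
theorem F45196 : act 5 n23327 = n21740 := d4_2 (iv F41292) D23327 F41305
def n23328 : Q := act 3 n21732
theorem D23328 : act 3 n21732 = n23328 := rfl
theorem F45197 : act 0 n23328 = n21733 := d2_1 D23328 (iv D21733) D21732
theorem F45198 : act 5 n23328 = n21741 := d13_2 (iv F41293) D23328 (iv D21741)
def n23329 : Q := act 2 n21733
theorem D23329 : act 2 n21733 = n23329 := rfl
theorem F45199 : act 1 n23329 = n21767 := d5_1 D23329 (iv D21767) F36182 (iv F36037) (iv F41294)
theorem F45200 : act 5 n23329 = n21742 := d11_2 (iv F41295) D23329 (iv D21742)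
def n23330 : Q := act 2 n21734
theorem D23330 : act 2 n21734 = n23330 := rfl
theorem F45201 : act 0 n23330 = n21735 := d1_1 D23330 (iv D21735) (iv F41296)
def n23331 : Q := act 3 n21735
theorem D23331 : act 3 n21735 = n23331 := rfl
def n23332 : Q := act 4 n21736
theorem D23332 : act 4 n21736 = n23332 := rfl
theorem F45202 : act 0 n23332 = n22290 := d3_1 D23332 (iv D22290) (iv F41297)
theorem F45203 : act 1 n23332 = n21737 := d7_1 D23332 (iv D21737) D21736
theorem F45204 : act 2 n23332 = n22287 := d10_1 D23332 (iv D22287) (iv F41298)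
def n23333 : Q := act 3 n21737
theorem D23333 : act 3 n21737 = n23333 := rfl
theorem F45205 : act 0 n23333 = n21739 := d2_1 D23333 (iv D21739) (iv F41301)
theorem F45206 : act 4 n23333 = n22204 := d12_2 D21737 D23333 (iv D22204) (iv D20152) (iv F36043)
def n23334 : Q := act 3 n21738
theorem D23334 : act 3 n21738 = n23334 := rfl
theorem F45207 : act 0 n23334 = n22204 := d2_1 D23334 (iv D22204) (iv F41303)
theorem F45208 : act 4 n23334 = n21739 := d12_2 D21738 D23334 (iv D21739) (iv D19531) D19530
def n23335 : Q := act 5 n21738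
theorem D23335 : act 5 n21738 = n23335 := rfl
theorem F45209 : act 0 n23335 = n22205 := d4_1 D23335 (iv D22205) (iv F41303)
theorem F45210 : act 2 n23335 = n22202 := d11_1 D23335 (iv D22202) (iv F41304)
def n23336 : Q := act 2 n21739
theorem D23336 : act 2 n21739 = n23336 := rfl
def n23337 : Q := act 2 n21741
theorem D23337 : act 2 n21741 = n23337 := rfl
theorem F45211 : act 0 n23337 = n21742 := d1_1 D23337 (iv D21742) (iv F41308)
def n23338 : Q := act 3 n21742
theorem D23338 : act 3 n21742 = n23338 := rfl
def n23339 : Q := act 2 n21743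
theorem D23339 : act 2 n21743 = n23339 := rfl
theorem F45212 : act 0 n23339 = n22515 := d1_1 D23339 (iv D22515) (iv F41309)
theorem F45213 : act 4 n23339 = n22149 := d10_2 (iv F41311) D23339 (iv D22149)
theorem F45214 : act 5 n23339 = n22811 := d11_2 (iv F41312) D23339 (iv D22811)
def n23340 : Q := act 0 n21744
theorem D23340 : act 0 n21744 = n23340 := rfl
theorem F45215 : act 2 n23340 = n22241 := d1_2 (iv F41313) D23340 F42485
theorem F45216 : act 4 n23340 = n23203 := d3_2 (iv F41314) D23340 F44893
theorem F45217 : act 5 n23340 = n23199 := d4_2 (iv F41315) D23340 F44881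
def n23341 : Q := act 3 n21752
theorem D23341 : act 3 n21752 = n23341 := rfl
theorem F45218 : act 0 n23341 = n21969 := d2_1 D23341 F41885 (iv F41341)
theorem F45219 : act 5 n23341 = n21930 := d13_2 (iv F41343) D23341 (iv D21930)
def n23342 : Q := act 3 n21754
theorem D23342 : act 3 n21754 = n23342 := rfl
theorem F45220 : act 0 n23342 = n21815 := d2_1 D23342 F41498 (iv F41348)
theorem F45221 : act 5 n23342 = n21813 := d13_2 (iv F41350) D23342 (iv D21813)
def n23343 : Q := act 3 n21755
theorem D23343 : act 3 n21755 = n23343 := rfl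
theorem F45222 : act 1 n23343 = n21756 := d6_1 D23343 (iv D21756) D21755
theorem F45223 : act 4 n23343 = n23189 := d12_2 (iv F41351) D23343 (iv D23189) (iv D21555) (iv F40857)
theorem F45224 : act 5 n23343 = n21959 := d13_2 F42500 D23343 (iv F42499)
def n23344 : Q := act 3 n21760
theorem D23344 : act 3 n21760 = n23344 := rfl
theorem F45225 : act 0 n23344 = n21761 := d2_1 D23344 (iv D21761) D21760
theorem F45226 : act 1 n23344 = n21764 := d6_1 D23344 (iv D21764) (iv F41365)
theorem F45227 : act 4 n23344 = n21766 := d12_2 (iv F41366) D23344 (iv D21766) (iv D19581) (iv F36167)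
def n23345 : Q := act 2 n21761
theorem D23345 : act 2 n21761 = n23345 := rfl
theorem F45228 : act 4 n23345 = n21767 := d10_2 (iv F41368) D23345 (iv D21767)
def n23346 : Q := act 3 n21762
theorem D23346 : act 3 n21762 = n23346 := rfl
theorem F45229 : act 0 n23346 = n21763 := d2_1 D23346 (iv D21763) D21762
theorem F45230 : act 5 n23346 = n21764 := d13_2 (iv F41370) D23346 (iv D21764)
def n23347 : Q := act 2 n21763
theorem D23347 : act 2 n21763 = n23347 := rfl
theorem F45231 : act 1 n23347 = n21765 := d5_1 D23347 (iv D21765) F36179 (iv F36176) (iv F41371)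
theorem F45232 : act 5 n23347 = n21765 := d11_2 (iv F41372) D23347 (iv D21765)
def n23348 : Q := act 2 n21764
theorem D23348 : act 2 n21764 = n23348 := rfl
theorem F45233 : act 0 n23348 = n21765 := d1_1 D23348 (iv D21765) (iv F41373)
def n23349 : Q := act 3 n21765
theorem D23349 : act 3 n21765 = n23349 := rfl
def n23350 : Q := act 2 n21766
theorem D23350 : act 2 n21766 = n23350 := rfl
theorem F45234 : act 0 n23350 = n21767 := d1_1 D23350 (iv D21767) (iv F41374)
def n23351 : Q := act 3 n21767
theorem D23351 : act 3 n21767 = n23351 := rfl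
def n23352 : Q := act 2 n21768
theorem D23352 : act 2 n21768 = n23352 := rfl
theorem F45235 : act 4 n23352 = n21814 := d10_2 (iv F41376) D23352 (iv D21814)
theorem F45236 : act 5 n23352 = n22658 := d11_2 (iv F41377) D23352 (iv D22658)
def n23353 : Q := act 1 n21769
theorem D23353 : act 1 n21769 = n23353 := rfl
theorem F45237 : act 3 n23353 = n21913 := d6_2 (iv F41379) D23353 (iv D21913)
theorem F45238 : act 4 n23353 = n21815 := d7_2 (iv F41380) D23353 F41497
theorem F45239 : act 5 n23353 = n21918 := d8_2 (iv F41381) D23353 F41752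
def n23354 : Q := act 0 n21771
theorem D23354 : act 0 n21771 = n23354 := rfl
theorem F45240 : act 3 n23354 = n22662 := d2_2 (iv F41386) D23354 F43472
theorem F45241 : act 5 n23354 = n22661 := d4_2 (iv F41387) D23354 F43471
def n23355 : Q := act 3 n21772
theorem D23355 : act 3 n21772 = n23355 := rfl
theorem F45242 : act 0 n23355 = n21773 := d2_1 D23355 (iv D21773) D21772
theorem F45243 : act 1 n23355 = n23276 := d6_1 D23355 (iv D23276) (iv F41388)
theorem F45244 : act 4 n23355 = n23283 := d12_2 (iv F41390) D23355 F45084 F41364 F39052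
theorem F45245 : act 2 n23355 = n23283 := d15_2 (iv F41389) D23355 F45084 F41363 D22651 (iv F43449) F41419 (iv D19599) D19597
theorem F45246 : act 5 n23282 = n23355 := d11_0 F45245 (iv D23283) (iv F45082)
def n23356 : Q := act 5 n21772
theorem D23356 : act 5 n21772 = n23356 := rfl
theorem F45247 : act 0 n23356 = n21774 := d4_1 D23356 (iv D21774) D21772
theorem F45248 : act 1 n23356 = n23277 := d8_1 D23356 (iv D23277) (iv F41388)
theorem F45249 : act 2 n23356 = n21780 := d11_1 D23356 (iv D21780) (iv F41389)
theorem F45250 : act 3 n23356 = n23282 := d13_1 D23356 F45246 (iv D23355)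
theorem F45251 : act 4 n23356 = n21859 := d14_1 D23356 (iv D21859) (iv D19685) (iv F36207) (iv F41390)
def n23357 : Q := act 2 n21773
theorem D23357 : act 2 n21773 = n23357 := rfl
theorem F45252 : act 0 n23357 = n23283 := d1_1 D23357 (iv F45245) F45242
theorem F45253 : act 3 n23357 = n21778 := d15_5 (iv D21781) (iv D19598) (iv F36196) D21773 D23357 (iv F41764) (iv F43627) (iv D22741) (iv F41415)
theorem F45254 : act 1 n21776 = n23357 := d6_3 F45253 F41406 (iv F41399)
theorem F45255 : act 4 n21773 = n23357 := d12_0 F45253 (iv D21778) (iv D19593) (iv F36197) D21773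
theorem F45256 : act 5 n21776 = n23357 := d13_0 F45253 F41407 (iv F41399)
def n23358 : Q := act 5 n21773
theorem D23358 : act 5 n21773 = n23358 := rfl
theorem F45257 : act 0 n23358 = n23282 := d4_1 D23358 F45246 F45242
theorem F45258 : act 1 n23358 = n21775 := d8_1 D23358 (iv F41397) (iv F41391)
theorem F45259 : act 2 n23358 = n21776 := d11_1 D23358 F45256 (iv D23357)
theorem F45260 : act 3 n23358 = n21774 := d13_1 D23358 (iv D21774) D21773
theorem F45261 : act 4 n23358 = n21775 := d14_1 D23358 (iv F41397) D21776 F45256 (iv F45255)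
def n23359 : Q := act 5 n21779
theorem D23359 : act 5 n21779 = n23359 := rfl
theorem F45262 : act 0 n23359 = n21782 := d4_1 D23359 (iv D21782) (iv F41408)
theorem F45263 : act 1 n23359 = n21787 := d8_1 D23359 (iv D21787) (iv F41409)
theorem F45264 : act 2 n23359 = n22741 := d11_1 D23359 (iv D22741) F41411
theorem F45265 : act 3 n23359 = n21780 := d13_1 D23359 (iv D21780) D21779
theorem F45266 : act 4 n22683 = n23359 := d12_0 F45265 F41414 (iv F41584) (iv F41585) D22683
def n23360 : Q := act 1 n21785
theorem D23360 : act 1 n21785 = n23360 := rfl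
theorem F45267 : act 2 n23360 = n22739 := d5_2 D21785 D23360 F43618 F41411 F41409
theorem F45268 : act 4 n22738 = n23360 := d10_0 F45267 (iv D22739) D22738
def n23361 : Q := act 3 n21785
theorem D23361 : act 3 n21785 = n23361 := rfl
theorem F45269 : act 0 n23361 = n21790 := d2_1 D23361 (iv D21790) (iv F41429)
theorem F45270 : act 2 n23361 = n23290 := d15_2 D21785 D23361 (iv D23290) F41204 F35912 (iv F29983) (iv F36256) (iv D19611) (iv F36250)
theorem F45271 : act 5 n23336 = n23361 := d11_0 F45270 F45103 D23336
def n23362 : Q := act 4 n21785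
theorem D23362 : act 4 n21785 = n23362 := rfl
theorem F45272 : act 0 n23362 = n21791 := d3_1 D23362 (iv D21791) (iv F41429)
theorem F45273 : act 1 n23362 = n22738 := d7_1 D23362 F45268 (iv D23360)
theorem F45274 : act 2 n23362 = n21786 := d10_1 D23362 (iv D21786) D21785
def n23363 : Q := act 5 n21785
theorem D23363 : act 5 n21785 = n23363 := rfl
theorem F45275 : act 0 n23363 = n21792 := d4_1 D23363 (iv D21792) (iv F41429)
theorem F45276 : act 2 n23363 = n21787 := d11_1 D23363 (iv D21787) D21785
theorem F45277 : act 3 n23363 = n23336 := d13_1 D23363 F45271 (iv D23361)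
def n23364 : Q := act 5 n21786
theorem D23364 : act 5 n21786 = n23364 := rfl
theorem F45278 : act 0 n23364 = n21793 := d4_1 D23364 (iv D21793) (iv F41430)
theorem F45279 : act 1 n23364 = n21853 := d8_1 D23364 F41591 (iv F41431)
theorem F45280 : act 3 n23364 = n21801 := d13_1 D23364 (iv D21801) (iv F41432)
def n23365 : Q := act 4 n21787
theorem D23365 : act 4 n21787 = n23365 := rfl
theorem F45281 : act 0 n23365 = n21794 := d3_1 D23365 (iv D21794) (iv F41433)
theorem F45282 : act 1 n23365 = n22683 := d7_1 D23365 F45266 F45263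
theorem F45283 : act 3 n22682 = n23365 := d6_0 F45282 (iv D22683) D22682
def n23366 : Q := act 3 n21788
theorem D23366 : act 3 n21788 = n23366 := rfl
theorem F45284 : act 0 n23366 = n21795 := d2_1 D23366 (iv D21795) (iv F41435)
theorem F45285 : act 1 n23366 = n21851 := d6_1 D23366 F41584 (iv F41436)
theorem F45286 : act 4 n23366 = n22682 := d12_2 D21788 D23366 F45283 (iv D23365) F41434
theorem F45287 : act 5 n23366 = n21802 := d13_2 (iv F41438) D23366 (iv D21802)
theorem F45288 : act 2 n22684 = n23366 := d10_3 F45286 F43514 (iv F43517)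
def n23367 : Q := act 0 n21789
theorem D23367 : act 0 n21789 = n23367 := rfl
theorem F45289 : act 2 n23367 = n21796 := d1_2 (iv F41439) D23367 (iv D21796)
theorem F45290 : act 5 n23367 = n22255 := d4_2 F41440 D23367 F42512
theorem F45291 : act 3 n23292 = n23367 := d15_7 (iv D20213) (iv D17515) F24884 D16677 D19479 D21699 D23292 F45290 F42512
def n23368 : Q := act 3 n21789
theorem D23368 : act 3 n21789 = n23368 := rfl
theorem F45292 : act 0 n23368 = n23292 := d2_1 D23368 F45291 (iv D23367)
theorem F45293 : act 1 n23368 = n21790 := d6_1 D23368 (iv D21790) D21789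
theorem F45294 : act 5 n23368 = n22256 := d13_2 F41440 D23368 (iv D22256)
theorem F45295 : act 2 n23368 = n23287 := d15_2 (iv F41439) D23368 (iv D23287) (iv D21696) (iv D19478) (iv F31371) D20212 (iv F41451) (iv D21796)
def n23369 : Q := act 4 n21789
theorem D23369 : act 4 n21789 = n23369 := rfl
theorem F45296 : act 1 n23369 = n21791 := d7_1 D23369 (iv D21791) D21789
theorem F45297 : act 2 n23369 = n21797 := d10_1 D23369 (iv D21797) (iv F41439)
def n23370 : Q := act 2 n21790
theorem D23370 : act 2 n21790 = n23370 := rfl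
theorem F45298 : act 0 n23370 = n23290 := d1_1 D23370 (iv F45270) F45269
theorem F45299 : act 3 n23370 = n23289 := d9_2 D21790 D23370 F45100 F41212 (iv F36252) (iv F41434) (iv F45276) F45277 (iv D23336) (iv D21739) F36048 F29768 (iv F23558) D16820 D19609
theorem F45300 : act 5 n23333 = n23370 := d13_0 F45299 F45101 D23333
def n23371 : Q := act 4 n21790
theorem D23371 : act 4 n21790 = n23371 := rfl
def n23372 : Q := act 5 n21790
theorem D23372 : act 5 n21790 = n23372 := rfl
theorem F45301 : act 0 n23372 = n23336 := d4_1 D23372 F45271 F45269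
theorem F45302 : act 1 n23372 = n22256 := d8_1 D23372 (iv F45294) F45293
theorem F45303 : act 2 n23372 = n23333 := d11_1 D23372 F45300 (iv D23370)
theorem F45304 : act 3 n23372 = n21792 := d13_1 D23372 (iv D21792) D21790
def n23373 : Q := act 3 n21791
theorem D23373 : act 3 n21791 = n23373 := rfl
def n23374 : Q := act 5 n21791
theorem D23374 : act 5 n21791 = n23374 := rfl
theorem F45305 : act 2 n23374 = n21793 := d11_1 D23374 (iv D21793) (iv F41441)
def n23375 : Q := act 4 n21792
theorem D23375 : act 4 n21792 = n23375 := rfl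
theorem F45306 : act 1 n23375 = n22257 := d7_1 D23375 (iv D22257) (iv F41442)
theorem F45307 : act 2 n23375 = n21794 := d10_1 D23375 (iv D21794) (iv F41443)
def n23376 : Q := act 4 n21793
theorem D23376 : act 4 n21793 = n23376 := rfl
theorem F45308 : act 1 n23376 = n21798 := d7_1 D23376 (iv D21798) (iv F41444)
theorem F45309 : act 3 n23376 = n21842 := d12_1 D23376 (iv D21842) F36363 (iv F36277) (iv F41445)
theorem F45310 : act 5 n23376 = n21794 := d14_2 D21793 D23376 (iv D21794) (iv D19611) D19610
def n23377 : Q := act 3 n21794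
theorem D23377 : act 3 n21794 = n23377 := rfl
theorem F45311 : act 0 n23377 = n22682 := d2_1 D23377 F45283 F45281
theorem F45312 : act 1 n23377 = n21799 := d6_1 D23377 (iv D21799) (iv F41446)
theorem F45313 : act 4 n23377 = n21795 := d12_2 D21794 D23377 (iv D21795) (iv D19612) (iv F36256)
theorem F45314 : act 5 n23377 = n21842 := d13_2 F45310 D23377 (iv F45309)
theorem F45315 : act 2 n22687 = n23377 := d5_0 F45312 F41458 (iv F41565) F41566 (iv F43521)
theorem F45316 : act 3 n23375 = n22925 := d15_3 F45315 (iv D23377) (iv F45307) (iv D22925) (iv D21169) (iv F38140) D22379 (iv F42827) D22687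
def n23378 : Q := act 2 n21795
theorem D23378 : act 2 n21795 = n23378 := rfl
theorem F45317 : act 0 n23378 = n22684 := d1_1 D23378 F45288 F45284
theorem F45318 : act 4 n23378 = n22687 := d10_2 F45313 D23378 F45315
theorem F45319 : act 5 n23378 = n21805 := d11_2 (iv F41448) D23378 (iv D21805)
theorem F45320 : act 1 n22688 = n23378 := d7_3 F45318 F43521 (iv F43522)
def n23379 : Q := act 4 n21796
theorem D23379 : act 4 n21796 = n23379 := rfl
theorem F45321 : act 0 n23379 = n21797 := d3_1 D23379 (iv D21797) D21796
theorem F45322 : act 1 n23379 = n21860 := d7_1 D23379 F41617 (iv F41449)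
theorem F45323 : act 3 n23379 = n22124 := d12_1 D23379 (iv D22124) (iv D20024) D20025 (iv F41450)
def n23380 : Q := act 1 n21800
theorem D23380 : act 1 n21800 = n23380 := rfl
theorem F45324 : act 0 n23380 = n22097 := d0_1 D23380 F42169 F37106 (iv F36416) (iv F41461)
theorem F45325 : act 2 n23380 = n22688 := d5_2 D21800 D23380 F45320 (iv D23378) F41447
theorem F45326 : act 3 n23380 = n22097 := d6_2 (iv F41462) D23380 F42169
theorem F45327 : act 4 n23380 = n21847 := d7_2 (iv F41463) D23380 F41565
theorem F45328 : act 5 n23380 = n21806 := d8_2 (iv F41464) D23380 (iv D21806)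
def n23381 : Q := act 2 n21802
theorem D23381 : act 2 n21802 = n23381 := rfl
theorem F45329 : act 0 n23381 = n21805 := d1_1 D23381 (iv D21805) (iv F41468)
theorem F45330 : act 1 n23381 = n22686 := d5_1 D23381 F43520 (iv F41573) F41574 (iv F41469)
theorem F45331 : act 4 n23381 = n21837 := d10_2 (iv F41470) D23381 (iv D21837)
theorem F45332 : act 5 n23381 = n22684 := d11_2 F45287 D23381 F45288
def n23382 : Q := act 2 n21803
theorem D23382 : act 2 n21803 = n23382 := rfl
def n23383 : Q := act 5 n21803
theorem D23383 : act 5 n21803 = n23383 := rfl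
theorem F45333 : act 1 n23383 = n21834 := d8_1 D23383 F41541 (iv F41471)
theorem F45334 : act 3 n23383 = n21804 := d13_1 D23383 (iv D21804) D21803
def n23384 : Q := act 1 n21805
theorem D23384 : act 1 n21805 = n23384 := rfl
theorem F45335 : act 0 n23384 = n22690 := d0_1 D23384 F43524 (iv F43519) (iv F45330) F45329
theorem F45336 : act 2 n23384 = n21806 := d5_2 D21805 D23384 (iv D21806) (iv D19623) (iv F36278)
theorem F45337 : act 4 n23384 = n21839 := d7_2 (iv F41475) D23384 (iv D21839)
theorem F45338 : act 5 n23384 = n22688 := d8_2 F45319 D23384 F45320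
def n23385 : Q := act 3 n21805
theorem D23385 : act 3 n21805 = n23385 := rfl
def n23386 : Q := act 0 n21806
theorem D23386 : act 0 n21806 = n23386 := rfl
theorem F45339 : act 1 n23386 = n21807 := d0_2 D21806 D23386 F41477 F36412 (iv F36280)
theorem F45340 : act 2 n23386 = n22690 := d1_2 F45336 D23386 (iv F45335)
theorem F45341 : act 4 n23386 = n21843 := d3_2 (iv F41476) D23386 (iv D21843)
theorem F45342 : act 5 n23386 = n22097 := d4_2 F45328 D23386 (iv F45324)
theorem F45343 : act 3 n21806 = n23386 := d13_3 F45342 (iv F45326) F45328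
def n23387 : Q := act 3 n21810
theorem D23387 : act 3 n21810 = n23387 := rfl
theorem F45344 : act 0 n23387 = n21957 := d2_1 D23387 F41852 (iv F41488)
theorem F45345 : act 1 n23387 = n21961 := d6_1 D23387 F41863 (iv F41489)
theorem F45346 : act 4 n23387 = n21811 := d12_2 D21810 D23387 (iv D21811) (iv D19628) D19627
def n23388 : Q := act 2 n21811
theorem D23388 : act 2 n21811 = n23388 := rfl
theorem F45347 : act 0 n23388 = n22027 := d1_1 D23388 F42009 (iv F41491)
def n23389 : Q := act 5 n21811
theorem D23389 : act 5 n21811 = n23389 := rfl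
theorem F45348 : act 0 n23389 = n22031 := d4_1 D23389 (iv D22031) (iv F41491)
theorem F45349 : act 3 n23389 = n21812 := d13_1 D23389 (iv D21812) D21811
def n23390 : Q := act 2 n21813
theorem D23390 : act 2 n21813 = n23390 := rfl
theorem F45350 : act 0 n23390 = n21814 := d1_1 D23390 (iv D21814) (iv F41495)
theorem F45351 : act 3 n23390 = n23390 := d15_1 D23390 (iv D23390) (iv D21813) F36301 (iv F36151) (iv F36304) (iv F41498) (iv D21815) (iv F41495)
def n23391 : Q := act 1 n21814
theorem D23391 : act 1 n21814 = n23391 := rfl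
theorem F45352 : act 2 n23391 = n21815 := d5_2 D21814 D23391 F41497 (iv D19633) (iv F36302)
theorem F45353 : act 3 n23391 = n23391 := d6_2 F41496 D23391 (iv D23391)
theorem F45354 : act 5 n23391 = n21814 := d15_8 (iv D23390) (iv D21813) F36301 (iv F36151) (iv F36304) (iv F41498) (iv F45352) F45353 (iv F45350)
def n23392 : Q := act 3 n21816
theorem D23392 : act 3 n21816 = n23392 := rfl
theorem F45355 : act 0 n23392 = n21818 := d2_1 D23392 (iv D21818) (iv F41499)
theorem F45356 : act 1 n23392 = n21930 := d6_1 D23392 (iv D21930) (iv F41500)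
theorem F45357 : act 4 n23392 = n21817 := d12_2 D21816 D23392 (iv D21817) (iv D19635) D19634
def n23393 : Q := act 2 n21817
theorem D23393 : act 2 n21817 = n23393 := rfl
theorem F45358 : act 0 n23393 = n21819 := d1_1 D23393 (iv D21819) (iv F41502)
theorem F45359 : act 5 n23393 = n22720 := d11_2 (iv F41504) D23393 (iv D22720)
def n23394 : Q := act 2 n21818
theorem D23394 : act 2 n21818 = n23394 := rfl
theorem F45360 : act 1 n23394 = n22049 := d5_1 D23394 (iv D22049) (iv F42052) F42053 (iv F41505)
theorem F45361 : act 4 n23394 = n21819 := d10_2 (iv F41506) D23394 (iv D21819)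
def n23395 : Q := act 3 n21822
theorem D23395 : act 3 n21822 = n23395 := rfl
theorem F45362 : act 1 n23395 = n21823 := d6_1 D23395 (iv D21823) D21822
def n23396 : Q := act 5 n21822
theorem D23396 : act 5 n21822 = n23396 := rfl
theorem F45363 : act 0 n23396 = n21904 := d4_1 D23396 (iv F43140) F43137
theorem F45364 : act 1 n23396 = n21824 := d8_1 D23396 (iv D21824) D21822
theorem F45365 : act 2 n23396 = n21828 := d11_1 D23396 (iv D21828) (iv F41516)
theorem F45366 : act 4 n23396 = n21906 := d14_1 D23396 (iv F41725) (iv D20219) (iv F37581) (iv F41517)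
def n23397 : Q := act 2 n21823
theorem D23397 : act 2 n21823 = n23397 := rfl
theorem F45367 : act 0 n23397 = n22492 := d1_1 D23397 (iv F43150) F43148
theorem F45368 : act 3 n23397 = n22489 := d9_2 D21823 D23397 F43032 (iv F41514) F41513 (iv F38717) (iv F43154) F43155 (iv D22491) (iv D20580) F32344 (iv F30054) F30053 D16854 D19642
theorem F45369 : act 5 n22488 = n23397 := d13_0 F45368 (iv D22489) D22488
def n23398 : Q := act 4 n21823
theorem D23398 : act 4 n21823 = n23398 := rfl
theorem F45370 : act 3 n23398 = n22253 := d12_1 D23398 (iv D22253) (iv D20205) (iv F36333) D21823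
def n23399 : Q := act 5 n21823
theorem D23399 : act 5 n21823 = n23399 := rfl
theorem F45371 : act 0 n23399 = n22491 := d4_1 D23399 F43151 F43148
theorem F45372 : act 2 n23399 = n22488 := d11_1 D23399 F45369 (iv D23397)
theorem F45373 : act 3 n23399 = n21824 := d13_1 D23399 (iv D21824) D21823
theorem F45374 : act 4 n22523 = n23399 := d10_0 F45372 F43030 D22523
def n23400 : Q := act 4 n21824
theorem D23400 : act 4 n21824 = n23400 := rfl
theorem F45375 : act 0 n23400 = n21902 := d3_1 D23400 (iv F43156) F43152
theorem F45376 : act 1 n23400 = n21906 := d7_1 D23400 (iv F45366) F45364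
theorem F45377 : act 2 n23400 = n21825 := d10_1 D23400 (iv D21825) (iv F41518)
theorem F45378 : act 5 n23400 = n22087 := d14_2 D21824 D23400 F42150 F37085 (iv F36333)
theorem F45379 : act 3 n21964 = n23400 := d13_3 F45378 F42149 (iv F41871)
def n23401 : Q := act 2 n21827
theorem D23401 : act 2 n21827 = n23401 := rfl
theorem F45380 : act 0 n23401 = n22191 := d1_1 D23401 F42390 (iv F41526)
theorem F45381 : act 4 n23401 = n22098 := d10_2 (iv F41528) D23401 F42172
def n23402 : Q := act 3 n21831
theorem D23402 : act 3 n21831 = n23402 := rfl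
theorem F45382 : act 4 n23402 = n22995 := d12_2 (iv F43967) D23402 (iv D22995) F40195 D22868
def n23403 : Q := act 5 n21832
theorem D23403 : act 5 n21832 = n23403 := rfl
theorem F45383 : act 1 n23403 = n21833 := d8_1 D23403 (iv D21833) (iv F41536)
theorem F45384 : act 3 n23403 = n21835 := d13_1 D23403 (iv D21835) (iv F41537)
def n23404 : Q := act 1 n21836
theorem D23404 : act 1 n21836 = n23404 := rfl
def n23405 : Q := act 1 n21837
theorem D23405 : act 1 n21837 = n23405 := rfl
theorem F45385 : act 2 n23405 = n21848 := d5_2 D21837 D23405 (iv D21848) (iv D19668) (iv F36359)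
theorem F45386 : act 4 n23405 = n22686 := d7_2 F45331 D23405 (iv F45330)
theorem F45387 : act 0 n22264 = n23405 := d3_3 F45386 F43519 (iv F42536)
theorem F45388 : act 5 n22381 = n23405 := d14_0 F45386 (iv D22686) F39216 (iv F38143) D22381
def n23406 : Q := act 3 n21837
theorem D23406 : act 3 n21837 = n23406 := rfl
theorem F45389 : act 0 n23406 = n21840 := d2_1 D23406 (iv D21840) (iv F41544)
def n23407 : Q := act 5 n21837
theorem D23407 : act 5 n21837 = n23407 := rfl
theorem F45390 : act 0 n23407 = n21841 := d4_1 D23407 (iv D21841) (iv F41544)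
theorem F45391 : act 1 n23407 = n22381 := d8_1 D23407 F45388 (iv D23405)
theorem F45392 : act 2 n23407 = n21838 := d11_1 D23407 (iv D21838) D21837
theorem F45393 : act 4 n23407 = n22379 := d14_1 D23407 (iv F42827) (iv F43517) (iv F45332) F45331
def n23408 : Q := act 4 n21838
theorem D23408 : act 4 n21838 = n23408 := rfl
theorem F45394 : act 0 n23408 = n21842 := d3_1 D23408 (iv D21842) (iv F41545)
theorem F45395 : act 1 n23408 = n21852 := d7_1 D23408 (iv D21852) (iv F41546)
theorem F45396 : act 2 n23408 = n22379 := d10_1 D23408 (iv F45393) F45392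
theorem F45397 : act 5 n23408 = n22682 := d14_2 D21838 D23408 (iv F45286) F45287 F41470
def n23409 : Q := act 0 n21839
theorem D23409 : act 0 n21839 = n23409 := rfl
theorem F45398 : act 1 n23409 = n22264 := d0_2 D21839 D23409 F45387 (iv D23405) F41544
theorem F45399 : act 2 n23409 = n21843 := d1_2 (iv F41548) D23409 (iv D21843)
theorem F45400 : act 4 n23409 = n22690 := d3_2 F45337 D23409 (iv F45335)
theorem F45401 : act 5 n23409 = n21844 := d4_2 F41549 D23409 F41556
def n23410 : Q := act 3 n21839
theorem D23410 : act 3 n21839 = n23410 := rfl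
theorem F45402 : act 1 n23410 = n21840 := d6_1 D23410 (iv D21840) D21839
theorem F45403 : act 5 n23410 = n21845 := d13_2 F41549 D23410 (iv D21845)
def n23411 : Q := act 2 n21840
theorem D23411 : act 2 n21840 = n23411 := rfl
def n23412 : Q := act 4 n21840
theorem D23412 : act 4 n21840 = n23412 := rfl
def n23413 : Q := act 5 n21840
theorem D23413 : act 5 n21840 = n23413 := rfl
theorem F45404 : act 1 n23413 = n21845 := d8_1 D23413 (iv F45403) F45402
theorem F45405 : act 3 n23413 = n21841 := d13_1 D23413 (iv D21841) D21840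
theorem F45406 : act 4 n23055 = n23413 := d7_0 F45404 F41562 (iv F44488)
def n23414 : Q := act 4 n21841
theorem D23414 : act 4 n21841 = n23414 := rfl
theorem F45407 : act 0 n23414 = n22379 := d3_1 D23414 (iv F45393) F45390
theorem F45408 : act 1 n23414 = n21846 := d7_1 D23414 (iv D21846) (iv F41550)
theorem F45409 : act 2 n23414 = n21842 := d10_1 D23414 (iv D21842) (iv F41551)
theorem F45410 : act 3 n23414 = n22378 := d12_1 D23414 F42825 D23055 F45406 F45405
theorem F45411 : act 5 n23414 = n22687 := d14_2 D21841 D23414 (iv F45318) F45319 F41475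
def n23415 : Q := act 3 n21852
theorem D23415 : act 3 n21852 = n23415 := rfl
theorem F45412 : act 0 n23415 = n21857 := d2_1 D23415 (iv D21857) (iv F41586)
theorem F45413 : act 2 n23415 = n22623 := d9_1 D23415 (iv D22623) F38993 F33045 (iv F31471) D20238 (iv F41604) (iv F43476) (iv D22664) (iv D20830) F33182 (iv F27053) (iv F33318) (iv F39214) (iv F41587)
theorem F45414 : act 4 n23415 = n21853 := d12_2 D21852 D23415 (iv D21853) (iv D19671) (iv F36387)
theorem F45415 : act 5 n23415 = n22683 := d13_2 (iv F41588) D23415 (iv D22683)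
def n23416 : Q := act 5 n21858
theorem D23416 : act 5 n21858 = n23416 := rfl
theorem F45416 : act 0 n23416 = n23281 := d4_1 D23416 F45081 (iv F41609)
theorem F45417 : act 1 n23416 = n21859 := d8_1 D23416 (iv D21859) (iv F41610)
theorem F45418 : act 2 n23416 = n23284 := d11_1 D23416 F45087 (iv F41611)
theorem F45419 : act 3 n23416 = n23281 := d13_1 D23416 F45081 (iv F41612)
theorem F45420 : act 4 n23416 = n23277 := d14_1 D23416 (iv D23277) F41177 (iv F36426) D21858
def n23417 : Q := act 3 n21863
theorem D23417 : act 3 n21863 = n23417 := rfl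
theorem F45421 : act 0 n23417 = n21869 := d2_1 D23417 (iv D21869) (iv F41626)
theorem F45422 : act 1 n23417 = n22229 := d6_1 D23417 F42463 (iv F41627)
theorem F45423 : act 4 n23417 = n21864 := d12_2 D21863 D23417 (iv D21864) (iv D19696) (iv F36451)
theorem F45424 : act 5 n23417 = n22211 := d13_2 F43906 D23417 (iv F43905)
def n23418 : Q := act 2 n21864
theorem D23418 : act 2 n21864 = n23418 := rfl
theorem F45425 : act 0 n23418 = n21870 := d1_1 D23418 (iv D21870) (iv F41629)
theorem F45426 : act 5 n23418 = n21873 := d11_2 (iv F41631) D23418 (iv D21873)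
def n23419 : Q := act 5 n21865
theorem D23419 : act 5 n21865 = n23419 := rfl
theorem F45427 : act 0 n23419 = n23403 := d4_1 D23419 (iv D23403) (iv F41632)
theorem F45428 : act 1 n23419 = n22680 := d8_1 D23419 (iv D22680) (iv F41633)
theorem F45429 : act 2 n23419 = n22854 := d11_1 D23419 F43932 (iv F41635)
theorem F45430 : act 3 n23419 = n21866 := d13_1 D23419 (iv D21866) D21865
def n23420 : Q := act 4 n21866
theorem D23420 : act 4 n21866 = n23420 := rfl
theorem F45431 : act 0 n23420 = n22801 := d3_1 D23420 F43779 (iv F41636)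
theorem F45432 : act 1 n23420 = n22477 := d7_1 D23420 F43014 (iv F41637)
theorem F45433 : act 2 n23420 = n21868 := d10_1 D23420 (iv D21868) (iv F41638)
theorem F45434 : act 5 n23420 = n21867 := d14_2 D21866 D23420 (iv D21867) (iv D19698) D19697
def n23421 : Q := act 3 n21867
theorem D23421 : act 3 n21867 = n23421 := rfl
theorem F45435 : act 0 n23421 = n22800 := d2_1 D23421 (iv D22800) (iv F41639)
theorem F45436 : act 1 n23421 = n22476 := d6_1 D23421 (iv D22476) (iv F41640)
theorem F45437 : act 4 n23421 = n22668 := d12_2 D21867 D23421 (iv D22668) (iv D20839) (iv F36461)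
def n23422 : Q := act 2 n21869
theorem D23422 : act 2 n21869 = n23422 := rfl
theorem F45438 : act 1 n23422 = n22223 := d5_1 D23422 F42454 F37519 (iv F36472) (iv F41645)
theorem F45439 : act 4 n23422 = n21870 := d10_2 (iv F41646) D23422 (iv D21870)
theorem F45440 : act 5 n23422 = n22216 := d11_2 (iv F41647) D23422 F42449
def n23423 : Q := act 1 n21870
theorem D23423 : act 1 n21870 = n23423 := rfl
theorem F45441 : act 2 n23423 = n21871 := d5_2 D21870 D23423 (iv D21871) (iv D19704) (iv F36465)
theorem F45442 : act 4 n23423 = n22223 := d7_2 F45439 D23423 (iv F45438)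
theorem F45443 : act 5 n23423 = n21878 := d8_2 (iv F41648) D23423 (iv D21878)
def n23424 : Q := act 3 n21870
theorem D23424 : act 3 n21870 = n23424 := rfl
theorem F45444 : act 5 n23424 = n21879 := d13_2 (iv F41648) D23424 (iv D21879)
def n23425 : Q := act 0 n21871
theorem D23425 : act 0 n21871 = n23425 := rfl
theorem F45445 : act 1 n23425 = n22242 := d0_2 D21871 D23425 F42486 F37544 (iv F36475)
theorem F45446 : act 3 n23425 = n22814 := d2_2 (iv F41649) D23425 (iv D22814)
theorem F45447 : act 4 n23425 = n22219 := d3_2 (iv F41650) D23425 F42452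
theorem F45448 : act 5 n23425 = n21880 := d4_2 (iv F41651) D23425 (iv D21880)
def n23426 : Q := act 5 n21872
theorem D23426 : act 5 n21872 = n23426 := rfl
theorem F45449 : act 0 n23426 = n21876 := d4_1 D23426 (iv D21876) (iv F41652)
theorem F45450 : act 1 n23426 = n22277 := d8_1 D23426 (iv D22277) (iv F41653)
theorem F45451 : act 3 n23426 = n22949 := d13_1 D23426 F44155 (iv F41654)
theorem F45452 : act 4 n23426 = n22202 := d14_1 D23426 (iv D22202) (iv D20150) (iv F36481) D21872
def n23427 : Q := act 1 n21873
theorem D23427 : act 1 n21873 = n23427 := rfl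
theorem F45453 : act 2 n23427 = n22225 := d5_2 D21873 D23427 F42455 F37522 (iv F36483)
theorem F45454 : act 4 n23427 = n22209 := d7_2 (iv F41656) D23427 (iv D22209)
def n23428 : Q := act 3 n21873
theorem D23428 : act 3 n21873 = n23428 := rfl
theorem F45455 : act 0 n23428 = n21879 := d2_1 D23428 (iv D21879) (iv F41655)
def n23429 : Q := act 3 n21874
theorem D23429 : act 3 n21874 = n23429 := rfl
theorem F45456 : act 1 n23429 = n22270 := d6_1 D23429 (iv D22270) (iv F41657)
def n23430 : Q := act 5 n21874
theorem D23430 : act 5 n21874 = n23430 := rfl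
theorem F45457 : act 1 n23430 = n22271 := d8_1 D23430 (iv D22271) (iv F41657)
theorem F45458 : act 2 n23430 = n21876 := d11_1 D23430 (iv D21876) (iv F41658)
theorem F45459 : act 4 n23430 = n22205 := d14_1 D23430 (iv D22205) (iv D20152) (iv F36486) D21874
def n23431 : Q := act 2 n21875
theorem D23431 : act 2 n21875 = n23431 := rfl
theorem F45460 : act 0 n23431 = n22866 := d1_1 D23431 F43963 (iv F41659)
theorem F45461 : act 4 n23431 = n21877 := d10_2 (iv F41661) D23431 (iv D21877)
def n23432 : Q := act 3 n21877
theorem D23432 : act 3 n21877 = n23432 := rfl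
theorem F45462 : act 0 n23432 = n22854 := d2_1 D23432 F43931 (iv F41664)
theorem F45463 : act 1 n23432 = n22875 := d6_1 D23432 F45014 F45012
theorem F45464 : act 2 n23432 = n23403 := d9_1 D23432 F45384 F41543 (iv D21072) F34644 (iv D18917) (iv F34105) D21107 (iv F41635) (iv D21865) F36457 F30146 (iv F30168) D19709 D21877
theorem F45465 : act 5 n23432 = n22868 := d13_2 (iv F41665) D23432 (iv D22868)
def n23433 : Q := act 0 n21878
theorem D23433 : act 0 n21878 = n23433 := rfl
theorem F45466 : act 2 n23433 = n21880 := d1_2 (iv F41666) D23433 (iv D21880)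
theorem F45467 : act 4 n23433 = n22212 := d3_2 (iv F41667) D23433 (iv D22212)
def n23434 : Q := act 3 n21878
theorem D23434 : act 3 n21878 = n23434 := rfl
theorem F45468 : act 1 n23434 = n21879 := d6_1 D23434 (iv D21879) D21878
def n23435 : Q := act 2 n21879
theorem D23435 : act 2 n21879 = n23435 := rfl
def n23436 : Q := act 4 n21879
theorem D23436 : act 4 n21879 = n23436 := rfl
theorem F45469 : act 3 n23436 = n22214 := d12_1 D23436 (iv D22214) (iv D20162) (iv F36491) D21879
def n23437 : Q := act 3 n21880
theorem D23437 : act 3 n21880 = n23437 := rfl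
theorem F45470 : act 0 n23437 = n21881 := d2_1 D23437 (iv D21881) D21880
theorem F45471 : act 1 n23437 = n22241 := d6_1 D23437 (iv D22241) (iv F41668)
theorem F45472 : act 4 n23437 = n22220 := d12_2 (iv F41669) D23437 (iv D22220) (iv D20168) (iv F37513)
theorem F45473 : act 5 n23437 = n22814 := d13_2 F45448 D23437 (iv F45446)
def n23438 : Q := act 2 n21881
theorem D23438 : act 2 n21881 = n23438 := rfl
theorem F45474 : act 1 n23438 = n22515 := d5_1 D23438 (iv D22515) F38617 (iv F36494) (iv F41670)
theorem F45475 : act 4 n23438 = n22224 := d10_2 (iv F41671) D23438 (iv D22224)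
theorem F45476 : act 5 n23438 = n22812 := d11_2 (iv F41672) D23438 F43815
def n23439 : Q := act 2 n21882
theorem D23439 : act 2 n21882 = n23439 := rfl
theorem F45477 : act 0 n23439 = n21889 := d1_1 D23439 (iv D21889) (iv F41673)
theorem F45478 : act 1 n23439 = n23268 := d5_1 D23439 (iv D23268) F41134 D21674 (iv F41674)
theorem F45479 : act 3 n23439 = n22582 := d9_2 D21882 D23439 (iv D22582) (iv D20735) F32930 (iv F30190) (iv F36511) (iv F41690) (iv F42087) (iv D22057) (iv D19925) (iv D17149) (iv F27419) (iv F30179) (iv F36498)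
theorem F45480 : act 4 n23439 = n22275 := d10_2 (iv F41675) D23439 (iv D22275)
theorem F45481 : act 5 n23439 = n22798 := d11_2 (iv F41676) D23439 F43773
def n23440 : Q := act 3 n21883
theorem D23440 : act 3 n21883 = n23440 := rfl
theorem F45482 : act 0 n23440 = n23263 := d2_1 D23440 F45032 F42404
theorem F45483 : act 1 n23440 = n21886 := d6_1 D23440 (iv D21886) (iv F41677)
theorem F45484 : act 4 n23440 = n21884 := d12_2 D21883 D23440 (iv D21884) (iv D19715) D19714
def n23441 : Q := act 5 n21883
theorem D23441 : act 5 n21883 = n23441 := rfl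
theorem F45485 : act 1 n23441 = n21887 := d8_1 D23441 (iv D21887) (iv F41677)
theorem F45486 : act 4 n23441 = n21900 := d14_1 D23441 (iv D21900) (iv D19730) (iv F36501) D21883
def n23442 : Q := act 2 n21884
theorem D23442 : act 2 n21884 = n23442 := rfl
def n23443 : Q := act 5 n21884
theorem D23443 : act 5 n21884 = n23443 := rfl
theorem F45487 : act 1 n23443 = n21890 := d8_1 D23443 (iv D21890) (iv F41678)
theorem F45488 : act 3 n23443 = n21885 := d13_1 D23443 (iv D21885) D21884
def n23444 : Q := act 2 n21886
theorem D23444 : act 2 n21886 = n23444 := rfl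
theorem F45489 : act 0 n23444 = n22275 := d1_1 D23444 (iv D22275) (iv F41682)
theorem F45490 : act 4 n23444 = n21889 := d10_2 (iv F41683) D23444 (iv D21889)
theorem F45491 : act 3 n23444 = n22900 := d15_1 D23444 F44025 F39833 F34148 (iv F31501) (iv F37710) (iv F42563) (iv D22276) (iv F41682)
theorem F45492 : act 5 n23255 = n23444 := d13_0 F45491 F44026 D23255
def n23445 : Q := act 5 n21886
theorem D23445 : act 5 n21886 = n23445 := rfl
theorem F45493 : act 0 n23445 = n22276 := d4_1 D23445 (iv D22276) (iv F41682)
theorem F45494 : act 2 n23445 = n23255 := d11_1 D23445 F45492 (iv D23444)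
theorem F45495 : act 3 n23445 = n21887 := d13_1 D23445 (iv D21887) D21886
def n23446 : Q := act 4 n21887
theorem D23446 : act 4 n21887 = n23446 := rfl
theorem F45496 : act 0 n23446 = n21896 := d3_1 D23446 F41703 (iv F41684)
theorem F45497 : act 1 n23446 = n21900 := d7_1 D23446 (iv F45486) F45485
theorem F45498 : act 2 n23446 = n21895 := d10_1 D23446 F41701 (iv F41685)
theorem F45499 : act 5 n23446 = n21888 := d14_2 D21887 D23446 (iv D21888) (iv D19717) D19716
def n23447 : Q := act 1 n21889
theorem D23447 : act 1 n21889 = n23447 := rfl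
def n23448 : Q := act 4 n21890
theorem D23448 : act 4 n21890 = n23448 := rfl
theorem F45500 : act 0 n23448 = n22833 := d3_1 D23448 F43867 (iv F41689)
theorem F45501 : act 3 n23448 = n22831 := d12_1 D23448 (iv D22831) (iv D21055) (iv F36512) (iv F41690)
def n23449 : Q := act 3 n21891
theorem D23449 : act 3 n21891 = n23449 := rfl
def n23450 : Q := act 5 n21891
theorem D23450 : act 5 n21891 = n23450 := rfl
theorem F45502 : act 2 n23450 = n21892 := d11_1 D23450 (iv D21892) D21891
def n23451 : Q := act 4 n21893
theorem D23451 : act 4 n21893 = n23451 := rfl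
theorem F45503 : act 0 n23451 = n22203 := d3_1 D23451 (iv D22203) (iv F41694)
theorem F45504 : act 1 n23451 = n21898 := d7_1 D23451 (iv D21898) (iv F41695)
theorem F45505 : act 2 n23451 = n21894 := d10_1 D23451 (iv D21894) D21893
def n23452 : Q := act 5 n21894
theorem D23452 : act 5 n21894 = n23452 := rfl
theorem F45506 : act 0 n23452 = n22207 := d4_1 D23452 (iv D22207) (iv F41698)
theorem F45507 : act 1 n23452 = n21895 := d8_1 D23452 (iv D21895) (iv F41699)
theorem F45508 : act 3 n23452 = n23264 := d13_1 D23452 F45037 F42099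
theorem F45509 : act 4 n23452 = n22268 := d14_1 D23452 (iv D22268) (iv D20244) (iv F36521) D21894
def n23453 : Q := act 5 n21897
theorem D23453 : act 5 n21897 = n23453 := rfl
theorem F45510 : act 0 n23453 = n21900 := d4_1 D23453 (iv D21900) (iv F41704)
theorem F45511 : act 1 n23453 = n22948 := d8_1 D23453 F44153 (iv F41705)
theorem F45512 : act 3 n23453 = n22960 := d13_1 D23453 F44191 (iv F41706)
def n23454 : Q := act 3 n21898
theorem D23454 : act 3 n21898 = n23454 := rfl
theorem F45513 : act 4 n23454 = n22314 := d12_2 D21898 D23454 (iv D22314) (iv D20314) (iv F36529)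
def n23455 : Q := act 5 n21898
theorem D23455 : act 5 n21898 = n23455 := rfl
theorem F45514 : act 2 n23455 = n21900 := d11_1 D23455 (iv D21900) (iv F41707)
def n23456 : Q := act 5 n21899
theorem D23456 : act 5 n21899 = n23456 := rfl
theorem F45515 : act 0 n23456 = n22960 := d4_1 D23456 F44191 (iv F41708)
theorem F45516 : act 2 n23456 = n23135 := d11_1 D23456 (iv D23135) F41710
theorem F45517 : act 3 n23456 = n21900 := d13_1 D23456 (iv D21900) D21899
def n23457 : Q := act 3 n21904
theorem D23457 : act 3 n21904 = n23457 := rfl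
theorem F45518 : act 1 n23457 = n21905 := d6_1 D23457 (iv D21905) D21904
def n23458 : Q := act 2 n21905
theorem D23458 : act 2 n21905 = n23458 := rfl
theorem F45519 : act 3 n23458 = n22336 := d9_2 D21905 D23458 F42726 F37938 F33997 F32551 (iv F32733) D20678 (iv F42472) (iv D22234) F37533 (iv D19739) F30229 D16949 D19740
theorem F45520 : act 5 n23458 = n22335 := d11_2 F43143 D23458 (iv F43144)
def n23459 : Q := act 4 n21905
theorem D23459 : act 4 n21905 = n23459 := rfl
theorem F45521 : act 0 n23459 = n22383 := d3_1 D23459 F43160 F43157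
theorem F45522 : act 3 n23459 = n21909 := d12_1 D23459 (iv D21909) (iv D19742) (iv F36550) D21905
theorem F45523 : act 5 n23459 = n22918 := d14_2 F43143 D23459 F44056 F42492 (iv F43142)
def n23460 : Q := act 3 n21906
theorem D23460 : act 3 n21906 = n23460 := rfl
theorem F45524 : act 0 n23460 = n21907 := d2_1 D23460 (iv D21907) D21906
theorem F45525 : act 1 n23460 = n21964 := d6_1 D23460 F45379 F45376
theorem F45526 : act 5 n23460 = n22260 := d13_2 F41725 D23460 (iv D22260)
theorem F45527 : act 2 n22721 = n23460 := d11_3 F45526 (iv F42523) (iv F43590)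
def n23461 : Q := act 1 n21910
theorem D23461 : act 1 n21910 = n23461 := rfl
theorem F45528 : act 0 n23461 = n22493 := d0_1 D23461 (iv D22493) F38514 (iv F36560) (iv F41737)
theorem F45529 : act 2 n23461 = n22779 := d5_2 D21910 D23461 F43710 F39415 (iv F36559)
def n23462 : Q := act 1 n21912
theorem D23462 : act 1 n21912 = n23462 := rfl
theorem F45530 : act 2 n23462 = n21913 := d5_2 D21912 D23462 (iv D21913) (iv D19752) (iv F36572)
theorem F45531 : act 4 n23462 = n22657 := d7_2 (iv F41742) D23462 F43464
theorem F45532 : act 5 n23462 = n21915 := d8_2 (iv F41743) D23462 (iv D21915)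
def n23463 : Q := act 3 n21912
theorem D23463 : act 3 n21912 = n23463 := rfl
theorem F45533 : act 5 n23463 = n21916 := d13_2 (iv F41743) D23463 (iv D21916)
def n23464 : Q := act 0 n21913
theorem D23464 : act 0 n21913 = n23464 := rfl
theorem F45534 : act 1 n23464 = n22662 := d0_2 D21913 D23464 F43472 F39101 (iv F36575)
theorem F45535 : act 4 n23464 = n22655 := d3_2 (iv F41744) D23464 F43461
theorem F45536 : act 5 n23464 = n21917 := d4_2 (iv F41745) D23464 (iv D21917)
def n23465 : Q := act 3 n21914
theorem D23465 : act 3 n21914 = n23465 := rfl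
theorem F45537 : act 0 n23465 = n21916 := d2_1 D23465 (iv D21916) (iv F41746)
def n23466 : Q := act 0 n21915
theorem D23466 : act 0 n21915 = n23466 := rfl
theorem F45538 : act 1 n23466 = n22107 := d0_2 D21915 D23466 (iv F42295) F42296 F41746
theorem F45539 : act 2 n23466 = n21917 := d1_2 (iv F41748) D23466 (iv D21917)
theorem F45540 : act 4 n23466 = n22106 := d3_2 (iv F41749) D23466 F42188
def n23467 : Q := act 3 n21915
theorem D23467 : act 3 n21915 = n23467 := rfl
theorem F45541 : act 1 n23467 = n21916 := d6_1 D23467 (iv D21916) D21915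
def n23468 : Q := act 2 n21916
theorem D23468 : act 2 n21916 = n23468 := rfl
def n23469 : Q := act 4 n21916
theorem D23469 : act 4 n21916 = n23469 := rfl
theorem F45542 : act 3 n23469 = n22652 := d12_1 D23469 (iv D22652) (iv D20810) (iv F36597) D21916
def n23470 : Q := act 3 n21917
theorem D23470 : act 3 n21917 = n23470 := rfl
theorem F45543 : act 0 n23470 = n21918 := d2_1 D23470 (iv D21918) D21917
theorem F45544 : act 1 n23470 = n22661 := d6_1 D23470 (iv D22661) (iv F41750)
theorem F45545 : act 4 n23470 = n22656 := d12_2 (iv F41751) D23470 (iv D22656) (iv D20817) (iv F39076)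
def n23471 : Q := act 2 n21918
theorem D23471 : act 2 n21918 = n23471 := rfl
theorem F45546 : act 1 n23471 = n22658 := d5_1 D23471 (iv D22658) F39092 (iv F36600) (iv F41752)
theorem F45547 : act 4 n23471 = n22658 := d10_2 (iv F41753) D23471 (iv D22658)
def n23472 : Q := act 2 n21919
theorem D23472 : act 2 n21919 = n23472 := rfl
theorem F45548 : act 0 n23472 = n21920 := d1_1 D23472 (iv D21920) (iv F41754)
theorem F45549 : act 4 n23472 = n21953 := d10_2 (iv F41756) D23472 (iv D21953)
def n23473 : Q := act 3 n21920
theorem D23473 : act 3 n21920 = n23473 := rfl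
def n23474 : Q := act 2 n21923
theorem D23474 : act 2 n21923 = n23474 := rfl
theorem F45550 : act 0 n23474 = n21924 := d1_1 D23474 (iv D21924) (iv F41766)
theorem F45551 : act 4 n23474 = n21964 := d10_2 (iv F41768) D23474 (iv D21964)
theorem F45552 : act 5 n23474 = n22485 := d11_2 (iv F41769) D23474 (iv D22485)
theorem F45553 : act 3 n23474 = n22523 := d15_1 D23474 (iv D22523) (iv D20643) (iv D18084) (iv D15089) (iv F25837) D17970 (iv F36622) (iv F41766)
def n23475 : Q := act 3 n21924
theorem D23475 : act 3 n21924 = n23475 := rfl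
theorem F45554 : act 0 n23475 = n22523 := d2_1 D23475 (iv F45553) F45550
theorem F45555 : act 1 n23475 = n22383 := d6_1 D23475 (iv D22383) (iv F41770)
theorem F45556 : act 4 n23475 = n22491 := d12_2 (iv F41771) D23475 (iv F43155) F43156 F41716
theorem F45557 : act 5 n23475 = n22486 := d13_2 (iv F41772) D23475 (iv D22486)
theorem F45558 : act 2 n23475 = n22490 := d15_2 D21924 D23475 (iv D22490) F38481 (iv D18081) (iv F32335) D20574 (iv F41769) F41766
def n23476 : Q := act 2 n21930
theorem D23476 : act 2 n21930 = n23476 := rfl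
theorem F45559 : act 0 n23476 = n21954 := d1_1 D23476 F41846 (iv F41792)
theorem F45560 : act 3 n23476 = n21953 := d9_2 D21930 D23476 (iv D21953) (iv D19804) (iv F36122) F36123 (iv F36746) (iv F41885) (iv F43420) (iv D22639) F39021 F33065 (iv F36112) F36113 (iv F36645)
theorem F45561 : act 4 n23476 = n21931 := d10_2 (iv F41793) D23476 (iv D21931)
theorem F45562 : act 1 n22059 = n23476 := d0_0 F45559 F41845 F36909 D19927 D22059
def n23477 : Q := act 1 n21931
theorem D23477 : act 1 n21931 = n23477 := rfl
theorem F45563 : act 0 n23477 = n22056 := d0_1 D23477 (iv D22056) (iv F39505) D22797 (iv F43771)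
theorem F45564 : act 4 n23477 = n22059 := d7_2 F45561 D23477 F45562
def n23478 : Q := act 3 n21931
theorem D23478 : act 3 n21931 = n23478 := rfl
def n23479 : Q := act 5 n21931
theorem D23479 : act 5 n21931 = n23479 := rfl
theorem F45565 : act 2 n23479 = n21932 := d11_1 D23479 (iv D21932) D21931
def n23480 : Q := act 1 n21934
theorem D23480 : act 1 n21934 = n23480 := rfl
theorem F45566 : act 2 n23480 = n21987 := d5_2 D21934 D23480 F41920 F36790 (iv F36660)
theorem F45567 : act 5 n23480 = n21944 := d8_2 (iv F41801) D23480 (iv D21944)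
def n23481 : Q := act 0 n21935
theorem D23481 : act 0 n21935 = n23481 := rfl
theorem F45568 : act 2 n23481 = n21937 := d1_2 (iv F41802) D23481 (iv D21937)
theorem F45569 : act 4 n23481 = n21981 := d3_2 (iv F41803) D23481 F41912
theorem F45570 : act 5 n23481 = n21946 := d4_2 (iv F41804) D23481 (iv D21946)
def n23482 : Q := act 3 n21935
theorem D23482 : act 3 n21935 = n23482 := rfl
theorem F45571 : act 1 n23482 = n21936 := d6_1 D23482 (iv D21936) D21935
theorem F45572 : act 5 n23482 = n21947 := d13_2 (iv F41804) D23482 (iv D21947)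
def n23483 : Q := act 4 n21936
theorem D23483 : act 4 n21936 = n23483 := rfl
def n23484 : Q := act 2 n21938
theorem D23484 : act 2 n21938 = n23484 := rfl
theorem F45573 : act 0 n23484 = n21939 := d1_1 D23484 (iv D21939) (iv F41809)
theorem F45574 : act 5 n23484 = n21949 := d11_2 (iv F41810) D23484 (iv D21949)
theorem F45575 : act 3 n23484 = n22373 := d15_1 D23484 (iv D22373) (iv D20406) F31900 F25393 (iv F23924) D17023 (iv F36672) (iv F41809)
def n23485 : Q := act 3 n21939
theorem D23485 : act 3 n21939 = n23485 := rfl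
theorem F45576 : act 0 n23485 = n22373 := d2_1 D23485 (iv F45575) F45573
theorem F45577 : act 1 n23485 = n22010 := d6_1 D23485 (iv D22010) (iv F41811)
theorem F45578 : act 5 n23485 = n21951 := d13_2 (iv F41812) D23485 (iv D21951)
theorem F45579 : act 2 n23485 = n22369 := d15_2 D21939 D23485 (iv D22369) F38086 F31896 (iv F30396) D19799 (iv F41810) F41809
def n23486 : Q := act 4 n21940
theorem D23486 : act 4 n21940 = n23486 := rfl
theorem F45580 : act 0 n23486 = n22341 := d3_1 D23486 F42741 (iv F41813)
theorem F45581 : act 1 n23486 = n21941 := d7_1 D23486 (iv D21941) D21940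
theorem F45582 : act 2 n23486 = n21971 := d10_1 D23486 (iv F43208) F43206
theorem F45583 : act 3 n23486 = n22340 := d12_1 D23486 (iv F44888) F44887 (iv D22450) (iv F41814)
theorem F45584 : act 5 n22366 = n23486 := d13_0 F45583 (iv F42739) D22366
def n23487 : Q := act 0 n21944
theorem D23487 : act 0 n21944 = n23487 := rfl
theorem F45585 : act 1 n23487 = n21946 := d0_2 D21944 D23487 (iv D21946) (iv D19795) (iv F36686)
theorem F45586 : act 2 n23487 = n21984 := d1_2 (iv F41829) D23487 F41915
theorem F45587 : act 3 n23487 = n22394 := d2_2 F44715 D23487 (iv F44712)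
theorem F45588 : act 4 n23487 = n21970 := d3_2 (iv F41830) D23487 (iv D21970)
def n23488 : Q := act 3 n21948
theorem D23488 : act 3 n21948 = n23488 := rfl
def n23489 : Q := act 1 n21949
theorem D23489 : act 1 n21949 = n23489 := rfl
def n23490 : Q := act 3 n21949
theorem D23490 : act 3 n21949 = n23490 := rfl
theorem F45589 : act 0 n23490 = n21951 := d2_1 D23490 (iv D21951) (iv F41839)
theorem F45590 : act 2 n23490 = n22374 := d9_1 D23490 F42814 F38095 F31902 (iv F30368) D19787 D21939 D23485 F45579 (iv D22369) F38086 F31896 (iv F30396) D19799 D21949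
theorem F45591 : act 5 n23490 = n22373 := d13_2 F45574 D23490 (iv F45575)
def n23491 : Q := act 0 n21950
theorem D23491 : act 0 n21950 = n23491 := rfl
theorem F45592 : act 2 n23491 = n21952 := d1_2 (iv F41840) D23491 (iv D21952)
theorem F45593 : act 5 n23491 = n22009 := d4_2 (iv F41841) D23491 F41964
def n23492 : Q := act 3 n21950
theorem D23492 : act 3 n21950 = n23492 := rfl
theorem F45594 : act 1 n23492 = n21951 := d6_1 D23492 (iv D21951) D21950
theorem F45595 : act 5 n23492 = n22010 := d13_2 (iv F41841) D23492 (iv D22010)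
def n23493 : Q := act 2 n21951
theorem D23493 : act 2 n21951 = n23493 := rfl
theorem F45596 : act 0 n23493 = n22374 := d1_1 D23493 (iv F45590) F45589
theorem F45597 : act 3 n23493 = n22370 := d9_2 D21951 D23493 F42808 F38089 (iv F36668) D21938 D23484 F45575 (iv D22373) (iv D20406) F31900 F25393 (iv F23924) D17023 D19800
theorem F45598 : act 5 n23493 = n22369 := d11_2 F45578 D23493 (iv F45579)
def n23494 : Q := act 4 n21951
theorem D23494 : act 4 n21951 = n23494 := rfl
def n23495 : Q := act 1 n21953
theorem D23495 : act 1 n21953 = n23495 := rfl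
theorem F45599 : act 0 n23495 = n22060 := d0_1 D23495 F42091 (iv F39026) F39027 (iv F41844)
theorem F45600 : act 3 n23495 = n22059 := d6_2 F45560 D23495 F45562
def n23496 : Q := act 1 n21955
theorem D23496 : act 1 n21955 = n23496 := rfl
theorem F45601 : act 2 n23496 = n21957 := d5_2 D21955 D23496 (iv D21957) (iv D19809) (iv F36712)
theorem F45602 : act 3 n23496 = n22675 := d6_2 (iv F41848) D23496 (iv D22675)
theorem F45603 : act 4 n23496 = n22027 := d7_2 (iv F41847) D23496 (iv D22027)
def n23497 : Q := act 5 n21955
theorem D23497 : act 5 n21955 = n23497 := rfl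
theorem F45604 : act 0 n23497 = n22667 := d4_1 D23497 F43482 F43095
theorem F45605 : act 2 n23497 = n21956 := d11_1 D23497 (iv D21956) D21955
theorem F45606 : act 3 n23497 = n22676 := d13_1 D23497 (iv D22676) (iv F41848)
def n23498 : Q := act 4 n21956
theorem D23498 : act 4 n21956 = n23498 := rfl
theorem F45607 : act 0 n23498 = n22665 := d3_1 D23498 F43478 (iv F41849)
theorem F45608 : act 1 n23498 = n21958 := d7_1 D23498 (iv D21958) (iv F41850)
theorem F45609 : act 3 n23498 = n22023 := d12_1 D23498 (iv D22023) F36849 (iv F36717) (iv F41851)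
theorem F45610 : act 5 n23498 = n22030 := d14_2 D21956 D23498 (iv D22030) (iv D19894) (iv F36713)
def n23499 : Q := act 5 n21961
theorem D23499 : act 5 n21961 = n23499 := rfl
theorem F45611 : act 0 n23499 = n21962 := d4_1 D23499 (iv D21962) D21961
theorem F45612 : act 3 n23499 = n22266 := d13_1 D23499 (iv D22266) (iv F41863)
def n23500 : Q := act 4 n21962
theorem D23500 : act 4 n21962 = n23500 := rfl
theorem F45613 : act 1 n23500 = n21963 := d7_1 D23500 (iv D21963) (iv F41864)
theorem F45614 : act 3 n23500 = n22805 := d12_1 D23500 (iv D22805) (iv D21015) (iv F39538) (iv F41865)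
theorem F45615 : act 5 n23500 = n23189 := d14_2 D21962 D23500 (iv F45223) F45224 F41858
def n23501 : Q := act 1 n21965
theorem D23501 : act 1 n21965 = n23501 := rfl
theorem F45616 : act 0 n23501 = n21978 := d0_1 D23501 F41909 F36776 (iv F36757) (iv F41872)
theorem F45617 : act 2 n23501 = n22366 := d5_2 D21965 D23501 F42802 (iv F41822) F41821
theorem F45618 : act 3 n23501 = n21972 := d6_2 (iv F41873) D23501 F41891
theorem F45619 : act 5 n23501 = n21971 := d8_2 (iv F41874) D23501 F41889
def n23502 : Q := act 2 n21966
theorem D23502 : act 2 n21966 = n23502 := rfl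
theorem F45620 : act 4 n23502 = n22364 := d10_2 (iv F41876) D23502 (iv D22364)
def n23503 : Q := act 1 n21967
theorem D23503 : act 1 n21967 = n23503 := rfl
theorem F45621 : act 0 n23503 = n22077 := d0_1 D23503 F42118 F36996 (iv F38103) (iv F41877)
theorem F45622 : act 3 n23503 = n22076 := d6_2 F42342 D23503 (iv F42340)
theorem F45623 : act 4 n23503 = n22365 := d7_2 (iv F41878) D23503 (iv D22365)
theorem F45624 : act 5 n23503 = n23379 := d8_2 F41879 D23503 F45322
def n23504 : Q := act 3 n21970
theorem D23504 : act 3 n21970 = n23504 := rfl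
theorem F45625 : act 0 n23504 = n21971 := d2_1 D23504 (iv D21971) D21970
theorem F45626 : act 1 n23504 = n21974 := d6_1 D23504 (iv D21974) (iv F41886)
theorem F45627 : act 2 n23504 = n22341 := d9_1 D23504 (iv D22341) F37968 D20372 (iv F41155) F41156 (iv F41892) (iv F45618) F45617 (iv D22366) F38083 (iv F38073) (iv F39003) F39004 (iv F41887)
theorem F45628 : act 4 n23504 = n22393 := d12_2 F45588 D23504 (iv D22393) D22394 (iv F45587)
theorem F45629 : act 5 n23504 = n21978 := d13_2 F41888 D23504 (iv D21978)
def n23505 : Q := act 4 n21972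
theorem D23505 : act 4 n21972 = n23505 := rfl
theorem F45630 : act 0 n23505 = n21979 := d3_1 D23505 (iv D21979) (iv F41890)
theorem F45631 : act 1 n23505 = n21973 := d7_1 D23505 (iv D21973) (iv F41891)
theorem F45632 : act 2 n23505 = n21988 := d10_1 D23505 (iv D21988) (iv F41892)
def n23506 : Q := act 3 n21973
theorem D23506 : act 3 n21973 = n23506 := rfl
theorem F45633 : act 0 n23506 = n21975 := d2_1 D23506 (iv D21975) (iv F41893)
def n23507 : Q := act 2 n21975
theorem D23507 : act 2 n21975 = n23507 := rfl
def n23508 : Q := act 2 n21978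
theorem D23508 : act 2 n21978 = n23508 := rfl
theorem F45634 : act 0 n23508 = n22366 := d1_1 D23508 (iv F45617) F45616
theorem F45635 : act 1 n23508 = n22339 := d5_1 D23508 (iv D22339) (iv F39312) F39313 (iv F41909)
theorem F45636 : act 3 n23508 = n22342 := d9_2 D21978 D23508 F42744 F38018 F36783 (iv D19847) (iv F36747) D21971 (iv F45582) F45583 F42738 D22350 F43323 (iv D22592) F38936
theorem F45637 : act 5 n23508 = n22341 := d11_2 F45629 D23508 (iv F45627)
def n23509 : Q := act 3 n21979
theorem D23509 : act 3 n21979 = n23509 := rfl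
theorem F45638 : act 1 n23509 = n21980 := d6_1 D23509 (iv D21980) (iv F41910)
def n23510 : Q := act 5 n21979
theorem D23510 : act 5 n21979 = n23510 := rfl
theorem F45639 : act 1 n23510 = n21981 := d8_1 D23510 (iv D21981) (iv F41910)
def n23511 : Q := act 1 n21982
theorem D23511 : act 1 n21982 = n23511 := rfl
def n23512 : Q := act 3 n21984
theorem D23512 : act 3 n21984 = n23512 := rfl
theorem F45640 : act 0 n23512 = n21986 := d2_1 D23512 (iv D21986) (iv F41915)
theorem F45641 : act 1 n23512 = n21994 := d6_1 D23512 (iv D21994) (iv F41916)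
def n23513 : Q := act 5 n21984
theorem D23513 : act 5 n21984 = n23513 := rfl
theorem F45642 : act 0 n23513 = n21987 := d4_1 D23513 (iv D21987) (iv F41915)
theorem F45643 : act 1 n23513 = n21995 := d8_1 D23513 (iv D21995) (iv F41916)
def n23514 : Q := act 3 n21985
theorem D23514 : act 3 n21985 = n23514 := rfl
theorem F45644 : act 1 n23514 = n21989 := d6_1 D23514 (iv D21989) (iv F41917)
theorem F45645 : act 4 n23514 = n21986 := d12_2 D21985 D23514 (iv D21986) (iv D19848) D19847
theorem F45646 : act 5 n23514 = n22532 := d13_2 F44793 D23514 F44794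
def n23515 : Q := act 2 n21986
theorem D23515 : act 2 n21986 = n23515 := rfl
theorem F45647 : act 1 n23515 = n22528 := d5_1 D23515 (iv D22528) (iv F40925) F40928 (iv F41919)
theorem F45648 : act 3 n23515 = n22406 := d15_5 (iv F44714) F44715 F41829 D21986 D23515 F42868 (iv F42860) (iv D22395) (iv F40605)
theorem F45649 : act 5 n22405 = n23515 := d13_0 F45648 (iv D22406) D22405
def n23516 : Q := act 5 n21986
theorem D23516 : act 5 n21986 = n23516 := rfl
theorem F45650 : act 1 n23516 = n21991 := d8_1 D23516 (iv D21991) (iv F41919)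
theorem F45651 : act 2 n23516 = n22405 := d11_1 D23516 F45649 (iv D23515)
theorem F45652 : act 3 n23516 = n21987 := d13_1 D23516 (iv D21987) D21986
def n23517 : Q := act 4 n21987
theorem D23517 : act 4 n21987 = n23517 := rfl
theorem F45653 : act 1 n23517 = n21992 := d7_1 D23517 (iv D21992) (iv F41920)
theorem F45654 : act 5 n23517 = n21988 := d14_2 D21987 D23517 (iv D21988) (iv D19849) D19848
def n23518 : Q := act 3 n21988
theorem D23518 : act 3 n21988 = n23518 := rfl
theorem F45655 : act 1 n23518 = n21993 := d6_1 D23518 (iv D21993) (iv F41921)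
def n23519 : Q := act 4 n21991
theorem D23519 : act 4 n21991 = n23519 := rfl
theorem F45656 : act 0 n23519 = n22006 := d3_1 D23519 (iv D22006) (iv F41929)
theorem F45657 : act 2 n23519 = n22022 := d10_1 D23519 (iv D22022) (iv F41930)
theorem F45658 : act 5 n23519 = n22531 := d14_2 D21991 D23519 F43129 F41925 F41923
def n23520 : Q := act 3 n21992
theorem D23520 : act 3 n21992 = n23520 := rfl
theorem F45659 : act 0 n23520 = n22007 := d2_1 D23520 (iv D22007) (iv F41932)
theorem F45660 : act 5 n23520 = n21993 := d13_2 (iv F41934) D23520 (iv D21993)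
def n23521 : Q := act 2 n21993
theorem D23521 : act 2 n21993 = n23521 := rfl
theorem F45661 : act 0 n23521 = n22008 := d1_1 D23521 (iv D22008) (iv F41935)
theorem F45662 : act 4 n23521 = n23100 := d10_2 F45055 D23521 (iv F45056)
theorem F45663 : act 3 n23521 = n23084 := d15_1 D23521 F44575 F40482 F38919 F33082 (iv F36811) D22007 F41962 (iv F41935)
def n23522 : Q := act 2 n21994
theorem D23522 : act 2 n21994 = n23522 := rfl
theorem F45664 : act 0 n23522 = n21998 := d1_1 D23522 (iv D21998) (iv F41936)
def n23523 : Q := act 5 n21994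
theorem D23523 : act 5 n21994 = n23523 := rfl
theorem F45665 : act 0 n23523 = n21999 := d4_1 D23523 (iv D21999) (iv F41936)
theorem F45666 : act 3 n23523 = n21995 := d13_1 D23523 (iv D21995) D21994
def n23524 : Q := act 2 n21996
theorem D23524 : act 2 n21996 = n23524 := rfl
theorem F45667 : act 1 n23524 = n22001 := d5_1 D23524 F41951 F41948 (iv D22000) (iv F41939)
theorem F45668 : act 4 n23524 = n21998 := d10_2 (iv F41940) D23524 (iv D21998)
theorem F45669 : act 3 n23524 = n21997 := d15_3 (iv F36801) D21996 D23524 F41942 F36855 (iv F36853) (iv F39008) (iv D20781) F33050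
theorem F45670 : act 5 n21996 = n23524 := d13_0 F45669 (iv D21997) D21996
def n23525 : Q := act 1 n21998
theorem D23525 : act 1 n21998 = n23525 := rfl
theorem F45671 : act 2 n23525 = n22004 := d5_2 D21998 D23525 (iv D22004) (iv D19864) (iv F36802)
theorem F45672 : act 4 n23525 = n22001 := d7_2 F45668 D23525 (iv F45667)
theorem F45673 : act 0 n22531 = n23525 := d3_3 F45672 F41950 (iv F43129)
theorem F45674 : act 5 n22006 = n23525 := d14_0 F45672 (iv D22001) F36809 D19865 D22006
def n23526 : Q := act 3 n21998
theorem D23526 : act 3 n21998 = n23526 := rfl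
def n23527 : Q := act 5 n21998
theorem D23527 : act 5 n21998 = n23527 := rfl
theorem F45675 : act 1 n23527 = n22006 := d8_1 D23527 F45674 (iv D23525)
theorem F45676 : act 2 n23527 = n21999 := d11_1 D23527 (iv D21999) D21998
theorem F45677 : act 4 n23527 = n21999 := d14_1 D23527 (iv D21999) (iv F41940) F45670 F45668
def n23528 : Q := act 3 n22002
theorem D23528 : act 3 n22002 = n23528 := rfl
theorem F45678 : act 5 n23528 = n22003 := d13_2 (iv F41954) D23528 (iv D22003)
def n23529 : Q := act 2 n22003
theorem D23529 : act 2 n22003 = n23529 := rfl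
theorem F45679 : act 0 n23529 = n23100 := d1_1 D23529 (iv F45056) F45054
theorem F45680 : act 4 n23529 = n22008 := d10_2 (iv F41955) D23529 (iv D22008)
theorem F45681 : act 3 n23529 = n23087 := d15_3 F41152 D22003 D23529 F44585 F40538 (iv F39730) (iv F41162) (iv D21681) (iv F41150)
def n23530 : Q := act 5 n22004
theorem D23530 : act 5 n22004 = n23530 := rfl
theorem F45682 : act 0 n23530 = n22022 := d4_1 D23530 F42000 F41958
theorem F45683 : act 1 n23530 = n22005 := d8_1 D23530 (iv D22005) D22004
theorem F45684 : act 2 n23530 = n22006 := d11_1 D23530 F45674 F45671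
theorem F45685 : act 3 n23530 = n22015 := d13_1 D23530 F41978 (iv F41956)
theorem F45686 : act 4 n23530 = n22005 := d14_1 D23530 (iv D22005) (iv F41947) (iv F41949) (iv F41957)
def n23531 : Q := act 3 n22006
theorem D23531 : act 3 n22006 = n23531 := rfl
theorem F45687 : act 4 n23531 = n22007 := d12_2 D22006 D23531 (iv D22007) (iv D19866) (iv F36810)
def n23532 : Q := act 2 n22007
theorem D23532 : act 2 n22007 = n23532 := rfl
theorem F45688 : act 3 n23532 = n22699 := d9_2 D22007 D23532 (iv D22699) (iv D20886) F36797 (iv D19855) (iv F36792) D21993 D23521 F45663 F44575 F40482 F38919 F33082 (iv F36811)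
theorem F45689 : act 5 n23532 = n22008 := d11_2 (iv F41962) D23532 (iv D22008)
def n23533 : Q := act 1 n22008
theorem D23533 : act 1 n22008 = n23533 := rfl
theorem F45690 : act 3 n23533 = n23086 := d6_2 (iv F41963) D23533 F44582
theorem F45691 : act 0 n23186 = n23533 := d2_3 F45690 F44581 D23186
def n23534 : Q := act 1 n22009
theorem D23534 : act 1 n22009 = n23534 := rfl
def n23535 : Q := act 3 n22009
theorem D23535 : act 3 n22009 = n23535 := rfl
theorem F45692 : act 0 n23535 = n22010 := d2_1 D23535 (iv D22010) (iv F41964)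
def n23536 : Q := act 2 n22010
theorem D23536 : act 2 n22010 = n23536 := rfl
def n23537 : Q := act 2 n22011
theorem D23537 : act 2 n22011 = n23537 := rfl
theorem F45693 : act 0 n23537 = n22516 := d1_1 D23537 (iv D22516) (iv F41965)
theorem F45694 : act 4 n23537 = n22013 := d10_2 (iv F41967) D23537 (iv D22013)
theorem F45695 : act 5 n23537 = n22472 := d11_2 F41968 D23537 F42999
theorem F45696 : act 1 n22474 = n23537 := d8_3 F45695 F42998 D22474
theorem F45697 : act 3 n22712 = n23537 := d13_3 F45695 F43000 D22712
def n23538 : Q := act 1 n22013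
theorem D23538 : act 1 n22013 = n23538 := rfl
theorem F45698 : act 2 n23538 = n22015 := d5_2 D22013 D23538 (iv D22015) (iv D19877) (iv F36824)
theorem F45699 : act 4 n23538 = n22474 := d7_2 F45694 D23538 F45696
theorem F45700 : act 5 n23538 = n22470 := d8_2 (iv F41975) D23538 F42993
theorem F45701 : act 0 n22530 = n23538 := d4_3 F45700 F42992 D22530
def n23539 : Q := act 3 n22013
theorem D23539 : act 3 n22013 = n23539 := rfl
theorem F45702 : act 0 n23539 = n22518 := d2_1 D23539 (iv D22518) (iv F41974)
theorem F45703 : act 2 n23539 = n22486 := d9_1 D23539 (iv D22486) (iv D20575) (iv D17970) F25837 D15089 D18084 D20643 D22523 (iv F45553) (iv D23474) (iv D21923) F36618 D19874 D22013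
theorem F45704 : act 5 n23539 = n22490 := d13_2 (iv F41975) D23539 (iv D22490)
def n23540 : Q := act 1 n22014
theorem D23540 : act 1 n22014 = n23540 := rfl
theorem F45705 : act 0 n23540 = n22019 := d0_1 D23540 F41990 F38652 F37787 (iv F41976)
theorem F45706 : act 2 n23540 = n22474 := d5_2 D22014 D23540 F45696 (iv D23537) F41966
theorem F45707 : act 4 n23540 = n22015 := d7_2 (iv F41977) D23540 (iv D22015)
theorem F45708 : act 5 n23540 = n22473 := d8_2 F42628 D23540 F43002
theorem F45709 : act 3 n22014 = n23540 := d13_3 F45708 F43004 F42628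
def n23541 : Q := act 5 n22016
theorem D23541 : act 5 n22016 = n23541 := rfl
theorem F45710 : act 0 n23541 = n22158 := d4_1 D23541 F42313 (iv F41980)
theorem F45711 : act 1 n23541 = n22018 := d8_1 D23541 (iv D22018) (iv F41981)
theorem F45712 : act 3 n23541 = n22017 := d13_1 D23541 (iv D22017) D22016
def n23542 : Q := act 4 n22018
theorem D23542 : act 4 n22018 = n23542 := rfl
theorem F45713 : act 0 n23542 = n22187 := d3_1 D23542 (iv D22187) (iv F41987)
theorem F45714 : act 2 n23542 = n22708 := d10_1 D23542 F43561 (iv F41988)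
theorem F45715 : act 3 n23542 = n23340 := d12_1 D23542 F45216 (iv D23203) F40930 (iv F41989)
theorem F45716 : act 5 n23542 = n22181 := d14_2 D22018 D23542 (iv D22181) (iv D20107) (iv F36835)
def n23543 : Q := act 2 n22019
theorem D23543 : act 2 n22019 = n23543 := rfl
theorem F45717 : act 0 n23543 = n22474 := d1_1 D23543 (iv F45706) F45705
theorem F45718 : act 3 n23543 = n22185 := d9_2 D22019 D23543 F42380 F37382 (iv F36829) F37792 (iv F42627) (iv F43004) F43003 F38445 F36836 (iv D19879) F30532 D17102 D19881
theorem F45719 : act 4 n23543 = n22530 := d10_2 F41992 D23543 F43128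
theorem F45720 : act 5 n23543 = n22184 := d11_2 (iv F41991) D23543 F42378
def n23544 : Q := act 3 n22020
theorem D23544 : act 3 n22020 = n23544 := rfl
theorem F45721 : act 0 n23544 = n22021 := d2_1 D23544 (iv D22021) D22020
theorem F45722 : act 1 n23544 = n22022 := d6_1 D23544 F41999 (iv F41993)
theorem F45723 : act 4 n23544 = n22021 := d12_2 (iv F41995) D23544 (iv D22021) (iv F37789) (iv F38654)
theorem F45724 : act 5 n23544 = n22526 := d13_2 (iv F41996) D23544 (iv D22526)
def n23545 : Q := act 1 n22025
theorem D23545 : act 1 n22025 = n23545 := rfl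
def n23546 : Q := act 3 n22025
theorem D23546 : act 3 n22025 = n23546 := rfl
theorem F45725 : act 0 n23546 = n22028 := d2_1 D23546 (iv D22028) (iv F42006)
theorem F45726 : act 2 n23546 = n23389 := d9_1 D23546 F45349 F41493 F36298 (iv F30564) (iv F36863) (iv F42010) (iv F42011) F42009 F36864 F36106 F29858 (iv F30559) D19891 D22025
theorem F45727 : act 5 n23546 = n23388 := d15_8 F42009 F36864 F36106 F29858 (iv F30559) D19891 D22025 D23546 F45347
def n23547 : Q := act 5 n22025
theorem D23547 : act 5 n22025 = n23547 := rfl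
theorem F45728 : act 0 n23547 = n22029 := d4_1 D23547 (iv D22029) (iv F42006)
theorem F45729 : act 2 n23547 = n22026 := d11_1 D23547 (iv D22026) D22025
theorem F45730 : act 3 n23547 = n23388 := d13_1 D23547 (iv F45727) (iv D23546)
def n23548 : Q := act 4 n22026
theorem D23548 : act 4 n22026 = n23548 := rfl
theorem F45731 : act 0 n23548 = n22030 := d3_1 D23548 (iv D22030) (iv F42007)
theorem F45732 : act 3 n23548 = n22666 := d12_1 D23548 F43481 F43390 F39081 (iv F42008)
theorem F45733 : act 5 n23548 = n22665 := d14_2 D22026 D23548 F43478 F39139 F38579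
def n23549 : Q := act 4 n22028
theorem D23549 : act 4 n22028 = n23549 := rfl
theorem F45734 : act 2 n23549 = n22483 := d10_1 D23549 F43024 F42016
theorem F45735 : act 3 n23549 = n22672 := d12_1 D23549 F43493 (iv F41848) F41847 D22028
theorem F45736 : act 5 n22482 = n23549 := d11_0 F45734 (iv D22483) D22482
def n23550 : Q := act 4 n22029
theorem D23550 : act 4 n22029 = n23550 := rfl
theorem F45737 : act 1 n23550 = n23549 := d7_1 D23550 (iv D23549) (iv F42012)
theorem F45738 : act 2 n23550 = n22030 := d10_1 D23550 (iv D22030) (iv F42010)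
def n23551 : Q := act 2 n22033
theorem D23551 : act 2 n22033 = n23551 := rfl
theorem F45739 : act 0 n23551 = n22038 := d1_1 D23551 (iv D22038) (iv F42022)
theorem F45740 : act 4 n23551 = n22035 := d10_2 (iv F42024) D23551 (iv D22035)
theorem F45741 : act 5 n23551 = n22140 := d11_2 F42025 D23551 F42277
def n23552 : Q := act 1 n22035
theorem D23552 : act 1 n22035 = n23552 := rfl
theorem F45742 : act 2 n23552 = n22145 := d5_2 D22035 D23552 F42290 F37255 F37029
theorem F45743 : act 5 n23552 = n22144 := d8_2 (iv F42145) D23552 F42288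
def n23553 : Q := act 0 n22036
theorem D23553 : act 0 n22036 = n23553 := rfl
theorem F45744 : act 1 n23553 = n22043 := d0_2 D22036 D23553 (iv D22043) (iv D19908) (iv F36879)
theorem F45745 : act 2 n23553 = n22048 := d1_2 (iv F42032) D23553 (iv D22048)
theorem F45746 : act 3 n23553 = n22915 := d2_2 (iv F42033) D23553 (iv D22915)
theorem F45747 : act 4 n23553 = n22078 := d3_2 (iv F42034) D23553 (iv D22078)
theorem F45748 : act 5 n23553 = n23461 := d4_2 F43039 D23553 F45528
def n23554 : Q := act 1 n22038
theorem D23554 : act 1 n22038 = n23554 := rfl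
theorem F45749 : act 2 n23554 = n22074 := d5_2 D22038 D23554 (iv D22074) (iv D19952) (iv F36886)
theorem F45750 : act 4 n23554 = n22040 := d7_2 (iv F42040) D23554 (iv D22040)
theorem F45751 : act 5 n23401 = n23554 := d11_0 F45749 F42115 D23401
def n23555 : Q := act 3 n22038
theorem D23555 : act 3 n22038 = n23555 := rfl
theorem F45752 : act 2 n23555 = n22912 := d15_2 D22038 D23555 F44039 F39846 (iv F38538) (iv F42028) F42029 F42025 F42022
theorem F45753 : act 5 n22911 = n23555 := d11_0 F45752 (iv D22912) D22911
def n23556 : Q := act 5 n22038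
theorem D23556 : act 5 n22038 = n23556 := rfl
theorem F45754 : act 0 n23556 = n22140 := d4_1 D23556 (iv F45741) F45739
theorem F45755 : act 1 n23556 = n23401 := d8_1 D23556 F45751 (iv D23554)
theorem F45756 : act 2 n23556 = n22039 := d11_1 D23556 (iv D22039) D22038
theorem F45757 : act 3 n23556 = n22911 := d13_1 D23556 F45753 (iv D23555)
theorem F45758 : act 4 n23556 = n22139 := d14_1 D23556 F42275 F42141 (iv D22042) (iv F42040)
def n23557 : Q := act 0 n22040
theorem D23557 : act 0 n22040 = n23557 := rfl
theorem F45759 : act 2 n23557 = n22076 := d1_2 (iv F42045) D23557 (iv D22076)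
def n23558 : Q := act 3 n22040
theorem D23558 : act 3 n22040 = n23558 := rfl
theorem F45760 : act 1 n23558 = n22041 := d6_1 D23558 (iv D22041) D22040
def n23559 : Q := act 5 n22040
theorem D23559 : act 5 n22040 = n23559 := rfl
theorem F45761 : act 1 n23559 = n22042 := d8_1 D23559 (iv D22042) D22040
theorem F45762 : act 2 n23559 = n22075 := d11_1 D23559 F42117 (iv F42045)
theorem F45763 : act 4 n23559 = n22143 := d14_1 D23559 F42287 (iv F45381) F45751 F45750
def n23560 : Q := act 4 n22041
theorem D23560 : act 4 n22041 = n23560 := rfl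
def n23561 : Q := act 1 n22045
theorem D23561 : act 1 n22045 = n23561 := rfl
theorem F45764 : act 0 n23561 = n23231 := d0_1 D23561 F44955 F41170 (iv F36940) (iv F42055)
theorem F45765 : act 2 n23561 = n22080 := d5_2 D22045 D23561 F42129 F37002 (iv F36918)
theorem F45766 : act 3 n23561 = n23231 := d6_2 (iv F42056) D23561 F44955
theorem F45767 : act 5 n23561 = n22046 := d8_2 (iv F42057) D23561 (iv D22046)
def n23562 : Q := act 0 n22046
theorem D23562 : act 0 n22046 = n23562 := rfl
theorem F45768 : act 1 n23562 = n22047 := d0_2 D22046 D23562 F42060 (iv D19933) (iv F36920)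
theorem F45769 : act 2 n23562 = n22078 := d1_2 (iv F42058) D23562 (iv D22078)
theorem F45770 : act 4 n23562 = n22048 := d3_2 (iv F42059) D23562 (iv D22048)
theorem F45771 : act 5 n23562 = n23231 := d4_2 F45767 D23562 (iv F45764)
theorem F45772 : act 3 n22046 = n23562 := d13_3 F45771 (iv F45766) F45767
def n23563 : Q := act 1 n22050
theorem D23563 : act 1 n22050 = n23563 := rfl
theorem F45773 : act 2 n23563 = n22056 := d5_2 D22050 D23563 (iv D22056) (iv D19925) (iv F36925)
theorem F45774 : act 3 n23563 = n23068 := d6_2 (iv F42069) D23563 F44527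
theorem F45775 : act 4 n23563 = n22052 := d7_2 (iv F42068) D23563 (iv D22052)
theorem F45776 : act 5 n23563 = n23067 := d8_2 F42070 D23563 F44525
def n23564 : Q := act 0 n22052
theorem D23564 : act 0 n22052 = n23564 := rfl
theorem F45777 : act 2 n23564 = n22059 := d1_2 (iv F42076) D23564 (iv D22059)
def n23565 : Q := act 3 n22052
theorem D23565 : act 3 n22052 = n23565 := rfl
theorem F45778 : act 1 n23565 = n22053 := d6_1 D23565 (iv D22053) D22052
theorem F45779 : act 5 n23404 = n23565 := d8_0 F45778 (iv F42078) D23404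
def n23566 : Q := act 5 n22052
theorem D23566 : act 5 n22052 = n23566 := rfl
theorem F45780 : act 1 n23566 = n22054 := d8_1 D23566 (iv D22054) D22052
theorem F45781 : act 2 n23566 = n22061 := d11_1 D23566 (iv D22061) (iv F42076)
theorem F45782 : act 3 n23566 = n23404 := d13_1 D23566 F45779 (iv D23565)
theorem F45783 : act 4 n23566 = n23070 := d14_1 D23566 (iv D23070) (iv F44526) (iv F45776) F45775
def n23567 : Q := act 4 n22053
theorem D23567 : act 4 n22053 = n23567 := rfl
theorem F45784 : act 0 n23567 = n23082 := d3_1 D23567 (iv F44567) F42836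
theorem F45785 : act 2 n23567 = n23238 := d10_1 D23567 F44970 (iv F42077)
theorem F45786 : act 3 n23567 = n23046 := d12_1 D23567 F44453 (iv F42069) F42068 D22053
theorem F45787 : act 5 n23567 = n23045 := d14_2 F42078 D23567 F44450 F43782 F43780
def n23568 : Q := act 3 n22056
theorem D23568 : act 3 n22056 = n23568 := rfl
theorem F45788 : act 1 n23568 = n22057 := d6_1 D23568 (iv D22057) D22056
theorem F45789 : act 5 n23447 = n23568 := d8_0 F45788 (iv F42088) D23447
def n23569 : Q := act 5 n22056
theorem D23569 : act 5 n22056 = n23569 := rfl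
theorem F45790 : act 1 n23569 = n22058 := d8_1 D23569 (iv D22058) D22056
theorem F45791 : act 2 n23569 = n23067 := d11_1 D23569 (iv F45776) F45773
theorem F45792 : act 3 n23569 = n23447 := d13_1 D23569 F45789 (iv D23568)
theorem F45793 : act 4 n23069 = n23569 := d10_0 F45791 F44526 D23069
def n23570 : Q := act 4 n22057
theorem D23570 : act 4 n22057 = n23570 := rfl
theorem F45794 : act 2 n23570 = n23448 := d10_1 D23570 (iv D23448) (iv F42087)
theorem F45795 : act 3 n23570 = n22062 := d12_1 D23570 (iv D22062) (iv D19928) (iv F36933) D22057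
def n23571 : Q := act 5 n22059
theorem D23571 : act 5 n22059 = n23571 := rfl
theorem F45796 : act 0 n23571 = n22061 := d4_1 D23571 (iv D22061) D22059
def n23572 : Q := act 2 n22060
theorem D23572 : act 2 n22060 = n23572 := rfl
def n23573 : Q := act 4 n22060
theorem D23573 : act 4 n22060 = n23573 := rfl
theorem F45797 : act 1 n23573 = n22062 := d7_1 D23573 (iv D22062) (iv F42091)
def n23574 : Q := act 4 n22061
theorem D23574 : act 4 n22061 = n23574 := rfl
theorem F45798 : act 1 n23574 = n22063 := d7_1 D23574 (iv D22063) (iv F42092)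
theorem F45799 : act 2 n23574 = n23070 := d10_1 D23574 (iv F45783) F45781
theorem F45800 : act 3 n23574 = n23176 := d12_1 D23574 F44833 (iv D22773) (iv F43409) F43408
theorem F45801 : act 5 n23574 = n23069 := d14_2 D22061 D23574 F45793 (iv D23569) F42086
def n23575 : Q := act 1 n22064
theorem D23575 : act 1 n22064 = n23575 := rfl
theorem F45802 : act 2 n23575 = n22675 := d5_2 D22064 D23575 (iv D22675) (iv D20845) (iv F36951)
def n23576 : Q := act 4 n22064
theorem D23576 : act 4 n22064 = n23576 := rfl
theorem F45803 : act 0 n23576 = n22802 := d3_1 D23576 F43780 (iv F42094)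
theorem F45804 : act 2 n23576 = n22065 := d10_1 D23576 (iv D22065) D22064
theorem F45805 : act 3 n23576 = n22843 := d12_1 D23576 F43893 (iv F44513) F44514 F42534
theorem F45806 : act 5 n23576 = n22842 := d14_2 F42838 D23576 F43890 D23082 (iv F44567)
def n23577 : Q := act 5 n22065
theorem D23577 : act 5 n22065 = n23577 := rfl
theorem F45807 : act 0 n23577 = n22803 := d4_1 D23577 (iv D22803) (iv F42095)
theorem F45808 : act 1 n23577 = n22673 := d8_1 D23577 (iv D22673) (iv F42096)
theorem F45809 : act 2 n23577 = n22842 := d11_1 D23577 (iv F45806) F45804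
theorem F45810 : act 3 n23577 = n22072 := d13_1 D23577 (iv D22072) (iv F42097)
theorem F45811 : act 4 n23577 = n23081 := d14_1 D23577 (iv F44564) F42163 F38173 D22065
def n23578 : Q := act 4 n22068
theorem D23578 : act 4 n22068 = n23578 := rfl
theorem F45812 : act 0 n23578 = n22069 := d3_1 D23578 (iv D22069) D22068
theorem F45813 : act 1 n23578 = n22071 := d7_1 D23578 (iv F43709) F43706
theorem F45814 : act 2 n23578 = n22979 := d10_1 D23578 F44241 F42570
theorem F45815 : act 5 n23578 = n22069 := d14_2 (iv F43704) D23578 (iv D22069) (iv F39412) (iv F43703)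
def n23579 : Q := act 3 n22069
theorem D23579 : act 3 n22069 = n23579 := rfl
theorem F45816 : act 1 n23579 = n22070 := d6_1 D23579 (iv D22070) (iv F42102)
def n23580 : Q := act 2 n22077
theorem D23580 : act 2 n22077 = n23580 := rfl
theorem F45817 : act 1 n23580 = n23374 := d5_1 D23580 F45305 F41444 (iv F36997) (iv F42118)
theorem F45818 : act 5 n23580 = n23369 := d11_2 (iv F42119) D23580 F45297
def n23581 : Q := act 4 n22080
theorem D23581 : act 4 n22080 = n23581 := rfl
theorem F45819 : act 0 n23581 = n23127 := d3_1 D23581 F44703 (iv F42128)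
theorem F45820 : act 1 n23581 = n22081 := d7_1 D23581 (iv D22081) (iv F42129)
theorem F45821 : act 3 n23581 = n23126 := d12_1 D23581 (iv D23126) F40590 D21629 (iv F42130)
def n23582 : Q := act 3 n22081
theorem D23582 : act 3 n22081 = n23582 := rfl
theorem F45822 : act 0 n23582 = n22082 := d2_1 D23582 (iv D22082) (iv F42131)
theorem F45823 : act 1 n23582 = n23126 := d6_1 D23582 (iv F45821) F45820
theorem F45824 : act 4 n23582 = n22950 := d12_2 D22081 D23582 (iv D22950) (iv F42111) F42110
def n23583 : Q := act 2 n22082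
theorem D23583 : act 2 n22082 = n23583 := rfl
theorem F45825 : act 1 n23583 = n23124 := d5_1 D23583 F44698 F40586 (iv F40033) (iv F42133)
theorem F45826 : act 4 n23583 = n22951 := d10_2 (iv F42134) D23583 (iv D22951)
def n23584 : Q := act 5 n22083
theorem D23584 : act 5 n22083 = n23584 := rfl
theorem F45827 : act 0 n23584 = n22891 := d4_1 D23584 (iv D22891) (iv F42135)
theorem F45828 : act 2 n23584 = n22084 := d11_1 D23584 (iv D22084) D22083
theorem F45829 : act 3 n23584 = n23393 := d13_1 D23584 F45359 F43588
def n23585 : Q := act 4 n22089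
theorem D23585 : act 4 n22089 = n23585 := rfl
theorem F45830 : act 0 n23585 = n22514 := d3_1 D23585 (iv D22514) F42155
theorem F45831 : act 1 n23585 = n22090 := d7_1 D23585 (iv D22090) D22089
theorem F45832 : act 2 n23585 = n22093 := d10_1 D23585 (iv D22093) (iv F42152)
theorem F45833 : act 3 n23585 = n23214 := d12_1 D23585 F44916 F42139 (iv F38591) (iv F42153)
theorem F45834 : act 5 n23585 = n23213 := d14_2 (iv F42154) D23585 F44913 F43930 F39858
def n23586 : Q := act 4 n22092
theorem D23586 : act 4 n22092 = n23586 := rfl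
theorem F45835 : act 0 n23586 = n22093 := d3_1 D23586 (iv D22093) D22092
theorem F45836 : act 2 n23586 = n22514 := d10_1 D23586 (iv D22514) (iv F42159)
theorem F45837 : act 5 n23586 = n23215 := d14_2 (iv F42161) D23586 F44917 (iv D22680) F39185
def n23587 : Q := act 5 n22093
theorem D23587 : act 5 n22093 = n23587 := rfl
theorem F45838 : act 0 n23587 = n23215 := d4_1 D23587 (iv F45837) F45835
theorem F45839 : act 1 n23587 = n22095 := d8_1 D23587 (iv D22095) (iv F42162)
theorem F45840 : act 2 n23587 = n23213 := d11_1 D23587 (iv F45834) F45832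
theorem F45841 : act 4 n23587 = n22384 := d14_1 D23587 (iv D22384) (iv D20433) (iv F37073) D22093
def n23588 : Q := act 4 n22096
theorem D23588 : act 4 n22096 = n23588 := rfl
theorem F45842 : act 0 n23588 = n22142 := d3_1 D23588 (iv D22142) (iv F42166)
theorem F45843 : act 1 n23588 = n22259 := d7_1 D23588 (iv D22259) (iv F42167)
theorem F45844 : act 2 n23588 = n22710 := d10_1 D23588 (iv F43564) F42193
theorem F45845 : act 3 n23588 = n22349 := d12_1 D23588 F42765 (iv F42149) F42150 D22096
theorem F45846 : act 5 n22713 = n23588 := d13_0 F45845 F42766 D22713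
def n23589 : Q := act 3 n22099
theorem D23589 : act 3 n22099 = n23589 := rfl
theorem F45847 : act 0 n23589 = n23449 := d2_1 D23589 (iv D23449) (iv F42173)
def n23590 : Q := act 5 n22099
theorem D23590 : act 5 n22099 = n23590 := rfl
theorem F45848 : act 0 n23590 = n23450 := d4_1 D23590 (iv D23450) (iv F42173)
theorem F45849 : act 1 n23590 = n23551 := d8_1 D23590 F45741 F42276
theorem F45850 : act 2 n23590 = n22100 := d11_1 D23590 (iv D22100) (iv F42174)
theorem F45851 : act 4 n23590 = n23552 := d14_1 D23590 F45743 (iv D22144) F37251 D22099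
def n23591 : Q := act 0 n22101
theorem D23591 : act 0 n22101 = n23591 := rfl
theorem F45852 : act 1 n23591 = n22652 := d0_2 D22101 D23591 F43450 (iv D22114) F37148
theorem F45853 : act 2 n23591 = n22110 := d1_2 (iv F42178) D23591 (iv D22110)
theorem F45854 : act 4 n23591 = n22105 := d3_2 (iv F42179) D23591 (iv D22105)
def n23592 : Q := act 3 n22101
theorem D23592 : act 3 n22101 = n23592 := rfl
theorem F45855 : act 1 n23592 = n22102 := d6_1 D23592 (iv D22102) D22101
def n23593 : Q := act 5 n22101
theorem D23593 : act 5 n22101 = n23593 := rfl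
theorem F45856 : act 1 n23593 = n22103 := d8_1 D23593 (iv D22103) D22101
theorem F45857 : act 2 n23593 = n22112 := d11_1 D23593 (iv D22112) (iv F42178)
theorem F45858 : act 4 n23593 = n22131 := d14_1 D23593 (iv D22131) (iv D20035) F37130 (iv F42179)
def n23594 : Q := act 2 n22102
theorem D23594 : act 2 n22102 = n23594 := rfl
theorem F45859 : act 3 n23594 = n22103 := d15_3 D20001 D22102 D23594 F42180 F37128 (iv F30820) (iv F37152) (iv D20013) F30815
theorem F45860 : act 5 n22102 = n23594 := d13_0 F45859 (iv D22103) D22102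
def n23595 : Q := act 4 n22102
theorem D23595 : act 4 n22102 = n23595 := rfl
theorem F45861 : act 3 n23595 = n22107 := d12_1 D23595 (iv D22107) (iv D20004) (iv F37126) D22102
def n23596 : Q := act 4 n22103
theorem D23596 : act 4 n22103 = n23596 := rfl
theorem F45862 : act 1 n23596 = n22131 := d7_1 D23596 (iv F45858) F45856
theorem F45863 : act 2 n23596 = n22104 := d10_1 D23596 (iv D22104) (iv F42180)
theorem F45864 : act 5 n23596 = n22109 := d14_2 D22103 D23596 (iv D22109) (iv D20005) (iv F37126)
def n23597 : Q := act 5 n22107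
theorem D23597 : act 5 n22107 = n23597 := rfl
def n23598 : Q := act 2 n22111
theorem D23598 : act 2 n22111 = n23598 := rfl
theorem F45865 : act 0 n23598 = n23593 := d1_1 D23598 F45857 F42202
theorem F45866 : act 4 n23598 = n22132 := d10_2 (iv F42200) D23598 (iv D22132)
theorem F45867 : act 5 n23598 = n23591 := d11_2 F42201 D23598 F45853
def n23599 : Q := act 1 n22113
theorem D23599 : act 1 n22113 = n23599 := rfl
theorem F45868 : act 0 n23599 = n22119 := d0_1 D23599 F42222 F37156 (iv F37165) (iv F42206)
theorem F45869 : act 3 n23599 = n22119 := d6_2 (iv F42207) D23599 F42222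
theorem F45870 : act 4 n23599 = n22133 := d7_2 (iv F42208) D23599 (iv D22133)
theorem F45871 : act 5 n23599 = n22118 := d8_2 (iv F42209) D23599 F42219
def n23600 : Q := act 3 n22114
theorem D23600 : act 3 n22114 = n23600 := rfl
theorem F45872 : act 0 n23600 = n23469 := d2_1 D23600 F45542 F43450
theorem F45873 : act 1 n23600 = n22115 := d6_1 D23600 (iv D22115) D22114
theorem F45874 : act 4 n23600 = n23465 := d12_2 (iv F42211) D23600 (iv D23465) F41747 F39064
def n23601 : Q := act 5 n22114
theorem D23601 : act 5 n22114 = n23601 := rfl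
theorem F45875 : act 1 n23601 = n22116 := d8_1 D23601 (iv D22116) D22114
theorem F45876 : act 2 n23601 = n22119 := d11_1 D23601 (iv D22119) (iv F42210)
def n23602 : Q := act 2 n22115
theorem D23602 : act 2 n22115 = n23602 := rfl
theorem F45877 : act 0 n23602 = n23594 := d1_1 D23602 (iv D23594) (iv F42212)
theorem F45878 : act 3 n23602 = n22116 := d9_2 D22115 D23602 F42214 F37152 F30820 (iv F37128) (iv F42180) (iv F45859) (iv D23594) (iv D22102) (iv D20001) (iv D17243) (iv F24288) D17251 D20012
theorem F45879 : act 5 n22115 = n23602 := d13_0 F45878 (iv D22116) D22115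
def n23603 : Q := act 4 n22115
theorem D23603 : act 4 n22115 = n23603 := rfl
theorem F45880 : act 0 n23603 = n23595 := d3_1 D23603 (iv D23595) (iv F42212)
theorem F45881 : act 1 n23603 = n23465 := d7_1 D23603 (iv F45874) F45873
theorem F45882 : act 3 n23603 = n22147 := d12_1 D23603 (iv D22147) (iv D20061) (iv F37149) D22115
def n23604 : Q := act 4 n22116
theorem D23604 : act 4 n22116 = n23604 := rfl
theorem F45883 : act 0 n23604 = n23596 := d3_1 D23604 (iv D23596) (iv F42213)
theorem F45884 : act 2 n23604 = n22117 := d10_1 D23604 (iv D22117) (iv F42214)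
theorem F45885 : act 5 n23604 = n22146 := d14_2 D22116 D23604 F42294 F37277 (iv F37149)
def n23605 : Q := act 3 n22120
theorem D23605 : act 3 n22120 = n23605 := rfl
theorem F45886 : act 0 n23605 = n22163 := d2_1 D23605 (iv D22163) (iv F42223)
theorem F45887 : act 2 n23605 = n22166 := d9_1 D23605 (iv D22166) (iv D20085) (iv D17348) F24474 D14274 D17349 D20087 D22167 F42338 F37385 F31080 (iv F30964) (iv F37159) (iv F42224)
theorem F45888 : act 4 n23605 = n22134 := d12_2 D22120 D23605 (iv D22134) (iv F42208) F42207
theorem F45889 : act 5 n23605 = n22148 := d13_2 (iv F42225) D23605 (iv D22148)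
def n23606 : Q := act 4 n22123
theorem D23606 : act 4 n22123 = n23606 := rfl
theorem F45890 : act 0 n23606 = n23559 := d3_1 D23606 F45763 F42284
theorem F45891 : act 1 n23606 = n22193 := d7_1 D23606 (iv D22193) (iv F42234)
theorem F45892 : act 2 n23606 = n22124 := d10_1 D23606 (iv D22124) D22123
theorem F45893 : act 5 n23557 = n23606 := d11_0 F45892 (iv F42239) (iv F45759)
def n23607 : Q := act 2 n22125
theorem D23607 : act 2 n22125 = n23607 := rfl
theorem F45894 : act 0 n23607 = n23113 := d1_1 D23607 F44669 (iv F42240)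
theorem F45895 : act 1 n23607 = n22154 := d5_1 D23607 F42304 F37310 (iv F37319) (iv F42241)
theorem F45896 : act 3 n23607 = n23607 := d9_2 D22125 D23607 (iv D23607) (iv D22125) (iv D20026) (iv D17270) (iv F29788) D19539 D21745 F41317 (iv D21745) (iv D19539) F29788 D17270 D20026
theorem F45897 : act 4 n23607 = n22152 := d10_2 (iv F42242) D23607 F42302
theorem F45898 : act 5 n23607 = n22201 := d11_2 (iv F42243) D23607 (iv D22201)
def n23608 : Q := act 4 n22127
theorem D23608 : act 4 n22127 = n23608 := rfl
theorem F45899 : act 0 n23608 = n22816 := d3_1 D23608 (iv D22816) (iv F42247)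
theorem F45900 : act 1 n23608 = n22128 := d7_1 D23608 (iv D22128) D22127
theorem F45901 : act 2 n23608 = n22815 := d10_1 D23608 (iv D22815) (iv F42248)
def n23609 : Q := act 5 n22129
theorem D23609 : act 5 n22129 = n23609 := rfl
theorem F45902 : act 0 n23609 = n22657 := d4_1 D23609 (iv D22657) (iv F42253)
theorem F45903 : act 2 n23609 = n22655 := d11_1 D23609 (iv D22655) (iv F42254)
def n23610 : Q := act 5 n22130
theorem D23610 : act 5 n22130 = n23610 := rfl
theorem F45904 : act 2 n23610 = n23541 := d11_1 D23610 (iv D23541) (iv F42255)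
theorem F45905 : act 3 n23610 = n22131 := d13_1 D23610 (iv D22131) D22130
def n23611 : Q := act 1 n22132
theorem D23611 : act 1 n22132 = n23611 := rfl
theorem F45906 : act 2 n23611 = n22133 := d5_2 D22132 D23611 (iv D22133) (iv D20038) (iv F37221)
theorem F45907 : act 5 n23611 = n23608 := d8_2 (iv F42258) D23611 F45900
def n23612 : Q := act 3 n22132
theorem D23612 : act 3 n22132 = n23612 := rfl
theorem F45908 : act 0 n23612 = n23610 := d2_1 D23612 F45905 (iv F42257)
theorem F45909 : act 2 n23612 = n22158 := d9_1 D23612 (iv D22158) (iv F41320) F41321 F39597 F37194 (iv F37217) D22130 F42255 (iv D22016) F36833 F32566 (iv F30876) D20037 D22132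
theorem F45910 : act 5 n23612 = n22164 := d13_2 (iv F42258) D23612 F42333
def n23613 : Q := act 3 n22133
theorem D23613 : act 3 n22133 = n23613 := rfl
theorem F45911 : act 1 n23613 = n22134 := d6_1 D23613 (iv D22134) D22133
def n23614 : Q := act 3 n22137
theorem D23614 : act 3 n22137 = n23614 := rfl
theorem F45912 : act 0 n23614 = n22138 := d2_1 D23614 (iv D22138) (iv F42266)
theorem F45913 : act 1 n23614 = n23042 := d6_1 D23614 F44442 (iv F42267)
theorem F45914 : act 2 n23614 = n23410 := d9_1 D23614 (iv D23410) F41548 F36364 (iv F30898) (iv F32461) (iv F34860) D21325 D23032 F44407 (iv D21844) (iv D19662) (iv F30895) D20041 D22137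
theorem F45915 : act 5 n23614 = n23031 := d13_2 (iv F42269) D23614 (iv D23031)
def n23615 : Q := act 2 n22138
theorem D23615 : act 2 n22138 = n23615 := rfl
theorem F45916 : act 0 n23615 = n23410 := d1_1 D23615 (iv F45914) F45912
theorem F45917 : act 1 n23615 = n23037 := d5_1 D23615 (iv D23037) F40320 (iv F40315) (iv F42270)
theorem F45918 : act 3 n23615 = n23409 := d9_2 D22138 D23615 F45399 F41554 (iv F37234) (iv F38581) (iv F40306) D23031 F44404 (iv D21845) (iv D19664) (iv D16872) (iv F24356) D17287 D20043
theorem F45919 : act 5 n23615 = n23032 := d11_2 (iv F42271) D23615 (iv D23032)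
def n23616 : Q := act 4 n22138
theorem D23616 : act 4 n22138 = n23616 := rfl
theorem F45920 : act 1 n23616 = n23034 := d7_1 D23616 (iv D23034) (iv F42270)
theorem F45921 : act 3 n23616 = n23057 := d12_1 D23616 (iv D23057) F40379 (iv F37237) D22138
theorem F45922 : act 5 n23616 = n23058 := d14_2 (iv F42271) D23616 F44497 F40384 (iv F40309)
def n23617 : Q := act 3 n22140
theorem D23617 : act 3 n22140 = n23617 := rfl
theorem F45923 : act 0 n23617 = n22911 := d2_1 D23617 (iv F45757) F45754
theorem F45924 : act 1 n23617 = n23589 := d6_1 D23617 (iv D23589) (iv F42276)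
theorem F45925 : act 2 n23617 = n22906 := d9_1 D23617 (iv D22906) F39841 (iv F36885) F36884 D19904 D22038 D23555 F45752 F44039 F39846 (iv F38538) (iv F42028) F42029 (iv F42277)
theorem F45926 : act 4 n23617 = n22911 := d12_2 D22140 D23617 (iv F45757) F45758 F42274
def n23618 : Q := act 4 n22141
theorem D23618 : act 4 n22141 = n23618 := rfl
theorem F45927 : act 0 n23618 = n22710 := d3_1 D23618 (iv F43564) (iv F42278)
theorem F45928 : act 1 n23618 = n22377 := d7_1 D23618 (iv F43164) F43162
theorem F45929 : act 2 n23618 = n22142 := d10_1 D23618 (iv D22142) D22141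
theorem F45930 : act 5 n22714 = n23618 := d11_0 F45929 (iv F42283) D22714
theorem F45931 : act 3 n22709 = n23618 := d15_1 D22709 F45929 F42282 F37998 F31833 (iv F33366) D20891 F39244 (iv F39248)
def n23619 : Q := act 3 n22146
theorem D23619 : act 3 n22146 = n23619 := rfl
theorem F45932 : act 0 n23619 = n22711 := d2_1 D23619 F43567 (iv F42293)
theorem F45933 : act 4 n23619 = n22709 := d12_2 (iv F42294) D23619 F45931 (iv D23618) F42279
theorem F45934 : act 2 n23619 = n22520 := d15_2 D22146 D23619 (iv D22520) F38633 (iv F38621) F38620 (iv F42182) F42183 (iv F37273)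
def n23620 : Q := act 5 n22147
theorem D23620 : act 5 n22147 = n23620 := rfl
theorem F45935 : act 0 n23620 = n23597 := d4_1 D23620 (iv D23597) (iv F42295)
theorem F45936 : act 1 n23620 = n22930 := d8_1 D23620 F44080 (iv F42296)
theorem F45937 : act 2 n23620 = n22715 := d11_1 D23620 F43572 F43147
theorem F45938 : act 4 n23620 = n22714 := d14_1 D23620 F45930 (iv D23618) F42280 D22147
def n23621 : Q := act 3 n22149
theorem D23621 : act 3 n22149 = n23621 := rfl
def n23622 : Q := act 1 n22150
theorem D23622 : act 1 n22150 = n23622 := rfl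
theorem F45939 : act 2 n23622 = n22324 := d5_2 D22150 D23622 F42696 (iv F40940) F40938
theorem F45940 : act 4 n23622 = n23111 := d7_2 F45062 D23622 (iv F45061)
theorem F45941 : act 0 n22329 = n23622 := d3_3 F45940 F44663 (iv F42708)
def n23623 : Q := act 3 n22150
theorem D23623 : act 3 n22150 = n23623 := rfl
theorem F45942 : act 0 n23623 = n22153 := d2_1 D23623 (iv D22153) (iv F42299)
theorem F45943 : act 4 n23623 = n23623 := d12_2 F45062 D23623 (iv D23623) (iv F45062) F45063
def n23624 : Q := act 5 n22150
theorem D23624 : act 5 n22150 = n23624 := rfl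
theorem F45944 : act 0 n23624 = n22155 := d4_1 D23624 (iv D22155) (iv F42299)
theorem F45945 : act 2 n23624 = n22151 := d11_1 D23624 (iv D22151) D22150
def n23625 : Q := act 4 n22151
theorem D23625 : act 4 n22151 = n23625 := rfl
theorem F45946 : act 0 n23625 = n22157 := d3_1 D23625 (iv D22157) (iv F42300)
theorem F45947 : act 1 n23625 = n23340 := d7_1 D23625 F45216 F44894
def n23626 : Q := act 0 n22152
theorem D23626 : act 0 n22152 = n23626 := rfl
theorem F45948 : act 1 n23626 = n22329 := d0_2 D22152 D23626 F45941 (iv D23622) F42299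
theorem F45949 : act 2 n23626 = n22159 := d1_2 (iv F42302) D23626 (iv D22159)
theorem F45950 : act 4 n23626 = n23113 := d3_2 F45897 D23626 (iv F45894)
theorem F45951 : act 5 n23626 = n23204 := d4_2 F42303 D23626 F44897
def n23627 : Q := act 3 n22152
theorem D23627 : act 3 n22152 = n23627 := rfl
theorem F45952 : act 1 n23627 = n22153 := d6_1 D23627 (iv D22153) D22152
theorem F45953 : act 4 n23627 = n23627 := d12_2 F45897 D23627 (iv D23627) (iv F45897) F45896
theorem F45954 : act 5 n23627 = n23621 := d13_2 F42303 D23627 (iv D23621)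
theorem F45955 : act 2 n23627 = n23623 := d15_2 (iv F42302) D23627 (iv D23623) (iv D22150) (iv D20071) (iv F35482) D21583 (iv F42317) (iv D22159)
def n23628 : Q := act 2 n22153
theorem D23628 : act 2 n22153 = n23628 := rfl
theorem F45956 : act 0 n23628 = n23627 := d1_1 D23628 F45955 F45942
theorem F45957 : act 4 n23628 = n23628 := d10_2 F42306 D23628 (iv D23628)
theorem F45958 : act 3 n23628 = n23626 := d15_3 D20073 D22153 D23628 F45949 F42315 F40934 (iv F42301) (iv D22151) F37308
def n23629 : Q := act 5 n22153
theorem D23629 : act 5 n22153 = n23629 := rfl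
theorem F45959 : act 1 n23629 = n23621 := d8_1 D23629 (iv F45954) F45952
theorem F45960 : act 3 n23629 = n22155 := d13_1 D23629 (iv D22155) D22153
def n23630 : Q := act 5 n22154
theorem D23630 : act 5 n22154 = n23630 := rfl
theorem F45961 : act 1 n23630 = n22201 := d8_1 D23630 (iv F45898) F45895
theorem F45962 : act 2 n23630 = n22156 := d11_1 D23630 (iv D22156) (iv F42304)
theorem F45963 : act 3 n23630 = n23630 := d13_1 D23630 (iv D23630) F42305
def n23631 : Q := act 4 n22155
theorem D23631 : act 4 n22155 = n23631 := rfl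
theorem F45964 : act 1 n23631 = n23339 := d7_1 D23631 F45213 (iv F42307)
theorem F45965 : act 2 n23631 = n22157 := d10_1 D23631 (iv D22157) (iv F42308)
def n23632 : Q := act 4 n22156
theorem D23632 : act 4 n22156 = n23632 := rfl
theorem F45966 : act 1 n23632 = n22160 := d7_1 D23632 (iv D22160) (iv F42309)
theorem F45967 : act 3 n23632 = n22173 := d12_1 D23632 (iv D22173) F37353 (iv F37333) (iv F42310)
theorem F45968 : act 5 n23632 = n22157 := d14_2 D22156 D23632 (iv D22157) (iv D20075) D20074
def n23633 : Q := act 3 n22157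
theorem D23633 : act 3 n22157 = n23633 := rfl
theorem F45969 : act 1 n23633 = n22161 := d6_1 D23633 (iv D22161) (iv F42311)
theorem F45970 : act 4 n23633 = n22158 := d12_2 D22157 D23633 (iv D22158) (iv D20076) (iv F37313)
theorem F45971 : act 5 n23633 = n22173 := d13_2 F45968 D23633 (iv F45967)
def n23634 : Q := act 1 n22162
theorem D23634 : act 1 n22162 = n23634 := rfl
theorem F45972 : act 4 n23634 = n22179 := d7_2 (iv F42327) D23634 F42366
theorem F45973 : act 5 n23634 = n22165 := d8_2 (iv F42328) D23634 (iv D22165)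
def n23635 : Q := act 1 n22164
theorem D23635 : act 1 n22164 = n23635 := rfl
theorem F45974 : act 2 n23635 = n22165 := d5_2 D22164 D23635 (iv D22165) (iv D20085) (iv F37334)
theorem F45975 : act 3 n23635 = n23608 := d6_2 (iv F42333) D23635 F45900
theorem F45976 : act 4 n23635 = n22171 := d7_2 (iv F42332) D23635 (iv D22171)
def n23636 : Q := act 0 n22165
theorem D23636 : act 0 n22165 = n23636 := rfl
theorem F45977 : act 1 n23636 = n22188 := d0_2 D22165 D23636 F42386 F37384 (iv F37336)
theorem F45978 : act 4 n23636 = n22174 := d3_2 (iv F42334) D23636 (iv D22174)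
def n23637 : Q := act 3 n22165
theorem D23637 : act 3 n22165 = n23637 := rfl
theorem F45979 : act 1 n23637 = n22166 := d6_1 D23637 (iv D22166) D22165
theorem F45980 : act 4 n23637 = n22180 := d12_2 (iv F42334) D23637 (iv D22180) (iv D20104) (iv F37354)
def n23638 : Q := act 5 n22169
theorem D23638 : act 5 n22169 = n23638 := rfl
theorem F45981 : act 0 n23638 = n22172 := d4_1 D23638 (iv D22172) (iv F42344)
theorem F45982 : act 1 n23638 = n22706 := d8_1 D23638 F43559 (iv F42345)
theorem F45983 : act 2 n23638 = n22170 := d11_1 D23638 (iv D22170) D22169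
theorem F45984 : act 3 n23638 = n23609 := d13_1 D23638 (iv D23609) (iv F42347)
def n23639 : Q := act 4 n22170
theorem D23639 : act 4 n22170 = n23639 := rfl
theorem F45985 : act 0 n23639 = n22173 := d3_1 D23639 (iv D22173) (iv F42348)
theorem F45986 : act 1 n23639 = n22181 := d7_1 D23639 (iv D22181) (iv F42349)
def n23640 : Q := act 0 n22171
theorem D23640 : act 0 n22171 = n23640 := rfl
theorem F45987 : act 1 n23640 = n22709 := d0_2 D22171 D23640 F43562 (iv F42345) F42344
theorem F45988 : act 2 n23640 = n22174 := d1_2 (iv F42351) D23640 (iv D22174)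
theorem F45989 : act 3 n23640 = n22377 := d2_2 (iv F43456) D23640 (iv F43452)
theorem F45990 : act 5 n23640 = n22175 := d4_2 F42352 D23640 F42359
def n23641 : Q := act 4 n22172
theorem D23641 : act 4 n22172 = n23641 := rfl
theorem F45991 : act 1 n23641 = n22178 := d7_1 D23641 (iv D22178) (iv F42353)
theorem F45992 : act 2 n23641 = n22173 := d10_1 D23641 (iv D22173) (iv F42354)
def n23642 : Q := act 1 n22175
theorem D23642 : act 1 n22175 = n23642 := rfl
theorem F45993 : act 0 n23642 = n22706 := d0_1 D23642 (iv F45982) F45981 F42353 (iv F42359)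
theorem F45994 : act 2 n23642 = n22705 := d5_2 D22175 D23642 F43557 (iv D22302) F37823
theorem F45995 : act 3 n23642 = n22714 := d6_2 (iv F42360) D23642 F43570
theorem F45996 : act 5 n23642 = n22709 := d8_2 F45990 D23642 (iv F45987)
def n23643 : Q := act 4 n22175
theorem D23643 : act 4 n22175 = n23643 := rfl
theorem F45997 : act 0 n23643 = n22178 := d3_1 D23643 (iv D22178) (iv F42359)
theorem F45998 : act 2 n23643 = n22176 := d10_1 D23643 (iv D22176) D22175
def n23644 : Q := act 5 n22176
theorem D23644 : act 5 n22176 = n23644 := rfl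
theorem F45999 : act 0 n23644 = n22179 := d4_1 D23644 (iv D22179) (iv F42361)
theorem F46000 : act 3 n23644 = n23327 := d13_1 D23644 F45196 (iv F42362)
def n23645 : Q := act 3 n22177
theorem D23645 : act 3 n22177 = n23645 := rfl
theorem F46001 : act 0 n23645 = n22180 := d2_1 D23645 (iv D22180) (iv F42363)
def n23646 : Q := act 3 n22178
theorem D23646 : act 3 n22178 = n23646 := rfl
theorem F46002 : act 4 n23646 = n23463 := d12_2 D22178 D23646 (iv D23463) F41742 F39522
def n23647 : Q := act 5 n22178
theorem D23647 : act 5 n22178 = n23647 := rfl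
theorem F46003 : act 2 n23647 = n22179 := d11_1 D23647 (iv D22179) (iv F42365)
def n23648 : Q := act 2 n22180
theorem D23648 : act 2 n22180 = n23648 := rfl
def n23649 : Q := act 5 n22183
theorem D23649 : act 5 n22183 = n23649 := rfl
theorem F46004 : act 1 n23649 = n22185 := d8_1 D23649 (iv D22185) (iv F42374)
theorem F46005 : act 2 n23649 = n22190 := d11_1 D23649 (iv D22190) (iv F42375)
def n23650 : Q := act 4 n22185
theorem D23650 : act 4 n22185 = n23650 := rfl
theorem F46006 : act 0 n23650 = n22708 := d3_1 D23650 F43561 (iv F42379)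
theorem F46007 : act 2 n23650 = n22187 := d10_1 D23650 (iv D22187) (iv F42380)
theorem F46008 : act 5 n23650 = n22186 := d14_2 D22185 D23650 (iv D22186) (iv D20110) D20109
def n23651 : Q := act 3 n22186
theorem D23651 : act 3 n22186 = n23651 := rfl
theorem F46009 : act 0 n23651 = n22704 := d2_1 D23651 F43555 (iv F42381)
theorem F46010 : act 4 n23651 = n22697 := d12_2 D22186 D23651 (iv D22697) F39227 (iv F37380)
def n23652 : Q := act 3 n22188
theorem D23652 : act 3 n22188 = n23652 := rfl
theorem F46011 : act 0 n23652 = n22189 := d2_1 D23652 (iv D22189) (iv F42386)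
def n23653 : Q := act 5 n22188
theorem D23653 : act 5 n22188 = n23653 := rfl
theorem F46012 : act 0 n23653 = n22190 := d4_1 D23653 (iv D22190) (iv F42386)
def n23654 : Q := act 3 n22191
theorem D23654 : act 3 n22191 = n23654 := rfl
theorem F46013 : act 1 n23654 = n23449 := d6_1 D23654 (iv D23449) (iv F42389)
theorem F46014 : act 4 n23654 = n23449 := d12_2 D22191 D23654 (iv D23449) F41691 (iv F37394)
def n23655 : Q := act 5 n22191
theorem D23655 : act 5 n22191 = n23655 := rfl
theorem F46015 : act 0 n23655 = n23554 := d4_1 D23655 (iv F45751) F45380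
theorem F46016 : act 1 n23655 = n23450 := d8_1 D23655 (iv D23450) (iv F42389)
theorem F46017 : act 2 n23655 = n22192 := d11_1 D23655 (iv D22192) (iv F42390)
theorem F46018 : act 4 n23655 = n23557 := d14_1 D23655 F45893 (iv D23606) F42236 D22191
def n23656 : Q := act 3 n22193
theorem D23656 : act 3 n22193 = n23656 := rfl
theorem F46019 : act 0 n23656 = n22643 := d2_1 D23656 F43432 (iv F42394)
def n23657 : Q := act 5 n22193
theorem D23657 : act 5 n22193 = n23657 := rfl
theorem F46020 : act 0 n23657 = n23552 := d4_1 D23657 F45743 (iv F42394)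
theorem F46021 : act 1 n23657 = n23557 := d8_1 D23657 F45893 F45891
theorem F46022 : act 2 n23657 = n22194 := d11_1 D23657 (iv D22194) (iv F42395)
theorem F46023 : act 4 n23657 = n23450 := d14_1 D23657 (iv D23450) F41691 (iv F37404) D22193
def n23658 : Q := act 5 n22196
theorem D23658 : act 5 n22196 = n23658 := rfl
theorem F46024 : act 0 n23658 = n23441 := d4_1 D23658 (iv D23441) (iv F42404)
theorem F46025 : act 2 n23658 = n23310 := d11_1 D23658 (iv D23310) (iv F42405)
theorem F46026 : act 4 n23658 = n23453 := d14_1 D23658 (iv D23453) (iv D21897) (iv F37430) D22196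
def n23659 : Q := act 2 n22197
theorem D23659 : act 2 n22197 = n23659 := rfl
theorem F46027 : act 0 n23659 = n23442 := d1_1 D23659 (iv D23442) (iv F42406)
def n23660 : Q := act 5 n22197
theorem D23660 : act 5 n22197 = n23660 := rfl
theorem F46028 : act 0 n23660 = n23443 := d4_1 D23660 (iv D23443) (iv F42406)
theorem F46029 : act 1 n23660 = n22386 := d8_1 D23660 (iv F45028) (iv F45029)
theorem F46030 : act 3 n23660 = n22198 := d13_1 D23660 (iv D22198) D22197
theorem F46031 : act 4 n22397 = n23660 := d12_0 F46030 F42410 F38197 D20456 D22397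
def n23661 : Q := act 3 n22203
theorem D23661 : act 3 n22203 = n23661 := rfl
theorem F46032 : act 1 n23661 = n22204 := d6_1 D23661 (iv D22204) (iv F42421)
def n23662 : Q := act 5 n22203
theorem D23662 : act 5 n22203 = n23662 := rfl
theorem F46033 : act 1 n23662 = n22205 := d8_1 D23662 (iv D22205) (iv F42421)
theorem F46034 : act 2 n23662 = n22207 := d11_1 D23662 (iv D22207) (iv F42422)
theorem F46035 : act 4 n23662 = n22271 := d14_1 D23662 (iv D22271) (iv D20246) (iv F37487) D22203
def n23663 : Q := act 2 n22204
theorem D23663 : act 2 n22204 = n23663 := rfl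
theorem F46036 : act 4 n23663 = n23372 := d10_2 F45206 D23663 F45303
theorem F46037 : act 3 n23663 = n23162 := d15_3 (iv F37488) D22204 D23663 (iv D23162) (iv D21512) (iv F40017) (iv F42420) (iv D22202) F37484
def n23664 : Q := act 5 n22204
theorem D23664 : act 5 n22204 = n23664 := rfl
theorem F46038 : act 3 n23664 = n22205 := d13_1 D23664 (iv D22205) D22204
def n23665 : Q := act 4 n22210
theorem D23665 : act 4 n22210 = n23665 := rfl
theorem F46039 : act 0 n23665 = n22216 := d3_1 D23665 (iv D22216) (iv F42438)
theorem F46040 : act 2 n23665 = n22211 := d10_1 D23665 (iv D22211) (iv F42439)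
def n23666 : Q := act 4 n22213
theorem D23666 : act 4 n22213 = n23666 := rfl
theorem F46041 : act 1 n23666 = n22214 := d7_1 D23666 (iv D22214) (iv F42444)
def n23667 : Q := act 5 n22214
theorem D23667 : act 5 n22214 = n23667 := rfl
def n23668 : Q := act 4 n22215
theorem D23668 : act 4 n22215 = n23668 := rfl
theorem F46042 : act 1 n23668 = n22221 := d7_1 D23668 (iv D22221) (iv F42446)
def n23669 : Q := act 3 n22216
theorem D23669 : act 3 n22216 = n23669 := rfl
theorem F46043 : act 1 n23669 = n22222 := d6_1 D23669 (iv D22222) (iv F42448)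
def n23670 : Q := act 4 n22217
theorem D23670 : act 4 n22217 = n23670 := rfl
theorem F46044 : act 1 n23670 = n22218 := d7_1 D23670 (iv D22218) D22217
def n23671 : Q := act 3 n22218
theorem D23671 : act 3 n22218 = n23671 := rfl
theorem F46045 : act 0 n23671 = n22222 := d2_1 D23671 (iv D22222) (iv F42450)
def n23672 : Q := act 5 n22218
theorem D23672 : act 5 n22218 = n23672 := rfl
theorem F46046 : act 0 n23672 = n22223 := d4_1 D23672 (iv D22223) (iv F42450)
theorem F46047 : act 2 n23672 = n22219 := d11_1 D23672 (iv D22219) (iv F42451)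
def n23673 : Q := act 2 n22220
theorem D23673 : act 2 n22220 = n23673 := rfl
theorem F46048 : act 0 n23673 = n22224 := d1_1 D23673 (iv D22224) (iv F42453)
theorem F46049 : act 1 n23673 = n23624 := d5_1 D23673 F45945 (iv F44894) F44895 F44597
theorem F46050 : act 5 n23673 = n23622 := d11_2 F42698 D23673 F45939
def n23674 : Q := act 3 n22221
theorem D23674 : act 3 n22221 = n23674 := rfl
theorem F46051 : act 4 n23674 = n22222 := d12_2 D22221 D23674 (iv D22222) (iv D20170) D20169
theorem F46052 : act 2 n23674 = n23671 := d15_2 F44630 D23674 (iv D23671) F42451 (iv F37872) (iv F42690) (iv F44642) (iv D23105) (iv F44629)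
def n23675 : Q := act 5 n22221
theorem D23675 : act 5 n22221 = n23675 := rfl
theorem F46053 : act 2 n23675 = n22327 := d11_1 D23675 F44632 F44630
def n23676 : Q := act 2 n22222
theorem D23676 : act 2 n22222 = n23676 := rfl
theorem F46054 : act 0 n23676 = n23674 := d1_1 D23676 F46052 F46045
theorem F46055 : act 4 n23676 = n23671 := d10_2 F46051 D23676 (iv F46052)
theorem F46056 : act 3 n23676 = n23103 := d15_3 (iv F37518) D22222 D23676 F44634 D23104 (iv F44638) F42693 (iv D22219) F37516
def n23677 : Q := act 5 n22222
theorem D23677 : act 5 n22222 = n23677 := rfl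
theorem F46057 : act 3 n23677 = n22223 := d13_1 D23677 (iv D22223) D22222
def n23678 : Q := act 3 n22224
theorem D23678 : act 3 n22224 = n23678 := rfl
def n23679 : Q := act 3 n22225
theorem D23679 : act 3 n22225 = n23679 := rfl
theorem F46058 : act 1 n23679 = n22226 := d6_1 D23679 (iv D22226) (iv F42455)
def n23680 : Q := act 5 n22225
theorem D23680 : act 5 n22225 = n23680 := rfl
theorem F46059 : act 1 n23680 = n22227 := d8_1 D23680 (iv D22227) (iv F42455)
def n23681 : Q := act 5 n22226
theorem D23681 : act 5 n22226 = n23681 := rfl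
theorem F46060 : act 0 n23681 = n22238 := d4_1 D23681 (iv D22238) (iv F42456)
theorem F46061 : act 2 n23681 = n22245 := d11_1 D23681 F42492 (iv F42457)
theorem F46062 : act 3 n23681 = n22227 := d13_1 D23681 (iv D22227) D22226
def n23682 : Q := act 4 n22227
theorem D23682 : act 4 n22227 = n23682 := rfl
theorem F46063 : act 0 n23682 = n22239 := d3_1 D23682 (iv D22239) (iv F42458)
theorem F46064 : act 2 n23682 = n22229 := d10_1 D23682 (iv D22229) (iv F42459)
theorem F46065 : act 5 n23682 = n22228 := d14_2 D22227 D23682 (iv D22228) (iv D20175) D20174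
def n23683 : Q := act 3 n22228
theorem D23683 : act 3 n22228 = n23683 := rfl
theorem F46066 : act 0 n23683 = n22240 := d2_1 D23683 (iv D22240) (iv F42460)
theorem F46067 : act 4 n23683 = n22566 := d12_2 D22228 D23683 F43241 (iv D22200) (iv F37525)
theorem F46068 : act 2 n23683 = n22564 := d15_2 (iv F42461) D23683 (iv D22564) F38824 (iv F39106) F39105 (iv F37540) F37541 (iv F37528)
def n23684 : Q := act 3 n22230
theorem D23684 : act 3 n22230 = n23684 := rfl
theorem F46069 : act 0 n23684 = n22232 := d2_1 D23684 (iv D22232) (iv F42465)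
theorem F46070 : act 2 n23684 = n23651 := d15_2 (iv F42466) D23684 (iv D23651) F42382 (iv F40887) (iv F41279) F41280 (iv D20189) (iv F37542)
def n23685 : Q := act 5 n22230
theorem D23685 : act 5 n22230 = n23685 := rfl
theorem F46071 : act 0 n23685 = n22233 := d4_1 D23685 (iv D22233) (iv F42465)
theorem F46072 : act 2 n23685 = n22242 := d11_1 D23685 (iv D22242) (iv F42466)
def n23686 : Q := act 5 n22232
theorem D23686 : act 5 n22232 = n23686 := rfl
theorem F46073 : act 1 n23686 = n22238 := d8_1 D23686 (iv D22238) (iv F42468)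
theorem F46074 : act 3 n23686 = n22233 := d13_1 D23686 (iv D22233) D22232
def n23687 : Q := act 5 n22234
theorem D23687 : act 5 n22234 = n23687 := rfl
theorem F46075 : act 0 n23687 = n23458 := d4_1 D23687 F45520 F42723
theorem F46076 : act 2 n23687 = n22540 := d11_1 D23687 (iv D22540) (iv F42472)
theorem F46077 : act 3 n23687 = n22235 := d13_1 D23687 (iv D22235) D22234
def n23688 : Q := act 3 n22236
theorem D23688 : act 3 n22236 = n23688 := rfl
theorem F46078 : act 0 n23688 = n22566 := d2_1 D23688 F43241 (iv F42475)
theorem F46079 : act 1 n23688 = n23521 := d6_1 D23688 F45663 F44574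
theorem F46080 : act 4 n23688 = n22240 := d12_2 D22236 D23688 (iv D22240) (iv D20185) (iv F37536)
theorem F46081 : act 5 n23688 = n22573 := d13_2 (iv F42477) D23688 (iv D22573)
theorem F46082 : act 2 n23688 = n22559 := d15_2 (iv F42476) D23688 (iv D22559) F38792 F32848 (iv F32891) D20719 F38845 (iv F38850)
def n23689 : Q := act 1 n22237
theorem D23689 : act 1 n22237 = n23689 := rfl
theorem F46083 : act 3 n23689 = n22537 := d6_2 (iv F42480) D23689 F43146
theorem F46084 : act 4 n23689 = n22538 := d7_2 (iv F42479) D23689 F43149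
theorem F46085 : act 0 n23398 = n23689 := d3_3 F46084 F43148 D23398
def n23690 : Q := act 4 n22238
theorem D23690 : act 4 n22238 = n23690 := rfl
def n23691 : Q := act 3 n22239
theorem D23691 : act 3 n22239 = n23691 := rfl
theorem F46086 : act 2 n23691 = n22838 := d9_1 D23691 F43881 F39681 (iv F39516) (iv F39701) F39702 (iv F42461) D23683 F46068 (iv D22564) F38824 (iv F39106) F39105 (iv F37540) (iv F42482)
theorem F46087 : act 5 n23691 = n22240 := d13_2 (iv F42483) D23691 (iv D22240)
def n23692 : Q := act 0 n22244
theorem D23692 : act 0 n22244 = n23692 := rfl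
theorem F46088 : act 2 n23692 = n22662 := d1_2 (iv F42489) D23692 F43472
theorem F46089 : act 4 n23692 = n23190 := d3_2 (iv F42490) D23692 F44860
theorem F46090 : act 5 n23692 = n22659 := d4_2 (iv F42491) D23692 F43467
def n23693 : Q := act 3 n22244
theorem D23693 : act 3 n22244 = n23693 := rfl
theorem F46091 : act 1 n23693 = n22245 := d6_1 D23693 (iv D22245) D22244
theorem F46092 : act 4 n23693 = n23194 := d12_2 (iv F42490) D23693 (iv D23194) (iv D21561) D21560
theorem F46093 : act 5 n23693 = n22660 := d13_2 (iv F42491) D23693 (iv D22660)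
def n23694 : Q := act 2 n22249
theorem D23694 : act 2 n22249 = n23694 := rfl
theorem F46094 : act 0 n23694 = n22250 := d1_1 D23694 (iv D22250) (iv F42501)
theorem F46095 : act 1 n23694 = n22250 := d5_1 D23694 (iv D22250) F37566 D20200 (iv F42502)
theorem F46096 : act 4 n23694 = n22250 := d10_2 (iv F42503) D23694 (iv D22250)
theorem F46097 : act 5 n23694 = n22250 := d11_2 (iv F42504) D23694 (iv D22250)
def n23695 : Q := act 3 n22250
theorem D23695 : act 3 n22250 = n23695 := rfl
theorem F46098 : act 2 n23695 = n22252 := d15_2 D22250 D23695 (iv D22252) (iv D20202) (iv D17496) (iv F31302) D20199 (iv F42504) F42501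
def n23696 : Q := act 3 n22251
theorem D23696 : act 3 n22251 = n23696 := rfl
theorem F46099 : act 0 n23696 = n22933 := d2_1 D23696 (iv D22933) (iv F42505)
theorem F46100 : act 1 n23696 = n22252 := d6_1 D23696 (iv D22252) D22251
theorem F46101 : act 2 n23696 = n22254 := d9_1 D23696 (iv D22254) (iv D20209) (iv D17506) (iv F31338) (iv F31340) (iv F34299) D21187 (iv F44086) (iv D22933) F39933 (iv F37586) F37585 (iv F37576) (iv F42506)
theorem F46102 : act 4 n23696 = n22932 := d12_2 (iv F42507) D23696 F44929 (iv D23220) F40996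
theorem F46103 : act 5 n23696 = n22254 := d13_2 (iv F42508) D23696 (iv D22254)
def n23697 : Q := act 5 n22253
theorem D23697 : act 5 n22253 = n23697 := rfl
theorem F46104 : act 0 n23697 = n22715 := d4_1 D23697 F43572 F43145
theorem F46105 : act 1 n23697 = n23692 := d8_1 D23697 F46090 F43468
theorem F46106 : act 2 n23697 = n23597 := d11_1 D23697 (iv D23597) (iv F42509)
theorem F46107 : act 4 n23697 = n22713 := d14_1 D23697 F45846 (iv D23588) F42168 D22253
def n23698 : Q := act 3 n22255
theorem D23698 : act 3 n22255 = n23698 := rfl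
theorem F46108 : act 0 n23698 = n22256 := d2_1 D23698 (iv D22256) (iv F42512)
theorem F46109 : act 2 n23698 = n23294 := d9_1 D23698 F45109 F41210 F35910 (iv F31369) (iv F36260) (iv F41439) D23368 F45295 (iv D23287) (iv D21696) (iv D19478) (iv F31371) D20212 D22255
theorem F46110 : act 5 n23698 = n23292 := d13_2 F45290 D23698 F45291
def n23699 : Q := act 4 n22256
theorem D23699 : act 4 n22256 = n23699 := rfl
theorem F46111 : act 1 n23699 = n23663 := d7_1 D23699 F46036 F45302
theorem F46112 : act 2 n23699 = n23454 := d10_1 D23699 F45513 F42673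
def n23700 : Q := act 3 n22257
theorem D23700 : act 3 n22257 = n23700 := rfl
theorem F46113 : act 1 n23700 = n22925 := d6_1 D23700 (iv F45316) F45306
theorem F46114 : act 2 n23700 = n22921 := d15_2 (iv F42513) D23700 F44060 F41727 (iv D21907) (iv F39477) (iv F42800) F42801 F39124
theorem F46115 : act 5 n22920 = n23700 := d11_0 F46114 (iv D22921) D22920
def n23701 : Q := act 5 n22257
theorem D23701 : act 5 n22257 = n23701 := rfl
theorem F46116 : act 2 n23701 = n22258 := d11_1 D23701 (iv D22258) (iv F42513)
theorem F46117 : act 3 n23701 = n22920 := d13_1 D23701 F46115 (iv D23700)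
theorem F46118 : act 4 n23701 = n23580 := d14_1 D23701 F45818 (iv D23369) (iv F41440) D22257
def n23702 : Q := act 1 n22263
theorem D23702 : act 1 n22263 = n23702 := rfl
theorem F46119 : act 2 n23702 = n22418 := d5_2 D22263 D23702 F42897 (iv F42526) F42525
theorem F46120 : act 3 n23702 = n23575 := d6_2 (iv F42534) D23702 (iv D23575)
theorem F46121 : act 4 n23702 = n22417 := d7_2 F44514 D23702 (iv F44511)
theorem F46122 : act 5 n23702 = n23394 := d8_2 (iv F42535) D23702 F45360
def n23703 : Q := act 3 n22267
theorem D23703 : act 3 n22267 = n23703 := rfl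
theorem F46123 : act 0 n23703 = n22270 := d2_1 D23703 (iv D22270) (iv F42544)
theorem F46124 : act 4 n23703 = n22303 := d12_2 D22267 D23703 (iv D22303) (iv D20298) (iv F37685)
def n23704 : Q := act 5 n22267
theorem D23704 : act 5 n22267 = n23704 := rfl
theorem F46125 : act 0 n23704 = n22271 := d4_1 D23704 (iv D22271) (iv F42544)
theorem F46126 : act 2 n23704 = n22268 := d11_1 D23704 (iv D22268) (iv F42545)
def n23705 : Q := act 3 n22269
theorem D23705 : act 3 n22269 = n23705 := rfl
theorem F46127 : act 0 n23705 = n22303 := d2_1 D23705 (iv D22303) (iv F42549)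
theorem F46128 : act 4 n23705 = n22270 := d12_2 D22269 D23705 (iv D22270) (iv D20246) D20245
def n23706 : Q := act 5 n22269
theorem D23706 : act 5 n22269 = n23706 := rfl
theorem F46129 : act 0 n23706 = n22304 := d4_1 D23706 (iv D22304) (iv F42549)
theorem F46130 : act 2 n23706 = n22301 := d11_1 D23706 (iv D22301) (iv F42550)
def n23707 : Q := act 2 n22270
theorem D23707 : act 2 n22270 = n23707 := rfl
def n23708 : Q := act 5 n22270
theorem D23708 : act 5 n22270 = n23708 := rfl
theorem F46131 : act 3 n23708 = n22271 := d13_1 D23708 (iv D22271) D22270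
def n23709 : Q := act 5 n22272
theorem D23709 : act 5 n22272 = n23709 := rfl
theorem F46132 : act 0 n23709 = n22274 := d4_1 D23709 (iv D22274) (iv F42552)
theorem F46133 : act 1 n23709 = n23658 := d8_1 D23709 (iv D23658) (iv F42553)
theorem F46134 : act 2 n23709 = n22277 := d11_1 D23709 (iv D22277) (iv F42554)
theorem F46135 : act 3 n23709 = n23262 := d13_1 D23709 F45031 F42555
theorem F46136 : act 4 n23709 = n22948 := d14_1 D23709 F44153 F40087 (iv F37707) D22272
def n23710 : Q := act 5 n22273
theorem D23710 : act 5 n22273 = n23710 := rfl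
theorem F46137 : act 0 n23710 = n23262 := d4_1 D23710 F45031 (iv F42556)
theorem F46138 : act 1 n23710 = n22276 := d8_1 D23710 (iv D22276) (iv F42557)
theorem F46139 : act 2 n23710 = n22858 := d11_1 D23710 F43947 (iv F42559)
theorem F46140 : act 3 n23710 = n22274 := d13_1 D23710 (iv D22274) D22273
def n23711 : Q := act 1 n22275
theorem D23711 : act 1 n22275 = n23711 := rfl
theorem F46141 : act 2 n23711 = n23259 := d5_2 D22275 D23711 F45019 (iv F42559) F42557
theorem F46142 : act 4 n23711 = n23268 := d7_2 F45480 D23711 (iv F45478)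
def n23712 : Q := act 3 n22275
theorem D23712 : act 3 n22275 = n23712 := rfl
theorem F46143 : act 0 n23712 = n22900 := d2_1 D23712 (iv F45491) F45489
theorem F46144 : act 2 n23712 = n22769 := d9_1 D23712 F43683 F39366 (iv F37703) (iv F41685) (iv F45495) F45494 (iv D23255) (iv D21652) (iv D19389) F29442 (iv F25007) (iv F31499) D20253 D22275
theorem F46145 : act 4 n23712 = n22584 := d12_2 F45480 D23712 (iv D22584) (iv F43289) (iv F45479)
theorem F46146 : act 5 n23712 = n22768 := d15_8 (iv D21652) (iv D19389) F29442 (iv F25007) (iv F31499) D20253 D22275 D23712 F43680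
def n23713 : Q := act 5 n22275
theorem D23713 : act 5 n22275 = n23713 := rfl
theorem F46147 : act 0 n23713 = n23255 := d4_1 D23713 F45492 F45489
theorem F46148 : act 2 n23713 = n22276 := d11_1 D23713 (iv D22276) D22275
theorem F46149 : act 3 n23713 = n22768 := d13_1 D23713 (iv F46146) (iv D23712)
theorem F46150 : act 4 n23488 = n23713 := d12_0 F46149 F43681 F39373 (iv F41838) D23488
def n23714 : Q := act 4 n22276
theorem D23714 : act 4 n22276 = n23714 := rfl
theorem F46151 : act 2 n23714 = n23488 := d10_1 D23714 F46150 F46148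
theorem F46152 : act 3 n23714 = n22834 := d12_1 D23714 F43869 F42846 F41703 (iv F42563)
theorem F46153 : act 5 n23714 = n22833 := d14_2 D22276 D23714 F43867 (iv F41676) F41675
def n23715 : Q := act 5 n22281
theorem D23715 : act 5 n22281 = n23715 := rfl
theorem F46154 : act 0 n23715 = n22284 := d4_1 D23715 (iv D22284) (iv F42577)
theorem F46155 : act 1 n23715 = n23543 := d8_1 D23715 F45720 (iv F42578)
theorem F46156 : act 2 n23715 = n22282 := d11_1 D23715 (iv D22282) (iv F42579)
theorem F46157 : act 3 n23715 = n23649 := d13_1 D23715 (iv D23649) (iv F42580)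
def n23716 : Q := act 5 n22283
theorem D23716 : act 5 n22283 = n23716 := rfl
theorem F46158 : act 0 n23716 = n23649 := d4_1 D23716 (iv D23649) (iv F42584)
theorem F46159 : act 2 n23716 = n23653 := d11_1 D23716 (iv D23653) F42586
theorem F46160 : act 3 n23716 = n22284 := d13_1 D23716 (iv D22284) D22283
def n23717 : Q := act 3 n22286
theorem D23717 : act 3 n22286 = n23717 := rfl
theorem F46161 : act 0 n23717 = n22298 := d2_1 D23717 (iv D22298) (iv F42592)
theorem F46162 : act 1 n23717 = n22288 := d6_1 D23717 (iv D22288) (iv F42593)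
theorem F46163 : act 4 n23717 = n22315 := d12_2 D22286 D23717 (iv D22315) (iv D20315) F37753
theorem F46164 : act 5 n23717 = n23645 := d13_2 (iv F42595) D23717 (iv D23645)
def n23718 : Q := act 3 n22287
theorem D23718 : act 3 n22287 = n23718 := rfl
theorem F46165 : act 0 n23718 = n22291 := d2_1 D23718 (iv D22291) (iv F42596)
theorem F46166 : act 1 n23718 = n22315 := d6_1 D23718 (iv D22315) (iv F42597)
theorem F46167 : act 4 n23718 = n22288 := d12_2 D22287 D23718 (iv D22288) (iv D20272) D20271
def n23719 : Q := act 5 n22287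
theorem D23719 : act 5 n22287 = n23719 := rfl
theorem F46168 : act 0 n23719 = n22292 := d4_1 D23719 (iv D22292) (iv F42596)
theorem F46169 : act 1 n23719 = n22316 := d8_1 D23719 (iv D22316) (iv F42597)
theorem F46170 : act 4 n23719 = n22301 := d14_1 D23719 (iv D22301) (iv D20295) (iv F37756) D22287
def n23720 : Q := act 2 n22288
theorem D23720 : act 2 n22288 = n23720 := rfl
theorem F46171 : act 0 n23720 = n22293 := d1_1 D23720 (iv D22293) (iv F42598)
theorem F46172 : act 3 n23720 = n23653 := d9_2 D22288 D23720 (iv F46159) F46160 F42587 F37746 (iv F37772) (iv F42614) F42613 (iv D22189) (iv F42375) (iv F42580) F42579 F37739 (iv F37758)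
theorem F46173 : act 5 n23652 = n23720 := d13_0 F46172 (iv D23653) D23652
def n23721 : Q := act 5 n22288
theorem D23721 : act 5 n22288 = n23721 := rfl
theorem F46174 : act 0 n23721 = n22294 := d4_1 D23721 (iv D22294) (iv F42598)
theorem F46175 : act 1 n23721 = n23645 := d8_1 D23721 (iv F46164) F46162
theorem F46176 : act 2 n23721 = n23652 := d11_1 D23721 F46173 (iv D23720)
theorem F46177 : act 3 n23721 = n22289 := d13_1 D23721 (iv D22289) D22288
theorem F46178 : act 4 n23652 = n23721 := d12_0 F46177 F42602 F37828 D22188 D23652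
def n23722 : Q := act 3 n22290
theorem D23722 : act 3 n22290 = n23722 := rfl
theorem F46179 : act 1 n23722 = n22314 := d6_1 D23722 (iv D22314) (iv F42603)
def n23723 : Q := act 2 n22291
theorem D23723 : act 2 n22291 = n23723 := rfl
theorem F46180 : act 1 n23723 = n22307 := d5_1 D23723 F42649 F42656 (iv D22308) (iv F42605)
theorem F46181 : act 4 n23723 = n22293 := d10_2 (iv F42606) D23723 (iv D22293)
theorem F46182 : act 3 n22292 = n23723 := d12_5 F46181 F42610 (iv F42647) F42646 (iv F42608)
theorem F46183 : act 5 n22291 = n23723 := d14_0 F46181 (iv F42611) F42615 (iv D22294) (iv F42606)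
def n23724 : Q := act 2 n22298
theorem D23724 : act 2 n22298 = n23724 := rfl
theorem F46184 : act 4 n23724 = n22317 := d10_2 (iv F42630) D23724 (iv D22317)
theorem F46185 : act 5 n23724 = n23648 := d11_2 (iv F42631) D23724 (iv D23648)
def n23725 : Q := act 1 n22299
theorem D23725 : act 1 n22299 = n23725 := rfl
theorem F46186 : act 0 n23725 = n22817 := d0_1 D23725 F43822 F42297 F37848 (iv F42632)
theorem F46187 : act 3 n23725 = n22815 := d6_2 (iv F42635) D23725 F43818
theorem F46188 : act 4 n23725 = n22319 := d7_2 (iv F42633) D23725 (iv D22319)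
theorem F46189 : act 5 n23725 = n23613 := d8_2 (iv F42634) D23725 F45911
def n23726 : Q := act 2 n22300
theorem D23726 : act 2 n22300 = n23726 := rfl
theorem F46190 : act 0 n23726 = n22305 := d1_1 D23726 (iv D22305) (iv F42636)
theorem F46191 : act 4 n23726 = n22302 := d10_2 (iv F42638) D23726 (iv D22302)
def n23727 : Q := act 5 n22300
theorem D23727 : act 5 n22300 = n23727 := rfl
theorem F46192 : act 0 n23727 = n22306 := d4_1 D23727 (iv D22306) (iv F42636)
theorem F46193 : act 1 n23727 = n23644 := d8_1 D23727 (iv D23644) (iv F42637)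
theorem F46194 : act 3 n23727 = n22301 := d13_1 D23727 (iv D22301) D22300
theorem F46195 : act 4 n23727 = n23653 := d14_1 D23727 (iv D23653) (iv D22188) F37824 (iv F42638)
def n23728 : Q := act 2 n22303
theorem D23728 : act 2 n22303 = n23728 := rfl
def n23729 : Q := act 5 n22303
theorem D23729 : act 5 n22303 = n23729 := rfl
theorem F46196 : act 3 n23729 = n22304 := d13_1 D23729 (iv D22304) D22303
def n23730 : Q := act 3 n22305
theorem D23730 : act 3 n22305 = n23730 := rfl
theorem F46197 : act 1 n23730 = n23651 := d6_1 D23730 (iv D23651) (iv F42643)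
def n23731 : Q := act 5 n22305
theorem D23731 : act 5 n22305 = n23731 := rfl
theorem F46198 : act 1 n23731 = n23650 := d8_1 D23731 F46008 (iv F42643)
theorem F46199 : act 2 n23731 = n22306 := d11_1 D23731 (iv D22306) D22305
theorem F46200 : act 4 n23731 = n23649 := d14_1 D23731 (iv D23649) (iv D22183) (iv F37834) (iv F42644)
def n23732 : Q := act 4 n22310
theorem D23732 : act 4 n22310 = n23732 := rfl
theorem F46201 : act 0 n23732 = n22313 := d3_1 D23732 (iv D22313) (iv F42662)
theorem F46202 : act 1 n23732 = n22884 := d7_1 D23732 F44003 (iv F42663)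
theorem F46203 : act 2 n23732 = n22311 := d10_1 D23732 (iv D22311) (iv F42664)
theorem F46204 : act 5 n23732 = n22791 := d14_2 D22310 D23732 (iv D22791) F39456 (iv F37851)
def n23733 : Q := act 4 n22312
theorem D23733 : act 4 n22312 = n23733 := rfl
theorem F46205 : act 0 n23733 = n23251 := d3_1 D23733 F45007 (iv F42669)
theorem F46206 : act 1 n23733 = n23267 := d7_1 D23733 F45045 (iv F42789)
theorem F46207 : act 5 n23733 = n23246 := d14_2 D22312 D23733 (iv D23246) F41079 (iv F37857)
def n23734 : Q := act 3 n22313
theorem D23734 : act 3 n22313 = n23734 := rfl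
theorem F46208 : act 1 n23734 = n22830 := d6_1 D23734 (iv D22830) (iv F42671)
def n23735 : Q := act 2 n22315
theorem D23735 : act 2 n22315 = n23735 := rfl
theorem F46209 : act 0 n23735 = n22317 := d1_1 D23735 (iv D22317) (iv F42674)
def n23736 : Q := act 5 n22315
theorem D23736 : act 5 n22315 = n23736 := rfl
theorem F46210 : act 0 n23736 = n22318 := d4_1 D23736 (iv D22318) (iv F42674)
theorem F46211 : act 3 n23736 = n22316 := d13_1 D23736 (iv D22316) D22315
def n23737 : Q := act 1 n22317
theorem D23737 : act 1 n22317 = n23737 := rfl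
theorem F46212 : act 2 n23737 = n22319 := d5_2 D22317 D23737 (iv D22319) (iv D20318) (iv F37862)
theorem F46213 : act 0 n22819 = n23737 := d1_3 F46212 F42678 D22819
theorem F46214 : act 5 n22819 = n23737 := d11_0 F46212 F42680 D22819
def n23738 : Q := act 3 n22317
theorem D23738 : act 3 n22317 = n23738 := rfl
def n23739 : Q := act 5 n22317
theorem D23739 : act 5 n22317 = n23739 := rfl
theorem F46215 : act 1 n23739 = n22819 := d8_1 D23739 F46214 (iv D23737)
theorem F46216 : act 2 n23739 = n22318 := d11_1 D23739 (iv D22318) D22317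
def n23740 : Q := act 4 n22318
theorem D23740 : act 4 n22318 = n23740 := rfl
theorem F46217 : act 1 n23740 = n22320 := d7_1 D23740 (iv D22320) (iv F42676)
theorem F46218 : act 3 n23740 = n23634 := d12_1 D23740 F45972 F42367 F41291 (iv F42677)
theorem F46219 : act 5 n23740 = n23637 := d14_2 D22318 D23740 F45980 (iv F42631) F42630
def n23741 : Q := act 4 n22321
theorem D23741 : act 4 n22321 = n23741 := rfl
theorem F46220 : act 0 n23741 = n22326 := d3_1 D23741 (iv D22326) (iv F42685)
theorem F46221 : act 1 n23741 = n23117 := d7_1 D23741 (iv D23117) (iv F42686)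
theorem F46222 : act 2 n23741 = n23666 := d10_1 D23741 (iv D23666) (iv F42687)
def n23742 : Q := act 4 n22325
theorem D23742 : act 4 n22325 = n23742 := rfl
theorem F46223 : act 0 n23742 = n23666 := d3_1 D23742 (iv D23666) (iv F42699)
theorem F46224 : act 1 n23742 = n23115 := d7_1 D23742 (iv D23115) (iv F42700)
theorem F46225 : act 2 n23742 = n22326 := d10_1 D23742 (iv D22326) D22325
def n23743 : Q := act 3 n22326
theorem D23743 : act 3 n22326 = n23743 := rfl
theorem F46226 : act 1 n23743 = n23108 := d6_1 D23743 (iv D23108) (iv F42703)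
theorem F46227 : act 4 n23743 = n22327 := d12_2 D22326 D23743 (iv D22327) (iv D20324) D20323
theorem F46228 : act 5 n23741 = n23743 := d14_0 F46227 F44632 (iv D23102) (iv F42688) D23741
def n23744 : Q := act 5 n22326
theorem D23744 : act 5 n22326 = n23744 := rfl
theorem F46229 : act 0 n23744 = n23743 := d4_1 D23744 (iv F46228) F46220
theorem F46230 : act 1 n23744 = n23107 := d8_1 D23744 F44650 (iv F42703)
theorem F46231 : act 3 n23744 = n23741 := d13_1 D23744 F46228 (iv D23743)
theorem F46232 : act 4 n23744 = n23105 := d14_1 D23744 (iv D23105) (iv D21430) (iv F37878) D22326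
def n23745 : Q := act 3 n22329
theorem D23745 : act 3 n22329 = n23745 := rfl
theorem F46233 : act 1 n23745 = n23628 := d6_1 D23745 F45958 F45948
theorem F46234 : act 4 n23745 = n23745 := d12_2 (iv F42708) D23745 (iv D23745) F42708 F40568
theorem F46235 : act 5 n23745 = n23678 := d13_2 (iv F42709) D23745 (iv D23678)
def n23746 : Q := act 4 n22330
theorem D23746 : act 4 n22330 = n23746 := rfl
theorem F46236 : act 0 n23746 = n22332 := d3_1 D23746 (iv D22332) (iv F42710)
theorem F46237 : act 1 n23746 = n23004 := d7_1 D23746 (iv D23004) (iv F42711)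
theorem F46238 : act 2 n23746 = n23668 := d10_1 D23746 (iv D23668) (iv F42712)
def n23747 : Q := act 4 n22331
theorem D23747 : act 4 n22331 = n23747 := rfl
theorem F46239 : act 0 n23747 = n23668 := d3_1 D23747 (iv D23668) (iv F42714)
theorem F46240 : act 1 n23747 = n23001 := d7_1 D23747 (iv D23001) (iv F42715)
theorem F46241 : act 2 n23747 = n22332 := d10_1 D23747 (iv D22332) D22331
def n23748 : Q := act 3 n22332
theorem D23748 : act 3 n22332 = n23748 := rfl
theorem F46242 : act 1 n23748 = n22993 := d6_1 D23748 (iv D22993) (iv F42718)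
theorem F46243 : act 4 n23748 = n22333 := d12_2 D22332 D23748 (iv D22333) (iv D20331) D20330
def n23749 : Q := act 5 n22332
theorem D23749 : act 5 n22332 = n23749 := rfl
theorem F46244 : act 1 n23749 = n22992 := d8_1 D23749 F44282 (iv F42718)
theorem F46245 : act 4 n23749 = n22989 := d14_1 D23749 (iv D22989) (iv D21271) (iv F37897) D22332
def n23750 : Q := act 2 n22333
theorem D23750 : act 2 n22333 = n23750 := rfl
def n23751 : Q := act 3 n22334
theorem D23751 : act 3 n22334 = n23751 := rfl
theorem F46246 : act 0 n23751 = n23094 := d2_1 D23751 (iv D23094) (iv F42720)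
theorem F46247 : act 1 n23751 = n22335 := d6_1 D23751 (iv D22335) (iv F42721)
theorem F46248 : act 4 n23751 = n23679 := d12_2 D22334 D23751 (iv D23679) (iv D22225) (iv F37932)
def n23752 : Q := act 5 n22334
theorem D23752 : act 5 n22334 = n23752 := rfl
theorem F46249 : act 0 n23752 = n22701 := d4_1 D23752 F43550 (iv F42720)
theorem F46250 : act 1 n23752 = n22336 := d8_1 D23752 (iv D22336) (iv F42721)
theorem F46251 : act 2 n23752 = n22337 := d11_1 D23752 (iv D22337) (iv F42722)
theorem F46252 : act 4 n23752 = n23187 := d14_1 D23752 (iv D23187) (iv D21551) (iv F37933) D22334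
def n23753 : Q := act 4 n22342
theorem D23753 : act 4 n22342 = n23753 := rfl
theorem F46253 : act 0 n23753 = n22367 := d3_1 D23753 (iv D22367) (iv F42742)
theorem F46254 : act 1 n23753 = n22343 := d7_1 D23753 (iv D22343) (iv F42743)
theorem F46255 : act 2 n23753 = n22352 := d10_1 D23753 (iv D22352) (iv F42744)
def n23754 : Q := act 3 n22343
theorem D23754 : act 3 n22343 = n23754 := rfl
theorem F46256 : act 0 n23754 = n22347 := d2_1 D23754 (iv D22347) (iv F42745)
def n23755 : Q := act 3 n22346
theorem D23755 : act 3 n22346 = n23755 := rfl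
theorem F46257 : act 1 n23755 = n22374 := d6_1 D23755 F42814 (iv F42755)
theorem F46258 : act 5 n23755 = n22347 := d13_2 (iv F42757) D23755 (iv D22347)
def n23756 : Q := act 2 n22347
theorem D23756 : act 2 n22347 = n23756 := rfl
def n23757 : Q := act 3 n22348
theorem D23757 : act 3 n22348 = n23757 := rfl
theorem F46259 : act 0 n23757 = n22918 := d2_1 D23757 (iv D22918) (iv F42759)
theorem F46260 : act 1 n23757 = n22486 := d6_1 D23757 (iv D22486) (iv F42760)
theorem F46261 : act 4 n23757 = n22931 := d12_2 (iv F42761) D23757 (iv D22931) (iv D21182) (iv F37996)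
theorem F46262 : act 5 n23757 = n22383 := d13_2 (iv F42762) D23757 (iv D22383)
theorem F46263 : act 2 n23690 = n23757 := d10_3 F46261 F44082 D23690
def n23758 : Q := act 4 n22350
theorem D23758 : act 4 n22350 = n23758 := rfl
theorem F46264 : act 0 n23758 = n22351 := d3_1 D23758 (iv D22351) (iv F42767)
theorem F46265 : act 1 n23758 = n22357 := d7_1 D23758 (iv D22357) (iv F42768)
def n23759 : Q := act 4 n22353
theorem D23759 : act 4 n22353 = n23759 := rfl
theorem F46266 : act 0 n23759 = n22356 := d3_1 D23759 (iv D22356) (iv F42773)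
theorem F46267 : act 3 n23759 = n22357 := d12_1 D23759 (iv D22357) (iv D20381) (iv F38024) D22353
def n23760 : Q := act 3 n22355
theorem D23760 : act 3 n22355 = n23760 := rfl
theorem F46268 : act 0 n23760 = n22417 := d2_1 D23760 (iv F44509) F44506
theorem F46269 : act 2 n23760 = n22416 := d9_1 D23760 (iv D22416) F38284 (iv F38051) (iv F42775) (iv F44457) F44456 D23060 F44504 (iv D22359) (iv D20388) (iv D17738) (iv F31844) D20377 D22355
def n23761 : Q := act 4 n22355
theorem D23761 : act 4 n22355 = n23761 := rfl
theorem F46270 : act 2 n23761 = n22356 := d10_1 D23761 (iv D22356) D22355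
def n23762 : Q := act 2 n22363
theorem D23762 : act 2 n22363 = n23762 := rfl
theorem F46271 : act 0 n23762 = n22364 := d1_1 D23762 (iv D22364) (iv F42796)
theorem F46272 : act 5 n23762 = n22544 := d11_2 (iv F42797) D23762 (iv D22544)
theorem F46273 : act 3 n23762 = n22455 := d15_1 D23762 (iv D22455) (iv D20531) F32237 F25764 (iv F26402) D18160 (iv F38080) (iv F42796)
def n23763 : Q := act 1 n22364
theorem D23763 : act 1 n22364 = n23763 := rfl
theorem F46274 : act 2 n23763 = n22365 := d5_2 D22364 D23763 (iv D22365) (iv D20399) (iv F38079)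
theorem F46275 : act 5 n23763 = n22547 := d8_2 (iv F42798) D23763 (iv D22547)
theorem F46276 : act 0 n23701 = n23763 := d4_3 F46275 (iv F43177) D23701
def n23764 : Q := act 3 n22364
theorem D23764 : act 3 n22364 = n23764 := rfl
theorem F46277 : act 0 n23764 = n22455 := d2_1 D23764 (iv F46273) F46271
theorem F46278 : act 5 n23764 = n22548 := d13_2 (iv F42798) D23764 (iv D22548)
theorem F46279 : act 2 n23764 = n22449 := d15_2 D22364 D23764 (iv D22449) F38368 F32260 (iv F32786) D20685 (iv F42797) F42796
def n23765 : Q := act 4 n22366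
theorem D23765 : act 4 n22366 = n23765 := rfl
theorem F46280 : act 1 n23765 = n22368 := d7_1 D23765 (iv D22368) (iv F42802)
theorem F46281 : act 5 n23765 = n22463 := d14_2 (iv F45584) D23765 (iv D22463) (iv F41815) D23486
def n23766 : Q := act 3 n22367
theorem D23766 : act 3 n22367 = n23766 := rfl
theorem F46282 : act 1 n23766 = n22369 := d6_1 D23766 (iv D22369) (iv F42803)
def n23767 : Q := act 5 n22367
theorem D23767 : act 5 n22367 = n23767 := rfl
theorem F46283 : act 1 n23767 = n22370 := d8_1 D23767 (iv D22370) (iv F42803)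
theorem F46284 : act 2 n23767 = n22484 := d11_1 D23767 F43025 (iv F42804)
theorem F46285 : act 4 n23767 = n22460 := d14_1 D23767 (iv F44889) F44888 (iv F42739) D22367
def n23768 : Q := act 3 n22368
theorem D23768 : act 3 n22368 = n23768 := rfl
theorem F46286 : act 0 n23768 = n22372 := d2_1 D23768 (iv D22372) (iv F42805)
theorem F46287 : act 4 n23768 = n22369 := d12_2 D22368 D23768 (iv D22369) (iv D20402) D20401
def n23769 : Q := act 3 n22371
theorem D23769 : act 3 n22371 = n23769 := rfl
theorem F46288 : act 0 n23769 = n22375 := d2_1 D23769 (iv D22375) (iv F42810)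
theorem F46289 : act 2 n23769 = n22548 := d9_1 D23769 (iv D22548) (iv D20688) (iv D18160) F26402 (iv F25764) (iv F32237) D20531 D22455 (iv F46273) (iv D23762) (iv D22363) F38077 D20404 D22371
theorem F46290 : act 5 n23769 = n22449 := d13_2 (iv F42812) D23769 (iv D22449)
def n23770 : Q := act 2 n22372
theorem D23770 : act 2 n22372 = n23770 := rfl
theorem F46291 : act 4 n23770 = n22373 := d10_2 (iv F42813) D23770 (iv D22373)
def n23771 : Q := act 1 n22373
theorem D23771 : act 1 n22373 = n23771 := rfl
def n23772 : Q := act 4 n22374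
theorem D23772 : act 4 n22374 = n23772 := rfl
theorem F46292 : act 3 n23772 = n22461 := d12_1 D23772 (iv D22461) (iv D20538) (iv F38096) (iv F42814)
def n23773 : Q := act 2 n22375
theorem D23773 : act 2 n22375 = n23773 := rfl
theorem F46293 : act 0 n23773 = n22548 := d1_1 D23773 (iv F46289) F46288
theorem F46294 : act 3 n23773 = n22544 := d9_2 D22375 D23773 (iv D22544) (iv D20685) F32786 (iv F32260) (iv F38368) D22449 (iv F46279) (iv D23764) (iv D22364) (iv D20398) F31887 D17759 D20408
theorem F46295 : act 5 n23773 = n22455 := d11_2 (iv F42816) D23773 (iv D22455)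
def n23774 : Q := act 4 n22375
theorem D23774 : act 4 n22375 = n23774 := rfl
theorem F46296 : act 1 n23774 = n22446 := d7_1 D23774 F42958 (iv F42815)
theorem F46297 : act 3 n23774 = n22444 := d12_1 D23774 (iv D22444) F38359 (iv F38098) D22375
def n23775 : Q := act 5 n22378
theorem D23775 : act 5 n22378 = n23775 := rfl
theorem F46298 : act 0 n23775 = n22380 := d4_1 D23775 (iv D22380) D22378
theorem F46299 : act 1 n23775 = n22693 := d8_1 D23775 F43530 (iv F42823)
theorem F46300 : act 2 n23775 = n22924 := d11_1 D23775 (iv D22924) (iv F42824)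
theorem F46301 : act 3 n23775 = n22687 := d13_1 D23775 (iv F45411) F45410
def n23776 : Q := act 4 n22380
theorem D23776 : act 4 n22380 = n23776 := rfl
theorem F46302 : act 1 n23776 = n22382 := d7_1 D23776 (iv D22382) (iv F42828)
theorem F46303 : act 2 n23776 = n22926 := d10_1 D23776 (iv D22926) (iv F42829)
def n23777 : Q := act 3 n22382
theorem D23777 : act 3 n22382 = n23777 := rfl
theorem F46304 : act 0 n23777 = n22692 := d2_1 D23777 F43527 (iv F42833)
theorem F46305 : act 4 n23777 = n22685 := d12_2 D22382 D23777 (iv D22685) F39216 (iv F38146)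
def n23778 : Q := act 2 n22383
theorem D23778 : act 2 n22383 = n23778 := rfl
theorem F46306 : act 4 n23778 = n23687 := d10_2 (iv F43160) D23778 F46076
theorem F46307 : act 5 n23778 = n23690 := d11_2 F46262 D23778 F46263
def n23779 : Q := act 1 n22385
theorem D23779 : act 1 n22385 = n23779 := rfl
theorem F46308 : act 3 n23779 = n23394 := d6_2 (iv F42837) D23779 F45360
theorem F46309 : act 5 n23779 = n23575 := d8_2 (iv F42838) D23779 (iv D23575)
def n23780 : Q := act 5 n22387
theorem D23780 : act 5 n22387 = n23780 := rfl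
theorem F46310 : act 0 n23780 = n22389 := d4_1 D23780 (iv D22389) (iv F42841)
theorem F46311 : act 1 n23780 = n23456 := d8_1 D23780 (iv D23456) (iv F42842)
theorem F46312 : act 3 n23780 = n23446 := d13_1 D23780 F45499 (iv F42843)
def n23781 : Q := act 5 n22388
theorem D23781 : act 5 n22388 = n23781 := rfl
theorem F46313 : act 2 n23781 = n22389 := d11_1 D23781 (iv D22389) (iv F42844)
def n23782 : Q := act 3 n22390
theorem D23782 : act 3 n22390 = n23782 := rfl
theorem F46314 : act 0 n23782 = n22400 := d2_1 D23782 F42864 (iv F42847)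
theorem F46315 : act 1 n23782 = n23714 := d6_1 D23782 F46152 F43868
theorem F46316 : act 2 n23782 = n22410 := d9_1 D23782 (iv D22410) (iv D20475) (iv D17867) F25661 (iv F25606) (iv F32092) D20457 D22399 (iv F44002) F44001 F39810 F34616 (iv F38221) (iv F42848)
theorem F46317 : act 4 n23782 = n23710 := d12_2 D22390 D23782 F46140 F42562 F42413
theorem F46318 : act 5 n23782 = n22391 := d13_2 (iv F42849) D23782 (iv D22391)
def n23783 : Q := act 5 n22394
theorem D23783 : act 5 n22394 = n23783 := rfl
theorem F46319 : act 2 n23783 = n22395 := d11_1 D23783 (iv D22395) (iv F42858)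
def n23784 : Q := act 3 n22396
theorem D23784 : act 3 n22396 = n23784 := rfl
theorem F46320 : act 0 n23784 = n22397 := d2_1 D23784 (iv D22397) (iv F42861)
theorem F46321 : act 1 n23784 = n23448 := d6_1 D23784 F45501 F43860
theorem F46322 : act 4 n23784 = n23443 := d12_2 D22396 D23784 F45488 F41681 (iv F38222)
def n23785 : Q := act 5 n22396
theorem D23785 : act 5 n22396 = n23785 := rfl
theorem F46323 : act 0 n23785 = n22398 := d4_1 D23785 (iv D22398) (iv F42861)
theorem F46324 : act 4 n23785 = n23456 := d14_1 D23785 (iv D23456) F41709 (iv F38223) D22396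
def n23786 : Q := act 2 n22397
theorem D23786 : act 2 n22397 = n23786 := rfl
def n23787 : Q := act 5 n22397
theorem D23787 : act 5 n22397 = n23787 := rfl
theorem F46325 : act 1 n23787 = n22400 := d8_1 D23787 (iv D22400) (iv F42862)
theorem F46326 : act 3 n23787 = n22398 := d13_1 D23787 (iv D22398) D22397
def n23788 : Q := act 1 n22399
theorem D23788 : act 1 n22399 = n23788 := rfl
theorem F46327 : act 3 n23788 = n23732 := d6_2 F44002 D23788 F46202
theorem F46328 : act 0 n23734 = n23788 := d2_3 F46327 F46201 D23734
def n23789 : Q := act 3 n22403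
theorem D23789 : act 3 n22403 = n23789 := rfl
theorem F46329 : act 0 n23789 = n22405 := d2_1 D23789 (iv D22405) (iv F42866)
def n23790 : Q := act 3 n22404
theorem D23790 : act 3 n22404 = n23790 := rfl
theorem F46330 : act 4 n23790 = n22405 := d12_2 D22404 D23790 (iv D22405) (iv D20466) D20465
def n23791 : Q := act 5 n22404
theorem D23791 : act 5 n22404 = n23791 := rfl
theorem F46331 : act 2 n23791 = n22678 := d11_1 D23791 (iv F44462) F44461
def n23792 : Q := act 3 n22409
theorem D23792 : act 3 n22409 = n23792 := rfl
theorem F46332 : act 1 n23792 = n22410 := d6_1 D23792 (iv D22410) D22409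
def n23793 : Q := act 3 n22413
theorem D23793 : act 3 n22413 = n23793 := rfl
theorem F46333 : act 0 n23793 = n22414 := d2_1 D23793 (iv D22414) D22413
theorem F46334 : act 1 n23793 = n22416 := d6_1 D23793 (iv D22416) (iv F42886)
theorem F46335 : act 4 n23793 = n23341 := d12_2 (iv F42888) D23793 (iv D23341) F41342 F39535
theorem F46336 : act 5 n23793 = n22916 := d13_2 F43584 D23793 F44050
def n23794 : Q := act 2 n22414
theorem D23794 : act 2 n22414 = n23794 := rfl
theorem F46337 : act 1 n23794 = n22585 := d5_1 D23794 F43295 F38896 (iv F38261) (iv F42889)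
theorem F46338 : act 4 n23794 = n22639 := d10_2 (iv F42890) D23794 F43420
theorem F46339 : act 5 n23794 = n22583 := d11_2 F42891 D23794 F43291
def n23795 : Q := act 4 n22416
theorem D23795 : act 4 n22416 = n23795 := rfl
theorem F46340 : act 0 n23795 = n22418 := d3_1 D23795 (iv D22418) (iv F42896)
theorem F46341 : act 1 n23795 = n23341 := d7_1 D23795 (iv F46335) F46334
theorem F46342 : act 3 n23795 = n22419 := d12_1 D23795 (iv D22419) (iv D20489) (iv F38285) D22416
theorem F46343 : act 5 n23795 = n23392 := d14_2 F43587 D23795 F45357 F41504 (iv F43586)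
def n23796 : Q := act 3 n22420
theorem D23796 : act 3 n22420 = n23796 := rfl
theorem F46344 : act 0 n23796 = n22481 := d2_1 D23796 (iv D22481) (iv F42904)
theorem F46345 : act 1 n23796 = n23499 := d6_1 D23796 F45612 (iv F42905)
theorem F46346 : act 4 n23796 = n22479 := d12_2 D22420 D23796 (iv D22479) (iv D20564) (iv F38301)
theorem F46347 : act 5 n23796 = n23387 := d13_2 (iv F42907) D23796 (iv D23387)
def n23797 : Q := act 2 n22421
theorem D23797 : act 2 n22421 = n23797 := rfl
theorem F46348 : act 0 n23797 = n22423 := d1_1 D23797 (iv D22423) (iv F42908)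
def n23798 : Q := act 4 n22421
theorem D23798 : act 4 n22421 = n23798 := rfl
theorem F46349 : act 0 n23798 = n22424 := d3_1 D23798 (iv D22424) (iv F42908)
theorem F46350 : act 1 n23798 = n22441 := d7_1 D23798 (iv F42950) (iv F42909)
theorem F46351 : act 3 n23798 = n22431 := d12_1 D23798 (iv D22431) (iv D20500) (iv F38310) D22421
def n23799 : Q := act 5 n22421
theorem D23799 : act 5 n22421 = n23799 := rfl
theorem F46352 : act 0 n23799 = n22425 := d4_1 D23799 (iv D22425) (iv F42908)
theorem F46353 : act 1 n23799 = n22442 := d8_1 D23799 (iv D22442) (iv F42909)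
theorem F46354 : act 3 n23799 = n22422 := d13_1 D23799 (iv D22422) D22421
def n23800 : Q := act 1 n22423
theorem D23800 : act 1 n22423 = n23800 := rfl
theorem F46355 : act 2 n23800 = n22427 := d5_2 D22423 D23800 (iv D22427) (iv D20496) (iv F38311)
theorem F46356 : act 5 n22440 = n23800 := d11_0 F46355 F42920 D22440
def n23801 : Q := act 3 n22423
theorem D23801 : act 3 n22423 = n23801 := rfl
def n23802 : Q := act 4 n22423
theorem D23802 : act 4 n22423 = n23802 := rfl
theorem F46357 : act 2 n23802 = n22424 := d10_1 D23802 (iv D22424) D22423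
theorem F46358 : act 3 n22886 = n23802 := d15_3 F38560 D21123 D22886 F46357 F42913 F38333 D20667 F43080 (iv D22507)
def n23803 : Q := act 5 n22423
theorem D23803 : act 5 n22423 = n23803 := rfl
theorem F46359 : act 1 n23803 = n22440 := d8_1 D23803 F46356 (iv D23800)
theorem F46360 : act 2 n23803 = n22425 := d11_1 D23803 (iv D22425) D22423
def n23804 : Q := act 5 n22424
theorem D23804 : act 5 n22424 = n23804 := rfl
theorem F46361 : act 1 n23804 = n22429 := d8_1 D23804 (iv D22429) (iv F42912)
theorem F46362 : act 3 n23804 = n22432 := d13_1 D23804 (iv D22432) (iv F42913)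
def n23805 : Q := act 0 n22427
theorem D23805 : act 0 n22427 = n23805 := rfl
theorem F46363 : act 1 n23805 = n22428 := d0_2 D22427 D23805 F42921 (iv D20518) (iv F38313)
theorem F46364 : act 3 n23805 = n22439 := d2_2 (iv F42919) D23805 F42947
theorem F46365 : act 5 n23805 = n22438 := d4_2 (iv F42920) D23805 F42946
theorem F46366 : act 4 n22427 = n23805 := d14_5 F46365 (iv F44367) F44368 F40279 (iv F42920)
def n23806 : Q := act 5 n22431
theorem D23806 : act 5 n22431 = n23806 := rfl
theorem F46367 : act 0 n23806 = n22432 := d4_1 D23806 (iv D22432) (iv F42928)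
theorem F46368 : act 1 n23806 = n22447 := d8_1 D23806 (iv D22447) (iv F42929)
theorem F46369 : act 2 n23806 = n22508 := d11_1 D23806 (iv F43084) (iv F42930)
theorem F46370 : act 4 n23806 = n22467 := d14_1 D23806 (iv D22467) (iv D20548) F38327 D22431
def n23807 : Q := act 2 n22438
theorem D23807 : act 2 n22438 = n23807 := rfl
theorem F46371 : act 0 n23807 = n22440 := d1_1 D23807 (iv D22440) (iv F42946)
theorem F46372 : act 3 n23807 = n22894 := d15_1 D23807 (iv D22894) (iv D21131) (iv F38549) (iv F42941) F42940 (iv F42919) F42920 (iv F42946)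
def n23808 : Q := act 3 n22440
theorem D23808 : act 3 n22440 = n23808 := rfl
theorem F46373 : act 0 n23808 = n22894 := d2_1 D23808 (iv F46372) F46371
theorem F46374 : act 2 n23808 = n22892 := d15_2 D22440 D23808 (iv D22892) (iv F40442) D23074 (iv F44545) (iv F46364) F46365 F42946
def n23809 : Q := act 5 n22441
theorem D23809 : act 5 n22441 = n23809 := rfl
theorem F46375 : act 0 n23809 = n22443 := d4_1 D23809 (iv D22443) (iv F42948)
theorem F46376 : act 2 n23809 = n22442 := d11_1 D23809 (iv D22442) D22441
theorem F46377 : act 3 n23809 = n22447 := d13_1 D23809 (iv D22447) (iv F42949)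
def n23810 : Q := act 4 n22442
theorem D23810 : act 4 n22442 = n23810 := rfl
theorem F46378 : act 0 n23810 = n22444 := d3_1 D23810 (iv D22444) (iv F42951)
def n23811 : Q := act 4 n22443
theorem D23811 : act 4 n22443 = n23811 := rfl
theorem F46379 : act 1 n23811 = n22445 := d7_1 D23811 (iv D22445) (iv F42953)
theorem F46380 : act 2 n23811 = n22444 := d10_1 D23811 (iv D22444) (iv F42954)
theorem F46381 : act 5 n23811 = n22444 := d14_2 D22443 D23811 (iv D22444) (iv D20517) (iv F40246)
def n23812 : Q := act 4 n22447
theorem D23812 : act 4 n22447 = n23812 := rfl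
theorem F46382 : act 0 n23812 = n22453 := d3_1 D23812 (iv D22453) (iv F42959)
theorem F46383 : act 1 n23812 = n22467 := d7_1 D23812 (iv F46370) F46368
theorem F46384 : act 2 n23812 = n22461 := d10_1 D23812 (iv D22461) (iv F42960)
theorem F46385 : act 5 n23812 = n22448 := d14_2 D22447 D23812 (iv D22448) (iv D20524) D20523
def n23813 : Q := act 3 n22448
theorem D23813 : act 3 n22448 = n23813 := rfl
theorem F46386 : act 0 n23813 = n22454 := d2_1 D23813 (iv D22454) (iv F42961)
theorem F46387 : act 1 n23813 = n22466 := d6_1 D23813 (iv D22466) (iv F42962)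
theorem F46388 : act 4 n23813 = n22449 := d12_2 D22448 D23813 (iv D22449) (iv D20525) (iv F38366)
def n23814 : Q := act 5 n22450
theorem D23814 : act 5 n22450 = n23814 := rfl
theorem F46389 : act 0 n23814 = n22510 := d4_1 D23814 F43091 (iv F42964)
theorem F46390 : act 1 n23814 = n22451 := d8_1 D23814 (iv D22451) (iv F42965)
theorem F46391 : act 2 n23814 = n22456 := d11_1 D23814 (iv D22456) (iv F42966)
theorem F46392 : act 3 n23814 = n22460 := d13_1 D23814 (iv F44889) F44887
theorem F46393 : act 4 n23814 = n22465 := d14_1 D23814 (iv D22465) (iv D20546) F38371 D22450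
def n23815 : Q := act 4 n22451
theorem D23815 : act 4 n22451 = n23815 := rfl
theorem F46394 : act 0 n23815 = n22461 := d3_1 D23815 (iv D22461) (iv F42967)
theorem F46395 : act 1 n23815 = n22465 := d7_1 D23815 (iv F46393) F46390
theorem F46396 : act 2 n23815 = n22453 := d10_1 D23815 (iv D22453) (iv F42968)
theorem F46397 : act 5 n23815 = n22452 := d14_2 D22451 D23815 (iv D22452) (iv D20528) D20527
def n23816 : Q := act 3 n22452
theorem D23816 : act 3 n22452 = n23816 := rfl
theorem F46398 : act 1 n23816 = n22464 := d6_1 D23816 (iv D22464) (iv F42970)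
def n23817 : Q := act 3 n22453
theorem D23817 : act 3 n22453 = n23817 := rfl
theorem F46399 : act 1 n23817 = n22457 := d6_1 D23817 (iv D22457) (iv F42972)
theorem F46400 : act 5 n23817 = n22454 := d13_2 (iv F42973) D23817 (iv D22454)
def n23818 : Q := act 2 n22454
theorem D23818 : act 2 n22454 = n23818 := rfl
theorem F46401 : act 4 n23818 = n22455 := d10_2 (iv F42975) D23818 (iv D22455)
def n23819 : Q := act 1 n22455
theorem D23819 : act 1 n22455 = n23819 := rfl
theorem F46402 : act 2 n23819 = n22459 := d5_2 D22455 D23819 (iv D22459) (iv D20536) (iv F38377)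
def n23820 : Q := act 1 n22458
theorem D23820 : act 1 n22458 = n23820 := rfl
theorem F46403 : act 0 n23820 = n23197 := d0_1 D23820 (iv D23197) F40875 F39910 (iv F42981)
theorem F46404 : act 3 n23820 = n23749 := d6_2 F44281 D23820 F46244
theorem F46405 : act 4 n23820 = n22459 := d7_2 (iv F42982) D23820 (iv D22459)
theorem F46406 : act 5 n23820 = n23748 := d8_2 F44286 D23820 F46242
def n23821 : Q := act 3 n22463
theorem D23821 : act 3 n22463 = n23821 := rfl
theorem F46407 : act 4 n23821 = n22464 := d12_2 D22463 D23821 (iv D22464) (iv D20546) D20545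
def n23822 : Q := act 2 n22464
theorem D23822 : act 2 n22464 = n23822 := rfl
def n23823 : Q := act 5 n22464
theorem D23823 : act 5 n22464 = n23823 := rfl
theorem F46408 : act 3 n23823 = n22465 := d13_1 D23823 (iv D22465) D22464
def n23824 : Q := act 5 n22466
theorem D23824 : act 5 n22466 = n23824 := rfl
theorem F46409 : act 0 n23824 = n22468 := d4_1 D23824 (iv D22468) (iv F42987)
theorem F46410 : act 2 n23824 = n22825 := d11_1 D23824 F44074 F44072
theorem F46411 : act 3 n23824 = n22467 := d13_1 D23824 (iv D22467) D22466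
def n23825 : Q := act 4 n22468
theorem D23825 : act 4 n22468 = n23825 := rfl
theorem F46412 : act 1 n23825 = n22469 := d7_1 D23825 (iv D22469) (iv F42989)
theorem F46413 : act 2 n23825 = n22828 := d10_1 D23825 F43854 (iv F42990)
def n23826 : Q := act 3 n22470
theorem D23826 : act 3 n22470 = n23826 := rfl
theorem F46414 : act 0 n23826 = n22529 := d2_1 D23826 (iv D22529) (iv F42992)
theorem F46415 : act 1 n23826 = n22490 := d6_1 D23826 (iv D22490) (iv F42993)
theorem F46416 : act 4 n23826 = n22471 := d12_2 D22470 D23826 (iv D22471) (iv D20554) D20553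
def n23827 : Q := act 2 n22471
theorem D23827 : act 2 n22471 = n23827 := rfl
theorem F46417 : act 0 n23827 = n22702 := d1_1 D23827 (iv F45039) F45038
theorem F46418 : act 1 n23827 = n23687 := d5_1 D23827 F46076 F43158 (iv D22491) (iv F42995)
theorem F46419 : act 5 n23827 = n22703 := d11_2 (iv F42996) D23827 (iv D22703)
theorem F46420 : act 3 n23827 = n22695 := d15_1 D23827 (iv D22695) (iv D20882) F33345 D18402 D20883 D22697 (iv F45041) F45038
def n23828 : Q := act 2 n22476
theorem D23828 : act 2 n22476 = n23828 := rfl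
theorem F46421 : act 0 n23828 = n22672 := d1_1 D23828 (iv D22672) (iv F43010)
theorem F46422 : act 4 n23828 = n22670 := d10_2 (iv F43011) D23828 (iv D22670)
def n23829 : Q := act 5 n22476
theorem D23829 : act 5 n22476 = n23829 := rfl
theorem F46423 : act 0 n23829 = n22673 := d4_1 D23829 (iv D22673) (iv F43010)
theorem F46424 : act 3 n23829 = n22477 := d13_1 D23829 (iv D22477) D22476
def n23830 : Q := act 3 n22478
theorem D23830 : act 3 n22478 = n23830 := rfl
theorem F46425 : act 0 n23830 = n23500 := d2_1 D23830 F45614 F43790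
theorem F46426 : act 1 n23830 = n22479 := d6_1 D23830 (iv D22479) (iv F43015)
theorem F46427 : act 4 n23830 = n23499 := d12_2 D22478 D23830 F45612 F42543 (iv F39543)
def n23831 : Q := act 2 n22479
theorem D23831 : act 2 n22479 = n23831 := rfl
theorem F46428 : act 0 n23831 = n22482 := d1_1 D23831 (iv D22482) (iv F43016)
def n23832 : Q := act 5 n22479
theorem D23832 : act 5 n22479 = n23832 := rfl
theorem F46429 : act 0 n23832 = n22483 := d4_1 D23832 (iv D22483) (iv F43016)
theorem F46430 : act 3 n23832 = n22480 := d13_1 D23832 (iv D22480) D22479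
theorem F46431 : act 4 n23832 = n23389 := d14_1 D23832 (iv D23389) (iv F45346) (iv F46347) F46346
def n23833 : Q := act 2 n22481
theorem D23833 : act 2 n22481 = n23833 := rfl
theorem F46432 : act 1 n23833 = n23497 := d5_1 D23833 F45605 F41850 (iv F41345) (iv F43019)
theorem F46433 : act 4 n23833 = n22482 := d10_2 (iv F43020) D23833 (iv D22482)
theorem F46434 : act 5 n23833 = n23496 := d11_2 (iv F43021) D23833 F45601
def n23834 : Q := act 1 n22482
theorem D23834 : act 1 n22482 = n23834 := rfl
theorem F46435 : act 2 n23834 = n23498 := d5_2 D22482 D23834 F45608 F41855 F39564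
theorem F46436 : act 4 n23834 = n23497 := d7_2 F46433 D23834 (iv F46432)
theorem F46437 : act 5 n23834 = n23550 := d8_2 (iv F45736) D23834 F45737
def n23835 : Q := act 3 n22482
theorem D23835 : act 3 n22482 = n23835 := rfl
theorem F46438 : act 5 n23835 = n22672 := d13_2 (iv F45736) D23835 (iv F45735)
theorem F46439 : act 2 n23835 = n22673 := d15_2 D22482 D23835 F43494 (iv F43007) F43008 (iv F43018) (iv F46430) (iv D23832) F43016
def n23836 : Q := act 3 n22485
theorem D23836 : act 3 n22485 = n23836 := rfl
theorem F46440 : act 0 n23836 = n22486 := d2_1 D23836 (iv D22486) (iv F43026)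
theorem F46441 : act 2 n23836 = n22518 := d9_1 D23836 (iv D22518) (iv D20638) (iv D18073) (iv F30299) D19767 D21924 D23475 F45558 (iv D22490) F38481 (iv D18081) (iv F32335) D20574 D22485
theorem F46442 : act 5 n23836 = n22523 := d13_2 F45552 D23836 (iv F45553)
def n23837 : Q := act 4 n22486
theorem D23837 : act 4 n22486 = n23837 := rfl
theorem F46443 : act 1 n23837 = n22931 := d7_1 D23837 (iv F46261) F46260
theorem F46444 : act 3 n23837 = n22715 := d12_1 D23837 (iv D22715) (iv D20899) (iv F38473) D22486
theorem F46445 : act 5 n23837 = n23689 := d14_2 F45557 D23837 F46084 (iv F43151) (iv F45556)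
def n23838 : Q := act 3 n22487
theorem D23838 : act 3 n22487 = n23838 := rfl
theorem F46446 : act 1 n23838 = n22488 := d6_1 D23838 (iv D22488) (iv F43028)
theorem F46447 : act 4 n23838 = n22522 := d12_2 D22487 D23838 (iv D22522) F38635 (iv F38474)
def n23839 : Q := act 5 n22487
theorem D23839 : act 5 n22487 = n23839 := rfl
theorem F46448 : act 0 n23839 = n22696 := d4_1 D23839 (iv F45002) F44999
theorem F46449 : act 1 n23839 = n22489 := d8_1 D23839 (iv D22489) (iv F43028)
theorem F46450 : act 2 n23839 = n23733 := d11_1 D23839 F46207 F44994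
theorem F46451 : act 4 n23839 = n22698 := d14_1 D23839 F43541 F39247 (iv F38475) D22487
def n23840 : Q := act 4 n22492
theorem D23840 : act 4 n22492 = n23840 := rfl
theorem F46452 : act 1 n23840 = n22704 := d7_1 D23840 (iv D22704) (iv F43036)
theorem F46453 : act 2 n23840 = n23689 := d10_1 D23840 F46084 F43150
theorem F46454 : act 3 n23840 = n22707 := d12_1 D23840 (iv D22707) (iv D20891) (iv F38484) (iv F43037)
def n23841 : Q := act 4 n22493
theorem D23841 : act 4 n22493 = n23841 := rfl
theorem F46455 : act 1 n23841 = n22494 := d7_1 D23841 (iv D22494) D22493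
theorem F46456 : act 2 n23841 = n22646 := d10_1 D23841 F43436 (iv F43038)
theorem F46457 : act 5 n23841 = n23581 := d14_2 (iv F43039) D23841 (iv D23581) (iv D22080) (iv F42034)
def n23842 : Q := act 3 n22494
theorem D23842 : act 3 n22494 = n23842 := rfl
theorem F46458 : act 0 n23842 = n22495 := d2_1 D23842 (iv D22495) (iv F43040)
theorem F46459 : act 5 n23842 = n23582 := d13_2 (iv F43042) D23842 (iv D23582)
def n23843 : Q := act 2 n22495
theorem D23843 : act 2 n22495 = n23843 := rfl
theorem F46460 : act 5 n23843 = n23583 := d11_2 (iv F43043) D23843 (iv D23583)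
def n23844 : Q := act 2 n22496
theorem D23844 : act 2 n22496 = n23844 := rfl
theorem F46461 : act 0 n23844 = n22498 := d1_1 D23844 (iv D22498) (iv F43044)
theorem F46462 : act 4 n23844 = n22498 := d10_2 (iv F43046) D23844 (iv D22498)
theorem F46463 : act 3 n23844 = n23583 := d15_1 D23844 (iv D23583) (iv D22082) F37011 (iv F32406) (iv F38532) (iv F43052) (iv D22499) (iv F43044)
def n23845 : Q := act 5 n22496
theorem D23845 : act 5 n22496 = n23845 := rfl
theorem F46464 : act 0 n23845 = n22499 := d4_1 D23845 (iv D22499) (iv F43044)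
theorem F46465 : act 1 n23845 = n22604 := d8_1 D23845 (iv D22604) (iv F43045)
theorem F46466 : act 3 n23845 = n22497 := d13_1 D23845 (iv D22497) D22496
def n23846 : Q := act 1 n22498
theorem D23846 : act 1 n22498 = n23846 := rfl
theorem F46467 : act 2 n23846 = n22632 := d5_2 D22498 D23846 (iv D22632) (iv D20785) (iv F38530)
def n23847 : Q := act 3 n22498
theorem D23847 : act 3 n22498 = n23847 := rfl
theorem F46468 : act 0 n23847 = n23583 := d2_1 D23847 (iv F46463) F46461
theorem F46469 : act 2 n23847 = n23582 := d15_2 D22498 D23847 (iv D23582) F42132 (iv F38528) (iv F43049) (iv F46466) (iv D23845) F43044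
def n23848 : Q := act 5 n22498
theorem D23848 : act 5 n22498 = n23848 := rfl
theorem F46470 : act 2 n23848 = n22499 := d11_1 D23848 (iv D22499) D22498
def n23849 : Q := act 4 n22499
theorem D23849 : act 4 n22499 = n23849 := rfl
theorem F46471 : act 1 n23849 = n22631 := d7_1 D23849 (iv D22631) (iv F43051)
theorem F46472 : act 3 n23849 = n22645 := d12_1 D23849 (iv D22645) F39039 (iv F38533) (iv F43052)
def n23850 : Q := act 2 n22500
theorem D23850 : act 2 n22500 = n23850 := rfl
theorem F46473 : act 0 n23850 = n22870 := d1_1 D23850 F43971 (iv F43053)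
theorem F46474 : act 1 n23850 = n23224 := d5_1 D23850 F44939 F41052 (iv F39865) (iv F43054)
theorem F46475 : act 3 n23850 = n23044 := d9_2 D22500 D23850 F44448 F40340 F34888 F32247 (iv F32492) D20622 (iv F39789) (iv F43958) F43957 (iv D21333) F34884 D20540 (iv F38542)
theorem F46476 : act 4 n23850 = n22878 := d10_2 (iv F43055) D23850 F43988
theorem F46477 : act 5 n23850 = n22501 := d11_2 (iv F43056) D23850 (iv D22501)
def n23851 : Q := act 1 n22501
theorem D23851 : act 1 n22501 = n23851 := rfl
theorem F46478 : act 0 n23851 = n23230 := d0_1 D23851 F44953 (iv F43968) F43969 (iv F43057)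
theorem F46479 : act 2 n23851 = n22914 := d5_2 D22501 D23851 (iv D22914) (iv D21153) (iv F38544)
theorem F46480 : act 3 n23851 = n23043 := d6_2 (iv F43059) D23851 (iv D23043)
theorem F46481 : act 4 n23851 = n22502 := d7_2 (iv F43058) D23851 (iv D22502)
theorem F46482 : act 5 n23851 = n23224 := d8_2 F46477 D23851 (iv F46474)
def n23852 : Q := act 0 n22502
theorem D23852 : act 0 n22502 = n23852 := rfl
theorem F46483 : act 1 n23852 = n22868 := d0_2 D22502 D23852 F43965 F39788 (iv F38546)
theorem F46484 : act 2 n23852 = n22915 := d1_2 (iv F43060) D23852 (iv D22915)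
theorem F46485 : act 3 n23852 = n22852 := d2_2 (iv F43061) D23852 (iv D22852)
theorem F46486 : act 4 n23852 = n23230 := d3_2 F46481 D23852 (iv F46478)
theorem F46487 : act 5 n23852 = n22875 := d4_2 (iv F43062) D23852 (iv D22875)
def n23853 : Q := act 2 n22503
theorem D23853 : act 2 n22503 = n23853 := rfl
theorem F46488 : act 0 n23853 = n22615 := d1_1 D23853 (iv D22615) (iv F43063)
theorem F46489 : act 4 n23853 = n22505 := d10_2 (iv F43065) D23853 (iv D22505)
def n23854 : Q := act 5 n22503
theorem D23854 : act 5 n22503 = n23854 := rfl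
theorem F46490 : act 0 n23854 = n22614 := d4_1 D23854 F43369 (iv F43063)
theorem F46491 : act 1 n23854 = n22642 := d8_1 D23854 (iv D22642) (iv F43064)
theorem F46492 : act 3 n23854 = n22504 := d13_1 D23854 (iv D22504) D22503
def n23855 : Q := act 1 n22505
theorem D23855 : act 1 n22505 = n23855 := rfl
theorem F46493 : act 2 n23855 = n22643 := d5_2 D22505 D23855 (iv D22643) (iv D20797) (iv F38555)
theorem F46494 : act 3 n23855 = n22734 := d6_2 (iv F43071) D23855 F43610
theorem F46495 : act 5 n23855 = n22733 := d8_2 F43072 D23855 F43609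
def n23856 : Q := act 4 n22506
theorem D23856 : act 4 n22506 = n23856 := rfl
theorem F46496 : act 0 n23856 = n22635 := d3_1 D23856 (iv D22635) (iv F43073)
theorem F46497 : act 1 n23856 = n22645 := d7_1 D23856 (iv D22645) (iv F43074)
theorem F46498 : act 2 n23856 = n22735 := d10_1 D23856 (iv D22735) (iv F43075)
theorem F46499 : act 3 n23856 = n22631 := d12_1 D23856 (iv D22631) (iv D20784) (iv F38559) (iv F43076)
def n23857 : Q := act 3 n22511
theorem D23857 : act 3 n22511 = n23857 := rfl
theorem F46500 : act 0 n23857 = n22932 := d2_1 D23857 F44929 F44926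
theorem F46501 : act 1 n23857 = n22512 := d6_1 D23857 (iv D22512) (iv F43092)
theorem F46502 : act 2 n23857 = n22512 := d9_1 D23857 (iv D22512) F38576 (iv F38350) (iv F42945) (iv F44821) F44820 D23221 F44933 (iv D21605) F35555 D19329 D21606 (iv F44429) F44428
theorem F46503 : act 4 n23857 = n22933 := d12_2 D22511 D23857 (iv D22933) (iv D21186) (iv F38574)
def n23858 : Q := act 1 n22513
theorem D23858 : act 1 n22513 = n23858 := rfl
theorem F46504 : act 2 n23858 = n22727 := d5_2 D22513 D23858 (iv D22727) (iv D20908) (iv F38578)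
theorem F46505 : act 4 n23858 = n23545 := d7_2 (iv F43096) D23858 (iv D23545)
def n23859 : Q := act 3 n22515
theorem D23859 : act 3 n22515 = n23859 := rfl
theorem F46506 : act 5 n23859 = n22813 := d13_2 (iv F43100) D23859 (iv D22813)
def n23860 : Q := act 3 n22516
theorem D23860 : act 3 n22516 = n23860 := rfl
theorem F46507 : act 0 n23860 = n22712 := d2_1 D23860 F45697 F45693
theorem F46508 : act 1 n23860 = n23716 := d6_1 D23860 F46160 (iv F43101)
theorem F46509 : act 5 n23860 = n22520 := d13_2 (iv F43103) D23860 (iv D22520)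
def n23861 : Q := act 0 n22517
theorem D23861 : act 0 n22517 = n23861 := rfl
theorem F46510 : act 1 n23861 = n22530 := d0_2 D22517 D23861 F45701 (iv D23538) F41974
theorem F46511 : act 2 n23861 = n22519 := d1_2 (iv F43104) D23861 (iv D22519)
theorem F46512 : act 4 n23861 = n23715 := d3_2 (iv F43105) D23861 F46154
theorem F46513 : act 5 n23861 = n22521 := d4_2 (iv F43106) D23861 (iv D22521)
def n23862 : Q := act 3 n22517
theorem D23862 : act 3 n22517 = n23862 := rfl
theorem F46514 : act 1 n23862 = n22518 := d6_1 D23862 (iv D22518) D22517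
theorem F46515 : act 5 n23862 = n22522 := d13_2 (iv F43106) D23862 (iv D22522)
def n23863 : Q := act 4 n22518
theorem D23863 : act 4 n22518 = n23863 := rfl
def n23864 : Q := act 3 n22521
theorem D23864 : act 3 n22521 = n23864 := rfl
theorem F46516 : act 0 n23864 = n22522 := d2_1 D23864 (iv D22522) D22521
theorem F46517 : act 1 n23864 = n22529 := d6_1 D23864 (iv D22529) (iv F43115)
def n23865 : Q := act 2 n22522
theorem D23865 : act 2 n22522 = n23865 := rfl
def n23866 : Q := act 1 n22523
theorem D23866 : act 1 n22523 = n23866 := rfl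
def n23867 : Q := act 3 n22524
theorem D23867 : act 3 n22524 = n23867 := rfl
theorem F46518 : act 5 n23867 = n23734 := d13_2 (iv F43120) D23867 (iv D23734)
def n23868 : Q := act 2 n22525
theorem D23868 : act 2 n22525 = n23868 := rfl
theorem F46519 : act 0 n23868 = n22527 := d1_1 D23868 (iv D22527) (iv F43121)
theorem F46520 : act 4 n23868 = n22528 := d10_2 (iv F43123) D23868 (iv D22528)
theorem F46521 : act 5 n23868 = n22527 := d11_2 (iv F43124) D23868 (iv D22527)
def n23869 : Q := act 2 n22526
theorem D23869 : act 2 n22526 = n23869 := rfl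
theorem F46522 : act 0 n23869 = n22528 := d1_1 D23869 (iv D22528) (iv F43125)
theorem F46523 : act 4 n23869 = n22527 := d10_2 (iv F43127) D23869 (iv D22527)
def n23870 : Q := act 1 n22527
theorem D23870 : act 1 n22527 = n23870 := rfl
theorem F46524 : act 2 n23870 = n22532 := d5_2 D22527 D23870 (iv D22532) (iv D20661) (iv F38658)
def n23871 : Q := act 2 n22529
theorem D23871 : act 2 n22529 = n23871 := rfl
theorem F46525 : act 4 n23871 = n22702 := d10_2 F45040 D23871 (iv F45039)
def n23872 : Q := act 5 n22529
theorem D23872 : act 5 n22529 = n23872 := rfl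
theorem F46526 : act 3 n23872 = n22530 := d13_1 D23872 (iv D22530) D22529
def n23873 : Q := act 1 n22531
theorem D23873 : act 1 n22531 = n23873 := rfl
theorem F46527 : act 4 n23873 = n22532 := d7_2 (iv F43129) D23873 (iv D22532)
def n23874 : Q := act 3 n22531
theorem D23874 : act 3 n22531 = n23874 := rfl
def n23875 : Q := act 0 n22532
theorem D23875 : act 0 n22532 = n23875 := rfl
def n23876 : Q := act 3 n22533
theorem D23876 : act 3 n22533 = n23876 := rfl
theorem F46528 : act 0 n23876 = n22887 := d2_1 D23876 F44007 (iv F43130)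
theorem F46529 : act 1 n23876 = n22574 := d6_1 D23876 (iv D22574) (iv F43131)
theorem F46530 : act 4 n23876 = n22767 := d12_2 (iv F43132) D23876 F43679 F39362 F38857
theorem F46531 : act 5 n23876 = n22885 := d13_2 (iv F43133) D23876 (iv D22885)
def n23877 : Q := act 3 n22535
theorem D23877 : act 3 n22535 = n23877 := rfl
theorem F46532 : act 0 n23877 = n23395 := d2_1 D23877 (iv D23395) (iv F43137)
theorem F46533 : act 1 n23877 = n22536 := d6_1 D23877 (iv D22536) (iv F43138)
theorem F46534 : act 4 n23877 = n22660 := d12_2 D22535 D23877 (iv D22660) (iv D20822) (iv F38688)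
theorem F46535 : act 5 n23877 = n23457 := d13_2 (iv F43140) D23877 (iv D23457)
def n23878 : Q := act 2 n22543
theorem D23878 : act 2 n22543 = n23878 := rfl
theorem F46536 : act 0 n23878 = n22546 := d1_1 D23878 (iv D22546) (iv F43168)
theorem F46537 : act 1 n23878 = n23363 := d5_1 D23878 F45276 (iv F45263) F45264 F43626
theorem F46538 : act 4 n23878 = n22544 := d10_2 (iv F43169) D23878 (iv D22544)
theorem F46539 : act 5 n23878 = n23360 := d11_2 (iv F43620) D23878 F45267
def n23879 : Q := act 1 n22544
theorem D23879 : act 1 n22544 = n23879 := rfl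
theorem F46540 : act 0 n23879 = n23375 := d0_1 D23879 F45306 F43177 (iv D22547) (iv F43170)
theorem F46541 : act 2 n23879 = n23365 := d5_2 D22544 D23879 F45282 F43516 F43167
theorem F46542 : act 4 n23879 = n23363 := d7_2 F46538 D23879 (iv F46537)
def n23880 : Q := act 2 n22545
theorem D23880 : act 2 n22545 = n23880 := rfl
theorem F46543 : act 0 n23880 = n23360 := d1_1 D23880 F45267 F43617
theorem F46544 : act 1 n23880 = n23367 := d5_1 D23880 F45289 F41449 (iv F39117) (iv F43171)
theorem F46545 : act 5 n23880 = n22546 := d11_2 (iv F43172) D23880 (iv D22546)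
def n23881 : Q := act 3 n22546
theorem D23881 : act 3 n22546 = n23881 := rfl
theorem F46546 : act 1 n23881 = n23698 := d6_1 D23881 (iv D23698) (iv F43173)
def n23882 : Q := act 3 n22547
theorem D23882 : act 3 n22547 = n23882 := rfl
theorem F46547 : act 0 n23882 = n23700 := d2_1 D23882 (iv D23700) F43177
theorem F46548 : act 1 n23882 = n22548 := d6_1 D23882 (iv D22548) D22547
def n23883 : Q := act 4 n22548
theorem D23883 : act 4 n22548 = n23883 := rfl
def n23884 : Q := act 4 n22552
theorem D23884 : act 4 n22552 = n23884 := rfl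
theorem F46549 : act 0 n23884 = n22827 := d3_1 D23884 (iv D22827) (iv F43193)
theorem F46550 : act 1 n23884 = n22553 := d7_1 D23884 (iv D22553) (iv F43194)
theorem F46551 : act 2 n23884 = n22824 := d10_1 D23884 (iv D22824) (iv F43195)
theorem F46552 : act 3 n23884 = n22752 := d12_1 D23884 (iv D22752) (iv D20934) (iv F38749) D22552
theorem F46553 : act 5 n23884 = n23483 := d14_2 (iv F43196) D23884 (iv D23483) F41805 (iv F38778)
def n23885 : Q := act 5 n22553
theorem D23885 : act 5 n22553 = n23885 := rfl
theorem F46554 : act 0 n23885 = n23781 := d4_1 D23885 (iv D23781) (iv F43197)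
theorem F46555 : act 1 n23885 = n23483 := d8_1 D23885 (iv F46553) F46550
theorem F46556 : act 2 n23885 = n23780 := d11_1 D23885 (iv D23780) (iv F43198)
theorem F46557 : act 3 n23885 = n22755 := d13_1 D23885 (iv D22755) (iv F43199)
theorem F46558 : act 4 n23885 = n23482 := d14_1 D23885 F45572 F43204 (iv D22554) D22553
def n23886 : Q := act 2 n22556
theorem D23886 : act 2 n22556 = n23886 := rfl
theorem F46559 : act 0 n23886 = n22557 := d1_1 D23886 (iv D22557) (iv F43210)
theorem F46560 : act 4 n23886 = n22756 := d10_2 (iv F43212) D23886 (iv D22756)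
theorem F46561 : act 5 n23886 = n23472 := d11_2 (iv F43213) D23886 (iv D23472)
def n23887 : Q := act 3 n22557
theorem D23887 : act 3 n22557 = n23887 := rfl
theorem F46562 : act 1 n23887 = n23488 := d6_1 D23887 (iv D23488) (iv F43214)
theorem F46563 : act 5 n23887 = n23473 := d13_2 (iv F43216) D23887 (iv D23473)
theorem F46564 : act 2 n23887 = n23792 := d15_2 D22557 D23887 (iv D23792) F42878 (iv D20857) (iv F36603) D21919 (iv F43213) F43210
def n23888 : Q := act 3 n22558
theorem D23888 : act 3 n22558 = n23888 := rfl
theorem F46565 : act 0 n23888 = n23821 := d2_1 D23888 (iv D23821) (iv F43217)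
theorem F46566 : act 1 n23888 = n22559 := d6_1 D23888 (iv D22559) (iv F43218)
theorem F46567 : act 4 n23888 = n22836 := d12_2 D22558 D23888 (iv D22836) (iv D21063) (iv F38788)
theorem F46568 : act 2 n23518 = n23888 := d5_0 F46566 (iv F46082) F46079 (iv D23521) (iv F45655)
def n23889 : Q := act 5 n22558
theorem D23889 : act 5 n22558 = n23889 := rfl
theorem F46569 : act 0 n23889 = n23765 := d4_1 D23889 F46281 (iv F43217)
theorem F46570 : act 1 n23889 = n22560 := d8_1 D23889 (iv D22560) (iv F43218)
theorem F46571 : act 2 n23889 = n22744 := d11_1 D23889 F43632 (iv F43219)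
theorem F46572 : act 4 n23889 = n23508 := d14_1 D23889 F45637 F42741 F38790 D22558
def n23890 : Q := act 5 n22559
theorem D23890 : act 5 n22559 = n23890 := rfl
theorem F46573 : act 0 n23890 = n22567 := d4_1 D23890 (iv D22567) (iv F43220)
theorem F46574 : act 2 n23890 = n22573 := d11_1 D23890 (iv F46081) F46082
theorem F46575 : act 3 n23890 = n22560 := d13_1 D23890 (iv D22560) D22559
theorem F46576 : act 4 n23754 = n23890 := d12_0 F46575 F43224 F42735 D22343 D23754
def n23891 : Q := act 3 n22561
theorem D23891 : act 3 n22561 = n23891 := rfl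
theorem F46577 : act 0 n23891 = n22563 := d2_1 D23891 (iv D22563) (iv F43225)
theorem F46578 : act 1 n23891 = n23821 := d6_1 D23891 (iv D23821) (iv F43226)
theorem F46579 : act 4 n23891 = n23816 := d12_2 D22561 D23891 (iv D23816) (iv D22452) F38815
theorem F46580 : act 5 n23891 = n23768 := d13_2 (iv F43228) D23891 (iv D23768)
def n23892 : Q := act 3 n22562
theorem D23892 : act 3 n22562 = n23892 := rfl
theorem F46581 : act 0 n23892 = n23816 := d2_1 D23892 (iv D23816) (iv F43229)
theorem F46582 : act 1 n23892 = n22564 := d6_1 D23892 (iv D22564) (iv F43230)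
theorem F46583 : act 4 n23892 = n22563 := d12_2 D22562 D23892 (iv D22563) (iv D20711) D20710
theorem F46584 : act 5 n23892 = n23772 := d13_2 (iv F43232) D23892 F46292
def n23893 : Q := act 2 n22563
theorem D23893 : act 2 n22563 = n23893 := rfl
theorem F46585 : act 5 n23893 = n23770 := d11_2 (iv F43234) D23893 (iv D23770)
def n23894 : Q := act 5 n22564
theorem D23894 : act 5 n22564 = n23894 := rfl
theorem F46586 : act 0 n23894 = n22838 := d4_1 D23894 (iv D22838) (iv F43235)
theorem F46587 : act 1 n23894 = n23772 := d8_1 D23894 (iv F46584) F46582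
theorem F46588 : act 3 n23894 = n22565 := d13_1 D23894 (iv D22565) D22564
theorem F46589 : act 4 n23894 = n23755 := d14_1 D23894 F46258 F43244 (iv D22567) (iv F43236)
def n23895 : Q := act 5 n22566
theorem D23895 : act 5 n22566 = n23895 := rfl
theorem F46590 : act 0 n23895 = n22573 := d4_1 D23895 (iv F46081) F46078
theorem F46591 : act 2 n23895 = n22567 := d11_1 D23895 (iv D22567) D22566
theorem F46592 : act 3 n23895 = n22571 := d13_1 D23895 F43259 (iv F43241)
theorem F46593 : act 4 n23756 = n23895 := d10_0 F46591 (iv F43244) D23756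
def n23896 : Q := act 2 n22568
theorem D23896 : act 2 n22568 = n23896 := rfl
theorem F46594 : act 0 n23896 = n22570 := d1_1 D23896 (iv D22570) (iv F43245)
theorem F46595 : act 4 n23896 = n23484 := d10_2 (iv F43247) D23896 (iv D23484)
theorem F46596 : act 5 n23896 = n22619 := d11_2 F43248 D23896 F43377
def n23897 : Q := act 3 n22570
theorem D23897 : act 3 n22570 = n23897 := rfl
theorem F46597 : act 1 n23897 = n22602 := d6_1 D23897 (iv D22602) (iv F43254)
theorem F46598 : act 5 n23897 = n22620 := d13_2 (iv F43256) D23897 (iv D22620)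
theorem F46599 : act 2 n22610 = n23897 := d5_0 F46597 F43346 F38971 D20765 D22610
theorem F46600 : act 4 n22610 = n23897 := d7_0 F46597 (iv F43347) D22610
def n23898 : Q := act 3 n22572
theorem D23898 : act 3 n22572 = n23898 := rfl
theorem F46601 : act 0 n23898 = n23532 := d2_1 D23898 F45688 F43542
theorem F46602 : act 1 n23898 = n22573 := d6_1 D23898 (iv D22573) D22572
theorem F46603 : act 2 n23898 = n23520 := d9_1 D23898 (iv D23520) F41933 (iv F39043) (iv F39232) F39233 (iv F40494) (iv F41963) (iv D22008) (iv D19867) F30504 D17090 D19868 (iv F39308) (iv F43260)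
theorem F46604 : act 5 n23898 = n23521 := d13_2 F44576 D23898 F45663
def n23899 : Q := act 4 n22573
theorem D23899 : act 4 n22573 = n23899 := rfl
theorem F46605 : act 0 n23899 = n23756 := d3_1 D23899 F46593 F46590
theorem F46606 : act 2 n23899 = n23754 := d10_1 D23899 F46576 F46574
theorem F46607 : act 3 n23899 = n23778 := d12_1 D23899 F46306 F46077 (iv F42474) D22573
def n23900 : Q := act 2 n22574
theorem D23900 : act 2 n22574 = n23900 := rfl
theorem F46608 : act 0 n23900 = n22577 := d1_1 D23900 (iv D22577) (iv F43261)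
theorem F46609 : act 3 n23900 = n22585 := d9_2 D22574 D23900 F43295 F38897 F32934 (iv F32385) F32384 D18735 D21136 (iv F43283) (iv D22579) (iv D20732) F32924 (iv F32913) (iv F38864)
theorem F46610 : act 4 n23900 = n22590 := d10_2 (iv F43262) D23900 F43315
theorem F46611 : act 5 n23900 = n22584 := d11_2 (iv F43263) D23900 F43293
def n23901 : Q := act 1 n22575
theorem D23901 : act 1 n22575 = n23901 := rfl
theorem F46612 : act 0 n23901 = n22646 := d0_1 D23901 (iv D22646) F39040 (iv F38879) (iv F43264)
theorem F46613 : act 3 n23901 = n22753 := d6_2 (iv F43267) D23901 (iv D22753)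
theorem F46614 : act 4 n23901 = n22779 := d7_2 (iv F43265) D23901 F43710
theorem F46615 : act 5 n23901 = n22580 := d8_2 (iv F43266) D23901 (iv D22580)
def n23902 : Q := act 4 n22578
theorem D23902 : act 4 n22578 = n23902 := rfl
theorem F46616 : act 0 n23902 = n22754 := d3_1 D23902 (iv D22754) (iv F43276)
theorem F46617 : act 1 n23902 = n22649 := d7_1 D23902 (iv D22649) (iv F43277)
theorem F46618 : act 2 n23902 = n22749 := d10_1 D23902 (iv D22749) (iv F43279)
theorem F46619 : act 3 n23902 = n22780 := d12_1 D23902 (iv D22780) (iv D20970) (iv F38880) D22578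
theorem F46620 : act 5 n23902 = n22649 := d14_2 (iv F43278) D23902 (iv D22649) (iv F43304) F43303
def n23903 : Q := act 0 n22580
theorem D23903 : act 0 n22580 = n23903 := rfl
theorem F46621 : act 1 n23903 = n22586 := d0_2 D22580 D23903 (iv D22586) (iv D20738) (iv F38890)
theorem F46622 : act 2 n23903 = n23581 := d1_2 (iv F44704) D23903 F45819
theorem F46623 : act 4 n23903 = n23561 := d3_2 F44956 D23903 F45764
theorem F46624 : act 5 n23903 = n22646 := d4_2 F46615 D23903 (iv F46612)
theorem F46625 : act 3 n23511 = n23903 := d6_0 F46621 (iv F43300) D23511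
def n23904 : Q := act 3 n22580
theorem D23904 : act 3 n22580 = n23904 := rfl
theorem F46626 : act 0 n23904 = n23511 := d2_1 D23904 F46625 (iv D23903)
theorem F46627 : act 1 n23904 = n22581 := d6_1 D23904 (iv D22581) D22580
theorem F46628 : act 4 n23904 = n23511 := d12_2 F44956 D23904 F46625 F46623 F45766
theorem F46629 : act 5 n23904 = n22753 := d13_2 F46615 D23904 (iv F46613)
def n23905 : Q := act 1 n22582
theorem D23905 : act 1 n22582 = n23905 := rfl
theorem F46630 : act 2 n23905 = n22917 := d5_2 D22582 D23905 F44053 F39868 (iv F38892)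
theorem F46631 : act 3 n23905 = n23268 := d6_2 F45479 D23905 (iv F45478)
theorem F46632 : act 4 n23905 = n22583 := d7_2 (iv F43289) D23905 (iv D22583)
theorem F46633 : act 5 n23905 = n22797 := d8_2 (iv F43290) D23905 (iv D22797)
theorem F46634 : act 0 n23479 = n23905 := d4_3 F46633 (iv F43771) D23479
def n23906 : Q := act 0 n22583
theorem D23906 : act 0 n22583 = n23906 := rfl
theorem F46635 : act 2 n23906 = n22916 := d1_2 (iv F43291) D23906 (iv D22916)
theorem F46636 : act 4 n23906 = n23479 := d3_2 F46632 D23906 F46634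
def n23907 : Q := act 3 n22583
theorem D23907 : act 3 n22583 = n23907 := rfl
theorem F46637 : act 1 n23907 = n22584 := d6_1 D23907 (iv D22584) D22583
def n23908 : Q := act 1 n22588
theorem D23908 : act 1 n22588 = n23908 := rfl
theorem F46638 : act 2 n23908 = n23509 := d5_2 D22588 D23908 F45638 (iv F43305) F43302
theorem F46639 : act 3 n23908 = n22744 := d6_2 (iv F43307) D23908 (iv D22744)
theorem F46640 : act 4 n23908 = n23509 := d7_2 (iv F43308) D23908 F45638
theorem F46641 : act 5 n23908 = n22748 := d8_2 (iv F43309) D23908 F43642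
def n23909 : Q := act 0 n22589
theorem D23909 : act 0 n22589 = n23909 := rfl
theorem F46642 : act 1 n23909 = n22772 := d0_2 D22589 D23909 (iv D22772) (iv D20958) (iv F38929)
theorem F46643 : act 2 n23909 = n22591 := d1_2 (iv F43310) D23909 (iv D22591)
theorem F46644 : act 4 n23909 = n22638 := d3_2 (iv F43311) D23909 (iv D22638)
theorem F46645 : act 5 n23909 = n22756 := d4_2 (iv F43312) D23909 F43652
def n23910 : Q := act 3 n22589
theorem D23910 : act 3 n22589 = n23910 := rfl
theorem F46646 : act 1 n23910 = n22590 := d6_1 D23910 (iv D22590) D22589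
theorem F46647 : act 5 n23910 = n22757 := d13_2 (iv F43312) D23910 (iv D22757)
def n23911 : Q := act 4 n22592
theorem D23911 : act 4 n22592 = n23911 := rfl
theorem F46648 : act 0 n23911 = n23271 := d3_1 D23911 (iv D23271) (iv F43320)
theorem F46649 : act 1 n23911 = n22594 := d7_1 D23911 (iv D22594) (iv F43321)
theorem F46650 : act 2 n23911 = n23758 := d10_1 D23911 (iv D23758) F43323
theorem F46651 : act 3 n23911 = n23822 := d15_1 (iv F46650) (iv D23822) (iv D22464) F38415 (iv F34842) (iv F40288) D23029 (iv F44396) (iv F46264)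
def n23912 : Q := act 3 n22593
theorem D23912 : act 3 n22593 = n23912 := rfl
theorem F46652 : act 0 n23912 = n23518 := d2_1 D23912 (iv D23518) (iv F43324)
theorem F46653 : act 1 n23912 = n22595 := d6_1 D23912 (iv D22595) (iv F43325)
theorem F46654 : act 4 n23912 = n23822 := d12_2 D22593 D23912 (iv F46651) (iv D23911) (iv D22592)
theorem F46655 : act 2 n23912 = n23821 := d15_6 F46571 (iv F46639) F46638 (iv D23509) (iv F43326) D23912 (iv D23821) (iv F46281) (iv F46569)
def n23913 : Q := act 5 n22593
theorem D23913 : act 5 n22593 = n23913 := rfl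
theorem F46656 : act 0 n23913 = n23517 := d4_1 D23913 F45654 (iv F43324)
theorem F46657 : act 1 n23913 = n22596 := d8_1 D23913 (iv D22596) (iv F43325)
theorem F46658 : act 2 n23913 = n23510 := d11_1 D23913 (iv D23510) (iv F43326)
theorem F46659 : act 4 n23913 = n23513 := d14_1 D23913 (iv D23513) (iv D21984) (iv F38937) D22593
def n23914 : Q := act 3 n22594
theorem D23914 : act 3 n22594 = n23914 := rfl
theorem F46660 : act 0 n23914 = n22598 := d2_1 D23914 (iv D22598) (iv F43327)
theorem F46661 : act 1 n23914 = n23822 := d6_1 D23914 (iv F46651) F46649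
theorem F46662 : act 4 n23914 = n22595 := d12_2 D22594 D23914 (iv D22595) (iv D20751) D20750
def n23915 : Q := act 5 n22594
theorem D23915 : act 5 n22594 = n23915 := rfl
theorem F46663 : act 0 n23915 = n22599 := d4_1 D23915 (iv D22599) (iv F43327)
theorem F46664 : act 2 n23915 = n22628 := d11_1 D23915 F43399 (iv F43328)
theorem F46665 : act 4 n23915 = n22627 := d14_1 D23915 (iv D22627) (iv D20780) (iv F38940) D22594
def n23916 : Q := act 2 n22595
theorem D23916 : act 2 n22595 = n23916 := rfl
theorem F46666 : act 0 n23916 = n22600 := d1_1 D23916 (iv D22600) (iv F43329)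
theorem F46667 : act 3 n23916 = n22612 := d15_1 D23916 F43367 F38977 F33007 (iv F32992) (iv F38955) (iv F43343) (iv D22601) (iv F43329)
theorem F46668 : act 5 n22611 = n23916 := d13_0 F46667 (iv D22612) D22611
def n23917 : Q := act 5 n22595
theorem D23917 : act 5 n22595 = n23917 := rfl
theorem F46669 : act 0 n23917 = n22601 := d4_1 D23917 (iv D22601) (iv F43329)
theorem F46670 : act 2 n23917 = n22611 := d11_1 D23917 F46668 (iv D23916)
theorem F46671 : act 3 n23917 = n22596 := d13_1 D23917 (iv D22596) D22595
theorem F46672 : act 4 n23536 = n23917 := d10_0 F46670 F43366 D23536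
def n23918 : Q := act 1 n22597
theorem D23918 : act 1 n22597 = n23918 := rfl
theorem F46673 : act 2 n23918 = n22774 := d5_2 D22597 D23918 F43691 F39387 (iv F38948)
theorem F46674 : act 3 n23918 = n22632 := d6_2 (iv F43336) D23918 (iv D22632)
theorem F46675 : act 4 n23918 = n23534 := d7_2 (iv F43334) D23918 (iv D23534)
theorem F46676 : act 5 n23918 = n22607 := d8_2 (iv F43335) D23918 (iv D22607)
def n23919 : Q := act 2 n22598
theorem D23919 : act 2 n22598 = n23919 := rfl
theorem F46677 : act 4 n23919 = n22600 := d10_2 (iv F43338) D23919 (iv D22600)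
def n23920 : Q := act 5 n22598
theorem D23920 : act 5 n22598 = n23920 := rfl
theorem F46678 : act 1 n23920 = n23528 := d8_1 D23920 F45678 (iv F43337)
theorem F46679 : act 3 n23920 = n22599 := d13_1 D23920 (iv D22599) D22598
theorem F46680 : act 4 n23526 = n23920 := d12_0 F46679 F43341 (iv F45669) F45668 D23526
def n23921 : Q := act 1 n22600
theorem D23921 : act 1 n22600 = n23921 := rfl
theorem F46681 : act 2 n23921 = n23533 := d5_2 D22600 D23921 (iv D23533) (iv D22008) (iv F38953)
def n23922 : Q := act 3 n22600
theorem D23922 : act 3 n22600 = n23922 := rfl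
theorem F46682 : act 0 n23922 = n22612 := d2_1 D23922 (iv F46667) F46666
theorem F46683 : act 2 n23922 = n22604 := d9_1 D23922 F43351 F38962 (iv F38945) (iv F43331) (iv F46671) F46670 (iv D22611) (iv D20765) (iv D18240) F26602 (iv F26578) (iv F32990) D20755 D22600
theorem F46684 : act 5 n23922 = n22603 := d15_8 (iv D20765) (iv D18240) F26602 (iv F26578) (iv F32990) D20755 D22600 D23922 F43348
def n23923 : Q := act 5 n22600
theorem D23923 : act 5 n22600 = n23923 := rfl
theorem F46685 : act 0 n23923 = n22611 := d4_1 D23923 F46668 F46666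
theorem F46686 : act 2 n23923 = n22601 := d11_1 D23923 (iv D22601) D22600
theorem F46687 : act 3 n23923 = n22603 := d13_1 D23923 (iv F46684) (iv D23922)
theorem F46688 : act 4 n23535 = n23923 := d12_0 F46687 F43349 (iv F43336) F43334 D23535
def n23924 : Q := act 4 n22601
theorem D23924 : act 4 n22601 = n23924 := rfl
theorem F46689 : act 0 n23924 = n23536 := d3_1 D23924 F46672 F46669
theorem F46690 : act 1 n23924 = n23531 := d7_1 D23924 F45687 (iv F43342)
theorem F46691 : act 2 n23924 = n23535 := d10_1 D23924 F46688 F46686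
theorem F46692 : act 3 n23924 = n23527 := d12_1 D23924 F45677 F41944 (iv F38956) (iv F43343)
theorem F46693 : act 5 n23924 = n23526 := d14_2 D22601 D23924 F46680 (iv D23920) F43338
def n23925 : Q := act 1 n22603
theorem D23925 : act 1 n22603 = n23925 := rfl
theorem F46694 : act 4 n23925 = n22632 := d7_2 (iv F43349) D23925 (iv D22632)
def n23926 : Q := act 4 n22604
theorem D23926 : act 4 n22604 = n23926 := rfl
theorem F46695 : act 0 n23926 = n22613 := d3_1 D23926 (iv D22613) (iv F43350)
theorem F46696 : act 5 n23926 = n22631 := d14_2 D22604 D23926 (iv D22631) F39012 (iv F38960)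
def n23927 : Q := act 2 n22605
theorem D23927 : act 2 n22605 = n23927 := rfl
theorem F46697 : act 0 n23927 = n22616 := d1_1 D23927 (iv D22616) (iv F43352)
theorem F46698 : act 1 n23927 = n23572 := d5_1 D23927 (iv D23572) F42091 (iv F39019) (iv F43353)
theorem F46699 : act 4 n23927 = n23491 := d10_2 (iv F43354) D23927 F45592
theorem F46700 : act 5 n23927 = n22606 := d11_2 (iv F43355) D23927 (iv D22606)
def n23928 : Q := act 1 n22606
theorem D23928 : act 1 n22606 = n23928 := rfl
theorem F46701 : act 2 n23928 = n22636 := d5_2 D22606 D23928 (iv D22636) (iv D20788) (iv F38967)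
theorem F46702 : act 4 n23928 = n22607 := d7_2 (iv F43357) D23928 (iv D22607)
theorem F46703 : act 5 n23928 = n23572 := d8_2 F46700 D23928 (iv F46698)
def n23929 : Q := act 3 n22606
theorem D23929 : act 3 n22606 = n23929 := rfl
theorem F46704 : act 0 n23929 = n22618 := d2_1 D23929 (iv D22618) (iv F43356)
def n23930 : Q := act 0 n22607
theorem D23930 : act 0 n22607 = n23930 := rfl
theorem F46705 : act 1 n23930 = n22619 := d0_2 D22607 D23930 (iv D22619) (iv D20771) (iv F38969)
theorem F46706 : act 2 n23930 = n22772 := d1_2 (iv F43358) D23930 (iv D22772)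
def n23931 : Q := act 3 n22607
theorem D23931 : act 3 n22607 = n23931 := rfl
theorem F46707 : act 1 n23931 = n22608 := d6_1 D23931 (iv D22608) D22607
theorem F46708 : act 5 n23931 = n22632 := d13_2 F46676 D23931 (iv F46674)
def n23932 : Q := act 4 n22608
theorem D23932 : act 4 n22608 = n23932 := rfl
theorem F46709 : act 0 n23932 = n22621 := d3_1 D23932 (iv D22621) (iv F43359)
theorem F46710 : act 2 n23932 = n22631 := d10_1 D23932 (iv D22631) (iv F43360)
def n23933 : Q := act 4 n22609
theorem D23933 : act 4 n22609 = n23933 := rfl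
theorem F46711 : act 0 n23933 = n22631 := d3_1 D23933 (iv D22631) (iv F43362)
theorem F46712 : act 1 n23933 = n22613 := d7_1 D23933 (iv D22613) (iv F43363)
theorem F46713 : act 2 n23933 = n22621 := d10_1 D23933 (iv D22621) (iv F43364)
theorem F46714 : act 3 n23933 = n22635 := d12_1 D23933 (iv D22635) F39013 (iv F38976) (iv F43365)
theorem F46715 : act 5 n23933 = n22613 := d14_2 D22609 D23933 (iv D22613) (iv D20766) (iv F38972)
def n23934 : Q := act 0 n22610
theorem D23934 : act 0 n22610 = n23934 := rfl
def n23935 : Q := act 3 n22610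
theorem D23935 : act 3 n22610 = n23935 := rfl
theorem F46716 : act 1 n23935 = n22611 := d6_1 D23935 (iv D22611) D22610
theorem F46717 : act 4 n23935 = n23485 := d12_2 (iv F46600) D23935 (iv D23485) (iv F43255) D23897
theorem F46718 : act 2 n23935 = n23768 := d15_4 D22570 D23897 (iv F46599) D23935 (iv D23768) (iv F43251) F43252 F43248 F43245
theorem F46719 : act 0 n23770 = n23935 := d1_3 F46718 F46286 D23770
theorem F46720 : act 3 n23934 = n23770 := d2_0 F46719 (iv D23935) D23934
def n23936 : Q := act 5 n22610
theorem D23936 : act 5 n22610 = n23936 := rfl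
theorem F46721 : act 1 n23936 = n22612 := d8_1 D23936 (iv D22612) D22610
theorem F46722 : act 2 n23936 = n22620 := d11_1 D23936 (iv F46598) (iv F46599)
def n23937 : Q := act 4 n22612
theorem D23937 : act 4 n22612 = n23937 := rfl
theorem F46723 : act 2 n23937 = n22613 := d10_1 D23937 (iv D22613) (iv F43367)
theorem F46724 : act 5 n23937 = n22621 := d14_2 D22612 D23937 (iv D22621) (iv F43345) (iv F43347)
def n23938 : Q := act 3 n22613
theorem D23938 : act 3 n22613 = n23938 := rfl
theorem F46725 : act 1 n23938 = n22635 := d6_1 D23938 (iv F46714) F46712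
theorem F46726 : act 4 n23938 = n22614 := d12_2 D22613 D23938 (iv D22614) (iv D20767) (iv F38977)
theorem F46727 : act 5 n23938 = n22635 := d13_2 F46715 D23938 (iv F46714)
def n23939 : Q := act 2 n22614
theorem D23939 : act 2 n22614 = n23939 := rfl
theorem F46728 : act 5 n23939 = n22615 := d11_2 (iv F43369) D23939 (iv D22615)
def n23940 : Q := act 1 n22615
theorem D23940 : act 1 n22615 = n23940 := rfl
theorem F46729 : act 2 n23940 = n22633 := d5_2 D22615 D23940 (iv D22633) (iv D20786) (iv F38981)
theorem F46730 : act 4 n23940 = n22633 := d7_2 (iv F43370) D23940 (iv D22633)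
def n23941 : Q := act 3 n22615
theorem D23941 : act 3 n22615 = n23941 := rfl
def n23942 : Q := act 3 n22616
theorem D23942 : act 3 n22616 = n23942 := rfl
theorem F46731 : act 1 n23942 = n22743 := d6_1 D23942 (iv D22743) (iv F43371)
theorem F46732 : act 5 n23942 = n22618 := d13_2 (iv F43373) D23942 (iv D22618)
def n23943 : Q := act 0 n22617
theorem D23943 : act 0 n22617 = n23943 := rfl
theorem F46733 : act 2 n23943 = n22622 := d1_2 (iv F43374) D23943 (iv D22622)
theorem F46734 : act 4 n23943 = n22619 := d3_2 (iv F43375) D23943 (iv D22619)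
theorem F46735 : act 5 n23943 = n22742 := d4_2 (iv F43376) D23943 F43629
def n23944 : Q := act 3 n22617
theorem D23944 : act 3 n22617 = n23944 := rfl
theorem F46736 : act 1 n23944 = n22618 := d6_1 D23944 (iv D22618) D22617
theorem F46737 : act 5 n23944 = n22743 := d13_2 (iv F43376) D23944 (iv D22743)
def n23945 : Q := act 2 n22618
theorem D23945 : act 2 n22618 = n23945 := rfl
def n23946 : Q := act 4 n22618
theorem D23946 : act 4 n22618 = n23946 := rfl
theorem F46738 : act 3 n23946 = n22621 := d12_1 D23946 (iv D22621) (iv D20772) (iv F38986) D22618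
def n23947 : Q := act 3 n22619
theorem D23947 : act 3 n22619 = n23947 := rfl
theorem F46739 : act 0 n23947 = n22620 := d2_1 D23947 (iv D22620) D22619
def n23948 : Q := act 4 n22620
theorem D23948 : act 4 n22620 = n23948 := rfl
theorem F46740 : act 1 n23948 = n22621 := d7_1 D23948 (iv D22621) (iv F43378)
def n23949 : Q := act 3 n22625
theorem D23949 : act 3 n22625 = n23949 := rfl
theorem F46741 : act 0 n23949 = n23514 := d2_1 D23949 (iv D23514) (iv F43391)
theorem F46742 : act 1 n23949 = n22626 := d6_1 D23949 (iv D22626) (iv F43392)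
theorem F46743 : act 4 n23949 = n23512 := d12_2 D22625 D23949 (iv D23512) (iv D21984) (iv F39004)
theorem F46744 : act 5 n23875 = n23949 := d4_0 F46741 F45646 D23875
def n23950 : Q := act 5 n22625
theorem D23950 : act 5 n22625 = n23950 := rfl
theorem F46745 : act 0 n23950 = n23160 := d4_1 D23950 F44793 (iv F43391)
theorem F46746 : act 1 n23950 = n22627 := d8_1 D23950 (iv D22627) (iv F43392)
theorem F46747 : act 2 n23950 = n22808 := d11_1 D23950 (iv F43805) (iv F43393)
theorem F46748 : act 3 n23950 = n23875 := d13_1 D23950 F46744 (iv D23949)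
def n23951 : Q := act 2 n22626
theorem D23951 : act 2 n22626 = n23951 := rfl
theorem F46749 : act 0 n23951 = n23524 := d1_1 D23951 (iv D23524) (iv F43394)
theorem F46750 : act 3 n23951 = n22627 := d9_2 D22626 D23951 F43397 F39008 F36853 (iv F36855) (iv F41942) (iv F45669) (iv D23524) (iv D21996) F36801 (iv D17113) (iv F30550) (iv F33051) (iv F39006)
theorem F46751 : act 4 n23951 = n23522 := d10_2 (iv F43395) D23951 (iv D23522)
theorem F46752 : act 1 n23875 = n23951 := d6_3 F46750 (iv F46746) F46748
theorem F46753 : act 5 n22626 = n23951 := d13_0 F46750 (iv D22627) D22626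
def n23952 : Q := act 3 n22628
theorem D23952 : act 3 n22628 = n23952 := rfl
theorem F46754 : act 0 n23952 = n22731 := d2_1 D23952 F43606 (iv F43398)
theorem F46755 : act 1 n23952 = n23548 := d6_1 D23952 F45732 F43480
theorem F46756 : act 4 n23952 = n22726 := d12_2 D22628 D23952 F43601 F39270 (iv F39008)
theorem F46757 : act 5 n23952 = n22629 := d13_2 (iv F43399) D23952 (iv D22629)
def n23953 : Q := act 2 n22629
theorem D23953 : act 2 n22629 = n23953 := rfl
theorem F46758 : act 0 n23953 = n22736 := d1_1 D23953 F43612 (iv F43400)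
theorem F46759 : act 4 n23953 = n22630 := d10_2 (iv F43401) D23953 (iv D22630)
def n23954 : Q := act 1 n22630
theorem D23954 : act 1 n22630 = n23954 := rfl
theorem F46760 : act 3 n23954 = n22633 := d6_2 (iv F43403) D23954 (iv D22633)
theorem F46761 : act 5 n23954 = n22727 := d8_2 (iv F43404) D23954 (iv D22727)
def n23955 : Q := act 0 n22632
theorem D23955 : act 0 n22632 = n23955 := rfl
def n23956 : Q := act 0 n22633
theorem D23956 : act 0 n22633 = n23956 := rfl
def n23957 : Q := act 5 n22633
theorem D23957 : act 5 n22633 = n23957 := rfl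
theorem F46762 : act 1 n23957 = n22634 := d8_1 D23957 (iv D22634) D22633
theorem F46763 : act 3 n23957 = n22727 := d13_1 D23957 (iv F46761) F46760
def n23958 : Q := act 4 n22634
theorem D23958 : act 4 n22634 = n23958 := rfl
theorem F46764 : act 0 n23958 = n22735 := d3_1 D23958 (iv D22735) (iv F43405)
theorem F46765 : act 2 n23958 = n22635 := d10_1 D23958 (iv D22635) (iv F43406)
def n23959 : Q := act 0 n22636
theorem D23959 : act 0 n22636 = n23959 := rfl
theorem F46766 : act 1 n23959 = n22638 := d0_2 D22636 D23959 (iv D22638) (iv D20790) (iv F39014)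
theorem F46767 : act 3 n23959 = n23571 := d2_2 (iv F43408) D23959 F45796
theorem F46768 : act 4 n23959 = n22772 := d3_2 (iv F43409) D23959 (iv D22772)
theorem F46769 : act 5 n23959 = n23495 := d4_2 (iv F43410) D23959 F45599
def n23960 : Q := act 3 n22638
theorem D23960 : act 3 n22638 = n23960 := rfl
theorem F46770 : act 0 n23960 = n22639 := d2_1 D23960 (iv D22639) D22638
theorem F46771 : act 1 n23960 = n23571 := d6_1 D23960 (iv F46767) F46766
theorem F46772 : act 2 n23960 = n23341 := d9_1 D23960 (iv D23341) (iv D21752) (iv D19561) F29890 D17031 D19806 D21954 F41846 (iv D19823) F30453 (iv F30439) (iv F36710) (iv F39033) (iv F43416)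
theorem F46773 : act 5 n23960 = n23476 := d13_2 (iv F43417) D23960 F45560
def n23961 : Q := act 3 n22640
theorem D23961 : act 3 n22640 = n23961 := rfl
theorem F46774 : act 0 n23961 = n23570 := d2_1 D23961 F45795 (iv F43421)
theorem F46775 : act 1 n23961 = n23473 := d6_1 D23961 (iv D23473) (iv F43422)
theorem F46776 : act 4 n23961 = n22798 := d12_2 D22640 D23961 (iv D22798) F39506 (iv F39029)
theorem F46777 : act 5 n23961 = n23488 := d13_2 (iv F43424) D23961 (iv D23488)
theorem F46778 : act 2 n23961 = n22833 := d15_2 (iv F43423) D23961 (iv D22833) (iv F43864) F43865 F41835 (iv F39390) (iv F43415) F43411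
def n23962 : Q := act 1 n22641
theorem D23962 : act 1 n22641 = n23962 := rfl
theorem F46779 : act 3 n23962 = n23559 := d6_2 (iv F43427) D23962 F45761
theorem F46780 : act 4 n23962 = n22643 := d7_2 (iv F43426) D23962 (iv D22643)
theorem F46781 : act 5 n23962 = n23558 := d8_2 F43428 D23962 F45760
def n23963 : Q := act 4 n22642
theorem D23963 : act 4 n22642 = n23963 := rfl
theorem F46782 : act 0 n23963 = n22645 := d3_1 D23963 (iv D22645) (iv F43429)
theorem F46783 : act 2 n23963 = n23560 := d10_1 D23963 (iv D23560) (iv F43430)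
theorem F46784 : act 5 n23963 = n22645 := d14_2 D22642 D23963 (iv D22645) (iv D20798) (iv F39036)
def n23964 : Q := act 5 n22643
theorem D23964 : act 5 n22643 = n23964 := rfl
theorem F46785 : act 1 n23964 = n22644 := d8_1 D23964 (iv D22644) D22643
theorem F46786 : act 2 n23964 = n22733 := d11_1 D23964 (iv F46495) F46493
theorem F46787 : act 3 n23964 = n23552 := d13_1 D23964 F45743 (iv F43432)
def n23965 : Q := act 4 n22644
theorem D23965 : act 4 n22644 = n23965 := rfl
theorem F46788 : act 0 n23965 = n23560 := d3_1 D23965 (iv D23560) (iv F43433)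
theorem F46789 : act 2 n23965 = n22645 := d10_1 D23965 (iv D22645) (iv F43434)
theorem F46790 : act 5 n23965 = n23560 := d14_2 D22644 D23965 (iv D23560) F43428 F43426
def n23966 : Q := act 3 n22646
theorem D23966 : act 3 n22646 = n23966 := rfl
theorem F46791 : act 0 n23966 = n22753 := d2_1 D23966 (iv F46613) F46612
theorem F46792 : act 1 n23966 = n22647 := d6_1 D23966 (iv D22647) D22646
theorem F46793 : act 4 n23966 = n23579 := d12_2 (iv F43436) D23966 (iv D23579) (iv D22069) (iv F39413)
theorem F46794 : act 5 n23966 = n23511 := d13_2 F46624 D23966 F46625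
def n23967 : Q := act 1 n22648
theorem D23967 : act 1 n22648 = n23967 := rfl
theorem F46795 : act 2 n23967 = n22748 := d5_2 D22648 D23967 F43642 (iv F43279) F43277
theorem F46796 : act 3 n23967 = n23510 := d6_2 (iv F43442) D23967 F45639
theorem F46797 : act 5 n23967 = n23509 := d8_2 (iv F43443) D23967 F45638
def n23968 : Q := act 4 n22648
theorem D23968 : act 4 n22648 = n23968 := rfl
theorem F46798 : act 0 n23968 = n22755 := d3_1 D23968 F43651 (iv F43441)
theorem F46799 : act 2 n23968 = n22649 := d10_1 D23968 (iv D22649) D22648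
theorem F46800 : act 5 n23968 = n22749 := d14_2 (iv F43443) D23968 (iv D22749) (iv F43309) F43308
theorem F46801 : act 3 n23781 = n23968 := d13_3 F46800 F43644 D23781
def n23969 : Q := act 2 n22650
theorem D23969 : act 2 n22650 = n23969 := rfl
theorem F46802 : act 3 n23969 = n22819 := d15_1 D23969 (iv D22819) (iv D21038) F33858 (iv F33088) (iv F39054) D22650 F45076 F45073
def n23970 : Q := act 5 n22652
theorem D23970 : act 5 n22652 = n23970 := rfl
theorem F46803 : act 0 n23970 = n23601 := d4_1 D23970 (iv D23601) (iv F43450)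
theorem F46804 : act 1 n23970 = n23598 := d8_1 D23970 F45867 F45852
theorem F46805 : act 2 n23970 = n23599 := d11_1 D23970 F45871 (iv F43451)
theorem F46806 : act 4 n23970 = n23611 := d14_1 D23970 F45907 (iv D23608) F42250 D22652
def n23971 : Q := act 2 n22656
theorem D23971 : act 2 n22656 = n23971 := rfl
theorem F46807 : act 0 n23971 = n22658 := d1_1 D23971 (iv D22658) (iv F43463)
def n23972 : Q := act 3 n22658
theorem D23972 : act 3 n22658 = n23972 := rfl
def n23973 : Q := act 3 n22659
theorem D23973 : act 3 n22659 = n23973 := rfl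
theorem F46808 : act 0 n23973 = n22660 := d2_1 D23973 (iv D22660) (iv F43467)
theorem F46809 : act 1 n23973 = n23398 := d6_1 D23973 F45370 (iv F43468)
theorem F46810 : act 4 n23973 = n23395 := d12_2 D22659 D23973 (iv D23395) F41517 (iv F39095)
def n23974 : Q := act 2 n22660
theorem D23974 : act 2 n22660 = n23974 := rfl
def n23975 : Q := act 2 n22661
theorem D23975 : act 2 n22661 = n23975 := rfl
theorem F46811 : act 0 n23975 = n22663 := d1_1 D23975 (iv D22663) (iv F43471)
def n23976 : Q := act 3 n22663
theorem D23976 : act 3 n22663 = n23976 := rfl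
def n23977 : Q := act 2 n22665
theorem D23977 : act 2 n22665 = n23977 := rfl
theorem F46812 : act 0 n23977 = n23834 := d1_1 D23977 F46435 F45607
theorem F46813 : act 4 n23977 = n22667 := d10_2 (iv F43478) D23977 (iv D22667)
def n23978 : Q := act 1 n22667
theorem D23978 : act 1 n22667 = n23978 := rfl
theorem F46814 : act 2 n23978 = n23954 := d5_2 D22667 D23978 (iv D23954) (iv D22630) (iv F39138)
theorem F46815 : act 5 n23978 = n23858 := d8_2 (iv F43482) D23978 (iv D23858)
def n23979 : Q := act 3 n22667
theorem D23979 : act 3 n22667 = n23979 := rfl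
theorem F46816 : act 0 n23979 = n22676 := d2_1 D23979 (iv F45606) F45604
theorem F46817 : act 2 n23979 = n22671 := d9_1 D23979 F43492 F39145 F33237 F32457 D19807 D21955 F41848 (iv D20845) (iv D18346) F26857 (iv F26847) (iv F33224) D20838 D22667
theorem F46818 : act 5 n23979 = n22670 := d13_2 (iv F43482) D23979 F43490
def n23980 : Q := act 2 n22668
theorem D23980 : act 2 n22668 = n23980 := rfl
theorem F46819 : act 0 n23980 = n23382 := d1_1 D23980 (iv D23382) (iv F43483)
def n23981 : Q := act 5 n22668
theorem D23981 : act 5 n22668 = n23981 := rfl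
theorem F46820 : act 0 n23981 = n23383 := d4_1 D23981 (iv D23383) (iv F43483)
theorem F46821 : act 1 n23981 = n22671 := d8_1 D23981 (iv D22671) (iv F43484)
theorem F46822 : act 3 n23981 = n22669 := d13_1 D23981 (iv D22669) D22668
def n23982 : Q := act 1 n22670
theorem D23982 : act 1 n22670 = n23982 := rfl
theorem F46823 : act 3 n23982 = n23858 := d6_2 (iv F43490) D23982 (iv D23858)
def n23983 : Q := act 4 n22671
theorem D23983 : act 4 n22671 = n23983 := rfl
theorem F46824 : act 0 n23983 = n22677 := d3_1 D23983 (iv D22677) (iv F43491)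
theorem F46825 : act 3 n23983 = n23586 := d12_1 D23983 (iv D23586) F42160 (iv F39146) (iv F43492)
def n23984 : Q := act 1 n22672
theorem D23984 : act 1 n22672 = n23984 := rfl
theorem F46826 : act 3 n23984 = n23550 := d6_2 F45735 D23984 F45737
theorem F46827 : act 4 n23984 = n22675 := d7_2 (iv F43493) D23984 (iv D22675)
def n23985 : Q := act 4 n22673
theorem D23985 : act 4 n22673 = n23985 := rfl
theorem F46828 : act 1 n23985 = n23081 := d7_1 D23985 (iv F45811) F45808
theorem F46829 : act 3 n23985 = n23587 := d12_1 D23985 F45841 F43499 (iv D22674) (iv F43494)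
theorem F46830 : act 5 n23985 = n22677 := d14_2 D22673 D23985 (iv D22677) (iv D20846) (iv F39147)
def n23986 : Q := act 0 n22675
theorem D23986 : act 0 n22675 = n23986 := rfl
def n23987 : Q := act 5 n22675
theorem D23987 : act 5 n22675 = n23987 := rfl
theorem F46831 : act 1 n23987 = n22676 := d8_1 D23987 (iv D22676) D22675
theorem F46832 : act 2 n23987 = n23779 := d11_1 D23987 F46309 F45802
theorem F46833 : act 3 n23987 = n23833 := d13_1 D23987 F46434 F45602
def n23988 : Q := act 4 n22676
theorem D23988 : act 4 n22676 = n23988 := rfl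
theorem F46834 : act 2 n23988 = n22677 := d10_1 D23988 (iv D22677) (iv F43500)
def n23989 : Q := act 3 n22684
theorem D23989 : act 3 n22684 = n23989 := rfl
theorem F46835 : act 1 n23989 = n22685 := d6_1 D23989 (iv D22685) D22684
theorem F46836 : act 2 n23989 = n23349 := d15_2 (iv F45288) D23989 (iv D23349) (iv D21765) (iv D19580) (iv F30004) D19622 (iv F41448) (iv F45284)
def n23990 : Q := act 2 n22685
theorem D23990 : act 2 n22685 = n23990 := rfl
theorem F46837 : act 0 n23990 = n22691 := d1_1 D23990 (iv D22691) (iv F43518)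
theorem F46838 : act 3 n23990 = n22686 := d9_2 D22685 D23990 F43520 F39218 F33323 (iv F33328) (iv F39222) (iv F43525) (iv D22691) (iv D20876) (iv D18390) (iv D15424) (iv F26974) D18386 D20871
theorem F46839 : act 5 n22685 = n23990 := d13_0 F46838 (iv D22686) D22685
def n23991 : Q := act 3 n22688
theorem D23991 : act 3 n22688 = n23991 := rfl
theorem F46840 : act 0 n23991 = n22689 := d2_1 D23991 (iv D22689) D22688
def n23992 : Q := act 2 n22689
theorem D23992 : act 2 n22689 = n23992 := rfl
def n23993 : Q := act 4 n22689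
theorem D23993 : act 4 n22689 = n23993 := rfl
theorem F46841 : act 1 n23993 = n22692 := d7_1 D23993 (iv D22692) (iv F43523)
theorem F46842 : act 3 n23993 = n22694 := d12_1 D23993 (iv D22694) (iv D20879) (iv F39221) D22689
def n23994 : Q := act 5 n22689
theorem D23994 : act 5 n22689 = n23994 := rfl
theorem F46843 : act 1 n23994 = n22691 := d8_1 D23994 (iv F43526) (iv F43523)
theorem F46844 : act 3 n23994 = n22690 := d13_1 D23994 (iv D22690) D22689
def n23995 : Q := act 4 n22691
theorem D23995 : act 4 n22691 = n23995 := rfl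
theorem F46845 : act 2 n23995 = n22692 := d10_1 D23995 (iv D22692) D22691
def n23996 : Q := act 4 n22693
theorem D23996 : act 4 n22693 = n23996 := rfl
theorem F46846 : act 0 n23996 = n22694 := d3_1 D23996 (iv D22694) (iv F43528)
theorem F46847 : act 2 n23996 = n23057 := d10_1 D23996 (iv D23057) (iv F43529)
theorem F46848 : act 5 n23996 = n23056 := d14_2 (iv F43530) D23996 (iv D23056) (iv D21359) D21358
def n23997 : Q := act 3 n22696
theorem D23997 : act 3 n22696 = n23997 := rfl
theorem F46849 : act 1 n23997 = n22697 := d6_1 D23997 (iv D22697) D22696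
theorem F46850 : act 4 n23997 = n23730 := d12_2 (iv F43536) D23997 (iv D23730) F42644 (iv F39228)
def n23998 : Q := act 2 n22697
theorem D23998 : act 2 n22697 = n23998 := rfl
theorem F46851 : act 0 n23998 = n22703 := d1_1 D23998 (iv D22703) (iv F43537)
theorem F46852 : act 3 n23998 = n22700 := d9_2 D22697 D23998 (iv D22700) (iv D20887) F33363 (iv F32286) (iv F38426) D22471 D23827 F46420 (iv D22695) (iv D20882) F33345 D18402 D20883
theorem F46853 : act 4 n23998 = n23684 := d10_2 F46010 D23998 F46070
theorem F46854 : act 5 n23998 = n22702 := d11_2 F45041 D23998 (iv F45039)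
theorem F46855 : act 1 n23094 = n23998 := d6_3 F46852 F43546 D23094
def n23999 : Q := act 1 n22699
theorem D23999 : act 1 n22699 = n23999 := rfl
theorem F46856 : act 0 n23999 = n23187 := d0_1 D23999 F44853 F43257 D22572 (iv F43542)
theorem F46857 : act 2 n23999 = n23089 := d5_2 D22699 D23999 F44590 F40505 (iv F39235)
theorem F46858 : act 4 n23999 = n22701 := d7_2 (iv F43543) D23999 (iv D22701)
theorem F46859 : act 5 n23999 = n23086 := d8_2 (iv F43544) D23999 F44582
def n24000 : Q := act 3 n22701
theorem D24000 : act 3 n22701 = n24000 := rfl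
theorem F46860 : act 1 n24000 = n22702 := d6_1 D24000 (iv D22702) D22701
theorem F46861 : act 5 n24000 = n23094 := d13_2 (iv F43550) D24000 (iv D23094)
def n24001 : Q := act 5 n22704
theorem D24001 : act 5 n22704 = n24001 := rfl
theorem F46862 : act 2 n24001 = n23686 := d11_1 D24001 (iv D23686) (iv F43554)
theorem F46863 : act 3 n24001 = n22708 := d13_1 D24001 (iv D22708) (iv F43555)
def n24002 : Q := act 4 n22705
theorem D24002 : act 4 n22705 = n24002 := rfl
theorem F46864 : act 0 n24002 = n22707 := d3_1 D24002 (iv D22707) (iv F43556)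
theorem F46865 : act 1 n24002 = n23726 := d7_1 D24002 F46191 (iv F43557)
def n24003 : Q := act 3 n22706
theorem D24003 : act 3 n22706 = n24003 := rfl
theorem F46866 : act 0 n24003 = n22714 := d2_1 D24003 (iv F45995) F45993
theorem F46867 : act 1 n24003 = n23609 := d6_1 D24003 (iv F45984) F45982
theorem F46868 : act 2 n24003 = n22713 := d9_1 D24003 (iv D22713) (iv D20898) (iv D18424) (iv F33382) D20894 D22709 F45931 F45929 F42282 F37998 F31833 (iv F33366) D20891 D22706
theorem F46869 : act 5 n24003 = n22710 := d13_2 (iv F43559) D24003 (iv D22710)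
theorem F46870 : act 4 n23597 = n24003 := d14_5 F46869 (iv F43564) (iv D22108) D22107 D23597
def n24004 : Q := act 4 n22706
theorem D24004 : act 4 n22706 = n24004 := rfl
theorem F46871 : act 2 n24004 = n22707 := d10_1 D24004 (iv D22707) D22706
def n24005 : Q := act 5 n22707
theorem D24005 : act 5 n22707 = n24005 := rfl
theorem F46872 : act 1 n24005 = n22708 := d8_1 D24005 (iv D22708) (iv F43560)
theorem F46873 : act 4 n24005 = n22712 := d14_1 D24005 (iv D22712) (iv D20896) (iv F39244) D22707
def n24006 : Q := act 5 n22711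
theorem D24006 : act 5 n22711 = n24006 := rfl
theorem F46874 : act 1 n24006 = n23610 := d8_1 D24006 (iv D23610) (iv F43565)
theorem F46875 : act 2 n24006 = n22712 := d11_1 D24006 (iv D22712) (iv F43566)
theorem F46876 : act 3 n24006 = n23596 := d13_1 D24006 F45864 (iv F43567)
def n24007 : Q := act 5 n22716
theorem D24007 : act 5 n22716 = n24007 := rfl
theorem F46877 : act 0 n24007 = n22723 := d4_1 D24007 F43595 (iv F43573)
theorem F46878 : act 1 n24007 = n23769 := d8_1 D24007 F46290 (iv F43574)
theorem F46879 : act 2 n24007 = n22722 := d11_1 D24007 F43592 (iv F43576)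
theorem F46880 : act 3 n24007 = n22717 := d13_1 D24007 (iv D22717) D22716
def n24008 : Q := act 2 n22719
theorem D24008 : act 2 n22719 = n24008 := rfl
theorem F46881 : act 0 n24008 = n23060 := d1_1 D24008 F44504 (iv F43585)
theorem F46882 : act 3 n24008 = n23059 := d9_2 D22719 D24008 F44500 F40838 F38027 F31868 (iv F32168) D20485 D22417 (iv F44509) F44508 (iv D22353) F38023 D20386 (iv F39258)
theorem F46883 : act 4 n24008 = n22720 := d10_2 (iv F43586) D24008 (iv D22720)
theorem F46884 : act 5 n24008 = n23760 := d11_2 (iv F43587) D24008 F46269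
theorem F46885 : act 1 n23064 = n24008 := d6_3 F46882 F44499 D23064
def n24009 : Q := act 1 n22720
theorem D24009 : act 1 n22720 = n24009 := rfl
theorem F46886 : act 0 n24009 = n23067 := d0_1 D24009 F44525 (iv F43898) (iv F44014) F44013
theorem F46887 : act 3 n24009 = n23063 := d6_2 (iv F43588) D24009 F44516
theorem F46888 : act 4 n24009 = n23064 := d7_2 F46883 D24009 F46885
def n24010 : Q := act 3 n22721
theorem D24010 : act 3 n22721 = n24010 := rfl
theorem F46889 : act 0 n24010 = n22921 := d2_1 D24010 F44060 (iv F43589)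
theorem F46890 : act 1 n24010 = n22722 := d6_1 D24010 (iv D22722) D22721
theorem F46891 : act 2 n24010 = n23882 := d9_1 D24010 (iv D23882) F43175 (iv F39126) (iv F41731) F41732 F38148 D21164 D22920 (iv F46117) F46116 F42515 (iv F41724) D23460 (iv F45527)
theorem F46892 : act 5 n24010 = n22919 := d13_2 (iv F43590) D24010 (iv D22919)
def n24011 : Q := act 4 n22722
theorem D24011 : act 4 n22722 = n24011 := rfl
theorem F46893 : act 0 n24011 = n22724 := d3_1 D24011 (iv D22724) (iv F43591)
def n24012 : Q := act 4 n22723
theorem D24012 : act 4 n22723 = n24012 := rfl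
theorem F46894 : act 1 n24012 = n23028 := d7_1 D24012 F44392 (iv F43593)
theorem F46895 : act 2 n24012 = n22724 := d10_1 D24012 (iv D22724) D22723
theorem F46896 : act 3 n24012 = n23027 := d12_1 D24012 F44389 F42915 D22426 (iv F43594)
theorem F46897 : act 5 n24012 = n23825 := d14_2 (iv F43595) D24012 (iv D23825) (iv D22468) F39902
def n24013 : Q := act 1 n22725
theorem D24013 : act 1 n22725 = n24013 := rfl
theorem F46898 : act 2 n24013 = n23545 := d5_2 D22725 D24013 (iv D23545) (iv D22025) (iv F39265)
theorem F46899 : act 4 n24013 = n22727 := d7_2 (iv F43598) D24013 (iv D22727)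
def n24014 : Q := act 3 n22725
theorem D24014 : act 3 n22725 = n24014 := rfl
theorem F46900 : act 0 n24014 = n22729 := d2_1 D24014 (iv D22729) (iv F43597)
def n24015 : Q := act 5 n22725
theorem D24015 : act 5 n22725 = n24015 := rfl
theorem F46901 : act 0 n24015 = n22730 := d4_1 D24015 (iv D22730) (iv F43597)
theorem F46902 : act 2 n24015 = n22726 := d11_1 D24015 (iv D22726) D22725
def n24016 : Q := act 0 n22727
theorem D24016 : act 0 n22727 = n24016 := rfl
theorem F46903 : act 1 n24016 = n22732 := d0_2 D22727 D24016 (iv D22732) (iv D20911) (iv F39271)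
def n24017 : Q := act 0 n22728
theorem D24017 : act 0 n22728 = n24017 := rfl
theorem F46904 : act 2 n24017 = n23318 := d1_2 (iv F43602) D24017 F45169
theorem F46905 : act 4 n24017 = n22732 := d3_2 (iv F43603) D24017 (iv D22732)
def n24018 : Q := act 3 n22728
theorem D24018 : act 3 n22728 = n24018 := rfl
theorem F46906 : act 1 n24018 = n22729 := d6_1 D24018 (iv D22729) D22728
def n24019 : Q := act 5 n22728
theorem D24019 : act 5 n22728 = n24019 := rfl
theorem F46907 : act 1 n24019 = n22730 := d8_1 D24019 (iv D22730) D22728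
theorem F46908 : act 2 n24019 = n23343 := d11_1 D24019 F45224 (iv F43602)
def n24020 : Q := act 2 n22729
theorem D24020 : act 2 n22729 = n24020 := rfl
theorem F46909 : act 3 n24020 = n22730 := d15_3 D20909 D22729 D24020 F43604 F39274 (iv F39269) (iv F43601) (iv D22726) F39264
theorem F46910 : act 5 n22729 = n24020 := d13_0 F46909 (iv D22730) D22729
def n24021 : Q := act 4 n22729
theorem D24021 : act 4 n22729 = n24021 := rfl
theorem F46911 : act 3 n24021 = n22735 := d12_1 D24021 (iv D22735) (iv D20912) (iv F39272) D22729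
def n24022 : Q := act 4 n22730
theorem D24022 : act 4 n22730 = n24022 := rfl
theorem F46912 : act 2 n24022 = n22731 := d10_1 D24022 (iv D22731) (iv F43604)
theorem F46913 : act 5 n24022 = n22736 := d14_2 D22730 D24022 (iv D22736) (iv D20913) (iv F39272)
def n24023 : Q := act 3 n22732
theorem D24023 : act 3 n22732 = n24023 := rfl
theorem F46914 : act 0 n24023 = n22733 := d2_1 D24023 (iv D22733) D22732
def n24024 : Q := act 5 n22732
theorem D24024 : act 5 n22732 = n24024 := rfl
theorem F46915 : act 0 n24024 = n22734 := d4_1 D24024 (iv D22734) D22732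
theorem F46916 : act 2 n24024 = n23499 := d11_1 D24024 (iv D23499) (iv F43608)
def n24025 : Q := act 4 n22733
theorem D24025 : act 4 n22733 = n24025 := rfl
theorem F46917 : act 1 n24025 = n22735 := d7_1 D24025 (iv D22735) (iv F43609)
def n24026 : Q := act 4 n22734
theorem D24026 : act 4 n22734 = n24026 := rfl
theorem F46918 : act 1 n24026 = n22736 := d7_1 D24026 (iv D22736) (iv F43610)
theorem F46919 : act 2 n24026 = n23500 := d10_1 D24026 (iv D23500) (iv F43611)
def n24027 : Q := act 5 n22735
theorem D24027 : act 5 n22735 = n24027 := rfl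
def n24028 : Q := act 3 n22736
theorem D24028 : act 3 n22736 = n24028 := rfl
def n24029 : Q := act 2 n22737
theorem D24029 : act 2 n22737 = n24029 := rfl
theorem F46920 : act 0 n24029 = n22738 := d1_1 D24029 (iv D22738) (iv F43613)
theorem F46921 : act 4 n24029 = n23880 := d10_2 (iv F43615) D24029 (iv D23880)
theorem F46922 : act 5 n24029 = n23502 := d11_2 (iv F43616) D24029 (iv D23502)
def n24030 : Q := act 3 n22738
theorem D24030 : act 3 n22738 = n24030 := rfl
def n24031 : Q := act 5 n22738
theorem D24031 : act 5 n22738 = n24031 := rfl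
theorem F46923 : act 0 n24031 = n23502 := d4_1 D24031 (iv F46922) F46920
theorem F46924 : act 2 n24031 = n22740 := d11_1 D24031 (iv D22740) D22738
theorem F46925 : act 4 n24031 = n23762 := d14_1 D24031 F46272 (iv F46538) F46539 (iv F45268)
def n24032 : Q := act 1 n22742
theorem D24032 : act 1 n22742 = n24032 := rfl
theorem F46926 : act 0 n24032 = n23572 := d0_1 D24032 (iv F46698) F46697 F43371 (iv F43629)
theorem F46927 : act 2 n24032 = n23495 := d5_2 D22742 D24032 (iv D23495) (iv D21953) (iv F39292)
theorem F46928 : act 4 n24032 = n23489 := d7_2 (iv F43630) D24032 (iv D23489)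
def n24033 : Q := act 3 n22742
theorem D24033 : act 3 n22742 = n24033 := rfl
theorem F46929 : act 0 n24033 = n22743 := d2_1 D24033 (iv D22743) (iv F43629)
def n24034 : Q := act 2 n22743
theorem D24034 : act 2 n22743 = n24034 := rfl
theorem F46930 : act 3 n24034 = n23502 := d15_3 D20922 D22743 D24034 (iv D23502) (iv D21966) (iv F39296) (iv F43380) F43382 F39291
def n24035 : Q := act 4 n22743
theorem D24035 : act 4 n22743 = n24035 := rfl
theorem F46931 : act 3 n24035 = n23494 := d12_1 D24035 (iv D23494) (iv D21951) (iv F39298) D22743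
def n24036 : Q := act 0 n22744
theorem D24036 : act 0 n22744 = n24036 := rfl
theorem F46932 : act 1 n24036 = n22745 := d0_2 D22744 D24036 (iv D22745) (iv D20928) (iv F39316)
theorem F46933 : act 2 n24036 = n23765 := d1_2 F46571 D24036 (iv F46569)
theorem F46934 : act 4 n24036 = n23501 := d3_2 (iv F43631) D24036 F45616
theorem F46935 : act 5 n24036 = n22747 := d4_2 (iv F43632) D24036 (iv D22747)
def n24037 : Q := act 3 n22745
theorem D24037 : act 3 n22745 = n24037 := rfl
theorem F46936 : act 0 n24037 = n22746 := d2_1 D24037 (iv D22746) D22745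
theorem F46937 : act 4 n24037 = n23506 := d12_2 (iv F43634) D24037 (iv D23506) (iv D21973) (iv F41873)
theorem F46938 : act 5 n24037 = n22750 := d13_2 (iv F43635) D24037 (iv D22750)
def n24038 : Q := act 2 n22746
theorem D24038 : act 2 n22746 = n24038 := rfl
theorem F46939 : act 4 n24038 = n23507 := d10_2 (iv F43637) D24038 (iv D23507)
theorem F46940 : act 5 n24038 = n22751 := d11_2 (iv F43638) D24038 (iv D22751)
def n24039 : Q := act 3 n22747
theorem D24039 : act 3 n22747 = n24039 := rfl
theorem F46941 : act 0 n24039 = n22748 := d2_1 D24039 (iv D22748) D22747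
theorem F46942 : act 1 n24039 = n22750 := d6_1 D24039 (iv D22750) (iv F43639)
theorem F46943 : act 4 n24039 = n23129 := d12_2 (iv F43641) D24039 (iv D23129) F40598 D21463
def n24040 : Q := act 4 n22748
theorem D24040 : act 4 n22748 = n24040 := rfl
theorem F46944 : act 0 n24040 = n23129 := d3_1 D24040 (iv F46943) F46941
theorem F46945 : act 1 n24040 = n22749 := d7_1 D24040 (iv D22749) (iv F43642)
theorem F46946 : act 3 n24040 = n22946 := d12_1 D24040 F44146 (iv F43179) F43180 D22748
def n24041 : Q := act 2 n22750
theorem D24041 : act 2 n22750 = n24041 := rfl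
theorem F46947 : act 0 n24041 = n22751 := d1_1 D24041 (iv D22751) (iv F43645)
def n24042 : Q := act 4 n22750
theorem D24042 : act 4 n22750 = n24042 := rfl
theorem F46948 : act 0 n24042 = n22752 := d3_1 D24042 (iv D22752) (iv F43645)
theorem F46949 : act 1 n24042 = n23129 := d7_1 D24042 (iv F46943) F46942
theorem F46950 : act 3 n24042 = n22827 := d12_1 D24042 (iv D22827) F43192 F43190 D22750
def n24043 : Q := act 1 n22751
theorem D24043 : act 1 n22751 = n24043 := rfl
theorem F46951 : act 2 n24043 = n22753 := d5_2 D22751 D24043 (iv D22753) (iv D20935) (iv F39328)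
def n24044 : Q := act 3 n22751
theorem D24044 : act 3 n22751 = n24044 := rfl
def n24045 : Q := act 4 n22751
theorem D24045 : act 4 n22751 = n24045 := rfl
theorem F46952 : act 2 n24045 = n22752 := d10_1 D24045 (iv D22752) D22751
def n24046 : Q := act 5 n22752
theorem D24046 : act 5 n22752 = n24046 := rfl
theorem F46953 : act 1 n24046 = n22755 := d8_1 D24046 (iv D22755) (iv F43646)
theorem F46954 : act 3 n24046 = n23483 := d13_1 D24046 (iv F46553) F46552
theorem F46955 : act 4 n24046 = n22771 := d14_1 D24046 F43689 (iv F43637) F43638 D22752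
def n24047 : Q := act 4 n22753
theorem D24047 : act 4 n22753 = n24047 := rfl
theorem F46956 : act 0 n24047 = n23579 := d3_1 D24047 (iv F46793) F46791
theorem F46957 : act 1 n24047 = n22754 := d7_1 D24047 (iv D22754) D22753
theorem F46958 : act 3 n24047 = n23578 := d12_1 D24047 (iv D23578) (iv F43711) (iv F46614) F46613
theorem F46959 : act 5 n24047 = n23579 := d14_2 F46629 D24047 (iv F46793) F46794 (iv F46628)
def n24048 : Q := act 1 n22756
theorem D24048 : act 1 n22756 = n24048 := rfl
theorem F46960 : act 0 n24048 = n22774 := d0_1 D24048 F43691 F39386 (iv F39330) (iv F43652)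
theorem F46961 : act 5 n24048 = n22772 := d8_2 F46645 D24048 (iv F46642)
def n24049 : Q := act 3 n22756
theorem D24049 : act 3 n22756 = n24049 := rfl
theorem F46962 : act 0 n24049 = n22757 := d2_1 D24049 (iv D22757) (iv F43652)
def n24050 : Q := act 2 n22757
theorem D24050 : act 2 n22757 = n24050 := rfl
theorem F46963 : act 1 n24050 = n22766 := d5_1 D24050 (iv D22766) F39359 D20953 (iv F43653)
def n24051 : Q := act 4 n22757
theorem D24051 : act 4 n22757 = n24051 := rfl
theorem F46964 : act 1 n24051 = n22768 := d7_1 D24051 F43681 (iv F43653)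
def n24052 : Q := act 1 n22759
theorem D24052 : act 1 n22759 = n24052 := rfl
theorem F46965 : act 3 n24052 = n22774 := d6_2 (iv F43658) D24052 F43691
theorem F46966 : act 4 n24052 = n23254 := d7_2 (iv F43659) D24052 (iv D23254)
theorem F46967 : act 5 n24052 = n22773 := d8_2 (iv F43660) D24052 F43690
def n24053 : Q := act 3 n22760
theorem D24053 : act 3 n22760 = n24053 := rfl
theorem F46968 : act 0 n24053 = n22764 := d2_1 D24053 (iv D22764) (iv F43661)
theorem F46969 : act 1 n24053 = n22859 := d6_1 D24053 (iv D22859) (iv F43662)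
theorem F46970 : act 4 n24053 = n22761 := d12_2 D22760 D24053 (iv D22761) (iv D20945) D20944
theorem F46971 : act 5 n24053 = n22864 := d13_2 (iv F43664) D24053 (iv D22864)
def n24054 : Q := act 2 n22761
theorem D24054 : act 2 n22761 = n24054 := rfl
theorem F46972 : act 0 n24054 = n22766 := d1_1 D24054 (iv D22766) (iv F43665)
theorem F46973 : act 3 n24054 = n23507 := d15_1 D24054 (iv D23507) (iv D21975) F36760 (iv F33585) (iv F39361) (iv F43679) (iv D22767) (iv F43665)
def n24055 : Q := act 5 n22761
theorem D24055 : act 5 n22761 = n24055 := rfl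
theorem F46974 : act 0 n24055 = n22767 := d4_1 D24055 (iv D22767) (iv F43665)
theorem F46975 : act 1 n24055 = n22889 := d8_1 D24055 (iv F44571) F44569
theorem F46976 : act 3 n24055 = n22762 := d13_1 D24055 (iv D22762) D22761
theorem F46977 : act 4 n24055 = n22887 := d14_1 D24055 (iv D22887) (iv F43960) (iv F46971) F46970
def n24056 : Q := act 3 n22763
theorem D24056 : act 3 n22763 = n24056 := rfl
theorem F46978 : act 0 n24056 = n23259 := d2_1 D24056 (iv D23259) (iv F43670)
theorem F46979 : act 1 n24056 = n23247 := d6_1 D24056 (iv D23247) (iv F43671)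
theorem F46980 : act 4 n24056 = n23266 := d12_2 D22763 D24056 (iv D23266) (iv D21671) (iv F39356)
def n24057 : Q := act 5 n22763
theorem D24057 : act 5 n22763 = n24057 := rfl
theorem F46981 : act 0 n24057 = n22857 := d4_1 D24057 F43944 (iv F43670)
theorem F46982 : act 1 n24057 = n23248 := d8_1 D24057 (iv D23248) (iv F43671)
theorem F46983 : act 2 n24057 = n22765 := d11_1 D24057 (iv D22765) (iv F43672)
theorem F46984 : act 4 n24057 = n22855 := d14_1 D24057 (iv D22855) F39751 (iv F39357) D22763
def n24058 : Q := act 2 n22764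
theorem D24058 : act 2 n22764 = n24058 := rfl
theorem F46985 : act 4 n24058 = n22766 := d10_2 (iv F43674) D24058 (iv D22766)
def n24059 : Q := act 5 n22764
theorem D24059 : act 5 n22764 = n24059 := rfl
theorem F46986 : act 0 n24059 = n22864 := d4_1 D24059 (iv F46971) F46968
theorem F46987 : act 1 n24059 = n22769 := d8_1 D24059 (iv D22769) (iv F43673)
theorem F46988 : act 3 n24059 = n22765 := d13_1 D24059 (iv D22765) D22764
theorem F46989 : act 4 n24059 = n22885 := d14_1 D24059 (iv F46531) F46530 (iv D22767) (iv F43674)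
def n24060 : Q := act 3 n22766
theorem D24060 : act 3 n22766 = n24060 := rfl
theorem F46990 : act 0 n24060 = n23507 := d2_1 D24060 (iv F46973) F46972
theorem F46991 : act 2 n24060 = n23506 := d15_2 D22766 D24060 (iv D23506) F41894 (iv F39381) (iv F43668) (iv F46976) (iv D24055) F43665
def n24061 : Q := act 5 n22766
theorem D24061 : act 5 n22766 = n24061 := rfl
theorem F46992 : act 2 n24061 = n22767 := d11_1 D24061 (iv D22767) D22766
def n24062 : Q := act 1 n22770
theorem D24062 : act 1 n22770 = n24062 := rfl
theorem F46993 : act 0 n24062 = n23510 := d0_1 D24062 F45639 F41912 (iv F39383) (iv F43685)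
theorem F46994 : act 2 n24062 = n23517 := d5_2 D22770 D24062 F45653 F41933 (iv F39376)
theorem F46995 : act 4 n24062 = n23480 := d7_2 (iv F43686) D24062 (iv D23480)
theorem F46996 : act 5 n24062 = n23505 := d8_2 (iv F43687) D24062 F45631
def n24063 : Q := act 3 n22770
theorem D24063 : act 3 n22770 = n24063 := rfl
theorem F46997 : act 0 n24063 = n22771 := d2_1 D24063 (iv D22771) (iv F43685)
theorem F46998 : act 5 n24063 = n23506 := d13_2 (iv F43687) D24063 (iv D23506)
def n24064 : Q := act 2 n22771
theorem D24064 : act 2 n22771 = n24064 := rfl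
theorem F46999 : act 5 n24064 = n23507 := d11_2 (iv F43689) D24064 (iv D23507)
def n24065 : Q := act 3 n22772
theorem D24065 : act 3 n22772 = n24065 := rfl
theorem F47000 : act 0 n24065 = n22773 := d2_1 D24065 (iv D22773) D22772
def n24066 : Q := act 4 n22774
theorem D24066 : act 4 n22774 = n24066 := rfl
theorem F47001 : act 1 n24066 = n22775 := d7_1 D24066 (iv D22775) (iv F43691)
theorem F47002 : act 2 n24066 = n23534 := d10_1 D24066 (iv F46675) F46673
theorem F47003 : act 5 n24066 = n23573 := d14_2 D22774 D24066 (iv D23573) (iv F43410) F43409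
def n24067 : Q := act 3 n22775
theorem D24067 : act 3 n22775 = n24067 := rfl
theorem F47004 : act 0 n24067 = n23488 := d2_1 D24067 (iv D23488) (iv F43692)
theorem F47005 : act 4 n24067 = n23255 := d12_2 D22775 D24067 (iv D23255) (iv F43659) F43658
theorem F47006 : act 5 n24067 = n23570 := d13_2 (iv F43694) D24067 F45795
def n24068 : Q := act 2 n22782
theorem D24068 : act 2 n22782 = n24068 := rfl
theorem F47007 : act 0 n24068 = n22789 := d1_1 D24068 (iv D22789) (iv F43722)
theorem F47008 : act 3 n24068 = n22786 := d9_2 D22782 D24068 F43735 F39443 F33647 (iv F33651) (iv F39444) D22788 F43742 (iv D22401) F38228 F32117 F27911 D18522 D20975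
theorem F47009 : act 4 n24068 = n22792 := d10_2 (iv F43724) D24068 (iv D22792)
theorem F47010 : act 5 n22785 = n24068 := d13_0 F47008 (iv D22786) D22785
def n24069 : Q := act 5 n22782
theorem D24069 : act 5 n22782 = n24069 := rfl
theorem F47011 : act 0 n24069 = n22788 := d4_1 D24069 F43741 (iv F43722)
theorem F47012 : act 1 n24069 = n22790 := d8_1 D24069 (iv F43747) (iv F43723)
theorem F47013 : act 2 n24069 = n22785 := d11_1 D24069 F47010 (iv D24068)
theorem F47014 : act 3 n24069 = n22783 := d13_1 D24069 (iv D22783) D22782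
theorem F47015 : act 4 n24069 = n22788 := d14_1 D24069 F43741 D22790 (iv F43747) (iv F43724)
def n24070 : Q := act 3 n22784
theorem D24070 : act 3 n22784 = n24070 := rfl
theorem F47016 : act 0 n24070 = n23156 := d2_1 D24070 (iv D23156) (iv F43729)
theorem F47017 : act 1 n24070 = n22785 := d6_1 D24070 (iv D22785) D22784
theorem F47018 : act 4 n24070 = n22956 := d12_2 (iv F43731) D24070 (iv D22956) F40052 D21225
def n24071 : Q := act 5 n22784
theorem D24071 : act 5 n22784 = n24071 := rfl
theorem F47019 : act 0 n24071 = n23157 := d4_1 D24071 (iv D23157) (iv F43729)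
theorem F47020 : act 1 n24071 = n22786 := d8_1 D24071 (iv D22786) D22784
theorem F47021 : act 2 n24071 = n22809 := d11_1 D24071 (iv D22809) (iv F43730)
theorem F47022 : act 4 n24071 = n23791 := d14_1 D24071 (iv D23791) (iv D22404) (iv F40058) (iv F43731)
def n24072 : Q := act 4 n22786
theorem D24072 : act 4 n22786 = n24072 := rfl
theorem F47023 : act 0 n24072 = n22962 := d3_1 D24072 F44198 (iv F43734)
theorem F47024 : act 1 n24072 = n23791 := d7_1 D24072 (iv F47022) F47020
theorem F47025 : act 2 n24072 = n22787 := d10_1 D24072 (iv D22787) (iv F43735)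
theorem F47026 : act 3 n24072 = n23869 := d12_1 D24072 F46523 (iv F43751) (iv F47009) F47008
theorem F47027 : act 5 n24072 = n22793 := d14_2 D22786 D24072 F43753 F40101 (iv F39440)
def n24073 : Q := act 1 n22789
theorem D24073 : act 1 n22789 = n24073 := rfl
theorem F47028 : act 2 n24073 = n22956 := d5_2 D22789 D24073 F44177 (iv F43742) F43740
theorem F47029 : act 3 n24073 = n22957 := d6_2 (iv F43744) D24073 F44179
theorem F47030 : act 5 n24073 = n22956 := d8_2 (iv F43743) D24073 F44177
theorem F47031 : act 0 n23158 = n24073 := d4_3 F47030 F44176 F44788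
def n24074 : Q := act 4 n22789
theorem D24074 : act 4 n22789 = n24074 := rfl
theorem F47032 : act 0 n24074 = n22792 := d3_1 D24074 (iv F47009) F47007
theorem F47033 : act 2 n24074 = n22790 := d10_1 D24074 (iv D22790) D22789
theorem F47034 : act 3 n24074 = n23868 := d12_1 D24074 F46520 (iv F44197) F44198 (iv F43744)
theorem F47035 : act 5 n24074 = n22792 := d14_2 (iv F43743) D24074 (iv F47009) (iv F47010) F43733
def n24075 : Q := act 3 n22791
theorem D24075 : act 3 n22791 = n24075 := rfl
theorem F47036 : act 0 n24075 = n23867 := d2_1 D24075 (iv D23867) (iv F43748)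
theorem F47037 : act 1 n24075 = n22883 := d6_1 D24075 (iv D22883) (iv F43749)
theorem F47038 : act 4 n24075 = n23253 := d12_2 D22791 D24075 F45009 F41093 (iv F39455)
theorem F47039 : act 5 n24075 = n23788 := d13_2 F46204 D24075 F46327
def n24076 : Q := act 1 n22792
theorem D24076 : act 1 n22792 = n24076 := rfl
theorem F47040 : act 3 n24076 = n23870 := d6_2 (iv F43751) D24076 (iv D23870)
def n24077 : Q := act 3 n22793
theorem D24077 : act 3 n22793 = n24077 := rfl
theorem F47041 : act 0 n24077 = n22961 := d2_1 D24077 (iv D22961) (iv F43752)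
theorem F47042 : act 1 n24077 = n23790 := d6_1 D24077 (iv D23790) F43754
theorem F47043 : act 2 n24077 = n23544 := d9_1 D24077 (iv D23544) F41994 (iv F39461) (iv F43719) F43720 (iv F44196) F44197 (iv D22528) (iv D20654) F32650 (iv F27369) (iv F33669) D20988 D22793
theorem F47044 : act 4 n24077 = n22961 := d12_2 (iv F43753) D24077 (iv D22961) (iv D21238) (iv F40100)
theorem F47045 : act 5 n24077 = n23869 := d13_2 F47027 D24077 (iv F47026)
def n24078 : Q := act 1 n22795
theorem D24078 : act 1 n22795 = n24078 := rfl
theorem F47046 : act 0 n24078 = n23841 := d0_1 D24078 F46455 F43040 (iv F39493) (iv F43760)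
theorem F47047 : act 2 n24078 = n23901 := d5_2 D22795 D24078 (iv D23901) (iv D22575) (iv F39490)
theorem F47048 : act 3 n24078 = n23128 := d6_2 (iv F43761) D24078 F44705
theorem F47049 : act 4 n24078 = n23461 := d7_2 (iv F43762) D24078 (iv D23461)
theorem F47050 : act 5 n24078 = n23127 := d8_2 (iv F43763) D24078 F44702
def n24079 : Q := act 3 n22797
theorem D24079 : act 3 n22797 = n24079 := rfl
theorem F47051 : act 0 n24079 = n23478 := d2_1 D24079 (iv D23478) F43771
theorem F47052 : act 1 n24079 = n22798 := d6_1 D24079 (iv D22798) D22797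
theorem F47053 : act 4 n24079 = n23473 := d12_2 (iv F43770) D24079 (iv D23473) F41757 D21954
theorem F47054 : act 5 n24079 = n23268 := d13_2 F46633 D24079 (iv F46631)
theorem F47055 : act 2 n24079 = n23269 := d15_2 (iv F43769) D24079 F45047 F41136 F36631 (iv F36647) (iv F41795) (iv D21932) (iv F41782)
def n24080 : Q := act 2 n22800
theorem D24080 : act 2 n22800 = n24080 := rfl
theorem F47056 : act 4 n24080 = n23382 := d10_2 (iv F43777) D24080 (iv D23382)
def n24081 : Q := act 5 n22800
theorem D24081 : act 5 n22800 = n24081 := rfl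
theorem F47057 : act 1 n24081 = n22803 := d8_1 D24081 (iv D22803) (iv F43776)
theorem F47058 : act 3 n24081 = n22801 := d13_1 D24081 (iv D22801) D22800
def n24082 : Q := act 1 n22802
theorem D24082 : act 1 n22802 = n24082 := rfl
theorem F47059 : act 3 n24082 = n23016 := d6_2 (iv F43781) D24082 F44348
theorem F47060 : act 4 n24082 = n23404 := d7_2 (iv F43780) D24082 (iv D23404)
theorem F47061 : act 5 n24082 = n23015 := d8_2 F43782 D24082 F44347
def n24083 : Q := act 4 n22803
theorem D24083 : act 4 n22803 = n24083 := rfl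
theorem F47062 : act 0 n24083 = n23081 := d3_1 D24083 (iv F45811) F45807
theorem F47063 : act 2 n24083 = n23045 := d10_1 D24083 F44450 (iv F43783)
theorem F47064 : act 3 n24083 = n23239 := d12_1 D24083 F44973 F41539 (iv F39521) (iv F43784)
theorem F47065 : act 5 n24083 = n23238 := d14_2 D22803 D24083 F44970 F41541 (iv F39519)
def n24084 : Q := act 4 n22807
theorem D24084 : act 4 n22807 = n24084 := rfl
theorem F47066 : act 0 n24084 = n22959 := d3_1 D24084 (iv D22959) (iv F43799)
theorem F47067 : act 1 n24084 = n22839 := d7_1 D24084 F43883 (iv F43800)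
theorem F47068 : act 2 n24084 = n22841 := d10_1 D24084 F43888 (iv F43801)
theorem F47069 : act 3 n24084 = n22810 := d12_1 D24084 (iv D22810) (iv D21025) (iv F39576) D22807
theorem F47070 : act 5 n24084 = n23759 := d14_2 (iv F43802) D24084 (iv D23759) F44458 (iv D23047)
def n24085 : Q := act 4 n22808
theorem D24085 : act 4 n22808 = n24085 := rfl
theorem F47071 : act 0 n24085 = n23029 := d3_1 D24085 F44395 (iv F43803)
theorem F47072 : act 1 n24085 = n22810 := d7_1 D24085 (iv D22810) (iv F43804)
theorem F47073 : act 3 n24085 = n22839 := d12_1 D24085 F43883 F43798 F43796 D22808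
theorem F47074 : act 5 n24085 = n23758 := d14_2 F43805 D24085 (iv D23758) F42769 D22362
def n24086 : Q := act 1 n22811
theorem D24086 : act 1 n22811 = n24086 := rfl
theorem F47075 : act 2 n24086 = n23632 := d5_2 D22811 D24086 F45966 F42319 (iv F39600)
theorem F47076 : act 4 n24086 = n23630 := d7_2 (iv F43814) D24086 F45961
theorem F47077 : act 5 n24086 = n23631 := d8_2 F45214 D24086 F45964
def n24087 : Q := act 3 n22811
theorem D24087 : act 3 n22811 = n24087 := rfl
theorem F47078 : act 0 n24087 = n22813 := d2_1 D24087 (iv D22813) (iv F43813)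
theorem F47079 : act 4 n24087 = n24087 := d12_2 (iv F43814) D24087 (iv D24087) F43814 F42417
def n24088 : Q := act 0 n22812
theorem D24088 : act 0 n22812 = n24088 := rfl
theorem F47080 : act 2 n24088 = n22814 := d1_2 (iv F43815) D24088 (iv D22814)
def n24089 : Q := act 3 n22812
theorem D24089 : act 3 n22812 = n24089 := rfl
theorem F47081 : act 1 n24089 = n22813 := d6_1 D24089 (iv D22813) D22812
theorem F47082 : act 4 n24089 = n24089 := d12_2 (iv F44675) D24089 (iv D24089) F44675 F44674
def n24090 : Q := act 2 n22813
theorem D24090 : act 2 n22813 = n24090 := rfl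
theorem F47083 : act 4 n24090 = n24090 := d10_2 F43816 D24090 (iv D24090)
def n24091 : Q := act 3 n22816
theorem D24091 : act 3 n22816 = n24091 := rfl
theorem F47084 : act 0 n24091 = n23635 := d2_1 D24091 F45975 F45899
theorem F47085 : act 1 n24091 = n23619 := d6_1 D24091 (iv D23619) (iv F43820)
theorem F47086 : act 4 n24091 = n23640 := d12_2 D22816 D24091 F45989 (iv F43164) F43163
theorem F47087 : act 2 n23636 = n24091 := d10_3 F47086 F45988 (iv F45978)
def n24092 : Q := act 5 n22816
theorem D24092 : act 5 n22816 = n24092 := rfl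
theorem F47088 : act 0 n24092 = n23611 := d4_1 D24092 F45907 F45899
theorem F47089 : act 1 n24092 = n23604 := d8_1 D24092 F45885 (iv F43820)
theorem F47090 : act 2 n24092 = n22818 := d11_1 D24092 (iv D22818) (iv F43821)
theorem F47091 : act 4 n24092 = n23601 := d14_1 D24092 (iv D23601) F42211 (iv F39610) D22816
def n24093 : Q := act 2 n22817
theorem D24093 : act 2 n22817 = n24093 := rfl
theorem F47092 : act 4 n24093 = n22819 := d10_2 (iv F43823) D24093 (iv D22819)
def n24094 : Q := act 5 n22817
theorem D24094 : act 5 n22817 = n24094 := rfl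
theorem F47093 : act 0 n24094 = n23613 := d4_1 D24094 (iv F46189) F46186
theorem F47094 : act 1 n24094 = n23605 := d8_1 D24094 F45889 (iv F43822)
theorem F47095 : act 3 n24094 = n22818 := d13_1 D24094 (iv D22818) D22817
theorem F47096 : act 4 n24094 = n23613 := d14_1 D24094 (iv F46189) F46188 F42680 (iv F43823)
def n24095 : Q := act 3 n22822
theorem D24095 : act 3 n22822 = n24095 := rfl
theorem F47097 : act 0 n24095 = n23792 := d2_1 D24095 (iv D23792) (iv F43836)
theorem F47098 : act 1 n24095 = n23867 := d6_1 D24095 (iv D23867) (iv F43837)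
theorem F47099 : act 5 n24095 = n22830 := d13_2 (iv F43839) D24095 (iv D22830)
def n24096 : Q := act 3 n22823
theorem D24096 : act 3 n22823 = n24096 := rfl
theorem F47100 : act 0 n24096 = n23137 := d2_1 D24096 F44724 (iv F43840)
theorem F47101 : act 1 n24096 = n22825 := d6_1 D24096 (iv D22825) (iv F43841)
theorem F47102 : act 4 n24096 = n23134 := d12_2 D22823 D24096 (iv D23134) F40637 F39634
theorem F47103 : act 5 n24096 = n23193 := d13_2 (iv F43843) D24096 (iv D23193)
def n24097 : Q := act 3 n22824
theorem D24097 : act 3 n22824 = n24097 := rfl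
theorem F47104 : act 0 n24097 = n22828 := d2_1 D24097 (iv D22828) (iv F43844)
theorem F47105 : act 1 n24097 = n23134 := d6_1 D24097 (iv D23134) (iv F43845)
theorem F47106 : act 4 n24097 = n22825 := d12_2 D22824 D24097 (iv D22825) (iv D21046) D21045
theorem F47107 : act 5 n24011 = n24097 := d14_0 F47106 F44074 (iv D22928) (iv F43592) D24011
def n24098 : Q := act 5 n22824
theorem D24098 : act 5 n22824 = n24098 := rfl
theorem F47108 : act 0 n24098 = n22829 := d4_1 D24098 (iv D22829) (iv F43844)
theorem F47109 : act 1 n24098 = n23135 := d8_1 D24098 (iv D23135) (iv F43845)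
theorem F47110 : act 2 n24098 = n23483 := d11_1 D24098 (iv F46553) F46551
theorem F47111 : act 3 n24098 = n24011 := d13_1 D24098 F47107 (iv D24097)
theorem F47112 : act 4 n24098 = n23149 := d14_1 D24098 (iv D23149) (iv D21488) (iv F39637) D22824
def n24099 : Q := act 3 n22826
theorem D24099 : act 3 n22826 = n24099 := rfl
theorem F47113 : act 0 n24099 = n22830 := d2_1 D24099 (iv D22830) (iv F43847)
theorem F47114 : act 1 n24099 = n23270 := d6_1 D24099 F45050 (iv F43848)
theorem F47115 : act 4 n24099 = n23269 := d12_2 (iv F43849) D24099 F45047 F41137 D22361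
theorem F47116 : act 5 n24099 = n23792 := d13_2 (iv F43850) D24099 (iv D23792)
theorem F47117 : act 2 n24099 = n23473 := d15_2 D22826 D24099 (iv D23473) (iv D21920) (iv D19762) (iv F33901) D21043 F39630 (iv F39643)
def n24100 : Q := act 5 n22827
theorem D24100 : act 5 n22827 = n24100 := rfl
theorem F47118 : act 0 n24100 = n23483 := d4_1 D24100 (iv F46553) F46549
theorem F47119 : act 1 n24100 = n23130 := d8_1 D24100 (iv D23130) (iv F43851)
theorem F47120 : act 2 n24100 = n22829 := d11_1 D24100 (iv D22829) (iv F43852)
theorem F47121 : act 4 n24100 = n23150 := d14_1 D24100 (iv D23150) (iv D21489) (iv F39648) D22827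
def n24101 : Q := act 2 n22830
theorem D24101 : act 2 n22830 = n24101 := rfl
theorem F47122 : act 0 n24101 = n23473 := d1_1 D24101 (iv F47117) F47113
theorem F47123 : act 3 n24101 = n23472 := d9_2 D22830 D24101 (iv D23472) (iv D21919) F36603 D20857 (iv F42878) D23792 (iv F46564) (iv D23887) (iv D22557) (iv D20702) F32834 D18639 D21052
theorem F47124 : act 4 n23478 = n24101 := d12_0 F47123 F45549 (iv F45560) F45561 D23478
def n24102 : Q := act 4 n22830
theorem D24102 : act 4 n22830 = n24102 := rfl
theorem F47125 : act 0 n24102 = n23269 := d3_1 D24102 (iv F47115) F47113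
theorem F47126 : act 2 n24102 = n23478 := d10_1 D24102 F47124 (iv D24101)
theorem F47127 : act 3 n24102 = n23267 := d12_1 D24102 F45045 F42787 (iv F39651) D22830
theorem F47128 : act 5 n23266 = n24102 := d13_0 F47127 (iv D23267) D23266
def n24103 : Q := act 5 n22831
theorem D24103 : act 5 n22831 = n24103 := rfl
theorem F47129 : act 0 n24103 = n22834 := d4_1 D24103 (iv D22834) (iv F43859)
theorem F47130 : act 1 n24103 = n23785 := d8_1 D24103 (iv D23785) (iv F43860)
theorem F47131 : act 2 n24103 = n23482 := d11_1 D24103 F45572 (iv F43861)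
theorem F47132 : act 4 n24103 = n23780 := d14_1 D24103 (iv D23780) (iv D22387) (iv F39660) D22831
def n24104 : Q := act 5 n22832
theorem D24104 : act 5 n22832 = n24104 := rfl
theorem F47133 : act 0 n24104 = n23482 := d4_1 D24104 F45572 (iv F43862)
theorem F47134 : act 1 n24104 = n23783 := d8_1 D24104 (iv D23783) (iv F43863)
theorem F47135 : act 2 n24104 = n22834 := d11_1 D24104 (iv D22834) (iv F43864)
theorem F47136 : act 3 n24104 = n23481 := d13_1 D24104 F45570 (iv F43865)
theorem F47137 : act 4 n24104 = n23781 := d14_1 D24104 (iv D23781) (iv D22388) (iv F39662) D22832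
def n24105 : Q := act 2 n22836
theorem D24105 : act 2 n22836 = n24105 := rfl
theorem F47138 : act 0 n24105 = n23822 := d1_1 D24105 (iv D23822) (iv F43875)
theorem F47139 : act 1 n24105 = n23272 := d5_1 D24105 F45056 F44625 F42484 (iv F43876)
theorem F47140 : act 4 n24105 = n23518 := d10_2 F46567 D24105 F46568
theorem F47141 : act 3 n24105 = n23271 := d15_1 D24105 F45053 (iv F44399) F44398 F40298 (iv F42986) (iv F46408) (iv D23823) (iv F43875)
def n24106 : Q := act 5 n22836
theorem D24106 : act 5 n22836 = n24106 := rfl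
theorem F47142 : act 0 n24106 = n23823 := d4_1 D24106 (iv D23823) (iv F43875)
theorem F47143 : act 1 n24106 = n22838 := d8_1 D24106 (iv D22838) (iv F43876)
theorem F47144 : act 3 n24106 = n22837 := d13_1 D24106 (iv D22837) D22836
def n24107 : Q := act 4 n22838
theorem D24107 : act 4 n22838 = n24107 := rfl
theorem F47145 : act 0 n24107 = n23755 := d3_1 D24107 (iv F46589) F46586
theorem F47146 : act 3 n24107 = n23202 := d12_1 D24107 (iv D23202) F40894 (iv F39682) (iv F43881)
theorem F47147 : act 5 n24107 = n23754 := d14_2 D22838 D24107 F46576 (iv D23890) F43221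
def n24108 : Q := act 5 n22839
theorem D24108 : act 5 n22839 = n24108 := rfl
theorem F47148 : act 0 n24108 = n23030 := d4_1 D24108 (iv D23030) (iv F43882)
theorem F47149 : act 1 n24108 = n23759 := d8_1 D24108 (iv F47070) F47067
theorem F47150 : act 2 n24108 = n22840 := d11_1 D24108 (iv D22840) D22839
theorem F47151 : act 3 n24108 = n23758 := d13_1 D24108 (iv F47074) F47073
theorem F47152 : act 4 n24108 = n23050 := d14_1 D24108 (iv D23050) (iv D21348) (iv F40286) (iv F43883)
def n24109 : Q := act 0 n22841
theorem D24109 : act 0 n22841 = n24109 := rfl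
theorem F47153 : act 1 n24109 = n23011 := d0_2 D22841 D24109 F44337 F40262 (iv F39689)
theorem F47154 : act 2 n24109 = n22959 := d1_2 F47068 D24109 (iv F47066)
theorem F47155 : act 4 n24109 = n22958 := d3_2 (iv F43888) D24109 F44182
theorem F47156 : act 5 n23761 = n24109 := d14_0 F47155 F44185 D23059 (iv F44501) D23761
def n24110 : Q := act 3 n22841
theorem D24110 : act 3 n22841 = n24110 := rfl
theorem F47157 : act 1 n24110 = n22842 := d6_1 D24110 (iv D22842) D22841
theorem F47158 : act 4 n24110 = n23079 := d12_2 (iv F43888) D24110 (iv D23079) (iv D21397) (iv F40349)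
def n24111 : Q := act 5 n22841
theorem D24111 : act 5 n22841 = n24111 := rfl
theorem F47159 : act 0 n24111 = n23761 := d4_1 D24111 F47156 (iv D24109)
theorem F47160 : act 1 n24111 = n22843 := d8_1 D24111 (iv D22843) D22841
theorem F47161 : act 2 n24111 = n23759 := d11_1 D24111 (iv F47070) F47068
theorem F47162 : act 4 n24111 = n23061 := d14_1 D24111 (iv D23061) (iv D21373) (iv F40350) (iv F43888)
def n24112 : Q := act 1 n22850
theorem D24112 : act 1 n22850 = n24112 := rfl
theorem F47163 : act 2 n24112 = n22978 := d5_2 D22850 D24112 F44237 F40148 (iv F39734)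
theorem F47164 : act 4 n24112 = n22851 := d7_2 (iv F43921) D24112 (iv D22851)
theorem F47165 : act 5 n24112 = n22977 := d8_2 (iv F43922) D24112 F44235
def n24113 : Q := act 3 n22850
theorem D24113 : act 3 n22850 = n24113 := rfl
theorem F47166 : act 0 n24113 = n22867 := d2_1 D24113 (iv D22867) (iv F43920)
theorem F47167 : act 4 n24113 = n22877 := d12_2 (iv F43921) D24113 (iv D22877) (iv D21113) (iv F39738)
theorem F47168 : act 5 n24113 = n23256 := d13_2 (iv F43922) D24113 (iv D23256)
def n24114 : Q := act 3 n22857
theorem D24114 : act 3 n22857 = n24114 := rfl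
theorem F47169 : act 1 n24114 = n22858 := d6_1 D24114 (iv D22858) (iv F43942)
theorem F47170 : act 4 n24114 = n23792 := d12_2 D22857 D24114 (iv D23792) (iv F43941) F43940
theorem F47171 : act 5 n24114 = n23259 := d13_2 (iv F43944) D24114 (iv D23259)
def n24115 : Q := act 2 n22859
theorem D24115 : act 2 n22859 = n24115 := rfl
theorem F47172 : act 0 n24115 = n22904 := d1_1 D24115 F44028 (iv F43948)
theorem F47173 : act 4 n24115 = n22897 := d10_2 F44570 D24115 F44572
theorem F47174 : act 5 n24115 = n22865 := d11_2 (iv F43949) D24115 (iv D22865)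
def n24116 : Q := act 1 n22860
theorem D24116 : act 1 n22860 = n24116 := rfl
theorem F47175 : act 2 n24116 = n22949 := d5_2 D22860 D24116 F44154 F40025 (iv F39767)
theorem F47176 : act 4 n24116 = n22861 := d7_2 (iv F43951) D24116 (iv D22861)
theorem F47177 : act 5 n24116 = n22866 := d8_2 (iv F43952) D24116 (iv D22866)
def n24117 : Q := act 3 n22860
theorem D24117 : act 3 n22860 = n24117 := rfl
theorem F47178 : act 0 n24117 = n23256 := d2_1 D24117 (iv D23256) (iv F43950)
theorem F47179 : act 5 n24117 = n22867 := d13_2 (iv F43952) D24117 (iv D22867)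
theorem F47180 : act 2 n24117 = n22903 := d15_2 D22860 D24117 (iv D22903) F39835 F34141 (iv F34056) D21084 F39736 (iv F39766)
def n24118 : Q := act 4 n22862
theorem D24118 : act 4 n22862 = n24118 := rfl
theorem F47181 : act 0 n24118 = n23402 := d3_1 D24118 F45382 F44291
theorem F47182 : act 1 n24118 = n22863 := d7_1 D24118 (iv D22863) (iv F43955)
theorem F47183 : act 2 n24118 = n23413 := d10_1 D24118 (iv F45406) F44489
theorem F47184 : act 3 n24118 = n22869 := d12_1 D24118 (iv D22869) (iv D21107) (iv F39773) D22862
theorem F47185 : act 5 n23411 = n24118 := d11_0 F47183 (iv D23413) D23411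
def n24119 : Q := act 5 n22863
theorem D24119 : act 5 n22863 = n24119 := rfl
theorem F47186 : act 0 n24119 = n23044 := d4_1 D24119 (iv D23044) (iv F43956)
theorem F47187 : act 1 n24119 = n23411 := d8_1 D24119 F47185 F47182
theorem F47188 : act 2 n24119 = n23042 := d11_1 D24119 (iv D23042) (iv F43957)
theorem F47189 : act 3 n24119 = n22870 := d13_1 D24119 (iv D22870) (iv F43958)
def n24120 : Q := act 2 n22864
theorem D24120 : act 2 n22864 = n24120 := rfl
theorem F47190 : act 4 n24120 = n22886 := d10_2 (iv F43960) D24120 (iv D22886)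
def n24121 : Q := act 1 n22865
theorem D24121 : act 1 n22865 = n24121 := rfl
theorem F47191 : act 4 n24121 = n22888 := d7_2 (iv F43962) D24121 (iv D22888)
def n24122 : Q := act 3 n22865
theorem D24122 : act 3 n22865 = n24122 := rfl
theorem F47192 : act 0 n24122 = n22903 := d2_1 D24122 (iv D22903) (iv F43961)
theorem F47193 : act 4 n24122 = n22898 := d12_2 (iv F43962) D24122 (iv D22898) (iv D21134) (iv F39819)
theorem F47194 : act 2 n24122 = n23256 := d15_2 D22865 D24122 (iv D23256) (iv D21653) (iv D19390) (iv F34151) (iv F39837) (iv D21140) (iv F39782)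
def n24123 : Q := act 3 n22866
theorem D24123 : act 3 n22866 = n24123 := rfl
theorem F47195 : act 1 n24123 = n22867 := d6_1 D24123 (iv D22867) D22866
def n24124 : Q := act 2 n22867
theorem D24124 : act 2 n22867 = n24124 := rfl
theorem F47196 : act 3 n24124 = n22904 := d9_2 D22867 D24124 F44028 F39837 F34151 D19390 D21653 D23256 (iv F47194) (iv D24122) (iv D22865) (iv D21103) F34101 D18705 D21104
theorem F47197 : act 5 n24124 = n22903 := d11_2 F47179 D24124 (iv F47180)
def n24125 : Q := act 5 n22869
theorem D24125 : act 5 n22869 = n24125 := rfl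
theorem F47198 : act 0 n24125 = n23233 := d4_1 D24125 F44961 (iv F43968)
theorem F47199 : act 1 n24125 = n22870 := d8_1 D24125 (iv D22870) (iv F43969)
theorem F47200 : act 2 n24125 = n23236 := d11_1 D24125 F44967 (iv F43970)
theorem F47201 : act 3 n24125 = n23411 := d13_1 D24125 F47185 F47184
def n24126 : Q := act 0 n22872
theorem D24126 : act 0 n22872 = n24126 := rfl
theorem F47202 : act 1 n24126 = n23240 := d0_2 D22872 D24126 F44974 F41738 (iv F39793)
theorem F47203 : act 2 n24126 = n22875 := d1_2 (iv F43976) D24126 (iv D22875)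
theorem F47204 : act 3 n24126 = n23461 := d2_2 (iv F43977) D24126 F45528
theorem F47205 : act 5 n24126 = n22915 := d4_2 (iv F43978) D24126 (iv D22915)
theorem F47206 : act 4 n23235 = n24126 := d14_5 F47205 F44048 F41041 D21633 D23235
def n24127 : Q := act 4 n22872
theorem D24127 : act 4 n22872 = n24127 := rfl
theorem F47207 : act 0 n24127 = n23235 := d3_1 D24127 F47206 (iv D24126)
theorem F47208 : act 1 n24127 = n22873 := d7_1 D24127 (iv D22873) D22872
theorem F47209 : act 2 n24127 = n22876 := d10_1 D24127 (iv D22876) (iv F43976)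
theorem F47210 : act 5 n24127 = n23232 := d14_2 (iv F43978) D24127 (iv D23232) (iv F44046) F44045
theorem F47211 : act 3 n23241 = n24127 := d13_3 F47210 F44959 D23241
def n24128 : Q := act 3 n22873
theorem D24128 : act 3 n22873 = n24128 := rfl
theorem F47212 : act 0 n24128 = n23122 := d2_1 D24128 F44694 (iv F43979)
theorem F47213 : act 1 n24128 = n23241 := d6_1 D24128 F47211 F47208
theorem F47214 : act 4 n24128 = n23842 := d12_2 D22873 D24128 (iv D23842) (iv D22494) (iv F39794)
theorem F47215 : act 5 n24128 = n23120 := d13_2 (iv F43981) D24128 F44691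
def n24129 : Q := act 4 n22875
theorem D24129 : act 4 n22875 = n24129 := rfl
theorem F47216 : act 0 n24129 = n22876 := d3_1 D24129 (iv D22876) D22875
theorem F47217 : act 2 n24129 = n23235 := d10_1 D24129 F47206 F47203
theorem F47218 : act 5 n24129 = n23234 := d14_2 F46487 D24129 (iv D23234) (iv F44954) (iv F46486)
def n24130 : Q := act 3 n22876
theorem D24130 : act 3 n22876 = n24130 := rfl
theorem F47219 : act 1 n24130 = n22877 := d6_1 D24130 (iv D22877) (iv F43987)
def n24131 : Q := act 5 n22876
theorem D24131 : act 5 n22876 = n24131 := rfl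
theorem F47220 : act 0 n24131 = n23234 := d4_1 D24131 (iv F47218) F47216
theorem F47221 : act 1 n24131 = n22878 := d8_1 D24131 (iv D22878) (iv F43987)
theorem F47222 : act 2 n24131 = n23232 := d11_1 D24131 (iv F47210) F47209
theorem F47223 : act 4 n24131 = n23224 := d14_1 D24131 (iv F46482) F46481 F43062 D22876
def n24132 : Q := act 3 n22879
theorem D24132 : act 3 n22879 = n24132 := rfl
theorem F47224 : act 0 n24132 = n22881 := d2_1 D24132 (iv D22881) (iv F43989)
theorem F47225 : act 4 n24132 = n22881 := d12_2 D22879 D24132 (iv D22881) (iv D21117) (iv F39801)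
def n24133 : Q := act 5 n22879
theorem D24133 : act 5 n22879 = n24133 := rfl
theorem F47226 : act 0 n24133 = n22882 := d4_1 D24133 (iv D22882) (iv F43989)
theorem F47227 : act 2 n24133 = n22880 := d11_1 D24133 (iv D22880) (iv F43990)
theorem F47228 : act 4 n24133 = n22907 := d14_1 D24133 (iv D22907) (iv D21143) (iv F39802) D22879
def n24134 : Q := act 2 n22881
theorem D24134 : act 2 n22881 = n24134 := rfl
theorem F47229 : act 3 n24134 = n23121 := d15_3 (iv F39804) D22881 D24134 F44692 F40583 (iv F42156) (iv F43992) (iv D22880) F39803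
def n24135 : Q := act 5 n22881
theorem D24135 : act 5 n22881 = n24135 := rfl
theorem F47230 : act 3 n24135 = n22882 := d13_1 D24135 (iv D22882) D22881
def n24136 : Q := act 2 n22885
theorem D24136 : act 2 n22885 = n24136 := rfl
theorem F47231 : act 0 n24136 = n22886 := d1_1 D24136 (iv D22886) (iv F44004)
def n24137 : Q := act 1 n22886
theorem D24137 : act 1 n22886 = n24137 := rfl
theorem F47232 : act 2 n24137 = n22888 := d5_2 D22886 D24137 (iv D22888) (iv D21125) (iv F39815)
theorem F47233 : act 5 n22894 = n24137 := d11_0 F47232 F44009 D22894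
def n24138 : Q := act 5 n22886
theorem D24138 : act 5 n22886 = n24138 := rfl
theorem F47234 : act 1 n24138 = n22894 := d8_1 D24138 F47233 (iv D24137)
theorem F47235 : act 2 n24138 = n22887 := d11_1 D24138 (iv D22887) D22886
def n24139 : Q := act 0 n22888
theorem D24139 : act 0 n22888 = n24139 := rfl
theorem F47236 : act 1 n24139 = n22901 := d0_2 D22888 D24139 (iv D22901) (iv D21138) (iv F39818)
theorem F47237 : act 3 n24139 = n22893 := d2_2 (iv F44008) D24139 F44021
theorem F47238 : act 5 n24139 = n22892 := d4_2 (iv F44009) D24139 F44020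
def n24140 : Q := act 4 n22892
theorem D24140 : act 4 n22892 = n24140 := rfl
theorem F47239 : act 0 n24140 = n22895 := d3_1 D24140 (iv D22895) (iv F44020)
def n24141 : Q := act 4 n22894
theorem D24141 : act 4 n22894 = n24141 := rfl
theorem F47240 : act 2 n24141 = n22895 := d10_1 D24141 (iv D22895) D22894
def n24142 : Q := act 5 n22895
theorem D24142 : act 5 n22895 = n24142 := rfl
theorem F47241 : act 1 n24142 = n22897 := d8_1 D24142 (iv D22897) (iv F44022)
def n24143 : Q := act 3 n22896
theorem D24143 : act 3 n22896 = n24143 := rfl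
theorem F47242 : act 1 n24143 = n22898 := d6_1 D24143 (iv D22898) (iv F44023)
def n24144 : Q := act 0 n22899
theorem D24144 : act 0 n22899 = n24144 := rfl
theorem F47243 : act 2 n24144 = n22901 := d1_2 (iv F44024) D24144 (iv D22901)
def n24145 : Q := act 4 n22899
theorem D24145 : act 4 n22899 = n24145 := rfl
theorem F47244 : act 1 n24145 = n22900 := d7_1 D24145 (iv D22900) D22899
theorem F47245 : act 2 n24145 = n22902 := d10_1 D24145 (iv D22902) (iv F44024)
theorem F47246 : act 5 n24145 = n23254 := d14_2 F44834 D24145 (iv F46966) F46967 (iv F44833)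
def n24146 : Q := act 4 n22901
theorem D24146 : act 4 n22901 = n24146 := rfl
theorem F47247 : act 0 n24146 = n22902 := d3_1 D24146 (iv D22902) D22901
def n24147 : Q := act 3 n22902
theorem D24147 : act 3 n22902 = n24147 := rfl
theorem F47248 : act 1 n24147 = n22903 := d6_1 D24147 (iv D22903) (iv F44027)
def n24148 : Q := act 5 n22902
theorem D24148 : act 5 n22902 = n24148 := rfl
theorem F47249 : act 1 n24148 = n22904 := d8_1 D24148 (iv D22904) (iv F44027)
theorem F47250 : act 2 n24148 = n23254 := d11_1 D24148 (iv F47246) F47245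
def n24149 : Q := act 3 n22905
theorem D24149 : act 3 n22905 = n24149 := rfl
theorem F47251 : act 1 n24149 = n22906 := d6_1 D24149 (iv D22906) (iv F44029)
theorem F47252 : act 4 n24149 = n22909 := d12_2 D22905 D24149 (iv D22909) (iv D21146) (iv F39839)
def n24150 : Q := act 5 n22905
theorem D24150 : act 5 n22905 = n24150 := rfl
theorem F47253 : act 1 n24150 = n22907 := d8_1 D24150 (iv D22907) (iv F44029)
def n24151 : Q := act 5 n22906
theorem D24151 : act 5 n22906 = n24151 := rfl
theorem F47254 : act 0 n24151 = n22912 := d4_1 D24151 (iv D22912) (iv F44030)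
theorem F47255 : act 3 n24151 = n22907 := d13_1 D24151 (iv D22907) D22906
def n24152 : Q := act 3 n22908
theorem D24152 : act 3 n22908 = n24152 := rfl
theorem F47256 : act 0 n24152 = n22909 := d2_1 D24152 (iv D22909) (iv F44034)
def n24153 : Q := act 5 n22908
theorem D24153 : act 5 n22908 = n24153 := rfl
theorem F47257 : act 0 n24153 = n22910 := d4_1 D24153 (iv D22910) (iv F44034)
theorem F47258 : act 2 n24153 = n22913 := d11_1 D24153 (iv D22913) (iv F44035)
def n24154 : Q := act 2 n22909
theorem D24154 : act 2 n22909 = n24154 := rfl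
def n24155 : Q := act 5 n22909
theorem D24155 : act 5 n22909 = n24155 := rfl
theorem F47259 : act 1 n24155 = n22912 := d8_1 D24155 (iv D22912) (iv F44036)
theorem F47260 : act 3 n24155 = n22910 := d13_1 D24155 (iv D22910) D22909
def n24156 : Q := act 1 n22911
theorem D24156 : act 1 n22911 = n24156 := rfl
theorem F47261 : act 0 n24156 = n23654 := d0_1 D24156 F46013 (iv F45847) (iv F45924) F45923
theorem F47262 : act 3 n24156 = n23401 := d6_2 F45757 D24156 (iv F45755)
theorem F47263 : act 4 n24156 = n23589 := d7_2 F45926 D24156 (iv F45924)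
def n24157 : Q := act 4 n22912
theorem D24157 : act 4 n22912 = n24157 := rfl
def n24158 : Q := act 2 n22918
theorem D24158 : act 2 n22918 = n24158 := rfl
theorem F47264 : act 0 n24158 = n23690 := d1_1 D24158 F46263 F46259
theorem F47265 : act 4 n24158 = n23681 := d10_2 (iv F44056) D24158 F46061
def n24159 : Q := act 2 n22919
theorem D24159 : act 2 n22919 = n24159 := rfl
theorem F47266 : act 0 n24159 = n22920 := d1_1 D24159 (iv D22920) (iv F44057)
theorem F47267 : act 1 n24159 = n23764 := d5_1 D24159 F46279 (iv F43574) F43576 (iv F44058)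
theorem F47268 : act 3 n24159 = n23763 := d9_2 D22919 D24159 F46274 F42800 F39477 D21907 (iv F41727) (iv F44060) (iv F46114) (iv D23700) F42513 F37610 (iv F37618) D22260 (iv F42523)
theorem F47269 : act 5 n24159 = n23882 := d11_2 F46892 D24159 (iv F46891)
def n24160 : Q := act 1 n22920
theorem D24160 : act 1 n22920 = n24160 := rfl
theorem F47270 : act 0 n24160 = n23819 := d0_1 D24160 (iv D23819) (iv F46277) (iv F47267) F47266
theorem F47271 : act 2 n24160 = n22922 := d5_2 D22920 D24160 (iv D22922) (iv D21166) (iv F39886)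
theorem F47272 : act 5 n24160 = n22925 := d8_2 (iv F46115) D24160 (iv F46113)
def n24161 : Q := act 2 n22923
theorem D24161 : act 2 n22923 = n24161 := rfl
theorem F47273 : act 0 n24161 = n22925 := d1_1 D24161 (iv D22925) (iv F44064)
theorem F47274 : act 1 n24161 = n23773 := d5_1 D24161 (iv D23773) F42815 (iv F40385) (iv F44065)
theorem F47275 : act 5 n24161 = n23819 := d11_2 F44066 D24161 F46402
theorem F47276 : act 3 n24161 = n23879 := d15_1 D24161 F46541 (iv F45283) F43514 (iv F42830) F42829 (iv F44062) F44063 (iv F44064)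
def n24162 : Q := act 4 n22924
theorem D24162 : act 4 n22924 = n24162 := rfl
theorem F47277 : act 0 n24162 = n22926 := d3_1 D24162 (iv D22926) (iv F44067)
theorem F47278 : act 1 n24162 = n22984 := d7_1 D24162 F44258 (iv F44068)
theorem F47279 : act 3 n24162 = n22989 := d12_1 D24162 (iv F46245) (iv F46404) F46405 (iv F44069)
theorem F47280 : act 5 n24162 = n22983 := d14_2 D22924 D24162 (iv D22983) F40165 (iv F39895)
def n24163 : Q := act 3 n22926
theorem D24163 : act 3 n22926 = n24163 := rfl
theorem F47281 : act 0 n24163 = n22989 := d2_1 D24163 (iv F47279) F47277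
theorem F47282 : act 1 n24163 = n22927 := d6_1 D24163 (iv D22927) (iv F44070)
theorem F47283 : act 5 n24163 = n22986 := d13_2 F44773 D24163 F44774
theorem F47284 : act 2 n23667 = n24163 := d11_3 F47283 F44264 D23667
def n24164 : Q := act 3 n22930
theorem D24164 : act 3 n22930 = n24164 := rfl
theorem F47285 : act 0 n24164 = n23463 := d2_1 D24164 (iv D23463) (iv F44078)
theorem F47286 : act 5 n24164 = n23465 := d13_2 (iv F44080) D24164 (iv D23465)
theorem F47287 : act 2 n24164 = n23351 := d15_2 (iv F44079) D24164 (iv D23351) (iv D21767) (iv D19582) F29931 D16970 (iv F36574) (iv F39917)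
def n24165 : Q := act 3 n22934
theorem D24165 : act 3 n22934 = n24165 := rfl
theorem F47288 : act 0 n24165 = n23005 := d2_1 D24165 (iv D23005) (iv F44087)
theorem F47289 : act 1 n24165 = n22935 := d6_1 D24165 (iv D22935) D22934
theorem F47290 : act 2 n24165 = n22976 := d9_1 D24165 (iv D22976) (iv D21257) (iv D18938) F28411 D16146 D18995 D21312 D23022 F44374 F44200 F40200 F40136 (iv F39960) (iv F44088)
theorem F47291 : act 4 n24165 = n23226 := d12_2 (iv F44089) D24165 F44945 (iv F44551) F44550
theorem F47292 : act 5 n24165 = n23017 := d13_2 F44090 D24165 (iv D23017)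
def n24166 : Q := act 5 n22946
theorem D24166 : act 5 n22946 = n24166 := rfl
theorem F47293 : act 0 n24166 = n23130 := d4_1 D24166 (iv D23130) (iv F44144)
theorem F47294 : act 1 n24166 = n23781 := d8_1 D24166 (iv D23781) (iv F44145)
theorem F47295 : act 2 n24166 = n22947 := d11_1 D24166 (iv D22947) D22946
theorem F47296 : act 4 n24166 = n23783 := d14_1 D24166 (iv D23783) (iv D22394) (iv F40061) (iv F44146)
def n24167 : Q := act 2 n22950
theorem D24167 : act 2 n22950 = n24167 := rfl
theorem F47297 : act 0 n24167 = n22951 := d1_1 D24167 (iv D22951) (iv F44156)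
theorem F47298 : act 1 n24167 = n23123 := d5_1 D24167 F44697 (iv F44617) F44618 (iv F44157)
theorem F47299 : act 3 n24167 = n22951 := d9_2 D22950 D24167 (iv D22951) (iv D21216) F34511 F28238 (iv F28798) D19144 D21451 (iv F44688) (iv D23119) (iv D21450) F35121 (iv F34520) (iv F40028)
theorem F47300 : act 4 n24167 = n23847 := d10_2 F45824 D24167 F46469
theorem F47301 : act 5 n24167 = n23119 := d11_2 (iv F44158) D24167 (iv D23119)
def n24168 : Q := act 3 n22952
theorem D24168 : act 3 n22952 = n24168 := rfl
theorem F47302 : act 0 n24168 = n23145 := d2_1 D24168 F44751 (iv F44161)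
theorem F47303 : act 1 n24168 = n23119 := d6_1 D24168 F44688 (iv F44162)
theorem F47304 : act 2 n24168 = n23143 := d9_1 D24168 (iv D23143) (iv D21483) (iv D19179) (iv F35038) D21418 D23095 F44609 (iv D21536) (iv D19241) F29152 (iv F28916) (iv F34528) D21219 D22952
theorem F47305 : act 5 n24168 = n23123 := d13_2 (iv F44163) D24168 (iv D23123)
def n24169 : Q := act 4 n22952
theorem D24169 : act 4 n22952 = n24169 := rfl
theorem F47306 : act 0 n24169 = n23178 := d3_1 D24169 (iv D23178) (iv F44161)
theorem F47307 : act 1 n24169 = n23121 := d7_1 D24169 (iv D23121) (iv F44162)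
theorem F47308 : act 2 n24169 = n22953 := d10_1 D24169 (iv D22953) D22952
def n24170 : Q := act 5 n22953
theorem D24170 : act 5 n22953 = n24170 := rfl
theorem F47309 : act 0 n24170 = n23179 := d4_1 D24170 (iv D23179) (iv F44164)
theorem F47310 : act 1 n24170 = n22954 := d8_1 D24170 (iv D22954) (iv F44165)
theorem F47311 : act 3 n24170 = n23077 := d13_1 D24170 (iv D23077) (iv F44166)
theorem F47312 : act 4 n24170 = n23125 := d14_1 D24170 (iv D23125) (iv D21455) (iv F40039) D22953
def n24171 : Q := act 1 n22965
theorem D24171 : act 1 n22965 = n24171 := rfl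
theorem F47313 : act 2 n24171 = n22967 := d5_2 D22965 D24171 (iv D22967) (iv D21247) (iv F40119)
theorem F47314 : act 3 n24171 = n22982 := d6_2 (iv F44203) D24171 F44251
theorem F47315 : act 5 n24171 = n23055 := d8_2 (iv F44204) D24171 F44488
def n24172 : Q := act 4 n22965
theorem D24172 : act 4 n22965 = n24172 := rfl
theorem F47316 : act 2 n24172 = n22966 := d10_1 D24172 (iv D22966) D22965
def n24173 : Q := act 5 n22966
theorem D24173 : act 5 n22966 = n24173 := rfl
theorem F47317 : act 0 n24173 = n23616 := d4_1 D24173 F45922 F44495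
theorem F47318 : act 1 n24173 = n22969 := d8_1 D24173 (iv D22969) (iv F44205)
theorem F47319 : act 3 n24173 = n22972 := d13_1 D24173 (iv D22972) (iv F44206)
theorem F47320 : act 4 n24173 = n23614 := d14_1 D24173 F45915 F44403 F40396 D22966
def n24174 : Q := act 0 n22967
theorem D24174 : act 0 n22967 = n24174 := rfl
theorem F47321 : act 3 n24174 = n22996 := d2_2 (iv F44207) D24174 F44292
theorem F47322 : act 5 n24174 = n22995 := d4_2 (iv F44208) D24174 F44291
def n24175 : Q := act 4 n22967
theorem D24175 : act 4 n22967 = n24175 := rfl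
theorem F47323 : act 1 n24175 = n22968 := d7_1 D24175 (iv D22968) D22967
def n24176 : Q := act 3 n22968
theorem D24176 : act 3 n22968 = n24176 := rfl
theorem F47324 : act 0 n24176 = n23212 := d2_1 D24176 (iv D23212) (iv F44209)
theorem F47325 : act 4 n24176 = n24117 := d12_2 D22968 D24176 (iv D24117) F43951 (iv F40120)
theorem F47326 : act 2 n24176 = n23169 := d15_2 (iv F44210) D24176 F44816 F40776 F35316 (iv F35519) D21594 F40976 (iv F40122)
theorem F47327 : act 5 n23168 = n24176 := d11_0 F47326 (iv D23169) D23168
def n24177 : Q := act 5 n22968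
theorem D24177 : act 5 n22968 = n24177 := rfl
theorem F47328 : act 0 n24177 = n23210 := d4_1 D24177 F44908 (iv F44209)
theorem F47329 : act 2 n24177 = n22969 := d11_1 D24177 (iv D22969) (iv F44210)
theorem F47330 : act 3 n24177 = n23168 := d13_1 D24177 F47327 (iv D24176)
theorem F47331 : act 4 n24177 = n24119 := d14_1 D24177 (iv D24119) (iv D22863) F40121 D22968
def n24178 : Q := act 4 n22970
theorem D24178 : act 4 n22970 = n24178 := rfl
theorem F47332 : act 0 n24178 = n24172 := d3_1 D24178 (iv D24172) (iv F44213)
theorem F47333 : act 1 n24178 = n23205 := d7_1 D24178 (iv D23205) (iv F44214)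
theorem F47334 : act 2 n24178 = n23058 := d10_1 D24178 F44497 (iv F44215)
def n24179 : Q := act 3 n22971
theorem D24179 : act 3 n22971 = n24179 := rfl
theorem F47335 : act 1 n24179 = n23206 := d6_1 D24179 (iv D23206) (iv F44217)
theorem F47336 : act 5 n24179 = n23993 := d13_2 (iv F44219) D24179 F46842
def n24180 : Q := act 3 n22973
theorem D24180 : act 3 n22973 = n24180 := rfl
theorem F47337 : act 0 n24180 = n22976 := d2_1 D24180 (iv D22976) (iv F44223)
theorem F47338 : act 1 n24180 = n24174 := d6_1 D24180 F47321 F44293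
theorem F47339 : act 2 n24180 = n23005 := d9_1 D24180 (iv D23005) F40227 F34784 (iv F34696) (iv F35118) (iv F40116) D22964 (iv F44353) (iv D23017) (iv D21307) (iv D18991) (iv F34687) D21253 D22973
theorem F47340 : act 5 n24180 = n23022 := d13_2 (iv F44224) D24180 F44374
def n24181 : Q := act 4 n22973
theorem D24181 : act 4 n22973 = n24181 := rfl
theorem F47341 : act 0 n24181 = n22977 := d3_1 D24181 (iv D22977) (iv F44223)
theorem F47342 : act 2 n24181 = n22974 := d10_1 D24181 (iv D22974) D22973
def n24182 : Q := act 3 n22977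
theorem D24182 : act 3 n22977 = n24182 := rfl
theorem F47343 : act 1 n24182 = n23256 := d6_1 D24182 (iv D23256) (iv F44235)
def n24183 : Q := act 4 n22982
theorem D24183 : act 4 n22982 = n24183 := rfl
theorem F47344 : act 1 n24183 = n23056 := d7_1 D24183 (iv D23056) (iv F44251)
theorem F47345 : act 2 n24183 = n22983 := d10_1 D24183 (iv D22983) D22982
def n24184 : Q := act 4 n22987
theorem D24184 : act 4 n22987 = n24184 := rfl
theorem F47346 : act 0 n24184 = n23115 := d3_1 D24184 (iv D23115) (iv F44265)
theorem F47347 : act 1 n24184 = n22988 := d7_1 D24184 (iv D22988) D22987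
theorem F47348 : act 2 n24184 = n22990 := d10_1 D24184 (iv D22990) (iv F44266)
def n24185 : Q := act 3 n22988
theorem D24185 : act 3 n22988 = n24185 := rfl
theorem F47349 : act 0 n24185 = n23436 := d2_1 D24185 F45469 (iv F44269)
theorem F47350 : act 4 n24185 = n23428 := d12_2 D22988 D24185 (iv D23428) F41656 (iv F40175)
def n24186 : Q := act 5 n22988
theorem D24186 : act 5 n22988 = n24186 := rfl
theorem F47351 : act 0 n24186 = n23667 := d4_1 D24186 (iv D23667) (iv F44269)
theorem F47352 : act 2 n24186 = n22989 := d11_1 D24186 (iv D22989) (iv F44270)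
def n24187 : Q := act 5 n22990
theorem D24187 : act 5 n22990 = n24187 := rfl
theorem F47353 : act 0 n24187 = n23116 := d4_1 D24187 (iv D23116) (iv F44272)
theorem F47354 : act 1 n24187 = n22991 := d8_1 D24187 (iv D22991) (iv F44273)
theorem F47355 : act 3 n24187 = n23073 := d13_1 D24187 F44541 (iv F44274)
theorem F47356 : act 4 n24187 = n23002 := d14_1 D24187 (iv D23002) (iv D21285) (iv F40179) D22990
def n24188 : Q := act 1 n22994
theorem D24188 : act 1 n22994 = n24188 := rfl
theorem F47357 : act 3 n24188 = n23811 := d6_2 (iv F44290) D24188 F46379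
theorem F47358 : act 4 n24188 = n23817 := d7_2 (iv F44288) D24188 F46399
theorem F47359 : act 5 n24188 = n23774 := d8_2 (iv F44289) D24188 F46296
def n24189 : Q := act 4 n22996
theorem D24189 : act 4 n22996 = n24189 := rfl
theorem F47360 : act 0 n24189 = n24116 := d3_1 D24189 F47176 (iv F44292)
theorem F47361 : act 1 n24189 = n24181 := d7_1 D24189 (iv D24181) (iv F44293)
theorem F47362 : act 2 n24189 = n22997 := d10_1 D24189 (iv D22997) (iv F44294)
theorem F47363 : act 5 n24189 = n23431 := d14_2 D22996 D24189 F45461 F41665 (iv F40195)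
def n24190 : Q := act 4 n22998
theorem D24190 : act 4 n22998 = n24190 := rfl
theorem F47364 : act 0 n24190 = n23001 := d3_1 D24190 (iv D23001) (iv F44299)
theorem F47365 : act 1 n24190 = n23103 := d7_1 D24190 (iv D23103) (iv F44300)
theorem F47366 : act 2 n24190 = n22999 := d10_1 D24190 (iv D22999) D22998
def n24191 : Q := act 5 n22999
theorem D24191 : act 5 n22999 = n24191 := rfl
theorem F47367 : act 0 n24191 = n23002 := d4_1 D24191 (iv D23002) (iv F44303)
theorem F47368 : act 1 n24191 = n23003 := d8_1 D24191 (iv D23003) (iv F44304)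
theorem F47369 : act 3 n24191 = n23012 := d13_1 D24191 (iv D23012) (iv F44305)
theorem F47370 : act 4 n24191 = n23116 := d14_1 D24191 (iv D23116) (iv D21444) (iv F40208) D22999
def n24192 : Q := act 4 n23000
theorem D24192 : act 4 n23000 = n24192 := rfl
theorem F47371 : act 0 n24192 = n23670 := d3_1 D24192 (iv D23670) (iv F44306)
theorem F47372 : act 1 n24192 = n23665 := d7_1 D24192 (iv D23665) (iv F44307)
theorem F47373 : act 2 n24192 = n23185 := d10_1 D24192 (iv D23185) (iv F44309)
def n24193 : Q := act 3 n23001
theorem D24193 : act 3 n23001 = n24193 := rfl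
def n24194 : Q := act 5 n23001
theorem D24194 : act 5 n23001 = n24194 := rfl
theorem F47374 : act 2 n24194 = n23002 := d11_1 D24194 (iv D23002) (iv F44310)
def n24195 : Q := act 4 n23005
theorem D24195 : act 4 n23005 = n24195 := rfl
theorem F47375 : act 0 n24195 = n23226 := d3_1 D24195 (iv F47291) F47288
theorem F47376 : act 1 n24195 = n23007 := d7_1 D24195 (iv D23007) (iv F44318)
theorem F47377 : act 3 n24195 = n23227 := d12_1 D24195 F44949 (iv D22434) (iv F40228) D23005
theorem F47378 : act 5 n24195 = n23223 := d14_2 (iv F44319) D24195 (iv D23223) F44378 (iv D23023)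
def n24196 : Q := act 1 n23006
theorem D24196 : act 1 n23006 = n24196 := rfl
theorem F47379 : act 0 n24196 = n24171 := d0_1 D24196 (iv D24171) (iv F44213) F44214 (iv F44320)
theorem F47380 : act 2 n24196 = n24174 := d5_2 D23006 D24196 (iv F47338) F47339 F44318
theorem F47381 : act 3 n24196 = n23155 := d6_2 (iv F44321) D24196 (iv D23155)
theorem F47382 : act 5 n24196 = n23163 := d8_2 F44322 D24196 F44801
def n24197 : Q := act 4 n23006
theorem D24197 : act 4 n23006 = n24197 := rfl
theorem F47383 : act 0 n24197 = n23205 := d3_1 D24197 (iv D23205) (iv F44320)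
theorem F47384 : act 2 n24197 = n23007 := d10_1 D24197 (iv D23007) D23006
def n24198 : Q := act 5 n23007
theorem D24198 : act 5 n23007 = n24198 := rfl
theorem F47385 : act 0 n24198 = n23038 := d4_1 D24198 F44426 (iv F44323)
theorem F47386 : act 1 n24198 = n23223 := d8_1 D24198 (iv F47378) F47376
theorem F47387 : act 3 n24198 = n23151 := d13_1 D24198 F44767 (iv F44324)
theorem F47388 : act 4 n23035 = n24198 := d12_0 F47387 (iv D23151) F40686 (iv F40319) D23035
def n24199 : Q := act 4 n23008
theorem D24199 : act 4 n23008 = n24199 := rfl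
theorem F47389 : act 0 n24199 = n23033 := d3_1 D24199 F44411 (iv F44325)
theorem F47390 : act 1 n24199 = n23023 := d7_1 D24199 (iv D23023) (iv F44326)
theorem F47391 : act 2 n24199 = n23200 := d10_1 D24199 (iv D23200) (iv F44327)
theorem F47392 : act 5 n24199 = n23035 := d14_2 D23008 D24199 F47388 (iv D24198) (iv D23007)
theorem F47393 : act 3 n23036 = n24199 := d13_3 F47392 (iv D23035) D23036
def n24200 : Q := act 3 n23009
theorem D24200 : act 3 n23009 = n24200 := rfl
theorem F47394 : act 0 n24200 = n23039 := d2_1 D24200 F44429 (iv F44329)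
theorem F47395 : act 1 n24200 = n23024 := d6_1 D24200 (iv D23024) (iv F44330)
theorem F47396 : act 4 n24200 = n23036 := d12_2 D23009 D24200 F47393 (iv D24199) F44328
theorem F47397 : act 5 n24200 = n23170 := d13_2 (iv F44332) D24200 F44821
theorem F47398 : act 2 n24200 = n23220 := d15_2 (iv F44331) D24200 (iv F44929) (iv D22932) (iv D21184) F34296 (iv F32533) (iv F35559) (iv F40234)
def n24201 : Q := act 4 n23010
theorem D24201 : act 4 n23010 = n24201 := rfl
theorem F47399 : act 0 n24201 = n23014 := d3_1 D24201 (iv D23014) (iv F44333)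
theorem F47400 : act 1 n24201 = n23078 := d7_1 D24201 (iv D23078) (iv F44334)
theorem F47401 : act 2 n24201 = n23207 := d10_1 D24201 (iv D23207) (iv F44335)
def n24202 : Q := act 3 n23011
theorem D24202 : act 3 n23011 = n24202 := rfl
theorem F47402 : act 0 n24202 = n23015 := d2_1 D24202 (iv D23015) (iv F44337)
def n24203 : Q := act 5 n23011
theorem D24203 : act 5 n23011 = n24203 := rfl
theorem F47403 : act 0 n24203 = n23016 := d4_1 D24203 (iv D23016) (iv F44337)
theorem F47404 : act 1 n24203 = n23761 := d8_1 D24203 F47156 F47153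
theorem F47405 : act 2 n24203 = n23012 := d11_1 D24203 (iv D23012) (iv F44338)
theorem F47406 : act 4 n24203 = n23065 := d14_1 D24203 (iv D23065) (iv D21377) (iv F40257) D23011
def n24204 : Q := act 4 n23013
theorem D24204 : act 4 n23013 = n24204 := rfl
theorem F47407 : act 0 n24204 = n23207 := d3_1 D24204 (iv D23207) (iv F44342)
theorem F47408 : act 1 n24204 = n23076 := d7_1 D24204 (iv D23076) (iv F44343)
theorem F47409 : act 2 n24204 = n23014 := d10_1 D24204 (iv D23014) D23013
def n24205 : Q := act 3 n23014
theorem D24205 : act 3 n23014 = n24205 := rfl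
theorem F47410 : act 1 n24205 = n23045 := d6_1 D24205 (iv D23045) (iv F44346)
theorem F47411 : act 4 n24205 = n23015 := d12_2 D23014 D24205 (iv D23015) (iv D21305) D21304
def n24206 : Q := act 5 n23014
theorem D24206 : act 5 n23014 = n24206 := rfl
theorem F47412 : act 1 n24206 = n23046 := d8_1 D24206 (iv D23046) (iv F44346)
theorem F47413 : act 4 n24206 = n23068 := d14_1 D24206 (iv D23068) (iv D21379) (iv F40261) D23014
def n24207 : Q := act 2 n23015
theorem D24207 : act 2 n23015 = n24207 := rfl
def n24208 : Q := act 2 n23020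
theorem D24208 : act 2 n23020 = n24208 := rfl
theorem F47414 : act 0 n24208 = n23026 := d1_1 D24208 (iv D23026) (iv F44365)
theorem F47415 : act 4 n24208 = n23807 := d10_2 (iv F44367) D24208 (iv D23807)
theorem F47416 : act 5 n24208 = n23026 := d11_2 (iv F44368) D24208 (iv D23026)
def n24209 : Q := act 1 n23021
theorem D24209 : act 1 n23021 = n24209 := rfl
theorem F47417 : act 3 n24209 = n23825 := d6_2 (iv F44370) D24209 F46412
theorem F47418 : act 4 n24209 = n23804 := d7_2 (iv F44371) D24209 F46361
theorem F47419 : act 5 n24209 = n23027 := d8_2 (iv F44372) D24209 (iv D23027)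
def n24210 : Q := act 4 n23022
theorem D24210 : act 4 n23022 = n24210 := rfl
theorem F47420 : act 0 n24210 = n23043 := d3_1 D24210 F44445 (iv F44373)
theorem F47421 : act 1 n24210 = n23402 := d7_1 D24210 F45382 F44375
theorem F47422 : act 2 n24210 = n23023 := d10_1 D24210 (iv D23023) D23022
theorem F47423 : act 3 n24210 = n23230 := d12_1 D24210 (iv F46486) F46485 (iv F44201) (iv F44374)
theorem F47424 : act 5 n23222 = n24210 := d13_0 F47423 F44954 (iv F44935)
def n24211 : Q := act 1 n23026
theorem D24211 : act 1 n23026 = n24211 := rfl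
theorem F47425 : act 2 n24211 = n23027 := d5_2 D23026 D24211 (iv D23027) (iv D21316) (iv F40278)
theorem F47426 : act 4 n24211 = n23803 := d7_2 (iv F44388) D24211 F46359
theorem F47427 : act 3 n24045 = n24211 := d15_3 (iv F46551) F46552 (iv F46952) F47425 (iv F46896) F46895 (iv F43857) (iv D22829) (iv F43844)
def n24212 : Q := act 3 n23026
theorem D24212 : act 3 n23026 = n24212 := rfl
theorem F47428 : act 1 n24212 = n24045 := d6_1 D24212 F47427 (iv D24211)
theorem F47429 : act 2 n24212 = n24047 := d15_2 D23026 D24212 F46958 F45814 (iv D22979) F40146 D21315 (iv F44368) F44365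
theorem F47430 : act 4 n24043 = n24212 := d10_0 F47429 (iv D24047) (iv F46951)
def n24213 : Q := act 0 n23027
theorem D24213 : act 0 n23027 = n24213 := rfl
theorem F47431 : act 1 n24213 = n23810 := d0_2 D23027 D24213 F46378 F42956 (iv F40280)
theorem F47432 : act 4 n24213 = n23799 := d3_2 (iv F44389) D24213 F46352
def n24214 : Q := act 2 n23029
theorem D24214 : act 2 n23029 = n24214 := rfl
theorem F47433 : act 1 n24214 = n23273 := d5_1 D24214 F45058 F41161 F40292 (iv F44394)
theorem F47434 : act 4 n24214 = n23160 := d10_2 (iv F44395) D24214 (iv D23160)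
theorem F47435 : act 5 n24214 = n23271 := d11_2 F44396 D24214 F45053
def n24215 : Q := act 2 n23035
theorem D24215 : act 2 n23035 = n24215 := rfl
theorem F47436 : act 0 n24215 = n23037 := d1_1 D24215 (iv D23037) (iv F44417)
theorem F47437 : act 3 n24215 = n23405 := d9_2 D23035 D24215 F45385 F41569 F37659 (iv F38574) (iv F40322) (iv F44410) F44409 F40954 F39224 (iv F37651) F37650 (iv F35551) (iv F40318)
theorem F47438 : act 5 n24215 = n23200 := d11_2 F47392 D24215 (iv F47391)
theorem F47439 : act 1 n23406 = n24215 := d6_3 F47437 (iv D23405) D23406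
def n24216 : Q := act 4 n23037
theorem D24216 : act 4 n23037 = n24216 := rfl
theorem F47440 : act 2 n24216 = n23038 := d10_1 D24216 (iv D23038) D23037
theorem F47441 : act 3 n24216 = n23995 := d12_1 D24216 (iv D23995) F43525 (iv F42536) (iv F44423)
theorem F47442 : act 5 n24216 = n23205 := d14_2 (iv F44422) D24216 (iv D23205) (iv D21587) D21586
def n24217 : Q := act 3 n23051
theorem D24217 : act 3 n23051 = n24217 := rfl
theorem F47443 : act 0 n24217 = n23790 := d2_1 D24217 (iv D23790) (iv F44473)
theorem F47444 : act 1 n24217 = n23789 := d6_1 D24217 (iv D23789) (iv F44474)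
theorem F47445 : act 4 n24217 = n23789 := d12_2 D23051 D24217 (iv D23789) (iv D22403) (iv F40367)
def n24218 : Q := act 5 n23051
theorem D24218 : act 5 n23051 = n24218 := rfl
theorem F47446 : act 0 n24218 = n23791 := d4_1 D24218 (iv D23791) (iv F44473)
theorem F47447 : act 1 n24218 = n23159 := d8_1 D24218 F44791 (iv F44474)
theorem F47448 : act 2 n24218 = n23053 := d11_1 D24218 (iv D23053) (iv F44475)
theorem F47449 : act 4 n24218 = n23157 := d14_1 D24218 (iv D23157) (iv F44173) F44174 D23051
def n24219 : Q := act 2 n23052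
theorem D24219 : act 2 n23052 = n24219 := rfl
theorem F47450 : act 0 n24219 = n23767 := d1_1 D24219 F46284 (iv F44476)
theorem F47451 : act 1 n24219 = n23202 := d5_1 D24219 F44891 F40896 (iv F40902) (iv F44477)
theorem F47452 : act 4 n24219 = n23054 := d10_2 (iv F44478) D24219 (iv D23054)
theorem F47453 : act 5 n24219 = n23753 := d11_2 F44479 D24219 F46255
def n24220 : Q := act 3 n23056
theorem D24220 : act 3 n23056 = n24220 := rfl
theorem F47454 : act 0 n24220 = n24179 := d2_1 D24220 (iv D24179) (iv F44490)
def n24221 : Q := act 5 n23063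
theorem D24221 : act 5 n23063 = n24221 := rfl
theorem F47455 : act 0 n24221 = n23068 := d4_1 D24221 (iv D23068) (iv F44515)
theorem F47456 : act 1 n24221 = n23584 := d8_1 D24221 (iv D23584) (iv F44516)
theorem F47457 : act 2 n24221 = n24150 := d11_1 D24221 (iv D24150) (iv F44517)
def n24222 : Q := act 2 n23064
theorem D24222 : act 2 n23064 = n24222 := rfl
theorem F47458 : act 0 n24222 = n23069 := d1_1 D24222 (iv D23069) (iv F44518)
theorem F47459 : act 1 n24222 = n23906 := d5_1 D24222 F46635 F44049 D24008 (iv F46885)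
theorem F47460 : act 3 n24222 = n24144 := d9_2 D23064 D24222 F47243 (iv F44538) F44537 F40440 (iv F40426) (iv F44531) (iv F45799) F45800 (iv D23176) (iv D21538) F35358 (iv F34973) (iv F40419)
def n24223 : Q := act 5 n23064
theorem D24223 : act 5 n23064 = n24223 := rfl
theorem F47461 : act 0 n24223 = n23070 := d4_1 D24223 (iv D23070) (iv F44518)
theorem F47462 : act 1 n24223 = n23760 := d8_1 D24223 (iv F46884) (iv F46885)
theorem F47463 : act 3 n24223 = n23065 := d13_1 D24223 (iv D23065) D23064
def n24224 : Q := act 3 n23066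
theorem D24224 : act 3 n23066 = n24224 := rfl
theorem F47464 : act 0 n24224 = n24149 := d2_1 D24224 (iv D24149) (iv F44522)
theorem F47465 : act 1 n24224 = n24152 := d6_1 D24224 (iv D24152) (iv F44523)
theorem F47466 : act 4 n24224 = n24152 := d12_2 D23066 D24224 (iv D24152) (iv D22908) (iv F40422)
def n24225 : Q := act 5 n23066
theorem D24225 : act 5 n23066 = n24225 := rfl
theorem F47467 : act 0 n24225 = n24150 := d4_1 D24225 (iv D24150) (iv F44522)
theorem F47468 : act 1 n24225 = n24153 := d8_1 D24225 (iv D24153) (iv F44523)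
theorem F47469 : act 2 n24225 = n23068 := d11_1 D24225 (iv D23068) (iv F44524)
def n24226 : Q := act 2 n23071
theorem D24226 : act 2 n23071 = n24226 := rfl
theorem F47470 : act 0 n24226 = n23176 := d1_1 D24226 (iv D23176) (iv F44532)
theorem F47471 : act 5 n24226 = n24144 := d11_2 (iv F44534) D24226 F47243
theorem F47472 : act 4 n24065 = n24226 := d3_0 F47470 F44833 (iv F47000)
def n24227 : Q := act 4 n23071
theorem D24227 : act 4 n23071 = n24227 := rfl
theorem F47473 : act 0 n24227 = n23174 := d3_1 D24227 F44829 (iv F44532)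
theorem F47474 : act 1 n24227 = n24140 := d7_1 D24227 (iv D24140) (iv F44533)
theorem F47475 : act 2 n24227 = n24065 := d10_1 D24227 F47472 (iv D24226)
theorem F47476 : act 3 n24227 = n23172 := d12_1 D24227 (iv D23172) (iv D21535) (iv F40436) D23071
def n24228 : Q := act 4 n23072
theorem D24228 : act 4 n23072 = n24228 := rfl
theorem F47477 : act 0 n24228 = n23148 := d3_1 D24228 F44757 (iv F44535)
theorem F47478 : act 1 n24228 = n23229 := d7_1 D24228 F44952 (iv F44536)
theorem F47479 : act 2 n24228 = n23073 := d10_1 D24228 (iv D23073) (iv F44537)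
theorem F47480 : act 5 n24228 = n23144 := d14_2 D23072 D24228 (iv D23144) F40664 (iv F40436)
def n24229 : Q := act 3 n23076
theorem D24229 : act 3 n23076 = n24229 := rfl
theorem F47481 : act 0 n24229 = n23208 := d2_1 D24229 (iv D23208) (iv F44552)
def n24230 : Q := act 5 n23076
theorem D24230 : act 5 n23076 = n24230 := rfl
theorem F47482 : act 0 n24230 = n23209 := d4_1 D24230 (iv D23209) (iv F44552)
theorem F47483 : act 2 n24230 = n23077 := d11_1 D24230 (iv D23077) (iv F44553)
theorem F47484 : act 4 n24230 = n24153 := d14_1 D24230 (iv D24153) (iv D22908) (iv F40456) D23076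
def n24231 : Q := act 3 n23078
theorem D24231 : act 3 n23078 = n24231 := rfl
theorem F47485 : act 0 n24231 = n23079 := d2_1 D24231 (iv D23079) (iv F44557)
def n24232 : Q := act 5 n23078
theorem D24232 : act 5 n23078 = n24232 := rfl
theorem F47486 : act 0 n24232 = n23080 := d4_1 D24232 (iv D23080) (iv F44557)
theorem F47487 : act 2 n24232 = n23214 := d11_1 D24232 (iv D23214) (iv F44558)
theorem F47488 : act 4 n24232 = n23584 := d14_1 D24232 (iv D23584) F42136 (iv F40461) D23078
def n24233 : Q := act 2 n23079
theorem D24233 : act 2 n23079 = n24233 := rfl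
theorem F47489 : act 3 n24233 = n23988 := d15_3 (iv F40463) D23079 D24233 F46834 F43502 (iv F45832) F45833 (iv D23214) F40981
def n24234 : Q := act 5 n23079
theorem D24234 : act 5 n23079 = n24234 := rfl
theorem F47490 : act 1 n24234 = n23082 := d8_1 D24234 (iv D23082) (iv F44559)
theorem F47491 : act 3 n24234 = n23080 := d13_1 D24234 (iv D23080) D23079
theorem F47492 : act 4 n23779 = n24234 := d12_0 F47491 F44562 F44019 (iv F45361) (iv F46308)
def n24235 : Q := act 4 n23085
theorem D24235 : act 4 n23085 = n24235 := rfl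
theorem F47493 : act 0 n24235 = n23185 := d3_1 D24235 (iv D23185) (iv F44577)
theorem F47494 : act 1 n24235 = n23087 := d7_1 D24235 (iv D23087) (iv F44578)
theorem F47495 : act 2 n24235 = n23670 := d10_1 D24235 (iv D23670) (iv F44579)
def n24236 : Q := act 5 n23087
theorem D24236 : act 5 n23087 = n24236 := rfl
theorem F47496 : act 0 n24236 = n23101 := d4_1 D24236 (iv D23101) (iv F44584)
theorem F47497 : act 2 n24236 = n23099 := d11_1 D24236 (iv D23099) (iv F44585)
theorem F47498 : act 4 n24236 = n23685 := d14_1 D24236 (iv D23685) (iv D22230) (iv F40493) D23087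
def n24237 : Q := act 2 n23088
theorem D24237 : act 2 n23088 = n24237 := rfl
theorem F47499 : act 0 n24237 = n23124 := d1_1 D24237 F44698 (iv F44586)
theorem F47500 : act 1 n24237 = n23173 := d5_1 D24237 F44827 F40829 F40503 (iv F44587)
theorem F47501 : act 4 n24237 = n23095 := d10_2 (iv F44588) D24237 (iv D23095)
def n24238 : Q := act 5 n23088
theorem D24238 : act 5 n23088 = n24238 := rfl
theorem F47502 : act 0 n24238 = n23125 := d4_1 D24238 (iv D23125) (iv F44586)
theorem F47503 : act 1 n24238 = n23090 := d8_1 D24238 (iv D23090) (iv F44587)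
theorem F47504 : act 3 n24238 = n23089 := d13_1 D24238 (iv D23089) D23088
theorem F47505 : act 4 n24238 = n23179 := d14_1 D24238 (iv D23179) (iv D21544) (iv F40521) (iv F44588)
def n24239 : Q := act 4 n23092
theorem D24239 : act 4 n23092 = n24239 := rfl
theorem F47506 : act 0 n24239 = n23427 := d3_1 D24239 F45454 (iv F44600)
theorem F47507 : act 1 n24239 = n23433 := d7_1 D24239 F45467 (iv F44601)
theorem F47508 : act 2 n24239 = n23093 := d10_1 D24239 (iv D23093) D23092
def n24240 : Q := act 3 n23093
theorem D24240 : act 3 n23093 = n24240 := rfl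
theorem F47509 : act 0 n24240 = n23679 := d2_1 D24240 (iv D23679) (iv F44604)
theorem F47510 : act 1 n24240 = n23684 := d6_1 D24240 (iv D23684) (iv F44605)
theorem F47511 : act 4 n24240 = n23094 := d12_2 D23093 D24240 (iv D23094) (iv D21416) D21415
def n24241 : Q := act 5 n23093
theorem D24241 : act 5 n23093 = n24241 := rfl
theorem F47512 : act 0 n24241 = n23680 := d4_1 D24241 (iv D23680) (iv F44604)
theorem F47513 : act 1 n24241 = n23685 := d8_1 D24241 (iv D23685) (iv F44605)
def n24242 : Q := act 2 n23094
theorem D24242 : act 2 n23094 = n24242 := rfl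
def n24243 : Q := act 1 n23096
theorem D24243 : act 1 n23096 = n24243 := rfl
theorem F47514 : act 2 n24243 = n23128 := d5_2 D23096 D24243 F44705 F40596 (iv F40527)
theorem F47515 : act 3 n24243 = n24142 := d6_2 (iv F44611) D24243 F47241
theorem F47516 : act 4 n24243 = n23182 := d7_2 (iv F44612) D24243 F44845
theorem F47517 : act 5 n24243 = n23097 := d8_2 (iv F44613) D24243 (iv D23097)
def n24244 : Q := act 0 n23097
theorem D24244 : act 0 n23097 = n24244 := rfl
theorem F47518 : act 1 n24244 = n23172 := d0_2 D23097 D24244 F44826 F40829 (iv F40530)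
theorem F47519 : act 2 n24244 = n23126 := d1_2 (iv F44614) D24244 F44701
theorem F47520 : act 3 n24244 = n24140 := d2_2 (iv F44615) D24244 F47239
theorem F47521 : act 4 n24244 = n23098 := d3_2 (iv F44616) D24244 (iv D23098)
def n24245 : Q := act 5 n23100
theorem D24245 : act 5 n23100 = n24245 := rfl
theorem F47522 : act 1 n24245 = n23691 := d8_1 D24245 F46087 (iv F44625)
theorem F47523 : act 3 n24245 = n23101 := d13_1 D24245 (iv D23101) D23100
def n24246 : Q := act 5 n23103
theorem D24246 : act 5 n23103 = n24246 := rfl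
theorem F47524 : act 0 n24246 = n23675 := d4_1 D24246 (iv D23675) (iv F44633)
theorem F47525 : act 2 n24246 = n23105 := d11_1 D24246 (iv D23105) (iv F44634)
def n24247 : Q := act 1 n23110
theorem D24247 : act 1 n23110 = n24247 := rfl
theorem F47526 : act 0 n24247 = n23749 := d0_1 D24247 F46244 F44279 (iv F44075) (iv F44659)
theorem F47527 : act 3 n24247 = n23197 := d6_2 (iv F44660) D24247 (iv D23197)
theorem F47528 : act 4 n24247 = n24163 := d7_2 (iv F44661) D24247 F47282
theorem F47529 : act 5 n24247 = n23746 := d8_2 (iv F44662) D24247 F46237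
def n24248 : Q := act 5 n23111
theorem D24248 : act 5 n23111 = n24248 := rfl
theorem F47530 : act 0 n24248 = n23114 := d4_1 D24248 (iv D23114) (iv F44663)
theorem F47531 : act 2 n24248 = n23112 := d11_1 D24248 (iv D23112) D23111
theorem F47532 : act 3 n24248 = n24248 := d13_1 D24248 (iv D24248) F44664
theorem F47533 : act 4 n24088 = n24248 := d10_0 F47531 (iv F44668) (iv F47080)
def n24249 : Q := act 3 n23115
theorem D24249 : act 3 n23115 = n24249 := rfl
def n24250 : Q := act 5 n23115
theorem D24250 : act 5 n23115 = n24250 := rfl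
theorem F47534 : act 2 n24250 = n23116 := d11_1 D24250 (iv D23116) (iv F44676)
def n24251 : Q := act 4 n23119
theorem D24251 : act 4 n23119 = n24251 := rfl
theorem F47535 : act 0 n24251 = n23121 := d3_1 D24251 (iv D23121) (iv F44687)
theorem F47536 : act 2 n24251 = n23120 := d10_1 D24251 (iv D23120) D23119
def n24252 : Q := act 5 n23121
theorem D24252 : act 5 n23121 = n24252 := rfl
theorem F47537 : act 2 n24252 = n23122 := d11_1 D24252 (iv D23122) (iv F44692)
theorem F47538 : act 4 n24252 = n23843 := d14_1 D24252 F46460 F45826 F44160 D23121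
def n24253 : Q := act 4 n23123
theorem D24253 : act 4 n23123 = n24253 := rfl
theorem F47539 : act 0 n24253 = n23173 := d3_1 D24253 (iv D23173) (iv F44696)
theorem F47540 : act 1 n24253 = n23847 := d7_1 D24253 (iv F47300) F47298
theorem F47541 : act 2 n24253 = n23172 := d10_1 D24253 (iv D23172) (iv F44697)
theorem F47542 : act 3 n23846 = n24253 := d15_3 (iv F46673) F46674 (iv F46467) F47541 (iv F47476) F47475 (iv D24065) (iv F46961) F46960
def n24254 : Q := act 3 n23124
theorem D24254 : act 3 n23124 = n24254 := rfl
theorem F47543 : act 1 n24254 = n23844 := d6_1 D24254 F46463 F45825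
theorem F47544 : act 4 n24254 = n23846 := d12_2 D23124 D24254 F47542 (iv D24253) (iv D23123)
theorem F47545 : act 2 n23925 = n24254 := d10_3 F47544 F46467 (iv F46694)
def n24255 : Q := act 5 n23124
theorem D24255 : act 5 n23124 = n24255 := rfl
theorem F47546 : act 1 n24255 = n23843 := d8_1 D24255 F46460 F45825
theorem F47547 : act 2 n24255 = n23125 := d11_1 D24255 (iv D23125) (iv F44698)
def n24256 : Q := act 5 n23126
theorem D24256 : act 5 n23126 = n24256 := rfl
theorem F47548 : act 0 n24256 = n23128 := d4_1 D24256 (iv D23128) (iv F44701)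
theorem F47549 : act 1 n24256 = n23842 := d8_1 D24256 F46459 F45823
theorem F47550 : act 3 n24256 = n23841 := d13_1 D24256 F46457 F45821
theorem F47551 : act 4 n24256 = n23241 := d14_1 D24256 (iv D23241) (iv D21638) (iv F40591) D23126
def n24257 : Q := act 2 n23129
theorem D24257 : act 2 n23129 = n24257 := rfl
theorem F47552 : act 3 n24257 = n23130 := d15_3 D21461 D23129 D24257 F44707 F40600 (iv F40010) (iv F44149) (iv D22947) F40005
theorem F47553 : act 5 n23129 = n24257 := d13_0 F47552 (iv D23130) D23129
def n24258 : Q := act 4 n23130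
theorem D24258 : act 4 n23130 = n24258 := rfl
theorem F47554 : act 0 n24258 = n23783 := d3_1 D24258 (iv F47296) F47293
theorem F47555 : act 1 n24258 = n23150 := d7_1 D24258 (iv F47121) F47119
theorem F47556 : act 2 n24258 = n23131 := d10_1 D24258 (iv D23131) (iv F44707)
theorem F47557 : act 5 n24258 = n23132 := d14_2 D23130 D24258 (iv D23132) (iv D21464) (iv F40598)
theorem F47558 : act 3 n23480 = n24258 := d13_3 F47557 F44715 (iv F45567)
def n24259 : Q := act 2 n23134
theorem D24259 : act 2 n23134 = n24259 := rfl
theorem F47559 : act 0 n24259 = n23136 := d1_1 D24259 (iv D23136) (iv F44721)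
def n24260 : Q := act 5 n23134
theorem D24260 : act 5 n23134 = n24260 := rfl
theorem F47560 : act 0 n24260 = n23138 := d4_1 D24260 (iv D23138) (iv F44721)
theorem F47561 : act 1 n24260 = n24011 := d8_1 D24260 F47107 F47105
theorem F47562 : act 3 n24260 = n23135 := d13_1 D24260 (iv D23135) D23134
theorem F47563 : act 4 n24260 = n24010 := d14_1 D24260 F46892 (iv F44871) (iv F47103) F47102
def n24261 : Q := act 4 n23135
theorem D24261 : act 4 n23135 = n24261 := rfl
theorem F47564 : act 0 n24261 = n23139 := d3_1 D24261 (iv D23139) (iv F44722)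
theorem F47565 : act 1 n24261 = n23149 := d7_1 D24261 (iv F47112) F47109
theorem F47566 : act 2 n24261 = n23785 := d10_1 D24261 F46324 F45516
theorem F47567 : act 3 n24261 = n23192 := d12_1 D24261 F44868 D24010 (iv F47563) F47562
theorem F47568 : act 5 n24261 = n23142 := d14_2 D23135 D24261 (iv D23142) (iv D21480) (iv F40637)
def n24262 : Q := act 1 n23136
theorem D24262 : act 1 n23136 = n24262 := rfl
theorem F47569 : act 2 n24262 = n23140 := d5_2 D23136 D24262 (iv D23140) (iv D21476) (iv F40638)
theorem F47570 : act 0 n23750 = n24262 := d1_3 F47569 F44733 D23750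
theorem F47571 : act 5 n23162 = n24262 := d11_0 F47569 F44735 D23162
def n24263 : Q := act 3 n23136
theorem D24263 : act 3 n23136 = n24263 := rfl
def n24264 : Q := act 4 n23136
theorem D24264 : act 4 n23136 = n24264 := rfl
theorem F47572 : act 2 n24264 = n23137 := d10_1 D24264 (iv D23137) D23136
theorem F47573 : act 5 n23196 = n24264 := d11_0 F47572 (iv F44725) D23196
def n24265 : Q := act 5 n23136
theorem D24265 : act 5 n23136 = n24265 := rfl
theorem F47574 : act 1 n24265 = n23162 := d8_1 D24265 F47571 (iv D24262)
theorem F47575 : act 2 n24265 = n23138 := d11_1 D24265 (iv D23138) D23136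
theorem F47576 : act 4 n24265 = n23700 := d14_1 D24265 (iv F46115) (iv F44876) F47573 (iv D24264)
theorem F47577 : act 3 n23699 = n24265 := d15_7 (iv D24259) (iv D23134) F41710 (iv D21899) (iv F41707) D23454 (iv F46112) (iv D24265) (iv F47559)
theorem F47578 : act 5 n24263 = n23699 := d13_0 F47577 (iv D24265) D24263
def n24266 : Q := act 4 n23140
theorem D24266 : act 4 n23140 = n24266 := rfl
theorem F47579 : act 0 n24266 = n23748 := d3_1 D24266 F46243 (iv F44733)
theorem F47580 : act 1 n24266 = n23141 := d7_1 D24266 (iv D23141) D23140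
theorem F47581 : act 3 n24266 = n23746 := d12_1 D24266 (iv D23746) (iv D22330) (iv F40741) (iv F44734)
theorem F47582 : act 5 n24266 = n23197 := d14_2 (iv F44735) D24266 F44877 F44063 (iv F40748)
def n24267 : Q := act 4 n23143
theorem D24267 : act 4 n23143 = n24267 := rfl
theorem F47583 : act 0 n24267 = n23146 := d3_1 D24267 (iv D23146) (iv F44744)
theorem F47584 : act 1 n24267 = n23180 := d7_1 D24267 (iv D23180) (iv F44745)
def n24268 : Q := act 3 n23144
theorem D24268 : act 3 n23144 = n24268 := rfl
theorem F47585 : act 0 n24268 = n23147 := d2_1 D24268 (iv D23147) (iv F44747)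
theorem F47586 : act 1 n24268 = n23228 := d6_1 D24268 (iv D23228) (iv F44748)
def n24269 : Q := act 4 n23145
theorem D24269 : act 4 n23145 = n24269 := rfl
theorem F47587 : act 1 n24269 = n23178 := d7_1 D24269 (iv D23178) (iv F44750)
theorem F47588 : act 2 n24269 = n23146 := d10_1 D24269 (iv D23146) D23145
def n24270 : Q := act 3 n23146
theorem D24270 : act 3 n23146 = n24270 := rfl
theorem F47589 : act 1 n24270 = n23166 := d6_1 D24270 (iv D23166) (iv F44753)
theorem F47590 : act 4 n24270 = n23147 := d12_2 D23146 D24270 (iv D23147) (iv D21486) D21485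
def n24271 : Q := act 5 n23146
theorem D24271 : act 5 n23146 = n24271 := rfl
theorem F47591 : act 1 n24271 = n23167 := d8_1 D24271 (iv D23167) (iv F44753)
theorem F47592 : act 4 n24271 = n23175 := d14_1 D24271 (iv D23175) (iv D21537) (iv F40668) D23146
def n24272 : Q := act 2 n23147
theorem D24272 : act 2 n23147 = n24272 := rfl
def n24273 : Q := act 5 n23147
theorem D24273 : act 5 n23147 = n24273 := rfl
theorem F47593 : act 1 n24273 = n23169 := d8_1 D24273 (iv D23169) (iv F44754)
theorem F47594 : act 3 n24273 = n23148 := d13_1 D24273 (iv D23148) D23147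
theorem F47595 : act 4 n24147 = n24273 := d12_0 F47594 F44757 F40834 D22902 D24147
def n24274 : Q := act 1 n23152
theorem D24274 : act 1 n23152 = n24274 := rfl
theorem F47596 : act 0 n24274 = n24183 := d0_1 D24274 F47344 F44490 F44217 (iv F44768)
theorem F47597 : act 2 n24274 = n23153 := d5_2 D23152 D24274 (iv D23153) (iv D21498) (iv F40700)
theorem F47598 : act 4 n24274 = n23155 := d7_2 (iv F44769) D24274 (iv D23155)
theorem F47599 : act 5 n24274 = n23776 := d8_2 (iv F44770) D24274 F46302
def n24275 : Q := act 3 n23152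
theorem D24275 : act 3 n23152 = n24275 := rfl
theorem F47600 : act 0 n24275 = n23206 := d2_1 D24275 (iv D23206) (iv F44768)
theorem F47601 : act 5 n24275 = n23777 := d13_2 (iv F44770) D24275 (iv D23777)
def n24276 : Q := act 2 n23156
theorem D24276 : act 2 n23156 = n24276 := rfl
theorem F47602 : act 4 n24276 = n23158 := d10_2 (iv F44784) D24276 (iv D23158)
def n24277 : Q := act 5 n23156
theorem D24277 : act 5 n23156 = n24277 := rfl
theorem F47603 : act 1 n24277 = n23158 := d8_1 D24277 (iv F44788) (iv F44783)
theorem F47604 : act 3 n24277 = n23157 := d13_1 D24277 (iv D23157) D23156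
def n24278 : Q := act 3 n23159
theorem D24278 : act 3 n23159 = n24278 := rfl
theorem F47605 : act 0 n24278 = n23515 := d2_1 D24278 F45648 (iv F44789)
theorem F47606 : act 2 n24278 = n23512 := d9_1 D24278 (iv D23512) (iv F45586) F45587 F42858 F38219 (iv F38239) D22405 (iv F45651) F45652 (iv F45566) F47558 F47556 F44710 (iv F44790)
theorem F47607 : act 5 n24278 = n23789 := d13_2 (iv F44791) D24278 (iv D23789)
def n24279 : Q := act 2 n23161
theorem D24279 : act 2 n23161 = n24279 := rfl
theorem F47608 : act 0 n24279 = n23162 := d1_1 D24279 (iv D23162) (iv F44795)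
theorem F47609 : act 4 n24279 = n24161 := d10_2 (iv F44797) D24279 (iv D24161)
theorem F47610 : act 5 n24279 = n23750 := d11_2 (iv F44798) D24279 (iv D23750)
def n24280 : Q := act 4 n23163
theorem D24280 : act 4 n23163 = n24280 := rfl
theorem F47611 : act 0 n24280 = n23413 := d3_1 D24280 (iv F45406) (iv F44800)
theorem F47612 : act 1 n24280 = n23200 := d7_1 D24280 (iv D23200) (iv F44801)
theorem F47613 : act 2 n24280 = n23402 := d10_1 D24280 F45382 (iv F44802)
theorem F47614 : act 3 n24280 = n23407 := d12_1 D24280 F45393 (iv D22379) (iv F40755) D23163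
theorem F47615 : act 5 n23406 = n24280 := d13_0 F47614 (iv D23407) D23406
def n24281 : Q := act 3 n23164
theorem D24281 : act 3 n23164 = n24281 := rfl
theorem F47616 : act 0 n24281 = n23228 := d2_1 D24281 (iv D23228) (iv F44803)
theorem F47617 : act 1 n24281 = n23165 := d6_1 D24281 (iv D23165) (iv F44804)
theorem F47618 : act 4 n24281 = n23181 := d12_2 D23164 D24281 (iv D23181) (iv D21547) (iv F40768)
theorem F47619 : act 5 n24281 = n24143 := d13_2 (iv F44806) D24281 (iv D24143)
def n24282 : Q := act 2 n23165
theorem D24282 : act 2 n23165 = n24282 := rfl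
theorem F47620 : act 0 n24282 = n23168 := d1_1 D24282 (iv D23168) (iv F44807)
theorem F47621 : act 3 n24282 = n23210 := d9_2 D23165 D24282 (iv D23210) (iv D21594) F35519 (iv F35316) (iv F40776) (iv F44816) (iv F47326) (iv D24176) F44210 F40123 F34682 (iv F35308) (iv F40771)
theorem F47622 : act 4 n24282 = n23183 := d10_2 (iv F44808) D24282 (iv D23183)
theorem F47623 : act 5 n24282 = n23212 := d11_2 (iv F44809) D24282 F44910
def n24283 : Q := act 2 n23166
theorem D24283 : act 2 n23166 = n24283 := rfl
theorem F47624 : act 0 n24283 = n23183 := d1_1 D24283 (iv D23183) (iv F44810)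
theorem F47625 : act 3 n24283 = n23218 := d9_2 D23166 D24283 F44922 F40990 F35531 (iv F35376) (iv F40849) (iv F44850) F44849 (iv D22877) F39798 F34111 (iv F29278) (iv F35373) (iv F40774)
theorem F47626 : act 4 n24283 = n23168 := d10_2 (iv F44811) D24283 (iv D23168)
theorem F47627 : act 5 n23217 = n24283 := d14_0 F47626 F47327 F47325 F47179 (iv F44920)
def n24284 : Q := act 5 n23166
theorem D24284 : act 5 n23166 = n24284 := rfl
theorem F47628 : act 0 n24284 = n23184 := d4_1 D24284 (iv D23184) (iv F44810)
theorem F47629 : act 2 n24284 = n23217 := d11_1 D24284 F47627 (iv D24283)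
theorem F47630 : act 3 n24284 = n23167 := d13_1 D24284 (iv D23167) D23166
theorem F47631 : act 4 n24284 = n24124 := d14_1 D24284 F47197 F44817 (iv D23169) (iv F44811)
def n24285 : Q := act 1 n23168
theorem D24285 : act 1 n23168 = n24285 := rfl
def n24286 : Q := act 3 n23171
theorem D24286 : act 3 n23171 = n24286 := rfl
theorem F47632 : act 0 n24286 = n23221 := d2_1 D24286 (iv D23221) (iv F44822)
theorem F47633 : act 1 n24286 = n23219 := d6_1 D24286 (iv D23219) (iv F44823)
theorem F47634 : act 2 n24286 = n23219 := d9_1 D24286 (iv D23219) F40992 (iv F40236) (iv F44331) D24200 F47398 (iv F44929) (iv D22932) (iv D21184) F34296 (iv F32533) (iv F38612) (iv F40792) (iv F44824)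
theorem F47635 : act 4 n24286 = n23219 := d12_2 D23171 D24286 (iv D23219) (iv D21602) (iv F40789)
theorem F47636 : act 5 n24286 = n23857 := d13_2 (iv F44825) D24286 (iv D23857)
def n24287 : Q := act 5 n23172
theorem D24287 : act 5 n23172 = n24287 := rfl
theorem F47637 : act 0 n24287 = n23175 := d4_1 D24287 (iv D23175) (iv F44826)
def n24288 : Q := act 3 n23173
theorem D24288 : act 3 n23173 = n24288 := rfl
theorem F47638 : act 0 n24288 = n23846 := d2_1 D24288 F47542 F47539
theorem F47639 : act 2 n23955 = n24288 := d15_0 (iv D24288) F44827 D23174 (iv F44830) (iv D22773) (iv F43358) D23931 F46708 D23955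
def n24289 : Q := act 5 n23173
theorem D24289 : act 5 n23173 = n24289 := rfl
theorem F47640 : act 2 n24289 = n23175 := d11_1 D24289 (iv D23175) (iv F44827)
def n24290 : Q := act 5 n23174
theorem D24290 : act 5 n23174 = n24290 := rfl
theorem F47641 : act 1 n24290 = n23177 := d8_1 D24290 (iv D23177) (iv F44828)
theorem F47642 : act 2 n24290 = n24052 := d11_1 D24290 F46967 F44830
theorem F47643 : act 3 n24290 = n23175 := d13_1 D24290 (iv D23175) D23174
theorem F47644 : act 4 n24290 = n24148 := d14_1 D24290 (iv D24148) (iv D22902) F40831 (iv F44829)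
def n24291 : Q := act 3 n23178
theorem D24291 : act 3 n23178 = n24291 := rfl
def n24292 : Q := act 5 n23178
theorem D24292 : act 5 n23178 = n24292 := rfl
theorem F47645 : act 2 n24292 = n23179 := d11_1 D24292 (iv D23179) (iv F44839)
def n24293 : Q := act 3 n23180
theorem D24293 : act 3 n23180 = n24293 := rfl
theorem F47646 : act 0 n24293 = n23181 := d2_1 D24293 (iv D23181) (iv F44842)
theorem F47647 : act 4 n24293 = n23228 := d12_2 D23180 D24293 (iv D23228) (iv D21619) (iv F40846)
def n24294 : Q := act 5 n23180
theorem D24294 : act 5 n23180 = n24294 := rfl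
theorem F47648 : act 0 n24294 = n23182 := d4_1 D24294 (iv D23182) (iv F44842)
theorem F47649 : act 2 n24294 = n23241 := d11_1 D24294 (iv D23241) (iv F44843)
def n24295 : Q := act 2 n23181
theorem D24295 : act 2 n23181 = n24295 := rfl
def n24296 : Q := act 5 n23181
theorem D24296 : act 5 n23181 = n24296 := rfl
theorem F47650 : act 1 n24296 = n23184 := d8_1 D24296 (iv D23184) (iv F44844)
theorem F47651 : act 3 n24296 = n23182 := d13_1 D24296 (iv D23182) D23181
def n24297 : Q := act 1 n23183
theorem D24297 : act 1 n23183 = n24297 := rfl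
theorem F47652 : act 3 n24297 = n24131 := d6_2 (iv F44847) D24297 F47221
theorem F47653 : act 5 n24297 = n24130 := d8_2 F44848 D24297 F47219
def n24298 : Q := act 4 n23184
theorem D24298 : act 4 n23184 = n24298 := rfl
theorem F47654 : act 0 n24298 = n24124 := d3_1 D24298 (iv F47631) F47628
theorem F47655 : act 2 n24298 = n24113 := d10_1 D24298 F47167 (iv F44849)
theorem F47656 : act 3 n24298 = n24115 := d12_1 D24298 F47173 (iv F44611) F44612 (iv F44850)
theorem F47657 : act 5 n24298 = n24122 := d14_2 D23184 D24298 F47193 (iv F44809) F44808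
def n24299 : Q := act 3 n23185
theorem D24299 : act 3 n23185 = n24299 := rfl
theorem F47658 : act 1 n24299 = n23683 := d6_1 D24299 (iv D23683) (iv F44851)
theorem F47659 : act 4 n24299 = n23186 := d12_2 D23185 D24299 (iv D23186) (iv D21551) D21550
def n24300 : Q := act 5 n23185
theorem D24300 : act 5 n23185 = n24300 := rfl
theorem F47660 : act 1 n24300 = n23682 := d8_1 D24300 F46065 (iv F44851)
theorem F47661 : act 4 n24300 = n23680 := d14_1 D24300 (iv D23680) (iv D22225) (iv F40851) D23185
def n24301 : Q := act 2 n23186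
theorem D24301 : act 2 n23186 = n24301 := rfl
theorem F47662 : act 0 n24301 = n23921 := d1_1 D24301 F46681 (iv F45691)
theorem F47663 : act 1 n24301 = n23893 := d5_1 D24301 (iv D23893) F43233 D22566 (iv F44852)

end Cfsg.Agent.Helper17.ONS1TC
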