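import Cfsg.Agent.Helper17.ONS1TC.Facts6

set_option autoImplicit false
set_option linter.all false

noncomputable section

namespace Cfsg.Agent.Helper17.ONS1TC

def n24302 : Q := act 5 n23186
theorem D24302 : act 5 n23186 = n24302 := rfl
theorem F47664 : act 1 n24302 = n23895 := d8_1 D24302 (iv D23895) (iv F44852)
theorem F47665 : act 3 n24302 = n23187 := d13_1 D24302 (iv D23187) D23186
def n24303 : Q := act 3 n23188
theorem D24303 : act 3 n23188 = n24303 := rfl
theorem F47666 : act 0 n24303 = n23189 := d2_1 D24303 (iv D23189) (iv F44855)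
theorem F47667 : act 1 n24303 = n23832 := d6_1 D24303 F46430 (iv F44856)
theorem F47668 : act 5 n24303 = n23830 := d13_2 (iv F44858) D24303 (iv D23830)
def n24304 : Q := act 2 n23189
theorem D24304 : act 2 n23189 = n24304 := rfl
theorem F47669 : act 1 n24304 = n24022 := d5_1 D24304 F46912 F43605 F41860 (iv F44859)
theorem F47670 : act 4 n24304 = n24019 := d10_2 F45223 D24304 F46908
theorem F47671 : act 5 n24304 = n24026 := d11_2 F45615 D24304 F46919
def n24305 : Q := act 3 n23191
theorem D24305 : act 3 n23191 = n24305 := rfl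
theorem F47672 : act 0 n24305 = n23194 := d2_1 D24305 (iv D23194) (iv F44863)
theorem F47673 : act 1 n24305 = n23836 := d6_1 D24305 (iv D23836) (iv F44864)
theorem F47674 : act 5 n23866 = n24305 := d8_0 F47673 F46442 D23866
def n24306 : Q := act 5 n23191
theorem D24306 : act 5 n23191 = n24306 := rfl
theorem F47675 : act 0 n24306 = n23195 := d4_1 D24306 (iv D23195) (iv F44863)
theorem F47676 : act 1 n24306 = n23474 := d8_1 D24306 F45552 (iv F44864)
theorem F47677 : act 2 n24306 = n23192 := d11_1 D24306 (iv D23192) (iv F44865)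
theorem F47678 : act 3 n24306 = n23866 := d13_1 D24306 F47674 (iv D24305)
theorem F47679 : act 4 n24306 = n23460 := d14_1 D24306 F45526 F42522 (iv F40862) D23191
def n24307 : Q := act 2 n23193
theorem D24307 : act 2 n23193 = n24307 := rfl
theorem F47680 : act 0 n24307 = n23196 := d1_1 D24307 (iv D23196) (iv F44869)
theorem F47681 : act 4 n24307 = n24159 := d10_2 (iv F44871) D24307 (iv D24159)
def n24308 : Q := act 2 n23194
theorem D24308 : act 2 n23194 = n24308 := rfl
def n24309 : Q := act 5 n23194
theorem D24309 : act 5 n23194 = n24309 := rfl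
theorem F47682 : act 0 n24309 = n23866 := d4_1 D24309 F47674 F47672
theorem F47683 : act 1 n24309 = n23459 := d8_1 D24309 F45523 (iv F44872)
theorem F47684 : act 3 n24309 = n23195 := d13_1 D24309 (iv D23195) D23194
theorem F47685 : act 4 n24309 = n23457 := d14_1 D24309 (iv F46535) F46534 (iv F46093) F46092
def n24310 : Q := act 1 n23196
theorem D24310 : act 1 n23196 = n24310 := rfl
theorem F47686 : act 2 n24310 = n23197 := d5_2 D23196 D24310 (iv D23197) (iv D21564) (iv F40873)
theorem F47687 : act 4 n24310 = n24160 := d7_2 (iv F44876) D24310 (iv D24160)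
def n24311 : Q := act 3 n23196
theorem D24311 : act 3 n23196 = n24311 := rfl
def n24312 : Q := act 2 n23198
theorem D24312 : act 2 n23198 = n24312 := rfl
theorem F47688 : act 0 n24312 = n23630 := d1_1 D24312 F45962 (iv F44878)
theorem F47689 : act 1 n24312 = n24248 := d5_1 D24312 F47531 F44666 F43134 (iv F44879)
theorem F47690 : act 3 n24312 = n24312 := d9_2 D23198 D24312 (iv D24312) (iv D23198) F40881 (iv D19546) (iv F31006) (iv F37311) (iv F42304) F42305 F42304 F37311 F31006 D19546 (iv F40881)
theorem F47691 : act 5 n24312 = n23274 := d11_2 (iv F44880) D24312 (iv D23274)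
def n24313 : Q := act 4 n23198
theorem D24313 : act 4 n23198 = n24313 := rfl
theorem F47692 : act 0 n24313 = n23632 := d3_1 D24313 (iv D23632) (iv F44878)
theorem F47693 : act 1 n24313 = n23199 := d7_1 D24313 (iv D23199) (iv F44879)
theorem F47694 : act 3 n24313 = n23639 := d12_1 D24313 (iv D23639) F42350 (iv F40882) D23198
theorem F47695 : act 5 n24313 = n23625 := d14_2 (iv F44880) D24313 (iv D23625) (iv D22151) (iv F41166)
def n24314 : Q := act 3 n23204
theorem D24314 : act 3 n23204 = n24314 := rfl
theorem F47696 : act 0 n24314 = n23621 := d2_1 D24314 (iv D23621) (iv F44897)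
theorem F47697 : act 1 n24314 = n23678 := d6_1 D24314 (iv D23678) (iv F44898)
theorem F47698 : act 2 n24314 = n23629 := d9_1 D24314 F45960 F42308 F37313 (iv F37299) (iv F37316) (iv F42302) D23627 F45955 (iv D23623) (iv D22150) (iv D20071) (iv F35482) D21583 D23204
theorem F47699 : act 5 n24314 = n23628 := d13_2 F45951 D24314 F45958
def n24315 : Q := act 3 n23205
theorem D24315 : act 3 n23205 = n24315 := rfl
theorem F47700 : act 4 n24315 = n23206 := d12_2 D23205 D24315 (iv D23206) (iv D21588) (iv F40956)
theorem F47701 : act 5 n24315 = n23995 := d13_2 F47442 D24315 (iv F47441)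
theorem F47702 : act 2 n24315 = n23206 := d15_2 (iv F44900) D24315 (iv D23206) F40957 (iv F40697) (iv F44766) (iv F47387) (iv D24198) F44323
def n24316 : Q := act 3 n23207
theorem D24316 : act 3 n23207 = n24316 := rfl
theorem F47703 : act 1 n24316 = n24132 := d6_1 D24316 (iv D24132) (iv F44902)
theorem F47704 : act 4 n24316 = n23208 := d12_2 D23207 D24316 (iv D23208) (iv D21591) D21590
def n24317 : Q := act 5 n23207
theorem D24317 : act 5 n23207 = n24317 := rfl
theorem F47705 : act 1 n24317 = n24133 := d8_1 D24317 (iv D24133) (iv F44902)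
theorem F47706 : act 4 n24317 = n24150 := d14_1 D24317 (iv D24150) (iv D22905) (iv F40964) D23207
def n24318 : Q := act 2 n23208
theorem D24318 : act 2 n23208 = n24318 := rfl
def n24319 : Q := act 5 n23208
theorem D24319 : act 5 n23208 = n24319 := rfl
theorem F47707 : act 1 n24319 = n24135 := d8_1 D24319 (iv D24135) (iv F44903)
theorem F47708 : act 3 n24319 = n23209 := d13_1 D24319 (iv D23209) D23208
def n24320 : Q := act 0 n23211
theorem D24320 : act 0 n23211 = n24320 := rfl
theorem F47709 : act 2 n24320 = n24195 := d1_2 F44944 D24320 F47375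
theorem F47710 : act 4 n24320 = n24180 := d3_2 (iv F44909) D24320 F47337
def n24321 : Q := act 3 n23211
theorem D24321 : act 3 n23211 = n24321 := rfl
theorem F47711 : act 1 n24321 = n23212 := d6_1 D24321 (iv D23212) D23211
theorem F47712 : act 4 n24321 = n24182 := d12_2 (iv F44909) D24321 (iv D24182) (iv D22977) D22976
def n24322 : Q := act 1 n23215
theorem D24322 : act 1 n23215 = n24322 := rfl
theorem F47713 : act 2 n24322 = n23216 := d5_2 D23215 D24322 (iv D23216) (iv D21600) (iv F40983)
theorem F47714 : act 4 n24322 = n23419 := d7_2 (iv F44917) D24322 F45428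
def n24323 : Q := act 3 n23215
theorem D24323 : act 3 n23215 = n24323 := rfl
theorem F47715 : act 0 n24323 = n23985 := d2_1 D24323 F46829 F45838
theorem F47716 : act 4 n24323 = n23829 := d12_2 (iv F44917) D24323 F46424 F43014 (iv F43509)
theorem F47717 : act 5 n24323 = n23983 := d13_2 F45837 D24323 F46825
def n24324 : Q := act 0 n23216
theorem D24324 : act 0 n23216 = n24324 := rfl
theorem F47718 : act 1 n24324 = n24129 := d0_2 D23216 D24324 F47216 F43987 (iv F40987)
theorem F47719 : act 4 n24324 = n23432 := d3_2 (iv F44918) D24324 F45462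
def n24325 : Q := act 3 n23216
theorem D24325 : act 3 n23216 = n24325 := rfl
theorem F47720 : act 1 n24325 = n23217 := d6_1 D24325 (iv D23217) D23216
theorem F47721 : act 4 n24325 = n24123 := d12_2 (iv F44918) D24325 (iv D24123) F43964 (iv F43931)
def n24326 : Q := act 5 n23216
theorem D24326 : act 5 n23216 = n24326 := rfl
theorem F47722 : act 1 n24326 = n23218 := d8_1 D24326 (iv D23218) D23216
theorem F47723 : act 4 n24326 = n24125 := d14_1 D24326 (iv D24125) (iv D22869) (iv F43932) (iv F44918)
def n24327 : Q := act 1 n23222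
theorem D24327 : act 1 n23222 = n24327 := rfl
theorem F47724 : act 0 n24327 = n23411 := d0_1 D24327 (iv F47187) F47186 F44447 (iv F44934)
theorem F47725 : act 2 n24327 = n23406 := d5_2 D23222 D24327 F47439 (iv D24215) F44418
theorem F47726 : act 3 n24327 = n23233 := d6_2 (iv F44935) D24327 (iv D23233)
theorem F47727 : act 5 n24327 = n23402 := d8_2 (iv F47424) D24327 (iv F47421)
def n24328 : Q := act 4 n23222
theorem D24328 : act 4 n23222 = n24328 := rfl
theorem F47728 : act 0 n24328 = n23225 := d3_1 D24328 (iv D23225) (iv F44934)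
theorem F47729 : act 2 n24328 = n23223 := d10_1 D24328 (iv D23223) D23222
theorem F47730 : act 5 n24328 = n24320 := d14_2 (iv F47424) D24328 F47710 F47340 D24210
def n24329 : Q := act 3 n23225
theorem D24329 : act 3 n23225 = n24329 := rfl
theorem F47731 : act 1 n24329 = n24282 := d6_1 D24329 F47621 (iv F44940)
theorem F47732 : act 4 n24329 = n24297 := d12_2 D23225 D24329 F47652 F47223 (iv D23224)
theorem F47733 : act 5 n24329 = n24321 := d13_2 (iv F44942) D24329 (iv D24321)
def n24330 : Q := act 2 n23228
theorem D24330 : act 2 n23228 = n24330 := rfl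
def n24331 : Q := act 5 n23228
theorem D24331 : act 5 n23228 = n24331 := rfl
theorem F47734 : act 0 n24331 = n24143 := d4_1 D24331 (iv F47619) F47616
theorem F47735 : act 3 n24331 = n23229 := d13_1 D24331 (iv D23229) D23228
def n24332 : Q := act 4 n23233
theorem D24332 : act 4 n23233 = n24332 := rfl
theorem F47736 : act 0 n24332 = n24326 := d3_1 D24332 F47723 F47198
theorem F47737 : act 1 n24332 = n23234 := d7_1 D24332 (iv D23234) D23233
theorem F47738 : act 2 n24332 = n23237 := d10_1 D24332 (iv D23237) (iv F44960)
theorem F47739 : act 5 n24332 = n24324 := d14_2 (iv F44961) D24332 F47719 F45465 (iv F43967)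
def n24333 : Q := act 3 n23234
theorem D24333 : act 3 n23234 = n24333 := rfl
theorem F47740 : act 0 n24333 = n24297 := d2_1 D24333 F47652 F47220
def n24334 : Q := act 4 n23236
theorem D24334 : act 4 n23236 = n24334 := rfl
theorem F47741 : act 0 n24334 = n23237 := d3_1 D24334 (iv D23237) D23236
theorem F47742 : act 1 n24334 = n23586 := d7_1 D24334 (iv D23586) (iv F44965)
theorem F47743 : act 2 n24334 = n24326 := d10_1 D24334 F47723 F47200
theorem F47744 : act 5 n24334 = n24322 := d14_2 (iv F44967) D24334 F47714 (iv D23419) F41634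
def n24335 : Q := act 3 n23237
theorem D24335 : act 3 n23237 = n24335 := rfl
theorem F47745 : act 1 n24335 = n23238 := d6_1 D24335 (iv D23238) (iv F44968)
theorem F47746 : act 4 n24335 = n23383 := d12_2 D23237 D24335 F45334 F41474 (iv F41055)
def n24336 : Q := act 5 n23237
theorem D24336 : act 5 n23237 = n24336 := rfl
theorem F47747 : act 0 n24336 = n24322 := d4_1 D24336 (iv F47744) F47741
theorem F47748 : act 1 n24336 = n23239 := d8_1 D24336 (iv D23239) (iv F44968)
theorem F47749 : act 2 n24336 = n24324 := d11_1 D24336 (iv F47739) F47738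
theorem F47750 : act 4 n24336 = n23403 := d14_1 D24336 (iv D23403) (iv D21832) (iv F41056) D23237
def n24337 : Q := act 2 n23242
theorem D24337 : act 2 n23242 = n24337 := rfl
theorem F47751 : act 0 n24337 = n23244 := d1_1 D24337 (iv D23244) (iv F44979)
theorem F47752 : act 1 n24337 = n23244 := d5_1 D24337 (iv D23244) F41072 D22932 (iv F44980)
theorem F47753 : act 3 n24337 = n23244 := d9_2 D23242 D24337 (iv D23244) (iv D21642) F35656 F29405 (iv F29415) D19379 D21644 (iv F44991) (iv D23245) (iv D21643) F35659 (iv F35645) (iv F41066)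
theorem F47754 : act 4 n24337 = n23695 := d10_2 (iv F44981) D24337 F46098
theorem F47755 : act 5 n24337 = n23245 := d11_2 (iv F44982) D24337 (iv D23245)
def n24338 : Q := act 2 n23243
theorem D24338 : act 2 n23243 = n24338 := rfl
theorem F47756 : act 0 n24338 = n23695 := d1_1 D24338 F46098 (iv F44983)
theorem F47757 : act 1 n24338 = n23695 := d5_1 D24338 F46098 (iv F46100) F46101 (iv F44984)
theorem F47758 : act 4 n24338 = n23244 := d10_2 (iv F44985) D24338 (iv D23244)
theorem F47759 : act 5 n24338 = n23695 := d11_2 (iv F44986) D24338 F46098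
theorem F47760 : act 3 n24338 = n23694 := d15_1 D24338 (iv D23694) (iv D22249) F37563 D20201 (iv F41070) D23243 F44986 (iv F44983)
def n24339 : Q := act 3 n23246
theorem D24339 : act 3 n23246 = n24339 := rfl
theorem F47761 : act 0 n24339 = n23250 := d2_1 D24339 (iv D23250) (iv F44992)
theorem F47762 : act 1 n24339 = n23266 := d6_1 D24339 (iv D23266) (iv F44993)
theorem F47763 : act 4 n24339 = n23247 := d12_2 D23246 D24339 (iv D23247) (iv D21646) D21645
def n24340 : Q := act 2 n23247
theorem D24340 : act 2 n23247 = n24340 := rfl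
theorem F47764 : act 0 n24340 = n23252 := d1_1 D24340 (iv D23252) (iv F44995)
def n24341 : Q := act 5 n23247
theorem D24341 : act 5 n23247 = n24341 := rfl
theorem F47765 : act 0 n24341 = n23253 := d4_1 D24341 (iv D23253) (iv F44995)
theorem F47766 : act 3 n24341 = n23248 := d13_1 D24341 (iv D23248) D23247
theorem F47767 : act 4 n23867 = n24341 := d12_0 F47766 F44998 (iv F42590) (iv F43119) D23867
def n24342 : Q := act 3 n23249
theorem D24342 : act 3 n23249 = n24342 := rfl
theorem F47768 : act 0 n24342 = n23838 := d2_1 D24342 (iv D23838) (iv F44999)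
theorem F47769 : act 1 n24342 = n23265 := d6_1 D24342 (iv D23265) (iv F45000)
theorem F47770 : act 4 n24342 = n23864 := d12_2 D23249 D24342 (iv D23864) F43117 (iv F41087)
theorem F47771 : act 5 n24342 = n23997 := d13_2 (iv F45002) D24342 (iv D23997)
def n24343 : Q := act 2 n23250
theorem D24343 : act 2 n23250 = n24343 := rfl
theorem F47772 : act 1 n24343 = n23659 := d5_1 D24343 (iv D23659) F45029 (iv D23261) (iv F45003)
theorem F47773 : act 4 n24343 = n23252 := d10_2 (iv F45004) D24343 (iv D23252)
def n24344 : Q := act 5 n23250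
theorem D24344 : act 5 n23250 = n24344 := rfl
theorem F47774 : act 1 n24344 = n23260 := d8_1 D24344 F45024 (iv F45003)
theorem F47775 : act 3 n24344 = n23251 := d13_1 D24344 (iv D23251) D23250
theorem F47776 : act 4 n24344 = n23788 := d14_1 D24344 (iv F47039) F47038 (iv D23253) (iv F45004)
def n24345 : Q := act 1 n23252
theorem D24345 : act 1 n23252 = n24345 := rfl
theorem F47777 : act 2 n24345 = n23263 := d5_2 D23252 D24345 (iv D23263) (iv D21666) (iv F41090)
theorem F47778 : act 4 n24345 = n23659 := d7_2 F47773 D24345 (iv F47772)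
def n24346 : Q := act 3 n23252
theorem D24346 : act 3 n23252 = n24346 := rfl
def n24347 : Q := act 5 n23252
theorem D24347 : act 5 n23252 = n24347 := rfl
theorem F47779 : act 2 n24347 = n23253 := d11_1 D24347 (iv D23253) D23252
def n24348 : Q := act 0 n23254
theorem D24348 : act 0 n23254 = n24348 := rfl
def n24349 : Q := act 3 n23254
theorem D24349 : act 3 n23254 = n24349 := rfl
theorem F47780 : act 1 n24349 = n23255 := d6_1 D24349 (iv D23255) D23254
def n24350 : Q := act 4 n23257
theorem D24350 : act 4 n23257 = n24350 := rfl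
theorem F47781 : act 0 n24350 = n24112 := d3_1 D24350 F47164 (iv F45011)
theorem F47782 : act 1 n24350 = n23431 := d7_1 D24350 F45461 (iv F45012)
theorem F47783 : act 2 n24350 = n23258 := d10_1 D24350 (iv D23258) D23257
theorem F47784 : act 5 n24350 = n24181 := d14_2 (iv F45013) D24350 (iv D24181) F44224 F44201
def n24351 : Q := act 1 n23262
theorem D24351 : act 1 n23262 = n24351 := rfl
theorem F47785 : act 3 n24351 = n23658 := d6_2 F46135 D24351 (iv F46133)
theorem F47786 : act 4 n24351 = n23787 := d7_2 (iv F45030) D24351 F46325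
theorem F47787 : act 5 n24351 = n23263 := d8_2 (iv F45031) D24351 (iv D23263)
def n24352 : Q := act 2 n23266
theorem D24352 : act 2 n23266 = n24352 := rfl
theorem F47788 : act 0 n24352 = n23268 := d1_1 D24352 (iv D23268) (iv F45042)
theorem F47789 : act 3 n24352 = n23479 := d9_2 D23266 D24352 F45565 F41795 F36647 (iv F36631) (iv F41136) (iv F45047) (iv F47055) (iv D24079) F43769 (iv D21927) F36639 (iv F36625) (iv F41133)
theorem F47790 : act 5 n24352 = n23478 := d11_2 (iv F47128) D24352 (iv F47126)
def n24353 : Q := act 5 n23272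
theorem D24353 : act 5 n23272 = n24353 := rfl
theorem F47791 : act 0 n24353 = n23528 := d4_1 D24353 F45678 (iv F45054)
theorem F47792 : act 2 n24353 = n24245 := d11_1 D24353 (iv D24245) (iv F45056)
theorem F47793 : act 3 n24353 = n23273 := d13_1 D24353 (iv D23273) D23272
theorem F47794 : act 4 n23874 = n24353 := d12_0 F47793 F45059 F41928 (iv F43129) D23874
def n24354 : Q := act 2 n23276
theorem D24354 : act 2 n23276 = n24354 := rfl
theorem F47795 : act 0 n24354 = n23278 := d1_1 D24354 (iv D23278) (iv F45069)
theorem F47796 : act 1 n24354 = n23969 := d5_1 D24354 (iv D23969) (iv F45083) (iv F45245) F45243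
theorem F47797 : act 4 n24354 = n23969 := d10_2 (iv F45070) D24354 (iv D23969)
theorem F47798 : act 3 n24354 = n23739 := d15_1 D24354 F46216 F42677 (iv F41172) F41173 (iv F41180) (iv F45078) (iv D23280) (iv F45069)
theorem F47799 : act 5 n23738 = n24354 := d13_0 F47798 (iv D23739) D23738
def n24355 : Q := act 5 n23276
theorem D24355 : act 5 n23276 = n24355 := rfl
theorem F47800 : act 0 n24355 = n23280 := d4_1 D24355 (iv D23280) (iv F45069)
theorem F47801 : act 1 n24355 = n23282 := d8_1 D24355 F45246 F45243
theorem F47802 : act 2 n24355 = n23738 := d11_1 D24355 F47799 (iv D24354)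
theorem F47803 : act 3 n24355 = n23277 := d13_1 D24355 (iv D23277) D23276
theorem F47804 : act 4 n24355 = n23280 := d14_1 D24355 (iv D23280) D23279 (iv F45076) (iv F45070)
def n24356 : Q := act 1 n23278
theorem D24356 : act 1 n23278 = n24356 := rfl
theorem F47805 : act 2 n24356 = n23280 := d5_2 D23278 D24356 F45077 (iv D21689) (iv F41178)
theorem F47806 : act 0 n23738 = n24356 := d1_3 F47805 (iv F47800) F47802
theorem F47807 : act 3 n23735 = n24356 := d9_0 F47805 F45078 F41180 (iv F41173) F41172 (iv F42677) (iv F46216) (iv F47798) (iv D24354) (iv D23276) F41176 D21692 (iv F41189) D22315 D23735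
theorem F47808 : act 4 n23738 = n24356 := d10_0 F47805 (iv F47804) F47802
theorem F47809 : act 5 n23278 = n24356 := d11_0 F47805 (iv D23280) D23278
def n24357 : Q := act 3 n23278
theorem D24357 : act 3 n23278 = n24357 := rfl
theorem F47810 : act 0 n24357 = n23739 := d2_1 D24357 (iv F47798) F47795
theorem F47811 : act 1 n24357 = n23735 := d6_1 D24357 F47807 (iv D24356)
theorem F47812 : act 2 n24357 = n23736 := d9_1 D24357 F46211 (iv F45065) F45066 (iv F45072) (iv F47803) F47802 (iv D23738) (iv D22317) (iv D20316) F35897 (iv D19475) (iv F35887) D21687 D23278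
theorem F47813 : act 5 n24357 = n23735 := d13_2 (iv F47809) D24357 F47807
def n24358 : Q := act 4 n23278
theorem D24358 : act 4 n23278 = n24358 := rfl
theorem F47814 : act 0 n24358 = n23969 := d3_1 D24358 (iv F47797) F47795
theorem F47815 : act 1 n24358 = n23738 := d7_1 D24358 F47808 (iv D24356)
theorem F47816 : act 2 n24358 = n23279 := d10_1 D24358 (iv D23279) D23278
theorem F47817 : act 5 n24358 = n23969 := d14_2 (iv F47809) D24358 (iv F47797) (iv F47799) F47808
theorem F47818 : act 3 n23737 = n24358 := d13_3 F47817 F46802 F46214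
def n24359 : Q := act 3 n23284
theorem D24359 : act 3 n23284 = n24359 := rfl
theorem F47819 : act 0 n24359 = n23285 := d2_1 D24359 (iv D23285) (iv F45085)
theorem F47820 : act 1 n24359 = n23346 := d6_1 D24359 (iv D23346) (iv F45086)
theorem F47821 : act 4 n24359 = n23328 := d12_2 D23284 D24359 (iv D23328) (iv F45067) F45066
theorem F47822 : act 5 n24359 = n23344 := d13_2 (iv F45087) D24359 (iv D23344)
def n24360 : Q := act 2 n23285
theorem D24360 : act 2 n23285 = n24360 := rfl
theorem F47823 : act 1 n24360 = n23345 := d5_1 D24360 (iv D23345) F41367 (iv F41195) (iv F45088)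
theorem F47824 : act 4 n24360 = n23329 := d10_2 (iv F45089) D24360 (iv D23329)
theorem F47825 : act 5 n24360 = n23345 := d11_2 (iv F45090) D24360 (iv D23345)
theorem F47826 : act 3 n24360 = n23345 := d15_1 D24360 (iv D23345) (iv D21761) (iv F41356) (iv F41612) F41611 D23344 (iv F47822) F47819
def n24361 : Q := act 0 n23286
theorem D24361 : act 0 n23286 = n24361 := rfl
theorem F47827 : act 1 n24361 = n23289 := d0_2 D23286 D24361 (iv D23289) (iv D21698) (iv F41198)
theorem F47828 : act 2 n24361 = n23719 := d1_2 (iv F45091) D24361 F46168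
theorem F47829 : act 4 n24361 = n23706 := d3_2 F45093 D24361 F46129
theorem F47830 : act 5 n24361 = n23332 := d4_2 (iv F45092) D24361 F45202
def n24362 : Q := act 3 n23286
theorem D24362 : act 3 n23286 = n24362 := rfl
theorem F47831 : act 1 n24362 = n23287 := d6_1 D24362 (iv D23287) D23286
theorem F47832 : act 5 n24362 = n23722 := d13_2 (iv F45092) D24362 (iv D23722)
def n24363 : Q := act 4 n23287
theorem D24363 : act 4 n23287 = n24363 := rfl
theorem F47833 : act 0 n24363 = n23293 := d3_1 D24363 (iv D23293) (iv F45094)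
def n24364 : Q := act 3 n23288
theorem D24364 : act 3 n23288 = n24364 := rfl
theorem F47834 : act 0 n24364 = n23295 := d2_1 D24364 (iv D23295) (iv F45096)
theorem F47835 : act 1 n24364 = n23729 := d6_1 D24364 F46196 (iv F45097)
theorem F47836 : act 5 n24364 = n23305 := d13_2 (iv F45099) D24364 (iv D23305)
theorem F47837 : act 2 n24364 = n23323 := d15_2 (iv F45098) D24364 (iv D23323) (iv D21727) (iv D19511) F29722 (iv F29710) F35907 (iv F41200)
def n24365 : Q := act 4 n23289
theorem D24365 : act 4 n23289 = n24365 := rfl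
theorem F47838 : act 0 n24365 = n23291 := d3_1 D24365 (iv D23291) D23289
theorem F47839 : act 1 n24365 = n23706 := d7_1 D24365 (iv F47829) F47827
theorem F47840 : act 2 n24365 = n23296 := d10_1 D24365 (iv D23296) (iv F45100)
theorem F47841 : act 5 n24365 = n23306 := d14_2 (iv F45101) D24365 (iv D23306) F41254 D21737
def n24366 : Q := act 4 n23290
theorem D24366 : act 4 n23290 = n24366 := rfl
theorem F47842 : act 1 n24366 = n23293 := d7_1 D24366 (iv D23293) (iv F45102)
def n24367 : Q := act 3 n23291
theorem D24367 : act 3 n23291 = n24367 := rfl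
theorem F47843 : act 1 n24367 = n23295 := d6_1 D24367 (iv D23295) (iv F45104)
theorem F47844 : act 5 n24367 = n23308 := d13_2 (iv F45106) D24367 (iv D23308)
def n24368 : Q := act 1 n23292
theorem D24368 : act 1 n23292 = n24368 := rfl
theorem F47845 : act 3 n24368 = n23880 := d6_2 (iv F45291) D24368 F46544
theorem F47846 : act 5 n24368 = n23881 := d8_2 F46110 D24368 F46546
def n24369 : Q := act 4 n23292
theorem D24369 : act 4 n23292 = n24369 := rfl
theorem F47847 : act 2 n24369 = n23293 := d10_1 D24369 (iv D23293) D23292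
def n24370 : Q := act 3 n23293
theorem D24370 : act 3 n23293 = n24370 := rfl
theorem F47848 : act 4 n24370 = n23295 := d12_2 D23293 D24370 (iv D23295) (iv D21700) D21699
def n24371 : Q := act 5 n23293
theorem D24371 : act 5 n23293 = n24371 := rfl
def n24372 : Q := act 4 n23294
theorem D24372 : act 4 n23294 = n24372 := rfl
theorem F47849 : act 0 n24372 = n23454 := d3_1 D24372 F45513 (iv F45107)
theorem F47850 : act 1 n24372 = n23334 := d7_1 D24372 F45208 (iv F45108)
theorem F47851 : act 3 n24372 = n23303 := d12_1 D24372 (iv D23303) (iv D21711) (iv F41211) (iv F45109)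
def n24373 : Q := act 2 n23295
theorem D24373 : act 2 n23295 = n24373 := rfl
theorem F47852 : act 0 n24373 = n23323 := d1_1 D24373 (iv F47837) F47834
theorem F47853 : act 5 n24373 = n23311 := d11_2 (iv F45110) D24373 (iv D23311)
theorem F47854 : act 3 n24373 = n23317 := d15_1 D24373 (iv D23317) (iv D21723) F35988 (iv F35969) (iv F41251) D23305 (iv F47836) F47834
def n24374 : Q := act 3 n23296
theorem D24374 : act 3 n23296 = n24374 := rfl
theorem F47855 : act 0 n24374 = n23297 := d2_1 D24374 (iv D23297) (iv F45111)
theorem F47856 : act 1 n24374 = n23328 := d6_1 D24374 (iv D23328) (iv F45112)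
theorem F47857 : act 4 n24374 = n23346 := d12_2 D23296 D24374 (iv D23346) F41369 (iv F41212)
theorem F47858 : act 5 n24374 = n23312 := d13_2 (iv F45113) D24374 (iv D23312)
def n24375 : Q := act 2 n23297
theorem D24375 : act 2 n23297 = n24375 := rfl
theorem F47859 : act 1 n24375 = n23326 := d5_1 D24375 (iv D23326) F41287 (iv F41217) (iv F45114)
theorem F47860 : act 4 n24375 = n23347 := d10_2 (iv F45115) D24375 (iv D23347)
theorem F47861 : act 5 n24375 = n23313 := d11_2 (iv F45116) D24375 (iv D23313)
def n24376 : Q := act 2 n23298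
theorem D24376 : act 2 n23298 = n24376 := rfl
theorem F47862 : act 0 n24376 = n23299 := d1_1 D24376 (iv D23299) (iv F45117)
theorem F47863 : act 3 n24376 = n23311 := d9_2 D23298 D24376 (iv D23311) (iv D21718) F35972 F29710 (iv F29722) D19511 D21727 D23323 (iv F47837) (iv D24364) F45098 F41202 (iv F41222)
theorem F47864 : act 4 n24376 = n23975 := d10_2 (iv F45119) D24376 (iv D23975)
theorem F47865 : act 5 n24376 = n23317 := d11_2 (iv F45120) D24376 (iv D23317)
def n24377 : Q := act 3 n23299
theorem D24377 : act 3 n23299 = n24377 := rfl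
theorem F47866 : act 0 n24377 = n23311 := d2_1 D24377 (iv F47863) F47862
theorem F47867 : act 1 n24377 = n23976 := d6_1 D24377 (iv D23976) (iv F45121)
theorem F47868 : act 2 n24377 = n23305 := d9_1 D24377 (iv D23305) F41251 F35969 (iv F35988) D21723 D23317 (iv F47854) (iv D24373) (iv D23295) F41206 F35906 (iv F35925) D21706 D23299
theorem F47869 : act 5 n24377 = n23323 := d13_2 (iv F45123) D24377 (iv D23323)
def n24378 : Q := act 2 n23301
theorem D24378 : act 2 n23301 = n24378 := rfl
theorem F47870 : act 0 n24378 = n23302 := d1_1 D24378 (iv D23302) (iv F45129)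
theorem F47871 : act 3 n24378 = n23468 := d9_2 D23301 D24378 (iv D23468) (iv D21916) (iv D19758) (iv D16970) (iv F29931) D19582 D21767 D23351 (iv F47287) (iv D24164) F44079 F39919 (iv F41235)
theorem F47872 : act 4 n24378 = n23337 := d10_2 (iv F45131) D24378 (iv D23337)
theorem F47873 : act 5 n24378 = n23350 := d11_2 (iv F45132) D24378 (iv D23350)
def n24379 : Q := act 3 n23302
theorem D24379 : act 3 n23302 = n24379 := rfl
theorem F47874 : act 0 n24379 = n23468 := d2_1 D24379 (iv F47871) F47870
theorem F47875 : act 1 n24379 = n23338 := d6_1 D24379 (iv D23338) (iv F45133)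
theorem F47876 : act 5 n24379 = n23351 := d13_2 (iv F45135) D24379 (iv D23351)
theorem F47877 : act 2 n24379 = n23465 := d15_2 D23302 D24379 (iv D23465) (iv D21914) (iv D19756) (iv F36181) D21766 (iv F45132) F45129
def n24380 : Q := act 5 n23303
theorem D24380 : act 5 n23303 = n24380 := rfl
theorem F47878 : act 0 n24380 = n23455 := d4_1 D24380 (iv D23455) (iv F45136)
theorem F47879 : act 1 n24380 = n23335 := d8_1 D24380 (iv D23335) (iv F45137)
theorem F47880 : act 2 n24380 = n23453 := d11_1 D24380 (iv D23453) (iv F45138)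
theorem F47881 : act 4 n24380 = n23310 := d14_1 D24380 (iv D23310) (iv D21717) (iv F41243) D23303
def n24381 : Q := act 3 n23304
theorem D24381 : act 3 n23304 = n24381 := rfl
theorem F47882 : act 0 n24381 = n23309 := d2_1 D24381 (iv D23309) (iv F45139)
theorem F47883 : act 1 n24381 = n23703 := d6_1 D24381 (iv D23703) (iv F45140)
theorem F47884 : act 4 n24381 = n23305 := d12_2 D23304 D24381 (iv D23305) (iv D21713) D21712
def n24382 : Q := act 5 n23304
theorem D24382 : act 5 n23304 = n24382 := rfl
theorem F47885 : act 0 n24382 = n23310 := d4_1 D24382 (iv D23310) (iv F45139)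
theorem F47886 : act 1 n24382 = n23704 := d8_1 D24382 (iv D23704) (iv F45140)
theorem F47887 : act 2 n24382 = n23441 := d11_1 D24382 (iv D23441) (iv F45141)
theorem F47888 : act 4 n24382 = n23455 := d14_1 D24382 (iv D23455) (iv D21898) (iv F41248) D23304
def n24383 : Q := act 3 n23306
theorem D24383 : act 3 n23306 = n24383 := rfl
theorem F47889 : act 0 n24383 = n23308 := d2_1 D24383 (iv D23308) (iv F45144)
theorem F47890 : act 1 n24383 = n23705 := d6_1 D24383 (iv D23705) (iv F45145)
theorem F47891 : act 4 n24383 = n23429 := d12_2 D23306 D24383 (iv D23429) (iv D21874) F41255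
def n24384 : Q := act 3 n23307
theorem D24384 : act 3 n23307 = n24384 := rfl
theorem F47892 : act 0 n24384 = n23429 := d2_1 D24384 (iv D23429) (iv F45147)
theorem F47893 : act 1 n24384 = n23309 := d6_1 D24384 (iv D23309) (iv F45148)
theorem F47894 : act 4 n24384 = n23308 := d12_2 D23307 D24384 (iv D23308) (iv D21716) D21715
def n24385 : Q := act 5 n23307
theorem D24385 : act 5 n23307 = n24385 := rfl
theorem F47895 : act 0 n24385 = n23430 := d4_1 D24385 (iv D23430) (iv F45147)
theorem F47896 : act 1 n24385 = n23310 := d8_1 D24385 (iv D23310) (iv F45148)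
theorem F47897 : act 2 n24385 = n23426 := d11_1 D24385 (iv D23426) (iv F45149)
theorem F47898 : act 4 n24385 = n23335 := d14_1 D24385 (iv D23335) (iv D21738) (iv F41259) D23307
def n24386 : Q := act 2 n23308
theorem D24386 : act 2 n23308 = n24386 := rfl
def n24387 : Q := act 2 n23309
theorem D24387 : act 2 n23309 = n24387 := rfl
theorem F47899 : act 4 n24387 = n23311 := d10_2 (iv F45151) D24387 (iv D23311)
def n24388 : Q := act 5 n23309
theorem D24388 : act 5 n23309 = n24388 := rfl
theorem F47900 : act 3 n24388 = n23310 := d13_1 D24388 (iv D23310) D23309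
def n24389 : Q := act 1 n23311
theorem D24389 : act 1 n23311 = n24389 := rfl
def n24390 : Q := act 2 n23312
theorem D24390 : act 2 n23312 = n24390 := rfl
theorem F47901 : act 0 n24390 = n23313 := d1_1 D24390 (iv D23313) (iv F45152)
theorem F47902 : act 4 n24390 = n23330 := d10_2 (iv F45154) D24390 (iv D23330)
def n24391 : Q := act 3 n23313
theorem D24391 : act 3 n23313 = n24391 := rfl
theorem F47903 : act 1 n24391 = n23331 := d6_1 D24391 (iv D23331) (iv F45155)
def n24392 : Q := act 2 n23314
theorem D24392 : act 2 n23314 = n24392 := rfl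
theorem F47904 : act 0 n24392 = n23352 := d1_1 D24392 (iv D23352) (iv F45157)
theorem F47905 : act 4 n24392 = n23390 := d10_2 (iv F45159) D24392 (iv D23390)
theorem F47906 : act 5 n24392 = n23971 := d11_2 (iv F45160) D24392 (iv D23971)
theorem F47907 : act 3 n24392 = n24090 := d15_1 D24392 (iv D24090) (iv D22813) (iv D21032) (iv D18612) (iv F33132) D20820 (iv F41377) (iv F45157)
def n24393 : Q := act 2 n23315
theorem D24393 : act 2 n23315 = n24393 := rfl
theorem F47908 : act 0 n24393 = n23320 := d1_1 D24393 (iv D23320) (iv F45161)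
theorem F47909 : act 4 n24393 = n23317 := d10_2 (iv F45163) D24393 (iv D23317)
def n24394 : Q := act 5 n23315
theorem D24394 : act 5 n23315 = n24394 := rfl
theorem F47910 : act 0 n24394 = n23321 := d4_1 D24394 (iv D23321) (iv F45161)
theorem F47911 : act 1 n24394 = n23342 := d8_1 D24394 F45221 (iv F45162)
theorem F47912 : act 3 n24394 = n23316 := d13_1 D24394 (iv D23316) D23315
theorem F47913 : act 4 n24394 = n23354 := d14_1 D24394 F45241 (iv F45119) F45120 (iv F45163)
def n24395 : Q := act 1 n23317
theorem D24395 : act 1 n23317 = n24395 := rfl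
def n24396 : Q := act 5 n23318
theorem D24396 : act 5 n23318 = n24396 := rfl
theorem F47914 : act 0 n24396 = n23343 := d4_1 D24396 F45224 (iv F45169)
theorem F47915 : act 1 n24396 = n23389 := d8_1 D24396 (iv D23389) (iv F45170)
theorem F47916 : act 3 n24396 = n23319 := d13_1 D24396 (iv D23319) D23318
theorem F47917 : act 4 n24396 = n24303 := d14_1 D24396 F47668 F46427 (iv D23499) (iv F45171)
def n24397 : Q := act 1 n23320
theorem D24397 : act 1 n23320 = n24397 := rfl
theorem F47918 : act 2 n24397 = n23321 := d5_2 D23320 D24397 F45177 (iv D21770) (iv F41275)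
theorem F47919 : act 4 n24397 = n23322 := d7_2 (iv F45176) D24397 (iv D23322)
theorem F47920 : act 5 n23320 = n24397 := d14_0 F47919 F45181 (iv F45122) F45123 (iv F45176)
def n24398 : Q := act 3 n23320
theorem D24398 : act 3 n23320 = n24398 := rfl
def n24399 : Q := act 0 n23322
theorem D24399 : act 0 n23322 = n24399 := rfl
theorem F47921 : act 2 n24399 = n23354 := d1_2 (iv F45180) D24399 (iv D23354)
theorem F47922 : act 5 n24399 = n23975 := d4_2 (iv F45181) D24399 F46811
def n24400 : Q := act 3 n23322
theorem D24400 : act 3 n23322 = n24400 := rfl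
theorem F47923 : act 1 n24400 = n23323 := d6_1 D24400 (iv D23323) D23322
theorem F47924 : act 5 n24400 = n23976 := d13_2 (iv F45181) D24400 (iv D23976)
def n24401 : Q := act 4 n23323
theorem D24401 : act 4 n23323 = n24401 := rfl
def n24402 : Q := act 2 n23325
theorem D24402 : act 2 n23325 = n24402 := rfl
theorem F47925 : act 0 n24402 = n23326 := d1_1 D24402 (iv D23326) (iv F45187)
theorem F47926 : act 4 n24402 = n23348 := d10_2 (iv F45189) D24402 (iv D23348)
theorem F47927 : act 5 n24402 = n23330 := d11_2 (iv F45190) D24402 (iv D23330)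
theorem F47928 : act 3 n24402 = n23435 := d15_1 D24402 (iv D23435) (iv D21879) (iv D19710) (iv D16915) (iv F29762) D19527 (iv F41289) (iv F45187)
def n24403 : Q := act 3 n23326
theorem D24403 : act 3 n23326 = n24403 := rfl
theorem F47929 : act 0 n24403 = n23435 := d2_1 D24403 (iv F47928) F47925
theorem F47930 : act 5 n24403 = n23331 := d13_2 (iv F45192) D24403 (iv D23331)
theorem F47931 : act 2 n24403 = n23428 := d15_2 D23326 D24403 (iv D23428) (iv D21873) (iv D19706) (iv F36039) D21734 (iv F45190) F45187
def n24404 : Q := act 2 n23328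
theorem D24404 : act 2 n23328 = n24404 := rfl
theorem F47932 : act 0 n24404 = n23329 := d1_1 D24404 (iv D23329) (iv F45197)
theorem F47933 : act 5 n24404 = n23337 := d11_2 (iv F45198) D24404 (iv D23337)
def n24405 : Q := act 3 n23329
theorem D24405 : act 3 n23329 = n24405 := rfl
theorem F47934 : act 1 n24405 = n23351 := d6_1 D24405 (iv D23351) (iv F45199)
theorem F47935 : act 4 n24405 = n23351 := d12_2 F47824 D24405 (iv D23351) (iv F45228) (iv F47826)
theorem F47936 : act 5 n24405 = n23338 := d13_2 (iv F45200) D24405 (iv D23338)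
def n24406 : Q := act 1 n23330
theorem D24406 : act 1 n23330 = n24406 := rfl
def n24407 : Q := act 3 n23330
theorem D24407 : act 3 n23330 = n24407 := rfl
theorem F47937 : act 0 n24407 = n23331 := d2_1 D24407 (iv D23331) (iv F45201)
theorem F47938 : act 2 n24407 = n23424 := d9_1 D24407 (iv D23424) (iv D21870) (iv D19701) (iv F36019) D21730 D23326 D24403 F47931 (iv D23428) (iv D21873) (iv D19706) (iv F36039) D21734 D23330
theorem F47939 : act 5 n24407 = n23435 := d13_2 F47927 D24407 (iv F47928)
def n24408 : Q := act 2 n23331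
theorem D24408 : act 2 n23331 = n24408 := rfl
theorem F47940 : act 0 n24408 = n23424 := d1_1 D24408 (iv F47938) F47937
theorem F47941 : act 3 n24408 = n23418 := d9_2 D23331 D24408 (iv D23418) (iv D21864) (iv F41284) D23325 D24402 F47928 (iv D23435) (iv D21879) (iv D19710) (iv D16915) (iv F29762) D19527 D21735
theorem F47942 : act 5 n24408 = n23428 := d11_2 F47930 D24408 (iv F47931)
def n24409 : Q := act 4 n23331
theorem D24409 : act 4 n23331 = n24409 := rfl
def n24410 : Q := act 3 n23332
theorem D24410 : act 3 n23332 = n24410 := rfl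
theorem F47943 : act 0 n24410 = n23722 := d2_1 D24410 (iv D23722) (iv F45202)
theorem F47944 : act 1 n24410 = n23333 := d6_1 D24410 (iv D23333) (iv F45203)
theorem F47945 : act 4 n24410 = n23661 := d12_2 D23332 D24410 (iv D23661) (iv D22203) (iv F41299)
theorem F47946 : act 2 n24410 = n23722 := d15_2 (iv F45204) D24410 (iv D23722) F42604 D22291 D23723 (iv F46182) (iv D22292) (iv F42596)
def n24411 : Q := act 2 n23334
theorem D24411 : act 2 n23334 = n24411 := rfl
theorem F47947 : act 0 n24411 = n23663 := d1_1 D24411 (iv D23663) (iv F45207)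
theorem F47948 : act 4 n24411 = n23336 := d10_2 (iv F45208) D24411 (iv D23336)
theorem F47949 : act 3 n24411 = n24279 := d15_1 D24411 (iv D24279) (iv D23161) F40744 F37901 (iv F42423) (iv F46038) (iv D23664) (iv F45207)
def n24412 : Q := act 5 n23334
theorem D24412 : act 5 n23334 = n24412 := rfl
theorem F47950 : act 0 n24412 = n23664 := d4_1 D24412 (iv D23664) (iv F45207)
theorem F47951 : act 3 n24412 = n23335 := d13_1 D24412 (iv D23335) D23334
def n24413 : Q := act 1 n23336
theorem D24413 : act 1 n23336 = n24413 := rfl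
theorem F47952 : act 0 n24413 = n23881 := d0_1 D24413 F46546 F46108 (iv F45302) F45301
theorem F47953 : act 2 n24413 = n23881 := d5_2 D23336 D24413 F46546 F46109 F45108
theorem F47954 : act 3 n24413 = n23878 := d6_2 F45277 D24413 F46537
def n24414 : Q := act 1 n23337
theorem D24414 : act 1 n23337 = n24414 := rfl
def n24415 : Q := act 3 n23337
theorem D24415 : act 3 n23337 = n24415 := rfl
theorem F47955 : act 0 n24415 = n23338 := d2_1 D24415 (iv D23338) (iv F45211)
def n24416 : Q := act 2 n23338
theorem D24416 : act 2 n23338 = n24416 := rfl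
def n24417 : Q := act 4 n23338
theorem D24417 : act 4 n23338 = n24417 := rfl
def n24418 : Q := act 3 n23339
theorem D24418 : act 3 n23339 = n24418 := rfl
theorem F47956 : act 0 n24418 = n23859 := d2_1 D24418 (iv D23859) (iv F45212)
theorem F47957 : act 2 n24418 = n23972 := d9_1 D24418 (iv D23972) (iv D22658) (iv D20820) F33132 D18612 D21032 D22813 D24090 (iv F47907) (iv D24392) (iv D23314) F41268 D21743 D23339
theorem F47958 : act 5 n24418 = n24087 := d13_2 (iv F45214) D24418 (iv D24087)
def n24419 : Q := act 2 n23342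
theorem D24419 : act 2 n23342 = n24419 := rfl
theorem F47959 : act 0 n24419 = n23391 := d1_1 D24419 F45352 (iv F45220)
theorem F47960 : act 3 n24419 = n24419 := d9_2 D23342 D24419 (iv D24419) (iv D23342) (iv D21754) (iv D19564) (iv F30031) D19631 D21814 F41496 (iv D21814) (iv D19631) F30031 D19564 D21754
theorem F47961 : act 5 n24419 = n23390 := d11_2 (iv F45221) D24419 (iv D23390)
def n24420 : Q := act 4 n23342
theorem D24420 : act 4 n23342 = n24420 := rfl
theorem F47962 : act 0 n24420 = n23353 := d3_1 D24420 F45238 (iv F45220)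
theorem F47963 : act 1 n24420 = n23354 := d7_1 D24420 (iv F47913) F47911
theorem F47964 : act 3 n24420 = n23464 := d12_1 D24420 F45535 F43462 (iv F41349) D23342
theorem F47965 : act 5 n24420 = n23470 := d14_2 (iv F45221) D24420 F45545 (iv F45160) F45159
def n24421 : Q := act 2 n23344
theorem D24421 : act 2 n23344 = n24421 := rfl
theorem F47966 : act 0 n24421 = n23345 := d1_1 D24421 (iv D23345) (iv F45225)
theorem F47967 : act 4 n24421 = n23350 := d10_2 (iv F45227) D24421 (iv D23350)
def n24422 : Q := act 2 n23346
theorem D24422 : act 2 n23346 = n24422 := rfl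
theorem F47968 : act 0 n24422 = n23347 := d1_1 D24422 (iv D23347) (iv F45229)
theorem F47969 : act 5 n24422 = n23348 := d11_2 (iv F45230) D24422 (iv D23348)
def n24423 : Q := act 3 n23347
theorem D24423 : act 3 n23347 = n24423 := rfl
theorem F47970 : act 1 n24423 = n23349 := d6_1 D24423 (iv D23349) (iv F45231)
theorem F47971 : act 5 n24423 = n23349 := d13_2 (iv F45232) D24423 (iv D23349)
def n24424 : Q := act 1 n23348
theorem D24424 : act 1 n23348 = n24424 := rfl
def n24425 : Q := act 3 n23348
theorem D24425 : act 3 n23348 = n24425 := rfl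
theorem F47972 : act 0 n24425 = n23349 := d2_1 D24425 (iv D23349) (iv F45233)
def n24426 : Q := act 4 n23349
theorem D24426 : act 4 n23349 = n24426 := rfl
def n24427 : Q := act 1 n23350
theorem D24427 : act 1 n23350 = n24427 := rfl
def n24428 : Q := act 3 n23350
theorem D24428 : act 3 n23350 = n24428 := rfl
theorem F47973 : act 0 n24428 = n23351 := d2_1 D24428 (iv D23351) (iv F45234)
theorem F47974 : act 2 n24428 = n23463 := d9_1 D24428 (iv D23463) (iv D21912) (iv D19751) (iv F35946) D21710 D23302 D24379 F47877 (iv D23465) (iv D21914) (iv D19756) (iv F36181) D21766 D23350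
theorem F47975 : act 5 n24428 = n23468 := d13_2 F47873 D24428 (iv F47871)
def n24429 : Q := act 1 n23352
theorem D24429 : act 1 n23352 = n24429 := rfl
theorem F47976 : act 2 n24429 = n23353 := d5_2 D23352 D24429 (iv D23353) (iv D21769) (iv F41375)
theorem F47977 : act 4 n24429 = n23391 := d7_2 (iv F45235) D24429 (iv D23391)
theorem F47978 : act 5 n24429 = n23471 := d8_2 (iv F45236) D24429 F45546
def n24430 : Q := act 3 n23352
theorem D24430 : act 3 n23352 = n24430 := rfl
theorem F47979 : act 0 n24430 = n24090 := d2_1 D24430 (iv F47907) F47904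
theorem F47980 : act 4 n24430 = n24430 := d12_2 (iv F45235) D24430 (iv D24430) F45235 F41496
theorem F47981 : act 5 n24430 = n23972 := d13_2 (iv F45236) D24430 (iv D23972)
theorem F47982 : act 2 n24430 = n24087 := d15_2 D23352 D24430 (iv D24087) (iv D22811) (iv D21031) (iv F39087) D22656 (iv F45160) F45157
def n24431 : Q := act 3 n23360
theorem D24431 : act 3 n23360 = n24431 := rfl
theorem F47983 : act 0 n24431 = n24368 := d2_1 D24431 F47845 F46543
theorem F47984 : act 1 n24431 = n23361 := d6_1 D24431 (iv D23361) D23360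
theorem F47985 : act 2 n24431 = n24368 := d9_1 D24431 F47845 (iv D23880) (iv D22545) F38733 D20687 D22546 D23881 (iv F47953) F47954 (iv D23878) (iv D22543) (iv F41760) (iv F43619) (iv F45267)
theorem F47986 : act 5 n24431 = n24413 := d13_2 F46539 D24431 F47954
def n24432 : Q := act 4 n23361
theorem D24432 : act 4 n23361 = n24432 := rfl
theorem F47987 : act 0 n24432 = n23371 := d3_1 D24432 (iv D23371) (iv F45269)
theorem F47988 : act 2 n24432 = n24366 := d10_1 D24432 (iv D24366) (iv F45270)
def n24433 : Q := act 3 n23362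
theorem D24433 : act 3 n23362 = n24433 := rfl
theorem F47989 : act 0 n24433 = n23373 := d2_1 D24433 (iv D23373) (iv F45272)
theorem F47990 : act 1 n24433 = n24030 := d6_1 D24433 (iv D24030) (iv F45273)
def n24434 : Q := act 5 n23362
theorem D24434 : act 5 n23362 = n24434 := rfl
theorem F47991 : act 0 n24434 = n23374 := d4_1 D24434 (iv D23374) (iv F45272)
theorem F47992 : act 1 n24434 = n24031 := d8_1 D24434 (iv D24031) (iv F45273)
theorem F47993 : act 2 n24434 = n23364 := d11_1 D24434 (iv D23364) (iv F45274)
def n24435 : Q := act 4 n23364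
theorem D24435 : act 4 n23364 = n24435 := rfl
theorem F47994 : act 0 n24435 = n23376 := d3_1 D24435 (iv D23376) (iv F45278)
theorem F47995 : act 1 n24435 = n23415 := d7_1 D24435 F45414 (iv F45279)
theorem F47996 : act 3 n24435 = n23408 := d12_1 D24435 (iv D23408) F41547 (iv F41467) (iv F45280)
theorem F47997 : act 5 n24435 = n23365 := d14_2 D23364 D24435 (iv D23365) (iv D21787) D21786
def n24436 : Q := act 4 n23367
theorem D24436 : act 4 n23367 = n24436 := rfl
theorem F47998 : act 0 n24436 = n23369 := d3_1 D24436 (iv D23369) D23367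
theorem F47999 : act 1 n24436 = n24029 := d7_1 D24436 F46921 F46544
theorem F48000 : act 2 n24436 = n23379 := d10_1 D24436 (iv D23379) (iv F45289)
def n24437 : Q := act 4 n23368
theorem D24437 : act 4 n23368 = n24437 := rfl
theorem F48001 : act 0 n24437 = n24369 := d3_1 D24437 (iv D24369) (iv F45292)
theorem F48002 : act 1 n24437 = n23371 := d7_1 D24437 (iv D23371) (iv F45293)
theorem F48003 : act 2 n24437 = n24363 := d10_1 D24437 (iv D24363) (iv F45295)
def n24438 : Q := act 3 n23369
theorem D24438 : act 3 n23369 = n24438 := rfl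
theorem F48004 : act 1 n24438 = n23373 := d6_1 D24438 (iv D23373) (iv F45296)
def n24439 : Q := act 1 n23370
theorem D24439 : act 1 n23370 = n24439 := rfl
theorem F48005 : act 0 n24439 = n24362 := d0_1 D24439 F47831 F45094 (iv F45102) (iv F45298)
theorem F48006 : act 2 n24439 = n24362 := d5_2 D23370 D24439 F47831 (iv F45295) F45293
theorem F48007 : act 3 n24439 = n24361 := d6_2 (iv F45299) D24439 F47827
theorem F48008 : act 5 n24439 = n24410 := d8_2 F45300 D24439 F47944
def n24440 : Q := act 4 n23370
theorem D24440 : act 4 n23370 = n24440 := rfl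
theorem F48009 : act 0 n24440 = n24366 := d3_1 D24440 (iv D24366) (iv F45298)
theorem F48010 : act 2 n24440 = n23371 := d10_1 D24440 (iv D23371) D23370
def n24441 : Q := act 3 n23371
theorem D24441 : act 3 n23371 = n24441 := rfl
theorem F48011 : act 4 n24441 = n23373 := d12_2 D23371 D24441 (iv D23373) (iv D21791) D21790
def n24442 : Q := act 5 n23371
theorem D24442 : act 5 n23371 = n24442 := rfl
def n24443 : Q := act 2 n23373
theorem D24443 : act 2 n23373 = n24443 := rfl
def n24444 : Q := act 5 n23373
theorem D24444 : act 5 n23373 = n24444 := rfl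
theorem F48012 : act 3 n24444 = n23374 := d13_1 D24444 (iv D23374) D23373
def n24445 : Q := act 4 n23374
theorem D24445 : act 4 n23374 = n24445 := rfl
theorem F48013 : act 1 n24445 = n23701 := d7_1 D24445 F46118 F45817
theorem F48014 : act 2 n24445 = n23376 := d10_1 D24445 (iv D23376) (iv F45305)
theorem F48015 : act 5 n24445 = n23375 := d14_2 D23374 D24445 (iv D23375) (iv D21792) D21791
theorem F48016 : act 3 n24160 = n24445 := d13_3 F48015 F45316 (iv F47272)
def n24446 : Q := act 3 n23378
theorem D24446 : act 3 n23378 = n24446 := rfl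
theorem F48017 : act 0 n24446 = n23989 := d2_1 D24446 (iv D23989) (iv F45317)
theorem F48018 : act 1 n24446 = n23991 := d6_1 D24446 (iv D23991) F45320
theorem F48019 : act 5 n24446 = n23385 := d13_2 (iv F45319) D24446 (iv D23385)
theorem F48020 : act 2 n24446 = n24425 := d15_2 D23378 D24446 (iv D24425) (iv D23348) (iv D21764) (iv F36273) D21802 (iv F45287) F45284
def n24447 : Q := act 3 n23381
theorem D24447 : act 3 n23381 = n24447 := rfl
theorem F48021 : act 0 n24447 = n23385 := d2_1 D24447 (iv D23385) (iv F45329)
theorem F48022 : act 1 n24447 = n23990 := d6_1 D24447 F46838 (iv F45330)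
theorem F48023 : act 2 n24447 = n24423 := d9_1 D24447 (iv D24423) (iv D23347) (iv D21763) (iv F36258) D21795 D23378 D24446 F48020 (iv D24425) (iv D23348) (iv D21764) (iv F36273) D21802 D23381
theorem F48024 : act 5 n24447 = n23989 := d13_2 (iv F45332) D24447 (iv D23989)
def n24448 : Q := act 1 n23382
theorem D24448 : act 1 n23382 = n24448 := rfl
theorem F48025 : act 2 n24448 = n23404 := d5_2 D23382 D24448 (iv D23404) (iv D21836) (iv F41471)
def n24449 : Q := act 3 n23382
theorem D24449 : act 3 n23382 = n24449 := rfl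
def n24450 : Q := act 5 n23382
theorem D24450 : act 5 n23382 = n24450 := rfl
theorem F48026 : act 2 n24450 = n23383 := d11_1 D24450 (iv D23383) D23382
def n24451 : Q := act 3 n23384
theorem D24451 : act 3 n23384 = n24451 := rfl
theorem F48027 : act 0 n24451 = n23994 := d2_1 D24451 F46844 (iv F45335)
theorem F48028 : act 1 n24451 = n23385 := d6_1 D24451 (iv D23385) D23384
theorem F48029 : act 5 n24451 = n23991 := d13_2 (iv F45338) D24451 (iv D23991)
def n24452 : Q := act 2 n23385
theorem D24452 : act 2 n23385 = n24452 := rfl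
theorem F48030 : act 0 n24452 = n24423 := d1_1 D24452 (iv F48023) F48021
theorem F48031 : act 3 n24452 = n24422 := d9_2 D23385 D24452 (iv D24422) (iv D23346) (iv F41437) D23366 (iv F45288) D23989 F46836 (iv D23349) (iv D21765) (iv D19580) (iv F30004) D19622 D21805
theorem F48032 : act 5 n24452 = n24425 := d11_2 F48019 D24452 (iv F48020)
def n24453 : Q := act 4 n23385
theorem D24453 : act 4 n23385 = n24453 := rfl
theorem F48033 : act 3 n24453 = n23412 := d12_1 D24453 (iv D23412) (iv D21840) (iv F41475) D23385
def n24454 : Q := act 2 n23387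
theorem D24454 : act 2 n23387 = n24454 := rfl
theorem F48034 : act 0 n24454 = n23496 := d1_1 D24454 F45601 (iv F45344)
theorem F48035 : act 4 n24454 = n23388 := d10_2 (iv F45346) D24454 (iv D23388)
theorem F48036 : act 3 n23986 = n24454 := d2_0 F48034 F45602 D23986
def n24455 : Q := act 1 n23388
theorem D24455 : act 1 n23388 = n24455 := rfl
theorem F48037 : act 0 n24455 = n23545 := d0_1 D24455 (iv D23545) F42006 D22027 (iv F45347)
def n24456 : Q := act 1 n23390
theorem D24456 : act 1 n23390 = n24456 := rfl
theorem F48038 : act 3 n24456 = n24456 := d6_2 F45351 D24456 (iv D24456)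
def n24457 : Q := act 2 n23392
theorem D24457 : act 2 n23392 = n24457 := rfl
theorem F48039 : act 0 n24457 = n23394 := d1_1 D24457 (iv D23394) (iv F45355)
theorem F48040 : act 1 n24457 = n23564 := d5_1 D24457 F45777 F45562 (iv D23476) (iv F45356)
theorem F48041 : act 4 n24457 = n23393 := d10_2 (iv F45357) D24457 (iv D23393)
def n24458 : Q := act 1 n23393
theorem D24458 : act 1 n23393 = n24458 := rfl
theorem F48042 : act 0 n24458 = n23563 := d0_1 D24458 (iv D23563) F42067 (iv F41507) (iv F45358)
theorem F48043 : act 2 n24458 = n23477 := d5_2 D23393 D24458 (iv D23477) (iv D21931) (iv F41503)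
theorem F48044 : act 3 n24458 = n24221 := d6_2 F45829 D24458 F47456
theorem F48045 : act 4 n24458 = n23564 := d7_2 F48041 D24458 (iv F48040)
theorem F48046 : act 5 n24458 = n24009 := d8_2 (iv F45359) D24458 (iv D24009)
def n24459 : Q := act 2 n23395
theorem D24459 : act 2 n23395 = n24459 := rfl
def n24460 : Q := act 5 n23395
theorem D24460 : act 5 n23395 = n24460 := rfl
theorem F48047 : act 0 n24460 = n23457 := d4_1 D24460 (iv F46535) F46532
theorem F48048 : act 1 n24460 = n23399 := d8_1 D24460 (iv D23399) (iv F45362)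
theorem F48049 : act 3 n24460 = n23396 := d13_1 D24460 (iv D23396) D23395
theorem F48050 : act 4 n23866 = n24460 := d12_0 F48049 F45366 D23460 (iv F47679) F47678
def n24461 : Q := act 1 n23397
theorem D24461 : act 1 n23397 = n24461 := rfl
theorem F48051 : act 0 n24461 = n23997 := d0_1 D24461 F46849 F43537 (iv F43036) (iv F45367)
theorem F48052 : act 3 n24461 = n23839 := d6_2 (iv F45368) D24461 F46449
theorem F48053 : act 5 n24461 = n23838 := d8_2 F45369 D24461 F46446
def n24462 : Q := act 4 n23397
theorem D24462 : act 4 n23397 = n24462 := rfl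
theorem F48054 : act 0 n24462 = n23840 := d3_1 D24462 (iv D23840) (iv F45367)
theorem F48055 : act 2 n24462 = n23398 := d10_1 D24462 (iv D23398) D23397
theorem F48056 : act 3 n24462 = n24002 := d12_1 D24462 (iv D24002) (iv D22705) (iv F43033) (iv F45368)
theorem F48057 : act 5 n24462 = n23863 := d14_2 F45369 D24462 (iv D23863) F43107 (iv F43030)
def n24463 : Q := act 5 n23398
theorem D24463 : act 5 n23398 = n24463 := rfl
theorem F48058 : act 0 n24463 = n23837 := d4_1 D24463 F46445 (iv F46085)
theorem F48059 : act 2 n24463 = n23863 := d11_1 D24463 (iv F48057) F48055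
theorem F48060 : act 3 n24463 = n23697 := d13_1 D24463 (iv D23697) (iv F45370)
theorem F48061 : act 4 n24463 = n23836 := d14_1 D24463 F46442 F45374 (iv D23399) D23398
def n24464 : Q := act 0 n23404
theorem D24464 : act 0 n23404 = n24464 := rfl
def n24465 : Q := act 4 n23406
theorem D24465 : act 4 n23406 = n24465 := rfl
theorem F48062 : act 0 n24465 = n23412 := d3_1 D24465 (iv D23412) (iv F45389)
def n24466 : Q := act 4 n23410
theorem D24466 : act 4 n23410 = n24466 := rfl
theorem F48063 : act 1 n24466 = n23412 := d7_1 D24466 (iv D23412) (iv F45402)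
theorem F48064 : act 2 n24466 = n24173 := d10_1 D24466 F47320 F45914
theorem F48065 : act 5 n24466 = n24172 := d14_2 (iv F45403) D24466 (iv D24172) F44204 (iv F41562)
def n24467 : Q := act 4 n23411
theorem D24467 : act 4 n23411 = n24467 := rfl
theorem F48066 : act 1 n24467 = n24177 := d7_1 D24467 F47331 F47187
theorem F48067 : act 2 n24467 = n23412 := d10_1 D24467 (iv D23412) D23411
theorem F48068 : act 5 n24467 = n24175 := d14_2 (iv F47185) D24467 (iv D24175) F44208 D24118
theorem F48069 : act 3 n24285 = n24467 := d6_0 F48066 F47330 D24285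
def n24468 : Q := act 5 n23412
theorem D24468 : act 5 n23412 = n24468 := rfl
theorem F48070 : act 1 n24468 = n24172 := d8_1 D24468 (iv F48065) F48063
theorem F48071 : act 2 n24468 = n24175 := d11_1 D24468 (iv F48068) F48067
theorem F48072 : act 4 n24468 = n24171 := d14_1 D24468 F47315 F45406 (iv D23413) D23412
def n24469 : Q := act 2 n23417
theorem D24469 : act 2 n23417 = n24469 := rfl
theorem F48073 : act 0 n24469 = n23422 := d1_1 D24469 (iv D23422) (iv F45421)
theorem F48074 : act 4 n24469 = n23418 := d10_2 (iv F45423) D24469 (iv D23418)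
theorem F48075 : act 5 n24469 = n23665 := d11_2 (iv F45424) D24469 F46040
def n24470 : Q := act 1 n23418
theorem D24470 : act 1 n23418 = n24470 := rfl
theorem F48076 : act 2 n24470 = n23680 := d5_2 D23418 D24470 F46059 F42459 (iv F41630)
theorem F48077 : act 5 n24470 = n23427 := d8_2 (iv F45426) D24470 (iv D23427)
def n24471 : Q := act 3 n23420
theorem D24471 : act 3 n23420 = n24471 := rfl
theorem F48078 : act 0 n24471 = n24081 := d2_1 D24471 F47058 (iv F45431)
theorem F48079 : act 1 n24471 = n23829 := d6_1 D24471 F46424 (iv F45432)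
theorem F48080 : act 5 n24471 = n23421 := d13_2 (iv F45434) D24471 (iv D23421)
def n24472 : Q := act 2 n23421
theorem D24472 : act 2 n23421 = n24472 := rfl
theorem F48081 : act 0 n24472 = n24080 := d1_1 D24472 (iv D24080) (iv F45435)
theorem F48082 : act 4 n24472 = n23980 := d10_2 (iv F45437) D24472 (iv D23980)
def n24473 : Q := act 3 n23422
theorem D24473 : act 3 n23422 = n24473 := rfl
theorem F48083 : act 1 n24473 = n23677 := d6_1 D24473 F46057 (iv F45438)
theorem F48084 : act 5 n24473 = n23669 := d13_2 (iv F45440) D24473 (iv D23669)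
def n24474 : Q := act 0 n23423
theorem D24474 : act 0 n23423 = n24474 := rfl
theorem F48085 : act 2 n24474 = n23425 := d1_2 (iv F45441) D24474 (iv D23425)
theorem F48086 : act 4 n24474 = n23672 := d3_2 (iv F45442) D24474 F46046
theorem F48087 : act 5 n24474 = n23433 := d4_2 (iv F45443) D24474 (iv D23433)
def n24475 : Q := act 3 n23423
theorem D24475 : act 3 n23423 = n24475 := rfl
theorem F48088 : act 1 n24475 = n23424 := d6_1 D24475 (iv D23424) D23423
theorem F48089 : act 5 n24475 = n23434 := d13_2 (iv F45443) D24475 (iv D23434)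
def n24476 : Q := act 4 n23424
theorem D24476 : act 4 n23424 = n24476 := rfl
def n24477 : Q := act 3 n23427
theorem D24477 : act 3 n23427 = n24477 := rfl
theorem F48090 : act 1 n24477 = n23428 := d6_1 D24477 (iv D23428) D23427
def n24478 : Q := act 2 n23429
theorem D24478 : act 2 n23429 = n24478 := rfl
def n24479 : Q := act 5 n23429
theorem D24479 : act 5 n23429 = n24479 := rfl
theorem F48091 : act 1 n24479 = n23708 := d8_1 D24479 (iv D23708) (iv F45456)
theorem F48092 : act 3 n24479 = n23430 := d13_1 D24479 (iv D23430) D23429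
def n24480 : Q := act 3 n23431
theorem D24480 : act 3 n23431 = n24480 := rfl
theorem F48093 : act 0 n24480 = n24123 := d2_1 D24480 (iv D24123) (iv F45460)
def n24481 : Q := act 3 n23433
theorem D24481 : act 3 n23433 = n24481 := rfl
theorem F48094 : act 0 n24481 = n23434 := d2_1 D24481 (iv D23434) D23433
def n24482 : Q := act 2 n23434
theorem D24482 : act 2 n23434 = n24482 := rfl
def n24483 : Q := act 4 n23434
theorem D24483 : act 4 n23434 = n24483 := rfl
theorem F48095 : act 1 n24483 = n23436 := d7_1 D24483 (iv D23436) (iv F45468)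
theorem F48096 : act 3 n24483 = n23666 := d12_1 D24483 (iv D23666) (iv D22213) (iv F41667) D23434
def n24484 : Q := act 1 n23435
theorem D24484 : act 1 n23435 = n24484 := rfl
def n24485 : Q := act 4 n23435
theorem D24485 : act 4 n23435 = n24485 := rfl
theorem F48097 : act 2 n24485 = n23436 := d10_1 D24485 (iv D23436) D23435
def n24486 : Q := act 5 n23436
theorem D24486 : act 5 n23436 = n24486 := rfl
theorem F48098 : act 3 n24486 = n23667 := d13_1 D24486 (iv D23667) (iv F45469)
def n24487 : Q := act 2 n23437
theorem D24487 : act 2 n23437 = n24487 := rfl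
theorem F48099 : act 0 n24487 = n23438 := d1_1 D24487 (iv D23438) (iv F45470)
theorem F48100 : act 4 n24487 = n23673 := d10_2 (iv F45472) D24487 (iv D23673)
theorem F48101 : act 5 n24487 = n24088 := d11_2 (iv F45473) D24487 F47080
def n24488 : Q := act 3 n23438
theorem D24488 : act 3 n23438 = n24488 := rfl
theorem F48102 : act 1 n24488 = n23859 := d6_1 D24488 (iv D23859) (iv F45474)
theorem F48103 : act 5 n24488 = n24089 := d13_2 (iv F45476) D24488 (iv D24089)
def n24489 : Q := act 2 n23440
theorem D24489 : act 2 n23440 = n24489 := rfl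
theorem F48104 : act 0 n24489 = n24345 := d1_1 D24489 F47777 (iv F45482)
theorem F48105 : act 4 n24489 = n23442 := d10_2 (iv F45484) D24489 (iv D23442)
def n24490 : Q := act 5 n23440
theorem D24490 : act 5 n23440 = n24490 := rfl
theorem F48106 : act 0 n24490 = n24351 := d4_1 D24490 F47787 (iv F45482)
theorem F48107 : act 1 n24490 = n23445 := d8_1 D24490 (iv D23445) (iv F45483)
theorem F48108 : act 3 n24490 = n23441 := d13_1 D24490 (iv D23441) D23440
def n24491 : Q := act 1 n23442
theorem D24491 : act 1 n23442 = n24491 := rfl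
theorem F48109 : act 2 n24491 = n23447 := d5_2 D23442 D24491 (iv D23447) (iv D21889) (iv F41678)
def n24492 : Q := act 3 n23442
theorem D24492 : act 3 n23442 = n24492 := rfl
def n24493 : Q := act 5 n23442
theorem D24493 : act 5 n23442 = n24493 := rfl
theorem F48110 : act 2 n24493 = n23443 := d11_1 D24493 (iv D23443) D23442
def n24494 : Q := act 1 n23444
theorem D24494 : act 1 n23444 = n24494 := rfl
theorem F48111 : act 3 n24494 = n24145 := d6_2 (iv F45491) D24494 F47244
theorem F48112 : act 4 n24494 = n23447 := d7_2 (iv F45490) D24494 (iv D23447)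
theorem F48113 : act 5 n24494 = n24349 := d8_2 F45492 D24494 F47780
def n24495 : Q := act 4 n23445
theorem D24495 : act 4 n23445 = n24495 := rfl
theorem F48114 : act 0 n24495 = n23714 := d3_1 D24495 (iv D23714) (iv F45493)
theorem F48115 : act 2 n24495 = n24067 := d10_1 D24495 F47005 (iv F45494)
theorem F48116 : act 3 n24495 = n24103 := d12_1 D24495 F47132 F46312 (iv D23446) (iv F45495)
theorem F48117 : act 5 n24495 = n23448 := d14_2 D23445 D24495 (iv D23448) (iv D21890) (iv F41683)
def n24496 : Q := act 0 n23447
theorem D24496 : act 0 n23447 = n24496 := rfl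
theorem F48118 : act 1 n24496 = n24352 := d0_2 D23447 D24496 F47788 (iv F45478) F45477
def n24497 : Q := act 2 n23449
theorem D24497 : act 2 n23449 = n24497 := rfl
def n24498 : Q := act 5 n23449
theorem D24498 : act 5 n23449 = n24498 := rfl
theorem F48119 : act 3 n24498 = n23450 := d13_1 D24498 (iv D23450) D23449
def n24499 : Q := act 3 n23451
theorem D24499 : act 3 n23451 = n24499 := rfl
theorem F48120 : act 0 n24499 = n23661 := d2_1 D24499 (iv D23661) (iv F45503)
theorem F48121 : act 1 n24499 = n23454 := d6_1 D24499 (iv D23454) (iv F45504)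
theorem F48122 : act 4 n24499 = n23722 := d12_2 D23451 D24499 (iv D23722) (iv D22290) (iv F41696)
theorem F48123 : act 2 n24499 = n23661 := d15_2 (iv F45505) D24499 (iv D23661) F42422 D22206 (iv F42427) (iv F42430) (iv D22207) (iv F41698)
def n24500 : Q := act 5 n23451
theorem D24500 : act 5 n23451 = n24500 := rfl
theorem F48124 : act 0 n24500 = n23662 := d4_1 D24500 (iv D23662) (iv F45503)
theorem F48125 : act 1 n24500 = n23455 := d8_1 D24500 (iv D23455) (iv F45504)
theorem F48126 : act 2 n24500 = n23452 := d11_1 D24500 (iv D23452) (iv F45505)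
theorem F48127 : act 4 n24500 = n23704 := d14_1 D24500 (iv D23704) (iv D22267) (iv F41697) D23451
def n24501 : Q := act 5 n23454
theorem D24501 : act 5 n23454 = n24501 := rfl
theorem F48128 : act 2 n24501 = n24263 := d11_1 D24501 F47578 F46112
theorem F48129 : act 3 n24501 = n23455 := d13_1 D24501 (iv D23455) D23454
def n24502 : Q := act 2 n23457
theorem D24502 : act 2 n23457 = n24502 := rfl
def n24503 : Q := act 1 n23458
theorem D24503 : act 1 n23458 = n24503 := rfl
theorem F48130 : act 0 n24503 = n24000 := d0_1 D24503 F46860 (iv F46417) F46418 F46075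
theorem F48131 : act 3 n24503 = n23752 := d6_2 (iv F45519) D24503 F46250
theorem F48132 : act 5 n24503 = n23751 := d8_2 (iv F45520) D24503 F46247
def n24504 : Q := act 4 n23458
theorem D24504 : act 4 n23458 = n24504 := rfl
theorem F48133 : act 0 n24504 = n23778 := d3_1 D24504 F46306 F46075
theorem F48134 : act 2 n24504 = n23459 := d10_1 D24504 (iv D23459) D23458
theorem F48135 : act 3 n24504 = n23756 := d12_1 D24504 F46593 F46592 F43258 (iv F45519)
theorem F48136 : act 5 n24504 = n24158 := d14_2 (iv F45520) D24504 F47265 (iv D23681) (iv F42724)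
def n24505 : Q := act 0 n23462
theorem D24505 : act 0 n23462 = n24505 := rfl
theorem F48137 : act 1 n24505 = n23597 := d0_2 D23462 D24505 (iv F45935) F45936 F44078
theorem F48138 : act 2 n24505 = n23464 := d1_2 (iv F45530) D24505 (iv D23464)
theorem F48139 : act 4 n24505 = n23609 := d3_2 (iv F45531) D24505 F45902
theorem F48140 : act 5 n24505 = n23466 := d4_2 (iv F45532) D24505 (iv D23466)
def n24506 : Q := act 3 n23462
theorem D24506 : act 3 n23462 = n24506 := rfl
theorem F48141 : act 1 n24506 = n23463 := d6_1 D24506 (iv D23463) D23462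
theorem F48142 : act 5 n24506 = n23467 := d13_2 (iv F45532) D24506 (iv D23467)
def n24507 : Q := act 3 n23466
theorem D24507 : act 3 n23466 = n24507 := rfl
theorem F48143 : act 0 n24507 = n23467 := d2_1 D24507 (iv D23467) D23466
theorem F48144 : act 1 n24507 = n23595 := d6_1 D24507 F45861 (iv F45538)
theorem F48145 : act 4 n24507 = n23592 := d12_2 (iv F45540) D24507 (iv D23592) F42179 D22106
def n24508 : Q := act 2 n23467
theorem D24508 : act 2 n23467 = n24508 := rfl
def n24509 : Q := act 4 n23467
theorem D24509 : act 4 n23467 = n24509 := rfl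
theorem F48146 : act 0 n24509 = n23592 := d3_1 D24509 (iv F48145) F48143
theorem F48147 : act 1 n24509 = n23469 := d7_1 D24509 (iv D23469) (iv F45541)
theorem F48148 : act 3 n24509 = n23591 := d12_1 D24509 F45854 (iv F42187) (iv F41749) D23467
def n24510 : Q := act 1 n23468
theorem D24510 : act 1 n23468 = n24510 := rfl
def n24511 : Q := act 4 n23468
theorem D24511 : act 4 n23468 = n24511 := rfl
theorem F48149 : act 2 n24511 = n23469 := d10_1 D24511 (iv D23469) D23468
def n24512 : Q := act 5 n23469
theorem D24512 : act 5 n23469 = n24512 := rfl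
theorem F48150 : act 3 n24512 = n23970 := d13_1 D24512 (iv D23970) (iv F45542)
def n24513 : Q := act 2 n23470
theorem D24513 : act 2 n23470 = n24513 := rfl
theorem F48151 : act 0 n24513 = n23471 := d1_1 D24513 (iv D23471) (iv F45543)
theorem F48152 : act 4 n24513 = n23971 := d10_2 (iv F45545) D24513 (iv D23971)
def n24514 : Q := act 3 n23471
theorem D24514 : act 3 n23471 = n24514 := rfl
theorem F48153 : act 1 n24514 = n23972 := d6_1 D24514 (iv D23972) (iv F45546)
def n24515 : Q := act 1 n23472
theorem D24515 : act 1 n23472 = n24515 := rfl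
theorem F48154 : act 0 n24515 = n23573 := d0_1 D24515 F45797 (iv F43421) F43422 (iv F45548)
theorem F48155 : act 2 n24515 = n23489 := d5_2 D23472 D24515 (iv D23489) (iv D21949) (iv F41755)
theorem F48156 : act 4 n24515 = n23495 := d7_2 (iv F45549) D24515 (iv D23495)
def n24516 : Q := act 3 n23477
theorem D24516 : act 3 n23477 = n24516 := rfl
theorem F48157 : act 0 n24516 = n23568 := d2_1 D24516 (iv D23568) (iv F45563)
theorem F48158 : act 1 n24516 = n23478 := d6_1 D24516 (iv D23478) D23477
theorem F48159 : act 5 n24496 = n24516 := d8_0 F48158 (iv F47790) (iv F48118)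
def n24517 : Q := act 5 n23477
theorem D24517 : act 5 n23477 = n24517 := rfl
theorem F48160 : act 0 n24517 = n23569 := d4_1 D24517 (iv D23569) (iv F45563)
theorem F48161 : act 1 n24517 = n23479 := d8_1 D24517 (iv D23479) D23477
theorem F48162 : act 2 n24517 = n24009 := d11_1 D24517 (iv F48046) F48043
theorem F48163 : act 3 n24517 = n24496 := d13_1 D24517 F48159 (iv D24516)
theorem F48164 : act 4 n24222 = n24517 := d10_0 F48162 F46888 D24222
def n24518 : Q := act 0 n23480
theorem D24518 : act 0 n23480 = n24518 := rfl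
theorem F48165 : act 1 n24518 = n23481 := d0_2 D23480 D24518 (iv D23481) (iv D21935) (iv F41800)
theorem F48166 : act 2 n24518 = n23513 := d1_2 (iv F45566) D24518 F45642
theorem F48167 : act 3 n24518 = n23783 := d2_2 (iv F47558) D24518 (iv F47554)
theorem F48168 : act 4 n24518 = n23510 := d3_2 F46995 D24518 (iv F46993)
theorem F48169 : act 5 n24518 = n23487 := d4_2 (iv F45567) D24518 (iv D23487)
def n24519 : Q := act 1 n23484
theorem D24519 : act 1 n23484 = n24519 := rfl
theorem F48170 : act 0 n24519 = n23534 := d0_1 D24519 (iv D23534) F41964 (iv F41811) (iv F45573)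
theorem F48171 : act 3 n24519 = n23771 := d6_2 (iv F45575) D24519 (iv D23771)
theorem F48172 : act 5 n24519 = n23489 := d8_2 (iv F45574) D24519 (iv D23489)
def n24520 : Q := act 0 n23489
theorem D24520 : act 0 n23489 = n24520 := rfl
theorem F48173 : act 1 n24520 = n23491 := d0_2 D23489 D24520 (iv D23491) (iv D21950) (iv F41839)
theorem F48174 : act 2 n24520 = n23573 := d1_2 F48155 D24520 (iv F48154)
theorem F48175 : act 4 n24520 = n23572 := d3_2 F46928 D24520 (iv F46926)
theorem F48176 : act 5 n24520 = n23534 := d4_2 F48172 D24520 (iv F48170)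
def n24521 : Q := act 3 n23489
theorem D24521 : act 3 n23489 = n24521 := rfl
theorem F48177 : act 1 n24521 = n23490 := d6_1 D24521 (iv D23490) D23489
theorem F48178 : act 5 n24521 = n23771 := d13_2 F48172 D24521 (iv F48171)
def n24522 : Q := act 4 n23490
theorem D24522 : act 4 n23490 = n24522 := rfl
theorem F48179 : act 0 n24522 = n23494 := d3_1 D24522 (iv D23494) (iv F45589)
theorem F48180 : act 2 n24522 = n23772 := d10_1 D24522 (iv D23772) (iv F45590)
def n24523 : Q := act 3 n23491
theorem D24523 : act 3 n23491 = n24523 := rfl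
theorem F48181 : act 0 n24523 = n23492 := d2_1 D24523 (iv D23492) D23491
theorem F48182 : act 5 n24523 = n23535 := d13_2 (iv F45593) D24523 (iv D23535)
theorem F48183 : act 2 n24523 = n23526 := d15_2 (iv F45592) D24523 (iv D23526) (iv D21998) (iv D19858) F30498 D17093 (iv F36700) D21952
def n24524 : Q := act 2 n23492
theorem D24524 : act 2 n23492 = n24524 := rfl
theorem F48184 : act 0 n24524 = n23526 := d1_1 D24524 (iv F48183) F48181
theorem F48185 : act 3 n24524 = n23522 := d9_2 D23492 D24524 (iv D23522) (iv D21994) F36799 D19870 D22009 D23535 (iv F46691) F46692 F45676 F41944 F36804 (iv F36699) (iv F41840)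
theorem F48186 : act 5 n24524 = n23536 := d11_2 (iv F45595) D24524 (iv D23536)
def n24525 : Q := act 4 n23492
theorem D24525 : act 4 n23492 = n24525 := rfl
theorem F48187 : act 1 n24525 = n23494 := d7_1 D24525 (iv D23494) (iv F45594)
def n24526 : Q := act 1 n23493
theorem D24526 : act 1 n23493 = n24526 := rfl
theorem F48188 : act 3 n24526 = n23767 := d6_2 (iv F45597) D24526 F46283
theorem F48189 : act 5 n24526 = n23766 := d8_2 (iv F45598) D24526 F46282
theorem F48190 : act 4 n23823 = n24526 := d12_0 F48188 F46285 (iv F46392) F46393 (iv F46408)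
def n24527 : Q := act 4 n23493
theorem D24527 : act 4 n23493 = n24527 := rfl
theorem F48191 : act 0 n24527 = n23772 := d3_1 D24527 (iv D23772) (iv F45596)
theorem F48192 : act 1 n24527 = n23823 := d7_1 D24527 F48190 (iv D24526)
theorem F48193 : act 2 n24527 = n23494 := d10_1 D24527 (iv D23494) D23493
theorem F48194 : act 3 n24527 = n23815 := d12_1 D24527 (iv D23815) F42969 (iv F42809) (iv F45597)
theorem F48195 : act 5 n24527 = n23816 := d14_2 (iv F45598) D24527 (iv F46579) F46580 F46287
def n24528 : Q := act 5 n23494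
theorem D24528 : act 5 n23494 = n24528 := rfl
theorem F48196 : act 2 n24528 = n23816 := d11_1 D24528 (iv F48195) F48193
def n24529 : Q := act 1 n23502
theorem D24529 : act 1 n23502 = n24529 := rfl
theorem F48197 : act 0 n24529 = n23580 := d0_1 D24529 F45817 (iv F47991) F47992 F46923
theorem F48198 : act 2 n24529 = n23503 := d5_2 D23502 D24529 (iv D23503) (iv D21967) (iv F41875)
theorem F48199 : act 4 n24529 = n23763 := d7_2 (iv F45620) D24529 (iv D23763)
theorem F48200 : act 5 n24529 = n24436 := d8_2 F46922 D24529 F47999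
def n24530 : Q := act 3 n23505
theorem D24530 : act 3 n23505 = n24530 := rfl
theorem F48201 : act 0 n24530 = n23509 := d2_1 D24530 (iv D23509) (iv F45630)
theorem F48202 : act 1 n24530 = n23506 := d6_1 D24530 (iv D23506) (iv F45631)
def n24531 : Q := act 1 n23507
theorem D24531 : act 1 n23507 = n24531 := rfl
theorem F48203 : act 2 n24531 = n23511 := d5_2 D23507 D24531 (iv D23511) (iv D21982) (iv F41898)
def n24532 : Q := act 5 n23512
theorem D24532 : act 5 n23512 = n24532 := rfl
theorem F48204 : act 0 n24532 = n23516 := d4_1 D24532 (iv D23516) (iv F45640)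
theorem F48205 : act 1 n24532 = n23523 := d8_1 D24532 (iv D23523) (iv F45641)
theorem F48206 : act 2 n24532 = n23789 := d11_1 D24532 (iv F47607) F47606
theorem F48207 : act 3 n24532 = n23513 := d13_1 D24532 (iv D23513) D23512
def n24533 : Q := act 2 n23514
theorem D24533 : act 2 n23514 = n24533 := rfl
theorem F48208 : act 1 n24533 = n23868 := d5_1 D24533 (iv D23868) F43122 (iv F41924) (iv F45644)
theorem F48209 : act 4 n24533 = n23515 := d10_2 (iv F45645) D24533 (iv D23515)
theorem F48210 : act 5 n24533 = n23870 := d11_2 (iv F45646) D24533 F46524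
def n24534 : Q := act 4 n23516
theorem D24534 : act 4 n23516 = n24534 := rfl
theorem F48211 : act 1 n24534 = n23519 := d7_1 D24534 (iv D23519) (iv F45650)
theorem F48212 : act 2 n24534 = n23790 := d10_1 D24534 F46330 (iv F45651)
theorem F48213 : act 5 n24534 = n23873 := d14_2 D23516 D24534 F46527 (iv F45646) F45645
def n24535 : Q := act 3 n23517
theorem D24535 : act 3 n23517 = n24535 := rfl
theorem F48214 : act 1 n24535 = n23520 := d6_1 D24535 (iv D23520) (iv F45653)
theorem F48215 : act 5 n24535 = n23518 := d13_2 (iv F45654) D24535 (iv D23518)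
def n24536 : Q := act 3 n23519
theorem D24536 : act 3 n23519 = n24536 := rfl
theorem F48216 : act 0 n24536 = n23531 := d2_1 D24536 (iv D23531) (iv F45656)
theorem F48217 : act 4 n24536 = n23520 := d12_2 D23519 D24536 (iv D23520) (iv D21992) (iv F41931)
theorem F48218 : act 5 n24536 = n23874 := d13_2 (iv F45658) D24536 (iv D23874)
def n24537 : Q := act 1 n23522
theorem D24537 : act 1 n23522 = n24537 := rfl
theorem F48219 : act 0 n24537 = n23873 := d0_1 D24537 (iv D23873) F45673 (iv D23525) (iv F45664)
theorem F48220 : act 4 n24537 = n23875 := d7_2 F46751 D24537 F46752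
def n24538 : Q := act 5 n23522
theorem D24538 : act 5 n23522 = n24538 := rfl
theorem F48221 : act 0 n24538 = n23527 := d4_1 D24538 (iv D23527) (iv F45664)
theorem F48222 : act 2 n24538 = n23523 := d11_1 D24538 (iv D23523) D23522
theorem F48223 : act 3 n24538 = n23536 := d13_1 D24538 (iv F48186) F48185
theorem F48224 : act 4 n24538 = n23523 := d14_1 D24538 (iv D23523) (iv F43395) F46753 F46751
def n24539 : Q := act 3 n23525
theorem D24539 : act 3 n23525 = n24539 := rfl
theorem F48225 : act 0 n24539 = n23874 := d2_1 D24539 (iv D23874) F45673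
theorem F48226 : act 1 n24539 = n23526 := d6_1 D24539 (iv D23526) D23525
theorem F48227 : act 4 n24539 = n23528 := d12_2 (iv F45672) D24539 (iv D23528) (iv D22002) (iv F41952)
theorem F48228 : act 5 n24539 = n23531 := d13_2 F45674 D24539 (iv D23531)
def n24540 : Q := act 2 n23528
theorem D24540 : act 2 n23528 = n24540 := rfl
theorem F48229 : act 0 n24540 = n24245 := d1_1 D24540 (iv F47792) F47791
theorem F48230 : act 3 n24540 = n24236 := d9_2 D23528 D24540 F47497 F44623 (iv F40809) F40810 (iv F41159) D23272 F45056 (iv D23100) F40540 F35064 (iv F34052) D21083 (iv F41953)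
theorem F48231 : act 5 n24540 = n23529 := d11_2 (iv F45678) D24540 (iv D23529)
def n24541 : Q := act 1 n23529
theorem D24541 : act 1 n23529 = n24541 := rfl
theorem F48232 : act 0 n24541 = n24299 := d0_1 D24541 F47658 F46066 (iv F44625) (iv F45679)
theorem F48233 : act 3 n24541 = n24235 := d6_2 (iv F45681) D24541 F47494
theorem F48234 : act 4 n24541 = n23533 := d7_2 (iv F45680) D24541 (iv D23533)
def n24542 : Q := act 2 n23531
theorem D24542 : act 2 n23531 = n24542 := rfl
theorem F48235 : act 4 n24542 = n23532 := d10_2 (iv F45687) D24542 (iv D23532)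
theorem F48236 : act 3 n24542 = n23871 := d15_1 D24542 (iv D23871) (iv D22529) F38670 D20659 D22531 D23874 (iv F48218) F48216
def n24543 : Q := act 1 n23532
theorem D24543 : act 1 n23532 = n24543 := rfl
theorem F48237 : act 0 n24543 = n24302 := d0_1 D24543 F47664 F46590 (iv F46602) F46601
theorem F48238 : act 3 n24543 = n23999 := d6_2 (iv F45688) D24543 (iv D23999)
theorem F48239 : act 5 n24543 = n23533 := d8_2 (iv F45689) D24543 (iv D23533)
def n24544 : Q := act 3 n23534
theorem D24544 : act 3 n23534 = n24544 := rfl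
theorem F48240 : act 0 n24544 = n23771 := d2_1 D24544 (iv F48171) F48170
theorem F48241 : act 1 n24544 = n23535 := d6_1 D24544 (iv D23535) D23534
def n24545 : Q := act 1 n23536
theorem D24545 : act 1 n23536 = n24545 := rfl
theorem F48242 : act 2 n24545 = n23766 := d5_2 D23536 D24545 F46282 (iv F45579) F45577
def n24546 : Q := act 3 n23538
theorem D24546 : act 3 n23538 = n24546 := rfl
theorem F48243 : act 0 n24546 = n23872 := d2_1 D24546 F46526 F45701
theorem F48244 : act 1 n24546 = n23539 := d6_1 D24546 (iv D23539) D23538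
theorem F48245 : act 4 n24546 = n24001 := d12_2 (iv F45699) D24546 F46863 F43561 (iv F43005)
theorem F48246 : act 5 n24546 = n23826 := d13_2 (iv F45700) D24546 (iv D23826)
def n24547 : Q := act 4 n23539
theorem D24547 : act 4 n23539 = n24547 := rfl
theorem F48247 : act 0 n24547 = n23863 := d3_1 D24547 (iv D23863) (iv F45702)
theorem F48248 : act 1 n24547 = n24001 := d7_1 D24547 (iv F48245) F48244
theorem F48249 : act 2 n24547 = n23837 := d10_1 D24547 (iv D23837) (iv F45703)
theorem F48250 : act 3 n24547 = n24005 := d12_1 D24547 F46873 F45697 F45694 D23539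
theorem F48251 : act 5 n24547 = n23840 := d14_2 (iv F45704) D24547 (iv D23840) (iv D22492) (iv F43035)
def n24548 : Q := act 4 n23541
theorem D24548 : act 4 n23541 = n24548 := rfl
theorem F48252 : act 0 n24548 = n23633 := d3_1 D24548 F45970 (iv F45710)
theorem F48253 : act 1 n24548 = n23542 := d7_1 D24548 (iv D23542) (iv F45711)
theorem F48254 : act 3 n24548 = n23625 := d12_1 D24548 (iv D23625) F42301 (iv F41986) (iv F45712)
theorem F48255 : act 5 n24548 = n23639 := d14_2 D23541 D24548 (iv D23639) (iv D22170) (iv F41982)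
def n24549 : Q := act 3 n23545
theorem D24549 : act 3 n23545 = n24549 := rfl
theorem F48256 : act 1 n24549 = n23546 := d6_1 D24549 (iv D23546) D23545
theorem F48257 : act 5 n24455 = n24549 := d8_0 F48256 F45727 D24455
def n24550 : Q := act 5 n23545
theorem D24550 : act 5 n23545 = n24550 := rfl
theorem F48258 : act 0 n24550 = n24549 := d4_1 D24550 (iv F48257) F48037
theorem F48259 : act 1 n24550 = n23547 := d8_1 D24550 (iv D23547) D23545
theorem F48260 : act 3 n24550 = n24455 := d13_1 D24550 F48257 (iv D24549)
def n24551 : Q := act 4 n23546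
theorem D24551 : act 4 n23546 = n24551 := rfl
theorem F48261 : act 0 n24551 = n23549 := d3_1 D24551 (iv D23549) (iv F45725)
theorem F48262 : act 2 n24551 = n23832 := d10_1 D24551 F46431 (iv F45726)
theorem F48263 : act 3 n24551 = n23828 := d12_1 D24551 F46422 F43490 F43096 D23546
theorem F48264 : act 5 n24551 = n23831 := d15_8 (iv D22482) (iv D20568) F32316 (iv F32304) (iv F38450) D22476 D23828 (iv F48263) F46428
def n24552 : Q := act 4 n23547
theorem D24552 : act 4 n23547 = n24552 := rfl
theorem F48265 : act 0 n24552 = n23550 := d3_1 D24552 (iv D23550) (iv F45728)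
theorem F48266 : act 2 n24552 = n23548 := d10_1 D24552 (iv D23548) (iv F45729)
theorem F48267 : act 5 n24552 = n23977 := d14_2 D23547 D24552 F46813 F43482 F43096
def n24553 : Q := act 3 n23551
theorem D24553 : act 3 n23551 = n24553 := rfl
theorem F48268 : act 0 n24553 = n23555 := d2_1 D24553 (iv D23555) (iv F45739)
theorem F48269 : act 2 n24553 = n24151 := d9_1 D24553 F47255 F44033 (iv F42038) F42037 (iv F42043) (iv F45756) F45757 (iv D22911) (iv D21147) F34157 (iv F32412) (iv F36873) D22033 D23551
theorem F48270 : act 5 n24553 = n23617 := d13_2 (iv F45741) D24553 (iv D23617)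
def n24554 : Q := act 3 n23554
theorem D24554 : act 3 n23554 = n24554 := rfl
theorem F48271 : act 1 n24554 = n23555 := d6_1 D24554 (iv D23555) D23554
theorem F48272 : act 5 n24554 = n24156 := d13_2 F45751 D24554 F47262
def n24555 : Q := act 4 n23555
theorem D24555 : act 4 n23555 = n24555 := rfl
theorem F48273 : act 2 n24555 = n24157 := d10_1 D24555 (iv D24157) (iv F45752)
theorem F48274 : act 3 n24555 = n23560 := d12_1 D24555 (iv D23560) (iv D22041) (iv F42040) D23555
def n24556 : Q := act 3 n23557
theorem D24556 : act 3 n23557 = n24556 := rfl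
theorem F48275 : act 0 n24556 = n23558 := d2_1 D24556 (iv D23558) D23557
def n24557 : Q := act 2 n23558
theorem D24557 : act 2 n23558 = n24557 := rfl
def n24558 : Q := act 4 n23558
theorem D24558 : act 4 n23558 = n24558 := rfl
theorem F48276 : act 1 n24558 = n23560 := d7_1 D24558 (iv D23560) (iv F45760)
def n24559 : Q := act 3 n23564
theorem D24559 : act 3 n23564 = n24559 := rfl
theorem F48277 : act 0 n24559 = n23565 := d2_1 D24559 (iv D23565) D23564
theorem F48278 : act 5 n24464 = n24559 := d4_0 F48277 (iv F45779) D24464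
def n24560 : Q := act 5 n23564
theorem D24560 : act 5 n23564 = n24560 := rfl
theorem F48279 : act 0 n24560 = n23566 := d4_1 D24560 (iv D23566) D23564
theorem F48280 : act 2 n24560 = n23571 := d11_1 D24560 (iv D23571) (iv F45777)
theorem F48281 : act 3 n24560 = n24464 := d13_1 D24560 F48278 (iv D24559)
theorem F48282 : act 4 n24560 = n24223 := d14_1 D24560 (iv D24223) (iv F46888) (iv F48046) F48045
def n24561 : Q := act 2 n23565
theorem D24561 : act 2 n23565 = n24561 := rfl
theorem F48283 : act 1 n24561 = n24450 := d5_1 D24561 F48026 F45333 (iv F42077) (iv F45778)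
theorem F48284 : act 5 n24561 = n24448 := d11_2 F45779 D24561 F48025
def n24562 : Q := act 4 n23565
theorem D24562 : act 4 n23565 = n24562 := rfl
theorem F48285 : act 1 n24562 = n23567 := d7_1 D24562 (iv D23567) (iv F45778)
theorem F48286 : act 3 n24562 = n24206 := d12_1 D24562 F47413 (iv F45774) F45775 D23565
theorem F48287 : act 5 n24562 = n24205 := d14_2 F45779 D24562 F47411 (iv F47061) F47060
def n24563 : Q := act 2 n23568
theorem D24563 : act 2 n23568 = n24563 := rfl
theorem F48288 : act 1 n24563 = n24493 := d5_1 D24563 F48110 F45487 (iv F42087) (iv F45788)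
theorem F48289 : act 5 n24563 = n24491 := d11_2 F45789 D24563 F48109
def n24564 : Q := act 4 n23568
theorem D24564 : act 4 n23568 = n24564 := rfl
theorem F48290 : act 1 n24564 = n23570 := d7_1 D24564 (iv D23570) (iv F45788)
theorem F48291 : act 3 n24564 = n23573 := d12_1 D24564 (iv D23573) (iv D22060) (iv F42086) D23568
def n24565 : Q := act 4 n23571
theorem D24565 : act 4 n23571 = n24565 := rfl
theorem F48292 : act 0 n24565 = n23574 := d3_1 D24565 (iv D23574) (iv F45796)
theorem F48293 : act 2 n24565 = n24223 := d10_1 D24565 (iv F48282) F48280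
theorem F48294 : act 3 n24565 = n24226 := d12_1 D24565 (iv F47472) (iv D24065) (iv F46768) F46767
theorem F48295 : act 5 n24565 = n24222 := d14_2 D23571 D24565 F48164 (iv D24517) F45564
def n24566 : Q := act 3 n23572
theorem D24566 : act 3 n23572 = n24566 := rfl
def n24567 : Q := act 0 n23575
theorem D24567 : act 0 n23575 = n24567 := rfl
theorem F48296 : act 1 n24567 = n24464 := d0_2 D23575 D24567 (iv D24464) (iv D23404) (iv F42094)
theorem F48297 : act 2 n24567 = n23986 := d1_2 (iv F45802) D24567 (iv D23986)
def n24568 : Q := act 4 n23575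
theorem D24568 : act 4 n23575 = n24568 := rfl
theorem F48298 : act 1 n24568 = n23576 := d7_1 D24568 (iv D23576) D23575
theorem F48299 : act 2 n24568 = n23984 := d10_1 D24568 F46827 (iv F45802)
theorem F48300 : act 3 n24568 = n24111 := d12_1 D24568 F47162 F44509 (iv F46121) F46120
theorem F48301 : act 5 n24568 = n24110 := d14_2 F46309 D24568 F47158 D24234 (iv F47492)
def n24569 : Q := act 2 n23579
theorem D24569 : act 2 n23579 = n24569 := rfl
theorem F48302 : act 0 n24569 = n24212 := d1_1 D24569 F47429 F46956
theorem F48303 : act 5 n24569 = n24212 := d11_2 F46959 D24569 F47429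
theorem F48304 : act 3 n24569 = n24208 := d15_1 D24569 (iv D24208) (iv D23020) (iv F44230) F44231 F42567 D23579 (iv F46959) F46956
def n24570 : Q := act 3 n23580
theorem D24570 : act 3 n23580 = n24570 := rfl
theorem F48305 : act 1 n24570 = n24444 := d6_1 D24570 F48012 (iv F45817)
theorem F48306 : act 4 n24570 = n24311 := d12_2 F46118 D24570 (iv D24311) F44876 (iv F46117)
theorem F48307 : act 5 n24570 = n24438 := d13_2 (iv F45818) D24570 (iv D24438)
def n24571 : Q := act 2 n23589
theorem D24571 : act 2 n23589 = n24571 := rfl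
theorem F48308 : act 0 n24571 = n24497 := d1_1 D24571 (iv D24497) (iv F45847)
theorem F48309 : act 3 n24571 = n24493 := d15_1 D24571 F48110 F45488 F41680 (iv F41693) (iv F45502) (iv F48119) (iv D24498) (iv F45847)
theorem F48310 : act 5 n24492 = n24571 := d13_0 F48309 (iv D24493) D24492
def n24572 : Q := act 5 n23589
theorem D24572 : act 5 n23589 = n24572 := rfl
theorem F48311 : act 0 n24572 = n24498 := d4_1 D24572 (iv D24498) (iv F45847)
theorem F48312 : act 1 n24572 = n24553 := d8_1 D24572 F48270 F45924
theorem F48313 : act 2 n24572 = n24492 := d11_1 D24572 F48310 (iv D24571)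
theorem F48314 : act 3 n24572 = n23590 := d13_1 D24572 (iv D23590) D23589
def n24573 : Q := act 2 n23592
theorem D24573 : act 2 n23592 = n24573 := rfl
theorem F48315 : act 3 n24573 = n24573 := d15_3 (iv F42178) D23592 D24573 (iv D24573) (iv D23592) F42178 D22111 (iv F42201) (iv D22110)
def n24574 : Q := act 5 n23592
theorem D24574 : act 5 n23592 = n24574 := rfl
theorem F48316 : act 1 n24574 = n23594 := d8_1 D24574 (iv F45860) (iv F45855)
theorem F48317 : act 3 n24574 = n23593 := d13_1 D24574 (iv D23593) D23592
def n24575 : Q := act 4 n23594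
theorem D24575 : act 4 n23594 = n24575 := rfl
theorem F48318 : act 2 n24575 = n23595 := d10_1 D24575 (iv D23595) D23594
def n24576 : Q := act 5 n23595
theorem D24576 : act 5 n23595 = n24576 := rfl
theorem F48319 : act 3 n24576 = n23597 := d13_1 D24576 (iv D23597) (iv F45861)
def n24577 : Q := act 3 n23598
theorem D24577 : act 3 n23598 = n24577 := rfl
theorem F48320 : act 0 n24577 = n24574 := d2_1 D24577 F48317 (iv F45865)
theorem F48321 : act 1 n24577 = n24512 := d6_1 D24577 F48150 F46804
theorem F48322 : act 5 n24577 = n24509 := d13_2 (iv F45867) D24577 F48148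
def n24578 : Q := act 2 n23600
theorem D24578 : act 2 n23600 = n24578 := rfl
theorem F48323 : act 0 n24578 = n24511 := d1_1 D24578 F48149 (iv F45872)
theorem F48324 : act 4 n24578 = n24379 := d10_2 (iv F45874) D24578 F47877
theorem F48325 : act 1 n24417 = n24578 := d7_3 F48324 F47875 D24417
theorem F48326 : act 3 n24417 = n24578 := d12_5 F48324 (iv D24379) F45134 D23338 D24417
theorem F48327 : act 5 n24417 = n24578 := d14_0 F48324 F47876 (iv F47935) F47936 D24417
def n24579 : Q := act 5 n23600
theorem D24579 : act 5 n23600 = n24579 := rfl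
theorem F48328 : act 0 n24579 = n24512 := d4_1 D24579 (iv D24512) (iv F45872)
theorem F48329 : act 1 n24579 = n23602 := d8_1 D24579 (iv F45879) (iv F45873)
theorem F48330 : act 2 n24579 = n24417 := d11_1 D24579 F48327 (iv D24578)
theorem F48331 : act 3 n24579 = n23601 := d13_1 D24579 (iv D23601) D23600
theorem F48332 : act 4 n24416 = n24579 := d10_0 F48330 (iv D24417) D24416
def n24580 : Q := act 4 n23602
theorem D24580 : act 4 n23602 = n24580 := rfl
theorem F48333 : act 0 n24580 = n24575 := d3_1 D24580 (iv D24575) (iv F45877)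
theorem F48334 : act 1 n24580 = n24416 := d7_1 D24580 F48332 F48329
theorem F48335 : act 2 n24580 = n23603 := d10_1 D24580 (iv D23603) D23602
def n24581 : Q := act 5 n23603
theorem D24581 : act 5 n23603 = n24581 := rfl
theorem F48336 : act 0 n24581 = n24576 := d4_1 D24581 (iv D24576) (iv F45880)
theorem F48337 : act 1 n24581 = n24164 := d8_1 D24581 F47286 (iv F45881)
theorem F48338 : act 3 n24581 = n23620 := d13_1 D24581 (iv D23620) (iv F45882)
def n24582 : Q := act 3 n23604
theorem D24582 : act 3 n23604 = n24582 := rfl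
theorem F48339 : act 0 n24582 = n24006 := d2_1 D24582 F46876 (iv F45883)
theorem F48340 : act 2 n24582 = n23860 := d9_1 D24582 (iv D23860) (iv D22516) (iv D20637) (iv F36069) (iv F37134) (iv F42196) (iv F43567) F43566 (iv F43000) F42999 (iv F41972) F41971 (iv F42217) (iv F45884)
theorem F48341 : act 5 n24582 = n23619 := d13_2 (iv F45885) D24582 (iv D23619)
def n24583 : Q := act 3 n23606
theorem D24583 : act 3 n23606 = n24583 := rfl
theorem F48342 : act 0 n24583 = n23962 := d2_1 D24583 F46779 (iv F45890)
theorem F48343 : act 1 n24583 = n23656 := d6_1 D24583 (iv D23656) (iv F45891)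
theorem F48344 : act 4 n24583 = n23656 := d12_2 D23606 D24583 (iv D23656) (iv D22193) (iv F42235)
theorem F48345 : act 5 n24583 = n24556 := d13_2 F45893 D24583 (iv D24556)
def n24584 : Q := act 4 n23610
theorem D24584 : act 4 n23610 = n24584 := rfl
theorem F48346 : act 2 n24584 = n24548 := d10_1 D24584 (iv D24548) (iv F45904)
def n24585 : Q := act 3 n23611
theorem D24585 : act 3 n23611 = n24585 := rfl
theorem F48347 : act 1 n24585 = n23612 := d6_1 D24585 (iv D23612) D23611
theorem F48348 : act 5 n24585 = n23635 := d13_2 (iv F45907) D24585 F45975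
theorem F48349 : act 2 n23634 = n24585 := d11_3 F48348 F45974 (iv F45973)
theorem F48350 : act 4 n23647 = n24585 := d14_5 F48348 F45976 (iv F42352) D22178 D23647
def n24586 : Q := act 4 n23612
theorem D24586 : act 4 n23612 = n24586 := rfl
theorem F48351 : act 0 n24586 = n24584 := d3_1 D24586 (iv D24584) (iv F45908)
theorem F48352 : act 1 n24586 = n23647 := d7_1 D24586 F48350 F48347
theorem F48353 : act 2 n24586 = n23633 := d10_1 D24586 F45970 (iv F45909)
theorem F48354 : act 5 n24586 = n23641 := d14_2 (iv F45910) D24586 (iv D23641) (iv D22172) (iv F42332)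
def n24587 : Q := act 2 n23613
theorem D24587 : act 2 n23613 = n24587 := rfl
theorem F48355 : act 1 n24587 = n23648 := d5_1 D24587 (iv D23648) F42368 (iv F42259) (iv F45911)
def n24588 : Q := act 4 n23615
theorem D24588 : act 4 n23615 = n24588 := rfl
theorem F48356 : act 0 n24588 = n24466 := d3_1 D24588 (iv D24466) (iv F45916)
theorem F48357 : act 1 n24588 = n24216 := d7_1 D24588 (iv D24216) (iv F45917)
theorem F48358 : act 2 n24588 = n23616 := d10_1 D24588 (iv D23616) D23615
theorem F48359 : act 5 n24588 = n24178 := d14_2 (iv F45919) D24588 (iv D24178) F44216 (iv F44406)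
def n24589 : Q := act 2 n23621
theorem D24589 : act 2 n23621 = n24589 := rfl
theorem F48360 : act 0 n24589 = n23629 := d1_1 D24589 (iv F47698) F47696
theorem F48361 : act 3 n24589 = n23624 := d9_2 D23621 D24589 F45945 F42301 (iv F40934) (iv F42315) (iv F45949) (iv F45958) (iv D23628) (iv D22153) (iv D20073) (iv D17335) (iv F30975) D20067 D22149
theorem F48362 : act 5 n24589 = n23623 := d11_2 F45954 D24589 (iv F45955)
def n24590 : Q := act 4 n23621
theorem D24590 : act 4 n23621 = n24590 := rfl
theorem F48363 : act 5 n24590 = n24590 := d14_2 F45954 D24590 (iv D24590) (iv F45954) F45953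
def n24591 : Q := act 3 n23622
theorem D24591 : act 3 n23622 = n24591 := rfl
theorem F48364 : act 0 n24591 = n23745 := d2_1 D24591 (iv D23745) F45941
theorem F48365 : act 1 n24591 = n23623 := d6_1 D24591 (iv D23623) D23622
theorem F48366 : act 4 n24591 = n24591 := d12_2 (iv F45940) D24591 (iv D24591) F45940 F44664
theorem F48367 : act 2 n24591 = n23745 := d15_2 (iv F45939) D24591 (iv D23745) (iv D22329) (iv D20326) F31674 D20172 (iv F37886) (iv F42695)
def n24592 : Q := act 4 n23624
theorem D24592 : act 4 n23624 = n24592 := rfl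
theorem F48368 : act 0 n24592 = n23631 := d3_1 D24592 (iv D23631) (iv F45944)
theorem F48369 : act 1 n24592 = n24487 := d7_1 D24592 F48100 F46049
theorem F48370 : act 2 n24592 = n23625 := d10_1 D24592 (iv D23625) (iv F45945)
def n24593 : Q := act 4 n23629
theorem D24593 : act 4 n23629 = n24593 := rfl
theorem F48371 : act 1 n24593 = n24590 := d7_1 D24593 (iv D24590) (iv F45959)
theorem F48372 : act 5 n24593 = n24593 := d14_2 D23629 D24593 (iv D24593) (iv D23629) F42306
def n24594 : Q := act 3 n23631
theorem D24594 : act 3 n23631 = n24594 := rfl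
theorem F48373 : act 1 n24594 = n24418 := d6_1 D24594 (iv D24418) (iv F45964)
def n24595 : Q := act 0 n23634
theorem D24595 : act 0 n23634 = n24595 := rfl
theorem F48374 : act 1 n24595 = n23653 := d0_2 D23634 D24595 F46012 F42388 (iv F42326)
theorem F48375 : act 4 n24595 = n23644 := d3_2 (iv F45972) D24595 F45999
theorem F48376 : act 5 n24595 = n23636 := d4_2 (iv F45973) D24595 (iv D23636)
def n24596 : Q := act 3 n23636
theorem D24596 : act 3 n23636 = n24596 := rfl
theorem F48377 : act 0 n24596 = n23637 := d2_1 D24596 (iv D23637) D23636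
theorem F48378 : act 1 n24596 = n23652 := d6_1 D24596 (iv D23652) (iv F45977)
theorem F48379 : act 4 n24596 = n23645 := d12_2 (iv F45978) D24596 (iv D23645) (iv D22177) (iv F42357)
def n24597 : Q := act 2 n23637
theorem D24597 : act 2 n23637 = n24597 := rfl
theorem F48380 : act 4 n24597 = n23648 := d10_2 (iv F45980) D24597 (iv D23648)
def n24598 : Q := act 4 n23638
theorem D24598 : act 4 n23638 = n24598 := rfl
theorem F48381 : act 0 n24598 = n23641 := d3_1 D24598 (iv D23641) (iv F45981)
theorem F48382 : act 1 n24598 = n24004 := d7_1 D24598 (iv D24004) (iv F45982)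
theorem F48383 : act 2 n24598 = n23639 := d10_1 D24598 (iv D23639) (iv F45983)
theorem F48384 : act 5 n24598 = n24584 := d14_2 D23638 D24598 (iv D24584) (iv D23610) (iv F42346)
def n24599 : Q := act 3 n23641
theorem D24599 : act 3 n23641 = n24599 := rfl
theorem F48385 : act 1 n24599 = n23646 := d6_1 D24599 (iv D23646) (iv F45991)
theorem F48386 : act 4 n24599 = n24506 := d12_2 D23641 D24599 (iv D24506) F45531 F43466
def n24600 : Q := act 4 n23642
theorem D24600 : act 4 n23642 = n24600 := rfl
theorem F48387 : act 0 n24600 = n24004 := d3_1 D24600 (iv D24004) (iv F45993)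
theorem F48388 : act 1 n24600 = n23643 := d7_1 D24600 (iv D23643) D23642
theorem F48389 : act 2 n24600 = n24002 := d10_1 D24600 (iv D24002) (iv F45994)
def n24601 : Q := act 3 n23643
theorem D24601 : act 3 n23643 = n24601 := rfl
theorem F48390 : act 0 n24601 = n23646 := d2_1 D24601 (iv D23646) (iv F45997)
theorem F48391 : act 4 n24601 = n24164 := d12_2 D23643 D24601 (iv D24164) (iv D22930) (iv F42360)
theorem F48392 : act 2 n24601 = n24405 := d15_2 (iv F45998) D24601 (iv D24405) (iv D23329) (iv D21733) (iv F41290) (iv F42367) (iv D22179) (iv F42361)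
theorem F48393 : act 5 n24416 = n24601 := d11_0 F48392 F47936 D24416
def n24602 : Q := act 5 n23643
theorem D24602 : act 5 n23643 = n24602 := rfl
theorem F48394 : act 0 n24602 = n23647 := d4_1 D24602 (iv D23647) (iv F45997)
theorem F48395 : act 2 n24602 = n23644 := d11_1 D24602 (iv D23644) (iv F45998)
theorem F48396 : act 3 n24602 = n24416 := d13_1 D24602 F48393 (iv D24601)
def n24603 : Q := act 2 n23645
theorem D24603 : act 2 n23645 = n24603 := rfl
theorem F48397 : act 0 n24603 = n23648 := d1_1 D24603 (iv D23648) (iv F46001)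
theorem F48398 : act 3 n24603 = n23648 := d15_1 D24603 (iv D23648) (iv D22180) F37369 (iv F38122) F38121 D22298 F42631 (iv F46001)
def n24604 : Q := act 2 n23646
theorem D24604 : act 2 n23646 = n24604 := rfl
theorem F48399 : act 0 n24604 = n24405 := d1_1 D24604 (iv F48392) F48390
theorem F48400 : act 3 n24604 = n24404 := d9_2 D23646 D24604 (iv D24404) (iv D23328) (iv F45194) (iv F46000) (iv F48395) F48396 (iv D24416) (iv D23338) (iv D21742) (iv D19535) (iv F36054) (iv F37367) (iv F42365)
theorem F48401 : act 4 n24604 = n24428 := d10_2 (iv F46002) D24604 F47974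
theorem F48402 : act 5 n24415 = n24604 := d13_0 F48400 F47933 D24415
def n24605 : Q := act 5 n23646
theorem D24605 : act 5 n23646 = n24605 := rfl
theorem F48403 : act 0 n24605 = n24416 := d4_1 D24605 F48393 F48390
theorem F48404 : act 2 n24605 = n24415 := d11_1 D24605 F48402 (iv D24604)
theorem F48405 : act 3 n24605 = n23647 := d13_1 D24605 (iv D23647) D23646
theorem F48406 : act 4 n24605 = n24512 := d14_1 D24605 (iv D24512) (iv D23469) (iv F45533) (iv F46002)
def n24606 : Q := act 3 n23650
theorem D24606 : act 3 n23650 = n24606 := rfl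
theorem F48407 : act 0 n24606 = n24001 := d2_1 D24606 F46863 (iv F46006)
theorem F48408 : act 4 n24606 = n23872 := d12_2 D23650 D24606 F46526 (iv F45719) F45718
theorem F48409 : act 5 n24606 = n23651 := d13_2 (iv F46008) D24606 (iv D23651)
def n24607 : Q := act 2 n23654
theorem D24607 : act 2 n23654 = n24607 := rfl
theorem F48410 : act 4 n24607 = n24497 := d10_2 (iv F46014) D24607 (iv D24497)
def n24608 : Q := act 5 n23654
theorem D24608 : act 5 n23654 = n24608 := rfl
theorem F48411 : act 0 n24608 = n24554 := d4_1 D24608 F48272 F47261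
theorem F48412 : act 1 n24608 = n24498 := d8_1 D24608 (iv D24498) (iv F46013)
theorem F48413 : act 3 n24608 = n23655 := d13_1 D24608 (iv D23655) D23654
def n24609 : Q := act 2 n23656
theorem D24609 : act 2 n23656 = n24609 := rfl
theorem F48414 : act 0 n24609 = n23855 := d1_1 D24609 F46493 (iv F46019)
theorem F48415 : act 3 n24609 = n24024 := d9_2 D23656 D24609 F46916 F45612 F42542 (iv F42291) (iv F45742) (iv F46787) F46786 (iv D22733) F39275 F37559 F37558 (iv F37407) (iv F42395)
theorem F48416 : act 5 n24023 = n24609 := d13_0 F48415 (iv D24024) D24023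
theorem F48417 : act 1 n23956 = n24609 := d0_0 F48414 (iv D23855) F43070 D22633 D23956
def n24610 : Q := act 5 n23656
theorem D24610 : act 5 n23656 = n24610 := rfl
theorem F48418 : act 0 n24610 = n23964 := d4_1 D24610 (iv D23964) (iv F46019)
theorem F48419 : act 1 n24610 = n24556 := d8_1 D24610 (iv F48345) F48343
theorem F48420 : act 2 n24610 = n24023 := d11_1 D24610 F48416 (iv D24609)
theorem F48421 : act 3 n24610 = n23657 := d13_1 D24610 (iv D23657) D23656
def n24611 : Q := act 3 n23659
theorem D24611 : act 3 n23659 = n24611 := rfl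
theorem F48422 : act 0 n24611 = n24492 := d2_1 D24611 (iv D24492) (iv F46027)
theorem F48423 : act 2 n24611 = n24498 := d9_1 D24611 F48119 F45502 F41693 (iv F41680) (iv F45488) (iv F48110) (iv F48309) (iv D24571) (iv D23589) F42174 F37118 (iv F37432) D22197 D23659
theorem F48424 : act 5 n24611 = n24497 := d15_8 (iv D24571) (iv D23589) F42174 F37118 (iv F37432) D22197 D23659 D24611 (iv F48308)
def n24612 : Q := act 5 n23659
theorem D24612 : act 5 n23659 = n24612 := rfl
theorem F48425 : act 0 n24612 = n24493 := d4_1 D24612 (iv D24493) (iv F46027)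
theorem F48426 : act 2 n24612 = n23660 := d11_1 D24612 (iv D23660) D23659
theorem F48427 : act 3 n24612 = n24497 := d13_1 D24612 (iv F48424) (iv D24611)
theorem F48428 : act 4 n23786 = n24612 := d10_0 F48426 (iv F46031) D23786
def n24613 : Q := act 5 n23661
theorem D24613 : act 5 n23661 = n24613 := rfl
theorem F48429 : act 1 n24613 = n23664 := d8_1 D24613 (iv D23664) (iv F46032)
theorem F48430 : act 3 n24613 = n23662 := d13_1 D24613 (iv D23662) D23661
def n24614 : Q := act 5 n23663
theorem D24614 : act 5 n23663 = n24614 := rfl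
theorem F48431 : act 1 n24614 = n24263 := d8_1 D24614 F47578 F46111
theorem F48432 : act 2 n24614 = n23664 := d11_1 D24614 (iv D23664) D23663
theorem F48433 : act 3 n24614 = n24262 := d13_1 D24614 (iv F47571) (iv F46037)
theorem F48434 : act 4 n24614 = n24442 := d14_1 D24614 (iv D24442) (iv D23371) D23372 (iv F46036)
def n24615 : Q := act 4 n23664
theorem D24615 : act 4 n23664 = n24615 := rfl
theorem F48435 : act 2 n24615 = n24442 := d10_1 D24615 (iv F48434) F48432
theorem F48436 : act 5 n24615 = n24440 := d14_2 D23664 D24615 (iv D24440) (iv F45300) F45206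
def n24616 : Q := act 3 n23665
theorem D24616 : act 3 n23665 = n24616 := rfl
theorem F48437 : act 0 n24616 = n23669 := d2_1 D24616 (iv D23669) (iv F46039)
def n24617 : Q := act 5 n23666
theorem D24617 : act 5 n23666 = n24617 := rfl
theorem F48438 : act 1 n24617 = n23667 := d8_1 D24617 (iv D23667) (iv F46041)
theorem F48439 : act 2 n24617 = n23743 := d11_1 D24617 (iv F46228) F46222
theorem F48440 : act 4 n24617 = n23675 := d14_1 D24617 (iv D23675) (iv D22221) (iv F42445) D23666
def n24618 : Q := act 4 n23667
theorem D24618 : act 4 n23667 = n24618 := rfl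
theorem F48441 : act 1 n24618 = n23675 := d7_1 D24618 (iv F48440) F48438
theorem F48442 : act 2 n24618 = n24247 := d10_1 D24618 F47528 (iv F47284)
theorem F48443 : act 5 n24618 = n23668 := d14_2 D23667 D24618 (iv D23668) (iv D22215) D22214
def n24619 : Q := act 3 n23668
theorem D24619 : act 3 n23668 = n24619 := rfl
theorem F48444 : act 1 n24619 = n23674 := d6_1 D24619 (iv D23674) (iv F46042)
theorem F48445 : act 4 n24619 = n23669 := d12_2 D23668 D24619 (iv D23669) (iv D22216) (iv F42447)
def n24620 : Q := act 2 n23669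
theorem D24620 : act 2 n23669 = n24620 := rfl
theorem F48446 : act 3 n24620 = n24080 := d15_3 (iv F42449) D23669 D24620 (iv D24080) (iv D22800) (iv F41628) D23417 F45424 F42440
def n24621 : Q := act 3 n23670
theorem D24621 : act 3 n23670 = n24621 := rfl
theorem F48447 : act 1 n24621 = n23671 := d6_1 D24621 (iv D23671) (iv F46044)
def n24622 : Q := act 5 n23670
theorem D24622 : act 5 n23670 = n24622 := rfl
theorem F48448 : act 1 n24622 = n23672 := d8_1 D24622 (iv D23672) (iv F46044)
def n24623 : Q := act 5 n23671
theorem D24623 : act 5 n23671 = n24623 := rfl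
theorem F48449 : act 0 n24623 = n23677 := d4_1 D24623 (iv D23677) (iv F46045)
theorem F48450 : act 3 n24623 = n23672 := d13_1 D24623 (iv D23672) D23671
def n24624 : Q := act 3 n23673
theorem D24624 : act 3 n23673 = n24624 := rfl
theorem F48451 : act 0 n24624 = n23678 := d2_1 D24624 (iv D23678) (iv F46048)
theorem F48452 : act 1 n24624 = n24589 := d6_1 D24624 F48361 (iv F46049)
theorem F48453 : act 2 n24624 = n23678 := d9_1 D24624 (iv D23678) (iv D22224) (iv D20172) (iv F31674) D20326 D22329 D23745 (iv F48367) (iv D24591) F45939 (iv D22324) F37875 D22220 D23673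
theorem F48454 : act 5 n24624 = n24591 := d13_2 (iv F46050) D24624 (iv D24591)
def n24625 : Q := act 5 n23674
theorem D24625 : act 5 n23674 = n24625 := rfl
theorem F48455 : act 2 n24625 = n24623 := d11_1 D24625 (iv D24623) (iv F46052)
theorem F48456 : act 3 n24625 = n23675 := d13_1 D24625 (iv D23675) D23674
def n24626 : Q := act 1 n23676
theorem D24626 : act 1 n23676 = n24626 := rfl
theorem F48457 : act 3 n24626 = n24190 := d6_2 (iv F46056) D24626 F47365
theorem F48458 : act 4 n24626 = n24621 := d7_2 (iv F46055) D24626 F48447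
theorem F48459 : act 0 n24193 = n24626 := d2_3 F48457 F47364 D24193
def n24627 : Q := act 5 n23676
theorem D24627 : act 5 n23676 = n24627 := rfl
theorem F48460 : act 0 n24627 = n24625 := d4_1 D24627 (iv D24625) (iv F46054)
theorem F48461 : act 2 n24627 = n23677 := d11_1 D24627 (iv D23677) D23676
theorem F48462 : act 3 n24627 = n24246 := d13_1 D24627 (iv D24246) (iv F46056)
def n24628 : Q := act 4 n23677
theorem D24628 : act 4 n23677 = n24628 := rfl
def n24629 : Q := act 4 n23678
theorem D24629 : act 4 n23678 = n24629 := rfl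
theorem F48463 : act 5 n24629 = n24629 := d14_2 F46235 D24629 (iv D24629) (iv F46235) F46234
def n24630 : Q := act 2 n23679
theorem D24630 : act 2 n23679 = n24630 := rfl
theorem F48464 : act 1 n24630 = n23974 := d5_1 D24630 (iv D23974) F43470 (iv F42457) (iv F46058)
def n24631 : Q := act 5 n23679
theorem D24631 : act 5 n23679 = n24631 := rfl
theorem F48465 : act 1 n24631 = n23681 := d8_1 D24631 (iv D23681) (iv F46058)
theorem F48466 : act 3 n24631 = n23680 := d13_1 D24631 (iv D23680) D23679
def n24632 : Q := act 3 n23682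
theorem D24632 : act 3 n23682 = n24632 := rfl
theorem F48467 : act 0 n24632 = n23691 := d2_1 D24632 (iv D23691) (iv F46063)
theorem F48468 : act 2 n24632 = n23894 := d9_1 D24632 F46588 F43239 (iv F39709) F39708 F34024 (iv F37538) D22240 F42484 (iv D21064) F33973 (iv F33736) (iv F39103) (iv F42463) (iv F46064)
theorem F48469 : act 5 n24632 = n23683 := d13_2 (iv F46065) D24632 (iv D23683)
def n24633 : Q := act 5 n23684
theorem D24633 : act 5 n23684 = n24633 := rfl
theorem F48470 : act 0 n24633 = n23686 := d4_1 D24633 (iv D23686) (iv F46069)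
theorem F48471 : act 2 n24633 = n24606 := d11_1 D24633 F48409 (iv F46070)
theorem F48472 : act 3 n24633 = n23685 := d13_1 D24633 (iv D23685) D23684
def n24634 : Q := act 4 n23686
theorem D24634 : act 4 n23686 = n24634 := rfl
theorem F48473 : act 1 n24634 = n23690 := d7_1 D24634 (iv D23690) (iv F46073)
theorem F48474 : act 2 n24634 = n24546 := d10_1 D24634 F48245 F46862
def n24635 : Q := act 3 n23690
theorem D24635 : act 3 n23690 = n24635 := rfl
theorem F48475 : act 2 n24635 = n24107 := d9_1 D24635 F47146 F44891 F40897 (iv F41735) (iv F45522) (iv F48134) F48135 (iv D23756) (iv D22347) F37989 D20365 D22348 D23757 (iv F46263)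
theorem F48476 : act 4 n24635 = n23691 := d12_2 D23690 D24635 (iv D23691) (iv D22239) (iv F42481)
theorem F48477 : act 5 n24635 = n23899 := d13_2 F46307 D24635 F46607
def n24636 : Q := act 3 n23692
theorem D24636 : act 3 n23692 = n24636 := rfl
theorem F48478 : act 0 n24636 = n23693 := d2_1 D24636 (iv D23693) D23692
theorem F48479 : act 1 n24636 = n24463 := d6_1 D24636 F48060 F46105
theorem F48480 : act 4 n24636 = n24305 := d12_2 (iv F46089) D24636 (iv D24305) (iv D23191) D23190
theorem F48481 : act 5 n24636 = n23973 := d13_2 (iv F46090) D24636 (iv D23973)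
def n24637 : Q := act 2 n23693
theorem D24637 : act 2 n23693 = n24637 := rfl
theorem F48482 : act 4 n24637 = n24308 := d10_2 (iv F46092) D24637 (iv D24308)
theorem F48483 : act 5 n24637 = n23974 := d11_2 (iv F46093) D24637 (iv D23974)
def n24638 : Q := act 4 n23698
theorem D24638 : act 4 n23698 = n24638 := rfl
theorem F48484 : act 0 n24638 = n23699 := d3_1 D24638 (iv D23699) (iv F46108)
theorem F48485 : act 2 n24638 = n24372 := d10_1 D24638 (iv D24372) (iv F46109)
def n24639 : Q := act 0 n23702
theorem D24639 : act 0 n23702 = n24639 := rfl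
theorem F48486 : act 1 n24639 = n24560 := d0_2 D23702 D24639 F48279 F45780 (iv F42533)
theorem F48487 : act 2 n24639 = n23795 := d1_2 (iv F46119) D24639 F46340
theorem F48488 : act 3 n24639 = n24567 := d2_2 (iv F46120) D24639 (iv D24567)
theorem F48489 : act 4 n24639 = n23760 := d3_2 (iv F46121) D24639 F46268
theorem F48490 : act 5 n24639 = n24457 := d4_2 (iv F46122) D24639 F48039
def n24640 : Q := act 2 n23703
theorem D24640 : act 2 n23703 = n24640 := rfl
theorem F48491 : act 0 n24640 = n23707 := d1_1 D24640 (iv D23707) (iv F46123)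
theorem F48492 : act 4 n24640 = n23728 := d10_2 (iv F46124) D24640 (iv D23728)
theorem F48493 : act 3 n24640 = n24347 := d15_1 D24640 F47779 F45009 F41092 (iv F37693) (iv F42551) (iv F46131) (iv D23708) (iv F46123)
theorem F48494 : act 5 n24346 = n24640 := d13_0 F48493 (iv D24347) D24346
def n24641 : Q := act 5 n23703
theorem D24641 : act 5 n23703 = n24641 := rfl
theorem F48495 : act 0 n24641 = n23708 := d4_1 D24641 (iv D23708) (iv F46123)
theorem F48496 : act 2 n24641 = n24346 := d11_1 D24641 F48494 (iv D24640)
theorem F48497 : act 3 n24641 = n23704 := d13_1 D24641 (iv D23704) D23703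
def n24642 : Q := act 2 n23705
theorem D24642 : act 2 n23705 = n24642 := rfl
theorem F48498 : act 0 n24642 = n23728 := d1_1 D24642 (iv D23728) (iv F46127)
theorem F48499 : act 4 n24642 = n23707 := d10_2 (iv F46128) D24642 (iv D23707)
def n24643 : Q := act 5 n23705
theorem D24643 : act 5 n23705 = n24643 := rfl
theorem F48500 : act 0 n24643 = n23729 := d4_1 D24643 (iv D23729) (iv F46127)
theorem F48501 : act 3 n24643 = n23706 := d13_1 D24643 (iv D23706) D23705
def n24644 : Q := act 1 n23707
theorem D24644 : act 1 n23707 = n24644 := rfl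
def n24645 : Q := act 3 n23707
theorem D24645 : act 3 n23707 = n24645 := rfl
theorem F48502 : act 0 n24645 = n24347 := d2_1 D24645 (iv F48493) F48491
theorem F48503 : act 2 n24645 = n24341 := d9_1 D24645 F47766 F44997 (iv F42548) (iv F46126) (iv F48497) F48496 (iv D24346) (iv D23252) (iv D21650) F35672 (iv F31486) (iv F37691) D22270 D23707
theorem F48504 : act 5 n24645 = n24340 := d15_8 (iv D23252) (iv D21650) F35672 (iv F31486) (iv F37691) D22270 D23707 D24645 F47764
def n24646 : Q := act 5 n23707
theorem D24646 : act 5 n23707 = n24646 := rfl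
theorem F48505 : act 0 n24646 = n24346 := d4_1 D24646 F48494 F48491
theorem F48506 : act 2 n24646 = n23708 := d11_1 D24646 (iv D23708) D23707
theorem F48507 : act 3 n24646 = n24340 := d13_1 D24646 (iv F48504) (iv D24645)
def n24647 : Q := act 4 n23708
theorem D24647 : act 4 n23708 = n24647 := rfl
def n24648 : Q := act 0 n23711
theorem D24648 : act 0 n23711 = n24648 := rfl
theorem F48508 : act 2 n24648 = n24056 := d1_2 (iv F46141) D24648 F46978
theorem F48509 : act 4 n24648 = n24352 := d3_2 (iv F46142) D24648 F47788
def n24649 : Q := act 3 n23711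
theorem D24649 : act 3 n23711 = n24649 := rfl
theorem F48510 : act 1 n24649 = n23712 := d6_1 D24649 (iv D23712) D23711
theorem F48511 : act 4 n24649 = n23907 := d12_2 (iv F46142) D24649 (iv D23907) (iv F46632) F46631
theorem F48512 : act 5 n24051 = n24649 := d8_0 F48510 F46146 (iv F46964)
def n24650 : Q := act 5 n23711
theorem D24650 : act 5 n23711 = n24650 := rfl
theorem F48513 : act 1 n24650 = n23713 := d8_1 D24650 (iv D23713) D23711
theorem F48514 : act 2 n24650 = n24114 := d11_1 D24650 F47171 (iv F46141)
theorem F48515 : act 3 n24650 = n24051 := d13_1 D24650 F48512 (iv D24649)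
theorem F48516 : act 4 n24650 = n23887 := d14_1 D24650 F46563 (iv F47053) F47054 (iv F46142)
def n24651 : Q := act 4 n23716
theorem D24651 : act 4 n23716 = n24651 := rfl
theorem F48517 : act 0 n24651 = n23731 := d3_1 D24651 F46200 (iv F46158)
theorem F48518 : act 2 n24651 = n23727 := d10_1 D24651 F46195 (iv F46159)
theorem F48519 : act 5 n24651 = n23726 := d14_2 D23716 D24651 F46191 F42641 (iv F42585)
def n24652 : Q := act 2 n23717
theorem D24652 : act 2 n23717 = n24652 := rfl
theorem F48520 : act 0 n24652 = n23724 := d1_1 D24652 (iv D23724) (iv F46161)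
theorem F48521 : act 3 n24652 = n23724 := d9_2 D23717 D24652 (iv D23724) (iv D22298) (iv F38121) F38122 (iv F37369) D22180 D23648 (iv F48398) (iv D24603) (iv D23645) F42364 F38131 (iv F42594)
theorem F48522 : act 4 n24652 = n23735 := d10_2 (iv F46163) D24652 (iv D23735)
theorem F48523 : act 5 n24652 = n24603 := d11_2 (iv F46164) D24652 (iv D24603)
def n24653 : Q := act 2 n23718
theorem D24653 : act 2 n23718 = n24653 := rfl
theorem F48524 : act 0 n24653 = n23723 := d1_1 D24653 (iv D23723) (iv F46165)
theorem F48525 : act 1 n24653 = n23736 := d5_1 D24653 (iv F47812) F47811 (iv D23735) (iv F46166)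
theorem F48526 : act 3 n24653 = n23719 := d9_2 D23718 D24653 (iv F47828) (iv F48007) F48006 (iv D24362) F45091 F46182 (iv D23723) (iv D22291) (iv F42604) D23722 (iv F47946) (iv D24410) F45204
theorem F48527 : act 4 n24653 = n23720 := d10_2 (iv F46167) D24653 (iv D23720)
theorem F48528 : act 5 n23718 = n24653 := d14_0 F48527 (iv F46173) F46178 (iv D23721) (iv F46167)
def n24654 : Q := act 1 n23720
theorem D24654 : act 1 n23720 = n24654 := rfl
theorem F48529 : act 0 n24654 = n23740 := d0_1 D24654 F46217 F42681 (iv F42609) (iv F46171)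
theorem F48530 : act 3 n24654 = n24595 := d6_2 (iv F46172) D24654 F48374
theorem F48531 : act 4 n24654 = n23736 := d7_2 F48527 D24654 (iv F48525)
theorem F48532 : act 5 n24654 = n24596 := d8_2 F46173 D24654 F48378
def n24655 : Q := act 1 n23724
theorem D24655 : act 1 n23724 = n24655 := rfl
theorem F48533 : act 2 n24655 = n23725 := d5_2 D23724 D24655 (iv D23725) (iv D22299) (iv F42629)
theorem F48534 : act 4 n24655 = n23737 := d7_2 (iv F46184) D24655 (iv D23737)
theorem F48535 : act 5 n24655 = n24587 := d8_2 (iv F46185) D24655 F48355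
theorem F48536 : act 0 n24093 = n24655 := d3_3 F48534 (iv F46213) (iv F47092)
def n24656 : Q := act 3 n23726
theorem D24656 : act 3 n23726 = n24656 := rfl
theorem F48537 : act 0 n24656 = n23730 := d2_1 D24656 (iv D23730) (iv F46190)
theorem F48538 : act 1 n24656 = n24462 := d6_1 D24656 F48056 F46865
theorem F48539 : act 4 n24656 = n24461 := d12_2 (iv F46191) D24656 F48052 F46451 F43540
def n24657 : Q := act 1 n23728
theorem D24657 : act 1 n23728 = n24657 := rfl
theorem F48540 : act 2 n24657 = n23976 := d5_2 D23728 D24657 (iv F47867) F47868 F45143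
def n24658 : Q := act 3 n23728
theorem D24658 : act 3 n23728 = n24658 := rfl
def n24659 : Q := act 5 n23728
theorem D24659 : act 5 n23728 = n24659 := rfl
theorem F48541 : act 2 n24659 = n23729 := d11_1 D24659 (iv D23729) D23728
def n24660 : Q := act 4 n23729
theorem D24660 : act 4 n23729 = n24660 := rfl
def n24661 : Q := act 2 n23730
theorem D24661 : act 2 n23730 = n24661 := rfl
def n24662 : Q := act 5 n23730
theorem D24662 : act 5 n23730 = n24662 := rfl
theorem F48542 : act 1 n24662 = n24606 := d8_1 D24662 F48409 (iv F46197)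
theorem F48543 : act 3 n24662 = n23731 := d13_1 D24662 (iv D23731) D23730
def n24663 : Q := act 3 n23733
theorem D24663 : act 3 n23733 = n24663 := rfl
theorem F48544 : act 0 n24663 = n24344 := d2_1 D24663 F47775 (iv F46205)
theorem F48545 : act 1 n24663 = n24102 := d6_1 D24663 F47127 (iv F46206)
theorem F48546 : act 4 n24663 = n23734 := d12_2 D23733 D24663 (iv D23734) (iv D22313) (iv F42670)
theorem F48547 : act 5 n24663 = n24339 := d13_2 (iv F46207) D24663 (iv D24339)
def n24664 : Q := act 2 n23734
theorem D24664 : act 2 n23734 = n24664 := rfl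
def n24665 : Q := act 4 n23739
theorem D24665 : act 4 n23739 = n24665 := rfl
theorem F48548 : act 1 n24665 = n24093 := d7_1 D24665 F47092 (iv F46215)
theorem F48549 : act 2 n24665 = n23740 := d10_1 D24665 (iv D23740) (iv F46216)
theorem F48550 : act 3 n24665 = n24093 := d12_1 D24665 F47092 (iv F46802) (iv F47797) F47798
theorem F48551 : act 5 n24665 = n24597 := d14_2 D23739 D24665 F48380 (iv F46185) F46184
def n24666 : Q := act 3 n23742
theorem D24666 : act 3 n23742 = n24666 := rfl
theorem F48552 : act 0 n24666 = n24483 := d2_1 D24666 F48096 (iv F46223)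
theorem F48553 : act 1 n24666 = n24249 := d6_1 D24666 (iv D24249) (iv F46224)
theorem F48554 : act 4 n24666 = n24481 := d12_2 D23742 D24666 (iv D24481) F45467 (iv F42701)
def n24667 : Q := act 5 n23742
theorem D24667 : act 5 n23742 = n24667 := rfl
theorem F48555 : act 0 n24667 = n24617 := d4_1 D24667 (iv D24617) (iv F46223)
theorem F48556 : act 1 n24667 = n24250 := d8_1 D24667 (iv D24250) (iv F46224)
theorem F48557 : act 2 n24667 = n23744 := d11_1 D24667 (iv D23744) (iv F46225)
theorem F48558 : act 4 n24667 = n24246 := d14_1 D24667 (iv D24246) (iv D23103) (iv F42702) D23742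
def n24668 : Q := act 3 n23747
theorem D24668 : act 3 n23747 = n24668 := rfl
theorem F48559 : act 0 n24668 = n24619 := d2_1 D24668 (iv D24619) (iv F46239)
theorem F48560 : act 1 n24668 = n24193 := d6_1 D24668 (iv D24193) (iv F46240)
theorem F48561 : act 4 n24668 = n24616 := d12_2 D23747 D24668 (iv D24616) (iv D23665) (iv F42716)
def n24669 : Q := act 5 n23747
theorem D24669 : act 5 n23747 = n24669 := rfl
theorem F48562 : act 0 n24669 = n24618 := d4_1 D24669 F48443 (iv F46239)
theorem F48563 : act 1 n24669 = n24194 := d8_1 D24669 (iv D24194) (iv F46240)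
theorem F48564 : act 2 n24669 = n23749 := d11_1 D24669 (iv D23749) (iv F46241)
theorem F48565 : act 4 n24669 = n24186 := d14_1 D24669 (iv D24186) (iv D22988) (iv F42717) D23747
def n24670 : Q := act 2 n23748
theorem D24670 : act 2 n23748 = n24670 := rfl
theorem F48566 : act 4 n24670 = n23750 := d10_2 (iv F46243) D24670 (iv D23750)
def n24671 : Q := act 1 n23750
theorem D24671 : act 1 n23750 = n24671 := rfl
theorem F48567 : act 2 n24671 = n24188 := d5_2 D23750 D24671 (iv D24188) (iv D22994) (iv F42719)
def n24672 : Q := act 3 n23750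
theorem D24672 : act 3 n23750 = n24672 := rfl
theorem F48568 : act 0 n24672 = n24614 := d2_1 D24672 F48433 (iv F47570)
theorem F48569 : act 2 n24672 = n24412 := d9_1 D24672 F47951 F45210 F42420 F40017 D21512 D23162 (iv F46037) (iv D23663) (iv D22204) F37488 (iv F31709) (iv F37899) D22333 D23750
theorem F48570 : act 5 n24672 = n24411 := d13_2 F47610 D24672 F47949
def n24673 : Q := act 2 n23751
theorem D24673 : act 2 n23751 = n24673 := rfl
theorem F48571 : act 0 n24673 = n24242 := d1_1 D24673 (iv D24242) (iv F46246)
theorem F48572 : act 4 n24673 = n24630 := d10_2 (iv F46248) D24673 (iv D24630)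
def n24674 : Q := act 3 n23753
theorem D24674 : act 3 n23753 = n24674 := rfl
theorem F48573 : act 0 n24674 = n23766 := d2_1 D24674 (iv D23766) (iv F46253)
theorem F48574 : act 1 n24674 = n23754 := d6_1 D24674 (iv D23754) (iv F46254)
def n24675 : Q := act 2 n23755
theorem D24675 : act 2 n23755 = n24675 := rfl
theorem F48575 : act 0 n24675 = n24635 := d1_1 D24675 F48475 F47145
theorem F48576 : act 3 n24675 = n24158 := d9_2 D23755 D24675 (iv D24158) (iv D22918) F39883 (iv F37974) (iv F42746) D23754 (iv F46606) F46607 (iv D23778) (iv D22383) F38154 (iv F37981) (iv F42756)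
theorem F48577 : act 4 n24675 = n24632 := d10_2 F46589 D24675 F48468
theorem F48578 : act 5 n24675 = n23756 := d11_2 (iv F46258) D24675 (iv D23756)
def n24676 : Q := act 1 n23756
theorem D24676 : act 1 n23756 = n24676 := rfl
theorem F48579 : act 2 n24676 = n23771 := d5_2 D23756 D24676 (iv D23771) (iv D22373) (iv F42758)
theorem F48580 : act 4 n24676 = n24302 := d7_2 (iv F46593) D24676 F47664
def n24677 : Q := act 3 n23761
theorem D24677 : act 3 n23761 = n24677 := rfl
theorem F48581 : act 0 n24677 = n24568 := d2_1 D24677 F48300 F47159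
theorem F48582 : act 4 n24677 = n24567 := d12_2 D23761 D24677 (iv F48488) F48489 (iv D23760)
def n24678 : Q := act 1 n23762
theorem D24678 : act 1 n23762 = n24678 := rfl
theorem F48583 : act 0 n24678 = n24445 := d0_1 D24678 F48013 F46276 (iv D23763) (iv F46271)
theorem F48584 : act 2 n24678 = n24435 := d5_2 D23762 D24678 F47995 F45413 F43384
theorem F48585 : act 3 n24678 = n23819 := d6_2 (iv F46273) D24678 (iv D23819)
theorem F48586 : act 4 n24678 = n24434 := d7_2 F46925 D24678 F47992
theorem F48587 : act 5 n24678 = n23879 := d8_2 (iv F46272) D24678 (iv D23879)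
def n24679 : Q := act 4 n23764
theorem D24679 : act 4 n23764 = n24679 := rfl
theorem F48588 : act 0 n24679 = n23818 := d3_1 D24679 F46401 (iv F46277)
theorem F48589 : act 1 n24679 = n24307 := d7_1 D24679 F47681 F47267
theorem F48590 : act 2 n24679 = n23813 := d10_1 D24679 F46388 (iv F46279)
def n24680 : Q := act 3 n23765
theorem D24680 : act 3 n23765 = n24680 := rfl
theorem F48591 : act 1 n24680 = n23768 := d6_1 D24680 (iv D23768) (iv F46280)
theorem F48592 : act 4 n24680 = n23766 := d12_2 D23765 D24680 (iv D23766) (iv D22367) D22366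
theorem F48593 : act 5 n24680 = n23821 := d13_2 (iv F46281) D24680 (iv D23821)
def n24681 : Q := act 4 n23769
theorem D24681 : act 4 n23769 = n24681 := rfl
theorem F48594 : act 0 n24681 = n23774 := d3_1 D24681 (iv D23774) (iv F46288)
theorem F48595 : act 2 n24681 = n23883 := d10_1 D24681 (iv D23883) (iv F46289)
theorem F48596 : act 3 n24681 = n23810 := d12_1 D24681 (iv D23810) F42952 (iv F42811) D23769
def n24682 : Q := act 1 n23770
theorem D24682 : act 1 n23770 = n24682 := rfl
theorem F48597 : act 2 n24682 = n24302 := d5_2 D23770 D24682 F47664 F46591 F43242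
theorem F48598 : act 4 n24682 = n23771 := d7_2 (iv F46291) D24682 (iv D23771)
theorem F48599 : act 5 n24682 = n24301 := d8_2 F46585 D24682 F47663
def n24683 : Q := act 4 n23773
theorem D24683 : act 4 n23773 = n24683 := rfl
theorem F48600 : act 0 n24683 = n23883 := d3_1 D24683 (iv D23883) (iv F46293)
theorem F48601 : act 1 n24683 = n24279 := d7_1 D24683 F47609 F47274
theorem F48602 : act 2 n24683 = n23774 := d10_1 D24683 (iv D23774) D23773
theorem F48603 : act 5 n24671 = n24683 := d11_0 F48602 (iv F47359) (iv F48567)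
def n24684 : Q := act 4 n23775
theorem D24684 : act 4 n23775 = n24684 := rfl
theorem F48604 : act 0 n24684 = n23776 := d3_1 D24684 (iv D23776) (iv F46298)
theorem F48605 : act 1 n24684 = n23996 := d7_1 D24684 (iv D23996) (iv F46299)
theorem F48606 : act 2 n24684 = n24162 := d10_1 D24684 (iv D24162) (iv F46300)
theorem F48607 : act 5 n24684 = n24183 := d14_2 D23775 D24684 (iv D24183) F44252 (iv F42825)
def n24685 : Q := act 3 n23776
theorem D24685 : act 3 n23776 = n24685 := rfl
theorem F48608 : act 1 n24685 = n23777 := d6_1 D24685 (iv D23777) (iv F46302)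
theorem F48609 : act 4 n24685 = n23989 := d12_2 D23776 D24685 (iv D23989) F43517 (iv F42830)
theorem F48610 : act 2 n24426 = n24685 := d10_3 F48609 F46836 D24426
def n24686 : Q := act 2 n23777
theorem D24686 : act 2 n23777 = n24686 := rfl
theorem F48611 : act 0 n24686 = n23995 := d1_1 D24686 F46845 (iv F46304)
theorem F48612 : act 4 n24686 = n23990 := d10_2 (iv F46305) D24686 (iv D23990)
def n24687 : Q := act 1 n23778
theorem D24687 : act 1 n23778 = n24687 := rfl
theorem F48613 : act 2 n24687 = n23826 := d5_2 D23778 D24687 F46415 (iv F45558) F45555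
theorem F48614 : act 4 n24687 = n23827 := d7_2 (iv F46306) D24687 F46418
theorem F48615 : act 5 n24687 = n24634 := d8_2 (iv F46307) D24687 F48473
theorem F48616 : act 0 n23871 = n24687 := d3_3 F48614 F46417 (iv F46525)
def n24688 : Q := act 0 n23779
theorem D24688 : act 0 n23779 = n24688 := rfl
theorem F48617 : act 1 n24688 = n24559 := d0_2 D23779 D24688 F48277 F45778 (iv F42836)
theorem F48618 : act 3 n24688 = n24457 := d2_2 (iv F46308) D24688 F48039
theorem F48619 : act 5 n24688 = n24567 := d4_2 (iv F46309) D24688 (iv D24567)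
def n24689 : Q := act 2 n23784
theorem D24689 : act 2 n23784 = n24689 := rfl
theorem F48620 : act 0 n24689 = n23786 := d1_1 D24689 (iv D23786) (iv F46320)
theorem F48621 : act 4 n24689 = n24493 := d10_2 (iv F46322) D24689 F48110
def n24690 : Q := act 5 n23784
theorem D24690 : act 5 n23784 = n24690 := rfl
theorem F48622 : act 0 n24690 = n23787 := d4_1 D24690 (iv D23787) (iv F46320)
theorem F48623 : act 1 n24690 = n24495 := d8_1 D24690 F48117 (iv F46321)
theorem F48624 : act 3 n24690 = n23785 := d13_1 D24690 (iv D23785) D23784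
theorem F48625 : act 4 n24690 = n24490 := d14_1 D24690 (iv D24490) F45484 D23443 (iv F46322)
def n24691 : Q := act 1 n23786
theorem D24691 : act 1 n23786 = n24691 := rfl
theorem F48626 : act 2 n24691 = n23788 := d5_2 D23786 D24691 (iv D23788) (iv D22399) (iv F42862)
theorem F48627 : act 0 n24664 = n24691 := d1_3 F48626 (iv F46328) D24664
theorem F48628 : act 3 n23865 = n24691 := d15_3 (iv F38634) D22522 D23865 F48626 F46327 F46203 (iv F43109) F43111 (iv D20644)
def n24692 : Q := act 3 n23786
theorem D24692 : act 3 n23786 = n24692 := rfl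
theorem F48629 : act 1 n24692 = n23865 := d6_1 D24692 F48628 (iv D24691)
theorem F48630 : act 2 n24692 = n23866 := d15_2 D23786 D24692 (iv F47678) F47677 (iv F47567) F47566 (iv F48624) (iv D24690) F46320
def n24693 : Q := act 5 n23786
theorem D24693 : act 5 n23786 = n24693 := rfl
theorem F48631 : act 2 n24693 = n23787 := d11_1 D24693 (iv D23787) D23786
def n24694 : Q := act 5 n23790
theorem D24694 : act 5 n23790 = n24694 := rfl
theorem F48632 : act 1 n24694 = n23869 := d8_1 D24694 (iv F47045) F47042
theorem F48633 : act 2 n24694 = n23873 := d11_1 D24694 (iv F48213) F48212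
theorem F48634 : act 3 n24694 = n23791 := d13_1 D24694 (iv D23791) D23790
theorem F48635 : act 4 n24694 = n23870 := d14_1 D24694 (iv F48210) F48209 (iv F45649) (iv F46330)
def n24695 : Q := act 2 n23793
theorem D24695 : act 2 n23793 = n24695 := rfl
theorem F48636 : act 0 n24695 = n23794 := d1_1 D24695 (iv D23794) (iv F46333)
theorem F48637 : act 1 n24695 = n24565 := d5_1 D24695 F48293 F47462 F46269 (iv F46334)
theorem F48638 : act 4 n24695 = n23960 := d10_2 (iv F46335) D24695 F46772
theorem F48639 : act 5 n24695 = n23906 := d11_2 (iv F46336) D24695 F46635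
def n24696 : Q := act 3 n23794
theorem D24696 : act 3 n23794 = n24696 := rfl
theorem F48640 : act 1 n24696 = n23900 := d6_1 D24696 F46609 (iv F46337)
theorem F48641 : act 4 n24696 = n23910 := d12_2 (iv F46338) D24696 (iv D23910) F43311 D22639
theorem F48642 : act 5 n24696 = n23907 := d13_2 (iv F46339) D24696 (iv D23907)
def n24697 : Q := act 2 n23796
theorem D24697 : act 2 n23796 = n24697 := rfl
theorem F48643 : act 0 n24697 = n23833 := d1_1 D24697 (iv D23833) (iv F46344)
theorem F48644 : act 4 n24697 = n23831 := d10_2 (iv F46346) D24697 (iv D23831)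
theorem F48645 : act 5 n24697 = n24454 := d11_2 (iv F46347) D24697 (iv D24454)
def n24698 : Q := act 1 n23797
theorem D24698 : act 1 n23797 = n24698 := rfl
theorem F48646 : act 2 n24698 = n23798 := d5_2 D23797 D24698 F46350 (iv D22441) (iv F42909)
theorem F48647 : act 0 n23802 = n24698 := d1_3 F48646 F46349 (iv F46357)
theorem F48648 : act 4 n23797 = n24698 := d10_0 F48646 (iv D23798) D23797
theorem F48649 : act 3 n24136 = n24698 := d15_1 D24136 F48646 F46351 F42930 (iv F43088) F43087 (iv F44007) (iv D22887) (iv F44004)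
def n24699 : Q := act 3 n23797
theorem D24699 : act 3 n23797 = n24699 := rfl
theorem F48650 : act 0 n24699 = n23801 := d2_1 D24699 (iv D23801) (iv F46348)
theorem F48651 : act 1 n24699 = n24136 := d6_1 D24699 F48649 (iv D24698)
theorem F48652 : act 2 n24699 = n23907 := d15_2 D23797 D24699 (iv D23907) F43291 (iv F42894) F42893 (iv F42915) (iv D22425) (iv F42908)
def n24700 : Q := act 5 n23797
theorem D24700 : act 5 n23797 = n24700 := rfl
theorem F48653 : act 0 n24700 = n23803 := d4_1 D24700 (iv D23803) (iv F46348)
theorem F48654 : act 2 n24700 = n23799 := d11_1 D24700 (iv D23799) D23797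
def n24701 : Q := act 5 n23798
theorem D24701 : act 5 n23798 = n24701 := rfl
theorem F48655 : act 0 n24701 = n23804 := d4_1 D24701 (iv D23804) (iv F46349)
theorem F48656 : act 1 n24701 = n23809 := d8_1 D24701 (iv D23809) (iv F46350)
theorem F48657 : act 3 n24701 = n23806 := d13_1 D24701 (iv D23806) (iv F46351)
def n24702 : Q := act 0 n23800
theorem D24702 : act 0 n23800 = n24702 := rfl
theorem F48658 : act 1 n24702 = n23802 := d0_2 D23800 D24702 F48647 (iv D24698) F46348
theorem F48659 : act 2 n24702 = n23805 := d1_2 (iv F46355) D24702 (iv D23805)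
theorem F48660 : act 5 n24702 = n23807 := d4_2 F46356 D24702 F46371
theorem F48661 : act 3 n24137 = n24702 := d13_3 F48660 F46372 F47233
theorem F48662 : act 4 n23800 = n24702 := d14_5 F48660 (iv F47415) F47416 F44388 F46356
def n24703 : Q := act 3 n23800
theorem D24703 : act 3 n23800 = n24703 := rfl
theorem F48663 : act 0 n24703 = n24137 := d2_1 D24703 F48661 (iv D24702)
theorem F48664 : act 1 n24703 = n23801 := d6_1 D24703 (iv D23801) D23800
theorem F48665 : act 2 n24703 = n24139 := d9_1 D24703 F47237 (iv F44549) F44550 F42935 D22438 D23807 F46372 (iv D22894) (iv D21131) (iv F38549) (iv F42941) F42940 (iv F42919) (iv F46355)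
theorem F48666 : act 5 n24703 = n23808 := d13_2 F46356 D24703 (iv D23808)
def n24704 : Q := act 2 n23801
theorem D24704 : act 2 n23801 = n24704 := rfl
theorem F48667 : act 0 n24704 = n23907 := d1_1 D24704 (iv F48652) F48650
theorem F48668 : act 1 n24704 = n24144 := d5_1 D24704 F47243 (iv F47236) (iv F48665) F48664
theorem F48669 : act 3 n24704 = n23906 := d15_3 D22423 D23801 D24704 F46635 F44050 F43583 (iv F46354) (iv D23799) F42908
def n24705 : Q := act 4 n23801
theorem D24705 : act 4 n23801 = n24705 := rfl
theorem F48670 : act 3 n24705 = n24120 := d12_1 D24705 F47190 F46358 (iv D23802) D23801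
def n24706 : Q := act 5 n23801
theorem D24706 : act 5 n23801 = n24706 := rfl
theorem F48671 : act 1 n24706 = n23808 := d8_1 D24706 (iv F48666) F48664
theorem F48672 : act 3 n24706 = n23803 := d13_1 D24706 (iv D23803) D23801
theorem F48673 : act 4 n24044 = n24706 := d12_0 F48672 (iv F47426) (iv F47427) (iv D24045) D24044
def n24707 : Q := act 5 n23802
theorem D24707 : act 5 n23802 = n24707 := rfl
theorem F48674 : act 1 n24707 = n23807 := d8_1 D24707 (iv F48660) F48658
theorem F48675 : act 2 n24707 = n23804 := d11_1 D24707 (iv D23804) (iv F46357)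
theorem F48676 : act 3 n24707 = n24138 := d13_1 D24707 (iv D24138) F46358
def n24708 : Q := act 4 n23808
theorem D24708 : act 4 n23808 = n24708 := rfl
theorem F48677 : act 0 n24708 = n24141 := d3_1 D24708 (iv D24141) (iv F46373)
theorem F48678 : act 1 n24708 = n24044 := d7_1 D24708 F48673 F48671
theorem F48679 : act 2 n24708 = n24140 := d10_1 D24708 (iv D24140) (iv F46374)
theorem F48680 : act 3 n24708 = n24043 := d12_1 D24708 F47430 (iv D24212) F44388 D23808
def n24709 : Q := act 4 n23809
theorem D24709 : act 4 n23809 = n24709 := rfl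
theorem F48681 : act 0 n24709 = n23811 := d3_1 D24709 (iv D23811) (iv F46375)
theorem F48682 : act 2 n24709 = n23810 := d10_1 D24709 (iv D23810) (iv F46376)
theorem F48683 : act 5 n24709 = n23810 := d14_2 D23809 D24709 (iv D23810) (iv D22442) F42950
def n24710 : Q := act 3 n23812
theorem D24710 : act 3 n23812 = n24710 := rfl
theorem F48684 : act 0 n24710 = n23817 := d2_1 D24710 (iv D23817) (iv F46382)
theorem F48685 : act 1 n24710 = n23824 := d6_1 D24710 F46411 (iv F46383)
theorem F48686 : act 5 n24710 = n23813 := d13_2 (iv F46385) D24710 (iv D23813)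
def n24711 : Q := act 2 n23817
theorem D24711 : act 2 n23817 = n24711 := rfl
theorem F48687 : act 1 n24711 = n24670 := d5_1 D24711 (iv D24670) F46242 F44284 (iv F46399)
theorem F48688 : act 4 n24711 = n24671 := d10_2 F47358 D24711 F48567
theorem F48689 : act 5 n24711 = n23818 := d11_2 (iv F46400) D24711 (iv D23818)
def n24712 : Q := act 1 n23818
theorem D24712 : act 1 n23818 = n24712 := rfl
theorem F48690 : act 0 n24712 = n24310 := d0_1 D24712 (iv D24310) (iv F47680) (iv F48589) F48588
theorem F48691 : act 2 n24712 = n23820 := d5_2 D23818 D24712 (iv D23820) (iv D22458) (iv F42974)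
theorem F48692 : act 4 n24712 = n23819 := d7_2 (iv F46401) D24712 (iv D23819)
theorem F48693 : act 5 n24712 = n24670 := d8_2 F48689 D24712 (iv F48687)
def n24713 : Q := act 3 n23818
theorem D24713 : act 3 n23818 = n24713 := rfl
def n24714 : Q := act 5 n23822
theorem D24714 : act 5 n23822 = n24714 := rfl
theorem F48694 : act 2 n24714 = n23823 := d11_1 D24714 (iv D23823) D23822
def n24715 : Q := act 4 n23824
theorem D24715 : act 4 n23824 = n24715 := rfl
theorem F48695 : act 0 n24715 = n23825 := d3_1 D24715 (iv D23825) (iv F46409)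
theorem F48696 : act 2 n24715 = n24097 := d10_1 D24715 F47106 (iv F46410)
def n24716 : Q := act 1 n23828
theorem D24716 : act 1 n23828 = n24716 := rfl
theorem F48697 : act 4 n24716 = n23982 := d7_2 (iv F46422) D24716 (iv D23982)
def n24717 : Q := act 5 n23828
theorem D24717 : act 5 n23828 = n24717 := rfl
theorem F48698 : act 0 n24717 = n23835 := d4_1 D24717 F46438 (iv F46421)
theorem F48699 : act 2 n24717 = n23829 := d11_1 D24717 (iv D23829) D23828
theorem F48700 : act 3 n24717 = n23831 := d13_1 D24717 (iv F48264) F48263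
def n24718 : Q := act 2 n23830
theorem D24718 : act 2 n23830 = n24718 := rfl
theorem F48701 : act 0 n24718 = n24026 := d1_1 D24718 F46919 (iv F46425)
theorem F48702 : act 4 n24718 = n24024 := d10_2 (iv F46427) D24718 F46916
def n24719 : Q := act 1 n23831
theorem D24719 : act 1 n23831 = n24719 := rfl
def n24720 : Q := act 3 n23834
theorem D24720 : act 3 n23834 = n24720 := rfl
theorem F48703 : act 1 n24720 = n23835 := d6_1 D24720 (iv D23835) D23834
theorem F48704 : act 4 n24720 = n24233 := d12_2 (iv F46436) D24720 F47489 (iv D23988) (iv F45606)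
theorem F48705 : act 5 n24720 = n23984 := d13_2 (iv F46437) D24720 F46826
theorem F48706 : act 2 n24720 = n24110 := d15_2 (iv F46435) D24720 (iv D24110) (iv F47068) F47069 F43811 (iv F45732) F45733 (iv F45607)
def n24721 : Q := act 4 n23835
theorem D24721 : act 4 n23835 = n24721 := rfl
theorem F48707 : act 1 n24721 = n24233 := d7_1 D24721 (iv F48704) F48703
theorem F48708 : act 2 n24721 = n23985 := d10_1 D24721 (iv D23985) (iv F46439)
theorem F48709 : act 5 n24721 = n23988 := d14_2 (iv F46438) D24721 (iv D23988) (iv D22676) (iv F43493)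
def n24722 : Q := act 2 n23838
theorem D24722 : act 2 n23838 = n24722 := rfl
theorem F48710 : act 4 n24722 = n23865 := d10_2 (iv F46447) D24722 (iv D23865)
def n24723 : Q := act 2 n23842
theorem D24723 : act 2 n23842 = n24723 := rfl
theorem F48711 : act 0 n24723 = n23843 := d1_1 D24723 (iv D23843) (iv F46458)
theorem F48712 : act 3 n24723 = n23848 := d9_2 D23842 D24723 F46470 F43052 F38532 F32406 (iv F37011) D22082 D23583 (iv F46463) (iv D23844) (iv D22496) F38525 (iv F38518) (iv F43041)
theorem F48713 : act 5 n24723 = n23847 := d11_2 (iv F46459) D24723 F46469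
def n24724 : Q := act 3 n23843
theorem D24724 : act 3 n23843 = n24724 := rfl
theorem F48714 : act 0 n24724 = n23848 := d2_1 D24724 (iv F48712) F48711
theorem F48715 : act 2 n24724 = n23845 := d9_1 D24724 F46466 F43049 F38528 (iv F42132) D23582 (iv F46469) (iv D23847) (iv D22498) (iv D20598) F32404 (iv F32395) (iv F38521) D22495 D23843
theorem F48716 : act 5 n24724 = n23844 := d13_2 (iv F46460) D24724 F46463
def n24725 : Q := act 4 n23845
theorem D24725 : act 4 n23845 = n24725 := rfl
theorem F48717 : act 0 n24725 = n23849 := d3_1 D24725 (iv D23849) (iv F46464)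
theorem F48718 : act 1 n24725 = n23926 := d7_1 D24725 (iv D23926) (iv F46465)
theorem F48719 : act 3 n24725 = n23963 := d12_1 D24725 (iv D23963) F43431 (iv F43050) (iv F46466)
theorem F48720 : act 5 n24725 = n23849 := d14_2 D23845 D24725 (iv D23849) (iv D22499) (iv F43046)
def n24726 : Q := act 5 n23846
theorem D24726 : act 5 n23846 = n24726 := rfl
theorem F48721 : act 1 n24726 = n23848 := d8_1 D24726 (iv D23848) D23846
theorem F48722 : act 2 n24726 = n23931 := d11_1 D24726 F46708 (iv F46467)
def n24727 : Q := act 4 n23848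
theorem D24727 : act 4 n23848 = n24727 := rfl
theorem F48723 : act 2 n24727 = n23849 := d10_1 D24727 (iv D23849) (iv F46470)
def n24728 : Q := act 1 n23853
theorem D24728 : act 1 n23853 = n24728 := rfl
theorem F48724 : act 2 n24728 = n23962 := d5_2 D23853 D24728 (iv D23962) (iv D22641) (iv F43064)
theorem F48725 : act 4 n24728 = n23855 := d7_2 (iv F46489) D24728 (iv D23855)
theorem F48726 : act 5 n24557 = n24728 := d11_0 F48724 F46781 D24557
def n24729 : Q := act 3 n23853
theorem D24729 : act 3 n23853 = n24729 := rfl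
theorem F48727 : act 0 n24729 = n23941 := d2_1 D24729 (iv D23941) (iv F46488)
theorem F48728 : act 4 n24729 = n24028 := d12_2 (iv F46489) D24729 (iv D24028) (iv D22736) (iv F43071)
theorem F48729 : act 2 n24729 = n23942 := d15_2 D23853 D24729 (iv D23942) (iv D22616) (iv D20769) (iv F38979) D22614 F43369 (iv F43063)
theorem F48730 : act 5 n23945 = n24729 := d11_0 F48729 F46732 D23945
def n24730 : Q := act 5 n23853
theorem D24730 : act 5 n23853 = n24730 := rfl
theorem F48731 : act 0 n24730 = n23939 := d4_1 D24730 F46728 (iv F46488)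
theorem F48732 : act 1 n24730 = n24557 := d8_1 D24730 F48726 (iv D24728)
theorem F48733 : act 2 n24730 = n23854 := d11_1 D24730 (iv D23854) D23853
theorem F48734 : act 3 n24730 = n23945 := d13_1 D24730 F48730 (iv D24729)
theorem F48735 : act 4 n24730 = n24027 := d14_1 D24730 (iv D24027) (iv D22735) F43072 (iv F46489)
def n24731 : Q := act 4 n23854
theorem D24731 : act 4 n23854 = n24731 := rfl
theorem F48736 : act 0 n24731 = n23938 := d3_1 D24731 F46726 (iv F46490)
theorem F48737 : act 1 n24731 = n23963 := d7_1 D24731 (iv D23963) (iv F46491)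
theorem F48738 : act 2 n24731 = n24027 := d10_1 D24731 (iv F48735) F48733
theorem F48739 : act 3 n24731 = n23926 := d12_1 D24731 (iv D23926) F43351 (iv F43069) (iv F46492)
theorem F48740 : act 5 n24731 = n23856 := d14_2 D23854 D24731 (iv D23856) (iv D22506) (iv F43065)
def n24732 : Q := act 0 n23858
theorem D24732 : act 0 n23858 = n24732 := rfl
theorem F48741 : act 1 n24732 = n24454 := d0_2 D23858 D24732 F48034 (iv D23496) (iv F43095)
theorem F48742 : act 2 n24732 = n24016 := d1_2 (iv F46504) D24732 (iv D24016)
theorem F48743 : act 4 n24732 = n24455 := d3_2 (iv F46505) D24732 F48037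
def n24733 : Q := act 2 n23859
theorem D24733 : act 2 n23859 = n24733 := rfl
theorem F48744 : act 0 n24733 = n23972 := d1_1 D24733 (iv F47957) F47956
theorem F48745 : act 3 n24733 = n23971 := d9_2 D23859 D24733 (iv D23971) (iv D22656) F39087 D21031 D22811 D24087 (iv F47982) (iv D24430) (iv D23352) (iv D21768) F36184 D20635 D22515
theorem F48746 : act 5 n24733 = n24090 := d11_2 (iv F46506) D24733 (iv D24090)
def n24734 : Q := act 4 n23859
theorem D24734 : act 4 n23859 = n24734 := rfl
theorem F48747 : act 5 n24734 = n24734 := d14_2 (iv F46506) D24734 (iv D24734) F46506 F43816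
def n24735 : Q := act 4 n23860
theorem D24735 : act 4 n23860 = n24735 := rfl
theorem F48748 : act 0 n24735 = n24005 := d3_1 D24735 F46873 (iv F46507)
theorem F48749 : act 1 n24735 = n24651 := d7_1 D24735 (iv D24651) (iv F46508)
theorem F48750 : act 3 n24735 = n23863 := d12_1 D24735 (iv D23863) (iv D22518) (iv F43102) D23860
theorem F48751 : act 5 n24735 = n24002 := d14_2 (iv F46509) D24735 (iv D24002) F43558 (iv F43114)
def n24736 : Q := act 3 n23861
theorem D24736 : act 3 n23861 = n24736 := rfl
theorem F48752 : act 0 n24736 = n23862 := d2_1 D24736 (iv D23862) D23861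
theorem F48753 : act 1 n24736 = n23872 := d6_1 D24736 F46526 (iv F46510)
theorem F48754 : act 4 n24736 = n24662 := d12_2 (iv F46512) D24736 F48543 F46200 (iv F46157)
theorem F48755 : act 5 n24736 = n23864 := d13_2 (iv F46513) D24736 (iv D23864)
def n24737 : Q := act 2 n23862
theorem D24737 : act 2 n23862 = n24737 := rfl
theorem F48756 : act 5 n24737 = n23865 := d11_2 (iv F46515) D24737 (iv D23865)
def n24738 : Q := act 4 n23862
theorem D24738 : act 4 n23862 = n24738 := rfl
theorem F48757 : act 0 n24738 = n24662 := d3_1 D24738 (iv F48754) F48752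
theorem F48758 : act 1 n24738 = n23863 := d7_1 D24738 (iv D23863) (iv F46514)
theorem F48759 : act 3 n24738 = n24651 := d12_1 D24738 (iv D24651) F46160 (iv F43105) D23862
theorem F48760 : act 5 n24738 = n24656 := d14_2 (iv F46515) D24738 F48539 F48053 F46447
theorem F48761 : act 2 n24658 = n24738 := d15_2 D23728 D24658 F48759 F48518 F46194 (iv F46130) (iv F48501) (iv D24643) F46127
theorem F48762 : act 4 n24737 = n24658 := d10_0 F48761 (iv D24738) D24737
def n24739 : Q := act 2 n23864
theorem D24739 : act 2 n23864 = n24739 := rfl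
theorem F48763 : act 0 n24739 = n23865 := d1_1 D24739 (iv D23865) (iv F46516)
theorem F48764 : act 3 n24739 = n24664 := d15_1 D24739 (iv D24664) (iv D23734) F42672 (iv F38627) (iv F43104) D23862 F46515 (iv F46516)
def n24740 : Q := act 2 n23867
theorem D24740 : act 2 n23867 = n24740 := rfl
theorem F48765 : act 4 n24740 = n24645 := d10_2 (iv F47767) D24740 F48503
theorem F48766 : act 5 n24740 = n24664 := d11_2 (iv F46518) D24740 (iv D24664)
def n24741 : Q := act 0 n23870
theorem D24741 : act 0 n23870 = n24741 := rfl
theorem F48767 : act 2 n24741 = n23875 := d1_2 (iv F46524) D24741 (iv D23875)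
def n24742 : Q := act 1 n23871
theorem D24742 : act 1 n23871 = n24742 := rfl
theorem F48768 : act 4 n24742 = n24000 := d7_2 (iv F46525) D24742 F46860
def n24743 : Q := act 5 n23871
theorem D24743 : act 5 n23871 = n24743 := rfl
theorem F48769 : act 0 n24743 = n24634 := d4_1 D24743 (iv F48615) (iv F48616)
theorem F48770 : act 2 n24743 = n23872 := d11_1 D24743 (iv D23872) D23871
theorem F48771 : act 4 n24743 = n24633 := d14_1 D24743 (iv D24633) (iv F46853) F46854 (iv F46525)
def n24744 : Q := act 3 n23873
theorem D24744 : act 3 n23873 = n24744 := rfl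
theorem F48772 : act 1 n24744 = n23874 := d6_1 D24744 (iv D23874) D23873
def n24745 : Q := act 2 n23874
theorem D24745 : act 2 n23874 = n24745 := rfl
theorem F48773 : act 3 n24745 = n24634 := d9_2 D23874 D24745 F48474 (iv D24546) F45698 (iv F45685) F45684 D23531 D24542 F48236 (iv D23871) (iv D22529) F38670 D20659 D22531
theorem F48774 : act 4 n24745 = n24245 := d10_2 (iv F47794) D24745 (iv F47792)
theorem F48775 : act 1 n24635 = n24745 := d7_3 F48774 F47522 (iv F48476)
def n24746 : Q := act 2 n23876
theorem D24746 : act 2 n23876 = n24746 := rfl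
theorem F48776 : act 0 n24746 = n24138 := d1_1 D24746 F47235 (iv F46528)
theorem F48777 : act 4 n24746 = n24061 := d10_2 (iv F46530) D24746 F46992
theorem F48778 : act 5 n24746 = n24136 := d11_2 (iv F46531) D24746 (iv D24136)
def n24747 : Q := act 2 n23877
theorem D24747 : act 2 n23877 = n24747 := rfl
theorem F48779 : act 0 n24747 = n24459 := d1_1 D24747 (iv D24459) (iv F46532)
theorem F48780 : act 1 n24747 = n24673 := d5_1 D24747 (iv D24673) F46247 (iv F43144) (iv F46533)
theorem F48781 : act 4 n24747 = n23974 := d10_2 (iv F46534) D24747 (iv D23974)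
theorem F48782 : act 5 n24747 = n24502 := d11_2 (iv F46535) D24747 (iv D24502)
def n24748 : Q := act 4 n23881
theorem D24748 : act 4 n23881 = n24748 := rfl
theorem F48783 : act 1 n24748 = n24638 := d7_1 D24748 (iv D24638) (iv F46546)
theorem F48784 : act 3 n24748 = n23883 := d12_1 D24748 (iv D23883) (iv D22548) (iv F43174) D23881
def n24749 : Q := act 4 n23882
theorem D24749 : act 4 n23882 = n24749 := rfl
theorem F48785 : act 0 n24749 = n24265 := d3_1 D24749 F47576 (iv F46547)
theorem F48786 : act 1 n24749 = n23883 := d7_1 D24749 (iv D23883) (iv F46548)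
theorem F48787 : act 2 n24749 = n24260 := d10_1 D24749 F47563 F46891
theorem F48788 : act 3 n24749 = n24638 := d12_1 D24749 (iv D24638) (iv D23698) (iv F43176) D23882
theorem F48789 : act 5 n24749 = n24259 := d15_8 (iv D23136) (iv D21474) (iv F40084) (iv F41706) (iv F45138) (iv F47851) (iv F48485) (iv F48788) F47559
def n24750 : Q := act 5 n23883
theorem D24750 : act 5 n23883 = n24750 := rfl
theorem F48790 : act 0 n24750 = n24671 := d4_1 D24750 F48603 F48600
theorem F48791 : act 1 n24750 = n24259 := d8_1 D24750 (iv F48789) F48786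
def n24751 : Q := act 1 n23886
theorem D24751 : act 1 n23886 = n24751 := rfl
theorem F48792 : act 0 n24751 = n24066 := d0_1 D24751 F47001 F43692 (iv F43214) (iv F46559)
theorem F48793 : act 2 n24751 = n24519 := d5_2 D23886 D24751 (iv D24519) (iv D23484) (iv F43211)
theorem F48794 : act 4 n24751 = n24048 := d7_2 (iv F46560) D24751 (iv D24048)
theorem F48795 : act 5 n24751 = n24515 := d8_2 (iv F46561) D24751 (iv D24515)
def n24752 : Q := act 3 n23886
theorem D24752 : act 3 n23886 = n24752 := rfl
theorem F48796 : act 0 n24752 = n23887 := d2_1 D24752 (iv D23887) (iv F46559)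
theorem F48797 : act 2 n24752 = n24095 := d9_1 D24752 (iv D24095) (iv D22822) (iv D21043) F33901 D19762 D21920 D23473 (iv F47117) (iv D24099) (iv D22826) (iv D21048) (iv F38775) D22556 D23886
theorem F48798 : act 5 n24752 = n24101 := d13_2 (iv F46561) D24752 F47123
def n24753 : Q := act 5 n23888
theorem D24753 : act 5 n23888 = n24753 := rfl
theorem F48799 : act 0 n24753 = n24680 := d4_1 D24753 F48593 (iv F46565)
theorem F48800 : act 1 n24753 = n23890 := d8_1 D24753 (iv D23890) (iv F46566)
theorem F48801 : act 2 n24753 = n24535 := d11_1 D24753 F48215 F46568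
theorem F48802 : act 3 n24753 = n23889 := d13_1 D24753 (iv D23889) D23888
theorem F48803 : act 4 n24674 = n24753 := d12_0 F48802 F46572 F45636 D23753 D24674
def n24754 : Q := act 2 n23891
theorem D24754 : act 2 n23891 = n24754 := rfl
theorem F48804 : act 0 n24754 = n23893 := d1_1 D24754 (iv D23893) (iv F46577)
theorem F48805 : act 1 n24754 = n23916 := d5_1 D24754 (iv D23916) (iv F46653) F46655 (iv F46578)
theorem F48806 : act 4 n24754 = n24528 := d10_2 (iv F46579) D24754 F48196
theorem F48807 : act 5 n24754 = n23935 := d11_2 (iv F46580) D24754 F46718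
theorem F48808 : act 3 n24754 = n23936 := d15_1 D24754 F46722 (iv D22620) F38987 (iv F38840) F38839 D22372 (iv F43234) (iv F46577)
def n24755 : Q := act 2 n23892
theorem D24755 : act 2 n23892 = n24755 := rfl
theorem F48809 : act 0 n24755 = n24528 := d1_1 D24755 F48196 (iv F46581)
theorem F48810 : act 4 n24755 = n23893 := d10_2 (iv F46583) D24755 (iv D23893)
theorem F48811 : act 5 n24755 = n24522 := d11_2 (iv F46584) D24755 F48180
def n24756 : Q := act 3 n23893
theorem D24756 : act 3 n23893 = n24756 := rfl
theorem F48812 : act 0 n24756 = n23936 := d2_1 D24756 (iv F48808) F48804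
theorem F48813 : act 2 n24756 = n23947 := d9_1 D24756 (iv D23947) F43377 (iv F43252) F43251 D23768 (iv F46718) (iv D23935) F46599 (iv D23897) (iv D22570) (iv D20717) (iv F38821) D22563 D23893
theorem F48814 : act 5 n24756 = n23934 := d13_2 (iv F46585) D24756 F46720
def n24757 : Q := act 1 n23896
theorem D24757 : act 1 n23896 = n24757 := rfl
theorem F48815 : act 0 n24757 = n23918 := d0_1 D24757 (iv D23918) F43333 (iv F43254) (iv F46594)
theorem F48816 : act 2 n24757 = n24048 := d5_2 D23896 D24757 (iv D24048) (iv D22756) (iv F43246)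
theorem F48817 : act 4 n24757 = n24519 := d7_2 (iv F46595) D24757 (iv D24519)
theorem F48818 : act 5 n24757 = n23930 := d8_2 (iv F46596) D24757 F46705
theorem F48819 : act 3 n23955 = n24757 := d15_7 F43358 D22773 F44830 (iv D23174) (iv F44827) D24288 (iv F47639) F48818 (iv D23930)
def n24758 : Q := act 3 n23896
theorem D24758 : act 3 n23896 = n24758 := rfl
theorem F48820 : act 0 n24758 = n23897 := d2_1 D24758 (iv D23897) (iv F46594)
theorem F48821 : act 1 n24758 = n23955 := d6_1 D24758 F48819 (iv D24757)
theorem F48822 : act 2 n24758 = n23934 := d9_1 D24758 F46720 (iv D23770) (iv D22372) (iv F38839) F38840 (iv F38987) D22620 (iv F46722) (iv F48808) (iv D24754) (iv D23891) F43227 D22568 D23896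
theorem F48823 : act 4 n24758 = n23934 := d12_2 (iv F46595) D24758 F46720 F46291 (iv F45575)
theorem F48824 : act 5 n24758 = n23947 := d13_2 (iv F46596) D24758 (iv D23947)
def n24759 : Q := act 4 n23898
theorem D24759 : act 4 n23898 = n24759 := rfl
theorem F48825 : act 0 n24759 = n24542 := d3_1 D24759 F48235 (iv F46601)
theorem F48826 : act 1 n24759 = n23899 := d7_1 D24759 (iv D23899) (iv F46602)
theorem F48827 : act 2 n24759 = n24536 := d10_1 D24759 F48217 (iv F46603)
theorem F48828 : act 3 n24759 = n24687 := d12_1 D24759 F48614 F46420 F43534 D23898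
theorem F48829 : act 5 n24759 = n24745 := d14_2 (iv F46604) D24759 F48774 (iv D24245) (iv F45662)
def n24760 : Q := act 2 n23904
theorem D24760 : act 2 n23904 = n24760 := rfl
theorem F48830 : act 0 n24760 = n24531 := d1_1 D24760 F48203 (iv F46626)
theorem F48831 : act 1 n24760 = n24038 := d5_1 D24760 (iv D24038) F43636 (iv F43285) (iv F46627)
theorem F48832 : act 4 n24760 = n24531 := d10_2 (iv F46628) D24760 F48203
theorem F48833 : act 5 n24760 = n24043 := d11_2 (iv F46629) D24760 F46951
def n24761 : Q := act 0 n23908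
theorem D24761 : act 0 n23908 = n24761 := rfl
theorem F48834 : act 1 n24761 = n24037 := d0_2 D23908 D24761 F46936 F43636 (iv F43306)
theorem F48835 : act 2 n24761 = n24530 := d1_2 (iv F46638) D24761 F48201
theorem F48836 : act 3 n24761 = n24036 := d2_2 (iv F46639) D24761 (iv D24036)
theorem F48837 : act 4 n24761 = n24530 := d3_2 (iv F46640) D24761 F48201
theorem F48838 : act 5 n24761 = n24039 := d4_2 (iv F46641) D24761 F46941
def n24762 : Q := act 3 n23909
theorem D24762 : act 3 n23909 = n24762 := rfl
theorem F48839 : act 0 n24762 = n23910 := d2_1 D24762 (iv D23910) D23909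
theorem F48840 : act 1 n24762 = n24065 := d6_1 D24762 (iv D24065) (iv F46642)
theorem F48841 : act 5 n24762 = n24049 := d13_2 (iv F46645) D24762 (iv D24049)
theorem F48842 : act 2 n24762 = n24044 := d15_2 (iv F46643) D24762 (iv D24044) (iv D22751) (iv D20934) F33495 D18472 (iv F38934) D22591
def n24763 : Q := act 2 n23910
theorem D24763 : act 2 n23910 = n24763 := rfl
theorem F48843 : act 0 n24763 = n24044 := d1_1 D24763 (iv F48842) F48839
theorem F48844 : act 1 n24763 = n24061 := d5_1 D24763 F46992 F43678 (iv F43315) (iv F46646)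
theorem F48845 : act 5 n24763 = n24050 := d11_2 (iv F46647) D24763 (iv D24050)
theorem F48846 : act 3 n24763 = n24041 := d15_1 D24763 (iv D24041) (iv D22750) F39327 D20937 D22756 D24049 (iv F48841) F48839
def n24764 : Q := act 5 n23911
theorem D24764 : act 5 n23911 = n24764 := rfl
theorem F48847 : act 0 n24764 = n24214 := d4_1 D24764 F47435 (iv F46648)
theorem F48848 : act 1 n24764 = n23915 := d8_1 D24764 (iv D23915) (iv F46649)
theorem F48849 : act 2 n24764 = n24085 := d11_1 D24764 F47074 (iv F46650)
theorem F48850 : act 3 n24764 = n24714 := d13_1 D24764 (iv D24714) (iv F46651)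
theorem F48851 : act 4 n24764 = n23950 := d14_1 D24764 (iv D23950) (iv D22625) (iv F43322) D23911
def n24765 : Q := act 5 n23912
theorem D24765 : act 5 n23912 = n24765 := rfl
theorem F48852 : act 0 n24765 = n24535 := d4_1 D24765 F48215 (iv F46652)
theorem F48853 : act 1 n24765 = n23917 := d8_1 D24765 (iv D23917) (iv F46653)
theorem F48854 : act 2 n24765 = n24680 := d11_1 D24765 F48593 (iv F46655)
theorem F48855 : act 3 n24765 = n23913 := d13_1 D24765 (iv D23913) D23912
theorem F48856 : act 4 n24545 = n24765 := d10_0 F48854 F48592 (iv F48242)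
def n24766 : Q := act 2 n23914
theorem D24766 : act 2 n23914 = n24766 := rfl
theorem F48857 : act 0 n24766 = n23919 := d1_1 D24766 (iv D23919) (iv F46660)
theorem F48858 : act 1 n24766 = n24528 := d5_1 D24766 F48196 F46398 D23822 (iv F46661)
theorem F48859 : act 4 n24766 = n23916 := d10_2 (iv F46662) D24766 (iv D23916)
theorem F48860 : act 5 n24525 = n24766 := d14_0 F48859 (iv F46668) F43366 (iv F45595) D24525
def n24767 : Q := act 5 n23914
theorem D24767 : act 5 n23914 = n24767 := rfl
theorem F48861 : act 0 n24767 = n23920 := d4_1 D24767 (iv D23920) (iv F46660)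
theorem F48862 : act 1 n24767 = n24714 := d8_1 D24767 (iv D24714) (iv F46661)
theorem F48863 : act 2 n24767 = n24525 := d11_1 D24767 F48860 (iv D24766)
theorem F48864 : act 3 n24767 = n23915 := d13_1 D24767 (iv D23915) D23914
theorem F48865 : act 4 n24767 = n24524 := d14_1 D24767 F48186 F46672 (iv D23917) (iv F46662)
def n24768 : Q := act 1 n23919
theorem D24768 : act 1 n23919 = n24768 := rfl
theorem F48866 : act 2 n24768 = n24541 := d5_2 D23919 D24768 (iv D24541) (iv D23529) (iv F43337)
theorem F48867 : act 4 n24768 = n23921 := d7_2 (iv F46677) D24768 (iv D23921)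
def n24769 : Q := act 3 n23919
theorem D24769 : act 3 n23919 = n24769 := rfl
def n24770 : Q := act 5 n23919
theorem D24770 : act 5 n23919 = n24770 := rfl
theorem F48868 : act 0 n24770 = n24525 := d4_1 D24770 F48860 F48857
theorem F48869 : act 2 n24770 = n23920 := d11_1 D24770 (iv D23920) D23919
theorem F48870 : act 4 n24770 = n24523 := d14_1 D24770 F48182 F46688 (iv D23923) (iv F46677)
def n24771 : Q := act 3 n23921
theorem D24771 : act 3 n23921 = n24771 := rfl
theorem F48871 : act 1 n24771 = n23922 := d6_1 D24771 (iv D23922) D23921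
theorem F48872 : act 5 n23925 = n24771 := d8_0 F48871 F46684 D23925
def n24772 : Q := act 5 n23921
theorem D24772 : act 5 n23921 = n24772 := rfl
theorem F48873 : act 0 n24772 = n24682 := d4_1 D24772 F48599 F47662
theorem F48874 : act 1 n24772 = n23923 := d8_1 D24772 (iv D23923) D23921
theorem F48875 : act 2 n24772 = n24543 := d11_1 D24772 F48239 (iv F46681)
theorem F48876 : act 3 n24772 = n23925 := d13_1 D24772 F48872 (iv D24771)
theorem F48877 : act 4 n24544 = n24772 := d12_0 F48876 F46694 (iv F46674) F46675 D24544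
def n24773 : Q := act 4 n23922
theorem D24773 : act 4 n23922 = n24773 := rfl
theorem F48878 : act 0 n24773 = n23937 := d3_1 D24773 (iv D23937) (iv F46682)
theorem F48879 : act 2 n24773 = n23926 := d10_1 D24773 (iv D23926) (iv F46683)
theorem F48880 : act 5 n24773 = n23932 := d14_2 (iv F46684) D24773 (iv D23932) F43361 (iv F43349)
def n24774 : Q := act 0 n23925
theorem D24774 : act 0 n23925 = n24774 := rfl
theorem F48881 : act 1 n24774 = n23934 := d0_2 D23925 D24774 (iv D23934) (iv D22610) (iv F43348)
theorem F48882 : act 3 n24774 = n24682 := d2_2 F48876 D24774 (iv F48873)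
theorem F48883 : act 4 n24774 = n23955 := d3_2 (iv F46694) D24774 (iv D23955)
def n24775 : Q := act 3 n23927
theorem D24775 : act 3 n23927 = n24775 := rfl
theorem F48884 : act 0 n24775 = n23942 := d2_1 D24775 (iv D23942) (iv F46697)
theorem F48885 : act 1 n24775 = n24566 := d6_1 D24775 (iv D24566) (iv F46698)
theorem F48886 : act 2 n24775 = n23941 := d9_1 D24775 (iv D23941) (iv D22615) (iv D20768) F33009 D18244 D20770 D22618 D23945 (iv F48734) F48733 F46492 F43068 D22605 D23927
theorem F48887 : act 5 n24775 = n23929 := d13_2 (iv F46700) D24775 (iv D23929)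
def n24776 : Q := act 0 n23928
theorem D24776 : act 0 n23928 = n24776 := rfl
theorem F48888 : act 1 n24776 = n23943 := d0_2 D23928 D24776 (iv D23943) (iv D22617) (iv F43356)
theorem F48889 : act 2 n24776 = n23959 := d1_2 (iv F46701) D24776 (iv D23959)
theorem F48890 : act 4 n24776 = n23930 := d3_2 (iv F46702) D24776 (iv D23930)
theorem F48891 : act 5 n24776 = n24032 := d4_2 (iv F46703) D24776 F46926
def n24777 : Q := act 3 n23928
theorem D24777 : act 3 n23928 = n24777 := rfl
theorem F48892 : act 1 n24777 = n23929 := d6_1 D24777 (iv D23929) D23928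
theorem F48893 : act 5 n24777 = n24566 := d13_2 (iv F46703) D24777 (iv D24566)
def n24778 : Q := act 2 n23929
theorem D24778 : act 2 n23929 = n24778 := rfl
theorem F48894 : act 0 n24778 = n23945 := d1_1 D24778 (iv D23945) (iv F46704)
theorem F48895 : act 3 n24778 = n23939 := d9_2 D23929 D24778 (iv D23939) (iv D22614) F38979 D20769 D22616 D23942 (iv F48729) (iv D24729) (iv D23853) (iv D22503) F38553 D20761 D22606
theorem F48896 : act 5 n24778 = n23941 := d11_2 F48887 D24778 (iv F48886)
def n24779 : Q := act 4 n23929
theorem D24779 : act 4 n23929 = n24779 := rfl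
theorem F48897 : act 0 n24779 = n23946 := d3_1 D24779 (iv D23946) (iv F46704)
theorem F48898 : act 3 n24779 = n23932 := d12_1 D24779 (iv D23932) (iv D22608) (iv F43357) D23929
def n24780 : Q := act 3 n23930
theorem D24780 : act 3 n23930 = n24780 := rfl
theorem F48899 : act 0 n24780 = n23931 := d2_1 D24780 (iv D23931) D23930
theorem F48900 : act 1 n24780 = n23947 := d6_1 D24780 (iv D23947) (iv F46705)
theorem F48901 : act 5 n24780 = n23955 := d13_2 F48818 D24780 F48819
def n24781 : Q := act 4 n23931
theorem D24781 : act 4 n23931 = n24781 := rfl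
theorem F48902 : act 1 n24781 = n23932 := d7_1 D24781 (iv D23932) (iv F46707)
def n24782 : Q := act 4 n23936
theorem D24782 : act 4 n23936 = n24782 := rfl
theorem F48903 : act 1 n24782 = n23937 := d7_1 D24782 (iv D23937) (iv F46721)
theorem F48904 : act 2 n24782 = n23948 := d10_1 D24782 (iv D23948) (iv F46722)
theorem F48905 : act 5 n24782 = n23948 := d14_2 D23936 D24782 (iv D23948) (iv F46598) (iv F46600)
def n24783 : Q := act 3 n23937
theorem D24783 : act 3 n23937 = n24783 := rfl
theorem F48906 : act 5 n24783 = n23946 := d13_2 (iv F46724) D24783 F46738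
def n24784 : Q := act 2 n23938
theorem D24784 : act 2 n23938 = n24784 := rfl
theorem F48907 : act 0 n24784 = n24027 := d1_1 D24784 (iv F48738) F48736
theorem F48908 : act 4 n24784 = n23939 := d10_2 (iv F46726) D24784 (iv D23939)
theorem F48909 : act 5 n24784 = n23958 := d11_2 (iv F46727) D24784 F46765
def n24785 : Q := act 1 n23939
theorem D24785 : act 1 n23939 = n24785 := rfl
theorem F48910 : act 2 n24785 = n23957 := d5_2 D23939 D24785 F46762 F43406 (iv F43368)
theorem F48911 : act 5 n24785 = n23940 := d8_2 (iv F46728) D24785 (iv D23940)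
def n24786 : Q := act 0 n23940
theorem D24786 : act 0 n23940 = n24786 := rfl
theorem F48912 : act 2 n24786 = n23956 := d1_2 (iv F46729) D24786 (iv D23956)
theorem F48913 : act 4 n24786 = n23956 := d3_2 (iv F46730) D24786 (iv D23956)
def n24787 : Q := act 3 n23940
theorem D24787 : act 3 n23940 = n24787 := rfl
theorem F48914 : act 1 n24787 = n23941 := d6_1 D24787 (iv D23941) D23940
def n24788 : Q := act 4 n23941
theorem D24788 : act 4 n23941 = n24788 := rfl
theorem F48915 : act 0 n24788 = n24028 := d3_1 D24788 (iv F48728) F48727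
theorem F48916 : act 3 n24788 = n23953 := d12_1 D24788 F46759 F43403 (iv F43370) D23941
def n24789 : Q := act 4 n23942
theorem D24789 : act 4 n23942 = n24789 := rfl
theorem F48917 : act 1 n24789 = n24035 := d7_1 D24789 (iv D24035) (iv F46731)
theorem F48918 : act 2 n24789 = n24028 := d10_1 D24789 (iv F48728) F48729
theorem F48919 : act 3 n24789 = n24525 := d12_1 D24789 (iv D24525) (iv D23492) (iv F43372) D23942
def n24790 : Q := act 3 n23943
theorem D24790 : act 3 n23943 = n24790 := rfl
theorem F48920 : act 0 n24790 = n23944 := d2_1 D24790 (iv D23944) D23943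
theorem F48921 : act 2 n24790 = n24030 := d9_1 D24790 (iv D24030) (iv D22738) (iv D20916) F33424 D18448 D20922 D22743 D24034 F46930 (iv D23502) (iv D21966) (iv F39296) (iv F43380) (iv F46733)
theorem F48922 : act 5 n24790 = n24033 := d13_2 (iv F46735) D24790 (iv D24033)
def n24791 : Q := act 2 n23944
theorem D24791 : act 2 n23944 = n24791 := rfl
theorem F48923 : act 0 n24791 = n24030 := d1_1 D24791 (iv F48921) F48920
theorem F48924 : act 5 n24791 = n24034 := d11_2 (iv F46737) D24791 (iv D24034)
theorem F48925 : act 3 n24791 = n24029 := d15_1 D24791 (iv D24029) (iv D22737) F39280 D20920 D22742 D24033 (iv F48922) F48920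
def n24792 : Q := act 4 n23944
theorem D24792 : act 4 n23944 = n24792 := rfl
theorem F48926 : act 1 n24792 = n23946 := d7_1 D24792 (iv D23946) (iv F46736)
theorem F48927 : act 3 n24792 = n23948 := d12_1 D24792 (iv D23948) (iv D22620) (iv F43375) D23944
def n24793 : Q := act 1 n23945
theorem D24793 : act 1 n23945 = n24793 := rfl
theorem F48928 : act 3 n24793 = n24557 := d6_2 F48734 D24793 (iv F48732)
def n24794 : Q := act 4 n23945
theorem D24794 : act 4 n23945 = n24794 := rfl
theorem F48929 : act 2 n24794 = n23946 := d10_1 D24794 (iv D23946) D23945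
def n24795 : Q := act 4 n23947
theorem D24795 : act 4 n23947 = n24795 := rfl
theorem F48930 : act 0 n24795 = n23948 := d3_1 D24795 (iv D23948) (iv F46739)
def n24796 : Q := act 2 n23949
theorem D24796 : act 2 n23949 = n24796 := rfl
theorem F48931 : act 0 n24796 = n24533 := d1_1 D24796 (iv D24533) (iv F46741)
theorem F48932 : act 1 n24796 = n24741 := d5_1 D24796 F48767 F46752 (iv D23951) (iv F46742)
theorem F48933 : act 4 n24796 = n24278 := d10_2 (iv F46743) D24796 F47606
theorem F48934 : act 5 n24796 = n24741 := d11_2 F46744 D24796 F48767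
theorem F48935 : act 3 n24796 = n24276 := d15_1 D24796 (iv D24276) (iv D23156) F40716 D21505 D23160 (iv F44794) (iv F45646) (iv F46741)
def n24797 : Q := act 2 n23952
theorem D24797 : act 2 n23952 = n24797 := rfl
theorem F48936 : act 0 n24797 = n24022 := d1_1 D24797 F46912 (iv F46754)
theorem F48937 : act 4 n24797 = n24015 := d10_2 (iv F46756) D24797 F46902
theorem F48938 : act 5 n24797 = n23953 := d11_2 (iv F46757) D24797 (iv D23953)
def n24798 : Q := act 1 n23953
theorem D24798 : act 1 n23953 = n24798 := rfl
theorem F48939 : act 4 n24798 = n23954 := d7_2 (iv F46759) D24798 (iv D23954)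
def n24799 : Q := act 0 n23954
theorem D24799 : act 0 n23954 = n24799 := rfl
theorem F48940 : act 1 n24799 = n24024 := d0_2 D23954 D24799 F46915 F43610 (iv F43402)
theorem F48941 : act 3 n24799 = n23956 := d2_2 (iv F46760) D24799 (iv D23956)
theorem F48942 : act 5 n24799 = n24016 := d4_2 (iv F46761) D24799 (iv D24016)
def n24800 : Q := act 5 n23956
theorem D24800 : act 5 n23956 = n24800 := rfl
theorem F48943 : act 0 n24800 = n23957 := d4_1 D24800 (iv D23957) D23956
theorem F48944 : act 1 n24800 = n24023 := d8_1 D24800 F48416 (iv F48417)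
theorem F48945 : act 3 n24800 = n24016 := d13_1 D24800 (iv F48942) F48941
def n24801 : Q := act 4 n23957
theorem D24801 : act 4 n23957 = n24801 := rfl
theorem F48946 : act 1 n24801 = n23958 := d7_1 D24801 (iv D23958) (iv F46762)
def n24802 : Q := act 3 n23958
theorem D24802 : act 3 n23958 = n24802 := rfl
theorem F48947 : act 0 n24802 = n24021 := d2_1 D24802 F46911 (iv F46764)
theorem F48948 : act 4 n24802 = n24014 := d12_2 D23958 D24802 (iv D24014) F43598 (iv F43407)
def n24803 : Q := act 4 n23964
theorem D24803 : act 4 n23964 = n24803 := rfl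
theorem F48949 : act 1 n24803 = n23965 := d7_1 D24803 (iv D23965) (iv F46785)
theorem F48950 : act 2 n24803 = n24025 := d10_1 D24803 (iv D24025) (iv F46786)
theorem F48951 : act 5 n24803 = n24558 := d14_2 D23964 D24803 (iv D24558) (iv F46781) F46780
def n24804 : Q := act 3 n23965
theorem D24804 : act 3 n23965 = n24804 := rfl
theorem F48952 : act 0 n24804 = n24555 := d2_1 D24804 F48274 (iv F46788)
theorem F48953 : act 4 n24804 = n24553 := d12_2 D23965 D24804 (iv D24553) F45740 (iv F43435)
theorem F48954 : act 5 n24804 = n24555 := d13_2 (iv F46790) D24804 F48274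
def n24805 : Q := act 2 n23966
theorem D24805 : act 2 n23966 = n24805 := rfl
theorem F48955 : act 0 n24805 = n24043 := d1_1 D24805 F46951 (iv F46791)
theorem F48956 : act 1 n24805 = n24064 := d5_1 D24805 (iv D24064) F43688 (iv F43438) (iv F46792)
theorem F48957 : act 4 n24805 = n24569 := d10_2 (iv F46793) D24805 (iv D24569)
theorem F48958 : act 5 n24805 = n24531 := d11_2 (iv F46794) D24805 F48203
theorem F48959 : act 3 n24805 = n24141 := d15_1 D24805 F47240 (iv F44615) F44614 D23127 (iv F44704) D23904 F46629 (iv F46791)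
def n24806 : Q := act 0 n23967
theorem D24806 : act 0 n23967 = n24806 := rfl
theorem F48960 : act 1 n24806 = n24063 := d0_2 D23967 D24806 F46997 F43688 (iv F43441)
theorem F48961 : act 2 n24806 = n24039 := d1_2 (iv F46795) D24806 F46941
theorem F48962 : act 3 n24806 = n24062 := d2_2 (iv F46796) D24806 F46993
theorem F48963 : act 5 n24806 = n24530 := d4_2 (iv F46797) D24806 F48201
theorem F48964 : act 4 n24257 = n24806 := d14_5 F48963 (iv F48837) F48838 F46943 F47553
def n24807 : Q := act 4 n23967
theorem D24807 : act 4 n23967 = n24807 := rfl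
theorem F48965 : act 0 n24807 = n24257 := d3_1 D24807 F48964 (iv D24806)
theorem F48966 : act 1 n24807 = n23968 := d7_1 D24807 (iv D23968) D23967
theorem F48967 : act 2 n24807 = n24040 := d10_1 D24807 (iv D24040) (iv F46795)
theorem F48968 : act 3 n24807 = n24166 := d12_1 D24807 F47296 (iv F48167) F48168 (iv F46796)
theorem F48969 : act 5 n24807 = n24040 := d14_2 (iv F46797) D24807 (iv D24040) (iv F46641) F46640
def n24808 : Q := act 1 n23971
theorem D24808 : act 1 n23971 = n24808 := rfl
def n24809 : Q := act 4 n23972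
theorem D24809 : act 4 n23972 = n24809 := rfl
theorem F48970 : act 5 n24809 = n24809 := d14_2 F47981 D24809 (iv D24809) (iv F47981) F47980
def n24810 : Q := act 2 n23973
theorem D24810 : act 2 n23973 = n24810 := rfl
theorem F48971 : act 0 n24810 = n23974 := d1_1 D24810 (iv D23974) (iv F46808)
theorem F48972 : act 4 n24810 = n24459 := d10_2 (iv F46810) D24810 (iv D24459)
def n24811 : Q := act 3 n23974
theorem D24811 : act 3 n23974 = n24811 := rfl
def n24812 : Q := act 1 n23975
theorem D24812 : act 1 n23975 = n24812 := rfl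
def n24813 : Q := act 3 n23975
theorem D24813 : act 3 n23975 = n24813 := rfl
theorem F48973 : act 0 n24813 = n23976 := d2_1 D24813 (iv D23976) (iv F46811)
def n24814 : Q := act 4 n23976
theorem D24814 : act 4 n23976 = n24814 := rfl
def n24815 : Q := act 1 n23977
theorem D24815 : act 1 n23977 = n24815 := rfl
theorem F48974 : act 0 n24815 = n24719 := d0_1 D24815 (iv D24719) F46428 D23834 (iv F46812)
theorem F48975 : act 2 n24815 = n24798 := d5_2 D23977 D24815 (iv D24798) (iv D23953) (iv F43477)
theorem F48976 : act 4 n24815 = n23978 := d7_2 (iv F46813) D24815 (iv D23978)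
def n24816 : Q := act 3 n23977
theorem D24816 : act 3 n23977 = n24816 := rfl
theorem F48977 : act 0 n24816 = n24720 := d2_1 D24816 (iv D24720) (iv F46812)
def n24817 : Q := act 0 n23978
theorem D24817 : act 0 n23978 = n24817 := rfl
theorem F48978 : act 1 n24817 = n24697 := d0_2 D23978 D24817 F48643 F46432 F45604
theorem F48979 : act 2 n24817 = n24799 := d1_2 (iv F46814) D24817 (iv D24799)
theorem F48980 : act 4 n24817 = n24719 := d3_2 F48976 D24817 (iv F48974)
theorem F48981 : act 5 n24817 = n24732 := d4_2 (iv F46815) D24817 (iv D24732)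
def n24818 : Q := act 3 n23978
theorem D24818 : act 3 n23978 = n24818 := rfl
theorem F48982 : act 1 n24818 = n23979 := d6_1 D24818 (iv D23979) D23978
theorem F48983 : act 5 n24818 = n23982 := d13_2 (iv F46815) D24818 F46823
def n24819 : Q := act 4 n23979
theorem D24819 : act 4 n23979 = n24819 := rfl
theorem F48984 : act 0 n24819 = n23988 := d3_1 D24819 (iv D23988) (iv F46816)
theorem F48985 : act 2 n24819 = n23983 := d10_1 D24819 (iv D23983) (iv F46817)
def n24820 : Q := act 1 n23980
theorem D24820 : act 1 n23980 = n24820 := rfl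
theorem F48986 : act 2 n24820 = n23982 := d5_2 D23980 D24820 (iv D23982) (iv D22670) (iv F43484)
def n24821 : Q := act 3 n23980
theorem D24821 : act 3 n23980 = n24821 := rfl
theorem F48987 : act 0 n24821 = n24449 := d2_1 D24821 (iv D24449) (iv F46819)
theorem F48988 : act 2 n24821 = n24444 := d15_2 D23980 D24821 F48012 F45305 F41445 (iv F41473) (iv F45334) (iv D23383) (iv F43483)
theorem F48989 : act 5 n24443 = n24821 := d11_0 F48988 (iv D24444) D24443
def n24822 : Q := act 5 n23980
theorem D24822 : act 5 n23980 = n24822 := rfl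
theorem F48990 : act 0 n24822 = n24450 := d4_1 D24822 (iv D24450) (iv F46819)
theorem F48991 : act 2 n24822 = n23981 := d11_1 D24822 (iv D23981) D23980
theorem F48992 : act 3 n24822 = n24443 := d13_1 D24822 F48989 (iv D24821)
def n24823 : Q := act 4 n23981
theorem D24823 : act 4 n23981 = n24823 := rfl
theorem F48993 : act 0 n24823 = n24335 := d3_1 D24823 F47746 (iv F46820)
theorem F48994 : act 1 n24823 = n23983 := d7_1 D24823 (iv D23983) (iv F46821)
theorem F48995 : act 3 n24823 = n24334 := d12_1 D24823 (iv D24334) F44966 (iv F43488) (iv F46822)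
def n24824 : Q := act 0 n23982
theorem D24824 : act 0 n23982 = n24824 := rfl
theorem F48996 : act 1 n24824 = n23986 := d0_2 D23982 D24824 (iv D23986) (iv D22675) (iv F43489)
theorem F48997 : act 3 n24824 = n24732 := d2_2 (iv F46823) D24824 (iv D24732)
def n24825 : Q := act 0 n23984
theorem D24825 : act 0 n23984 = n24825 := rfl
theorem F48998 : act 2 n24825 = n24677 := d1_2 F48299 D24825 F48581
theorem F48999 : act 3 n24825 = n24552 := d2_2 (iv F46826) D24825 F48265
theorem F49000 : act 4 n24825 = n23986 := d3_2 (iv F46827) D24825 (iv D23986)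
theorem F49001 : act 5 n24825 = n24816 := d4_2 F48705 D24825 F48977
def n24826 : Q := act 5 n23986
theorem D24826 : act 5 n23986 = n24826 := rfl
theorem F49002 : act 0 n24826 = n23987 := d4_1 D24826 (iv D23987) D23986
theorem F49003 : act 2 n24826 = n24688 := d11_1 D24826 F48619 F48297
theorem F49004 : act 3 n24826 = n24697 := d13_1 D24826 F48645 (iv F48036)
def n24827 : Q := act 4 n23987
theorem D24827 : act 4 n23987 = n24827 := rfl
theorem F49005 : act 1 n24827 = n23988 := d7_1 D24827 (iv D23988) (iv F46831)
theorem F49006 : act 2 n24827 = n24234 := d10_1 D24827 (iv F47492) (iv F46832)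
theorem F49007 : act 3 n24827 = n24721 := d12_1 D24827 (iv D24721) (iv D23835) (iv F46433) (iv F46833)
theorem F49008 : act 5 n24827 = n24233 := d14_2 D23987 D24827 (iv F48704) F48705 F46827
def n24828 : Q := act 2 n23991
theorem D24828 : act 2 n23991 = n24828 := rfl
theorem F49009 : act 0 n24828 = n23992 := d1_1 D24828 (iv D23992) (iv F46840)
def n24829 : Q := act 4 n23991
theorem D24829 : act 4 n23991 = n24829 := rfl
theorem F49010 : act 0 n24829 = n23993 := d3_1 D24829 (iv D23993) (iv F46840)
theorem F49011 : act 3 n24829 = n23996 := d12_1 D24829 (iv D23996) (iv D22693) (iv F43522) D23991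
theorem F49012 : act 5 n24220 = n24829 := d13_0 F49011 F46848 D24220
def n24830 : Q := act 1 n23992
theorem D24830 : act 1 n23992 = n24830 := rfl
theorem F49013 : act 2 n24830 = n23994 := d5_2 D23992 D24830 F46843 (iv D22691) (iv F43523)
theorem F49014 : act 5 n23992 = n24830 := d11_0 F49013 (iv D23994) D23992
theorem F49015 : act 3 n23992 = n24830 := d15_1 D23992 F49013 F46844 (iv F45340) (iv F45343) (iv F45336) D24451 F48029 F46840
def n24831 : Q := act 4 n23992
theorem D24831 : act 4 n23992 = n24831 := rfl
theorem F49016 : act 2 n24831 = n23993 := d10_1 D24831 (iv D23993) D23992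
def n24832 : Q := act 4 n23994
theorem D24832 : act 4 n23994 = n24832 := rfl
theorem F49017 : act 1 n24832 = n23995 := d7_1 D24832 (iv D23995) (iv F46843)
theorem F49018 : act 3 n24832 = n24588 := d12_1 D24832 (iv D24588) F45918 F45400 (iv F46844)
def n24833 : Q := act 2 n23997
theorem D24833 : act 2 n23997 = n24833 := rfl
theorem F49019 : act 1 n24833 = n24242 := d5_1 D24833 (iv D24242) F46855 (iv D23998) (iv F46849)
theorem F49020 : act 4 n24833 = n24661 := d10_2 (iv F46850) D24833 (iv D24661)
def n24834 : Q := act 2 n24000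
theorem D24834 : act 2 n24000 = n24834 := rfl
theorem F49021 : act 5 n24834 = n24242 := d11_2 (iv F46861) D24834 (iv D24242)
def n24835 : Q := act 3 n24004
theorem D24835 : act 3 n24004 = n24835 := rfl
theorem F49022 : act 4 n24835 = n24576 := d12_2 D24004 D24835 F48319 F46870 (iv D24003)
theorem F49023 : act 2 n24835 = n24576 := d15_2 (iv F46871) D24835 F48319 (iv F46106) (iv F48060) F48059 (iv F48750) F48751 F46864
theorem F49024 : act 5 n24835 = n24575 := d15_8 F48335 F45882 (iv F43147) (iv F46083) (iv F46453) F46454 (iv F46871) D24835 (iv F48333)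
def n24836 : Q := act 5 n24004
theorem D24836 : act 5 n24004 = n24836 := rfl
theorem F49025 : act 1 n24836 = n24584 := d8_1 D24836 (iv F48384) F48382
theorem F49026 : act 2 n24836 = n24005 := d11_1 D24836 (iv D24005) (iv F46871)
theorem F49027 : act 3 n24836 = n24575 := d13_1 D24836 (iv F49024) (iv D24835)
theorem F49028 : act 4 n24836 = n24006 := d14_1 D24836 (iv D24006) (iv D22711) (iv F43559) D24004
def n24837 : Q := act 4 n24007
theorem D24837 : act 4 n24007 = n24837 := rfl
theorem F49029 : act 0 n24837 = n24012 := d3_1 D24837 (iv D24012) (iv F46877)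
theorem F49030 : act 1 n24837 = n24681 := d7_1 D24837 (iv D24681) (iv F46878)
theorem F49031 : act 2 n24837 = n24011 := d10_1 D24837 (iv D24011) (iv F46879)
theorem F49032 : act 3 n24837 = n24213 := d12_1 D24837 F47432 F46354 (iv F43580) (iv F46880)
theorem F49033 : act 5 n24837 = n24715 := d14_2 D24007 D24837 (iv D24715) (iv D23824) (iv F43575)
def n24838 : Q := act 0 n24013
theorem D24838 : act 0 n24013 = n24838 := rfl
theorem F49034 : act 1 n24838 = n24017 := d0_2 D24013 D24838 (iv D24017) (iv D22728) (iv F43597)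
theorem F49035 : act 2 n24838 = n24455 := d1_2 (iv F46898) D24838 F48037
theorem F49036 : act 4 n24838 = n24016 := d3_2 (iv F46899) D24838 (iv D24016)
def n24839 : Q := act 3 n24013
theorem D24839 : act 3 n24013 = n24839 := rfl
theorem F49037 : act 1 n24839 = n24014 := d6_1 D24839 (iv D24014) D24013
def n24840 : Q := act 5 n24013
theorem D24840 : act 5 n24013 = n24840 := rfl
theorem F49038 : act 1 n24840 = n24015 := d8_1 D24840 (iv D24015) D24013
theorem F49039 : act 2 n24840 = n24550 := d11_1 D24840 (iv D24550) (iv F46898)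
def n24841 : Q := act 2 n24014
theorem D24841 : act 2 n24014 = n24841 := rfl
theorem F49040 : act 0 n24841 = n24020 := d1_1 D24841 (iv D24020) (iv F46900)
theorem F49041 : act 3 n24841 = n24015 := d9_2 D24014 D24841 F46902 F43601 F39269 (iv F39274) (iv F43604) (iv F46909) (iv D24020) (iv D22729) (iv D20909) (iv D18437) (iv F33403) D20906 D22725
theorem F49042 : act 5 n24014 = n24841 := d13_0 F49041 (iv D24015) D24014
def n24842 : Q := act 3 n24017
theorem D24842 : act 3 n24017 = n24842 := rfl
theorem F49043 : act 0 n24842 = n24018 := d2_1 D24842 (iv D24018) D24017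
def n24843 : Q := act 5 n24017
theorem D24843 : act 5 n24017 = n24843 := rfl
theorem F49044 : act 0 n24843 = n24019 := d4_1 D24843 (iv D24019) D24017
theorem F49045 : act 2 n24843 = n24396 := d11_1 D24843 (iv D24396) (iv F46904)
def n24844 : Q := act 2 n24018
theorem D24844 : act 2 n24018 = n24844 := rfl
theorem F49046 : act 3 n24844 = n24397 := d15_3 (iv F43602) D24018 D24844 F47918 F45178 (iv F45174) (iv F47916) (iv D24396) F45169
theorem F49047 : act 1 n24398 = n24844 := d6_3 F49046 (iv D24397) D24398
theorem F49048 : act 5 n24398 = n24844 := d13_0 F49046 (iv F47920) D24398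
def n24845 : Q := act 4 n24018
theorem D24845 : act 4 n24018 = n24845 := rfl
theorem F49049 : act 1 n24845 = n24021 := d7_1 D24845 (iv D24021) (iv F46906)
theorem F49050 : act 3 n24845 = n24025 := d12_1 D24845 (iv D24025) (iv D22733) (iv F43603) D24018
def n24846 : Q := act 5 n24018
theorem D24846 : act 5 n24018 = n24846 := rfl
theorem F49051 : act 1 n24846 = n24020 := d8_1 D24846 (iv F46910) (iv F46906)
theorem F49052 : act 2 n24846 = n24398 := d11_1 D24846 F49048 (iv D24844)
theorem F49053 : act 3 n24846 = n24019 := d13_1 D24846 (iv D24019) D24018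
def n24847 : Q := act 4 n24020
theorem D24847 : act 4 n24020 = n24847 := rfl
theorem F49054 : act 2 n24847 = n24021 := d10_1 D24847 (iv D24021) D24020
def n24848 : Q := act 5 n24021
theorem D24848 : act 5 n24021 = n24848 := rfl
theorem F49055 : act 3 n24848 = n24027 := d13_1 D24848 (iv D24027) (iv F46911)
def n24849 : Q := act 3 n24022
theorem D24849 : act 3 n24022 = n24849 := rfl
theorem F49056 : act 5 n24849 = n24028 := d13_2 (iv F46913) D24849 (iv D24028)
def n24850 : Q := act 4 n24023
theorem D24850 : act 4 n24023 = n24850 := rfl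
theorem F49057 : act 0 n24850 = n24025 := d3_1 D24850 (iv D24025) (iv F46914)
def n24851 : Q := act 5 n24025
theorem D24851 : act 5 n24025 = n24851 := rfl
theorem F49058 : act 1 n24851 = n24027 := d8_1 D24851 (iv D24027) (iv F46917)
theorem F49059 : act 2 n24851 = n24558 := d11_1 D24851 (iv F48951) F48950
theorem F49060 : act 4 n24851 = n24557 := d14_1 D24851 F48726 F48725 F46495 D24025
def n24852 : Q := act 3 n24026
theorem D24852 : act 3 n24026 = n24852 := rfl
theorem F49061 : act 1 n24852 = n24028 := d6_1 D24852 (iv D24028) (iv F46918)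
def n24853 : Q := act 4 n24030
theorem D24853 : act 4 n24030 = n24853 := rfl
def n24854 : Q := act 5 n24030
theorem D24854 : act 5 n24030 = n24854 := rfl
theorem F49062 : act 0 n24854 = n24034 := d4_1 D24854 (iv F48924) F48923
theorem F49063 : act 2 n24854 = n24033 := d11_1 D24854 (iv F48922) F48921
theorem F49064 : act 3 n24854 = n24031 := d13_1 D24854 (iv D24031) D24030
theorem F49065 : act 4 n24713 = n24854 := d12_0 F49064 F46925 F46273 (iv F46401) D24713
def n24855 : Q := act 3 n24032
theorem D24855 : act 3 n24032 = n24855 := rfl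
theorem F49066 : act 0 n24855 = n24566 := d2_1 D24855 (iv D24566) (iv F46926)
theorem F49067 : act 1 n24855 = n24033 := d6_1 D24855 (iv D24033) D24032
def n24856 : Q := act 4 n24033
theorem D24856 : act 4 n24033 = n24856 := rfl
theorem F49068 : act 0 n24856 = n24035 := d3_1 D24856 (iv D24035) (iv F46929)
theorem F49069 : act 2 n24856 = n24713 := d10_1 D24856 F49065 F49063
theorem F49070 : act 3 n24856 = n24522 := d12_1 D24856 (iv D24522) (iv D23490) (iv F43630) D24033
def n24857 : Q := act 1 n24034
theorem D24857 : act 1 n24034 = n24857 := rfl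
theorem F49071 : act 3 n24857 = n24529 := d6_2 (iv F46930) D24857 (iv D24529)
theorem F49072 : act 0 n24570 = n24857 := d2_3 F49071 F48197 D24570
def n24858 : Q := act 4 n24034
theorem D24858 : act 4 n24034 = n24858 := rfl
theorem F49073 : act 0 n24858 = n24713 := d3_1 D24858 F49065 F49062
theorem F49074 : act 2 n24858 = n24035 := d10_1 D24858 (iv D24035) D24034
theorem F49075 : act 3 n24858 = n24679 := d12_1 D24858 (iv D24679) (iv D23764) (iv F45620) (iv F46930)
def n24859 : Q := act 5 n24035
theorem D24859 : act 5 n24035 = n24859 := rfl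
theorem F49076 : act 3 n24859 = n24528 := d13_1 D24859 (iv D24528) (iv F46931)
def n24860 : Q := act 2 n24037
theorem D24860 : act 2 n24037 = n24860 := rfl
theorem F49077 : act 0 n24860 = n24038 := d1_1 D24860 (iv D24038) (iv F46936)
theorem F49078 : act 1 n24860 = n24060 := d5_1 D24860 F46991 (iv F48202) (iv F48835) F48834
theorem F49079 : act 3 n24860 = n24050 := d9_2 D24037 D24860 (iv D24050) (iv D22757) (iv D20938) (iv D18472) (iv F33495) D20934 D22751 D24044 (iv F48842) (iv D24762) F46643 F43317 (iv F43633)
theorem F49080 : act 4 n24860 = n24060 := d10_2 (iv F46937) D24860 F46991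
theorem F49081 : act 5 n24860 = n24041 := d11_2 (iv F46938) D24860 (iv D24041)
def n24861 : Q := act 3 n24038
theorem D24861 : act 3 n24038 = n24861 := rfl
theorem F49082 : act 0 n24861 = n24050 := d2_1 D24861 (iv F49079) F49077
theorem F49083 : act 2 n24861 = n24049 := d9_1 D24861 (iv D24049) (iv D22756) (iv D20937) (iv F39327) D22750 D24041 (iv F48846) (iv D24763) (iv D23910) F43310 F38932 (iv F39319) D22746 D24038
theorem F49084 : act 5 n24861 = n24044 := d13_2 (iv F46940) D24861 (iv D24044)
def n24862 : Q := act 1 n24041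
theorem D24862 : act 1 n24041 = n24862 := rfl
theorem F49085 : act 0 n24862 = n24064 := d0_1 D24862 (iv F48956) F48955 (iv D24043) (iv F46947)
theorem F49086 : act 2 n24862 = n24063 := d5_2 D24041 D24862 (iv F48960) F48961 F46942
theorem F49087 : act 3 n24862 = n24061 := d6_2 F48846 D24862 (iv F48844)
theorem F49088 : act 5 n24862 = n24060 := d8_2 F49081 D24862 (iv F49078)
def n24863 : Q := act 4 n24041
theorem D24863 : act 4 n24041 = n24863 := rfl
theorem F49089 : act 0 n24863 = n24045 := d3_1 D24863 (iv D24045) (iv F46947)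
theorem F49090 : act 2 n24863 = n24042 := d10_1 D24863 (iv D24042) D24041
def n24864 : Q := act 5 n24042
theorem D24864 : act 5 n24042 = n24864 := rfl
theorem F49091 : act 0 n24864 = n24046 := d4_1 D24864 (iv D24046) (iv F46948)
theorem F49092 : act 1 n24864 = n24257 := d8_1 D24864 (iv F47553) (iv F46949)
theorem F49093 : act 3 n24864 = n24100 := d13_1 D24864 (iv D24100) (iv F46950)
theorem F49094 : act 4 n24864 = n24063 := d14_1 D24864 F46998 (iv F46937) F46938 D24042
def n24865 : Q := act 5 n24045
theorem D24865 : act 5 n24045 = n24865 := rfl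
theorem F49095 : act 1 n24865 = n24569 := d8_1 D24865 F48303 F47428
theorem F49096 : act 2 n24865 = n24046 := d11_1 D24865 (iv D24046) (iv F46952)
theorem F49097 : act 4 n24865 = n24064 := d14_1 D24865 F46999 (iv F46939) F46940 D24045
def n24866 : Q := act 3 n24048
theorem D24866 : act 3 n24048 = n24866 := rfl
theorem F49098 : act 0 n24866 = n24052 := d2_1 D24866 F46965 (iv F46960)
theorem F49099 : act 1 n24866 = n24049 := d6_1 D24866 (iv D24049) D24048
theorem F49100 : act 5 n24866 = n24065 := d13_2 (iv F46961) D24866 (iv D24065)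
theorem F49101 : act 4 n24348 = n24866 := d3_0 F49098 F46966 D24348
def n24867 : Q := act 4 n24049
theorem D24867 : act 4 n24049 = n24867 := rfl
theorem F49102 : act 0 n24867 = n24051 := d3_1 D24867 (iv D24051) (iv F46962)
theorem F49103 : act 1 n24867 = n24348 := d7_1 D24867 F49101 F49099
def n24868 : Q := act 4 n24050
theorem D24868 : act 4 n24050 = n24868 := rfl
theorem F49104 : act 1 n24868 = n24058 := d7_1 D24868 F46985 (iv F46963)
theorem F49105 : act 2 n24868 = n24051 := d10_1 D24868 (iv D24051) D24050
theorem F49106 : act 3 n24868 = n24058 := d12_1 D24868 F46985 D24060 (iv F49080) F49079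
def n24869 : Q := act 2 n24053
theorem D24869 : act 2 n24053 = n24869 := rfl
theorem F49107 : act 0 n24869 = n24058 := d1_1 D24869 (iv D24058) (iv F46968)
theorem F49108 : act 4 n24869 = n24054 := d10_2 (iv F46970) D24869 (iv D24054)
theorem F49109 : act 5 n24869 = n24120 := d11_2 (iv F46971) D24869 (iv D24120)
def n24870 : Q := act 1 n24054
theorem D24870 : act 1 n24054 = n24870 := rfl
theorem F49110 : act 2 n24870 = n24142 := d5_2 D24054 D24870 F47241 F44572 F44569
theorem F49111 : act 3 n24870 = n24531 := d6_2 (iv F46973) D24870 (iv D24531)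
theorem F49112 : act 5 n24141 = n24870 := d13_0 F49111 (iv F48958) F48959
def n24871 : Q := act 5 n24054
theorem D24871 : act 5 n24054 = n24871 := rfl
theorem F49113 : act 0 n24871 = n24061 := d4_1 D24871 (iv D24061) (iv F46972)
theorem F49114 : act 1 n24871 = n24141 := d8_1 D24871 F49112 (iv D24870)
theorem F49115 : act 2 n24871 = n24055 := d11_1 D24871 (iv D24055) D24054
theorem F49116 : act 3 n24871 = n24064 := d13_1 D24871 F46999 (iv F46973)
theorem F49117 : act 4 n24871 = n24138 := d14_1 D24871 (iv D24138) (iv F47190) (iv F49109) F49108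
def n24872 : Q := act 5 n24056
theorem D24872 : act 5 n24056 = n24872 := rfl
theorem F49118 : act 0 n24872 = n24114 := d4_1 D24872 F47171 (iv F46978)
theorem F49119 : act 1 n24872 = n24341 := d8_1 D24872 (iv D24341) (iv F46979)
theorem F49120 : act 3 n24872 = n24057 := d13_1 D24872 (iv D24057) D24056
theorem F49121 : act 4 n24872 = n24095 := d14_1 D24872 F47099 D24102 (iv F47128) (iv F46980)
def n24873 : Q := act 5 n24058
theorem D24873 : act 5 n24058 = n24873 := rfl
theorem F49122 : act 0 n24873 = n24120 := d4_1 D24873 (iv F49109) F49107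
theorem F49123 : act 2 n24873 = n24059 := d11_1 D24873 (iv D24059) D24058
theorem F49124 : act 4 n24873 = n24136 := d14_1 D24873 (iv F48778) F48777 (iv D24061) (iv F46985)
def n24874 : Q := act 3 n24066
theorem D24874 : act 3 n24066 = n24874 := rfl
theorem F49125 : act 1 n24874 = n24067 := d6_1 D24874 (iv D24067) (iv F47001)
theorem F49126 : act 4 n24874 = n24349 := d12_2 D24066 D24874 (iv D24349) (iv F46966) F46965
theorem F49127 : act 5 n24874 = n24564 := d13_2 (iv F47003) D24874 F48291
def n24875 : Q := act 1 n24068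
theorem D24875 : act 1 n24068 = n24875 := rfl
theorem F49128 : act 0 n24875 = n24277 := d0_1 D24875 F47603 F47031 (iv D24073) (iv F47007)
theorem F49129 : act 2 n24875 = n24076 := d5_2 D24068 D24875 (iv D24076) (iv D22792) (iv F43723)
theorem F49130 : act 3 n24875 = n24071 := d6_2 (iv F47008) D24875 F47020
theorem F49131 : act 4 n24875 = n24076 := d7_2 (iv F47009) D24875 (iv D24076)
theorem F49132 : act 5 n24875 = n24070 := d8_2 F47010 D24875 F47017
def n24876 : Q := act 2 n24070
theorem D24876 : act 2 n24070 = n24876 := rfl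
theorem F49133 : act 0 n24876 = n24276 := d1_1 D24876 (iv D24276) (iv F47016)
theorem F49134 : act 1 n24876 = n24074 := d5_1 D24876 F47033 (iv F47012) F47013 (iv F47017)
theorem F49135 : act 4 n24876 = n24073 := d10_2 (iv F47018) D24876 F47028
theorem F49136 : act 5 n24876 = n24076 := d11_2 F49132 D24876 (iv F49129)
theorem F49137 : act 3 n24876 = n24533 := d15_1 D24876 (iv D24533) (iv D23514) F41918 (iv F40724) (iv F44786) (iv F47604) (iv D24277) (iv F47016)
def n24877 : Q := act 2 n24075
theorem D24877 : act 2 n24075 = n24877 := rfl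
theorem F49138 : act 0 n24877 = n24740 := d1_1 D24877 (iv D24740) (iv F47036)
theorem F49139 : act 1 n24877 = n24693 := d5_1 D24877 F48631 F46325 (iv F43998) (iv F47037)
theorem F49140 : act 3 n24877 = n24737 := d9_2 D24075 D24877 (iv D24737) (iv D23862) F43104 F38627 (iv F42672) D23734 D24664 (iv F48764) (iv D24739) (iv D23864) F43116 (iv F39459) (iv F43750)
theorem F49141 : act 4 n24877 = n24347 := d10_2 (iv F47038) D24877 F47779
theorem F49142 : act 5 n24877 = n24691 := d11_2 (iv F47039) D24877 F48626
def n24878 : Q := act 0 n24076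
theorem D24878 : act 0 n24076 = n24878 := rfl
theorem F49143 : act 1 n24878 = n24276 := d0_2 D24076 D24878 (iv F49133) F49134 F47032
theorem F49144 : act 2 n24878 = n24277 := d1_2 F49129 D24878 (iv F49128)
theorem F49145 : act 3 n24878 = n24741 := d2_2 (iv F47040) D24878 (iv D24741)
theorem F49146 : act 4 n24878 = n24277 := d3_2 F49131 D24878 (iv F49128)
theorem F49147 : act 5 n24878 = n24276 := d4_2 F49136 D24878 (iv F49133)
def n24879 : Q := act 1 n24080
theorem D24879 : act 1 n24080 = n24879 := rfl
theorem F49148 : act 2 n24879 = n24082 := d5_2 D24080 D24879 (iv D24082) (iv D22802) (iv F43776)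
theorem F49149 : act 4 n24879 = n24448 := d7_2 (iv F47056) D24879 (iv D24448)
theorem F49150 : act 5 n24207 = n24879 := d11_0 F49148 F47061 D24207
def n24880 : Q := act 5 n24080
theorem D24880 : act 5 n24080 = n24880 := rfl
theorem F49151 : act 1 n24880 = n24207 := d8_1 D24880 F49150 (iv D24879)
theorem F49152 : act 2 n24880 = n24081 := d11_1 D24880 (iv D24081) D24080
def n24881 : Q := act 4 n24081
theorem D24881 : act 4 n24081 = n24881 := rfl
theorem F49153 : act 1 n24881 = n24083 := d7_1 D24881 (iv D24083) (iv F47057)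
theorem F49154 : act 3 n24881 = n24336 := d12_1 D24881 F47750 F45384 (iv F43779) (iv F47058)
theorem F49155 : act 5 n24881 = n24335 := d14_2 D24081 D24881 F47746 (iv D23383) (iv F43777)
def n24882 : Q := act 0 n24082
theorem D24882 : act 0 n24082 = n24882 := rfl
theorem F49156 : act 1 n24882 = n24677 := d0_2 D24082 D24882 F48581 F48298 F45803
theorem F49157 : act 3 n24882 = n24203 := d2_2 (iv F47059) D24882 F47403
theorem F49158 : act 4 n24882 = n24464 := d3_2 (iv F47060) D24882 (iv D24464)
theorem F49159 : act 5 n24882 = n24202 := d4_2 (iv F47061) D24882 F47402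
def n24883 : Q := act 0 n24086
theorem D24883 : act 0 n24086 = n24883 := rfl
theorem F49160 : act 1 n24883 = n24088 := d0_2 D24086 D24883 (iv D24088) (iv D22812) (iv F43813)
theorem F49161 : act 2 n24883 = n24313 := d1_2 (iv F47075) D24883 F47692
theorem F49162 : act 4 n24883 = n24312 := d3_2 (iv F47076) D24883 F47688
theorem F49163 : act 5 n24883 = n24592 := d4_2 (iv F47077) D24883 F48368
def n24884 : Q := act 3 n24086
theorem D24884 : act 3 n24086 = n24884 := rfl
theorem F49164 : act 1 n24884 = n24087 := d6_1 D24884 (iv D24087) D24086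
theorem F49165 : act 4 n24884 = n24884 := d12_2 (iv F47076) D24884 (iv D24884) F47076 F45963
theorem F49166 : act 5 n24884 = n24594 := d13_2 (iv F47077) D24884 (iv D24594)
def n24885 : Q := act 3 n24088
theorem D24885 : act 3 n24088 = n24885 := rfl
theorem F49167 : act 0 n24885 = n24089 := d2_1 D24885 (iv D24089) D24088
theorem F49168 : act 4 n24885 = n24885 := d12_2 (iv F47533) D24885 (iv D24885) F47533 F47532
def n24886 : Q := act 2 n24089
theorem D24886 : act 2 n24089 = n24886 := rfl
theorem F49169 : act 4 n24886 = n24886 := d10_2 F47082 D24886 (iv D24886)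
def n24887 : Q := act 1 n24090
theorem D24887 : act 1 n24090 = n24887 := rfl
theorem F49170 : act 4 n24887 = n24887 := d7_2 F47083 D24887 (iv D24887)
def n24888 : Q := act 5 n24091
theorem D24888 : act 5 n24091 = n24888 := rfl
theorem F49171 : act 0 n24888 = n24585 := d4_1 D24888 F48348 (iv F47084)
theorem F49172 : act 1 n24888 = n24582 := d8_1 D24888 F48341 (iv F47085)
theorem F49173 : act 2 n24888 = n24595 := d11_1 D24888 F48376 F47087
theorem F49174 : act 3 n24888 = n24092 := d13_1 D24888 (iv D24092) D24091
theorem F49175 : act 4 n24888 = n24602 := d14_1 D24888 (iv D24602) (iv D23643) (iv F45990) (iv F47086)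
def n24889 : Q := act 5 n24093
theorem D24889 : act 5 n24093 = n24889 := rfl
theorem F49176 : act 0 n24889 = n24587 := d4_1 D24889 (iv F48535) (iv F48536)
theorem F49177 : act 1 n24889 = n24597 := d8_1 D24889 (iv F48551) F48548
theorem F49178 : act 2 n24889 = n24094 := d11_1 D24889 (iv D24094) D24093
theorem F49179 : act 3 n24889 = n24597 := d13_1 D24889 (iv F48551) F48550
theorem F49180 : act 4 n24889 = n24587 := d14_1 D24889 (iv F48535) F48534 (iv F46214) (iv F47092)
def n24890 : Q := act 2 n24096
theorem D24890 : act 2 n24096 = n24890 := rfl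
theorem F49181 : act 0 n24890 = n24264 := d1_1 D24890 F47572 (iv F47100)
theorem F49182 : act 4 n24890 = n24259 := d10_2 (iv F47102) D24890 (iv D24259)
theorem F49183 : act 5 n24890 = n24307 := d11_2 (iv F47103) D24890 (iv D24307)
def n24891 : Q := act 1 n24101
theorem D24891 : act 1 n24101 = n24891 := rfl
theorem F49184 : act 0 n24891 = n24564 := d0_1 D24891 F48290 (iv F46774) F46775 (iv F47122)
theorem F49185 : act 3 n24891 = n24515 := d6_2 (iv F47123) D24891 (iv D24515)
theorem F49186 : act 4 n24891 = n24516 := d7_2 F47124 D24891 F48158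
def n24892 : Q := act 5 n24105
theorem D24892 : act 5 n24105 = n24892 := rfl
theorem F49187 : act 0 n24892 = n24714 := d4_1 D24892 (iv D24714) (iv F47138)
theorem F49188 : act 1 n24892 = n24353 := d8_1 D24892 (iv D24353) (iv F47139)
theorem F49189 : act 2 n24892 = n24106 := d11_1 D24892 (iv D24106) D24105
theorem F49190 : act 3 n24892 = n24214 := d13_1 D24892 F47435 (iv F47141)
theorem F49191 : act 4 n24744 = n24892 := d12_0 F49190 F47434 (iv F44794) (iv F46527) D24744
def n24893 : Q := act 4 n24106
theorem D24893 : act 4 n24106 = n24893 := rfl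
theorem F49192 : act 0 n24893 = n24526 := d3_1 D24893 (iv F48190) (iv F47142)
theorem F49193 : act 1 n24893 = n24107 := d7_1 D24893 (iv D24107) (iv F47143)
theorem F49194 : act 2 n24893 = n24744 := d10_1 D24893 F49191 F49189
theorem F49195 : act 3 n24893 = n24219 := d12_1 D24893 F47452 F44487 (iv F43880) (iv F47144)
theorem F49196 : act 5 n24893 = n24674 := d14_2 D24106 D24893 F48803 (iv D24753) F46567
def n24894 : Q := act 3 n24109
theorem D24894 : act 3 n24109 = n24894 := rfl
theorem F49197 : act 0 n24894 = n24110 := d2_1 D24894 (iv D24110) D24109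
theorem F49198 : act 1 n24894 = n24202 := d6_1 D24894 (iv D24202) (iv F47153)
theorem F49199 : act 2 n24894 = n24816 := d9_1 D24894 (iv D24816) (iv D23977) (iv D22665) (iv F42780) (iv F46267) (iv F47161) (iv F48300) F48299 F46826 F45738 (iv F43459) F43458 (iv F44187) (iv F47154)
theorem F49200 : act 4 n24894 = n24231 := d12_2 (iv F47155) D24894 (iv D24231) (iv D23078) (iv F44184)
theorem F49201 : act 5 n24894 = n24677 := d13_2 F47156 D24894 (iv D24677)
def n24895 : Q := act 3 n24112
theorem D24895 : act 3 n24112 = n24895 := rfl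
theorem F49202 : act 1 n24895 = n24113 := d6_1 D24895 (iv D24113) D24112
theorem F49203 : act 4 n24895 = n24130 := d12_2 (iv F47164) D24895 (iv D24130) (iv D22876) (iv F43923)
theorem F49204 : act 5 n24895 = n24182 := d13_2 (iv F47165) D24895 (iv D24182)
def n24896 : Q := act 1 n24115
theorem D24896 : act 1 n24115 = n24896 := rfl
theorem F49205 : act 4 n24896 = n24142 := d7_2 (iv F47173) D24896 F47241
theorem F49206 : act 5 n24896 = n24121 := d8_2 (iv F47174) D24896 (iv D24121)
def n24897 : Q := act 3 n24116
theorem D24897 : act 3 n24116 = n24897 := rfl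
theorem F49207 : act 1 n24897 = n24117 := d6_1 D24897 (iv D24117) D24116
theorem F49208 : act 5 n24897 = n24123 := d13_2 (iv F47177) D24897 (iv D24123)
def n24898 : Q := act 1 n24120
theorem D24898 : act 1 n24120 = n24898 := rfl
theorem F49209 : act 2 n24898 = n24121 := d5_2 D24120 D24898 (iv D24121) (iv D22865) (iv F43959)
theorem F49210 : act 4 n24898 = n24137 := d7_2 (iv F47190) D24898 (iv D24137)
def n24899 : Q := act 0 n24121
theorem D24899 : act 0 n24121 = n24899 := rfl
theorem F49211 : act 1 n24899 = n24146 := d0_2 D24121 D24899 F47247 F44027 (iv F43961)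
theorem F49212 : act 4 n24899 = n24139 := d3_2 (iv F47191) D24899 (iv D24139)
def n24900 : Q := act 3 n24121
theorem D24900 : act 3 n24121 = n24900 := rfl
theorem F49213 : act 1 n24900 = n24122 := d6_1 D24900 (iv D24122) D24121
theorem F49214 : act 4 n24900 = n24143 := d12_2 (iv F47191) D24900 (iv D24143) (iv D22896) (iv F44008)
def n24901 : Q := act 2 n24123
theorem D24901 : act 2 n24123 = n24901 := rfl
def n24902 : Q := act 1 n24124
theorem D24902 : act 1 n24124 = n24902 := rfl
theorem F49215 : act 3 n24902 = n24148 := d6_2 (iv F47196) D24902 F47249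
theorem F49216 : act 5 n24902 = n24147 := d8_2 (iv F47197) D24902 F47248
def n24903 : Q := act 2 n24128
theorem D24903 : act 2 n24128 = n24903 := rfl
theorem F49217 : act 0 n24903 = n24252 := d1_1 D24903 F47537 (iv F47212)
theorem F49218 : act 4 n24903 = n24723 := d10_2 (iv F47214) D24903 (iv D24723)
theorem F49219 : act 5 n24903 = n24251 := d11_2 (iv F47215) D24903 F47536
def n24904 : Q := act 3 n24129
theorem D24904 : act 3 n24129 = n24904 := rfl
theorem F49220 : act 0 n24904 = n24130 := d2_1 D24904 (iv D24130) (iv F47216)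
theorem F49221 : act 5 n24904 = n24333 := d13_2 (iv F47218) D24904 (iv D24333)
def n24905 : Q := act 2 n24130
theorem D24905 : act 2 n24130 = n24905 := rfl
theorem F49222 : act 3 n24905 = n24295 := d15_1 D24905 (iv D24295) (iv D23181) F40848 (iv F41054) (iv F44962) D24333 (iv F49221) F49220
def n24906 : Q := act 2 n24132
theorem D24906 : act 2 n24132 = n24906 := rfl
theorem F49223 : act 0 n24906 = n24134 := d1_1 D24906 (iv D24134) (iv F47224)
theorem F49224 : act 4 n24906 = n24134 := d10_2 (iv F47225) D24906 (iv D24134)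
theorem F49225 : act 3 n24906 = n24251 := d15_1 D24906 F47536 F44691 (iv F43984) F43985 (iv F43994) (iv F47230) (iv D24135) (iv F47224)
def n24907 : Q := act 5 n24132
theorem D24907 : act 5 n24132 = n24907 := rfl
theorem F49226 : act 0 n24907 = n24135 := d4_1 D24907 (iv D24135) (iv F47224)
theorem F49227 : act 3 n24907 = n24133 := d13_1 D24907 (iv D24133) D24132
def n24908 : Q := act 1 n24134
theorem D24908 : act 1 n24134 = n24908 := rfl
theorem F49228 : act 3 n24908 = n24169 := d6_2 (iv F47229) D24908 F47307
theorem F49229 : act 0 n24291 = n24908 := d2_3 F49228 F47306 D24291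
def n24909 : Q := act 5 n24134
theorem D24909 : act 5 n24134 = n24909 := rfl
theorem F49230 : act 2 n24909 = n24135 := d11_1 D24909 (iv D24135) D24134
theorem F49231 : act 3 n24909 = n24252 := d13_1 D24909 (iv D24252) (iv F47229)
def n24910 : Q := act 4 n24135
theorem D24910 : act 4 n24135 = n24910 := rfl
theorem F49232 : act 3 n24910 = n24157 := d12_1 D24910 (iv D24157) F44039 (iv F43995) (iv F47230)
def n24911 : Q := act 5 n24140
theorem D24911 : act 5 n24140 = n24911 := rfl
theorem F49233 : act 0 n24911 = n24142 := d4_1 D24911 (iv D24142) (iv F47239)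
def n24912 : Q := act 2 n24143
theorem D24912 : act 2 n24143 = n24912 := rfl
def n24913 : Q := act 4 n24144
theorem D24913 : act 4 n24144 = n24913 := rfl
theorem F49234 : act 0 n24913 = n24145 := d3_1 D24913 (iv D24145) D24144
theorem F49235 : act 2 n24913 = n24146 := d10_1 D24913 (iv D24146) (iv F47243)
theorem F49236 : act 5 n24913 = n24348 := d14_2 F47471 D24913 F49101 F49100 F47472
def n24914 : Q := act 3 n24146
theorem D24914 : act 3 n24146 = n24914 := rfl
theorem F49237 : act 0 n24914 = n24147 := d2_1 D24914 (iv D24147) (iv F47247)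
def n24915 : Q := act 5 n24146
theorem D24915 : act 5 n24146 = n24915 := rfl
theorem F49238 : act 0 n24915 = n24148 := d4_1 D24915 (iv D24148) (iv F47247)
theorem F49239 : act 2 n24915 = n24348 := d11_1 D24915 (iv F49236) F49235
def n24916 : Q := act 2 n24147
theorem D24916 : act 2 n24147 = n24916 := rfl
def n24917 : Q := act 2 n24149
theorem D24917 : act 2 n24149 = n24917 := rfl
theorem F49240 : act 1 n24917 = n24571 := d5_1 D24917 (iv D24571) (iv F45924) F45925 (iv F47251)
theorem F49241 : act 4 n24917 = n24154 := d10_2 (iv F47252) D24917 (iv D24154)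
theorem F49242 : act 3 n24917 = n24563 := d15_3 F44517 D24149 D24917 (iv D24563) (iv D23568) (iv F45773) F45774 (iv D23068) (iv F44515)
def n24918 : Q := act 5 n24149
theorem D24918 : act 5 n24149 = n24918 := rfl
theorem F49243 : act 1 n24918 = n24151 := d8_1 D24918 (iv D24151) (iv F47251)
theorem F49244 : act 3 n24918 = n24150 := d13_1 D24918 (iv D24150) D24149
def n24919 : Q := act 4 n24151
theorem D24919 : act 4 n24151 = n24919 := rfl
theorem F49245 : act 0 n24919 = n24157 := d3_1 D24919 (iv D24157) (iv F47254)
theorem F49246 : act 2 n24919 = n24804 := d10_1 D24919 F48953 F48269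
theorem F49247 : act 5 n24919 = n24157 := d14_2 D24151 D24919 (iv D24157) (iv D22912) (iv F44031)
def n24920 : Q := act 2 n24152
theorem D24920 : act 2 n24152 = n24920 := rfl
theorem F49248 : act 0 n24920 = n24154 := d1_1 D24920 (iv D24154) (iv F47256)
theorem F49249 : act 3 n24920 = n24834 := d15_1 D24920 (iv D24834) (iv D24000) F43549 F40518 (iv F44038) (iv F47260) (iv D24155) (iv F47256)
def n24921 : Q := act 5 n24152
theorem D24921 : act 5 n24152 = n24921 := rfl
theorem F49250 : act 0 n24921 = n24155 := d4_1 D24921 (iv D24155) (iv F47256)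
theorem F49251 : act 3 n24921 = n24153 := d13_1 D24921 (iv D24153) D24152
def n24922 : Q := act 1 n24154
theorem D24922 : act 1 n24154 = n24922 := rfl
theorem F49252 : act 2 n24922 = n24156 := d5_2 D24154 D24922 (iv D24156) (iv D22911) (iv F44036)
theorem F49253 : act 4 n24922 = n24571 := d7_2 F49241 D24922 (iv F49240)
theorem F49254 : act 0 n24607 = n24922 := d3_3 F49253 F48308 (iv F48410)
theorem F49255 : act 3 n24502 = n24922 := d15_1 D24502 F49252 F47262 (iv D23401) (iv D21827) (iv F41516) D23395 D24460 F48047
def n24923 : Q := act 3 n24154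
theorem D24923 : act 3 n24154 = n24923 := rfl
theorem F49256 : act 0 n24923 = n24834 := d2_1 D24923 (iv F49249) F49248
theorem F49257 : act 1 n24923 = n24502 := d6_1 D24923 F49255 (iv D24922)
theorem F49258 : act 2 n24923 = n24503 := d15_2 D24154 D24923 F48131 F46251 (iv F44042) (iv F47258) (iv F49251) (iv D24921) F47256
theorem F49259 : act 5 n24923 = n24673 := d15_8 (iv D24242) (iv D23094) F40516 F35035 (iv F39845) D22909 D24154 D24923 F48571
def n24924 : Q := act 5 n24154
theorem D24924 : act 5 n24154 = n24924 := rfl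
theorem F49260 : act 2 n24924 = n24155 := d11_1 D24924 (iv D24155) D24154
theorem F49261 : act 3 n24924 = n24673 := d13_1 D24924 (iv F49259) (iv D24923)
def n24925 : Q := act 4 n24155
theorem D24925 : act 4 n24155 = n24925 := rfl
theorem F49262 : act 1 n24925 = n24157 := d7_1 D24925 (iv D24157) (iv F47259)
def n24926 : Q := act 1 n24158
theorem D24926 : act 1 n24158 = n24926 := rfl
theorem F49263 : act 4 n24926 = n24631 := d7_2 (iv F47265) D24926 F48465
def n24927 : Q := act 4 n24168
theorem D24927 : act 4 n24168 = n24927 := rfl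
theorem F49264 : act 0 n24927 = n24269 := d3_1 D24927 (iv D24269) (iv F47302)
theorem F49265 : act 1 n24927 = n24251 := d7_1 D24927 (iv D24251) (iv F47303)
theorem F49266 : act 2 n24927 = n24267 := d10_1 D24927 (iv D24267) (iv F47304)
def n24928 : Q := act 5 n24169
theorem D24928 : act 5 n24169 = n24928 := rfl
theorem F49267 : act 0 n24928 = n24292 := d4_1 D24928 (iv D24292) (iv F47306)
theorem F49268 : act 1 n24928 = n24252 := d8_1 D24928 (iv D24252) (iv F47307)
theorem F49269 : act 2 n24928 = n24170 := d11_1 D24928 (iv D24170) (iv F47308)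
theorem F49270 : act 4 n24928 = n24255 := d14_1 D24928 (iv D24255) (iv D23124) (iv F44163) D24169
def n24929 : Q := act 3 n24172
theorem D24929 : act 3 n24172 = n24929 := rfl
theorem F49271 : act 4 n24929 = n24220 := d12_2 D24172 D24929 (iv D24220) (iv D23056) (iv F44203)
def n24930 : Q := act 4 n24174
theorem D24930 : act 4 n24174 = n24930 := rfl
theorem F49272 : act 0 n24930 = n24175 := d3_1 D24930 (iv D24175) D24174
theorem F49273 : act 1 n24930 = n24320 := d7_1 D24930 F47710 F47338
def n24931 : Q := act 3 n24175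
theorem D24931 : act 3 n24175 = n24931 := rfl
theorem F49274 : act 1 n24931 = n24176 := d6_1 D24931 (iv D24176) (iv F47323)
theorem F49275 : act 4 n24931 = n24897 := d12_2 D24175 D24931 (iv D24897) F47176 (iv F44207)
theorem F49276 : act 5 n24931 = n24285 := d13_2 F48068 D24931 F48069
def n24932 : Q := act 3 n24178
theorem D24932 : act 3 n24178 = n24932 := rfl
theorem F49277 : act 0 n24932 = n24929 := d2_1 D24932 (iv D24929) (iv F47332)
theorem F49278 : act 1 n24932 = n24315 := d6_1 D24932 (iv D24315) (iv F47333)
theorem F49279 : act 4 n24932 = n24179 := d12_2 D24178 D24932 (iv D24179) (iv D22971) D22970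
theorem F49280 : act 5 n24932 = n24832 := d13_2 F48359 D24932 F49018
def n24933 : Q := act 2 n24179
theorem D24933 : act 2 n24179 = n24933 := rfl
theorem F49281 : act 5 n24933 = n24831 := d11_2 (iv F47336) D24933 F49016
def n24934 : Q := act 3 n24181
theorem D24934 : act 3 n24181 = n24934 := rfl
theorem F49282 : act 0 n24934 = n24182 := d2_1 D24934 (iv D24182) (iv F47341)
def n24935 : Q := act 2 n24182
theorem D24935 : act 2 n24182 = n24935 := rfl
def n24936 : Q := act 3 n24183
theorem D24936 : act 3 n24183 = n24936 := rfl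
theorem F49283 : act 1 n24936 = n24220 := d6_1 D24936 (iv D24220) (iv F47344)
def n24937 : Q := act 3 n24184
theorem D24937 : act 3 n24184 = n24937 := rfl
theorem F49284 : act 0 n24937 = n24249 := d2_1 D24937 (iv D24249) (iv F47346)
theorem F49285 : act 1 n24937 = n24185 := d6_1 D24937 (iv D24185) (iv F47347)
theorem F49286 : act 4 n24937 = n24477 := d12_2 D24184 D24937 (iv D24477) F45454 (iv F44267)
def n24938 : Q := act 5 n24184
theorem D24938 : act 5 n24184 = n24938 := rfl
theorem F49287 : act 0 n24938 = n24250 := d4_1 D24938 (iv D24250) (iv F47346)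
theorem F49288 : act 1 n24938 = n24186 := d8_1 D24938 (iv D24186) (iv F47347)
theorem F49289 : act 2 n24938 = n24187 := d11_1 D24938 (iv D24187) (iv F47348)
theorem F49290 : act 4 n24938 = n24194 := d14_1 D24938 (iv D24194) (iv D23001) (iv F44268) D24184
def n24939 : Q := act 2 n24185
theorem D24939 : act 2 n24185 = n24939 := rfl
theorem F49291 : act 0 n24939 = n24485 := d1_1 D24939 F48097 (iv F47349)
theorem F49292 : act 4 n24939 = n24403 := d10_2 (iv F47350) D24939 F47931
theorem F49293 : act 3 n24939 = n24426 := d15_1 D24939 F48610 (iv D24685) F46303 D24163 (iv F47284) (iv F48098) (iv D24486) (iv F47349)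
def n24940 : Q := act 5 n24185
theorem D24940 : act 5 n24185 = n24940 := rfl
theorem F49294 : act 0 n24940 = n24486 := d4_1 D24940 (iv D24486) (iv F47349)
theorem F49295 : act 3 n24940 = n24186 := d13_1 D24940 (iv D24186) D24185
def n24941 : Q := act 0 n24188
theorem D24941 : act 0 n24188 = n24941 := rfl
theorem F49296 : act 1 n24941 = n24715 := d0_2 D24188 D24941 F48695 F46412 (iv F44287)
theorem F49297 : act 2 n24941 = n24750 := d1_2 F48567 D24941 F48790
theorem F49298 : act 3 n24941 = n24709 := d2_2 (iv F47357) D24941 F48681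
theorem F49299 : act 4 n24941 = n24710 := d3_2 (iv F47358) D24941 F48684
theorem F49300 : act 5 n24941 = n24681 := d4_2 (iv F47359) D24941 F48594
def n24942 : Q := act 3 n24189
theorem D24942 : act 3 n24189 = n24942 := rfl
theorem F49301 : act 0 n24942 = n24897 := d2_1 D24942 (iv D24897) (iv F47360)
theorem F49302 : act 1 n24942 = n24934 := d6_1 D24942 (iv D24934) (iv F47361)
theorem F49303 : act 5 n24942 = n24480 := d13_2 (iv F47363) D24942 (iv D24480)
def n24943 : Q := act 5 n24190
theorem D24943 : act 5 n24190 = n24943 := rfl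
theorem F49304 : act 0 n24943 = n24194 := d4_1 D24943 (iv D24194) (iv F47364)
theorem F49305 : act 1 n24943 = n24246 := d8_1 D24943 (iv D24246) (iv F47365)
theorem F49306 : act 2 n24943 = n24191 := d11_1 D24943 (iv D24191) (iv F47366)
theorem F49307 : act 4 n24943 = n24250 := d14_1 D24943 (iv D24250) (iv D23115) (iv F44301) D24190
def n24944 : Q := act 3 n24192
theorem D24944 : act 3 n24192 = n24944 := rfl
theorem F49308 : act 0 n24944 = n24621 := d2_1 D24944 (iv D24621) (iv F47371)
theorem F49309 : act 1 n24944 = n24616 := d6_1 D24944 (iv D24616) (iv F47372)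
theorem F49310 : act 4 n24944 = n24193 := d12_2 D24192 D24944 (iv D24193) (iv D23001) D23000
def n24945 : Q := act 5 n24192
theorem D24945 : act 5 n24192 = n24945 := rfl
theorem F49311 : act 0 n24945 = n24622 := d4_1 D24945 (iv D24622) (iv F47371)
theorem F49312 : act 1 n24945 = n24469 := d8_1 D24945 F48075 (iv F47372)
theorem F49313 : act 2 n24945 = n24300 := d11_1 D24945 (iv D24300) (iv F47373)
theorem F49314 : act 4 n24945 = n24470 := d14_1 D24945 F48077 F45454 (iv F44308) D24192
def n24946 : Q := act 2 n24193
theorem D24946 : act 2 n24193 = n24946 := rfl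
def n24947 : Q := act 5 n24193
theorem D24947 : act 5 n24193 = n24947 := rfl
theorem F49315 : act 3 n24947 = n24194 := d13_1 D24947 (iv D24194) D24193
def n24948 : Q := act 4 n24196
theorem D24948 : act 4 n24196 = n24948 := rfl
theorem F49316 : act 0 n24948 = n24468 := d3_1 D24948 F48072 (iv F47379)
theorem F49317 : act 1 n24948 = n24197 := d7_1 D24948 (iv D24197) D24196
theorem F49318 : act 2 n24948 = n24930 := d10_1 D24948 (iv D24930) (iv F47380)
theorem F49319 : act 5 n24948 = n24465 := d14_2 (iv F47382) D24948 (iv D24465) F47615 (iv D24280)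
def n24949 : Q := act 3 n24197
theorem D24949 : act 3 n24197 = n24949 := rfl
theorem F49320 : act 0 n24949 = n24315 := d2_1 D24949 (iv D24315) (iv F47383)
theorem F49321 : act 2 n24949 = n24275 := d9_1 D24949 (iv D24275) (iv D23152) (iv D21496) (iv F40689) (iv F44425) (iv F47440) F47441 F46845 F43527 (iv F40951) F40952 (iv F42943) (iv F44324) (iv F47384)
theorem F49322 : act 4 n24949 = n24275 := d12_2 D24197 D24949 (iv D24275) F44769 (iv F44321)
theorem F49323 : act 5 n24949 = n24686 := d15_8 F46845 F43527 (iv F40951) F40952 (iv F42943) (iv F44324) (iv F47384) D24949 F48611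
def n24950 : Q := act 5 n24197
theorem D24950 : act 5 n24197 = n24950 := rfl
theorem F49324 : act 0 n24950 = n24216 := d4_1 D24950 F47442 (iv F47383)
theorem F49325 : act 1 n24950 = n24465 := d8_1 D24950 (iv F49319) F49317
theorem F49326 : act 2 n24950 = n24198 := d11_1 D24950 (iv D24198) (iv F47384)
theorem F49327 : act 3 n24950 = n24686 := d13_1 D24950 (iv F49323) (iv D24949)
theorem F49328 : act 4 n24950 = n24215 := d14_1 D24950 F47438 (iv D23200) F44322 D24197
def n24951 : Q := act 3 n24201
theorem D24951 : act 3 n24201 = n24951 := rfl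
theorem F49329 : act 0 n24951 = n24205 := d2_1 D24951 (iv D24205) (iv F47399)
theorem F49330 : act 1 n24951 = n24231 := d6_1 D24951 (iv D24231) (iv F47400)
theorem F49331 : act 4 n24951 = n24202 := d12_2 D24201 D24951 (iv D24202) (iv D23011) D23010
def n24952 : Q := act 5 n24201
theorem D24952 : act 5 n24201 = n24952 := rfl
theorem F49332 : act 0 n24952 = n24206 := d4_1 D24952 (iv D24206) (iv F47399)
theorem F49333 : act 1 n24952 = n24232 := d8_1 D24952 (iv D24232) (iv F47400)
theorem F49334 : act 2 n24952 = n24317 := d11_1 D24952 (iv D24317) (iv F47401)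
theorem F49335 : act 4 n24952 = n24221 := d14_1 D24952 (iv D24221) (iv D23063) (iv F44336) D24201
def n24953 : Q := act 2 n24202
theorem D24953 : act 2 n24202 = n24953 := rfl
theorem F49336 : act 0 n24953 = n24207 := d1_1 D24953 (iv D24207) (iv F47402)
def n24954 : Q := act 3 n24204
theorem D24954 : act 3 n24204 = n24954 := rfl
theorem F49337 : act 0 n24954 = n24316 := d2_1 D24954 (iv D24316) (iv F47407)
theorem F49338 : act 1 n24954 = n24229 := d6_1 D24954 (iv D24229) (iv F47408)
theorem F49339 : act 4 n24954 = n24229 := d12_2 D24204 D24954 (iv D24229) (iv D23076) (iv F44344)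
def n24955 : Q := act 5 n24204
theorem D24955 : act 5 n24204 = n24955 := rfl
theorem F49340 : act 0 n24955 = n24317 := d4_1 D24955 (iv D24317) (iv F47407)
theorem F49341 : act 1 n24955 = n24230 := d8_1 D24955 (iv D24230) (iv F47408)
theorem F49342 : act 2 n24955 = n24206 := d11_1 D24955 (iv D24206) (iv F47409)
theorem F49343 : act 4 n24955 = n24225 := d14_1 D24955 (iv D24225) (iv D23066) (iv F44345) D24204
def n24956 : Q := act 2 n24205
theorem D24956 : act 2 n24205 = n24956 := rfl
theorem F49344 : act 4 n24956 = n24207 := d10_2 (iv F47411) D24956 (iv D24207)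
def n24957 : Q := act 3 n24207
theorem D24957 : act 3 n24207 = n24957 := rfl
def n24958 : Q := act 1 n24208
theorem D24958 : act 1 n24208 = n24958 := rfl
theorem F49345 : act 2 n24958 = n24209 := d5_2 D24208 D24958 (iv D24209) (iv D23021) (iv F44366)
theorem F49346 : act 3 n24958 = n24865 := d6_2 F48304 D24958 F49095
theorem F49347 : act 4 n24958 = n24707 := d7_2 (iv F47415) D24958 F48674
theorem F49348 : act 5 n24958 = n24211 := d8_2 (iv F47416) D24958 (iv D24211)
def n24959 : Q := act 0 n24209
theorem D24959 : act 0 n24209 = n24959 := rfl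
theorem F49349 : act 1 n24959 = n24709 := d0_2 D24209 D24959 F48681 F46379 (iv F44369)
theorem F49350 : act 3 n24959 = n24715 := d2_2 (iv F47417) D24959 F48695
theorem F49351 : act 4 n24959 = n24701 := d3_2 (iv F47418) D24959 F48655
theorem F49352 : act 5 n24959 = n24213 := d4_2 (iv F47419) D24959 (iv D24213)
def n24960 : Q := act 0 n24211
theorem D24960 : act 0 n24211 = n24960 := rfl
theorem F49353 : act 2 n24960 = n24213 := d1_2 (iv F47425) D24960 (iv D24213)
theorem F49354 : act 3 n24960 = n24863 := d2_2 F47427 D24960 F49089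
theorem F49355 : act 4 n24960 = n24700 := d3_2 (iv F47426) D24960 F48653
def n24961 : Q := act 2 n24217
theorem D24961 : act 2 n24217 = n24961 := rfl
theorem F49356 : act 0 n24961 = n24534 := d1_1 D24961 F48212 (iv F47443)
theorem F49357 : act 1 n24961 = n24538 := d5_1 D24961 F48222 (iv F48205) F48206 (iv F47444)
theorem F49358 : act 3 n24961 = n24545 := d9_2 D24217 D24961 F48242 (iv D23766) F42804 D22678 (iv F46331) (iv F48634) F48633 D24744 (iv F49194) F49195 (iv D24219) (iv D23052) (iv F44475)
theorem F49359 : act 4 n24961 = n24532 := d10_2 (iv F47445) D24961 F48206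
theorem F49360 : act 5 n24537 = n24961 := d14_0 F49359 (iv D24532) (iv F46743) (iv F46744) (iv F48220)
def n24962 : Q := act 5 n24217
theorem D24962 : act 5 n24217 = n24962 := rfl
theorem F49361 : act 0 n24962 = n24694 := d4_1 D24962 (iv D24694) (iv F47443)
theorem F49362 : act 1 n24962 = n24278 := d8_1 D24962 F47607 (iv F47444)
theorem F49363 : act 2 n24962 = n24537 := d11_1 D24962 F49360 (iv D24961)
theorem F49364 : act 3 n24962 = n24218 := d13_1 D24962 (iv D24218) D24217
theorem F49365 : act 4 n24962 = n24741 := d14_1 D24962 (iv F48934) F48933 F47607 (iv F47445)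
def n24963 : Q := act 2 n24220
theorem D24963 : act 2 n24220 = n24963 := rfl
theorem F49366 : act 0 n24963 = n24933 := d1_1 D24963 (iv D24933) (iv F47454)
def n24964 : Q := act 2 n24224
theorem D24964 : act 2 n24224 = n24964 := rfl
theorem F49367 : act 0 n24964 = n24917 := d1_1 D24964 (iv D24917) (iv F47464)
theorem F49368 : act 4 n24964 = n24920 := d10_2 (iv F47466) D24964 (iv D24920)
def n24965 : Q := act 5 n24224
theorem D24965 : act 5 n24224 = n24965 := rfl
theorem F49369 : act 0 n24965 = n24918 := d4_1 D24965 (iv D24918) (iv F47464)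
theorem F49370 : act 1 n24965 = n24921 := d8_1 D24965 (iv D24921) (iv F47465)
theorem F49371 : act 3 n24965 = n24225 := d13_1 D24965 (iv D24225) D24224
def n24966 : Q := act 1 n24226
theorem D24966 : act 1 n24226 = n24966 := rfl
theorem F49372 : act 0 n24966 = n24696 := d0_1 D24966 F48640 F46608 (iv F44832) (iv F47470)
theorem F49373 : act 2 n24966 = n24706 := d5_2 D24226 D24966 F48671 F46374 (iv F44533)
theorem F49374 : act 3 n24966 = n24695 := d6_2 F48294 D24966 F48637
theorem F49375 : act 4 n24966 = n24762 := d7_2 F47472 D24966 F48840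
theorem F49376 : act 5 n24966 = n24704 := d8_2 (iv F47471) D24966 F48668
def n24967 : Q := act 5 n24227
theorem D24967 : act 5 n24227 = n24967 := rfl
theorem F49377 : act 0 n24967 = n24290 := d4_1 D24967 (iv D24290) (iv F47473)
theorem F49378 : act 1 n24967 = n24911 := d8_1 D24967 (iv D24911) (iv F47474)
theorem F49379 : act 2 n24967 = n24866 := d11_1 D24967 F49100 (iv F47475)
theorem F49380 : act 3 n24967 = n24287 := d13_1 D24967 (iv D24287) (iv F47476)
theorem F49381 : act 4 n24967 = n24915 := d14_1 D24967 (iv D24915) (iv D24146) (iv F44534) D24227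
def n24968 : Q := act 3 n24228
theorem D24968 : act 3 n24228 = n24968 := rfl
theorem F49382 : act 0 n24968 = n24273 := d2_1 D24968 F47594 (iv F47477)
theorem F49383 : act 1 n24968 = n24331 := d6_1 D24968 F47735 (iv F47478)
theorem F49384 : act 4 n24968 = n24914 := d12_2 D24228 D24968 (iv D24914) (iv D24146) (iv F44538)
theorem F49385 : act 5 n24968 = n24268 := d13_2 (iv F47480) D24968 (iv D24268)
def n24969 : Q := act 2 n24229
theorem D24969 : act 2 n24229 = n24969 := rfl
theorem F49386 : act 0 n24969 = n24318 := d1_1 D24969 (iv D24318) (iv F47481)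
def n24970 : Q := act 5 n24229
theorem D24970 : act 5 n24229 = n24970 := rfl
theorem F49387 : act 0 n24970 = n24319 := d4_1 D24970 (iv D24319) (iv F47481)
theorem F49388 : act 3 n24970 = n24230 := d13_1 D24970 (iv D24230) D24229
def n24971 : Q := act 2 n24231
theorem D24971 : act 2 n24231 = n24971 := rfl
theorem F49389 : act 0 n24971 = n24233 := d1_1 D24971 (iv D24233) (iv F47485)
theorem F49390 : act 3 n24971 = n24819 := d9_2 D24231 D24971 F48985 F46825 F45836 F43098 (iv F44561) (iv F47491) (iv F49006) F49007 F48708 F46829 F45840 (iv D23213) (iv F44558)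
theorem F49391 : act 4 n24971 = n24816 := d10_2 F49200 D24971 (iv F49199)
def n24972 : Q := act 5 n24231
theorem D24972 : act 5 n24231 = n24972 := rfl
theorem F49392 : act 0 n24972 = n24234 := d4_1 D24972 (iv D24234) (iv F47485)
theorem F49393 : act 3 n24972 = n24232 := d13_1 D24972 (iv D24232) D24231
theorem F49394 : act 4 n24972 = n24688 := d14_1 D24972 F48619 (iv F48582) (iv F49201) F49200
def n24973 : Q := act 5 n24235
theorem D24973 : act 5 n24235 = n24973 := rfl
theorem F49395 : act 0 n24973 = n24300 := d4_1 D24973 (iv D24300) (iv F47493)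
theorem F49396 : act 1 n24973 = n24236 := d8_1 D24973 (iv D24236) (iv F47494)
theorem F49397 : act 2 n24973 = n24622 := d11_1 D24973 (iv D24622) (iv F47495)
theorem F49398 : act 4 n24973 = n24241 := d14_1 D24973 (iv D24241) (iv D23093) (iv F44580) D24235
def n24974 : Q := act 3 n24237
theorem D24974 : act 3 n24237 = n24974 := rfl
theorem F49399 : act 0 n24974 = n24254 := d2_1 D24974 (iv D24254) (iv F47499)
theorem F49400 : act 1 n24974 = n24288 := d6_1 D24974 (iv D24288) (iv F47500)
theorem F49401 : act 4 n24974 = n24288 := d12_2 (iv F47501) D24974 (iv D24288) (iv D23173) (iv F44609)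
theorem F49402 : act 2 n24974 = n24774 := d15_2 D24237 D24974 F48882 F48597 F47665 F44854 (iv F44700) (iv D23125) (iv F44586)
def n24975 : Q := act 5 n24237
theorem D24975 : act 5 n24237 = n24975 := rfl
theorem F49403 : act 0 n24975 = n24255 := d4_1 D24975 (iv D24255) (iv F47499)
theorem F49404 : act 1 n24975 = n24289 := d8_1 D24975 (iv D24289) (iv F47500)
theorem F49405 : act 2 n24975 = n24238 := d11_1 D24975 (iv D24238) D24237
theorem F49406 : act 4 n24975 = n24292 := d14_1 D24975 (iv D24292) (iv D23178) (iv F44608) (iv F47501)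
def n24976 : Q := act 3 n24239
theorem D24976 : act 3 n24239 = n24976 := rfl
theorem F49407 : act 0 n24976 = n24477 := d2_1 D24976 (iv D24477) (iv F47506)
theorem F49408 : act 1 n24976 = n24481 := d6_1 D24976 (iv D24481) (iv F47507)
theorem F49409 : act 4 n24976 = n24249 := d12_2 D24239 D24976 (iv D24249) (iv D23115) (iv F44602)
def n24977 : Q := act 5 n24239
theorem D24977 : act 5 n24239 = n24977 := rfl
theorem F49410 : act 0 n24977 = n24470 := d4_1 D24977 F48077 (iv F47506)
theorem F49411 : act 1 n24977 = n24474 := d8_1 D24977 F48087 (iv F47507)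
theorem F49412 : act 2 n24977 = n24241 := d11_1 D24977 (iv D24241) (iv F47508)
theorem F49413 : act 4 n24977 = n24622 := d14_1 D24977 (iv D24622) (iv D23670) (iv F44603) D24239
def n24978 : Q := act 2 n24240
theorem D24978 : act 2 n24240 = n24978 := rfl
theorem F49414 : act 0 n24978 = n24630 := d1_1 D24978 (iv D24630) (iv F47509)
theorem F49415 : act 1 n24978 = n24661 := d5_1 D24978 (iv D24661) F46197 (iv F46070) (iv F47510)
theorem F49416 : act 4 n24978 = n24242 := d10_2 (iv F47511) D24978 (iv D24242)
def n24979 : Q := act 5 n24240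
theorem D24979 : act 5 n24240 = n24979 := rfl
theorem F49417 : act 0 n24979 = n24631 := d4_1 D24979 (iv D24631) (iv F47509)
theorem F49418 : act 1 n24979 = n24633 := d8_1 D24979 (iv D24633) (iv F47510)
theorem F49419 : act 3 n24979 = n24241 := d13_1 D24979 (iv D24241) D24240
def n24980 : Q := act 3 n24242
theorem D24980 : act 3 n24242 = n24980 := rfl
theorem F49420 : act 0 n24980 = n24924 := d2_1 D24980 F49261 F48571
theorem F49421 : act 2 n24980 = n24921 := d9_1 D24980 F49251 F47258 F44042 (iv F46251) (iv F48131) (iv F49258) (iv D24923) (iv D24154) (iv D22909) F39845 (iv F35035) (iv F40516) D23094 D24242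
theorem F49422 : act 5 n24980 = n24920 := d13_2 F49021 D24980 F49249
def n24981 : Q := act 0 n24243
theorem D24981 : act 0 n24243 = n24981 := rfl
theorem F49423 : act 1 n24981 = n24287 := d0_2 D24243 D24981 F47637 F44831 (iv F44610)
theorem F49424 : act 2 n24981 = n24256 := d1_2 (iv F47514) D24981 F47548
theorem F49425 : act 3 n24981 = n24911 := d2_2 (iv F47515) D24981 F49233
theorem F49426 : act 4 n24981 = n24294 := d3_2 (iv F47516) D24981 F47648
theorem F49427 : act 5 n24981 = n24244 := d4_2 (iv F47517) D24981 (iv D24244)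
def n24982 : Q := act 2 n24249
theorem D24982 : act 2 n24249 = n24982 := rfl
def n24983 : Q := act 5 n24249
theorem D24983 : act 5 n24249 = n24983 := rfl
theorem F49428 : act 3 n24983 = n24250 := d13_1 D24983 (iv D24250) D24249
def n24984 : Q := act 5 n24253
theorem D24984 : act 5 n24253 = n24984 := rfl
theorem F49429 : act 0 n24984 = n24289 := d4_1 D24984 (iv D24289) (iv F47539)
theorem F49430 : act 1 n24984 = n24723 := d8_1 D24984 F48713 (iv F47540)
theorem F49431 : act 2 n24984 = n24287 := d11_1 D24984 (iv D24287) (iv F47541)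
theorem F49432 : act 3 n24984 = n24726 := d13_1 D24984 (iv D24726) F47542
def n24985 : Q := act 5 n24254
theorem D24985 : act 5 n24254 = n24985 := rfl
theorem F49433 : act 1 n24985 = n24724 := d8_1 D24985 F48716 (iv F47543)
theorem F49434 : act 2 n24985 = n24771 := d11_1 D24985 (iv F48872) F47545
theorem F49435 : act 3 n24985 = n24255 := d13_1 D24985 (iv D24255) D24254
def n24986 : Q := act 3 n24259
theorem D24986 : act 3 n24259 = n24986 := rfl
theorem F49436 : act 0 n24986 = n24263 := d2_1 D24986 (iv D24263) (iv F47559)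
theorem F49437 : act 5 n24986 = n24638 := d13_2 F48789 D24986 (iv F48788)
def n24987 : Q := act 4 n24262
theorem D24987 : act 4 n24262 = n24987 := rfl
theorem F49438 : act 0 n24987 = n24670 := d3_1 D24987 F48566 F47570
theorem F49439 : act 1 n24987 = n24264 := d7_1 D24987 (iv D24264) D24262
theorem F49440 : act 2 n24987 = n24266 := d10_1 D24987 (iv D24266) (iv F47569)
theorem F49441 : act 5 n24987 = n24310 := d14_2 F47571 D24987 F47687 F47272 (iv F44799)
def n24988 : Q := act 4 n24263
theorem D24988 : act 4 n24263 = n24988 := rfl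
theorem F49442 : act 1 n24988 = n24442 := d7_1 D24988 (iv F48434) F48431
theorem F49443 : act 5 n24988 = n24437 := d14_2 (iv F47578) D24988 (iv D24437) F45294 D23699
def n24989 : Q := act 3 n24264
theorem D24989 : act 3 n24264 = n24989 := rfl
theorem F49444 : act 5 n24989 = n24311 := d13_2 F47573 D24989 (iv D24311)
def n24990 : Q := act 3 n24267
theorem D24990 : act 3 n24267 = n24990 := rfl
theorem F49445 : act 0 n24990 = n24270 := d2_1 D24990 (iv D24270) (iv F47583)
theorem F49446 : act 1 n24990 = n24293 := d6_1 D24990 (iv D24293) (iv F47584)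
theorem F49447 : act 4 n24990 = n24268 := d12_2 D24267 D24990 (iv D24268) (iv D23144) D23143
def n24991 : Q := act 5 n24267
theorem D24991 : act 5 n24267 = n24991 := rfl
theorem F49448 : act 0 n24991 = n24271 := d4_1 D24991 (iv D24271) (iv F47583)
theorem F49449 : act 1 n24991 = n24294 := d8_1 D24991 (iv D24294) (iv F47584)
theorem F49450 : act 4 n24991 = n24287 := d14_1 D24991 (iv D24287) (iv D23172) (iv F44746) D24267
def n24992 : Q := act 2 n24268
theorem D24992 : act 2 n24268 = n24992 := rfl
theorem F49451 : act 0 n24992 = n24272 := d1_1 D24992 (iv D24272) (iv F47585)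
def n24993 : Q := act 3 n24269
theorem D24993 : act 3 n24269 = n24993 := rfl
theorem F49452 : act 1 n24993 = n24291 := d6_1 D24993 (iv D24291) (iv F47587)
theorem F49453 : act 4 n24993 = n24291 := d12_2 D24269 D24993 (iv D24291) (iv D23178) (iv F44751)
def n24994 : Q := act 5 n24269
theorem D24994 : act 5 n24269 = n24994 := rfl
theorem F49454 : act 1 n24994 = n24292 := d8_1 D24994 (iv D24292) (iv F47587)
theorem F49455 : act 2 n24994 = n24271 := d11_1 D24994 (iv D24271) (iv F47588)
theorem F49456 : act 4 n24994 = n24289 := d14_1 D24994 (iv D24289) (iv D23173) (iv F44752) D24269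
def n24995 : Q := act 2 n24270
theorem D24995 : act 2 n24270 = n24995 := rfl
theorem F49457 : act 4 n24995 = n24272 := d10_2 (iv F47590) D24995 (iv D24272)
def n24996 : Q := act 5 n24270
theorem D24996 : act 5 n24270 = n24996 := rfl
theorem F49458 : act 1 n24996 = n24284 := d8_1 D24996 (iv D24284) (iv F47589)
theorem F49459 : act 3 n24996 = n24271 := d13_1 D24996 (iv D24271) D24270
theorem F49460 : act 4 n24996 = n24902 := d14_1 D24996 F49216 F47595 (iv D24273) (iv F47590)
def n24997 : Q := act 1 n24272
theorem D24997 : act 1 n24272 = n24997 := rfl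
theorem F49461 : act 2 n24997 = n24285 := d5_2 D24272 D24997 (iv D24285) (iv D23168) (iv F44754)
def n24998 : Q := act 3 n24272
theorem D24998 : act 3 n24272 = n24998 := rfl
def n24999 : Q := act 5 n24272
theorem D24999 : act 5 n24272 = n24999 := rfl
theorem F49462 : act 2 n24999 = n24273 := d11_1 D24999 (iv D24273) D24272
theorem F49463 : act 4 n24916 = n24999 := d10_0 F49462 (iv F47595) D24916
def n25000 : Q := act 3 n24274
theorem D25000 : act 3 n24274 = n25000 := rfl
theorem F49464 : act 0 n25000 = n24936 := d2_1 D25000 (iv D24936) (iv F47596)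
theorem F49465 : act 1 n25000 = n24275 := d6_1 D25000 (iv D24275) D24274
theorem F49466 : act 5 n25000 = n24685 := d13_2 (iv F47599) D25000 (iv D24685)
def n25001 : Q := act 2 n24281
theorem D25001 : act 2 n24281 = n25001 := rfl
theorem F49467 : act 0 n25001 = n24330 := d1_1 D25001 (iv D24330) (iv F47616)
theorem F49468 : act 4 n25001 = n24295 := d10_2 (iv F47618) D25001 (iv D24295)
theorem F49469 : act 5 n25001 = n24912 := d11_2 (iv F47619) D25001 (iv D24912)
def n25002 : Q := act 1 n24283
theorem D25002 : act 1 n24283 = n25002 := rfl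
theorem F49470 : act 3 n25002 = n24326 := d6_2 (iv F47625) D25002 F47722
theorem F49471 : act 4 n25002 = n24285 := d7_2 (iv F47626) D25002 (iv D24285)
theorem F49472 : act 5 n25002 = n24325 := d8_2 F47627 D25002 F47720
def n25003 : Q := act 0 n24285
theorem D25003 : act 0 n24285 = n25003 := rfl
def n25004 : Q := act 5 n24288
theorem D25004 : act 5 n24288 = n25004 := rfl
theorem F49473 : act 0 n25004 = n24726 := d4_1 D25004 (iv D24726) (iv F47638)
theorem F49474 : act 2 n25004 = n24780 := d11_1 D25004 F48901 F47639
theorem F49475 : act 3 n25004 = n24289 := d13_1 D25004 (iv D24289) D24288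
def n25005 : Q := act 2 n24291
theorem D25005 : act 2 n24291 = n25005 := rfl
def n25006 : Q := act 5 n24291
theorem D25006 : act 5 n24291 = n25006 := rfl
theorem F49476 : act 3 n25006 = n24292 := d13_1 D25006 (iv D24292) D24291
def n25007 : Q := act 2 n24293
theorem D25007 : act 2 n24293 = n25007 := rfl
theorem F49477 : act 0 n25007 = n24295 := d1_1 D25007 (iv D24295) (iv F47646)
theorem F49478 : act 4 n25007 = n24330 := d10_2 (iv F47647) D25007 (iv D24330)
def n25008 : Q := act 5 n24293
theorem D25008 : act 5 n24293 = n25008 := rfl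
theorem F49479 : act 0 n25008 = n24296 := d4_1 D25008 (iv D24296) (iv F47646)
theorem F49480 : act 3 n25008 = n24294 := d13_1 D25008 (iv D24294) D24293
def n25009 : Q := act 1 n24295
theorem D25009 : act 1 n24295 = n25009 := rfl
theorem F49481 : act 2 n25009 = n24297 := d5_2 D24295 D25009 (iv D24297) (iv D23183) (iv F44844)
theorem F49482 : act 5 n24905 = n25009 := d11_0 F49481 F47653 D24905
def n25010 : Q := act 5 n24295
theorem D25010 : act 5 n24295 = n25010 := rfl
theorem F49483 : act 1 n25010 = n24905 := d8_1 D25010 F49482 (iv D25009)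
theorem F49484 : act 2 n25010 = n24296 := d11_1 D25010 (iv D24296) D24295
theorem F49485 : act 3 n25010 = n25009 := d13_1 D25010 (iv F49482) F49222
def n25011 : Q := act 4 n24296
theorem D25011 : act 4 n24296 = n25011 := rfl
theorem F49486 : act 1 n25011 = n24298 := d7_1 D25011 (iv D24298) (iv F47650)
theorem F49487 : act 3 n25011 = n24896 := d12_1 D25011 F49205 (iv F47515) F47516 (iv F47651)
theorem F49488 : act 5 n25011 = n24900 := d14_2 D24296 D25011 F49214 (iv F47619) F47618
def n25012 : Q := act 2 n24299
theorem D25012 : act 2 n24299 = n25012 := rfl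
theorem F49489 : act 0 n25012 = n24768 := d1_1 D25012 F48866 F48232
theorem F49490 : act 1 n25012 = n24755 := d5_1 D25012 (iv D24755) F46582 (iv F46068) (iv F47658)
theorem F49491 : act 4 n25012 = n24301 := d10_2 (iv F47659) D25012 (iv D24301)
def n25013 : Q := act 5 n24299
theorem D25013 : act 5 n24299 = n25013 := rfl
theorem F49492 : act 1 n25013 = n24632 := d8_1 D25013 F48469 (iv F47658)
theorem F49493 : act 3 n25013 = n24300 := d13_1 D25013 (iv D24300) D24299
def n25014 : Q := act 3 n24301
theorem D25014 : act 3 n24301 = n25014 := rfl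
theorem F49494 : act 0 n25014 = n24771 := d2_1 D25014 (iv D24771) (iv F47662)
theorem F49495 : act 1 n25014 = n24756 := d6_1 D25014 (iv D24756) (iv F47663)
theorem F49496 : act 5 n25014 = n24774 := d13_2 F48599 D25014 F48882
def n25015 : Q := act 2 n24303
theorem D25015 : act 2 n24303 = n25015 := rfl
theorem F49497 : act 0 n25015 = n24304 := d1_1 D25015 (iv D24304) (iv F47666)
theorem F49498 : act 4 n25015 = n24843 := d10_2 F47917 D25015 F49045
theorem F49499 : act 5 n25015 = n24718 := d11_2 (iv F47668) D25015 (iv D24718)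
def n25016 : Q := act 3 n24304
theorem D25016 : act 3 n24304 = n25016 := rfl
theorem F49500 : act 1 n25016 = n24849 := d6_1 D25016 (iv D24849) (iv F47669)
theorem F49501 : act 5 n25016 = n24852 := d13_2 (iv F47671) D25016 (iv D24852)
def n25017 : Q := act 2 n24305
theorem D25017 : act 2 n24305 = n25017 := rfl
theorem F49502 : act 0 n25017 = n24308 := d1_1 D25017 (iv D24308) (iv F47672)
theorem F49503 : act 1 n25017 = n24737 := d5_1 D25017 (iv D24737) F46514 (iv F46441) (iv F47673)
theorem F49504 : act 5 n25017 = n24692 := d11_2 F47674 D25017 F48630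
theorem F49505 : act 3 n25017 = n24693 := d15_1 D25017 F48631 F46326 (iv F44730) F44731 (iv F44874) (iv F47684) (iv D24309) (iv F47672)
def n25018 : Q := act 3 n24307
theorem D25018 : act 3 n24307 = n25018 := rfl
theorem F49506 : act 0 n25018 = n24311 := d2_1 D25018 (iv D24311) (iv F47680)
theorem F49507 : act 1 n25018 = n24858 := d6_1 D25018 F49075 F48589
theorem F49508 : act 4 n25018 = n24857 := d12_2 (iv F47681) D25018 F49071 F48199 (iv F47268)
theorem F49509 : act 2 n25018 = n24852 := d15_2 D24307 D25018 (iv D24852) F46919 F45614 F43792 (iv F44724) (iv F44725) (iv F44869)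
def n25019 : Q := act 1 n24308
theorem D25019 : act 1 n24308 = n25019 := rfl
theorem F49510 : act 2 n25019 = n24926 := d5_2 D24308 D25019 (iv D24926) (iv D24158) (iv F44872)
def n25020 : Q := act 3 n24308
theorem D25020 : act 3 n24308 = n25020 := rfl
theorem F49511 : act 0 n25020 = n24693 := d2_1 D25020 (iv F49505) F49502
theorem F49512 : act 2 n25020 = n24690 := d9_1 D25020 F48624 (iv F47566) F47567 (iv F47677) F47678 (iv F48630) (iv D24692) (iv D23786) (iv D22397) (iv F40660) F40661 (iv F40870) D23194 D24308
theorem F49513 : act 5 n25020 = n24689 := d15_8 (iv D23786) (iv D22397) (iv F40660) F40661 (iv F40870) D23194 D24308 D25020 F48620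
def n25021 : Q := act 5 n24308
theorem D25021 : act 5 n24308 = n25021 := rfl
theorem F49514 : act 0 n25021 = n24692 := d4_1 D25021 (iv F49504) F49502
theorem F49515 : act 2 n25021 = n24309 := d11_1 D25021 (iv D24309) D24308
theorem F49516 : act 3 n25021 = n24689 := d13_1 D25021 (iv F49513) (iv D25020)
theorem F49517 : act 4 n25021 = n24502 := d14_1 D25021 (iv F48782) F48781 (iv F48483) F48482
def n25022 : Q := act 3 n24310
theorem D25022 : act 3 n24310 = n25022 := rfl
theorem F49518 : act 1 n25022 = n24311 := d6_1 D25022 (iv D24311) D24310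
theorem F49519 : act 4 n25022 = n24444 := d12_2 (iv F47687) D25022 F48012 D24445 (iv F48016)
def n25023 : Q := act 2 n24311
theorem D25023 : act 2 n24311 = n25023 := rfl
theorem F49520 : act 0 n25023 = n24852 := d1_1 D25023 (iv F49509) F49506
theorem F49521 : act 3 n25023 = n24718 := d15_3 D23196 D24311 D25023 (iv D24718) (iv D23830) (iv F43842) D24096 F47103 F44869
def n25024 : Q := act 4 n24314
theorem D25024 : act 4 n24314 = n25024 := rfl
theorem F49522 : act 0 n25024 = n24590 := d3_1 D25024 (iv D24590) (iv F47696)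
theorem F49523 : act 1 n25024 = n24629 := d7_1 D25024 (iv D24629) (iv F47697)
theorem F49524 : act 2 n25024 = n24593 := d10_1 D25024 (iv D24593) (iv F47698)
theorem F49525 : act 3 n25024 = n24734 := d12_1 D25024 (iv D24734) (iv D23859) (iv F44899) D24314
theorem F49526 : act 5 n25024 = n25024 := d14_2 (iv F47699) D25024 (iv D25024) F47699 F45957
def n25025 : Q := act 2 n24316
theorem D25025 : act 2 n24316 = n25025 := rfl
theorem F49527 : act 4 n25025 = n24318 := d10_2 (iv F47704) D25025 (iv D24318)
def n25026 : Q := act 5 n24316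
theorem D25026 : act 5 n24316 = n25026 := rfl
theorem F49528 : act 1 n25026 = n24907 := d8_1 D25026 (iv D24907) (iv F47703)
theorem F49529 : act 3 n25026 = n24317 := d13_1 D25026 (iv D24317) D24316
def n25027 : Q := act 1 n24318
theorem D25027 : act 1 n24318 = n25027 := rfl
theorem F49530 : act 2 n25027 = n24908 := d5_2 D24318 D25027 (iv D24908) (iv D24134) (iv F44903)
theorem F49531 : act 0 n25005 = n25027 := d1_3 F49530 (iv F49229) D25005
def n25028 : Q := act 3 n24318
theorem D25028 : act 3 n24318 = n25028 := rfl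
theorem F49532 : act 5 n25028 = n25027 := d15_8 (iv D25005) (iv D24291) F44839 F40842 (iv F40966) D23208 D24318 D25028 (iv F49531)
def n25029 : Q := act 5 n24318
theorem D25029 : act 5 n24318 = n25029 := rfl
theorem F49533 : act 1 n25029 = n25028 := d8_1 D25029 F49532 (iv D25027)
theorem F49534 : act 2 n25029 = n24319 := d11_1 D25029 (iv D24319) D24318
theorem F49535 : act 3 n25029 = n25027 := d13_1 D25029 (iv F49532) (iv D25028)
def n25030 : Q := act 4 n24319
theorem D25030 : act 4 n24319 = n25030 := rfl
theorem F49536 : act 1 n25030 = n24910 := d7_1 D25030 (iv D24910) (iv F47707)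
theorem F49537 : act 3 n25030 = n24925 := d12_1 D25030 (iv D24925) F47260 (iv F44906) (iv F47708)
def n25031 : Q := act 3 n24320
theorem D25031 : act 3 n24320 = n25031 := rfl
theorem F49538 : act 0 n25031 = n24321 := d2_1 D25031 (iv D24321) D24320
theorem F49539 : act 4 n25031 = n24934 := d12_2 (iv F47710) D25031 (iv D24934) (iv D24181) D24180
def n25032 : Q := act 2 n24321
theorem D25032 : act 2 n24321 = n25032 := rfl
theorem F49540 : act 1 n25032 = n24912 := d5_1 D25032 (iv D24912) F47242 (iv F44910) (iv F47711)
theorem F49541 : act 4 n25032 = n24935 := d10_2 (iv F47712) D25032 (iv D24935)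
theorem F49542 : act 3 n25032 = n25001 := d15_3 F44944 D24321 D25032 (iv D25001) (iv D24281) F44805 (iv F44937) (iv F47378) F47375
def n25033 : Q := act 3 n24322
theorem D25033 : act 3 n24322 = n25033 := rfl
theorem F49543 : act 0 n25033 = n24881 := d2_1 D25033 F49154 F47747
theorem F49544 : act 1 n25033 = n24323 := d6_1 D25033 (iv D24323) D24322
theorem F49545 : act 4 n25033 = n24471 := d12_2 (iv F47714) D25033 (iv D24471) (iv D23420) (iv F45430)
theorem F49546 : act 5 n25033 = n24823 := d13_2 F47744 D25033 F48995
def n25034 : Q := act 2 n24323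
theorem D25034 : act 2 n24323 = n25034 := rfl
theorem F49547 : act 0 n25034 = n24721 := d1_1 D25034 F48708 (iv F47715)
theorem F49548 : act 4 n25034 = n24717 := d10_2 (iv F47716) D25034 F48699
theorem F49549 : act 5 n25034 = n24819 := d11_2 (iv F47717) D25034 F48985
def n25035 : Q := act 3 n24324
theorem D25035 : act 3 n24324 = n25035 := rfl
theorem F49550 : act 0 n25035 = n24325 := d2_1 D25035 (iv D24325) D24324
theorem F49551 : act 1 n25035 = n24904 := d6_1 D25035 (iv D24904) (iv F47718)
theorem F49552 : act 4 n25035 = n24480 := d12_2 (iv F47719) D25035 (iv D24480) F45461 D23432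
def n25036 : Q := act 2 n24325
theorem D25036 : act 2 n24325 = n25036 := rfl
theorem F49553 : act 4 n25036 = n24901 := d10_2 (iv F47721) D25036 (iv D24901)
def n25037 : Q := act 4 n24327
theorem D25037 : act 4 n24327 = n25037 := rfl
theorem F49554 : act 0 n25037 = n24467 := d3_1 D25037 (iv D24467) (iv F47724)
theorem F49555 : act 1 n25037 = n24328 := d7_1 D25037 (iv D24328) D24327
theorem F49556 : act 2 n25037 = n24465 := d10_1 D25037 (iv D24465) (iv F47725)
theorem F49557 : act 5 n25037 = n24930 := d14_2 (iv F47727) D25037 (iv D24930) F47322 (iv F45382)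
theorem F49558 : act 3 n25003 = n25037 := d2_0 F49554 (iv F48069) D25003
def n25038 : Q := act 3 n24328
theorem D25038 : act 3 n24328 = n25038 := rfl
theorem F49559 : act 0 n25038 = n24329 := d2_1 D25038 (iv D24329) (iv F47728)
theorem F49560 : act 1 n25038 = n25003 := d6_1 D25038 F49558 F49555
theorem F49561 : act 4 n25038 = n24333 := d12_2 D24328 D25038 (iv D24333) (iv D23234) (iv F44935)
theorem F49562 : act 5 n25038 = n25031 := d13_2 (iv F47730) D25038 (iv D25031)
def n25039 : Q := act 2 n24329
theorem D25039 : act 2 n24329 = n25039 := rfl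
theorem F49563 : act 1 n25039 = n25001 := d5_1 D25039 (iv D25001) F47617 D24282 (iv F47731)
theorem F49564 : act 4 n25039 = n25009 := d10_2 (iv F47732) D25039 F49481
theorem F49565 : act 5 n25039 = n25032 := d11_2 (iv F47733) D25039 (iv D25032)
theorem F49566 : act 3 n25039 = n24912 := d15_1 D25039 (iv D24912) (iv D24143) (iv F44948) (iv F47377) (iv F47709) D25031 (iv F49562) F49559
def n25040 : Q := act 1 n24330
theorem D25040 : act 1 n24330 = n25040 := rfl
def n25041 : Q := act 3 n24330
theorem D25041 : act 3 n24330 = n25041 := rfl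
theorem F49567 : act 0 n25041 = n25032 := d2_1 D25041 F49542 F49467
theorem F49568 : act 2 n25041 = n25031 := d9_1 D25041 (iv D25031) F47709 F47377 F44948 D24143 D24912 (iv F49566) (iv D25039) (iv D24329) F44941 F41014 (iv F41024) D23228 D24330
def n25042 : Q := act 5 n24330
theorem D25042 : act 5 n24330 = n25042 := rfl
theorem F49569 : act 0 n25042 = n24912 := d4_1 D25042 (iv F49469) F49467
theorem F49570 : act 2 n25042 = n24331 := d11_1 D25042 (iv D24331) D24330
def n25043 : Q := act 4 n24331
theorem D25043 : act 4 n24331 = n25043 := rfl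
theorem F49571 : act 0 n25043 = n24900 := d3_1 D25043 F49214 (iv F47734)
theorem F49572 : act 1 n25043 = n24914 := d7_1 D25043 (iv F49384) F49383
theorem F49573 : act 3 n25043 = n24899 := d12_1 D25043 F49212 F47237 (iv F44952) (iv F47735)
def n25044 : Q := act 3 n24332
theorem D25044 : act 3 n24332 = n25044 := rfl
theorem F49574 : act 0 n25044 = n25002 := d2_1 D25044 F49470 (iv F47736)
theorem F49575 : act 1 n25044 = n24333 := d6_1 D25044 (iv D24333) (iv F47737)
theorem F49576 : act 4 n25044 = n25003 := d12_2 D24332 D25044 F49558 (iv D25037) F47726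
theorem F49577 : act 5 n25044 = n25035 := d13_2 (iv F47739) D25044 (iv D25035)
def n25045 : Q := act 2 n24333
theorem D25045 : act 2 n24333 = n25045 := rfl
theorem F49578 : act 0 n25045 = n25009 := d1_1 D25045 F49481 (iv F47740)
def n25046 : Q := act 2 n24335
theorem D25046 : act 2 n24335 = n25046 := rfl
theorem F49579 : act 4 n25046 = n24450 := d10_2 (iv F47746) D25046 F48026
def n25047 : Q := act 2 n24339
theorem D25047 : act 2 n24339 = n25047 := rfl
theorem F49580 : act 0 n25047 = n24343 := d1_1 D25047 (iv D24343) (iv F47761)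
theorem F49581 : act 4 n25047 = n24340 := d10_2 (iv F47763) D25047 (iv D24340)
def n25048 : Q := act 1 n24340
theorem D25048 : act 1 n24340 = n25048 := rfl
def n25049 : Q := act 2 n24342
theorem D25049 : act 2 n24342 = n25049 := rfl
theorem F49582 : act 0 n25049 = n24722 := d1_1 D25049 (iv D24722) (iv F47768)
theorem F49583 : act 1 n25049 = n24834 := d5_1 D25049 (iv D24834) F46860 (iv F45039) (iv F47769)
theorem F49584 : act 4 n25049 = n24739 := d10_2 (iv F47770) D25049 (iv D24739)
theorem F49585 : act 5 n25049 = n24833 := d11_2 (iv F47771) D25049 (iv D24833)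
def n25050 : Q := act 3 n24343
theorem D25050 : act 3 n24343 = n25050 := rfl
theorem F49586 : act 1 n25050 = n24611 := d6_1 D25050 (iv D24611) (iv F47772)
def n25051 : Q := act 5 n24343
theorem D25051 : act 5 n24343 = n25051 := rfl
theorem F49587 : act 1 n25051 = n24612 := d8_1 D25051 (iv D24612) (iv F47772)
theorem F49588 : act 2 n25051 = n24344 := d11_1 D25051 (iv D24344) D24343
theorem F49589 : act 4 n25051 = n24691 := d14_1 D25051 (iv F49142) F49141 (iv D24347) (iv F47773)
def n25052 : Q := act 3 n24345
theorem D25052 : act 3 n24345 = n25052 := rfl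
theorem F49590 : act 1 n25052 = n24346 := d6_1 D25052 (iv D24346) D24345
def n25053 : Q := act 5 n24345
theorem D25053 : act 5 n24345 = n25053 := rfl
theorem F49591 : act 1 n25053 = n24347 := d8_1 D25053 (iv D24347) D24345
theorem F49592 : act 2 n25053 = n24351 := d11_1 D25053 F47787 (iv F47777)
theorem F49593 : act 4 n25053 = n24693 := d14_1 D25053 (iv D24693) F48428 (iv D24612) (iv F47778)
def n25054 : Q := act 4 n24346
theorem D25054 : act 4 n24346 = n25054 := rfl
def n25055 : Q := act 3 n24348
theorem D25055 : act 3 n24348 = n25055 := rfl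
theorem F49594 : act 0 n25055 = n24349 := d2_1 D25055 (iv D24349) D24348
def n25056 : Q := act 2 n24349
theorem D25056 : act 2 n24349 = n25056 := rfl
def n25057 : Q := act 3 n24350
theorem D25057 : act 3 n24350 = n25057 := rfl
theorem F49595 : act 0 n25057 = n24895 := d2_1 D25057 (iv D24895) (iv F47781)
theorem F49596 : act 1 n25057 = n24480 := d6_1 D25057 (iv D24480) (iv F47782)
theorem F49597 : act 4 n25057 = n24904 := d12_2 D24350 D25057 (iv D24904) (iv D24129) F45014
theorem F49598 : act 5 n25057 = n24934 := d13_2 (iv F47784) D25057 (iv D24934)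
def n25058 : Q := act 4 n24357
theorem D25058 : act 4 n24357 = n25058 := rfl
theorem F49599 : act 0 n25058 = n24665 := d3_1 D25058 (iv D24665) (iv F47810)
theorem F49600 : act 1 n25058 = n24652 := d7_1 D25058 F48522 (iv F47811)
theorem F49601 : act 2 n25058 = n24654 := d10_1 D25058 F48531 (iv F47812)
theorem F49602 : act 3 n25058 = n24655 := d12_1 D25058 F48534 F47818 (iv D24358) D24357
def n25059 : Q := act 2 n24359
theorem D25059 : act 2 n24359 = n25059 := rfl
theorem F49603 : act 0 n25059 = n24360 := d1_1 D25059 (iv D24360) (iv F47819)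
theorem F49604 : act 3 n25059 = n24421 := d9_2 D24359 D25059 (iv D24421) (iv D23344) (iv F41611) F41612 F41356 D21761 D23345 (iv F47826) (iv D24360) (iv D23285) (iv F45080) (iv F45419) F45418
theorem F49605 : act 4 n25059 = n24404 := d10_2 (iv F47821) D25059 (iv D24404)
theorem F49606 : act 5 n25059 = n24421 := d11_2 (iv F47822) D25059 (iv D24421)
def n25060 : Q := act 4 n24362
theorem D25060 : act 4 n24362 = n25060 := rfl
theorem F49607 : act 1 n25060 = n24363 := d7_1 D25060 (iv D24363) (iv F47831)
theorem F49608 : act 3 n25060 = n24660 := d12_1 D25060 (iv D24660) F46196 F45093 D24362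
def n25061 : Q := act 3 n24363
theorem D25061 : act 3 n24363 = n25061 := rfl
theorem F49609 : act 0 n25061 = n24370 := d2_1 D25061 (iv D24370) (iv F47833)
theorem F49610 : act 1 n25061 = n24660 := d6_1 D25061 (iv F49608) F49607
theorem F49611 : act 4 n25061 = n24364 := d12_2 D24363 D25061 (iv D24364) (iv D23288) D23287
theorem F49612 : act 2 n24401 = n25061 := d10_3 F49611 F47837 D24401
def n25062 : Q := act 5 n24363
theorem D25062 : act 5 n24363 = n25062 := rfl
theorem F49613 : act 0 n25062 = n24371 := d4_1 D25062 (iv D24371) (iv F47833)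
theorem F49614 : act 2 n25062 = n24988 := d11_1 D25062 F49443 F48003
theorem F49615 : act 4 n25062 = n24501 := d14_1 D25062 (iv D24501) F45513 (iv F45095) D24363
def n25063 : Q := act 3 n24365
theorem D25063 : act 3 n24365 = n25063 := rfl
theorem F49616 : act 0 n25063 = n24367 := d2_1 D25063 (iv D24367) (iv F47838)
theorem F49617 : act 1 n25063 = n24643 := d6_1 D25063 F48501 (iv F47839)
theorem F49618 : act 5 n25063 = n24383 := d13_2 (iv F47841) D25063 (iv D24383)
def n25064 : Q := act 3 n24366
theorem D25064 : act 3 n24366 = n25064 := rfl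
theorem F49619 : act 1 n25064 = n24370 := d6_1 D25064 (iv D24370) (iv F47842)
theorem F49620 : act 4 n25064 = n24367 := d12_2 D24366 D25064 (iv D24367) (iv D23291) D23290
def n25065 : Q := act 5 n24366
theorem D25065 : act 5 n24366 = n25065 := rfl
theorem F49621 : act 0 n25065 = n24615 := d4_1 D25065 F48436 F48009
theorem F49622 : act 1 n25065 = n24371 := d8_1 D25065 (iv D24371) (iv F47842)
theorem F49623 : act 4 n25065 = n24412 := d14_1 D25065 (iv D24412) F45208 (iv F45103) D24366
def n25066 : Q := act 2 n24367
theorem D25066 : act 2 n24367 = n25066 := rfl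
theorem F49624 : act 5 n25066 = n24386 := d11_2 (iv F47844) D25066 (iv D24386)
def n25067 : Q := act 4 n24368
theorem D25067 : act 4 n24368 = n25067 := rfl
theorem F49625 : act 1 n25067 = n24369 := d7_1 D25067 (iv D24369) D24368
def n25068 : Q := act 3 n24369
theorem D25068 : act 3 n24369 = n25068 := rfl
def n25069 : Q := act 5 n24369
theorem D25069 : act 5 n24369 = n25069 := rfl
theorem F49626 : act 0 n25069 = n24988 := d4_1 D25069 F49443 F48001
theorem F49627 : act 2 n25069 = n24371 := d11_1 D25069 (iv D24371) (iv F47847)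
theorem F49628 : act 4 n25069 = n24986 := d14_1 D25069 F49437 (iv D24638) F46110 D24369
def n25070 : Q := act 2 n24370
theorem D25070 : act 2 n24370 = n25070 := rfl
theorem F49629 : act 0 n25070 = n24401 := d1_1 D25070 F49612 F49609
theorem F49630 : act 4 n25070 = n24373 := d10_2 (iv F47848) D25070 (iv D24373)
def n25071 : Q := act 5 n24370
theorem D25071 : act 5 n24370 = n25071 := rfl
theorem F49631 : act 3 n25071 = n24371 := d13_1 D25071 (iv D24371) D24370
theorem F49632 : act 4 n25071 = n24388 := d14_1 D25071 (iv D24388) F45151 (iv F45110) (iv F47848)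
def n25072 : Q := act 4 n24371
theorem D25072 : act 4 n24371 = n25072 := rfl
theorem F49633 : act 0 n25072 = n24501 := d3_1 D25072 (iv F49615) F49613
theorem F49634 : act 1 n25072 = n24412 := d7_1 D25072 (iv F49623) F49622
theorem F49635 : act 2 n25072 = n24986 := d10_1 D25072 (iv F49628) F49627
theorem F49636 : act 3 n25072 = n24380 := d12_1 D25072 F47881 (iv F47900) (iv F49632) F49631
theorem F49637 : act 5 n25072 = n24372 := d14_2 D24371 D25072 (iv D24372) (iv D23294) D23293
def n25073 : Q := act 1 n24373
theorem D25073 : act 1 n24373 = n25073 := rfl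
theorem F49638 : act 3 n25073 = n24395 := d6_2 (iv F47854) D25073 (iv D24395)
theorem F49639 : act 5 n25073 = n24389 := d8_2 (iv F47853) D25073 (iv D24389)
def n25074 : Q := act 2 n24374
theorem D25074 : act 2 n24374 = n25074 := rfl
theorem F49640 : act 0 n25074 = n24375 := d1_1 D25074 (iv D24375) (iv F47855)
theorem F49641 : act 4 n25074 = n24422 := d10_2 (iv F47857) D25074 (iv D24422)
theorem F49642 : act 5 n25074 = n24390 := d11_2 (iv F47858) D25074 (iv D24390)
def n25075 : Q := act 3 n24375
theorem D25075 : act 3 n24375 = n25075 := rfl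
theorem F49643 : act 1 n25075 = n24403 := d6_1 D25075 (iv D24403) (iv F47859)
theorem F49644 : act 5 n25075 = n24391 := d13_2 (iv F47861) D25075 (iv D24391)
def n25076 : Q := act 1 n24376
theorem D25076 : act 1 n24376 = n25076 := rfl
theorem F49645 : act 0 n25076 = n24812 := d0_1 D25076 (iv D24812) F46811 (iv F45121) (iv F47862)
theorem F49646 : act 2 n25076 = n24808 := d5_2 D24376 D25076 (iv D24808) (iv D23971) (iv F45118)
theorem F49647 : act 3 n25076 = n24389 := d6_2 (iv F47863) D25076 (iv D24389)
theorem F49648 : act 4 n25076 = n24812 := d7_2 (iv F47864) D25076 (iv D24812)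
theorem F49649 : act 5 n25076 = n24395 := d8_2 (iv F47865) D25076 (iv D24395)
def n25077 : Q := act 4 n24377
theorem D25077 : act 4 n24377 = n25077 := rfl
theorem F49650 : act 0 n25077 = n24387 := d3_1 D25077 F47899 (iv F47866)
theorem F49651 : act 1 n25077 = n24814 := d7_1 D25077 (iv D24814) (iv F47867)
theorem F49652 : act 2 n25077 = n24381 := d10_1 D25077 F47884 (iv F47868)
theorem F49653 : act 3 n25077 = n24814 := d12_1 D25077 (iv D24814) (iv D23976) (iv F45122) D24377
def n25078 : Q := act 1 n24378
theorem D25078 : act 1 n24378 = n25078 := rfl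
theorem F49654 : act 0 n25078 = n24414 := d0_1 D25078 (iv D24414) F45211 (iv F45133) (iv F47870)
theorem F49655 : act 2 n25078 = n24406 := d5_2 D24378 D25078 (iv D24406) (iv D23330) (iv F45130)
theorem F49656 : act 3 n25078 = n24510 := d6_2 (iv F47871) D25078 (iv D24510)
theorem F49657 : act 4 n25078 = n24414 := d7_2 (iv F47872) D25078 (iv D24414)
theorem F49658 : act 5 n25078 = n24427 := d8_2 (iv F47873) D25078 (iv D24427)
def n25079 : Q := act 5 n24381
theorem D25079 : act 5 n24381 = n25079 := rfl
theorem F49659 : act 0 n25079 = n24388 := d4_1 D25079 (iv D24388) (iv F47882)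
theorem F49660 : act 1 n25079 = n24641 := d8_1 D25079 (iv D24641) (iv F47883)
theorem F49661 : act 3 n25079 = n24382 := d13_1 D25079 (iv D24382) D24381
def n25080 : Q := act 2 n24383
theorem D25080 : act 2 n24383 = n25080 := rfl
theorem F49662 : act 0 n25080 = n24386 := d1_1 D25080 (iv D24386) (iv F47889)
theorem F49663 : act 4 n25080 = n24478 := d10_2 (iv F47891) D25080 (iv D24478)
def n25081 : Q := act 2 n24384
theorem D25081 : act 2 n24384 = n25081 := rfl
theorem F49664 : act 0 n25081 = n24478 := d1_1 D25081 (iv D24478) (iv F47892)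
theorem F49665 : act 4 n25081 = n24386 := d10_2 (iv F47894) D25081 (iv D24386)
def n25082 : Q := act 5 n24384
theorem D25082 : act 5 n24384 = n25082 := rfl
theorem F49666 : act 0 n25082 = n24479 := d4_1 D25082 (iv D24479) (iv F47892)
theorem F49667 : act 1 n25082 = n24388 := d8_1 D25082 (iv D24388) (iv F47893)
theorem F49668 : act 3 n25082 = n24385 := d13_1 D25082 (iv D24385) D24384
def n25083 : Q := act 1 n24386
theorem D25083 : act 1 n24386 = n25083 := rfl
theorem F49669 : act 2 n25083 = n24389 := d5_2 D24386 D25083 (iv D24389) (iv D23311) (iv F45150)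
def n25084 : Q := act 3 n24386
theorem D25084 : act 3 n24386 = n25084 := rfl
def n25085 : Q := act 1 n24387
theorem D25085 : act 1 n24387 = n25085 := rfl
theorem F49670 : act 4 n25085 = n24389 := d7_2 (iv F47899) D25085 (iv D24389)
def n25086 : Q := act 3 n24387
theorem D25086 : act 3 n24387 = n25086 := rfl
theorem F49671 : act 0 n25086 = n24814 := d2_1 D25086 (iv F49653) F49650
theorem F49672 : act 4 n25086 = n24813 := d12_2 (iv F47899) D25086 (iv D24813) (iv F47864) F47863
def n25087 : Q := act 5 n24387
theorem D25087 : act 5 n24387 = n25087 := rfl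
theorem F49673 : act 2 n25087 = n24388 := d11_1 D25087 (iv D24388) D24387
def n25088 : Q := act 0 n24389
theorem D25088 : act 0 n24389 = n25088 := rfl
theorem F49674 : act 1 n25088 = n24813 := d0_2 D24389 D25088 F48973 (iv F47867) F47866
theorem F49675 : act 3 n25088 = n24812 := d2_2 F49647 D25088 (iv F49645)
def n25089 : Q := act 1 n24390
theorem D25089 : act 1 n24390 = n25089 := rfl
theorem F49676 : act 0 n25089 = n24406 := d0_1 D25089 (iv D24406) F45201 (iv F45155) (iv F47901)
theorem F49677 : act 2 n25089 = n24414 := d5_2 D24390 D25089 (iv D24414) (iv D23337) (iv F45153)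
theorem F49678 : act 4 n25089 = n24406 := d7_2 (iv F47902) D25089 (iv D24406)
def n25090 : Q := act 3 n24390
theorem D25090 : act 3 n24390 = n25090 := rfl
theorem F49679 : act 0 n25090 = n24391 := d2_1 D25090 (iv D24391) (iv F47901)
def n25091 : Q := act 2 n24391
theorem D25091 : act 2 n24391 = n25091 := rfl
def n25092 : Q := act 4 n24391
theorem D25092 : act 4 n24391 = n25092 := rfl
theorem F49680 : act 1 n25092 = n24409 := d7_1 D25092 (iv D24409) (iv F47903)
theorem F49681 : act 3 n25092 = n24409 := d12_1 D25092 (iv D24409) (iv D23331) (iv F45156) D24391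
def n25093 : Q := act 1 n24392
theorem D25093 : act 1 n24392 = n25093 := rfl
theorem F49682 : act 2 n25093 = n24395 := d5_2 D24392 D25093 (iv D24395) (iv D23317) (iv F45158)
theorem F49683 : act 3 n25093 = n24887 := d6_2 (iv F47907) D25093 (iv D24887)
theorem F49684 : act 4 n25093 = n24456 := d7_2 (iv F47905) D25093 (iv D24456)
theorem F49685 : act 5 n25093 = n24808 := d8_2 (iv F47906) D25093 (iv D24808)
def n25094 : Q := act 1 n24393
theorem D25094 : act 1 n24393 = n25094 := rfl
theorem F49686 : act 2 n25094 = n24456 := d5_2 D24393 D25094 (iv D24456) (iv D23390) (iv F45162)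
theorem F49687 : act 4 n25094 = n24395 := d7_2 (iv F47909) D25094 (iv D24395)
def n25095 : Q := act 3 n24393
theorem D25095 : act 3 n24393 = n25095 := rfl
theorem F49688 : act 0 n25095 = n24398 := d2_1 D25095 (iv D24398) (iv F47908)
def n25096 : Q := act 5 n24393
theorem D25096 : act 5 n24393 = n25096 := rfl
theorem F49689 : act 0 n25096 = n24397 := d4_1 D25096 (iv F47920) (iv F47908)
theorem F49690 : act 2 n25096 = n24394 := d11_1 D25096 (iv D24394) D24393
theorem F49691 : act 4 n25096 = n24399 := d14_1 D25096 F47922 (iv F47864) F47865 (iv F47909)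
def n25097 : Q := act 0 n24395
theorem D25097 : act 0 n24395 = n25097 := rfl
theorem F49692 : act 1 n25097 = n24399 := d0_2 D24395 D25097 (iv D24399) (iv D23322) (iv F45168)
theorem F49693 : act 5 n25097 = n24812 := d4_2 F49649 D25097 (iv F49645)
def n25098 : Q := act 4 n24398
theorem D25098 : act 4 n24398 = n25098 := rfl
theorem F49694 : act 3 n25098 = n24401 := d12_1 D25098 (iv D24401) (iv D23323) (iv F45176) D24398
def n25099 : Q := act 3 n24399
theorem D25099 : act 3 n24399 = n25099 := rfl
theorem F49695 : act 0 n25099 = n24400 := d2_1 D25099 (iv D24400) D24399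
theorem F49696 : act 5 n25099 = n24813 := d13_2 (iv F47922) D25099 (iv D24813)
theorem F49697 : act 2 n25099 = n24811 := d15_2 (iv F47921) D25099 (iv D24811) (iv D23974) (iv D22660) F39098 D20825 (iv F41387) D23354
def n25100 : Q := act 2 n24400
theorem D25100 : act 2 n24400 = n25100 := rfl
theorem F49698 : act 0 n25100 = n24811 := d1_1 D25100 (iv F49697) F49695
theorem F49699 : act 1 n25100 = n24659 := d5_1 D25100 F48541 (iv F47835) F47837 (iv F47923)
theorem F49700 : act 5 n25100 = n24657 := d11_2 (iv F47924) D25100 F48540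
theorem F49701 : act 3 n25100 = n24810 := d15_1 D25100 (iv D24810) (iv D23973) F43469 D22661 D23975 D24813 (iv F49696) F49695
def n25101 : Q := act 4 n24400
theorem D25101 : act 4 n24400 = n25101 := rfl
theorem F49702 : act 1 n25101 = n24401 := d7_1 D25101 (iv D24401) (iv F47923)
def n25102 : Q := act 5 n24401
theorem D25102 : act 5 n24401 = n25102 := rfl
def n25103 : Q := act 1 n24402
theorem D25103 : act 1 n24402 = n25103 := rfl
theorem F49703 : act 2 n25103 = n24427 := d5_2 D24402 D25103 (iv D24427) (iv D23350) (iv F45188)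
theorem F49704 : act 3 n25103 = n24484 := d6_2 (iv F47928) D25103 (iv D24484)
theorem F49705 : act 4 n25103 = n24424 := d7_2 (iv F47926) D25103 (iv D24424)
theorem F49706 : act 5 n25103 = n24406 := d8_2 (iv F47927) D25103 (iv D24406)
def n25104 : Q := act 1 n24404
theorem D25104 : act 1 n24404 = n25104 := rfl
theorem F49707 : act 0 n25104 = n24427 := d0_1 D25104 (iv D24427) F45234 (iv F45199) (iv F47932)
theorem F49708 : act 5 n25104 = n24414 := d8_2 (iv F47933) D25104 (iv D24414)
def n25105 : Q := act 3 n24406
theorem D25105 : act 3 n24406 = n25105 := rfl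
theorem F49709 : act 1 n25105 = n24407 := d6_1 D25105 (iv D24407) D24406
theorem F49710 : act 5 n25105 = n24484 := d13_2 F49706 D25105 (iv F49704)
def n25106 : Q := act 4 n24407
theorem D25106 : act 4 n24407 = n25106 := rfl
theorem F49711 : act 0 n25106 = n24409 := d3_1 D25106 (iv D24409) (iv F47937)
theorem F49712 : act 2 n25106 = n24476 := d10_1 D25106 (iv D24476) (iv F47938)
def n25107 : Q := act 1 n24408
theorem D25107 : act 1 n24408 = n25107 := rfl
theorem F49713 : act 3 n25107 = n24470 := d6_2 (iv F47941) D25107 (iv D24470)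
theorem F49714 : act 5 n25107 = n24477 := d8_2 (iv F47942) D25107 F48090
def n25108 : Q := act 4 n24408
theorem D25108 : act 4 n24408 = n25108 := rfl
theorem F49715 : act 0 n25108 = n24476 := d3_1 D25108 (iv D24476) (iv F47940)
theorem F49716 : act 2 n25108 = n24409 := d10_1 D25108 (iv D24409) D24408
def n25109 : Q := act 5 n24409
theorem D25109 : act 5 n24409 = n25109 := rfl
def n25110 : Q := act 1 n24411
theorem D25110 : act 1 n24411 = n25110 := rfl
theorem F49717 : act 0 n25110 = n24748 := d0_1 D25110 F48783 F48484 F46111 (iv F47947)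
theorem F49718 : act 2 n25110 = n24748 := d5_2 D24411 D25110 F48783 F48485 F47850
theorem F49719 : act 3 n25110 = n24683 := d6_2 (iv F47949) D25110 F48601
theorem F49720 : act 4 n25110 = n24413 := d7_2 (iv F47948) D25110 (iv D24413)
def n25111 : Q := act 3 n24414
theorem D25111 : act 3 n24414 = n25111 := rfl
theorem F49721 : act 0 n25111 = n24510 := d2_1 D25111 (iv F49656) F49654
theorem F49722 : act 1 n25111 = n24415 := d6_1 D25111 (iv D24415) D24414
def n25112 : Q := act 4 n24415
theorem D25112 : act 4 n24415 = n25112 := rfl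
theorem F49723 : act 0 n25112 = n24417 := d3_1 D25112 (iv D24417) (iv F47955)
theorem F49724 : act 2 n25112 = n24512 := d10_1 D25112 (iv F48406) F48404
theorem F49725 : act 3 n25112 = n24511 := d12_1 D25112 (iv D24511) (iv F47871) F47872 D24415
theorem F49726 : act 5 n25112 = n24511 := d14_2 (iv F48402) D25112 (iv D24511) (iv F47975) (iv F48401)
def n25113 : Q := act 4 n24418
theorem D25113 : act 4 n24418 = n25113 := rfl
theorem F49727 : act 0 n25113 = n24734 := d3_1 D25113 (iv D24734) (iv F47956)
theorem F49728 : act 2 n25113 = n24809 := d10_1 D25113 (iv D24809) (iv F47957)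
theorem F49729 : act 3 n25113 = n24590 := d12_1 D25113 (iv D24590) (iv D23621) (iv F45213) D24418
theorem F49730 : act 5 n25113 = n25113 := d14_2 (iv F47958) D25113 (iv D25113) F47958 F47079
def n25114 : Q := act 1 n24419
theorem D25114 : act 1 n24419 = n25114 := rfl
theorem F49731 : act 0 n25114 = n24456 := d0_1 D25114 (iv D24456) F45350 D23391 (iv F47959)
theorem F49732 : act 3 n25114 = n25114 := d6_2 F47960 D25114 (iv D25114)
theorem F49733 : act 5 n25114 = n24456 := d8_2 (iv F47961) D25114 (iv D24456)
def n25115 : Q := act 4 n24419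
theorem D25115 : act 4 n24419 = n25115 := rfl
theorem F49734 : act 0 n25115 = n24429 := d3_1 D25115 F47977 (iv F47959)
theorem F49735 : act 2 n25115 = n24420 := d10_1 D25115 (iv D24420) D24419
theorem F49736 : act 5 n25115 = n24513 := d14_2 (iv F47961) D25115 F48152 (iv F47906) F47905
def n25116 : Q := act 1 n24421
theorem D25116 : act 1 n24421 = n25116 := rfl
theorem F49737 : act 2 n25116 = n24424 := d5_2 D24421 D25116 (iv D24424) (iv D23348) (iv F45226)
theorem F49738 : act 4 n25116 = n24427 := d7_2 (iv F47967) D25116 (iv D24427)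
def n25117 : Q := act 1 n24422
theorem D25117 : act 1 n24422 = n25117 := rfl
theorem F49739 : act 0 n25117 = n24424 := d0_1 D25117 (iv D24424) F45233 (iv F45231) (iv F47968)
theorem F49740 : act 5 n25117 = n24424 := d8_2 (iv F47969) D25117 (iv D24424)
def n25118 : Q := act 4 n24423
theorem D25118 : act 4 n24423 = n25118 := rfl
theorem F49741 : act 1 n25118 = n24426 := d7_1 D25118 (iv D24426) (iv F47970)
def n25119 : Q := act 3 n24424
theorem D25119 : act 3 n24424 = n25119 := rfl
theorem F49742 : act 1 n25119 = n24425 := d6_1 D25119 (iv D24425) D24424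
def n25120 : Q := act 4 n24425
theorem D25120 : act 4 n24425 = n25120 := rfl
theorem F49743 : act 0 n25120 = n24426 := d3_1 D25120 (iv D24426) (iv F47972)
theorem F49744 : act 3 n25120 = n24485 := d12_1 D25120 (iv D24485) (iv F47928) F47926 D24425
def n25121 : Q := act 5 n24426
theorem D25121 : act 5 n24426 = n25121 := rfl
theorem F49745 : act 2 n25121 = n25000 := d11_1 D25121 F49466 (iv F48610)
def n25122 : Q := act 3 n24427
theorem D25122 : act 3 n24427 = n25122 := rfl
theorem F49746 : act 1 n25122 = n24428 := d6_1 D25122 (iv D24428) D24427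
theorem F49747 : act 5 n25122 = n24510 := d13_2 F49658 D25122 (iv F49656)
def n25123 : Q := act 3 n24429
theorem D25123 : act 3 n24429 = n25123 := rfl
theorem F49748 : act 1 n25123 = n24430 := d6_1 D25123 (iv D24430) D24429
theorem F49749 : act 4 n25123 = n25123 := d12_2 (iv F47977) D25123 (iv D25123) F47977 F45353
theorem F49750 : act 5 n25123 = n24514 := d13_2 (iv F47978) D25123 (iv D24514)
def n25124 : Q := act 4 n24431
theorem D25124 : act 4 n24431 = n25124 := rfl
theorem F49751 : act 0 n25124 = n25067 := d3_1 D25124 (iv D25067) (iv F47983)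
theorem F49752 : act 1 n25124 = n24432 := d7_1 D25124 (iv D24432) (iv F47984)
theorem F49753 : act 2 n25124 = n25067 := d10_1 D25124 (iv D25067) (iv F47985)
theorem F49754 : act 3 n25124 = n24853 := d12_1 D25124 (iv D24853) (iv D24030) F45268 D24431
def n25125 : Q := act 3 n24432
theorem D25125 : act 3 n24432 = n25125 := rfl
theorem F49755 : act 0 n25125 = n24441 := d2_1 D25125 (iv D24441) (iv F47987)
theorem F49756 : act 1 n25125 = n24853 := d6_1 D25125 (iv F49754) F49752
theorem F49757 : act 4 n25125 = n24433 := d12_2 D24432 D25125 (iv D24433) (iv D23362) D23361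
def n25126 : Q := act 5 n24432
theorem D25126 : act 5 n24432 = n25126 := rfl
theorem F49758 : act 0 n25126 = n24442 := d4_1 D25126 (iv D24442) (iv F47987)
theorem F49759 : act 2 n25126 = n25065 := d11_1 D25126 (iv D25065) (iv F47988)
theorem F49760 : act 4 n25126 = n24672 := d14_1 D25126 F48570 F47948 F45271 D24432
def n25127 : Q := act 2 n24433
theorem D25127 : act 2 n24433 = n25127 := rfl
theorem F49761 : act 0 n25127 = n24443 := d1_1 D25127 (iv D24443) (iv F47989)
theorem F49762 : act 3 n25127 = n24450 := d9_2 D24433 D25127 F48026 F45334 F41473 (iv F41445) (iv F45305) (iv F48012) (iv F48988) (iv D24821) (iv D23980) (iv D22668) F39142 (iv F41432) (iv F45274)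
theorem F49763 : act 5 n24449 = n25127 := d13_0 F49762 (iv D24450) D24449
def n25128 : Q := act 5 n24433
theorem D25128 : act 5 n24433 = n25128 := rfl
theorem F49764 : act 0 n25128 = n24444 := d4_1 D25128 (iv D24444) (iv F47989)
theorem F49765 : act 1 n25128 = n24854 := d8_1 D25128 (iv D24854) (iv F47990)
theorem F49766 : act 2 n25128 = n24449 := d11_1 D25128 F49763 (iv D25127)
theorem F49767 : act 3 n25128 = n24434 := d13_1 D25128 (iv D24434) D24433
def n25129 : Q := act 3 n24436
theorem D25129 : act 3 n24436 = n25129 := rfl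
theorem F49768 : act 0 n25129 = n24438 := d2_1 D25129 (iv D24438) (iv F47998)
theorem F49769 : act 1 n25129 = n24791 := d6_1 D25129 F48925 (iv F47999)
theorem F49770 : act 4 n25129 = n25068 := d12_2 D24436 D25129 (iv D25068) (iv D24369) F45291
theorem F49771 : act 5 n25129 = n24857 := d13_2 F48200 D25129 F49071
theorem F49772 : act 2 n25129 = n24793 := d15_2 (iv F48000) D25129 F48928 (iv D24557) (iv D23558) F42045 D22077 F42119 (iv F45321)
def n25130 : Q := act 3 n24437
theorem D25130 : act 3 n24437 = n25130 := rfl
theorem F49773 : act 0 n25130 = n25068 := d2_1 D25130 (iv D25068) (iv F48001)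
theorem F49774 : act 1 n25130 = n24441 := d6_1 D25130 (iv D24441) (iv F48002)
theorem F49775 : act 4 n25130 = n24438 := d12_2 D24437 D25130 (iv D24438) (iv D23369) D23368
def n25131 : Q := act 2 n24438
theorem D25131 : act 2 n24438 = n25131 := rfl
theorem F49776 : act 0 n25131 = n24793 := d1_1 D25131 (iv F49772) F49768
def n25132 : Q := act 4 n24439
theorem D25132 : act 4 n24439 = n25132 := rfl
theorem F49777 : act 0 n25132 = n25060 := d3_1 D25132 (iv D25060) (iv F48005)
theorem F49778 : act 1 n25132 = n24440 := d7_1 D25132 (iv D24440) D24439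
theorem F49779 : act 2 n25132 = n25060 := d10_1 D25132 (iv D25060) (iv F48006)
def n25133 : Q := act 3 n24440
theorem D25133 : act 3 n24440 = n25133 := rfl
theorem F49780 : act 0 n25133 = n25064 := d2_1 D25133 (iv D25064) (iv F48009)
theorem F49781 : act 4 n25133 = n25063 := d12_2 D24440 D25133 (iv D25063) (iv D24365) (iv F45299)
def n25134 : Q := act 2 n24441
theorem D25134 : act 2 n24441 = n25134 := rfl
theorem F49782 : act 4 n25134 = n24443 := d10_2 (iv F48011) D25134 (iv D24443)
def n25135 : Q := act 5 n24441
theorem D25135 : act 5 n24441 = n25135 := rfl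
theorem F49783 : act 3 n25135 = n24442 := d13_1 D25135 (iv D24442) D24441
def n25136 : Q := act 1 n24443
theorem D25136 : act 1 n24443 = n25136 := rfl
def n25137 : Q := act 4 n24446
theorem D25137 : act 4 n24446 = n25137 := rfl
theorem F49784 : act 0 n25137 = n24685 := d3_1 D25137 F48609 (iv F48017)
theorem F49785 : act 1 n25137 = n24829 := d7_1 D25137 (iv D24829) (iv F48018)
theorem F49786 : act 2 n25137 = n25120 := d10_1 D25137 (iv D25120) (iv F48020)
theorem F49787 : act 3 n25137 = n24684 := d12_1 D25137 (iv D24684) F46301 (iv F45318) D24446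
theorem F49788 : act 5 n24936 = n25137 := d13_0 F49787 F48607 D24936
def n25138 : Q := act 4 n24447
theorem D25138 : act 4 n24447 = n25138 := rfl
theorem F49789 : act 0 n25138 = n24453 := d3_1 D25138 (iv D24453) (iv F48021)
theorem F49790 : act 1 n25138 = n24686 := d7_1 D25138 F48612 (iv F48022)
theorem F49791 : act 2 n25138 = n25118 := d10_1 D25138 (iv D25118) (iv F48023)
theorem F49792 : act 3 n25138 = n24465 := d12_1 D25138 (iv D24465) (iv D23406) (iv F45331) D24447
def n25139 : Q := act 0 n24448
theorem D25139 : act 0 n24448 = n25139 := rfl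
theorem F49793 : act 2 n25139 = n24464 := d1_2 (iv F48025) D25139 (iv D24464)
def n25140 : Q := act 3 n24448
theorem D25140 : act 3 n24448 = n25140 := rfl
theorem F49794 : act 1 n25140 = n24449 := d6_1 D25140 (iv D24449) D24448
theorem F49795 : act 2 n25140 = n24855 := d15_2 (iv F48025) D25140 (iv D24855) F46927 F45600 (iv F45777) D24559 (iv F48278) (iv D24464)
def n25141 : Q := act 4 n24449
theorem D25141 : act 4 n24449 = n25141 := rfl
def n25142 : Q := act 2 n24451
theorem D25142 : act 2 n24451 = n25142 := rfl
theorem F49796 : act 0 n25142 = n24830 := d1_1 D25142 F49013 (iv F48027)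
theorem F49797 : act 3 n25142 = n24828 := d9_2 D24451 D25142 (iv D24828) (iv D23991) (iv F45325) F45326 F42170 D22689 D23992 F49015 F49013 F46844 (iv F45340) (iv F45343) (iv F45336)
theorem F49798 : act 5 n25142 = n24828 := d11_2 (iv F48029) D25142 (iv D24828)
def n25143 : Q := act 4 n24451
theorem D25143 : act 4 n24451 = n25143 := rfl
theorem F49799 : act 0 n25143 = n24832 := d3_1 D25143 (iv D24832) (iv F48027)
theorem F49800 : act 1 n25143 = n24453 := d7_1 D25143 (iv D24453) (iv F48028)
theorem F49801 : act 3 n25143 = n24466 := d12_1 D25143 (iv D24466) (iv D23410) (iv F45337) D24451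
theorem F49802 : act 5 n25143 = n24929 := d14_2 (iv F48029) D25143 F49271 F49012 (iv D24829)
def n25144 : Q := act 1 n24452
theorem D25144 : act 1 n24452 = n25144 := rfl
theorem F49803 : act 0 n25144 = n25119 := d0_1 D25144 F49742 F47972 (iv F47970) (iv F48030)
theorem F49804 : act 3 n25144 = n25117 := d6_2 (iv F48031) D25144 (iv D25117)
theorem F49805 : act 5 n25144 = n25119 := d8_2 (iv F48032) D25144 F49742
def n25145 : Q := act 4 n24452
theorem D25145 : act 4 n24452 = n25145 := rfl
theorem F49806 : act 0 n25145 = n25118 := d3_1 D25145 (iv D25118) (iv F48030)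
theorem F49807 : act 2 n25145 = n24453 := d10_1 D25145 (iv D24453) D24452
def n25146 : Q := act 5 n24453
theorem D25146 : act 5 n24453 = n25146 := rfl
theorem F49808 : act 1 n25146 = n24929 := d8_1 D25146 (iv F49802) F49800
theorem F49809 : act 3 n25146 = n24468 := d13_1 D25146 (iv D24468) (iv F48033)
theorem F49810 : act 4 n25146 = n24936 := d14_1 D25146 F49788 (iv D25137) F48019 D24453
def n25147 : Q := act 1 n24459
theorem D25147 : act 1 n24459 = n25147 := rfl
theorem F49811 : act 0 n25147 = n24833 := d0_1 D25147 F49019 (iv F48571) (iv F48780) F48779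
theorem F49812 : act 2 n25147 = n24461 := d5_2 D24459 D25147 (iv D24461) (iv D23397) (iv F45362)
theorem F49813 : act 5 n24722 = n25147 := d11_0 F49812 F48053 D24722
def n25148 : Q := act 3 n24459
theorem D25148 : act 3 n24459 = n25148 := rfl
theorem F49814 : act 2 n25148 = n24608 := d9_1 D25148 F48413 F46017 (iv F43757) F43756 D23457 D24502 F49255 F49252 F47262 (iv D23401) (iv D21827) (iv F41516) D23395 D24459
theorem F49815 : act 5 n25148 = n24607 := d15_8 F49252 F47262 (iv D23401) (iv D21827) (iv F41516) D23395 D24459 D25148 F49254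
def n25149 : Q := act 5 n24459
theorem D25149 : act 5 n24459 = n25149 := rfl
theorem F49816 : act 0 n25149 = n24502 := d4_1 D25149 (iv F48782) F48779
theorem F49817 : act 1 n25149 = n24722 := d8_1 D25149 F49813 (iv D25147)
theorem F49818 : act 2 n25149 = n24460 := d11_1 D25149 (iv D24460) D24459
theorem F49819 : act 3 n25149 = n24607 := d13_1 D25149 (iv F49815) (iv D25148)
theorem F49820 : act 4 n24692 = n25149 := d12_0 F49819 F48410 (iv F48427) (iv F48428) D24692
def n25150 : Q := act 3 n24469
theorem D25150 : act 3 n24469 = n25150 := rfl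
theorem F49821 : act 0 n25150 = n24473 := d2_1 D25150 (iv D24473) (iv F48073)
theorem F49822 : act 5 n25150 = n24616 := d13_2 (iv F48075) D25150 (iv D24616)
def n25151 : Q := act 2 n24471
theorem D25151 : act 2 n24471 = n25151 := rfl
theorem F49823 : act 0 n25151 = n24880 := d1_1 D25151 F49152 (iv F48078)
theorem F49824 : act 5 n25151 = n24472 := d11_2 (iv F48080) D25151 (iv D24472)
def n25152 : Q := act 1 n24472
theorem D25152 : act 1 n24472 = n25152 := rfl
theorem F49825 : act 2 n25152 = n24716 := d5_2 D24472 D25152 (iv D24716) (iv D23828) (iv F45436)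
theorem F49826 : act 4 n25152 = n24820 := d7_2 (iv F48082) D25152 (iv D24820)
def n25153 : Q := act 3 n24472
theorem D25153 : act 3 n24472 = n25153 := rfl
theorem F49827 : act 0 n25153 = n24620 := d2_1 D25153 F48446 (iv F48081)
theorem F49828 : act 2 n25153 = n24616 := d15_2 D24472 D25153 (iv D24616) F46040 (iv F43905) F43904 (iv F47058) (iv D24081) (iv F45435)
def n25154 : Q := act 2 n24473
theorem D25154 : act 2 n24473 = n25154 := rfl
theorem F49829 : act 3 n25154 = n24880 := d9_2 D24473 D25154 F49152 F47058 (iv F43904) F43905 (iv F46040) D24616 (iv F49828) (iv D25153) (iv D24472) (iv D23421) F41641 D21869 D23422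
theorem F49830 : act 5 n25154 = n24620 := d11_2 (iv F48084) D25154 (iv D24620)
theorem F49831 : act 1 n24957 = n25154 := d6_3 F49829 F49151 D24957
def n25155 : Q := act 4 n24473
theorem D25155 : act 4 n24473 = n25155 := rfl
theorem F49832 : act 1 n25155 = n24628 := d7_1 D25155 (iv D24628) (iv F48083)
theorem F49833 : act 3 n25155 = n24476 := d12_1 D25155 (iv D24476) (iv D23424) (iv F45439) D24473
def n25156 : Q := act 3 n24474
theorem D25156 : act 3 n24474 = n25156 := rfl
theorem F49834 : act 0 n25156 = n24475 := d2_1 D25156 (iv D24475) D24474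
theorem F49835 : act 5 n25156 = n24481 := d13_2 (iv F48087) D25156 (iv D24481)
def n25157 : Q := act 2 n24475
theorem D25157 : act 2 n24475 = n25157 := rfl
theorem F49836 : act 5 n25157 = n24482 := d11_2 (iv F48089) D25157 (iv D24482)
def n25158 : Q := act 4 n24475
theorem D25158 : act 4 n24475 = n25158 := rfl
theorem F49837 : act 1 n25158 = n24476 := d7_1 D25158 (iv D24476) (iv F48088)
theorem F49838 : act 3 n25158 = n24628 := d12_1 D25158 (iv D24628) F46057 (iv F45442) D24475
def n25159 : Q := act 5 n24476
theorem D25159 : act 5 n24476 = n25159 := rfl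
theorem F49839 : act 4 n25159 = n24486 := d14_1 D25159 (iv D24486) (iv D23436) (iv F45444) D24476
def n25160 : Q := act 2 n24477
theorem D25160 : act 2 n24477 = n25160 := rfl
def n25161 : Q := act 1 n24478
theorem D25161 : act 1 n24478 = n25161 := rfl
theorem F49840 : act 2 n25161 = n24644 := d5_2 D24478 D25161 (iv D24644) (iv D23707) (iv F45456)
def n25162 : Q := act 3 n24478
theorem D25162 : act 3 n24478 = n25162 := rfl
theorem F49841 : act 2 n25162 = n24897 := d15_2 D24478 D25162 (iv D24897) F47175 (iv F45451) (iv F47897) (iv F49668) (iv D25082) F47892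
theorem F49842 : act 1 n24916 = n25162 := d5_5 F49841 F49207 F47180 (iv F47248) D24916
theorem F49843 : act 5 n24901 = n25162 := d11_0 F49841 F49208 D24901
theorem F49844 : act 3 n25161 = n24916 := d6_0 F49842 (iv D25162) D25161
def n25163 : Q := act 5 n24478
theorem D25163 : act 5 n24478 = n25163 := rfl
theorem F49845 : act 2 n25163 = n24479 := d11_1 D25163 (iv D24479) D24478
theorem F49846 : act 3 n25163 = n24901 := d13_1 D25163 F49843 (iv D25162)
def n25164 : Q := act 4 n24479
theorem D25164 : act 4 n24479 = n25164 := rfl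
theorem F49847 : act 1 n25164 = n24647 := d7_1 D25164 (iv D24647) (iv F48091)
theorem F49848 : act 3 n25164 = n24615 := d12_1 D25164 (iv D24615) F46038 (iv F45459) (iv F48092)
theorem F49849 : act 5 n25164 = n25133 := d14_2 D24479 D25164 F49781 F49618 F47891
def n25165 : Q := act 2 n24480
theorem D25165 : act 2 n24480 = n25165 := rfl
theorem F49850 : act 0 n25165 = n24901 := d1_1 D25165 (iv D24901) (iv F48093)
def n25166 : Q := act 2 n24481
theorem D25166 : act 2 n24481 = n25166 := rfl
theorem F49851 : act 0 n25166 = n24482 := d1_1 D25166 (iv D24482) (iv F48094)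
theorem F49852 : act 3 n25166 = n24886 := d15_1 D25166 (iv D24886) (iv D24089) F43815 (iv F41649) (iv F45441) D24475 F48089 (iv F48094)
def n25167 : Q := act 1 n24482
theorem D25167 : act 1 n24482 = n25167 := rfl
theorem F49853 : act 2 n25167 = n24484 := d5_2 D24482 D25167 (iv D24484) (iv D23435) (iv F45468)
def n25168 : Q := act 3 n24482
theorem D25168 : act 3 n24482 = n25168 := rfl
theorem F49854 : act 0 n25168 = n24886 := d2_1 D25168 (iv F49852) F49851
theorem F49855 : act 2 n25168 = n24885 := d15_2 D24482 D25168 (iv D24885) F47080 (iv F45446) (iv F48085) D25156 F49835 F48094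
theorem F49856 : act 4 n25168 = n25168 := d10_0 F49855 F49168 (iv F49855)
def n25169 : Q := act 4 n24482
theorem D25169 : act 4 n24482 = n25169 := rfl
theorem F49857 : act 2 n25169 = n24483 := d10_1 D25169 (iv D24483) D24482
theorem F49858 : act 3 n25169 = n25169 := d12_1 D25169 (iv D25169) D25168 F49856 (iv D25168)
def n25170 : Q := act 5 n24483
theorem D25170 : act 5 n24483 = n25170 := rfl
theorem F49859 : act 1 n25170 = n24486 := d8_1 D25170 (iv D24486) (iv F48095)
theorem F49860 : act 3 n25170 = n24617 := d13_1 D25170 (iv D24617) (iv F48096)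
def n25171 : Q := act 0 n24484
theorem D25171 : act 0 n24484 = n25171 := rfl
def n25172 : Q := act 4 n24484
theorem D25172 : act 4 n24484 = n25172 := rfl
theorem F49861 : act 1 n25172 = n24485 := d7_1 D25172 (iv D24485) D24484
def n25173 : Q := act 5 n24485
theorem D25173 : act 5 n24485 = n25173 := rfl
theorem F49862 : act 2 n25173 = n24486 := d11_1 D25173 (iv D24486) (iv F48097)
def n25174 : Q := act 3 n24487
theorem D25174 : act 3 n24487 = n25174 := rfl
theorem F49863 : act 0 n25174 = n24488 := d2_1 D25174 (iv D24488) (iv F48099)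
theorem F49864 : act 5 n25174 = n24885 := d13_2 (iv F48101) D25174 (iv D24885)
def n25175 : Q := act 2 n24488
theorem D25175 : act 2 n24488 = n25175 := rfl
theorem F49865 : act 5 n25175 = n24886 := d11_2 (iv F48103) D25175 (iv D24886)
def n25176 : Q := act 4 n24488
theorem D25176 : act 4 n24488 = n25176 := rfl
theorem F49866 : act 1 n25176 = n24734 := d7_1 D25176 (iv D24734) (iv F48102)
theorem F49867 : act 3 n25176 = n24629 := d12_1 D25176 (iv D24629) (iv D23678) (iv F45475) D24488
theorem F49868 : act 5 n25176 = n25176 := d14_2 (iv F48103) D25176 (iv D25176) F48103 F47082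
def n25177 : Q := act 1 n24489
theorem D25177 : act 1 n24489 = n25177 := rfl
theorem F49869 : act 0 n25177 = n25048 := d0_1 D25177 (iv D25048) F47764 D24345 (iv F48104)
theorem F49870 : act 2 n25177 = n24494 := d5_2 D24489 D25177 (iv D24494) (iv D23444) (iv F45483)
theorem F49871 : act 4 n25177 = n24491 := d7_2 (iv F48105) D25177 (iv D24491)
theorem F49872 : act 5 n25056 = n25177 := d11_0 F49870 F48113 D25056
def n25178 : Q := act 3 n24489
theorem D25178 : act 3 n24489 = n25178 := rfl
theorem F49873 : act 0 n25178 = n25052 := d2_1 D25178 (iv D25052) (iv F48104)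
def n25179 : Q := act 5 n24489
theorem D25179 : act 5 n24489 = n25179 := rfl
theorem F49874 : act 0 n25179 = n25053 := d4_1 D25179 (iv D25053) (iv F48104)
theorem F49875 : act 1 n25179 = n25056 := d8_1 D25179 F49872 (iv D25177)
theorem F49876 : act 2 n25179 = n24490 := d11_1 D25179 (iv D24490) D24489
theorem F49877 : act 4 n25179 = n25020 := d14_1 D25179 F49513 F48621 (iv D24493) (iv F48105)
def n25180 : Q := act 0 n24491
theorem D25180 : act 0 n24491 = n25180 := rfl
theorem F49878 : act 1 n25180 = n25047 := d0_2 D24491 D25180 F49580 F47772 F46027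
theorem F49879 : act 2 n25180 = n24496 := d1_2 (iv F48109) D25180 (iv D24496)
theorem F49880 : act 4 n25180 = n25048 := d3_2 F49871 D25180 (iv F49869)
def n25181 : Q := act 3 n24491
theorem D25181 : act 3 n24491 = n25181 := rfl
theorem F49881 : act 1 n25181 = n24492 := d6_1 D25181 (iv D24492) D24491
theorem F49882 : act 5 n25181 = n24917 := d13_2 F48289 D25181 F49242
theorem F49883 : act 2 n25181 = n24918 := d15_2 (iv F48109) D25181 F49244 (iv F47457) (iv F48044) F48043 D24516 (iv F48159) (iv D24496)
def n25182 : Q := act 4 n24492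
theorem D25182 : act 4 n24492 = n25182 := rfl
def n25183 : Q := act 0 n24494
theorem D25183 : act 0 n24494 = n25183 := rfl
theorem F49884 : act 1 n25183 = n24648 := d0_2 D24494 D25183 (iv D24648) (iv D23711) (iv F45489)
theorem F49885 : act 2 n25183 = n25048 := d1_2 F49870 D25183 (iv F49869)
theorem F49886 : act 3 n25183 = n24913 := d2_2 (iv F48111) D25183 F49234
theorem F49887 : act 4 n25183 = n24496 := d3_2 (iv F48112) D25183 (iv D24496)
theorem F49888 : act 5 n25183 = n25055 := d4_2 (iv F48113) D25183 F49594
def n25184 : Q := act 1 n24497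
theorem D25184 : act 1 n24497 = n25184 := rfl
theorem F49889 : act 3 n25184 = n25051 := d6_2 F48427 D25184 F49587
theorem F49890 : act 5 n25184 = n25050 := d8_2 F48424 D25184 F49586
def n25185 : Q := act 4 n24498
theorem D25185 : act 4 n24498 = n25185 := rfl
def n25186 : Q := act 5 n24499
theorem D25186 : act 5 n24499 = n25186 := rfl
theorem F49891 : act 0 n25186 = n24613 := d4_1 D25186 (iv D24613) (iv F48120)
theorem F49892 : act 1 n25186 = n24501 := d8_1 D25186 (iv D24501) (iv F48121)
theorem F49893 : act 2 n25186 = n24613 := d11_1 D25186 (iv D24613) (iv F48123)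
theorem F49894 : act 3 n25186 = n24500 := d13_1 D25186 (iv D24500) D24499
def n25187 : Q := act 4 n24503
theorem D25187 : act 4 n24503 = n25187 := rfl
theorem F49895 : act 0 n25187 = n24742 := d3_1 D25187 F48768 (iv F48130)
theorem F49896 : act 1 n25187 = n24504 := d7_1 D25187 (iv D24504) D24503
theorem F49897 : act 3 n25187 = n24676 := d12_1 D25187 F48580 F47665 (iv F46252) (iv F48131)
theorem F49898 : act 5 n25187 = n24926 := d14_2 (iv F48132) D25187 F49263 (iv D24631) (iv F46248)
def n25188 : Q := act 3 n24505
theorem D25188 : act 3 n24505 = n25188 := rfl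
theorem F49899 : act 0 n25188 = n24506 := d2_1 D25188 (iv D24506) D24505
theorem F49900 : act 1 n25188 = n24576 := d6_1 D25188 F48319 (iv F48137)
theorem F49901 : act 5 n25188 = n24507 := d13_2 (iv F48140) D25188 (iv D24507)
def n25189 : Q := act 2 n24506
theorem D25189 : act 2 n24506 = n25189 := rfl
theorem F49902 : act 5 n25189 = n24508 := d11_2 (iv F48142) D25189 (iv D24508)
def n25190 : Q := act 2 n24507
theorem D25190 : act 2 n24507 = n25190 := rfl
theorem F49903 : act 0 n25190 = n24508 := d1_1 D25190 (iv D24508) (iv F48143)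
theorem F49904 : act 4 n25190 = n24573 := d10_2 (iv F48145) D25190 (iv D24573)
def n25191 : Q := act 1 n24508
theorem D25191 : act 1 n24508 = n25191 := rfl
theorem F49905 : act 2 n25191 = n24510 := d5_2 D24508 D25191 (iv D24510) (iv D23468) (iv F45541)
def n25192 : Q := act 3 n24508
theorem D25192 : act 3 n24508 = n25192 := rfl
def n25193 : Q := act 4 n24508
theorem D25193 : act 4 n24508 = n25193 := rfl
theorem F49906 : act 0 n25193 = n24573 := d3_1 D25193 (iv F49904) F49903
theorem F49907 : act 2 n25193 = n24509 := d10_1 D25193 (iv D24509) D24508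
theorem F49908 : act 3 n25193 = n25193 := d15_1 (iv F49907) F49907 F48148 F45853 (iv F42204) (iv F45857) (iv F48317) (iv D24574) (iv F48146)
theorem F49909 : act 4 n25192 = n25192 := d12_4 D25193 F49908 (iv D25193) D25192 (iv D25192)
def n25194 : Q := act 4 n24510
theorem D25194 : act 4 n24510 = n25194 := rfl
theorem F49910 : act 1 n25194 = n24511 := d7_1 D25194 (iv D24511) D24510
def n25195 : Q := act 1 n24513
theorem D25195 : act 1 n24513 = n25195 := rfl
theorem F49911 : act 0 n25195 = n24808 := d0_1 D25195 (iv D24808) F46807 (iv F45546) (iv F48151)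
theorem F49912 : act 2 n25195 = n24812 := d5_2 D24513 D25195 (iv D24812) (iv D23975) (iv F45544)
theorem F49913 : act 4 n25195 = n24808 := d7_2 (iv F48152) D25195 (iv D24808)
def n25196 : Q := act 3 n24513
theorem D25196 : act 3 n24513 = n25196 := rfl
theorem F49914 : act 0 n25196 = n24514 := d2_1 D25196 (iv D24514) (iv F48151)
def n25197 : Q := act 2 n24514
theorem D25197 : act 2 n24514 = n25197 := rfl
def n25198 : Q := act 4 n24514
theorem D25198 : act 4 n24514 = n25198 := rfl
theorem F49915 : act 1 n25198 = n24809 := d7_1 D25198 (iv D24809) (iv F48153)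
theorem F49916 : act 3 n25198 = n24809 := d12_1 D25198 (iv D24809) (iv D23972) (iv F45547) D24514
theorem F49917 : act 5 n25198 = n25198 := d14_2 F49750 D25198 (iv D25198) (iv F49750) F49749
def n25199 : Q := act 2 n24516
theorem D25199 : act 2 n24516 = n25199 := rfl
theorem F49918 : act 0 n25199 = n24563 := d1_1 D25199 (iv D24563) (iv F48157)
theorem F49919 : act 3 n25199 = n24964 := d9_2 D24516 D25199 (iv D24964) (iv D24224) F44524 D23067 (iv F45791) F45792 (iv F48109) D25181 F49883 F49244 (iv F47457) (iv F48044) F48043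
theorem F49920 : act 5 n25199 = n25180 := d11_2 F48159 D25199 F49879
def n25200 : Q := act 3 n24520
theorem D25200 : act 3 n24520 = n25200 := rfl
theorem F49921 : act 0 n25200 = n24521 := d2_1 D25200 (iv D24521) D24520
theorem F49922 : act 1 n25200 = n24523 := d6_1 D25200 (iv D24523) (iv F48173)
theorem F49923 : act 5 n25200 = n24544 := d13_2 (iv F48176) D25200 (iv D24544)
def n25201 : Q := act 2 n24521
theorem D25201 : act 2 n24521 = n25201 := rfl
theorem F49924 : act 1 n25201 = n24675 := d5_1 D25201 (iv D24675) F46257 (iv F45590) (iv F48177)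
theorem F49925 : act 5 n25201 = n24676 := d11_2 (iv F48178) D25201 F48579
theorem F49926 : act 3 n24926 = n25201 := d13_3 F49925 (iv F49897) F49898
theorem F49927 : act 4 n25013 = n25201 := d14_5 F49925 F48580 (iv D24302) (iv F47659) D25013
def n25202 : Q := act 4 n24521
theorem D25202 : act 4 n24521 = n25202 := rfl
theorem F49928 : act 1 n25202 = n24522 := d7_1 D25202 (iv D24522) (iv F48177)
theorem F49929 : act 2 n25202 = n25013 := d10_1 D25202 F49927 (iv D25201)
theorem F49930 : act 5 n25202 = n25012 := d14_2 (iv F48178) D25202 F49491 (iv F48599) F48598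
def n25203 : Q := act 1 n24524
theorem D25203 : act 1 n24524 = n25203 := rfl
theorem F49931 : act 0 n25203 = n24744 := d0_1 D25203 F48772 (iv F48225) F48226 (iv F48184)
theorem F49932 : act 2 n25203 = n24526 := d5_2 D24524 D25203 (iv D24526) (iv D23493) (iv F45594)
theorem F49933 : act 3 n25203 = n24537 := d6_2 (iv F48185) D25203 (iv D24537)
theorem F49934 : act 4 n25203 = n24714 := d7_2 F48865 D25203 (iv F48862)
theorem F49935 : act 5 n25203 = n24545 := d8_2 (iv F48186) D25203 (iv D24545)
def n25204 : Q := act 3 n24534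
theorem D25204 : act 3 n24534 = n25204 := rfl
theorem F49936 : act 0 n25204 = n24545 := d2_1 D25204 (iv F49358) F49356
theorem F49937 : act 1 n25204 = n24536 := d6_1 D25204 (iv D24536) (iv F48211)
theorem F49938 : act 2 n25204 = n24674 := d9_1 D25204 (iv D24674) F46255 (iv F44482) (iv F47448) (iv F49364) F49363 (iv F49933) F49932 F48188 F46284 F44463 F44461 D23790 (iv F48212)
theorem F49939 : act 4 n25204 = n24535 := d12_2 D24534 D25204 (iv D24535) (iv D23517) (iv F45652)
theorem F49940 : act 5 n25204 = n24744 := d13_2 (iv F48213) D25204 (iv D24744)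
def n25205 : Q := act 2 n24539
theorem D25205 : act 2 n24539 = n25205 := rfl
theorem F49941 : act 0 n25205 = n24745 := d1_1 D25205 (iv D24745) (iv F48225)
theorem F49942 : act 3 n25205 = n24743 := d9_2 D24539 D25205 F48770 F46526 F43128 (iv F41999) (iv F45657) D24536 (iv F48827) F48828 F48613 (iv D23826) F42994 (iv F41956) (iv F45671)
theorem F49943 : act 4 n25205 = n24540 := d10_2 (iv F48227) D25205 (iv D24540)
theorem F49944 : act 5 n25205 = n24542 := d11_2 (iv F48228) D25205 (iv D24542)
def n25206 : Q := act 1 n24540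
theorem D25206 : act 1 n24540 = n25206 := rfl
theorem F49945 : act 0 n25206 = n25013 := d0_1 D25206 F49492 F48467 (iv F47522) (iv F48229)
theorem F49946 : act 3 n25206 = n24973 := d6_2 (iv F48230) D25206 F49396
theorem F49947 : act 5 n25206 = n24541 := d8_2 (iv F48231) D25206 (iv D24541)
def n25207 : Q := act 1 n24542
theorem D25207 : act 1 n24542 = n25207 := rfl
theorem F49948 : act 0 n25207 = n24676 := d0_1 D25207 (iv D24676) (iv F46605) (iv F48826) F48825
theorem F49949 : act 2 n25207 = n24544 := d5_2 D24542 D25207 F48241 (iv F46691) F46690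
theorem F49950 : act 3 n25207 = n24742 := d6_2 (iv F48236) D25207 (iv D24742)
theorem F49951 : act 4 n25207 = n24543 := d7_2 (iv F48235) D25207 (iv D24543)
def n25208 : Q := act 2 n24549
theorem D25208 : act 2 n24549 = n25208 := rfl
theorem F49952 : act 0 n25208 = n24840 := d1_1 D25208 F49039 F48258
theorem F49953 : act 1 n25208 = n24843 := d5_1 D25208 F49045 F47915 (iv F45726) (iv F48256)
theorem F49954 : act 5 n25208 = n24838 := d11_2 F48257 D25208 F49035
def n25209 : Q := act 4 n24549
theorem D25209 : act 4 n24549 = n25209 := rfl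
theorem F49955 : act 1 n25209 = n24551 := d7_1 D25209 (iv D24551) (iv F48256)
theorem F49956 : act 3 n25209 = n24716 := d12_1 D25209 F48697 F46823 F46505 D24549
theorem F49957 : act 5 n25209 = n24719 := d14_2 F48257 D25209 (iv F48980) F48981 F48743
def n25210 : Q := act 4 n24550
theorem D25210 : act 4 n24550 = n25210 := rfl
theorem F49958 : act 0 n25210 = n25209 := d3_1 D25210 (iv D25209) (iv F48258)
theorem F49959 : act 1 n25210 = n24552 := d7_1 D25210 (iv D24552) (iv F48259)
theorem F49960 : act 5 n25210 = n24815 := d14_2 D24550 D25210 F48976 F46815 F46505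
def n25211 : Q := act 2 n24554
theorem D25211 : act 2 n24554 = n25211 := rfl
theorem F49961 : act 0 n25211 = n25148 := d1_1 D25211 F49814 F48411
theorem F49962 : act 1 n25211 = n24924 := d5_1 D25211 F49260 F47259 (iv F45752) (iv F48271)
theorem F49963 : act 3 n25211 = n24747 := d9_2 D24554 D25211 (iv D24747) (iv D23877) F43139 (iv F41525) (iv F42390) D23654 D24607 (iv F49819) F49818 F48049 F45365 (iv F42113) (iv F45749)
theorem F49964 : act 5 n25211 = n24922 := d11_2 (iv F48272) D25211 F49252
def n25212 : Q := act 4 n24554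
theorem D25212 : act 4 n24554 = n25212 := rfl
theorem F49965 : act 1 n25212 = n24555 := d7_1 D25212 (iv D24555) (iv F48271)
theorem F49966 : act 3 n25212 = n24558 := d12_1 D25212 (iv D24558) (iv D23558) (iv F45750) D24554
def n25213 : Q := act 2 n24556
theorem D25213 : act 2 n24556 = n25213 := rfl
theorem F49967 : act 0 n25213 = n24557 := d1_1 D25213 (iv D24557) (iv F48275)
theorem F49968 : act 3 n25213 = n25131 := d15_1 D25213 (iv D25131) (iv D24438) F45297 (iv F42116) (iv F45762) (iv F46779) F46781 (iv F48275)
def n25214 : Q := act 4 n24556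
theorem D25214 : act 4 n24556 = n25214 := rfl
theorem F49969 : act 0 n25214 = n24558 := d3_1 D25214 (iv D24558) (iv F48275)
def n25215 : Q := act 2 n24559
theorem D25215 : act 2 n24559 = n25215 := rfl
theorem F49970 : act 0 n25215 = n24561 := d1_1 D25215 (iv D24561) (iv F48277)
theorem F49971 : act 5 n25215 = n25139 := d11_2 F48278 D25215 F49793
def n25216 : Q := act 4 n24559
theorem D25216 : act 4 n24559 = n25216 := rfl
theorem F49972 : act 0 n25216 = n24562 := d3_1 D25216 (iv D24562) (iv F48277)
theorem F49973 : act 1 n25216 = n24972 := d7_1 D25216 F49394 F48617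
theorem F49974 : act 3 n25216 = n24952 := d12_1 D25216 F49335 (iv F48044) F48045 D24559
theorem F49975 : act 5 n25216 = n24951 := d14_2 F48278 D25216 F49331 (iv F49159) F49158
def n25217 : Q := act 3 n24561
theorem D25217 : act 3 n24561 = n25217 := rfl
theorem F49976 : act 1 n25217 = n25127 := d6_1 D25217 F49762 (iv F48283)
theorem F49977 : act 5 n25217 = n25140 := d13_2 (iv F48284) D25217 (iv D25140)
def n25218 : Q := act 4 n24561
theorem D25218 : act 4 n24561 = n25218 := rfl
theorem F49978 : act 1 n25218 = n25046 := d7_1 D25218 F49579 (iv F48283)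
theorem F49979 : act 2 n25218 = n24562 := d10_1 D25218 (iv D24562) D24561
theorem F49980 : act 5 n25218 = n24956 := d14_2 (iv F48284) D25218 F49344 F49150 F49149
def n25219 : Q := act 4 n24563
theorem D25219 : act 4 n24563 = n25219 := rfl
theorem F49981 : act 1 n25219 = n24689 := d7_1 D25219 F48621 (iv F48288)
theorem F49982 : act 2 n25219 = n24564 := d10_1 D25219 (iv D24564) D24563
def n25220 : Q := act 2 n24566
theorem D25220 : act 2 n24566 = n25220 := rfl
theorem F49983 : act 0 n25220 = n25140 := d1_1 D25220 F49795 F49066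
theorem F49984 : act 3 n25220 = n25139 := d15_3 D23572 D24566 D25220 F49793 (iv F48281) F48280 (iv F46767) F46769 F45599
def n25221 : Q := act 4 n24566
theorem D25221 : act 4 n24566 = n25221 := rfl
def n25222 : Q := act 2 n24570
theorem D25222 : act 2 n24570 = n25222 := rfl
theorem F49985 : act 4 n25222 = n25023 := d10_2 (iv F48306) D25222 (iv D25023)
theorem F49986 : act 5 n25222 = n25131 := d11_2 (iv F48307) D25222 (iv D25131)
def n25223 : Q := act 4 n24572
theorem D25223 : act 4 n24572 = n25223 := rfl
theorem F49987 : act 0 n25223 = n25185 := d3_1 D25223 (iv D25185) (iv F48311)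
theorem F49988 : act 1 n25223 = n24804 := d7_1 D25223 F48953 (iv F48312)
theorem F49989 : act 2 n25223 = n25182 := d10_1 D25223 (iv D25182) (iv F48313)
theorem F49990 : act 3 n25223 = n24803 := d12_1 D25223 (iv D24803) F46787 (iv F45851) (iv F48314)
theorem F49991 : act 5 n25223 = n25212 := d14_2 D24572 D25223 (iv D25212) F48272 F47263
def n25224 : Q := act 1 n24573
theorem D25224 : act 1 n24573 = n25224 := rfl
theorem F49992 : act 2 n25224 = n24574 := d5_2 D24573 D25224 F48316 (iv D23594) (iv F45855)
theorem F49993 : act 3 n25224 = n25224 := d6_2 F48315 D25224 (iv D25224)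
theorem F49994 : act 5 n25224 = n24573 := d15_8 F49907 F48148 F45853 (iv F42204) (iv F45857) (iv F48317) (iv F49992) F49993 (iv F49906)
def n25225 : Q := act 4 n24574
theorem D25225 : act 4 n24574 = n25225 := rfl
theorem F49995 : act 1 n25225 = n24575 := d7_1 D25225 (iv D24575) (iv F48316)
theorem F49996 : act 3 n25225 = n24584 := d12_1 D25225 (iv D24584) F45905 (iv F45858) (iv F48317)
def n25226 : Q := act 2 n24577
theorem D25226 : act 2 n24577 = n25226 := rfl
theorem F49997 : act 0 n25226 = n25224 := d1_1 D25226 F49992 (iv F48320)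
theorem F49998 : act 3 n25226 = n25226 := d9_2 D24577 D25226 (iv D25226) (iv D24577) (iv D23598) (iv D22111) (iv F42178) D23592 D24573 F48315 (iv D24573) (iv D23592) F42178 D22111 D23598
theorem F49999 : act 5 n25226 = n25193 := d11_2 (iv F48322) D25226 F49907
def n25227 : Q := act 4 n24577
theorem D25227 : act 4 n24577 = n25227 := rfl
theorem F50000 : act 0 n25227 = n25225 := d3_1 D25227 (iv D25225) (iv F48320)
theorem F50001 : act 1 n25227 = n24605 := d7_1 D25227 F48406 (iv F48321)
theorem F50002 : act 3 n25227 = n24586 := d12_1 D25227 (iv D24586) (iv D23612) (iv F45866) D24577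
theorem F50003 : act 5 n25227 = n24599 := d14_2 (iv F48322) D25227 F48386 F48142 D24509
def n25228 : Q := act 3 n24580
theorem D25228 : act 3 n24580 = n25228 := rfl
theorem F50004 : act 0 n25228 = n24836 := d2_1 D25228 F49027 (iv F48333)
theorem F50005 : act 1 n25228 = n24602 := d6_1 D25228 F48396 (iv F48334)
theorem F50006 : act 2 n25228 = n24735 := d9_1 D25228 F48750 (iv F48059) F48060 F46106 (iv F48319) (iv F49023) (iv D24835) F46871 (iv F46454) F46453 F46083 F43147 (iv F45882) (iv F48335)
theorem F50007 : act 4 n25228 = n24582 := d12_2 D24580 D25228 (iv D24582) (iv D23604) (iv F45878)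
theorem F50008 : act 5 n25228 = n24600 := d15_8 F46871 (iv F46454) F46453 F46083 F43147 (iv F45882) (iv F48335) D25228 F48387
def n25229 : Q := act 5 n24580
theorem D25229 : act 5 n24580 = n25229 := rfl
theorem F50009 : act 0 n25229 = n24835 := d4_1 D25229 F49024 (iv F48333)
theorem F50010 : act 1 n25229 = n24601 := d8_1 D25229 (iv F48393) (iv F48334)
theorem F50011 : act 2 n25229 = n24581 := d11_1 D25229 (iv D24581) (iv F48335)
theorem F50012 : act 3 n25229 = n24600 := d13_1 D25229 (iv F50008) (iv D25228)
theorem F50013 : act 4 n25229 = n24581 := d14_1 D25229 (iv D24581) (iv D23603) F45879 D24580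
def n25230 : Q := act 2 n24583
theorem D25230 : act 2 n24583 = n25230 := rfl
theorem F50014 : act 0 n25230 = n24728 := d1_1 D25230 F48724 (iv F48342)
theorem F50015 : act 1 n25230 = n24786 := d5_1 D25230 F48912 F48417 (iv D24609) (iv F48343)
theorem F50016 : act 3 n25230 = n25222 := d9_2 D24583 D25230 (iv D25222) (iv D24570) (iv D23580) (iv D22077) (iv F42045) D23558 D24557 (iv F48928) (iv F49772) (iv D25129) F48000 F45323 (iv F45892)
theorem F50017 : act 4 n25230 = n24609 := d10_2 (iv F48344) D25230 (iv D24609)
theorem F50018 : act 5 n25230 = n25213 := d11_2 (iv F48345) D25230 (iv D25213)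
def n25231 : Q := act 3 n24587
theorem D25231 : act 3 n24587 = n25231 := rfl
theorem F50019 : act 0 n25231 = n24597 := d2_1 D25231 (iv F49179) F49176
theorem F50020 : act 1 n25231 = n24603 := d6_1 D25231 F48398 (iv F48355)
theorem F50021 : act 2 n25231 = n24596 := d9_1 D25231 (iv D24596) F47087 (iv D24091) F43821 D22817 D24093 (iv F48550) F48549 F46218 F48349 (iv D24585) F45906 D23613 D24587
theorem F50022 : act 4 n25231 = n24603 := d12_2 F49180 D25231 F48398 (iv F48380) (iv F49179)
theorem F50023 : act 5 n25231 = n25058 := d13_2 F48535 D25231 F49602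
def n25232 : Q := act 4 n24589
theorem D25232 : act 4 n24589 = n25232 := rfl
theorem F50024 : act 0 n25232 = n24593 := d3_1 D25232 (iv D24593) (iv F48360)
theorem F50025 : act 2 n25232 = n24590 := d10_1 D25232 (iv D24590) D24589
theorem F50026 : act 5 n25232 = n25232 := d14_2 (iv F48362) D25232 (iv D25232) F48362 F45943
def n25233 : Q := act 3 n24592
theorem D25233 : act 3 n24592 = n25233 := rfl
theorem F50027 : act 0 n25233 = n24594 := d2_1 D25233 (iv D24594) (iv F48368)
theorem F50028 : act 1 n25233 = n25174 := d6_1 D25233 (iv D25174) (iv F48369)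
def n25234 : Q := act 3 n24593
theorem D25234 : act 3 n24593 = n25234 := rfl
theorem F50029 : act 1 n25234 = n25113 := d6_1 D25234 F49729 (iv F48371)
theorem F50030 : act 4 n25234 = n24594 := d12_2 D24593 D25234 (iv D24594) (iv D23631) (iv F45960)
theorem F50031 : act 5 n25234 = n25234 := d13_2 F48372 D25234 (iv D25234)
def n25235 : Q := act 2 n24594
theorem D25235 : act 2 n24594 = n25235 := rfl
theorem F50032 : act 1 n25235 = n25197 := d5_1 D25235 (iv D25197) F48153 (iv F47957) (iv F48373)
def n25236 : Q := act 3 n24598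
theorem D25236 : act 3 n24598 = n25236 := rfl
theorem F50033 : act 0 n25236 = n24599 := d2_1 D25236 (iv D24599) (iv F48381)
theorem F50034 : act 1 n25236 = n24835 := d6_1 D25236 (iv D24835) (iv F48382)
theorem F50035 : act 4 n25236 = n25188 := d12_2 D24598 D25236 (iv D25188) F48139 (iv F45984)
theorem F50036 : act 5 n25236 = n25225 := d13_2 (iv F48384) D25236 F49996
def n25237 : Q := act 2 n24599
theorem D25237 : act 2 n24599 = n25237 := rfl
theorem F50037 : act 4 n25237 = n25189 := d10_2 (iv F48386) D25237 (iv D25189)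
def n25238 : Q := act 1 n24604
theorem D25238 : act 1 n24604 = n25238 := rfl
theorem F50038 : act 0 n25238 = n25122 := d0_1 D25238 F49746 F47973 (iv F47934) (iv F48399)
theorem F50039 : act 3 n25238 = n25104 := d6_2 (iv F48400) D25238 (iv D25104)
theorem F50040 : act 4 n25238 = n25122 := d7_2 (iv F48401) D25238 F49746
theorem F50041 : act 5 n25238 = n25111 := d8_2 F48402 D25238 F49722
def n25239 : Q := act 1 n24607
theorem D25239 : act 1 n24607 = n25239 := rfl
theorem F50042 : act 2 n25239 = n25184 := d5_2 D24607 D25239 (iv D25184) (iv D24497) (iv F46013)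
theorem F50043 : act 3 n25239 = n24722 := d6_2 F49819 D25239 (iv F49817)
theorem F50044 : act 4 n25239 = n25184 := d7_2 (iv F48410) D25239 (iv D25184)
def n25240 : Q := act 4 n24608
theorem D25240 : act 4 n24608 = n25240 := rfl
theorem F50045 : act 0 n25240 = n25212 := d3_1 D25240 (iv D25212) (iv F48411)
theorem F50046 : act 1 n25240 = n25185 := d7_1 D25240 (iv D25185) (iv F48412)
theorem F50047 : act 3 n25240 = n25214 := d12_1 D25240 (iv D25214) (iv D24556) (iv F46018) (iv F48413)
theorem F50048 : act 5 n25240 = n25185 := d14_2 D24608 D25240 (iv D25185) (iv D24498) (iv F46014)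
def n25241 : Q := act 4 n24610
theorem D25241 : act 4 n24610 = n25241 := rfl
theorem F50049 : act 0 n25241 = n24803 := d3_1 D25241 (iv D24803) (iv F48418)
theorem F50050 : act 1 n25241 = n25214 := d7_1 D25241 (iv D25214) (iv F48419)
theorem F50051 : act 2 n25241 = n24850 := d10_1 D25241 (iv D24850) (iv F48420)
theorem F50052 : act 3 n25241 = n25185 := d12_1 D25241 (iv D25185) F48119 (iv F46023) (iv F48421)
theorem F50053 : act 5 n25241 = n25214 := d14_2 D24610 D25241 (iv D25214) (iv F48345) F48344
def n25242 : Q := act 4 n24611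
theorem D25242 : act 4 n24611 = n25242 := rfl
theorem F50054 : act 0 n25242 = n25182 := d3_1 D25242 (iv D25182) (iv F48422)
theorem F50055 : act 2 n25242 = n25185 := d10_1 D25242 (iv D25185) (iv F48423)
def n25243 : Q := act 4 n24613
theorem D25243 : act 4 n24613 = n25243 := rfl
theorem F50056 : act 1 n25243 = n24615 := d7_1 D25243 (iv D24615) (iv F48429)
theorem F50057 : act 3 n25243 = n24647 := d12_1 D25243 (iv D24647) F46131 (iv F46035) (iv F48430)
theorem F50058 : act 5 n25243 = n25132 := d14_2 D24613 D25243 (iv D25132) F48008 F47945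
def n25244 : Q := act 3 n24618
theorem D25244 : act 3 n24618 = n25244 := rfl
theorem F50059 : act 1 n25244 = n24625 := d6_1 D25244 F48456 (iv F48441)
theorem F50060 : act 5 n25244 = n24619 := d13_2 (iv F48443) D25244 (iv D24619)
def n25245 : Q := act 2 n24619
theorem D25245 : act 2 n24619 = n25245 := rfl
theorem F50061 : act 4 n25245 = n24620 := d10_2 (iv F48445) D25245 (iv D24620)
theorem F50062 : act 3 n25141 = n25245 := d12_5 F50061 F48446 F47056 D24449 D25141
def n25246 : Q := act 1 n24620
theorem D25246 : act 1 n24620 = n25246 := rfl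
theorem F50063 : act 2 n25246 = n24626 := d5_2 D24620 D25246 (iv D24626) (iv D23676) (iv F46043)
theorem F50064 : act 3 n25246 = n24879 := d6_2 (iv F48446) D25246 (iv D24879)
theorem F50065 : act 5 n25246 = n24957 := d8_2 F49830 D25246 F49831
theorem F50066 : act 0 n25246 = n24946 := d15_9 (iv D24946) (iv D24193) F44310 F40210 (iv F40263) D23015 D24207 D24957 (iv F50065)
def n25247 : Q := act 2 n24621
theorem D25247 : act 2 n24621 = n25247 := rfl
theorem F50067 : act 1 n25247 = n25245 := d5_1 D25247 (iv D25245) F48444 F46052 (iv F48447)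
theorem F50068 : act 4 n25247 = n25246 := d10_2 F48458 D25247 F50063
def n25248 : Q := act 5 n24621
theorem D25248 : act 5 n24621 = n25248 := rfl
theorem F50069 : act 1 n25248 = n24623 := d8_1 D25248 (iv D24623) (iv F48447)
theorem F50070 : act 3 n25248 = n24622 := d13_1 D25248 (iv D24622) D24621
def n25249 : Q := act 4 n24623
theorem D25249 : act 4 n24623 = n25249 := rfl
theorem F50071 : act 0 n25249 = n24628 := d3_1 D25249 (iv D24628) (iv F48449)
def n25250 : Q := act 4 n24624
theorem D25250 : act 4 n24624 = n25250 := rfl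
theorem F50072 : act 0 n25250 = n24629 := d3_1 D25250 (iv D24629) (iv F48451)
theorem F50073 : act 1 n25250 = n25232 := d7_1 D25250 (iv D25232) (iv F48452)
theorem F50074 : act 2 n25250 = n24629 := d10_1 D25250 (iv D24629) (iv F48453)
theorem F50075 : act 5 n25250 = n25250 := d14_2 (iv F48454) D25250 (iv D25250) F48454 F48366
def n25251 : Q := act 4 n24625
theorem D25251 : act 4 n24625 = n25251 := rfl
theorem F50076 : act 2 n25251 = n25249 := d10_1 D25251 (iv D25249) (iv F48455)
theorem F50077 : act 5 n25251 = n24628 := d14_2 D24625 D25251 (iv D24628) (iv D23677) (iv F46051)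
def n25252 : Q := act 5 n24626
theorem D25252 : act 5 n24626 = n25252 := rfl
theorem F50078 : act 0 n25252 = n24947 := d4_1 D25252 (iv D24947) F48459
theorem F50079 : act 1 n25252 = n24627 := d8_1 D25252 (iv D24627) D24626
theorem F50080 : act 2 n25252 = n24957 := d11_1 D25252 (iv F50065) F50063
theorem F50081 : act 3 n25252 = n24943 := d13_1 D25252 (iv D24943) (iv F48457)
def n25253 : Q := act 4 n24627
theorem D25253 : act 4 n24627 = n25253 := rfl
theorem F50082 : act 0 n25253 = n25251 := d3_1 D25253 (iv D25251) (iv F48460)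
theorem F50083 : act 2 n25253 = n24628 := d10_1 D25253 (iv D24628) (iv F48461)
theorem F50084 : act 5 n25253 = n25249 := d14_2 D24627 D25253 (iv D25249) (iv D24623) (iv F46055)
def n25254 : Q := act 3 n24630
theorem D25254 : act 3 n24630 = n25254 := rfl
theorem F50085 : act 1 n25254 = n24811 := d6_1 D25254 (iv D24811) (iv F48464)
def n25255 : Q := act 5 n24630
theorem D25255 : act 5 n24630 = n25255 := rfl
theorem F50086 : act 1 n25255 = n24637 := d8_1 D25255 F48483 (iv F48464)
theorem F50087 : act 2 n25255 = n24631 := d11_1 D25255 (iv D24631) D24630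
theorem F50088 : act 4 n25019 = n25255 := d10_0 F50087 (iv F49263) (iv F49510)
def n25256 : Q := act 2 n24636
theorem D25256 : act 2 n24636 = n25256 := rfl
theorem F50089 : act 0 n25256 = n24637 := d1_1 D25256 (iv D24637) (iv F48478)
theorem F50090 : act 1 n25256 = n24658 := d5_1 D25256 F48761 F48758 (iv F48059) (iv F48479)
theorem F50091 : act 3 n25256 = n24657 := d9_2 D24636 D25256 F48540 (iv D23976) (iv D22663) (iv D20825) (iv F39098) D22660 D23974 D24811 (iv F49697) (iv D25099) F47921 F45240 (iv F46088)
theorem F50092 : act 4 n25256 = n25017 := d10_2 (iv F48480) D25256 (iv D25017)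
theorem F50093 : act 5 n25256 = n24810 := d11_2 (iv F48481) D25256 (iv D24810)
def n25257 : Q := act 3 n24637
theorem D25257 : act 3 n24637 = n25257 := rfl
theorem F50094 : act 0 n25257 = n24657 := d2_1 D25257 (iv F50091) F50089
theorem F50095 : act 2 n25257 = n24813 := d9_1 D25257 (iv D24813) (iv D23975) (iv D22661) (iv F43469) D23973 D24810 (iv F49701) (iv D25100) (iv D24400) F45180 F41386 (iv F42489) D23693 D24637
theorem F50096 : act 5 n25257 = n24811 := d13_2 (iv F48483) D25257 (iv D24811)
def n25258 : Q := act 1 n24640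
theorem D25258 : act 1 n24640 = n25258 := rfl
theorem F50097 : act 2 n25258 = n24814 := d5_2 D24640 D25258 (iv F49651) F49652 F47883
theorem F50098 : act 3 n25258 = n25053 := d6_2 (iv F48493) D25258 F49591
theorem F50099 : act 4 n25258 = n24657 := d7_2 (iv F48492) D25258 (iv D24657)
theorem F50100 : act 5 n25258 = n25052 := d8_2 F48494 D25258 F49590
def n25259 : Q := act 4 n24641
theorem D25259 : act 4 n24641 = n25259 := rfl
theorem F50101 : act 0 n25259 = n24647 := d3_1 D25259 (iv D24647) (iv F48495)
theorem F50102 : act 2 n25259 = n25054 := d10_1 D25259 (iv D25054) (iv F48496)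
theorem F50103 : act 5 n25259 = n24660 := d14_2 D24641 D25259 (iv D24660) (iv D23729) (iv F46124)
def n25260 : Q := act 1 n24642
theorem D25260 : act 1 n24642 = n25260 := rfl
theorem F50104 : act 4 n25260 = n24644 := d7_2 (iv F48499) D25260 (iv D24644)
def n25261 : Q := act 3 n24642
theorem D25261 : act 3 n24642 = n25261 := rfl
theorem F50105 : act 0 n25261 = n24658 := d2_1 D25261 (iv D24658) (iv F48498)
theorem F50106 : act 2 n25261 = n24662 := d15_2 D24642 D25261 F48543 F46199 F42646 (iv F42642) (iv F46196) (iv D23729) (iv F46127)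
theorem F50107 : act 5 n24661 = n25261 := d11_0 F50106 (iv D24662) D24661
def n25262 : Q := act 5 n24642
theorem D25262 : act 5 n24642 = n25262 := rfl
theorem F50108 : act 0 n25262 = n24659 := d4_1 D25262 (iv D24659) (iv F48498)
theorem F50109 : act 2 n25262 = n24643 := d11_1 D25262 (iv D24643) D24642
theorem F50110 : act 3 n25262 = n24661 := d13_1 D25262 F50107 (iv D25261)
def n25263 : Q := act 4 n24643
theorem D25263 : act 4 n24643 = n25263 := rfl
theorem F50111 : act 0 n25263 = n24660 := d3_1 D25263 (iv D24660) (iv F48500)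
theorem F50112 : act 1 n25263 = n25133 := d7_1 D25263 F49781 F49617
theorem F50113 : act 3 n25263 = n25132 := d12_1 D25263 (iv D25132) F48007 F47829 (iv F48501)
theorem F50114 : act 5 n25263 = n24647 := d14_2 D24643 D25263 (iv D24647) (iv D23708) (iv F46128)
def n25264 : Q := act 0 n24644
theorem D25264 : act 0 n24644 = n25264 := rfl
def n25265 : Q := act 3 n24644
theorem D25265 : act 3 n24644 = n25265 := rfl
theorem F50115 : act 1 n25265 = n24645 := d6_1 D25265 (iv D24645) D24644
theorem F50116 : act 2 n25265 = n25055 := d15_6 F47245 D24147 D24916 (iv F49844) F49840 D25265 (iv D25055) (iv F49236) F49234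
theorem F50117 : act 5 n25265 = n25048 := d15_8 F49870 F48111 F47245 D24147 D24916 (iv F49844) F49840 D25265 (iv F49869)
theorem F50118 : act 0 n25056 = n25265 := d4_3 F50117 (iv F49869) (iv F49872)
theorem F50119 : act 3 n25264 = n25056 := d2_0 F50118 (iv D25265) D25264
def n25266 : Q := act 5 n24644
theorem D25266 : act 5 n24644 = n25266 := rfl
theorem F50120 : act 1 n25266 = n24646 := d8_1 D25266 (iv D24646) D24644
theorem F50121 : act 3 n25266 = n25048 := d13_1 D25266 (iv F50117) (iv D25265)
def n25267 : Q := act 4 n24646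
theorem D25267 : act 4 n24646 = n25267 := rfl
theorem F50122 : act 0 n25267 = n25054 := d3_1 D25267 (iv D25054) (iv F48505)
theorem F50123 : act 2 n25267 = n24647 := d10_1 D25267 (iv D24647) (iv F48506)
def n25268 : Q := act 3 n24648
theorem D25268 : act 3 n24648 = n25268 := rfl
theorem F50124 : act 0 n25268 = n24649 := d2_1 D25268 (iv D24649) D24648
theorem F50125 : act 1 n25268 = n24913 := d6_1 D25268 (iv F49886) F49884
theorem F50126 : act 2 n25268 = n24705 := d9_1 D25268 F48670 (iv D24120) (iv D22864) (iv F43943) D24114 (iv F48514) F48515 (iv F49105) F49106 (iv D24058) (iv D22764) (iv F43672) D24056 (iv F48508)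
theorem F50127 : act 4 n25268 = n24704 := d12_2 (iv F48509) D25268 F48669 F46636 (iv F47789)
theorem F50128 : act 5 n25268 = n24867 := d15_8 (iv F49105) F49106 (iv D24058) (iv D22764) (iv F43672) D24056 (iv F48508) D25268 F49102
def n25269 : Q := act 5 n24648
theorem D25269 : act 5 n24648 = n25269 := rfl
theorem F50129 : act 0 n25269 = n24650 := d4_1 D25269 (iv D24650) D24648
theorem F50130 : act 1 n25269 = n25055 := d8_1 D25269 (iv F49888) F49884
theorem F50131 : act 2 n25269 = n24872 := d11_1 D25269 (iv D24872) (iv F48508)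
theorem F50132 : act 3 n25269 = n24867 := d13_1 D25269 (iv F50128) (iv D25268)
theorem F50133 : act 4 n25269 = n24752 := d14_1 D25269 F48798 (iv F47124) (iv F47790) (iv F48509)
def n25270 : Q := act 2 n24649
theorem D25270 : act 2 n24649 = n25270 := rfl
theorem F50134 : act 0 n25270 = n24705 := d1_1 D25270 (iv F50126) F50124
theorem F50135 : act 1 n25270 = n24873 := d5_1 D25270 F49123 F46987 (iv F46144) (iv F48510)
theorem F50136 : act 4 n25270 = n24699 := d10_2 (iv F48511) D25270 F48652
theorem F50137 : act 5 n25270 = n24868 := d11_2 F48512 D25270 F49105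
theorem F50138 : act 3 n25270 = n24873 := d15_1 D25270 F49123 F46988 (iv F46983) (iv F49120) (iv F50131) F50132 (iv F50128) F50124
def n25271 : Q := act 2 n24656
theorem D25271 : act 2 n24656 = n25271 := rfl
theorem F50139 : act 0 n25271 = n24661 := d1_1 D25271 (iv D24661) (iv F48537)
theorem F50140 : act 1 n25271 = n24810 := d5_1 D25271 (iv D24810) F46809 (iv F48055) (iv F48538)
theorem F50141 : act 3 n25271 = n24659 := d9_2 D24656 D25271 F48541 F46196 F42642 (iv F42646) (iv F46199) (iv F48543) (iv F50106) (iv D25261) (iv D24642) (iv D23705) F42550 D22300 D23726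
theorem F50142 : act 4 n25271 = n25147 := d10_2 (iv F48539) D25271 F49812
theorem F50143 : act 5 n25271 = n24658 := d11_2 F48760 D25271 F48761
def n25272 : Q := act 4 n24659
theorem D25272 : act 4 n24659 = n25272 := rfl
theorem F50144 : act 2 n25272 = n24660 := d10_1 D25272 (iv D24660) (iv F48541)
theorem F50145 : act 5 n25272 = n25054 := d14_2 D24659 D25272 (iv D25054) F48494 F48492
def n25273 : Q := act 2 n24663
theorem D25273 : act 2 n24663 = n25273 := rfl
theorem F50146 : act 0 n25273 = n25051 := d1_1 D25273 F49588 (iv F48544)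
theorem F50147 : act 1 n25273 = n25199 := d5_1 D25273 (iv D25199) F48158 (iv F47126) (iv F48545)
theorem F50148 : act 4 n25273 = n24664 := d10_2 (iv F48546) D25273 (iv D24664)
theorem F50149 : act 5 n25273 = n25047 := d11_2 (iv F48547) D25273 (iv D25047)
def n25274 : Q := act 1 n24664
theorem D25274 : act 1 n24664 = n25274 := rfl
theorem F50150 : act 0 n25274 = n25219 := d0_1 D25274 F49981 F48620 D24691 (iv F48627)
theorem F50151 : act 2 n25274 = n24891 := d5_2 D24664 D25274 (iv D24891) (iv D24101) (iv F46208)
theorem F50152 : act 4 n25274 = n25199 := d7_2 F50148 D25274 (iv F50147)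
def n25275 : Q := act 2 n24666
theorem D25275 : act 2 n24666 = n25275 := rfl
theorem F50153 : act 0 n25275 = n25169 := d1_1 D25275 F49857 (iv F48552)
theorem F50154 : act 4 n25275 = n25166 := d10_2 (iv F48554) D25275 (iv D25166)
theorem F50155 : act 3 n25275 = n25275 := d15_1 D25275 (iv D25275) (iv D24666) F46225 D23743 (iv F48439) (iv F49860) (iv D25170) (iv F48552)
def n25276 : Q := act 5 n24666
theorem D25276 : act 5 n24666 = n25276 := rfl
theorem F50156 : act 0 n25276 = n25170 := d4_1 D25276 (iv D25170) (iv F48552)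
theorem F50157 : act 1 n25276 = n24983 := d8_1 D25276 (iv D24983) (iv F48553)
theorem F50158 : act 3 n25276 = n24667 := d13_1 D25276 (iv D24667) D24666
def n25277 : Q := act 2 n24668
theorem D25277 : act 2 n24668 = n25277 := rfl
theorem F50159 : act 0 n25277 = n25245 := d1_1 D25277 (iv D25245) (iv F48559)
theorem F50160 : act 4 n25277 = n25153 := d10_2 (iv F48561) D25277 F49828
def n25278 : Q := act 5 n24668
theorem D25278 : act 5 n24668 = n25278 := rfl
theorem F50161 : act 0 n25278 = n25244 := d4_1 D25278 F50060 (iv F48559)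
theorem F50162 : act 1 n25278 = n24947 := d8_1 D25278 (iv D24947) (iv F48560)
theorem F50163 : act 3 n25278 = n24669 := d13_1 D25278 (iv D24669) D24668
def n25279 : Q := act 3 n24670
theorem D25279 : act 3 n24670 = n25279 := rfl
def n25280 : Q := act 3 n24671
theorem D25280 : act 3 n24671 = n25280 := rfl
theorem F50164 : act 1 n25280 = n24672 := d6_1 D25280 (iv D24672) D24671
theorem F50165 : act 5 n25280 = n25110 := d13_2 (iv F48603) D25280 F49719
def n25281 : Q := act 5 n24679
theorem D25281 : act 5 n24679 = n25281 := rfl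
theorem F50166 : act 0 n25281 = n24711 := d4_1 D25281 F48689 (iv F48588)
theorem F50167 : act 1 n25281 = n24890 := d8_1 D25281 F49183 (iv F48589)
theorem F50168 : act 2 n25281 = n24710 := d11_1 D25281 F48686 (iv F48590)
theorem F50169 : act 4 n25281 = n24750 := d14_1 D25281 (iv D24750) (iv D23883) (iv F46278) D24679
def n25282 : Q := act 2 n24696
theorem D25282 : act 2 n24696 = n25282 := rfl
theorem F50170 : act 0 n25282 = n24706 := d1_1 D25282 (iv F49373) F49372
theorem F50171 : act 1 n25282 = n24746 := d5_1 D25282 (iv D24746) F46529 D23900 (iv F48640)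
theorem F50172 : act 3 n25282 = n24700 := d9_2 D24696 D25282 F48654 F46354 (iv F43583) (iv F44050) (iv F46635) (iv F48669) (iv D24704) (iv D23801) (iv D22423) (iv D20494) (iv F38257) D22414 D23794
theorem F50173 : act 4 n25282 = n24763 := d10_2 (iv F48641) D25282 (iv D24763)
theorem F50174 : act 5 n25282 = n24699 := d11_2 (iv F48642) D25282 F48652
def n25283 : Q := act 5 n24698
theorem D25283 : act 5 n24698 = n25283 := rfl
theorem F50175 : act 0 n25283 = n24707 := d4_1 D25283 (iv D24707) F48647
theorem F50176 : act 1 n25283 = n24700 := d8_1 D25283 (iv D24700) D24698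
theorem F50177 : act 2 n25283 = n24701 := d11_1 D25283 (iv D24701) (iv F48646)
theorem F50178 : act 3 n25283 = n24746 := d13_1 D25283 F48778 F48649
def n25284 : Q := act 4 n24703
theorem D25284 : act 4 n24703 = n25284 := rfl
theorem F50179 : act 0 n25284 = n24898 := d3_1 D25284 F49210 (iv F48663)
theorem F50180 : act 1 n25284 = n24705 := d7_1 D25284 (iv D24705) (iv F48664)
theorem F50181 : act 2 n25284 = n24899 := d10_1 D25284 F49212 (iv F48665)
theorem F50182 : act 3 n25284 = n24898 := d12_1 D25284 F49210 F48661 (iv F48662) D24703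
def n25285 : Q := act 5 n24705
theorem D25285 : act 5 n24705 = n25285 := rfl
theorem F50183 : act 0 n25285 = n24868 := d4_1 D25285 (iv F50137) F50134
theorem F50184 : act 2 n25285 = n24867 := d11_1 D25285 (iv F50128) F50126
theorem F50185 : act 3 n25285 = n24869 := d13_1 D25285 F49109 (iv F48670)
theorem F50186 : act 4 n25285 = n24861 := d14_1 D25285 F49084 F48673 (iv D24706) D24705
def n25286 : Q := act 5 n24708
theorem D25286 : act 5 n24708 = n25286 := rfl
theorem F50187 : act 0 n25286 = n24870 := d4_1 D25286 (iv F49112) (iv F48677)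
theorem F50188 : act 1 n25286 = n24861 := d8_1 D25286 F49084 (iv F48678)
theorem F50189 : act 2 n25286 = n24911 := d11_1 D25286 (iv D24911) (iv F48679)
theorem F50190 : act 3 n25286 = n24760 := d13_1 D25286 F48833 (iv F48680)
def n25287 : Q := act 3 n24711
theorem D25287 : act 3 n24711 = n25287 := rfl
theorem F50191 : act 1 n25287 = n25279 := d6_1 D25287 (iv D25279) (iv F48687)
theorem F50192 : act 5 n25287 = n24713 := d13_2 (iv F48689) D25287 (iv D24713)
def n25288 : Q := act 3 n24712
theorem D25288 : act 3 n24712 = n25288 := rfl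
theorem F50193 : act 0 n25288 = n25022 := d2_1 D25288 (iv D25022) (iv F48690)
theorem F50194 : act 1 n25288 = n24713 := d6_1 D25288 (iv D24713) D24712
theorem F50195 : act 4 n25288 = n25128 := d12_2 (iv F48692) D25288 F49767 (iv F48586) F48585
theorem F50196 : act 5 n25288 = n25279 := d13_2 (iv F48693) D25288 (iv D25279)
theorem F50197 : act 2 n25288 = n25141 := d15_2 (iv F48691) D25288 F50062 (iv D25245) (iv D24619) (iv F46238) (iv F47581) F47582 (iv F46403)
def n25289 : Q := act 0 n24716
theorem D25289 : act 0 n24716 = n25289 := rfl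
theorem F50198 : act 1 n25289 = n24825 := d0_2 D24716 D25289 (iv D24825) (iv D23984) (iv F46421)
theorem F50199 : act 3 n25289 = n25210 := d2_2 F49956 D25289 F49958
theorem F50200 : act 4 n25289 = n24824 := d3_2 (iv F48697) D25289 (iv D24824)
def n25290 : Q := act 5 n24716
theorem D25290 : act 5 n24716 = n25290 := rfl
theorem F50201 : act 1 n25290 = n24717 := d8_1 D25290 (iv D24717) D24716
theorem F50202 : act 3 n25290 = n24719 := d13_1 D25290 (iv F49957) F49956
def n25291 : Q := act 1 n24718
theorem D25291 : act 1 n24718 = n25291 := rfl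
theorem F50203 : act 0 n25291 = n24798 := d0_1 D25291 (iv D24798) F46758 (iv F46918) (iv F48701)
theorem F50204 : act 2 n25291 = n24719 := d5_2 D24718 D25291 (iv D24719) (iv D23831) (iv F46426)
theorem F50205 : act 4 n25291 = n24799 := d7_2 (iv F48702) D25291 F48940
def n25292 : Q := act 4 n24724
theorem D25292 : act 4 n24724 = n25292 := rfl
theorem F50206 : act 0 n25292 = n24727 := d3_1 D25292 (iv D24727) (iv F48714)
theorem F50207 : act 2 n25292 = n24725 := d10_1 D25292 (iv D24725) (iv F48715)
theorem F50208 : act 5 n25292 = n24727 := d14_2 (iv F48716) D25292 (iv D24727) (iv D23848) (iv F46462)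
def n25293 : Q := act 4 n24726
theorem D25293 : act 4 n24726 = n25293 := rfl
theorem F50209 : act 1 n25293 = n24727 := d7_1 D25293 (iv D24727) (iv F48721)
theorem F50210 : act 2 n25293 = n24781 := d10_1 D25293 (iv D24781) (iv F48722)
def n25294 : Q := act 3 n24727
theorem D25294 : act 3 n24727 = n25294 := rfl
def n25295 : Q := act 3 n24728
theorem D25295 : act 3 n24728 = n25295 := rfl
theorem F50211 : act 0 n25295 = n25222 := d2_1 D25295 (iv F50016) F50014
theorem F50212 : act 1 n25295 = n24729 := d6_1 D25295 (iv D24729) D24728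
theorem F50213 : act 2 n25295 = n24857 := d9_1 D25295 F49071 F48198 F45622 (iv F45759) D24556 D25213 F49968 (iv D25131) (iv D24438) F45297 (iv F42116) (iv F45762) (iv F46779) (iv F48724)
theorem F50214 : act 4 n25295 = n24852 := d12_2 (iv F48725) D25295 (iv D24852) (iv D24026) (iv F46494)
theorem F50215 : act 5 n25295 = n24793 := d13_2 F48726 D25295 F48928
def n25296 : Q := act 1 n24733
theorem D25296 : act 1 n24733 = n25296 := rfl
theorem F50216 : act 3 n25296 = n24808 := d6_2 (iv F48745) D25296 (iv D24808)
theorem F50217 : act 5 n25296 = n24887 := d8_2 (iv F48746) D25296 (iv D24887)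
def n25297 : Q := act 4 n24733
theorem D25297 : act 4 n24733 = n25297 := rfl
theorem F50218 : act 0 n25297 = n24809 := d3_1 D25297 (iv D24809) (iv F48744)
theorem F50219 : act 2 n25297 = n24734 := d10_1 D25297 (iv D24734) D24733
theorem F50220 : act 5 n25297 = n25297 := d14_2 (iv F48746) D25297 (iv D25297) F48746 F47083
def n25298 : Q := act 2 n24736
theorem D25298 : act 2 n24736 = n25298 := rfl
theorem F50221 : act 0 n25298 = n24737 := d1_1 D25298 (iv D24737) (iv F48752)
theorem F50222 : act 3 n25298 = n24740 := d9_2 D24736 D25298 (iv D24740) (iv D23867) (iv D22524) (iv D20645) (iv F38634) D22522 D23865 F48628 F48626 F46327 F46203 (iv F43109) (iv F46511)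
theorem F50223 : act 4 n25298 = n25261 := d10_2 (iv F48754) D25298 F50106
theorem F50224 : act 5 n25298 = n24739 := d11_2 (iv F48755) D25298 (iv D24739)
def n25299 : Q := act 1 n24739
theorem D25299 : act 1 n24739 = n25299 := rfl
theorem F50225 : act 2 n25299 = n24742 := d5_2 D24739 D25299 (iv D24742) (iv D23871) (iv F46517)
theorem F50226 : act 3 n25299 = n25274 := d6_2 (iv F48764) D25299 (iv D25274)
theorem F50227 : act 4 n25299 = n24834 := d7_2 F49584 D25299 (iv F49583)
def n25300 : Q := act 1 n24740
theorem D25300 : act 1 n24740 = n25300 := rfl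
theorem F50228 : act 4 n25300 = n25265 := d7_2 (iv F48765) D25300 F50115
theorem F50229 : act 5 n25300 = n25274 := d8_2 (iv F48766) D25300 (iv D25274)
def n25301 : Q := act 5 n24742
theorem D25301 : act 5 n24742 = n25301 := rfl
theorem F50230 : act 0 n25301 = n24926 := d4_1 D25301 (iv F49898) F49895
theorem F50231 : act 1 n25301 = n24743 := d8_1 D25301 (iv D24743) D24742
theorem F50232 : act 4 n25301 = n24979 := d14_1 D25301 (iv D24979) F47511 (iv F46861) (iv F48768)
def n25302 : Q := act 5 n24748
theorem D25302 : act 5 n24748 = n25302 := rfl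
theorem F50233 : act 0 n25302 = n25280 := d4_1 D25302 F50165 F49717
theorem F50234 : act 1 n25302 = n24986 := d8_1 D25302 F49437 (iv F48783)
theorem F50235 : act 2 n25302 = n25280 := d11_1 D25302 F50165 F49718
theorem F50236 : act 3 n25302 = n24750 := d13_1 D25302 (iv D24750) (iv F48784)
def n25303 : Q := act 3 n24751
theorem D25303 : act 3 n24751 = n25303 := rfl
theorem F50237 : act 0 n25303 = n24874 := d2_1 D25303 (iv D24874) (iv F48792)
theorem F50238 : act 1 n25303 = n24752 := d6_1 D25303 (iv D24752) D24751
theorem F50239 : act 4 n25303 = n25055 := d12_2 (iv F48794) D25303 (iv D25055) F49101 (iv D24866)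
theorem F50240 : act 5 n25303 = n24891 := d13_2 (iv F48795) D25303 F49185
theorem F50241 : act 2 n25300 = n25303 := d11_3 F50240 (iv F50151) (iv F50229)
def n25304 : Q := act 3 n24755
theorem D25304 : act 3 n24755 = n25304 := rfl
theorem F50242 : act 0 n25304 = n24859 := d2_1 D25304 F49076 (iv F48809)
theorem F50243 : act 2 n25304 = n25287 := d9_1 D25304 (iv D25287) (iv D24711) (iv D23817) (iv F46396) (iv F48194) F48193 (iv F46931) (iv F49074) F49075 F48590 (iv D23813) (iv F43231) D23892 D24755
theorem F50244 : act 5 n25304 = n24856 := d13_2 (iv F48811) D25304 F49070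
def n25305 : Q := act 4 n24756
theorem D25305 : act 4 n24756 = n25305 := rfl
theorem F50245 : act 0 n25305 = n24782 := d3_1 D25305 (iv D24782) (iv F48812)
theorem F50246 : act 2 n25305 = n24795 := d10_1 D25305 (iv D24795) (iv F48813)
theorem F50247 : act 5 n25305 = n24795 := d14_2 (iv F48814) D25305 (iv D24795) (iv F48824) F48823
def n25306 : Q := act 3 n24766
theorem D25306 : act 3 n24766 = n25306 := rfl
theorem F50248 : act 0 n25306 = n24769 := d2_1 D25306 (iv D24769) (iv F48857)
theorem F50249 : act 1 n25306 = n24859 := d6_1 D25306 F49076 (iv F48858)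
theorem F50250 : act 4 n25306 = n24783 := d12_2 (iv F48859) D25306 (iv D24783) (iv D23937) (iv F46667)
theorem F50251 : act 5 n25306 = n24789 := d13_2 F48860 D25306 F48919
theorem F50252 : act 2 n25306 = n24849 := d15_2 D24766 D25306 (iv D24849) F46912 F43606 (iv F43340) (iv F46679) (iv D23920) (iv F46660)
def n25307 : Q := act 3 n24768
theorem D25307 : act 3 n24768 = n25307 := rfl
theorem F50253 : act 1 n25307 = n24769 := d6_1 D25307 (iv D24769) D24768
def n25308 : Q := act 5 n24768
theorem D25308 : act 5 n24768 = n25308 := rfl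
theorem F50254 : act 0 n25308 = n25202 := d4_1 D25308 F49930 F49489
theorem F50255 : act 1 n25308 = n24770 := d8_1 D25308 (iv D24770) D24768
theorem F50256 : act 2 n25308 = n25206 := d11_1 D25308 F49947 (iv F48866)
theorem F50257 : act 4 n25308 = n25200 := d14_1 D25308 F49923 F48877 (iv D24772) (iv F48867)
theorem F50258 : act 3 n25221 = n25308 := d12_5 F50257 (iv D25200) F48175 D24566 D25221
theorem F50259 : act 5 n25307 = n25221 := d13_0 F50258 (iv D25308) D25307
def n25309 : Q := act 2 n24769
theorem D25309 : act 2 n24769 = n25309 := rfl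
theorem F50260 : act 0 n25309 = n24849 := d1_1 D25309 (iv F50252) F50248
theorem F50261 : act 3 n25309 = n24797 := d9_2 D24769 D25309 (iv D24797) (iv D23952) (iv F46664) (iv F48864) F48863 (iv F48919) F48918 (iv D24028) F43612 F39278 (iv F38952) D22598 D23919
theorem F50262 : act 5 n24788 = n25309 := d13_0 F50261 F48938 (iv F48916)
def n25310 : Q := act 4 n24769
theorem D25310 : act 4 n24769 = n25310 := rfl
theorem F50263 : act 0 n25310 = n24783 := d3_1 D25310 (iv F50250) F50248
theorem F50264 : act 3 n25310 = n24773 := d12_1 D25310 (iv D24773) (iv D23922) (iv F46677) D24769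
theorem F50265 : act 5 n24779 = n25310 := d13_0 F50264 F48880 (iv F48898)
def n25311 : Q := act 5 n24769
theorem D25311 : act 5 n24769 = n25311 := rfl
theorem F50266 : act 0 n25311 = n24789 := d4_1 D25311 (iv F50251) F50248
theorem F50267 : act 1 n25311 = n25221 := d8_1 D25311 (iv F50259) F50253
theorem F50268 : act 2 n25311 = n24788 := d11_1 D25311 F50262 (iv D25309)
theorem F50269 : act 3 n25311 = n24770 := d13_1 D25311 (iv D24770) D24769
theorem F50270 : act 4 n25311 = n24775 := d14_1 D25311 F48887 D24779 F50265 (iv D25310)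
def n25312 : Q := act 4 n24771
theorem D25312 : act 4 n24771 = n25312 := rfl
theorem F50271 : act 1 n25312 = n24773 := d7_1 D25312 (iv D24773) (iv F48871)
theorem F50272 : act 5 n25312 = n24781 := d14_2 F48872 D25312 (iv D24781) F46708 (iv F46694)
def n25313 : Q := act 3 n24776
theorem D25313 : act 3 n24776 = n25313 := rfl
theorem F50273 : act 0 n25313 = n24777 := d2_1 D25313 (iv D24777) D24776
theorem F50274 : act 1 n25313 = n24790 := d6_1 D25313 (iv D24790) (iv F48888)
theorem F50275 : act 2 n25313 = n25217 := d9_1 D25313 (iv D25217) (iv D24561) (iv D23565) F42076 D22060 D23572 D24566 D25220 F49984 F49793 (iv F48281) F48280 (iv F46767) (iv F48889)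
theorem F50276 : act 5 n25313 = n24855 := d13_2 (iv F48891) D25313 (iv D24855)
def n25314 : Q := act 2 n24777
theorem D25314 : act 2 n24777 = n25314 := rfl
theorem F50277 : act 0 n25314 = n25217 := d1_1 D25314 (iv F50275) F50273
theorem F50278 : act 3 n25314 = n25215 := d9_2 D24777 D25314 (iv D25215) (iv D24559) F45777 (iv F45600) (iv F46927) D24855 (iv F49795) (iv D25140) F48025 (iv F45782) F45781 (iv F43408) (iv F46701)
theorem F50279 : act 5 n25314 = n25220 := d11_2 (iv F48893) D25314 (iv D25220)
def n25315 : Q := act 4 n24777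
theorem D25315 : act 4 n24777 = n25315 := rfl
theorem F50280 : act 1 n25315 = n24779 := d7_1 D25315 (iv D24779) (iv F48892)
theorem F50281 : act 3 n25315 = n24781 := d12_1 D25315 (iv D24781) (iv D23931) (iv F46702) D24777
def n25316 : Q := act 1 n24778
theorem D25316 : act 1 n24778 = n25316 := rfl
theorem F50282 : act 3 n25316 = n24785 := d6_2 (iv F48895) D25316 (iv D24785)
theorem F50283 : act 5 n25316 = n24787 := d8_2 (iv F48896) D25316 F48914
def n25317 : Q := act 4 n24778
theorem D25317 : act 4 n24778 = n25317 := rfl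
theorem F50284 : act 0 n25317 = n24794 := d3_1 D25317 (iv D24794) (iv F48894)
theorem F50285 : act 2 n25317 = n24779 := d10_1 D25317 (iv D24779) D24778
def n25318 : Q := act 4 n24780
theorem D25318 : act 4 n24780 = n25318 := rfl
theorem F50286 : act 0 n25318 = n24781 := d3_1 D25318 (iv D24781) (iv F48899)
theorem F50287 : act 1 n25318 = n24795 := d7_1 D25318 (iv D24795) (iv F48900)
def n25319 : Q := act 3 n24782
theorem D25319 : act 3 n24782 = n25319 := rfl
theorem F50288 : act 1 n25319 = n24783 := d6_1 D25319 (iv D24783) (iv F48903)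
theorem F50289 : act 4 n25319 = n24859 := d12_2 D24782 D25319 F49076 (iv F48806) F48808
theorem F50290 : act 5 n25319 = n24792 := d13_2 (iv F48905) D25319 F48927
def n25320 : Q := act 2 n24783
theorem D25320 : act 2 n24783 = n25320 := rfl
theorem F50291 : act 4 n25320 = n24849 := d10_2 F50250 D25320 (iv F50252)
theorem F50292 : act 5 n25320 = n24794 := d11_2 (iv F48906) D25320 F48929
theorem F50293 : act 3 n25320 = n24847 := d15_1 D25320 F49054 F46911 (iv F46498) F46499 (iv F46710) (iv F48898) F50265 F50263
def n25321 : Q := act 1 n24784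
theorem D25321 : act 1 n24784 = n25321 := rfl
theorem F50294 : act 2 n25321 = n24801 := d5_2 D24784 D25321 F48946 F46765 (iv F46725)
theorem F50295 : act 4 n25321 = n24785 := d7_2 (iv F48908) D25321 (iv D24785)
theorem F50296 : act 5 n25321 = n24801 := d8_2 (iv F48909) D25321 F48946
def n25322 : Q := act 3 n24784
theorem D25322 : act 3 n24784 = n25322 := rfl
theorem F50297 : act 0 n25322 = n24848 := d2_1 D25322 F49055 (iv F48907)
theorem F50298 : act 5 n25322 = n24802 := d13_2 (iv F48909) D25322 (iv D24802)
def n25323 : Q := act 0 n24785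
theorem D25323 : act 0 n24785 = n25323 := rfl
theorem F50299 : act 1 n25323 = n25213 := d0_2 D24785 D25323 F49967 (iv F48732) F48731
theorem F50300 : act 2 n25323 = n24800 := d1_2 (iv F48910) D25323 F48943
theorem F50301 : act 5 n25323 = n24786 := d4_2 (iv F48911) D25323 (iv D24786)
def n25324 : Q := act 3 n24786
theorem D25324 : act 3 n24786 = n25324 := rfl
theorem F50302 : act 0 n25324 = n24787 := d2_1 D25324 (iv D24787) D24786
theorem F50303 : act 1 n25324 = n25222 := d6_1 D25324 (iv F50016) F50015
def n25325 : Q := act 2 n24787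
theorem D25325 : act 2 n24787 = n25325 := rfl
theorem F50304 : act 1 n25325 = n25220 := d5_1 D25325 (iv D25220) (iv F48885) F48886 (iv F48914)
def n25326 : Q := act 4 n24787
theorem D25326 : act 4 n24787 = n25326 := rfl
theorem F50305 : act 1 n25326 = n24788 := d7_1 D25326 (iv D24788) (iv F48914)
theorem F50306 : act 3 n25326 = n24798 := d12_1 D25326 F48939 F46760 (iv F46730) D24787
def n25327 : Q := act 4 n24790
theorem D25327 : act 4 n24790 = n25327 := rfl
theorem F50307 : act 0 n25327 = n24792 := d3_1 D25327 (iv D24792) (iv F48920)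
theorem F50308 : act 2 n25327 = n24853 := d10_1 D25327 (iv D24853) (iv F48921)
theorem F50309 : act 3 n25327 = n24795 := d12_1 D25327 (iv D24795) (iv D23947) (iv F46734) D24790
def n25328 : Q := act 4 n24791
theorem D25328 : act 4 n24791 = n25328 := rfl
theorem F50310 : act 0 n25328 = n24853 := d3_1 D25328 (iv D24853) (iv F48923)
theorem F50311 : act 1 n25328 = n25068 := d7_1 D25328 (iv F49770) F49769
theorem F50312 : act 2 n25328 = n24792 := d10_1 D25328 (iv D24792) D24791
theorem F50313 : act 3 n25328 = n25067 := d12_1 D25328 (iv D25067) F47845 (iv F46921) (iv F48925)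
def n25329 : Q := act 4 n24793
theorem D25329 : act 4 n24793 = n25329 := rfl
theorem F50314 : act 1 n25329 = n24794 := d7_1 D25329 (iv D24794) D24793
theorem F50315 : act 2 n25329 = n25068 := d10_1 D25329 (iv F49770) F49772
def n25330 : Q := act 3 n24794
theorem D25330 : act 3 n24794 = n25330 := rfl
theorem F50316 : act 4 n25330 = n24848 := d12_2 D24794 D25330 F49055 (iv F48735) F48734
theorem F50317 : act 5 n25330 = n24847 := d13_2 F50292 D25330 (iv F50293)
theorem F50318 : act 2 n25330 = n24848 := d15_2 (iv F48929) D25330 F49055 (iv F48738) F48739 (iv F48879) (iv F50264) (iv F50265) F48897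
def n25331 : Q := act 1 n24797
theorem D25331 : act 1 n24797 = n25331 := rfl
theorem F50319 : act 2 n25331 = n25210 := d5_2 D24797 D25331 F49959 F48266 (iv F46755)
theorem F50320 : act 4 n25331 = n24840 := d7_2 (iv F48937) D25331 F49038
theorem F50321 : act 5 n25331 = n24798 := d8_2 (iv F48938) D25331 (iv D24798)
def n25332 : Q := act 4 n24800
theorem D25332 : act 4 n24800 = n25332 := rfl
theorem F50322 : act 0 n25332 = n24801 := d3_1 D25332 (iv D24801) (iv F48943)
theorem F50323 : act 1 n25332 = n24850 := d7_1 D25332 (iv D24850) (iv F48944)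
def n25333 : Q := act 3 n24801
theorem D25333 : act 3 n24801 = n25333 := rfl
theorem F50324 : act 1 n25333 = n24802 := d6_1 D25333 (iv D24802) (iv F48946)
theorem F50325 : act 4 n25333 = n24839 := d12_2 D24801 D25333 (iv D24839) F46899 (iv F46763)
def n25334 : Q := act 2 n24802
theorem D25334 : act 2 n24802 = n25334 := rfl
theorem F50326 : act 0 n25334 = n24847 := d1_1 D25334 F49054 (iv F48947)
theorem F50327 : act 4 n25334 = n24841 := d10_2 (iv F48948) D25334 (iv D24841)
def n25335 : Q := act 4 n24811
theorem D25335 : act 4 n24811 = n25335 := rfl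
def n25336 : Q := act 5 n24814
theorem D25336 : act 5 n24814 = n25336 := rfl
theorem F50328 : act 2 n25336 = n25052 := d11_1 D25336 (iv F50100) F50097
def n25337 : Q := act 3 n24815
theorem D25337 : act 3 n24815 = n25337 := rfl
theorem F50329 : act 0 n25337 = n25290 := d2_1 D25337 F50202 (iv F48974)
theorem F50330 : act 1 n25337 = n24816 := d6_1 D25337 (iv D24816) D24815
theorem F50331 : act 5 n25337 = n25289 := d13_2 F49960 D25337 F50199
def n25338 : Q := act 3 n24817
theorem D25338 : act 3 n24817 = n25338 := rfl
theorem F50332 : act 0 n25338 = n24818 := d2_1 D25338 (iv D24818) D24817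
theorem F50333 : act 1 n25338 = n24826 := d6_1 D25338 F49004 (iv F48978)
theorem F50334 : act 5 n25338 = n24824 := d13_2 (iv F48981) D25338 F48997
def n25339 : Q := act 2 n24818
theorem D25339 : act 2 n24818 = n25339 := rfl
theorem F50335 : act 1 n25339 = n24822 := d5_1 D25339 F48991 F46821 (iv F46817) (iv F48982)
theorem F50336 : act 5 n25339 = n24820 := d11_2 (iv F48983) D25339 F48986
theorem F50337 : act 3 n25136 = n25339 := d6_0 F50335 F48992 D25136
def n25340 : Q := act 4 n24818
theorem D25340 : act 4 n24818 = n25340 := rfl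
theorem F50338 : act 1 n25340 = n24819 := d7_1 D25340 (iv D24819) (iv F48982)
def n25341 : Q := act 0 n24820
theorem D25341 : act 0 n24820 = n25341 := rfl
theorem F50339 : act 1 n25341 = n25139 := d0_2 D24820 D25341 (iv D25139) (iv D24448) (iv F46819)
theorem F50340 : act 2 n25341 = n24824 := d1_2 (iv F48986) D25341 (iv D24824)
theorem F50341 : act 3 n25325 = n25341 := d15_3 (iv F46729) D24787 D25325 F50340 F48997 F48742 (iv F48945) (iv D24800) (iv D23956)
def n25342 : Q := act 3 n24820
theorem D25342 : act 3 n24820 = n25342 := rfl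
theorem F50342 : act 0 n25342 = n25325 := d2_1 D25342 F50341 (iv D25341)
theorem F50343 : act 1 n25342 = n24821 := d6_1 D25342 (iv D24821) D24820
theorem F50344 : act 5 n25342 = n25136 := d13_2 F50336 D25342 F50337
theorem F50345 : act 2 n25342 = n25324 := d15_2 (iv F48986) D25342 (iv D25324) F48912 (iv F48941) (iv F48979) D25338 F50334 (iv D24824)
def n25343 : Q := act 4 n24821
theorem D25343 : act 4 n24821 = n25343 := rfl
theorem F50346 : act 0 n25343 = n25141 := d3_1 D25343 (iv D25141) (iv F48987)
theorem F50347 : act 2 n25343 = n25022 := d10_1 D25343 F49519 (iv F48988)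
theorem F50348 : act 3 n25343 = n25277 := d12_1 D25343 F50160 (iv D25153) F48082 D24821
def n25344 : Q := act 4 n24822
theorem D25344 : act 4 n24822 = n25344 := rfl
theorem F50349 : act 0 n25344 = n25046 := d3_1 D25344 F49579 (iv F48990)
theorem F50350 : act 2 n25344 = n24823 := d10_1 D25344 (iv D24823) (iv F48991)
def n25345 : Q := act 4 n24826
theorem D25345 : act 4 n24826 = n25345 := rfl
theorem F50351 : act 0 n25345 = n24827 := d3_1 D25345 (iv D24827) (iv F49002)
theorem F50352 : act 2 n25345 = n24972 := d10_1 D25345 F49394 (iv F49003)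
theorem F50353 : act 3 n25345 = n25034 := d12_1 D25345 F49548 F48700 (iv F48644) (iv F49004)
theorem F50354 : act 5 n25345 = n24971 := d14_2 D24826 D25345 F49391 (iv F49001) F49000
def n25346 : Q := act 1 n24828
theorem D25346 : act 1 n24828 = n25346 := rfl
theorem F50355 : act 2 n25346 = n25119 := d5_2 D24828 D25346 F49742 (iv F48020) F48018
def n25347 : Q := act 4 n24828
theorem D25347 : act 4 n24828 = n25347 := rfl
theorem F50356 : act 0 n25347 = n24831 := d3_1 D25347 (iv D24831) (iv F49009)
theorem F50357 : act 2 n25347 = n24829 := d10_1 D25347 (iv D24829) D24828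
theorem F50358 : act 5 n24963 = n25347 := d11_0 F50357 (iv F49012) D24963
def n25348 : Q := act 4 n24830
theorem D25348 : act 4 n24830 = n25348 := rfl
theorem F50359 : act 1 n25348 = n24831 := d7_1 D25348 (iv D24831) D24830
theorem F50360 : act 2 n25348 = n24832 := d10_1 D25348 (iv D24832) (iv F49013)
theorem F50361 : act 3 n24933 = n25348 := d15_1 D24933 F50360 F49018 F48358 F45921 (iv F46847) (iv F49011) (iv F49012) F47454
def n25349 : Q := act 3 n24831
theorem D25349 : act 3 n24831 = n25349 := rfl
theorem F50362 : act 1 n25349 = n24933 := d6_1 D25349 F50361 F50359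
theorem F50363 : act 4 n25349 = n24933 := d12_2 D24831 D25349 F50361 (iv D25348) (iv F49015)
theorem F50364 : act 5 n25349 = n25348 := d13_2 F49281 D25349 (iv F50361)
theorem F50365 : act 2 n25349 = n24932 := d15_2 (iv F49016) D25349 (iv D24932) F47334 (iv D23058) (iv F44491) D24220 F49012 F49010
def n25350 : Q := act 3 n24833
theorem D25350 : act 3 n24833 = n25350 := rfl
theorem F50366 : act 1 n25350 = n24980 := d6_1 D25350 (iv D24980) (iv F49019)
def n25351 : Q := act 3 n24838
theorem D25351 : act 3 n24838 = n25351 := rfl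
theorem F50367 : act 0 n25351 = n24839 := d2_1 D25351 (iv D24839) D24838
theorem F50368 : act 1 n25351 = n24842 := d6_1 D25351 (iv D24842) (iv F49034)
def n25352 : Q := act 2 n24839
theorem D25352 : act 2 n24839 = n25352 := rfl
theorem F50369 : act 3 n25352 = n25352 := d15_3 (iv F46898) D24839 D25352 (iv D25352) (iv D24839) F46898 D24549 (iv F48257) F48037
def n25353 : Q := act 5 n24839
theorem D25353 : act 5 n24839 = n25353 := rfl
theorem F50370 : act 1 n25353 = n24841 := d8_1 D25353 (iv F49042) (iv F49037)
theorem F50371 : act 3 n25353 = n24840 := d13_1 D25353 (iv D24840) D24839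
def n25354 : Q := act 2 n24842
theorem D25354 : act 2 n24842 = n25354 := rfl
theorem F50372 : act 0 n25354 = n24844 := d1_1 D25354 (iv D24844) (iv F49043)
theorem F50373 : act 3 n25354 = n25096 := d9_2 D24842 D25354 F49690 F47912 F45166 D23343 (iv F46908) (iv F49053) F49052 (iv D24398) (iv D23320) (iv D21725) (iv F41274) D23318 (iv F46904)
theorem F50374 : act 5 n25095 = n25354 := d13_0 F50373 (iv D25096) D25095
def n25355 : Q := act 4 n24842
theorem D25355 : act 4 n24842 = n25355 := rfl
theorem F50375 : act 0 n25355 = n24845 := d3_1 D25355 (iv D24845) (iv F49043)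
theorem F50376 : act 3 n25355 = n24850 := d12_1 D25355 (iv D24850) (iv D24023) (iv F46905) D24842
def n25356 : Q := act 5 n24842
theorem D25356 : act 5 n24842 = n25356 := rfl
theorem F50377 : act 0 n25356 = n24846 := d4_1 D25356 (iv D24846) (iv F49043)
theorem F50378 : act 2 n25356 = n25095 := d11_1 D25356 F50374 (iv D25354)
theorem F50379 : act 3 n25356 = n24843 := d13_1 D25356 (iv D24843) D24842
def n25357 : Q := act 4 n24844
theorem D25357 : act 4 n24844 = n25357 := rfl
theorem F50380 : act 1 n25357 = n25098 := d7_1 D25357 (iv D25098) F49047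
theorem F50381 : act 2 n25357 = n24845 := d10_1 D25357 (iv D24845) D24844
theorem F50382 : act 3 n25357 = n25101 := d12_1 D25357 (iv D25101) (iv D24400) (iv F47919) (iv F49046)
def n25358 : Q := act 5 n24845
theorem D25358 : act 5 n24845 = n25358 := rfl
theorem F50383 : act 1 n25358 = n24848 := d8_1 D25358 (iv D24848) (iv F49049)
theorem F50384 : act 3 n25358 = n24851 := d13_1 D25358 (iv D24851) (iv F49050)
def n25359 : Q := act 4 n24846
theorem D25359 : act 4 n24846 = n25359 := rfl
theorem F50385 : act 1 n25359 = n24847 := d7_1 D25359 (iv D24847) (iv F49051)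
theorem F50386 : act 2 n25359 = n25098 := d10_1 D25359 (iv D25098) (iv F49052)
def n25360 : Q := act 5 n24850
theorem D25360 : act 5 n24850 = n25360 := rfl
theorem F50387 : act 0 n25360 = n24851 := d4_1 D25360 (iv D24851) (iv F49057)
theorem F50388 : act 2 n25360 = n25214 := d11_1 D25360 (iv F50053) F50051
theorem F50389 : act 4 n25360 = n25213 := d14_1 D25360 (iv F50018) F50017 (iv F48416) D24850
def n25361 : Q := act 5 n24853
theorem D25361 : act 5 n24853 = n25361 := rfl
theorem F50390 : act 4 n25361 = n25287 := d14_1 D25361 F50192 F49065 (iv D24854) D24853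
def n25362 : Q := act 4 n24855
theorem D25362 : act 4 n24855 = n25362 := rfl
theorem F50391 : act 0 n25362 = n25221 := d3_1 D25362 (iv D25221) (iv F49066)
theorem F50392 : act 1 n25362 = n24856 := d7_1 D25362 (iv D24856) (iv F49067)
theorem F50393 : act 3 n25362 = n25202 := d12_1 D25362 (iv D25202) (iv D24521) (iv F46928) D24855
def n25363 : Q := act 5 n24858
theorem D25363 : act 5 n24858 = n25363 := rfl
theorem F50394 : act 0 n25363 = n25287 := d4_1 D25363 F50192 (iv F49073)
theorem F50395 : act 2 n25363 = n24859 := d11_1 D25363 (iv D24859) (iv F49074)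
theorem F50396 : act 3 n25363 = n25281 := d13_1 D25363 (iv D25281) (iv F49075)
def n25364 : Q := act 4 n24862
theorem D25364 : act 4 n24862 = n25364 := rfl
theorem F50397 : act 0 n25364 = n24865 := d3_1 D25364 F49097 (iv F49085)
theorem F50398 : act 1 n25364 = n24863 := d7_1 D25364 (iv D24863) D24862
theorem F50399 : act 2 n25364 = n24864 := d10_1 D25364 F49094 (iv F49086)
theorem F50400 : act 5 n25364 = n24863 := d14_2 (iv F49088) D25364 (iv D24863) (iv F49081) F49080
def n25365 : Q := act 1 n24869
theorem D25365 : act 1 n24869 = n25365 := rfl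
theorem F50401 : act 2 n25365 = n24896 := d5_2 D24869 D25365 (iv D24896) (iv D24115) (iv F46969)
theorem F50402 : act 4 n25365 = n24870 := d7_2 (iv F49108) D25365 (iv D24870)
theorem F50403 : act 5 n25365 = n24898 := d8_2 (iv F49109) D25365 (iv D24898)
def n25366 : Q := act 2 n24874
theorem D25366 : act 2 n24874 = n25366 := rfl
theorem F50404 : act 0 n25366 = n25300 := d1_1 D25366 F50241 F50237
theorem F50405 : act 1 n25366 = n25020 := d5_1 D25366 F49512 F48623 F48115 (iv F49125)
theorem F50406 : act 3 n25366 = n25019 := d9_2 D24874 D25366 F49510 F49926 (iv D25201) (iv D24521) (iv F48155) (iv F49185) (iv F50151) (iv F50226) F50225 (iv F49950) F49949 (iv D24544) (iv F47002)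
theorem F50407 : act 4 n25366 = n25056 := d10_2 (iv F49126) D25366 (iv D25056)
theorem F50408 : act 5 n25366 = n25219 := d11_2 (iv F49127) D25366 F49982
def n25367 : Q := act 0 n24879
theorem D25367 : act 0 n24879 = n25367 := rfl
theorem F50409 : act 2 n25367 = n24882 := d1_2 (iv F49148) D25367 (iv D24882)
theorem F50410 : act 3 n25367 = n24946 := d2_2 F50064 D25367 (iv F50066)
theorem F50411 : act 4 n25367 = n25139 := d3_2 (iv F49149) D25367 (iv D25139)
theorem F50412 : act 5 n25367 = n24953 := d4_2 F49150 D25367 F49336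
def n25368 : Q := act 4 n24880
theorem D25368 : act 4 n24880 = n25368 := rfl
theorem F50413 : act 1 n25368 = n24956 := d7_1 D25368 F49344 (iv F49151)
theorem F50414 : act 2 n25368 = n24881 := d10_1 D25368 (iv D24881) (iv F49152)
theorem F50415 : act 5 n25368 = n25046 := d14_2 D24880 D25368 F49579 (iv D24450) (iv F47056)
def n25369 : Q := act 3 n24883
theorem D25369 : act 3 n24883 = n25369 := rfl
theorem F50416 : act 0 n25369 = n24884 := d2_1 D25369 (iv D24884) D24883
theorem F50417 : act 1 n25369 = n24885 := d6_1 D25369 (iv D24885) (iv F49160)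
theorem F50418 : act 4 n25369 = n25369 := d12_2 (iv F49162) D25369 (iv D25369) F49162 F47690
theorem F50419 : act 5 n25369 = n25233 := d13_2 (iv F49163) D25369 (iv D25233)
def n25370 : Q := act 2 n24884
theorem D25370 : act 2 n24884 = n25370 := rfl
theorem F50420 : act 4 n25370 = n25370 := d10_2 F49165 D25370 (iv D25370)
theorem F50421 : act 5 n25370 = n25235 := d11_2 (iv F49166) D25370 (iv D25235)
def n25371 : Q := act 1 n24886
theorem D25371 : act 1 n24886 = n25371 := rfl
theorem F50422 : act 2 n25371 = n24887 := d5_2 D24886 D25371 (iv D24887) (iv D24090) (iv F47081)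
theorem F50423 : act 4 n25371 = n25371 := d7_2 F49169 D25371 (iv D25371)
def n25372 : Q := act 0 n24887
theorem D25372 : act 0 n24887 = n25372 := rfl
theorem F50424 : act 4 n25372 = n25372 := d3_2 F49170 D25372 (iv D25372)
def n25373 : Q := act 3 n24890
theorem D25373 : act 3 n24890 = n25373 := rfl
theorem F50425 : act 0 n25373 = n24989 := d2_1 D25373 (iv D24989) (iv F49181)
theorem F50426 : act 1 n25373 = n25363 := d6_1 D25373 F50396 F50167
theorem F50427 : act 2 n25373 = n25016 := d9_1 D25373 (iv D25016) (iv D24304) (iv D23189) F40859 D21563 D23196 D24311 D25023 F49521 (iv D24718) (iv D23830) (iv F43842) D24096 D24890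
theorem F50428 : act 5 n25373 = n25018 := d13_2 (iv F49183) D25373 (iv D25018)
def n25374 : Q := act 2 n24895
theorem D25374 : act 2 n24895 = n25374 := rfl
theorem F50429 : act 4 n25374 = n24905 := d10_2 (iv F49203) D25374 (iv D24905)
theorem F50430 : act 5 n25374 = n24935 := d11_2 (iv F49204) D25374 (iv D24935)
theorem F50431 : act 3 n25374 = n24935 := d15_1 D25374 (iv D24935) (iv D24182) F44236 (iv F44227) (iv F47342) D24934 (iv F49598) F49595
def n25375 : Q := act 0 n24896
theorem D25375 : act 0 n24896 = n25375 := rfl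
theorem F50432 : act 1 n25375 = n24915 := d0_2 D24896 D25375 F49238 F47249 (iv F47172)
theorem F50433 : act 4 n25375 = n24911 := d3_2 (iv F49205) D25375 F49233
theorem F50434 : act 5 n25375 = n24899 := d4_2 (iv F49206) D25375 (iv D24899)
def n25376 : Q := act 2 n24900
theorem D25376 : act 2 n24900 = n25376 := rfl
theorem F50435 : act 1 n25376 = n24935 := d5_1 D25376 (iv D24935) F47343 (iv F47194) (iv F49213)
theorem F50436 : act 4 n25376 = n24912 := d10_2 (iv F49214) D25376 (iv D24912)
def n25377 : Q := act 1 n24901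
theorem D25377 : act 1 n24901 = n25377 := rfl
theorem F50437 : act 2 n25377 = n24902 := d5_2 D24901 D25377 (iv D24902) (iv D24124) (iv F47195)
theorem F50438 : act 5 n25377 = n24916 := d8_2 (iv F49843) D25377 F49842
def n25378 : Q := act 0 n24902
theorem D25378 : act 0 n24902 = n25378 := rfl
theorem F50439 : act 3 n25378 = n24915 := d2_2 (iv F49215) D25378 F49238
theorem F50440 : act 5 n25378 = n24914 := d4_2 (iv F49216) D25378 F49237
def n25379 : Q := act 1 n24903
theorem D25379 : act 1 n24903 = n25379 := rfl
theorem F50441 : act 0 n25379 = n24994 := d0_1 D25379 F49454 (iv F49267) F49268 (iv F49217)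
theorem F50442 : act 2 n25379 = n24991 := d5_2 D24903 D25379 F49449 F47649 (iv F47213)
theorem F50443 : act 4 n25379 = n24984 := d7_2 (iv F49218) D25379 F49430
theorem F50444 : act 5 n25379 = n24927 := d8_2 (iv F49219) D25379 F49265
def n25380 : Q := act 3 n24903
theorem D25380 : act 3 n24903 = n25380 := rfl
theorem F50445 : act 0 n25380 = n24909 := d2_1 D25380 F49231 (iv F49217)
theorem F50446 : act 2 n25380 = n24907 := d9_1 D25380 F49227 F47227 F43992 F42156 (iv F40583) (iv F44692) (iv F47229) (iv D24134) (iv D22881) F39804 (iv F39797) (iv F43980) D24128 D24903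
theorem F50447 : act 4 n25380 = n25294 := d12_2 (iv F49218) D25380 (iv D25294) (iv D24727) (iv F48712)
theorem F50448 : act 5 n25380 = n24906 := d13_2 (iv F49219) D25380 F49225
def n25381 : Q := act 2 n24904
theorem D25381 : act 2 n24904 = n25381 := rfl
theorem F50449 : act 0 n25381 = n24905 := d1_1 D25381 (iv D24905) (iv F49220)
theorem F50450 : act 3 n25381 = n25007 := d9_2 D24904 D25381 (iv D25007) (iv D24293) F44843 (iv F44959) (iv F47222) (iv F47652) (iv F49481) (iv F49485) F49484 F47651 F44846 (iv F44964) (iv F47217)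
theorem F50451 : act 5 n25381 = n25045 := d11_2 (iv F49221) D25381 (iv D25045)
def n25382 : Q := act 1 n24906
theorem D25382 : act 1 n24906 = n25382 := rfl
theorem F50452 : act 0 n25382 = n24993 := d0_1 D25382 F49452 F49229 (iv D24908) (iv F49223)
theorem F50453 : act 3 n25382 = n24927 := d6_2 (iv F49225) D25382 F49265
theorem F50454 : act 4 n25382 = n24908 := d7_2 (iv F49224) D25382 (iv D24908)
def n25383 : Q := act 4 n24907
theorem D25383 : act 4 n24907 = n25383 := rfl
theorem F50455 : act 0 n25383 = n24910 := d3_1 D25383 (iv D24910) (iv F49226)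
theorem F50456 : act 2 n25383 = n25294 := d10_1 D25383 (iv F50447) F50446
theorem F50457 : act 3 n25383 = n24919 := d12_1 D25383 (iv D24919) F47255 (iv F47228) (iv F49227)
theorem F50458 : act 5 n25383 = n24910 := d14_2 D24907 D25383 (iv D24910) (iv D24135) (iv F47225)
def n25384 : Q := act 5 n24908
theorem D25384 : act 5 n24908 = n25384 := rfl
theorem F50459 : act 0 n25384 = n25006 := d4_1 D25384 (iv D25006) F49229
theorem F50460 : act 1 n25384 = n24909 := d8_1 D25384 (iv D24909) D24908
theorem F50461 : act 2 n25384 = n25028 := d11_1 D25384 F49532 F49530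
theorem F50462 : act 3 n25384 = n24928 := d13_1 D25384 (iv D24928) (iv F49228)
def n25385 : Q := act 4 n24909
theorem D25385 : act 4 n24909 = n25385 := rfl
theorem F50463 : act 0 n25385 = n25294 := d3_1 D25385 (iv F50447) F50445
theorem F50464 : act 2 n25385 = n24910 := d10_1 D25385 (iv D24910) (iv F49230)
theorem F50465 : act 3 n25385 = n25292 := d12_1 D25385 (iv D25292) (iv D24724) (iv F47538) (iv F49231)
theorem F50466 : act 5 n25385 = n25294 := d14_2 D24909 D25385 (iv F50447) F50448 F49224
def n25386 : Q := act 2 n24914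
theorem D25386 : act 2 n24914 = n25386 := rfl
theorem F50467 : act 0 n25386 = n24916 := d1_1 D25386 (iv D24916) (iv F49237)
def n25387 : Q := act 4 n24918
theorem D25387 : act 4 n24918 = n25387 := rfl
theorem F50468 : act 1 n25387 = n24919 := d7_1 D25387 (iv D24919) (iv F49243)
theorem F50469 : act 5 n25387 = n24925 := d14_2 D24918 D25387 (iv D24925) (iv D24155) (iv F47252)
def n25388 : Q := act 1 n24920
theorem D25388 : act 1 n24920 = n25388 := rfl
theorem F50470 : act 0 n25388 = n25239 := d0_1 D25388 (iv D25239) F49254 (iv D24922) (iv F49248)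
theorem F50471 : act 3 n25388 = n25049 := d6_2 (iv F49249) D25388 F49583
theorem F50472 : act 5 n25388 = n25350 := d8_2 F49422 D25388 F50366
def n25389 : Q := act 4 n24921
theorem D25389 : act 4 n24921 = n25389 := rfl
theorem F50473 : act 0 n25389 = n24925 := d3_1 D25389 (iv D24925) (iv F49250)
def n25390 : Q := act 4 n24923
theorem D25390 : act 4 n24923 = n25390 := rfl
theorem F50474 : act 0 n25390 = n25299 := d3_1 D25390 F50227 (iv F49256)
theorem F50475 : act 1 n25390 = n25021 := d7_1 D25390 F49517 (iv F49257)
theorem F50476 : act 2 n25390 = n25187 := d10_1 D25390 (iv D25187) (iv F49258)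
theorem F50477 : act 3 n25390 = n25219 := d12_1 D25390 (iv D25219) (iv F49242) F49241 D24923
theorem F50478 : act 5 n25390 = n25019 := d14_2 (iv F49259) D25390 F50088 (iv D25255) (iv F48572)
def n25391 : Q := act 4 n24924
theorem D25391 : act 4 n24924 = n25391 := rfl
theorem F50479 : act 2 n25391 = n24925 := d10_1 D25391 (iv D24925) (iv F49260)
def n25392 : Q := act 2 n24929
theorem D25392 : act 2 n24929 = n25392 := rfl
theorem F50480 : act 0 n25392 = n25349 := d1_1 D25392 F50365 F49277
theorem F50481 : act 3 n25392 = n25347 := d9_2 D24929 D25392 F50357 F49011 F46847 (iv F45921) (iv F48358) (iv F49018) (iv F50360) (iv F50361) (iv D24933) (iv D24179) F44218 (iv F44206) (iv F47316)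
theorem F50482 : act 4 n25392 = n24963 := d10_2 (iv F49271) D25392 (iv D24963)
def n25393 : Q := act 3 n24930
theorem D25393 : act 3 n24930 = n25393 := rfl
theorem F50483 : act 0 n25393 = n24931 := d2_1 D25393 (iv D24931) (iv F49272)
theorem F50484 : act 1 n25393 = n25031 := d6_1 D25393 (iv D25031) (iv F49273)
theorem F50485 : act 4 n25393 = n24942 := d12_2 D24930 D25393 (iv D24942) (iv D24189) (iv F47321)
theorem F50486 : act 5 n25393 = n25003 := d13_2 F49557 D25393 F49558
def n25394 : Q := act 2 n24931
theorem D25394 : act 2 n24931 = n25394 := rfl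
theorem F50487 : act 1 n25394 = n24999 := d5_1 D25394 F49462 F47593 (iv F47326) (iv F49274)
theorem F50488 : act 4 n25394 = n25162 := d10_2 (iv F49275) D25394 F49841
theorem F50489 : act 5 n25394 = n24997 := d11_2 (iv F49276) D25394 F49461
def n25395 : Q := act 2 n24934
theorem D25395 : act 2 n24934 = n25395 := rfl
theorem F50490 : act 0 n25395 = n24935 := d1_1 D25395 (iv D24935) (iv F49282)
theorem F50491 : act 4 n25395 = n25041 := d10_2 F49539 D25395 F49568
def n25396 : Q := act 2 n24936
theorem D25396 : act 2 n24936 = n25396 := rfl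
theorem F50492 : act 0 n25396 = n25121 := d1_1 D25396 F49745 F49464
theorem F50493 : act 3 n25396 = n25173 := d9_2 D24936 D25396 F49862 F48098 F47284 (iv D24163) (iv F46303) D24685 (iv F48610) (iv F49293) (iv D24939) (iv D24185) F44270 (iv F44254) (iv F47345)
theorem F50494 : act 5 n25396 = n25120 := d11_2 (iv F49788) D25396 (iv F49786)
def n25397 : Q := act 2 n24937
theorem D25397 : act 2 n24937 = n25397 := rfl
theorem F50495 : act 0 n25397 = n24982 := d1_1 D25397 (iv D24982) (iv F49284)
theorem F50496 : act 4 n25397 = n25160 := d10_2 (iv F49286) D25397 (iv D25160)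
theorem F50497 : act 3 n25397 = n24999 := d15_1 D25397 F49462 F47594 F44756 (iv F44678) (iv F47534) (iv F49428) (iv D24983) (iv F49284)
theorem F50498 : act 5 n24998 = n25397 := d13_0 F50497 (iv D24999) D24998
def n25398 : Q := act 5 n24937
theorem D25398 : act 5 n24937 = n25398 := rfl
theorem F50499 : act 0 n25398 = n24983 := d4_1 D25398 (iv D24983) (iv F49284)
theorem F50500 : act 1 n25398 = n24940 := d8_1 D25398 (iv D24940) (iv F49285)
theorem F50501 : act 2 n25398 = n24998 := d11_1 D25398 F50498 (iv D25397)
theorem F50502 : act 3 n25398 = n24938 := d13_1 D25398 (iv D24938) D24937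
def n25399 : Q := act 1 n24939
theorem D25399 : act 1 n24939 = n25399 := rfl
theorem F50503 : act 3 n25399 = n25118 := d6_2 (iv F49293) D25399 F49741
theorem F50504 : act 4 n25399 = n25075 := d7_2 (iv F49292) D25399 F49643
def n25400 : Q := act 5 n24939
theorem D25400 : act 5 n24939 = n25400 := rfl
theorem F50505 : act 0 n25400 = n25173 := d4_1 D25400 (iv D25173) (iv F49291)
theorem F50506 : act 2 n25400 = n24940 := d11_1 D25400 (iv D24940) D24939
theorem F50507 : act 3 n25400 = n25121 := d13_1 D25400 (iv D25121) (iv F49293)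
theorem F50508 : act 4 n25400 = n25109 := d14_1 D25400 (iv D25109) (iv D24409) (iv F47930) (iv F49292)
def n25401 : Q := act 4 n24940
theorem D25401 : act 4 n24940 = n25401 := rfl
theorem F50509 : act 0 n25401 = n25159 := d3_1 D25401 F49839 (iv F49294)
theorem F50510 : act 2 n25401 = n25109 := d10_1 D25401 (iv F50508) F50506
theorem F50511 : act 5 n25401 = n25108 := d14_2 D24940 D25401 (iv D25108) F47942 (iv F47350)
def n25402 : Q := act 2 n24942
theorem D25402 : act 2 n24942 = n25402 := rfl
theorem F50512 : act 0 n25402 = n25162 := d1_1 D25402 F49841 (iv F49301)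
theorem F50513 : act 3 n25402 = n25081 := d9_2 D24942 D25402 (iv D25081) (iv D24384) F45149 F41654 (iv F43963) D24123 D24901 (iv F49846) F49845 F48092 F45458 (iv F44297) (iv F47362)
theorem F50514 : act 5 n25402 = n25165 := d11_2 (iv F49303) D25402 (iv D25165)
def n25403 : Q := act 2 n24944
theorem D25403 : act 2 n24944 = n25403 := rfl
theorem F50515 : act 0 n25403 = n25247 := d1_1 D25403 (iv D25247) (iv F49308)
theorem F50516 : act 4 n25403 = n24946 := d10_2 (iv F49310) D25403 (iv D24946)
def n25404 : Q := act 5 n24944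
theorem D25404 : act 5 n24944 = n25404 := rfl
theorem F50517 : act 0 n25404 = n25248 := d4_1 D25404 (iv D25248) (iv F49308)
theorem F50518 : act 1 n25404 = n25150 := d8_1 D25404 F49822 (iv F49309)
theorem F50519 : act 3 n25404 = n24945 := d13_1 D25404 (iv D24945) D24944
def n25405 : Q := act 1 n24946
theorem D25405 : act 1 n24946 = n25405 := rfl
def n25406 : Q := act 5 n24946
theorem D25406 : act 5 n24946 = n25406 := rfl
theorem F50520 : act 0 n25406 = n24957 := d4_1 D25406 (iv F50065) F50066
theorem F50521 : act 2 n25406 = n24947 := d11_1 D25406 (iv D24947) D24946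
theorem F50522 : act 3 n25406 = n24953 := d13_1 D25406 (iv F50412) F50410
def n25407 : Q := act 4 n24947
theorem D25407 : act 4 n24947 = n25407 := rfl
def n25408 : Q := act 3 n24948
theorem D25408 : act 3 n24948 = n25408 := rfl
theorem F50523 : act 0 n25408 = n25146 := d2_1 D25408 F49809 (iv F49316)
theorem F50524 : act 1 n25408 = n24949 := d6_1 D25408 (iv D24949) (iv F49317)
theorem F50525 : act 4 n25408 = n25000 := d12_2 D24948 D25408 (iv D25000) F47598 (iv F47381)
theorem F50526 : act 5 n25408 = n25138 := d13_2 (iv F49319) D25408 F49792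
def n25409 : Q := act 2 n24951
theorem D25409 : act 2 n24951 = n25409 := rfl
theorem F50527 : act 0 n25409 = n24956 := d1_1 D25409 (iv D24956) (iv F49329)
theorem F50528 : act 4 n25409 = n24953 := d10_2 (iv F49331) D25409 (iv D24953)
def n25410 : Q := act 1 n24953
theorem D25410 : act 1 n24953 = n25410 := rfl
theorem F50529 : act 2 n25410 = n25337 := d5_2 D24953 D25410 F50330 (iv F49199) F49198
def n25411 : Q := act 2 n24954
theorem D25411 : act 2 n24954 = n25411 := rfl
theorem F50530 : act 0 n25411 = n25025 := d1_1 D25411 (iv D25025) (iv F49337)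
theorem F50531 : act 4 n25411 = n24969 := d10_2 (iv F49339) D25411 (iv D24969)
def n25412 : Q := act 5 n24954
theorem D25412 : act 5 n24954 = n25412 := rfl
theorem F50532 : act 0 n25412 = n25026 := d4_1 D25412 (iv D25026) (iv F49337)
theorem F50533 : act 1 n25412 = n24970 := d8_1 D25412 (iv D24970) (iv F49338)
theorem F50534 : act 3 n25412 = n24955 := d13_1 D25412 (iv D24955) D24954
def n25413 : Q := act 3 n24956
theorem D25413 : act 3 n24956 = n25413 := rfl
def n25414 : Q := act 4 n24957
theorem D25414 : act 4 n24957 = n25414 := rfl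
def n25415 : Q := act 0 n24958
theorem D25415 : act 0 n24958 = n25415 := rfl
theorem F50535 : act 1 n25415 = n24960 := d0_2 D24958 D25415 (iv D24960) (iv D24211) (iv F47414)
theorem F50536 : act 2 n25415 = n24959 := d1_2 (iv F49345) D25415 (iv D24959)
theorem F50537 : act 3 n25415 = n25364 := d2_2 (iv F49346) D25415 F50397
theorem F50538 : act 4 n25415 = n25283 := d3_2 (iv F49347) D25415 F50175
theorem F50539 : act 5 n25415 = n24960 := d4_2 (iv F49348) D25415 (iv D24960)
def n25416 : Q := act 1 n24963
theorem D25416 : act 1 n24963 = n25416 := rfl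
def n25417 : Q := act 3 n24963
theorem D25417 : act 3 n24963 = n25417 := rfl
theorem F50540 : act 0 n25417 = n25348 := d2_1 D25417 (iv F50361) (iv F49366)
theorem F50541 : act 2 n25417 = n25143 := d9_1 D25417 F49801 F48064 F47319 F44221 (iv F46842) (iv F49016) D25349 F50365 (iv D24932) F47334 (iv D23058) (iv F44491) D24220 D24963
theorem F50542 : act 4 n25417 = n25142 := d12_2 F50482 D25417 F49797 D25347 (iv F50481)
theorem F50543 : act 5 n25417 = n25392 := d13_2 (iv F50358) D25417 F50481
def n25418 : Q := act 1 n24964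
theorem D25418 : act 1 n24964 = n25418 := rfl
theorem F50544 : act 0 n25418 = n25184 := d0_1 D25418 (iv D25184) (iv F48308) (iv F49240) (iv F49367)
theorem F50545 : act 2 n25418 = n25388 := d5_2 D24964 D25418 (iv D25388) (iv D24920) (iv F47465)
theorem F50546 : act 3 n25418 = n25273 := d6_2 F49919 D25418 F50147
theorem F50547 : act 4 n25418 = n25388 := d7_2 (iv F49368) D25418 (iv D25388)
def n25419 : Q := act 5 n24964
theorem D25419 : act 5 n24964 = n25419 := rfl
theorem F50548 : act 0 n25419 = n25181 := d4_1 D25419 F49882 (iv F49367)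
theorem F50549 : act 2 n25419 = n24965 := d11_1 D25419 (iv D24965) D24964
theorem F50550 : act 3 n25419 = n25180 := d13_1 D25419 (iv F49920) F49919
def n25420 : Q := act 4 n24965
theorem D25420 : act 4 n24965 = n25420 := rfl
theorem F50551 : act 0 n25420 = n25387 := d3_1 D25420 (iv D25387) (iv F49369)
theorem F50552 : act 1 n25420 = n25389 := d7_1 D25420 (iv D25389) (iv F49370)
theorem F50553 : act 5 n25420 = n25389 := d14_2 D24965 D25420 (iv D25389) (iv D24921) (iv F47466)
def n25421 : Q := act 2 n24968
theorem D25421 : act 2 n24968 = n25421 := rfl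
theorem F50554 : act 0 n25421 = n24999 := d1_1 D25421 F49462 (iv F49382)
theorem F50555 : act 3 n25421 = n24982 := d9_2 D24968 D25421 (iv D24982) (iv D24249) F44676 F40575 (iv F40670) D23147 D24272 D24998 (iv F50501) F50502 F49289 F47355 (iv F47479)
theorem F50556 : act 4 n25421 = n25386 := d10_2 (iv F49384) D25421 (iv D25386)
theorem F50557 : act 5 n25421 = n24992 := d11_2 (iv F49385) D25421 (iv D24992)
def n25422 : Q := act 1 n24969
theorem D25422 : act 1 n24969 = n25422 := rfl
def n25423 : Q := act 3 n24969
theorem D25423 : act 3 n24969 = n25423 := rfl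
theorem F50558 : act 0 n25423 = n25028 := d2_1 D25423 (iv D25028) (iv F49386)
theorem F50559 : act 2 n25423 = n25006 := d9_1 D25423 F49476 F47645 F44841 (iv F44905) (iv F47708) (iv F49534) F49535 F49530 F49228 F47308 F44166 (iv F44553) D24229 D24969
theorem F50560 : act 5 n25423 = n25005 := d15_8 F49530 F49228 F47308 F44166 (iv F44553) D24229 D24969 D25423 F49531
def n25424 : Q := act 5 n24969
theorem D25424 : act 5 n24969 = n25424 := rfl
theorem F50561 : act 0 n25424 = n25029 := d4_1 D25424 (iv D25029) (iv F49386)
theorem F50562 : act 2 n25424 = n24970 := d11_1 D25424 (iv D24970) D24969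
theorem F50563 : act 3 n25424 = n25005 := d13_1 D25424 (iv F50560) (iv D25423)
def n25425 : Q := act 4 n24970
theorem D25425 : act 4 n24970 = n25425 := rfl
theorem F50564 : act 0 n25425 = n25030 := d3_1 D25425 (iv D25030) (iv F49387)
theorem F50565 : act 3 n25425 = n25389 := d12_1 D25425 (iv D25389) F49251 (iv F47484) (iv F49388)
def n25426 : Q := act 1 n24971
theorem D25426 : act 1 n24971 = n25426 := rfl
theorem F50566 : act 3 n25426 = n25340 := d6_2 (iv F49390) D25426 F50338
theorem F50567 : act 4 n25426 = n25337 := d7_2 (iv F49391) D25426 F50330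
def n25427 : Q := act 5 n24974
theorem D25427 : act 5 n24974 = n25427 := rfl
theorem F50568 : act 0 n25427 = n24985 := d4_1 D25427 (iv D24985) (iv F49399)
theorem F50569 : act 1 n25427 = n25004 := d8_1 D25427 (iv D25004) (iv F49400)
theorem F50570 : act 2 n25427 = n25014 := d11_1 D25427 F49496 (iv F49402)
theorem F50571 : act 3 n25427 = n24975 := d13_1 D25427 (iv D24975) D24974
def n25428 : Q := act 2 n24976
theorem D25428 : act 2 n24976 = n25428 := rfl
theorem F50572 : act 0 n25428 = n25160 := d1_1 D25428 (iv D25160) (iv F49407)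
theorem F50573 : act 4 n25428 = n24982 := d10_2 (iv F49409) D25428 (iv D24982)
def n25429 : Q := act 5 n24976
theorem D25429 : act 5 n24976 = n25429 := rfl
theorem F50574 : act 0 n25429 = n25107 := d4_1 D25429 F49714 (iv F49407)
theorem F50575 : act 1 n25429 = n25156 := d8_1 D25429 F49835 (iv F49408)
theorem F50576 : act 3 n25429 = n24977 := d13_1 D25429 (iv D24977) D24976
def n25430 : Q := act 3 n24978
theorem D25430 : act 3 n24978 = n25430 := rfl
theorem F50577 : act 0 n25430 = n25254 := d2_1 D25430 (iv D25254) (iv F49414)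
theorem F50578 : act 1 n25430 = n25262 := d6_1 D25430 F50110 (iv F49415)
theorem F50579 : act 5 n25260 = n25430 := d8_0 F50578 (iv D25262) D25260
def n25431 : Q := act 5 n24978
theorem D25431 : act 5 n24978 = n25431 := rfl
theorem F50580 : act 0 n25431 = n25255 := d4_1 D25431 (iv D25255) (iv F49414)
theorem F50581 : act 1 n25431 = n25261 := d8_1 D25431 (iv F50107) (iv F49415)
theorem F50582 : act 2 n25431 = n24979 := d11_1 D25431 (iv D24979) D24978
theorem F50583 : act 3 n25431 = n25260 := d13_1 D25431 F50579 (iv D25430)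
def n25432 : Q := act 4 n24980
theorem D25432 : act 4 n24980 = n25432 := rfl
theorem F50584 : act 0 n25432 = n25391 := d3_1 D25432 (iv D25391) (iv F49420)
theorem F50585 : act 2 n25432 = n25389 := d10_1 D25432 (iv D25389) (iv F49421)
def n25433 : Q := act 1 n24982
theorem D25433 : act 1 n24982 = n25433 := rfl
def n25434 : Q := act 5 n24982
theorem D25434 : act 5 n24982 = n25434 := rfl
theorem F50586 : act 0 n25434 = n24998 := d4_1 D25434 F50498 F50495
theorem F50587 : act 2 n25434 = n24983 := d11_1 D25434 (iv D24983) D24982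
theorem F50588 : act 3 n25434 = n24992 := d13_1 D25434 (iv F50557) F50555
def n25435 : Q := act 4 n24983
theorem D25435 : act 4 n24983 = n25435 := rfl
def n25436 : Q := act 4 n24985
theorem D25436 : act 4 n24985 = n25436 := rfl
theorem F50589 : act 1 n25436 = n25292 := d7_1 D25436 (iv D25292) (iv F49433)
theorem F50590 : act 2 n25436 = n25312 := d10_1 D25436 (iv D25312) (iv F49434)
theorem F50591 : act 5 n25436 = n25293 := d14_2 D24985 D25436 (iv D25293) (iv D24726) (iv F47544)
def n25437 : Q := act 3 n24987
theorem D25437 : act 3 n24987 = n25437 := rfl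
theorem F50592 : act 0 n25437 = n25279 := d2_1 D25437 (iv D25279) (iv F49438)
theorem F50593 : act 1 n25437 = n24989 := d6_1 D25437 (iv D24989) (iv F49439)
theorem F50594 : act 4 n25437 = n25135 := d12_2 D24987 D25437 F49783 (iv F48434) F48433
theorem F50595 : act 5 n25437 = n25022 := d13_2 (iv F49441) D25437 (iv D25022)
def n25438 : Q := act 3 n24988
theorem D25438 : act 3 n24988 = n25438 := rfl
theorem F50596 : act 1 n25438 = n25135 := d6_1 D25438 F49783 (iv F49442)
theorem F50597 : act 4 n25438 = n24989 := d12_2 D24988 D25438 (iv D24989) (iv D24264) D24263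
theorem F50598 : act 5 n25438 = n25130 := d13_2 (iv F49443) D25438 (iv D25130)
def n25439 : Q := act 2 n24989
theorem D25439 : act 2 n24989 = n25439 := rfl
theorem F50599 : act 0 n25439 = n25016 := d1_1 D25439 (iv F50427) F50425
theorem F50600 : act 3 n25439 = n25015 := d9_2 D24989 D25439 (iv D25015) (iv D24303) F44857 D23193 D24307 D25018 F49509 (iv D24852) F46919 F45614 F43792 (iv F44724) (iv F47572)
theorem F50601 : act 5 n25439 = n25023 := d11_2 (iv F49444) D25439 (iv D25023)
def n25440 : Q := act 2 n24990
theorem D25440 : act 2 n24990 = n25440 := rfl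
theorem F50602 : act 0 n25440 = n24995 := d1_1 D25440 (iv D24995) (iv F49445)
theorem F50603 : act 4 n25440 = n24992 := d10_2 (iv F49447) D25440 (iv D24992)
def n25441 : Q := act 5 n24990
theorem D25441 : act 5 n24990 = n25441 := rfl
theorem F50604 : act 0 n25441 = n24996 := d4_1 D25441 (iv D24996) (iv F49445)
theorem F50605 : act 1 n25441 = n25008 := d8_1 D25441 (iv D25008) (iv F49446)
theorem F50606 : act 3 n25441 = n24991 := d13_1 D25441 (iv D24991) D24990
theorem F50607 : act 4 n25441 = n25378 := d14_1 D25441 F50440 (iv F49384) F49385 (iv F49447)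
def n25442 : Q := act 1 n24992
theorem D25442 : act 1 n24992 = n25442 := rfl
theorem F50608 : act 2 n25442 = n25040 := d5_2 D24992 D25442 (iv D25040) (iv D24330) (iv F47586)
def n25443 : Q := act 2 n24993
theorem D25443 : act 2 n24993 = n25443 := rfl
theorem F50609 : act 4 n25443 = n25005 := d10_2 (iv F49453) D25443 (iv D25005)
def n25444 : Q := act 5 n24993
theorem D25444 : act 5 n24993 = n25444 := rfl
theorem F50610 : act 1 n25444 = n25006 := d8_1 D25444 (iv D25006) (iv F49452)
theorem F50611 : act 3 n25444 = n24994 := d13_1 D25444 (iv D24994) D24993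
def n25445 : Q := act 1 n24995
theorem D25445 : act 1 n24995 = n25445 := rfl
theorem F50612 : act 2 n25445 = n25002 := d5_2 D24995 D25445 (iv D25002) (iv D24283) (iv F47589)
theorem F50613 : act 4 n25445 = n24997 := d7_2 (iv F49457) D25445 (iv D24997)
theorem F50614 : act 5 n25036 = n25445 := d14_0 F50613 (iv F50489) F50488 (iv F49843) (iv F49553)
def n25446 : Q := act 3 n24995
theorem D25446 : act 3 n24995 = n25446 := rfl
def n25447 : Q := act 5 n24995
theorem D25447 : act 5 n24995 = n25447 := rfl
theorem F50615 : act 1 n25447 = n25036 := d8_1 D25447 F50614 (iv D25445)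
theorem F50616 : act 2 n25447 = n24996 := d11_1 D25447 (iv D24996) D24995
theorem F50617 : act 4 n25447 = n25377 := d14_1 D25447 F50438 F49463 (iv D24999) (iv F49457)
def n25448 : Q := act 0 n24997
theorem D25448 : act 0 n24997 = n25448 := rfl
theorem F50618 : act 2 n25448 = n25003 := d1_2 (iv F49461) D25448 (iv D25003)
def n25449 : Q := act 3 n24997
theorem D25449 : act 3 n24997 = n25449 := rfl
theorem F50619 : act 1 n25449 = n24998 := d6_1 D25449 (iv D24998) D24997
def n25450 : Q := act 4 n24998
theorem D25450 : act 4 n24998 = n25450 := rfl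
def n25451 : Q := act 4 n25004
theorem D25451 : act 4 n25004 = n25451 := rfl
theorem F50620 : act 0 n25451 = n25293 := d3_1 D25451 (iv D25293) (iv F49473)
theorem F50621 : act 2 n25451 = n25318 := d10_1 D25451 (iv D25318) (iv F49474)
def n25452 : Q := act 1 n25005
theorem D25452 : act 1 n25005 = n25452 := rfl
theorem F50622 : act 0 n25452 = n25422 := d0_1 D25452 (iv D25422) F49386 D25027 (iv F49531)
def n25453 : Q := act 4 n25006
theorem D25453 : act 4 n25006 = n25453 := rfl
def n25454 : Q := act 1 n25007
theorem D25454 : act 1 n25007 = n25454 := rfl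
theorem F50623 : act 4 n25454 = n25040 := d7_2 (iv F49478) D25454 (iv D25040)
def n25455 : Q := act 5 n25007
theorem D25455 : act 5 n25007 = n25455 := rfl
theorem F50624 : act 0 n25455 = n25010 := d4_1 D25455 (iv D25010) (iv F49477)
theorem F50625 : act 2 n25455 = n25008 := d11_1 D25455 (iv D25008) D25007
theorem F50626 : act 3 n25455 = n25045 := d13_1 D25455 (iv F50451) F50450
def n25456 : Q := act 4 n25008
theorem D25456 : act 4 n25008 = n25456 := rfl
theorem F50627 : act 0 n25456 = n25011 := d3_1 D25456 (iv D25011) (iv F49479)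
theorem F50628 : act 1 n25456 = n25378 := d7_1 D25456 (iv F50607) F50605
theorem F50629 : act 3 n25456 = n25375 := d12_1 D25456 F50433 (iv F49425) F49426 (iv F49480)
theorem F50630 : act 5 n25456 = n25043 := d14_2 D25008 D25456 (iv D25043) (iv D24331) (iv F47647)
def n25457 : Q := act 4 n25010
theorem D25457 : act 4 n25010 = n25457 := rfl
theorem F50631 : act 1 n25457 = n25374 := d7_1 D25457 F50429 (iv F49483)
theorem F50632 : act 2 n25457 = n25011 := d10_1 D25457 (iv D25011) (iv F49484)
theorem F50633 : act 3 n25457 = n25376 := d12_1 D25457 F50436 (iv F49566) F49564 (iv F49485)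
theorem F50634 : act 5 n25457 = n25376 := d14_2 D25010 D25457 F50436 (iv F49469) F49468
def n25458 : Q := act 3 n25012
theorem D25458 : act 3 n25012 = n25458 := rfl
theorem F50635 : act 0 n25458 = n25307 := d2_1 D25458 (iv D25307) (iv F49489)
theorem F50636 : act 1 n25458 = n25304 := d6_1 D25458 (iv D25304) (iv F49490)
theorem F50637 : act 5 n25458 = n25362 := d13_2 F49930 D25458 F50393
def n25459 : Q := act 4 n25014
theorem D25459 : act 4 n25014 = n25459 := rfl
theorem F50638 : act 0 n25459 = n25312 := d3_1 D25459 (iv D25312) (iv F49494)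
theorem F50639 : act 1 n25459 = n25305 := d7_1 D25459 (iv D25305) (iv F49495)
theorem F50640 : act 5 n25459 = n25318 := d14_2 (iv F49496) D25459 (iv D25318) F48901 (iv F48883)
def n25460 : Q := act 1 n25015
theorem D25460 : act 1 n25015 = n25460 := rfl
theorem F50641 : act 0 n25460 = n25331 := d0_1 D25460 (iv D25331) F48936 (iv F47669) (iv F49497)
theorem F50642 : act 2 n25460 = n25209 := d5_2 D25015 D25460 F49955 F48262 (iv F47667)
theorem F50643 : act 4 n25460 = n25208 := d7_2 (iv F49498) D25460 F49953
theorem F50644 : act 5 n25460 = n25291 := d8_2 (iv F49499) D25460 (iv D25291)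
def n25461 : Q := act 4 n25016
theorem D25461 : act 4 n25016 = n25461 := rfl
theorem F50645 : act 1 n25461 = n25320 := d7_1 D25461 F50291 (iv F49500)
theorem F50646 : act 3 n25461 = n25359 := d12_1 D25461 (iv D25359) F49053 (iv F47670) D25016
theorem F50647 : act 5 n25461 = n25329 := d14_2 (iv F49501) D25461 (iv D25329) (iv F50215) F50214
def n25462 : Q := act 0 n25019
theorem D25462 : act 0 n25019 = n25462 := rfl
theorem F50648 : act 1 n25462 = n25298 := d0_2 D25019 D25462 F50221 (iv F49503) F49502
theorem F50649 : act 2 n25462 = n25301 := d1_2 (iv F49510) D25462 F50230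
theorem F50650 : act 3 n25462 = n25300 := d2_2 F50406 D25462 (iv F50404)
theorem F50651 : act 4 n25462 = n25431 := d3_2 (iv F50088) D25462 F50580
theorem F50652 : act 5 n25462 = n25299 := d4_2 F50478 D25462 (iv F50474)
def n25463 : Q := act 1 n25023
theorem D25463 : act 1 n25023 = n25463 := rfl
theorem F50653 : act 0 n25463 = n25326 := d0_1 D25463 F50305 F48915 (iv F49061) (iv F49520)
theorem F50654 : act 3 n25463 = n25291 := d6_2 (iv F49521) D25463 (iv D25291)
theorem F50655 : act 4 n25463 = n25324 := d7_2 F49985 D25463 F50303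
def n25464 : Q := act 1 n25025
theorem D25464 : act 1 n25025 = n25464 := rfl
theorem F50656 : act 2 n25464 = n25382 := d5_2 D25025 D25464 (iv D25382) (iv D24906) (iv F47703)
theorem F50657 : act 4 n25464 = n25027 := d7_2 (iv F49527) D25464 (iv D25027)
theorem F50658 : act 0 n25443 = n25464 := d3_3 F50657 (iv F49531) (iv F50609)
def n25465 : Q := act 3 n25025
theorem D25465 : act 3 n25025 = n25465 := rfl
def n25466 : Q := act 5 n25025
theorem D25466 : act 5 n25025 = n25466 := rfl
theorem F50659 : act 2 n25466 = n25026 := d11_1 D25466 (iv D25026) D25025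
def n25467 : Q := act 4 n25026
theorem D25467 : act 4 n25026 = n25467 := rfl
theorem F50660 : act 1 n25467 = n25383 := d7_1 D25467 (iv D25383) (iv F49528)
theorem F50661 : act 3 n25467 = n25387 := d12_1 D25467 (iv D25387) F49244 (iv F47706) (iv F49529)
theorem F50662 : act 5 n25467 = n25030 := d14_2 D25026 D25467 (iv D25030) (iv D24319) (iv F47704)
def n25468 : Q := act 4 n25028
theorem D25468 : act 4 n25028 = n25468 := rfl
def n25469 : Q := act 4 n25029
theorem D25469 : act 4 n25029 = n25469 := rfl
theorem F50663 : act 1 n25469 = n25468 := d7_1 D25469 (iv D25468) (iv F49533)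
theorem F50664 : act 2 n25469 = n25030 := d10_1 D25469 (iv D25030) (iv F49534)
def n25470 : Q := act 2 n25033
theorem D25470 : act 2 n25033 = n25470 := rfl
theorem F50665 : act 0 n25470 = n25368 := d1_1 D25470 F50414 (iv F49543)
theorem F50666 : act 4 n25470 = n25151 := d10_2 (iv F49545) D25470 (iv D25151)
theorem F50667 : act 5 n25470 = n25344 := d11_2 (iv F49546) D25470 F50350
def n25471 : Q := act 1 n25034
theorem D25471 : act 1 n25034 = n25471 := rfl
theorem F50668 : act 0 n25471 = n25426 := d0_1 D25471 (iv D25426) F49389 (iv F48707) (iv F49547)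
theorem F50669 : act 4 n25471 = n25290 := d7_2 (iv F49548) D25471 F50201
theorem F50670 : act 5 n25471 = n25340 := d8_2 (iv F49549) D25471 F50338
def n25472 : Q := act 2 n25035
theorem D25472 : act 2 n25035 = n25472 := rfl
theorem F50671 : act 0 n25472 = n25036 := d1_1 D25472 (iv D25036) (iv F49550)
theorem F50672 : act 4 n25472 = n25165 := d10_2 (iv F49552) D25472 (iv D25165)
def n25473 : Q := act 3 n25036
theorem D25473 : act 3 n25036 = n25473 := rfl
def n25474 : Q := act 2 n25038
theorem D25474 : act 2 n25038 = n25474 := rfl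
theorem F50673 : act 0 n25474 = n25039 := d1_1 D25474 (iv D25039) (iv F49559)
theorem F50674 : act 3 n25474 = n25042 := d9_2 D25038 D25474 F49570 F47735 F44951 (iv F44945) F44944 D24321 D25032 F49542 (iv D25001) (iv D24281) F44805 (iv F44937) (iv F47729)
theorem F50675 : act 4 n25474 = n25045 := d10_2 (iv F49561) D25474 (iv D25045)
theorem F50676 : act 5 n25474 = n25041 := d11_2 (iv F49562) D25474 F49568
def n25475 : Q := act 0 n25040
theorem D25475 : act 0 n25040 = n25475 := rfl
theorem F50677 : act 1 n25475 = n25474 := d0_2 D25040 D25475 F50673 F49563 F49467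
def n25476 : Q := act 3 n25040
theorem D25476 : act 3 n25040 = n25476 := rfl
theorem F50678 : act 1 n25476 = n25041 := d6_1 D25476 (iv D25041) D25040
theorem F50679 : act 5 n25475 = n25476 := d8_0 F50678 (iv F50676) (iv F50677)
def n25477 : Q := act 5 n25040
theorem D25477 : act 5 n25040 = n25477 := rfl
theorem F50680 : act 0 n25477 = n25476 := d4_1 D25477 (iv F50679) (iv D25475)
theorem F50681 : act 1 n25477 = n25042 := d8_1 D25477 (iv D25042) D25040
theorem F50682 : act 3 n25477 = n25475 := d13_1 D25477 F50679 (iv D25476)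
def n25478 : Q := act 4 n25042
theorem D25478 : act 4 n25042 = n25478 := rfl
theorem F50683 : act 0 n25478 = n25376 := d3_1 D25478 F50436 (iv F49569)
theorem F50684 : act 2 n25478 = n25043 := d10_1 D25478 (iv D25043) (iv F49570)
def n25479 : Q := act 2 n25044
theorem D25479 : act 2 n25044 = n25479 := rfl
theorem F50685 : act 0 n25479 = n25445 := d1_1 D25479 F50612 (iv F49574)
theorem F50686 : act 4 n25479 = n25448 := d10_2 (iv F49576) D25479 F50618
theorem F50687 : act 5 n25479 = n25472 := d11_2 (iv F49577) D25479 (iv D25472)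
def n25480 : Q := act 1 n25045
theorem D25480 : act 1 n25045 = n25480 := rfl
theorem F50688 : act 0 n25480 = n25454 := d0_1 D25480 (iv D25454) F49477 D25009 (iv F49578)
theorem F50689 : act 4 n25480 = n25475 := d7_2 F50675 D25480 F50677
def n25481 : Q := act 3 n25046
theorem D25481 : act 3 n25046 = n25481 := rfl
theorem F50690 : act 2 n25481 = n25473 := d15_2 D25046 D25481 (iv D25473) (iv D25036) (iv D24325) (iv F47713) D25033 F49546 F48993
def n25482 : Q := act 3 n25047
theorem D25482 : act 3 n25047 = n25482 := rfl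
theorem F50691 : act 0 n25482 = n25050 := d2_1 D25482 (iv D25050) (iv F49580)
theorem F50692 : act 1 n25482 = n25419 := d6_1 D25482 F50550 F49878
theorem F50693 : act 2 n25482 = n25350 := d9_1 D25482 (iv D25350) (iv D24833) (iv D23997) (iv F45006) (iv F47775) (iv F49588) (iv F49889) (iv F50042) F50043 (iv D24722) (iv D23838) (iv F44994) D24339 D25047
theorem F50694 : act 5 n25482 = n25418 := d13_2 F50149 D25482 F50546
def n25483 : Q := act 2 n25050
theorem D25483 : act 2 n25050 = n25483 := rfl
theorem F50695 : act 0 n25483 = n25350 := d1_1 D25483 (iv F50693) F50691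
theorem F50696 : act 1 n25483 = n25148 := d5_1 D25483 F49814 F48412 (iv F48423) (iv F49586)
theorem F50697 : act 3 n25483 = n25147 := d9_2 D25050 D25483 F49812 F48052 F46450 D24663 D25273 (iv F50546) F50545 F50471 (iv D25049) (iv D24342) F45001 D23250 D24343
theorem F50698 : act 5 n25483 = n25239 := d11_2 F49890 D25483 F50042
def n25484 : Q := act 4 n25050
theorem D25484 : act 4 n25050 = n25484 := rfl
theorem F50699 : act 1 n25484 = n25242 := d7_1 D25484 (iv D25242) (iv F49586)
theorem F50700 : act 3 n25484 = n25054 := d12_1 D25484 (iv D25054) (iv D24346) (iv F47773) D25050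
def n25485 : Q := act 4 n25052
theorem D25485 : act 4 n25052 = n25485 := rfl
theorem F50701 : act 1 n25485 = n25054 := d7_1 D25485 (iv D25054) (iv F49590)
theorem F50702 : act 3 n25485 = n25242 := d12_1 D25485 (iv D25242) (iv D24611) (iv F47778) D25052
def n25486 : Q := act 2 n25057
theorem D25486 : act 2 n25057 = n25486 := rfl
theorem F50703 : act 0 n25486 = n25374 := d1_1 D25486 (iv D25374) (iv F49595)
theorem F50704 : act 3 n25486 = n25395 := d9_2 D25057 D25486 (iv D25395) (iv D24934) F47342 F44227 (iv F44236) D24182 D24935 (iv F50431) (iv D25374) (iv D24895) F47163 (iv F45017) (iv F47783)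
theorem F50705 : act 4 n25486 = n25381 := d10_2 (iv F49597) D25486 (iv D25381)
theorem F50706 : act 5 n25486 = n25395 := d11_2 (iv F49598) D25486 (iv D25395)
def n25487 : Q := act 1 n25059
theorem D25487 : act 1 n25059 = n25487 := rfl
theorem F50707 : act 0 n25487 = n25116 := d0_1 D25487 (iv D25116) F47966 (iv F47823) (iv F49603)
theorem F50708 : act 2 n25487 = n25117 := d5_2 D25059 D25487 (iv D25117) (iv D24422) (iv F47820)
theorem F50709 : act 3 n25487 = n25116 := d6_2 (iv F49604) D25487 (iv D25116)
theorem F50710 : act 4 n25487 = n25104 := d7_2 (iv F49605) D25487 (iv D25104)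
theorem F50711 : act 5 n25487 = n25116 := d8_2 (iv F49606) D25487 (iv D25116)
def n25488 : Q := act 5 n25060
theorem D25488 : act 5 n25060 = n25488 := rfl
theorem F50712 : act 0 n25488 = n25243 := d4_1 D25488 F50058 F49777
theorem F50713 : act 1 n25488 = n25062 := d8_1 D25488 (iv D25062) (iv F49607)
theorem F50714 : act 2 n25488 = n25243 := d11_1 D25488 F50058 F49779
theorem F50715 : act 3 n25488 = n25259 := d13_1 D25488 F50103 (iv F49608)
theorem F50716 : act 4 n25488 = n25186 := d14_1 D25488 (iv D25186) F48122 (iv F47832) D25060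
def n25489 : Q := act 5 n25061
theorem D25489 : act 5 n25061 = n25489 := rfl
theorem F50717 : act 0 n25489 = n25071 := d4_1 D25489 (iv D25071) (iv F49609)
theorem F50718 : act 1 n25489 = n25259 := d8_1 D25489 F50103 (iv F49610)
theorem F50719 : act 2 n25489 = n25102 := d11_1 D25489 (iv D25102) F49612
theorem F50720 : act 3 n25489 = n25062 := d13_1 D25489 (iv D25062) D25061
theorem F50721 : act 4 n25489 = n25079 := d14_1 D25489 (iv D25079) F47884 (iv F47836) (iv F49611)
def n25490 : Q := act 2 n25063
theorem D25490 : act 2 n25063 = n25490 := rfl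
theorem F50722 : act 0 n25490 = n25066 := d1_1 D25490 (iv D25066) (iv F49616)
theorem F50723 : act 5 n25490 = n25080 := d11_2 (iv F49618) D25490 (iv D25080)
theorem F50724 : act 3 n25490 = n25091 := d15_1 D25490 (iv D25091) (iv D24391) (iv D23313) (iv D21720) (iv F41261) D23308 (iv F47844) (iv F49616)
def n25491 : Q := act 2 n25064
theorem D25491 : act 2 n25064 = n25491 := rfl
theorem F50725 : act 4 n25491 = n25066 := d10_2 (iv F49620) D25491 (iv D25066)
def n25492 : Q := act 5 n25064
theorem D25492 : act 5 n25064 = n25492 := rfl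
theorem F50726 : act 0 n25492 = n25164 := d4_1 D25492 F49849 F49780
theorem F50727 : act 1 n25492 = n25071 := d8_1 D25492 (iv D25071) (iv F49619)
theorem F50728 : act 3 n25492 = n25065 := d13_1 D25492 (iv D25065) D25064
theorem F50729 : act 4 n25492 = n25082 := d14_1 D25492 (iv D25082) F47894 (iv F47844) (iv F49620)
def n25493 : Q := act 1 n25066
theorem D25493 : act 1 n25066 = n25493 := rfl
theorem F50730 : act 2 n25493 = n25073 := d5_2 D25066 D25493 (iv D25073) (iv D24373) (iv F47843)
theorem F50731 : act 5 n25493 = n25083 := d8_2 (iv F49624) D25493 (iv D25083)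
def n25494 : Q := act 3 n25066
theorem D25494 : act 3 n25066 = n25494 := rfl
theorem F50732 : act 0 n25494 = n25091 := d2_1 D25494 (iv F50724) F50722
theorem F50733 : act 5 n25494 = n25084 := d13_2 (iv F49624) D25494 (iv D25084)
theorem F50734 : act 2 n25494 = n25090 := d15_2 D25066 D25494 (iv D25090) (iv D24390) (iv D23312) (iv F45146) D24383 (iv F49618) F49616
def n25495 : Q := act 5 n25067
theorem D25495 : act 5 n25067 = n25495 := rfl
theorem F50735 : act 1 n25495 = n25069 := d8_1 D25495 (iv D25069) (iv F49625)
theorem F50736 : act 4 n25495 = n25302 := d14_1 D25495 (iv D25302) (iv D24748) (iv F47846) D25067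
def n25496 : Q := act 5 n25068
theorem D25496 : act 5 n25068 = n25496 := rfl
theorem F50737 : act 0 n25496 = n25438 := d4_1 D25496 F50598 F49773
theorem F50738 : act 2 n25496 = n25461 := d11_1 D25496 F50647 F50315
theorem F50739 : act 3 n25496 = n25069 := d13_1 D25496 (iv D25069) D25068
theorem F50740 : act 4 n25496 = n25373 := d14_1 D25496 F50428 F49508 (iv F49771) F49770
def n25497 : Q := act 1 n25070
theorem D25497 : act 1 n25070 = n25497 := rfl
theorem F50741 : act 4 n25497 = n25073 := d7_2 (iv F49630) D25497 (iv D25073)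
def n25498 : Q := act 3 n25070
theorem D25498 : act 3 n25070 = n25498 := rfl
theorem F50742 : act 0 n25498 = n25098 := d2_1 D25498 F49694 (iv F49629)
theorem F50743 : act 4 n25498 = n25095 := d12_2 (iv F49630) D25498 (iv D25095) F47909 (iv F47854)
def n25499 : Q := act 5 n25070
theorem D25499 : act 5 n25070 = n25499 := rfl
theorem F50744 : act 0 n25499 = n25102 := d4_1 D25499 (iv D25102) (iv F49629)
theorem F50745 : act 2 n25499 = n25071 := d11_1 D25499 (iv D25071) D25070
theorem F50746 : act 4 n25499 = n25087 := d14_1 D25499 (iv D25087) F47899 (iv F47853) (iv F49630)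
def n25500 : Q := act 0 n25073
theorem D25500 : act 0 n25073 = n25500 := rfl
theorem F50747 : act 1 n25500 = n25099 := d0_2 D25073 D25500 F49695 F47923 (iv F47852)
theorem F50748 : act 3 n25500 = n25097 := d2_2 (iv F49638) D25500 (iv D25097)
theorem F50749 : act 5 n25500 = n25088 := d4_2 (iv F49639) D25500 (iv D25088)
def n25501 : Q := act 1 n25074
theorem D25501 : act 1 n25074 = n25501 := rfl
theorem F50750 : act 0 n25501 = n25103 := d0_1 D25501 (iv D25103) F47925 (iv F47859) (iv F49640)
theorem F50751 : act 2 n25501 = n25104 := d5_2 D25074 D25501 (iv D25104) (iv D24404) (iv F47856)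
theorem F50752 : act 4 n25501 = n25117 := d7_2 (iv F49641) D25501 (iv D25117)
theorem F50753 : act 5 n25501 = n25089 := d8_2 (iv F49642) D25501 (iv D25089)
theorem F50754 : act 3 n25171 = n25501 := d2_0 F50750 F49704 D25171
def n25502 : Q := act 3 n25074
theorem D25502 : act 3 n25074 = n25502 := rfl
theorem F50755 : act 0 n25502 = n25075 := d2_1 D25502 (iv D25075) (iv F49640)
theorem F50756 : act 1 n25502 = n25171 := d6_1 D25502 F50754 (iv D25501)
theorem F50757 : act 2 n25502 = n25084 := d9_1 D25502 (iv D25084) (iv D24386) (iv D23308) F41261 D21720 D23313 D24391 D25091 (iv F50724) (iv D25490) (iv D25063) F47840 D24374 D25074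
theorem F50758 : act 5 n25502 = n25090 := d13_2 (iv F49642) D25502 (iv D25090)
def n25503 : Q := act 2 n25075
theorem D25503 : act 2 n25075 = n25503 := rfl
theorem F50759 : act 0 n25503 = n25084 := d1_1 D25503 (iv F50757) F50755
theorem F50760 : act 1 n25503 = n25160 := d5_1 D25503 (iv D25160) F48090 (iv F47931) (iv F49643)
theorem F50761 : act 3 n25503 = n25080 := d9_2 D25075 D25503 (iv D25080) (iv D24383) F45146 D23312 D24390 D25090 (iv F50734) (iv D25494) (iv D25066) (iv D24367) F45105 D23297 D24375
theorem F50762 : act 5 n25503 = n25091 := d11_2 (iv F49644) D25503 (iv D25091)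
def n25504 : Q := act 5 n25077
theorem D25504 : act 5 n25077 = n25504 := rfl
theorem F50763 : act 0 n25504 = n25087 := d4_1 D25504 (iv D25087) (iv F49650)
theorem F50764 : act 1 n25504 = n25336 := d8_1 D25504 (iv D25336) (iv F49651)
theorem F50765 : act 2 n25504 = n25079 := d11_1 D25504 (iv D25079) (iv F49652)
theorem F50766 : act 3 n25504 = n25336 := d13_1 D25504 (iv D25336) (iv F49653)
theorem F50767 : act 4 n25504 = n25102 := d14_1 D25504 (iv D25102) (iv D24401) (iv F47869) D25077
def n25505 : Q := act 1 n25080
theorem D25505 : act 1 n25080 = n25505 := rfl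
theorem F50768 : act 2 n25505 = n25260 := d5_2 D25080 D25505 (iv D25260) (iv D24642) (iv F47890)
theorem F50769 : act 3 n25505 = n25160 := d6_2 F50761 D25505 (iv F50760)
theorem F50770 : act 4 n25505 = n25161 := d7_2 (iv F49663) D25505 (iv D25161)
def n25506 : Q := act 1 n25081
theorem D25506 : act 1 n25081 = n25506 := rfl
theorem F50771 : act 2 n25506 = n25085 := d5_2 D25081 D25506 (iv D25085) (iv D24387) (iv F47893)
theorem F50772 : act 4 n25506 = n25083 := d7_2 (iv F49665) D25506 (iv D25083)
def n25507 : Q := act 5 n25081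
theorem D25507 : act 5 n25081 = n25507 := rfl
theorem F50773 : act 0 n25507 = n25163 := d4_1 D25507 (iv D25163) (iv F49664)
theorem F50774 : act 2 n25507 = n25082 := d11_1 D25507 (iv D25082) D25081
theorem F50775 : act 3 n25507 = n25165 := d13_1 D25507 (iv F50514) F50513
def n25508 : Q := act 0 n25083
theorem D25508 : act 0 n25083 = n25508 := rfl
theorem F50776 : act 2 n25508 = n25088 := d1_2 (iv F49669) D25508 (iv D25088)
def n25509 : Q := act 3 n25083
theorem D25509 : act 3 n25083 = n25509 := rfl
theorem F50777 : act 1 n25509 = n25084 := d6_1 D25509 (iv D25084) D25083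
def n25510 : Q := act 4 n25084
theorem D25510 : act 4 n25084 = n25510 := rfl
def n25511 : Q := act 0 n25085
theorem D25511 : act 0 n25085 = n25511 := rfl
theorem F50778 : act 1 n25511 = n25086 := d0_2 D25085 D25511 F49671 (iv F49651) F49650
theorem F50779 : act 4 n25511 = n25088 := d3_2 (iv F49670) D25511 (iv D25088)
theorem F50780 : act 3 n25085 = n25511 := d12_5 F50779 F49675 (iv F49648) F49647 (iv F49670)
def n25512 : Q := act 5 n25085
theorem D25512 : act 5 n25085 = n25512 := rfl
theorem F50781 : act 1 n25512 = n25087 := d8_1 D25512 (iv D25087) D25085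
def n25513 : Q := act 2 n25086
theorem D25513 : act 2 n25086 = n25513 := rfl
theorem F50782 : act 0 n25513 = n25258 := d1_1 D25513 F50097 (iv F49671)
theorem F50783 : act 3 n25513 = n25179 := d9_2 D25086 D25513 F49876 F48108 (iv F47887) (iv F49661) (iv F50765) F50766 F50328 (iv D25052) F47777 F45032 F42405 D23309 D24387
theorem F50784 : act 4 n25513 = n25257 := d10_2 (iv F49672) D25513 F50095
theorem F50785 : act 1 n25264 = n25513 := d6_3 F50783 F49875 (iv F50119)
theorem F50786 : act 5 n25178 = n25513 := d13_0 F50783 (iv D25179) D25178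
def n25514 : Q := act 5 n25086
theorem D25514 : act 5 n25086 = n25514 := rfl
theorem F50787 : act 0 n25514 = n25336 := d4_1 D25514 (iv D25336) (iv F49671)
theorem F50788 : act 2 n25514 = n25178 := d11_1 D25514 F50786 (iv D25513)
theorem F50789 : act 3 n25514 = n25087 := d13_1 D25514 (iv D25087) D25086
def n25515 : Q := act 3 n25089
theorem D25515 : act 3 n25089 = n25515 := rfl
theorem F50790 : act 0 n25515 = n25105 := d2_1 D25515 (iv D25105) (iv F49676)
theorem F50791 : act 1 n25515 = n25090 := d6_1 D25515 (iv D25090) D25089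
theorem F50792 : act 5 n25515 = n25171 := d13_2 F50753 D25515 F50754
def n25516 : Q := act 4 n25090
theorem D25516 : act 4 n25090 = n25516 := rfl
theorem F50793 : act 0 n25516 = n25092 := d3_1 D25516 (iv D25092) (iv F49679)
theorem F50794 : act 3 n25516 = n25106 := d12_1 D25516 (iv D25106) (iv D24407) (iv F47902) D25090
def n25517 : Q := act 1 n25091
theorem D25517 : act 1 n25091 = n25517 := rfl
theorem F50795 : act 2 n25517 = n25107 := d5_2 D25091 D25517 (iv D25107) (iv D24408) (iv F47903)
theorem F50796 : act 5 n25517 = n25160 := d8_2 F50762 D25517 (iv F50760)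
def n25518 : Q := act 4 n25091
theorem D25518 : act 4 n25091 = n25518 := rfl
theorem F50797 : act 2 n25518 = n25092 := d10_1 D25518 (iv D25092) D25091
def n25519 : Q := act 5 n25092
theorem D25519 : act 5 n25092 = n25519 := rfl
theorem F50798 : act 1 n25519 = n25109 := d8_1 D25519 (iv D25109) (iv F49680)
theorem F50799 : act 3 n25519 = n25109 := d13_1 D25519 (iv D25109) (iv F49681)
def n25520 : Q := act 0 n25093
theorem D25520 : act 0 n25093 = n25520 := rfl
theorem F50800 : act 1 n25520 = n25115 := d0_2 D25093 D25520 F49734 (iv D24429) (iv F47904)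
theorem F50801 : act 2 n25520 = n25097 := d1_2 (iv F49682) D25520 (iv D25097)
theorem F50802 : act 3 n25520 = n25372 := d2_2 (iv F49683) D25520 (iv D25372)
theorem F50803 : act 4 n25520 = n25114 := d3_2 (iv F49684) D25520 F49731
theorem F50804 : act 5 n25520 = n25195 := d4_2 (iv F49685) D25520 F49911
def n25521 : Q := act 0 n25094
theorem D25521 : act 0 n25094 = n25521 := rfl
theorem F50805 : act 1 n25521 = n25096 := d0_2 D25094 D25521 F49689 (iv D24397) (iv F47908)
theorem F50806 : act 2 n25521 = n25114 := d1_2 (iv F49686) D25521 F49731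
theorem F50807 : act 4 n25521 = n25097 := d3_2 (iv F49687) D25521 (iv D25097)
theorem F50808 : act 5 n25094 = n25521 := d14_0 F50807 F49693 (iv F49648) F49649 (iv F49687)
def n25522 : Q := act 3 n25094
theorem D25522 : act 3 n25094 = n25522 := rfl
theorem F50809 : act 1 n25522 = n25095 := d6_1 D25522 (iv D25095) D25094
def n25523 : Q := act 5 n25098
theorem D25523 : act 5 n25098 = n25523 := rfl
theorem F50810 : act 3 n25523 = n25102 := d13_1 D25523 (iv D25102) (iv F49694)
def n25524 : Q := act 4 n25099
theorem D25524 : act 4 n25099 = n25524 := rfl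
theorem F50811 : act 0 n25524 = n25101 := d3_1 D25524 (iv D25101) (iv F49695)
theorem F50812 : act 2 n25524 = n25335 := d10_1 D25524 (iv D25335) (iv F49697)
def n25525 : Q := act 4 n25100
theorem D25525 : act 4 n25100 = n25525 := rfl
theorem F50813 : act 0 n25525 = n25335 := d3_1 D25525 (iv D25335) (iv F49698)
theorem F50814 : act 1 n25525 = n25272 := d7_1 D25525 (iv D25272) (iv F49699)
theorem F50815 : act 2 n25525 = n25101 := d10_1 D25525 (iv D25101) D25100
theorem F50816 : act 5 n25525 = n25485 := d14_2 (iv F49700) D25525 (iv D25485) (iv F50100) F50099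
def n25526 : Q := act 5 n25101
theorem D25526 : act 5 n25101 = n25526 := rfl
theorem F50817 : act 1 n25526 = n25102 := d8_1 D25526 (iv D25102) (iv F49702)
theorem F50818 : act 2 n25526 = n25485 := d11_1 D25526 (iv F50816) F50815
theorem F50819 : act 4 n25526 = n25336 := d14_1 D25526 (iv D25336) (iv D24814) (iv F47924) D25101
def n25527 : Q := act 2 n25105
theorem D25527 : act 2 n25105 = n25527 := rfl
theorem F50820 : act 1 n25527 = n25157 := d5_1 D25527 (iv D25157) F48088 (iv F47938) (iv F49709)
theorem F50821 : act 5 n25527 = n25167 := d11_2 (iv F49710) D25527 F49853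
def n25528 : Q := act 4 n25105
theorem D25528 : act 4 n25105 = n25528 := rfl
theorem F50822 : act 1 n25528 = n25106 := d7_1 D25528 (iv D25106) (iv F49709)
def n25529 : Q := act 5 n25106
theorem D25529 : act 5 n25106 = n25529 := rfl
theorem F50823 : act 0 n25529 = n25109 := d4_1 D25529 (iv D25109) (iv F49711)
theorem F50824 : act 2 n25529 = n25159 := d11_1 D25529 (iv D25159) (iv F49712)
theorem F50825 : act 4 n25529 = n25173 := d14_1 D25529 (iv D25173) (iv D24485) (iv F47939) D25106
def n25530 : Q := act 4 n25107
theorem D25530 : act 4 n25107 = n25530 := rfl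
theorem F50826 : act 1 n25530 = n25108 := d7_1 D25530 (iv D25108) D25107
def n25531 : Q := act 3 n25108
theorem D25531 : act 3 n25108 = n25531 := rfl
theorem F50827 : act 0 n25531 = n25155 := d2_1 D25531 F49833 (iv F49715)
theorem F50828 : act 4 n25531 = n25150 := d12_2 D25108 D25531 (iv D25150) F48074 (iv F47941)
def n25532 : Q := act 2 n25111
theorem D25532 : act 2 n25111 = n25532 := rfl
theorem F50829 : act 0 n25532 = n25191 := d1_1 D25532 F49905 (iv F49721)
def n25533 : Q := act 4 n25111
theorem D25533 : act 4 n25111 = n25533 := rfl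
theorem F50830 : act 0 n25533 = n25194 := d3_1 D25533 (iv D25194) (iv F49721)
theorem F50831 : act 1 n25533 = n25112 := d7_1 D25533 (iv D25112) (iv F49722)
theorem F50832 : act 3 n25533 = n25194 := d12_1 D25533 (iv D25194) (iv F49656) F49657 D25111
theorem F50833 : act 5 n25533 = n25194 := d14_2 F50041 D25533 (iv D25194) (iv F49747) (iv F50040)
def n25534 : Q := act 3 n25115
theorem D25534 : act 3 n25115 = n25534 := rfl
theorem F50834 : act 0 n25534 = n25123 := d2_1 D25534 (iv D25123) (iv F49734)
theorem F50835 : act 1 n25534 = n25372 := d6_1 D25534 (iv F50802) F50800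
theorem F50836 : act 4 n25534 = n25534 := d12_2 D25115 D25534 (iv D25534) (iv D25115) F47960
theorem F50837 : act 5 n25534 = n25196 := d13_2 (iv F49736) D25534 (iv D25196)
theorem F50838 : act 2 n25534 = n25192 := d15_2 (iv F49735) D25534 (iv D25192) (iv D24508) (iv D23467) F41748 D21918 (iv F45239) (iv F47962)
def n25535 : Q := act 5 n25118
theorem D25535 : act 5 n25118 = n25535 := rfl
theorem F50839 : act 1 n25535 = n25121 := d8_1 D25535 (iv D25121) (iv F49741)
theorem F50840 : act 2 n25535 = n25408 := d11_1 D25535 F50526 F49791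
theorem F50841 : act 4 n25535 = n25121 := d14_1 D25535 (iv D25121) (iv D24426) (iv F47971) D25118
def n25536 : Q := act 4 n25119
theorem D25536 : act 4 n25119 = n25536 := rfl
theorem F50842 : act 1 n25536 = n25120 := d7_1 D25536 (iv D25120) (iv F49742)
theorem F50843 : act 3 n25536 = n25172 := d12_1 D25536 (iv D25172) (iv F49704) F49705 D25119
def n25537 : Q := act 2 n25122
theorem D25537 : act 2 n25122 = n25537 := rfl
theorem F50844 : act 1 n25537 = n25189 := d5_1 D25537 (iv D25189) F48141 (iv F47974) (iv F49746)
theorem F50845 : act 5 n25537 = n25191 := d11_2 (iv F49747) D25537 F49905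
def n25538 : Q := act 2 n25123
theorem D25538 : act 2 n25123 = n25538 := rfl
theorem F50846 : act 0 n25538 = n25192 := d1_1 D25538 (iv F50838) F50834
theorem F50847 : act 1 n25538 = n25370 := d5_1 D25538 (iv D25370) F49164 (iv F47982) (iv F49748)
theorem F50848 : act 4 n25538 = n25538 := d10_2 F49749 D25538 (iv D25538)
theorem F50849 : act 5 n25538 = n25197 := d11_2 (iv F49750) D25538 (iv D25197)
theorem F50850 : act 3 n25538 = n25190 := d15_1 D25538 (iv D25190) (iv D24507) F45539 D23470 D24513 D25196 (iv F50837) F50834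
def n25539 : Q := act 5 n25124
theorem D25539 : act 5 n25124 = n25539 := rfl
theorem F50851 : act 0 n25539 = n25495 := d4_1 D25539 (iv D25495) (iv F49751)
theorem F50852 : act 1 n25539 = n25126 := d8_1 D25539 (iv D25126) (iv F49752)
theorem F50853 : act 2 n25539 = n25495 := d11_1 D25539 (iv D25495) (iv F49753)
theorem F50854 : act 3 n25539 = n25361 := d13_1 D25539 (iv D25361) (iv F49754)
theorem F50855 : act 4 n25539 = n25280 := d14_1 D25539 F50165 F49720 (iv F47986) D25124
def n25540 : Q := act 2 n25125
theorem D25540 : act 2 n25125 = n25540 := rfl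
theorem F50856 : act 0 n25540 = n25134 := d1_1 D25540 (iv D25134) (iv F49755)
theorem F50857 : act 4 n25540 = n25127 := d10_2 (iv F49757) D25540 (iv D25127)
def n25541 : Q := act 5 n25125
theorem D25541 : act 5 n25125 = n25541 := rfl
theorem F50858 : act 0 n25541 = n25135 := d4_1 D25541 (iv D25135) (iv F49755)
theorem F50859 : act 1 n25541 = n25361 := d8_1 D25541 (iv D25361) (iv F49756)
theorem F50860 : act 3 n25541 = n25126 := d13_1 D25541 (iv D25126) D25125
theorem F50861 : act 4 n25541 = n25279 := d14_1 D25541 (iv F50196) F50195 (iv D25128) (iv F49757)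
def n25542 : Q := act 2 n25130
theorem D25542 : act 2 n25130 = n25542 := rfl
theorem F50862 : act 0 n25542 = n25329 := d1_1 D25542 F50315 (iv F49773)
theorem F50863 : act 4 n25542 = n25131 := d10_2 (iv F49775) D25542 (iv D25131)
def n25543 : Q := act 1 n25131
theorem D25543 : act 1 n25131 = n25543 := rfl
theorem F50864 : act 0 n25543 = n25316 := d0_1 D25543 (iv D25316) F48894 D24793 (iv F49776)
theorem F50865 : act 2 n25543 = n25136 := d5_2 D25131 D25543 (iv D25136) (iv D24443) (iv F48004)
theorem F50866 : act 3 n25543 = n25323 := d6_2 F49968 D25543 F50299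
theorem F50867 : act 5 n25543 = n25324 := d8_2 F49986 D25543 F50303
def n25544 : Q := act 2 n25133
theorem D25544 : act 2 n25133 = n25544 := rfl
theorem F50868 : act 0 n25544 = n25491 := d1_1 D25544 (iv D25491) (iv F49780)
theorem F50869 : act 4 n25544 = n25490 := d10_2 (iv F49781) D25544 (iv D25490)
def n25545 : Q := act 1 n25134
theorem D25545 : act 1 n25134 = n25545 := rfl
theorem F50870 : act 4 n25545 = n25136 := d7_2 (iv F49782) D25545 (iv D25136)
def n25546 : Q := act 3 n25134
theorem D25546 : act 3 n25134 = n25546 := rfl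
def n25547 : Q := act 5 n25134
theorem D25547 : act 5 n25134 = n25547 := rfl
theorem F50871 : act 2 n25547 = n25135 := d11_1 D25547 (iv D25135) D25134
def n25548 : Q := act 0 n25136
theorem D25548 : act 0 n25136 = n25548 := rfl
theorem F50872 : act 1 n25548 = n25314 := d0_2 D25136 D25548 F50277 F49976 F49761
theorem F50873 : act 2 n25548 = n25316 := d1_2 F50865 D25548 (iv F50864)
theorem F50874 : act 5 n25548 = n25325 := d4_2 F50344 D25548 (iv F50342)
def n25549 : Q := act 4 n25140
theorem D25549 : act 4 n25140 = n25549 := rfl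
theorem F50875 : act 1 n25549 = n25141 := d7_1 D25549 (iv D25141) (iv F49794)
theorem F50876 : act 2 n25549 = n25362 := d10_1 D25549 (iv D25362) (iv F49795)
theorem F50877 : act 3 n25549 = n25247 := d12_1 D25549 F50068 F50064 F49149 D25140
def n25550 : Q := act 5 n25141
theorem D25550 : act 5 n25141 = n25550 := rfl
theorem F50878 : act 2 n25550 = n25279 := d11_1 D25550 (iv F50196) F50197
def n25551 : Q := act 1 n25142
theorem D25551 : act 1 n25142 = n25551 := rfl
theorem F50879 : act 0 n25551 = n25346 := d0_1 D25551 (iv D25346) F49009 D24830 (iv F49796)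
theorem F50880 : act 2 n25551 = n25144 := d5_2 D25142 D25551 (iv D25144) (iv D24452) (iv F48028)
theorem F50881 : act 3 n25551 = n25346 := d6_2 (iv F49797) D25551 (iv D25346)
theorem F50882 : act 5 n25551 = n25346 := d8_2 (iv F49798) D25551 (iv D25346)
def n25552 : Q := act 4 n25144
theorem D25552 : act 4 n25144 = n25552 := rfl
theorem F50883 : act 0 n25552 = n25536 := d3_1 D25552 (iv D25536) (iv F49803)
theorem F50884 : act 1 n25552 = n25145 := d7_1 D25552 (iv D25145) D25144
def n25553 : Q := act 3 n25145
theorem D25553 : act 3 n25145 = n25553 := rfl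
theorem F50885 : act 0 n25553 = n25399 := d2_1 D25553 F50503 (iv F49806)
theorem F50886 : act 4 n25553 = n25502 := d12_2 D25145 D25553 (iv D25502) F49641 (iv F48031)
theorem F50887 : act 2 n25510 = n25553 := d10_3 F50886 F50757 D25510
def n25554 : Q := act 5 n25145
theorem D25554 : act 5 n25145 = n25554 := rfl
theorem F50888 : act 0 n25554 = n25535 := d4_1 D25554 (iv D25535) (iv F49806)
theorem F50889 : act 2 n25554 = n25146 := d11_1 D25554 (iv D25146) (iv F49807)
theorem F50890 : act 4 n25554 = n25396 := d14_1 D25554 F50494 (iv D25120) (iv F48032) D25145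
def n25555 : Q := act 4 n25148
theorem D25555 : act 4 n25148 = n25555 := rfl
theorem F50891 : act 2 n25555 = n25240 := d10_1 D25555 (iv D25240) (iv F49814)
theorem F50892 : act 3 n25555 = n25525 := d12_1 D25555 (iv D25525) F49701 F48972 D25148
theorem F50893 : act 5 n25555 = n25242 := d14_2 (iv F49815) D25555 (iv D25242) F48424 (iv F48410)
def n25556 : Q := act 2 n25150
theorem D25556 : act 2 n25150 = n25556 := rfl
theorem F50894 : act 0 n25556 = n25154 := d1_1 D25556 (iv D25154) (iv F49821)
theorem F50895 : act 3 n25556 = n25151 := d9_2 D25150 D25556 (iv D25151) (iv D24471) F45433 F41643 (iv F42449) D23669 D24620 F48446 (iv D24080) (iv D22800) (iv F41628) D23417 D24469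
theorem F50896 : act 5 n25556 = n25153 := d11_2 (iv F49822) D25556 F49828
def n25557 : Q := act 1 n25151
theorem D25557 : act 1 n25151 = n25557 := rfl
theorem F50897 : act 0 n25557 = n25410 := d0_1 D25557 (iv D25410) F49336 (iv F49151) (iv F49823)
theorem F50898 : act 2 n25557 = n25290 := d5_2 D25151 D25557 F50201 F48699 (iv F48079)
theorem F50899 : act 5 n25557 = n25152 := d8_2 (iv F49824) D25557 (iv D25152)
def n25558 : Q := act 0 n25152
theorem D25558 : act 0 n25152 = n25558 := rfl
theorem F50900 : act 1 n25558 = n25367 := d0_2 D25152 D25558 (iv D25367) (iv D24879) (iv F48081)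
theorem F50901 : act 2 n25558 = n25289 := d1_2 (iv F49825) D25558 (iv D25289)
theorem F50902 : act 4 n25558 = n25341 := d3_2 (iv F49826) D25558 (iv D25341)
theorem F50903 : act 5 n25558 = n25410 := d4_2 F50899 D25558 (iv F50897)
theorem F50904 : act 3 n25405 = n25558 := d6_0 F50900 F50410 D25405
def n25559 : Q := act 3 n25152
theorem D25559 : act 3 n25152 = n25559 := rfl
theorem F50905 : act 0 n25559 = n25405 := d2_1 D25559 F50904 (iv D25558)
theorem F50906 : act 1 n25559 = n25153 := d6_1 D25559 (iv D25153) D25152
def n25560 : Q := act 4 n25154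
theorem D25560 : act 4 n25154 = n25560 := rfl
theorem F50907 : act 1 n25560 = n25414 := d7_1 D25560 (iv D25414) F49831
theorem F50908 : act 2 n25560 = n25155 := d10_1 D25560 (iv D25155) D25154
def n25561 : Q := act 5 n25155
theorem D25561 : act 5 n25155 = n25561 := rfl
theorem F50909 : act 1 n25561 = n25251 := d8_1 D25561 F50077 (iv F49832)
theorem F50910 : act 3 n25561 = n25159 := d13_1 D25561 (iv D25159) (iv F49833)
theorem F50911 : act 4 n25561 = n25244 := d14_1 D25561 F50060 F48445 (iv F48084) D25155
def n25562 : Q := act 2 n25156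
theorem D25562 : act 2 n25156 = n25562 := rfl
theorem F50912 : act 0 n25562 = n25157 := d1_1 D25562 (iv D25157) (iv F49834)
theorem F50913 : act 3 n25562 = n25175 := d9_2 D25156 D25562 (iv D25175) (iv D24488) (iv D23438) (iv D21881) (iv F41666) D23434 D24482 D25168 F49855 (iv D24885) F47080 (iv F45446) (iv F48085)
theorem F50914 : act 5 n25562 = n25166 := d11_2 (iv F49835) D25562 (iv D25166)
def n25563 : Q := act 4 n25156
theorem D25563 : act 4 n25156 = n25563 := rfl
theorem F50915 : act 0 n25563 = n25158 := d3_1 D25563 (iv D25158) (iv F49834)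
theorem F50916 : act 3 n25563 = n25249 := d12_1 D25563 (iv D25249) F48450 (iv F48086) D25156
def n25564 : Q := act 3 n25157
theorem D25564 : act 3 n25157 = n25564 := rfl
theorem F50917 : act 0 n25564 = n25175 := d2_1 D25564 (iv F50913) F50912
theorem F50918 : act 2 n25564 = n25174 := d9_1 D25564 (iv D25174) (iv D24487) (iv D23437) (iv F45466) D24481 D25166 F49852 (iv D24886) (iv D24089) F43815 (iv F41649) (iv F45441) D24475 D25157
theorem F50919 : act 5 n25564 = n25168 := d13_2 (iv F49836) D25564 (iv D25168)
def n25565 : Q := act 4 n25157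
theorem D25565 : act 4 n25157 = n25565 := rfl
theorem F50920 : act 2 n25565 = n25158 := d10_1 D25565 (iv D25158) D25157
def n25566 : Q := act 5 n25158
theorem D25566 : act 5 n25158 = n25566 := rfl
theorem F50921 : act 1 n25566 = n25159 := d8_1 D25566 (iv D25159) (iv F49837)
theorem F50922 : act 3 n25566 = n25251 := d13_1 D25566 F50077 (iv F49838)
theorem F50923 : act 4 n25566 = n25170 := d14_1 D25566 (iv D25170) (iv D24483) (iv F48089) D25158
def n25567 : Q := act 0 n25161
theorem D25567 : act 0 n25161 = n25567 := rfl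
theorem F50924 : act 2 n25567 = n25264 := d1_2 (iv F49840) D25567 (iv D25264)
theorem F50925 : act 3 n25567 = n25386 := d2_2 (iv F49844) D25567 F50467
def n25568 : Q := act 5 n25161
theorem D25568 : act 5 n25161 = n25568 := rfl
theorem F50926 : act 1 n25568 = n25163 := d8_1 D25568 (iv D25163) D25161
theorem F50927 : act 2 n25568 = n25266 := d11_1 D25568 (iv D25266) (iv F49840)
theorem F50928 : act 3 n25568 = n25377 := d13_1 D25568 F50438 (iv F49844)
def n25569 : Q := act 4 n25163
theorem D25569 : act 4 n25163 = n25569 := rfl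
theorem F50929 : act 2 n25569 = n25164 := d10_1 D25569 (iv D25164) (iv F49845)
theorem F50930 : act 5 n25569 = n25544 := d14_2 D25163 D25569 F50869 F50723 F49663
def n25570 : Q := act 1 n25165
theorem D25570 : act 1 n25165 = n25570 := rfl
def n25571 : Q := act 1 n25166
theorem D25571 : act 1 n25166 = n25571 := rfl
theorem F50931 : act 3 n25571 = n25371 := d6_2 (iv F49852) D25571 (iv D25371)
def n25572 : Q := act 0 n25167
theorem D25572 : act 0 n25167 = n25572 := rfl
theorem F50932 : act 2 n25572 = n25171 := d1_2 (iv F49853) D25572 (iv D25171)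
def n25573 : Q := act 3 n25167
theorem D25573 : act 3 n25167 = n25573 := rfl
theorem F50933 : act 1 n25573 = n25168 := d6_1 D25573 (iv D25168) D25167
theorem F50934 : act 4 n25573 = n25573 := d7_0 F50933 F49856 (iv F50933)
def n25574 : Q := act 4 n25167
theorem D25574 : act 4 n25167 = n25574 := rfl
theorem F50935 : act 1 n25574 = n25169 := d7_1 D25574 (iv D25169) D25167
theorem F50936 : act 2 n25574 = n25172 := d10_1 D25574 (iv D25172) (iv F49853)
theorem F50937 : act 3 n25574 = n25574 := d12_1 D25574 (iv D25574) D25573 F50934 (iv D25573)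
def n25575 : Q := act 5 n25169
theorem D25575 : act 5 n25169 = n25575 := rfl
theorem F50938 : act 2 n25575 = n25170 := d11_1 D25575 (iv D25170) (iv F49857)
theorem F50939 : act 3 n25575 = n25575 := d13_1 D25575 (iv D25575) F49858
def n25576 : Q := act 4 n25171
theorem D25576 : act 4 n25171 = n25576 := rfl
theorem F50940 : act 0 n25576 = n25172 := d3_1 D25576 (iv D25172) D25171
theorem F50941 : act 1 n25576 = n25553 := d7_1 D25576 F50886 F50756
theorem F50942 : act 3 n25576 = n25552 := d12_1 D25576 (iv D25552) F49804 (iv F50752) (iv F50754)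
def n25577 : Q := act 5 n25172
theorem D25577 : act 5 n25172 = n25577 := rfl
theorem F50943 : act 1 n25577 = n25173 := d8_1 D25577 (iv D25173) (iv F49861)
def n25578 : Q := act 4 n25174
theorem D25578 : act 4 n25174 = n25578 := rfl
theorem F50944 : act 0 n25578 = n25176 := d3_1 D25578 (iv D25176) (iv F49863)
theorem F50945 : act 3 n25578 = n25250 := d12_1 D25578 (iv D25250) (iv D24624) (iv F48100) D25174
theorem F50946 : act 5 n25578 = n25578 := d14_2 (iv F49864) D25578 (iv D25578) F49864 F49168
def n25579 : Q := act 1 n25175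
theorem D25579 : act 1 n25175 = n25579 := rfl
theorem F50947 : act 2 n25579 = n25296 := d5_2 D25175 D25579 (iv D25296) (iv D24733) (iv F48102)
theorem F50948 : act 5 n25579 = n25371 := d8_2 (iv F49865) D25579 (iv D25371)
def n25580 : Q := act 4 n25175
theorem D25580 : act 4 n25175 = n25580 := rfl
theorem F50949 : act 2 n25580 = n25176 := d10_1 D25580 (iv D25176) D25175
theorem F50950 : act 5 n25580 = n25580 := d14_2 (iv F49865) D25580 (iv D25580) F49865 F49169
def n25581 : Q := act 3 n25177
theorem D25581 : act 3 n25177 = n25581 := rfl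
theorem F50951 : act 0 n25581 = n25266 := d2_1 D25581 F50121 (iv F49869)
theorem F50952 : act 1 n25581 = n25178 := d6_1 D25581 (iv D25178) D25177
theorem F50953 : act 5 n25581 = n25264 := d13_2 F49872 D25581 F50119
def n25582 : Q := act 4 n25178
theorem D25582 : act 4 n25178 = n25582 := rfl
theorem F50954 : act 0 n25582 = n25485 := d3_1 D25582 (iv D25485) (iv F49873)
theorem F50955 : act 3 n25582 = n25182 := d12_1 D25582 (iv D25182) (iv D24492) (iv F48105) D25178
theorem F50956 : act 5 n25582 = n25335 := d14_2 (iv F50786) D25582 (iv D25335) (iv F50096) (iv F50784)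
def n25583 : Q := act 4 n25181
theorem D25583 : act 4 n25181 = n25583 := rfl
theorem F50957 : act 1 n25583 = n25182 := d7_1 D25583 (iv D25182) (iv F49881)
theorem F50958 : act 2 n25583 = n25387 := d10_1 D25583 (iv D25387) (iv F49883)
theorem F50959 : act 5 n25583 = n25391 := d14_2 (iv F49882) D25583 (iv D25391) (iv D24924) (iv F49241)
def n25584 : Q := act 5 n25182
theorem D25584 : act 5 n25182 = n25584 := rfl
theorem F50960 : act 0 n25584 = n25555 := d4_1 D25584 F50893 F50054
theorem F50961 : act 1 n25584 = n25391 := d8_1 D25584 (iv F50959) F50957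
theorem F50962 : act 2 n25584 = n25212 := d11_1 D25584 (iv F49991) F49989
theorem F50963 : act 3 n25584 = n25335 := d13_1 D25584 (iv F50956) F50955
theorem F50964 : act 4 n25584 = n25211 := d14_1 D25584 F49964 F49253 (iv F48310) D25182
def n25585 : Q := act 2 n25188
theorem D25585 : act 2 n25188 = n25585 := rfl
theorem F50965 : act 0 n25585 = n25189 := d1_1 D25585 (iv D25189) (iv F49899)
theorem F50966 : act 3 n25585 = n25197 := d9_2 D25188 D25585 (iv D25197) (iv D24514) (iv D23471) (iv D21918) (iv F41748) D23467 D24508 D25192 (iv F50838) (iv D25534) F49735 F47964 (iv F48138)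
theorem F50967 : act 5 n25585 = n25190 := d11_2 (iv F49901) D25585 (iv D25190)
def n25586 : Q := act 3 n25189
theorem D25586 : act 3 n25189 = n25586 := rfl
theorem F50968 : act 0 n25586 = n25197 := d2_1 D25586 (iv F50966) F50965
theorem F50969 : act 2 n25586 = n25196 := d9_1 D25586 (iv D25196) (iv D24513) (iv D23470) (iv F45539) D24507 D25190 (iv F50850) (iv D25538) (iv D25123) F47976 F45237 (iv F45530) D24506 D25189
theorem F50970 : act 5 n25586 = n25192 := d13_2 (iv F49902) D25586 (iv D25192)
def n25587 : Q := act 1 n25190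
theorem D25587 : act 1 n25190 = n25587 := rfl
theorem F50971 : act 2 n25587 = n25225 := d5_2 D25190 D25587 F49995 F48318 (iv F48144)
theorem F50972 : act 3 n25587 = n25370 := d6_2 F50850 D25587 (iv F50847)
theorem F50973 : act 4 n25587 = n25224 := d7_2 (iv F49904) D25587 (iv D25224)
def n25588 : Q := act 3 n25191
theorem D25588 : act 3 n25191 = n25588 := rfl
theorem F50974 : act 1 n25588 = n25192 := d6_1 D25588 (iv D25192) D25191
theorem F50975 : act 4 n25588 = n25588 := d7_0 F50974 F49909 (iv F50974)
def n25589 : Q := act 4 n25191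
theorem D25589 : act 4 n25191 = n25589 := rfl
theorem F50976 : act 1 n25589 = n25193 := d7_1 D25589 (iv D25193) D25191
theorem F50977 : act 2 n25589 = n25194 := d10_1 D25589 (iv D25194) (iv F49905)
theorem F50978 : act 3 n25589 = n25589 := d12_1 D25589 (iv D25589) D25588 F50975 (iv D25588)
def n25590 : Q := act 3 n25195
theorem D25590 : act 3 n25195 = n25590 := rfl
theorem F50979 : act 0 n25590 = n25296 := d2_1 D25590 F50216 (iv F49911)
theorem F50980 : act 1 n25590 = n25196 := d6_1 D25590 (iv D25196) D25195
theorem F50981 : act 5 n25590 = n25372 := d13_2 F50804 D25590 (iv F50802)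
def n25591 : Q := act 4 n25196
theorem D25591 : act 4 n25196 = n25591 := rfl
theorem F50982 : act 0 n25591 = n25198 := d3_1 D25591 (iv D25198) (iv F49914)
theorem F50983 : act 3 n25591 = n25297 := d12_1 D25591 (iv D25297) F48745 (iv F48152) D25196
theorem F50984 : act 5 n25591 = n25591 := d14_2 F50837 D25591 (iv D25591) (iv F50837) F50836
def n25592 : Q := act 4 n25197
theorem D25592 : act 4 n25197 = n25592 := rfl
theorem F50985 : act 2 n25592 = n25198 := d10_1 D25592 (iv D25198) D25197
theorem F50986 : act 5 n25592 = n25592 := d14_2 F50849 D25592 (iv D25592) (iv F50849) F50848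
def n25593 : Q := act 2 n25200
theorem D25593 : act 2 n25200 = n25593 := rfl
theorem F50987 : act 0 n25593 = n25201 := d1_1 D25593 (iv D25201) (iv F49921)
theorem F50988 : act 1 n25593 = n25205 := d5_1 D25593 (iv D25205) F48226 (iv F48183) (iv F49922)
theorem F50989 : act 3 n25593 = n25301 := d9_2 D25200 D25593 (iv F50649) F50650 F50241 (iv D25303) F48793 F48171 (iv F48579) (iv F49897) (iv F50476) F50477 F49982 F48291 (iv F48174)
theorem F50990 : act 4 n25593 = n25206 := d10_2 F50257 D25593 (iv F50256)
theorem F50991 : act 5 n25593 = n25207 := d11_2 (iv F49923) D25593 F49949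
def n25594 : Q := act 3 n25208
theorem D25594 : act 3 n25208 = n25594 := rfl
theorem F50992 : act 0 n25594 = n25353 := d2_1 D25594 F50371 (iv F49952)
theorem F50993 : act 1 n25594 = n25356 := d6_1 D25594 F50379 (iv F49953)
theorem F50994 : act 5 n25594 = n25351 := d13_2 (iv F49954) D25594 (iv D25351)
def n25595 : Q := act 1 n25215
theorem D25595 : act 1 n25215 = n25595 := rfl
theorem F50995 : act 0 n25595 = n25339 := d0_1 D25595 F50335 F48990 (iv F48283) (iv F49970)
theorem F50996 : act 2 n25595 = n25338 := d5_2 D25215 D25595 F50333 F49003 F48617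
theorem F50997 : act 3 n25595 = n25548 := d6_2 F50278 D25595 F50872
theorem F50998 : act 5 n25595 = n25341 := d8_2 (iv F49971) D25595 F50339
def n25596 : Q := act 4 n25215
theorem D25596 : act 4 n25215 = n25596 := rfl
theorem F50999 : act 0 n25596 = n25218 := d3_1 D25596 (iv D25218) (iv F49970)
theorem F51000 : act 2 n25596 = n25216 := d10_1 D25596 (iv D25216) D25215
theorem F51001 : act 5 n25596 = n25409 := d14_2 (iv F49971) D25596 F50528 (iv F50412) F50411
def n25597 : Q := act 4 n25217
theorem D25597 : act 4 n25217 = n25597 := rfl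
theorem F51002 : act 1 n25597 = n25540 := d7_1 D25597 F50857 (iv F49976)
def n25598 : Q := act 3 n25218
theorem D25598 : act 3 n25218 = n25598 := rfl
theorem F51003 : act 1 n25598 = n25481 := d6_1 D25598 (iv D25481) (iv F49978)
theorem F51004 : act 5 n25598 = n25413 := d13_2 (iv F49980) D25598 (iv D25413)
theorem F51005 : act 2 n25598 = n25465 := d15_2 (iv F49979) D25598 (iv D25465) (iv D25025) (iv D24316) (iv F47401) D24951 (iv F49975) F49972
def n25599 : Q := act 4 n25220
theorem D25599 : act 4 n25220 = n25599 := rfl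
theorem F51006 : act 0 n25599 = n25549 := d3_1 D25599 (iv D25549) (iv F49983)
theorem F51007 : act 2 n25599 = n25221 := d10_1 D25599 (iv D25221) D25220
theorem F51008 : act 3 n25599 = n25403 := d12_1 D25599 F50516 (iv F50410) F50411 (iv F49984)
def n25600 : Q := act 1 n25226
theorem D25600 : act 1 n25226 = n25600 := rfl
theorem F51009 : act 0 n25600 = n25589 := d0_1 D25600 F50976 F49906 D25224 (iv F49997)
theorem F51010 : act 2 n25600 = n25533 := d5_2 D25226 D25600 F50831 F49724 (iv F48321)
theorem F51011 : act 3 n25600 = n25600 := d6_2 F49998 D25600 (iv D25600)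
theorem F51012 : act 5 n25600 = n25589 := d8_2 (iv F49999) D25600 F50976
theorem F51013 : act 4 n25532 = n25600 := d10_0 F51010 (iv D25533) D25532
def n25601 : Q := act 4 n25226
theorem D25601 : act 4 n25226 = n25601 := rfl
theorem F51014 : act 0 n25601 = n25587 := d3_1 D25601 F50973 (iv F49997)
theorem F51015 : act 1 n25601 = n25532 := d7_1 D25601 F51013 (iv D25600)
theorem F51016 : act 2 n25601 = n25227 := d10_1 D25601 (iv D25227) D25226
theorem F51017 : act 5 n25601 = n25237 := d14_2 (iv F49999) D25601 F50037 F49902 D25193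
def n25602 : Q := act 3 n25232
theorem D25602 : act 3 n25232 = n25602 := rfl
theorem F51018 : act 0 n25602 = n25234 := d2_1 D25602 (iv D25234) (iv F50024)
theorem F51019 : act 1 n25602 = n25578 := d6_1 D25602 F50945 F50073
theorem F51020 : act 4 n25602 = n25233 := d12_2 D25232 D25602 (iv D25233) (iv D24592) (iv F48361)
theorem F51021 : act 5 n25602 = n25602 := d13_2 F50026 D25602 (iv D25602)
def n25603 : Q := act 2 n25233
theorem D25603 : act 2 n25233 = n25603 := rfl
theorem F51022 : act 0 n25603 = n25235 := d1_1 D25603 (iv D25235) (iv F50027)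
theorem F51023 : act 3 n25603 = n25237 := d9_2 D25233 D25603 (iv D25237) (iv D24599) F45992 (iv F45967) (iv F47075) D24884 D25370 (iv F50972) F50971 F49996 F48346 F48254 (iv F48370)
def n25604 : Q := act 2 n25234
theorem D25604 : act 2 n25234 = n25604 := rfl
theorem F51024 : act 1 n25604 = n25592 := d5_1 D25604 F50985 F49915 (iv F49728) (iv F50029)
theorem F51025 : act 4 n25604 = n25235 := d10_2 (iv F50030) D25604 (iv D25235)
theorem F51026 : act 5 n25604 = n25604 := d11_2 F50031 D25604 (iv D25604)
theorem F51027 : act 3 n25604 = n25592 := d15_1 D25604 F50985 F49916 (iv F49728) F49729 (iv F50025) D25602 F51021 F51018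
def n25605 : Q := act 3 n25235
theorem D25605 : act 3 n25235 = n25605 := rfl
theorem F51028 : act 0 n25605 = n25237 := d2_1 D25605 (iv F51023) F51022
theorem F51029 : act 1 n25605 = n25585 := d6_1 D25605 F50966 (iv F50032)
theorem F51030 : act 4 n25605 = n25585 := d12_2 F51025 D25605 F50966 D25592 (iv F51027)
theorem F51031 : act 5 n25605 = n25587 := d13_2 F50421 D25605 F50972
theorem F51032 : act 2 n25605 = n25236 := d15_2 D25235 D25605 (iv D25236) F48383 (iv F47694) (iv F49161) D25369 F50419 F50027
def n25606 : Q := act 1 n25237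
theorem D25606 : act 1 n25237 = n25606 := rfl
theorem F51033 : act 0 n25606 = n25537 := d0_1 D25606 F50844 (iv F50965) (iv F51029) F51028
theorem F51034 : act 2 n25606 = n25238 := d5_2 D25237 D25606 (iv D25238) (iv D24604) (iv F48385)
theorem F51035 : act 4 n25606 = n25537 := d7_2 (iv F50037) D25606 F50844
theorem F51036 : act 5 n25606 = n25532 := d8_2 F51017 D25606 (iv F51015)
def n25607 : Q := act 2 n25244
theorem D25607 : act 2 n25244 = n25607 := rfl
theorem F51037 : act 3 n25607 = n25550 := d9_2 D25244 D25607 F50878 (iv D25279) (iv D24670) (iv D23748) (iv F46241) D24668 D25277 (iv F50348) F50347 (iv D25022) F47686 (iv F47527) (iv F48442)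
theorem F51038 : act 5 n25607 = n25245 := d11_2 (iv F50060) D25607 (iv D25245)
def n25608 : Q := act 5 n25247
theorem D25608 : act 5 n25247 = n25608 := rfl
theorem F51039 : act 1 n25608 = n25607 := d8_1 D25608 F51038 (iv F50067)
theorem F51040 : act 2 n25608 = n25248 := d11_1 D25608 (iv D25248) D25247
def n25609 : Q := act 4 n25248
theorem D25609 : act 4 n25248 = n25609 := rfl
theorem F51041 : act 1 n25609 = n25249 := d7_1 D25609 (iv D25249) (iv F50069)
def n25610 : Q := act 4 n25252
theorem D25610 : act 4 n25252 = n25610 := rfl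
theorem F51042 : act 0 n25610 = n25407 := d3_1 D25610 (iv D25407) (iv F50078)
theorem F51043 : act 1 n25610 = n25253 := d7_1 D25610 (iv D25253) (iv F50079)
theorem F51044 : act 2 n25610 = n25414 := d10_1 D25610 (iv D25414) (iv F50080)
theorem F51045 : act 3 n25610 = n25435 := d12_1 D25610 (iv D25435) F49428 (iv F49307) (iv F50081)
theorem F51046 : act 5 n25610 = n25609 := d14_2 D25252 D25610 (iv D25609) (iv D25248) (iv F48458)
def n25611 : Q := act 3 n25253
theorem D25611 : act 3 n25253 = n25611 := rfl
theorem F51047 : act 0 n25611 = n25566 := d2_1 D25611 F50922 (iv F50082)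
theorem F51048 : act 1 n25611 = n25435 := d6_1 D25611 (iv F51045) F51043
theorem F51049 : act 4 n25611 = n25276 := d12_2 D25253 D25611 F50158 F48558 (iv F48462)
theorem F51050 : act 5 n25611 = n25563 := d13_2 (iv F50084) D25611 F50916
def n25612 : Q := act 2 n25254
theorem D25612 : act 2 n25254 = n25612 := rfl
def n25613 : Q := act 4 n25254
theorem D25613 : act 4 n25254 = n25613 := rfl
theorem F51051 : act 1 n25613 = n25335 := d7_1 D25613 (iv D25335) (iv F50085)
theorem F51052 : act 3 n25613 = n25391 := d12_1 D25613 (iv D25391) F49261 F48572 D25254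
def n25614 : Q := act 5 n25254
theorem D25614 : act 5 n25254 = n25614 := rfl
theorem F51053 : act 0 n25614 = n25260 := d4_1 D25614 F50579 F50577
theorem F51054 : act 1 n25614 = n25257 := d8_1 D25614 F50096 (iv F50085)
theorem F51055 : act 3 n25614 = n25255 := d13_1 D25614 (iv D25255) D25254
theorem F51056 : act 4 n25264 = n25614 := d12_0 F51055 (iv F50088) (iv F50406) F50407 (iv F50119)
def n25615 : Q := act 4 n25262
theorem D25615 : act 4 n25262 = n25615 := rfl
theorem F51057 : act 0 n25615 = n25272 := d3_1 D25615 (iv D25272) (iv F50108)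
theorem F51058 : act 2 n25615 = n25263 := d10_1 D25615 (iv D25263) (iv F50109)
theorem F51059 : act 5 n25615 = n25267 := d14_2 D25262 D25615 (iv D25267) (iv D24646) (iv F48499)
def n25616 : Q := act 4 n25266
theorem D25616 : act 4 n25266 = n25616 := rfl
theorem F51060 : act 1 n25616 = n25267 := d7_1 D25616 (iv D25267) (iv F50120)
def n25617 : Q := act 3 n25267
theorem D25617 : act 3 n25267 = n25617 := rfl
theorem F51061 : act 0 n25617 = n25484 := d2_1 D25617 F50700 (iv F50122)
theorem F51062 : act 4 n25617 = n25482 := d12_2 D25267 D25617 (iv D25482) F49581 (iv F48507)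
def n25618 : Q := act 3 n25272
theorem D25618 : act 3 n25272 = n25618 := rfl
theorem F51063 : act 1 n25618 = n25555 := d6_1 D25618 F50892 F50814
theorem F51064 : act 4 n25618 = n25483 := d12_2 D25272 D25618 F50697 (iv F50142) F50141
theorem F51065 : act 5 n25618 = n25484 := d13_2 (iv F50145) D25618 F50700
theorem F51066 : act 2 n25618 = n25484 := d15_2 (iv F50144) D25618 F50700 (iv F50102) (iv F50715) F50714 F50057 (iv F50114) F50111
def n25619 : Q := act 1 n25275
theorem D25619 : act 1 n25275 = n25619 := rfl
theorem F51067 : act 2 n25619 = n25433 := d5_2 D25275 D25619 (iv D25433) (iv D24982) (iv F48553)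
theorem F51068 : act 3 n25619 = n25619 := d6_2 F50155 D25619 (iv D25619)
theorem F51069 : act 4 n25619 = n25571 := d7_2 (iv F50154) D25619 (iv D25571)
def n25620 : Q := act 5 n25275
theorem D25620 : act 5 n25275 = n25620 := rfl
theorem F51070 : act 0 n25620 = n25575 := d4_1 D25620 (iv D25575) (iv F50153)
theorem F51071 : act 2 n25620 = n25276 := d11_1 D25620 (iv D25276) D25275
theorem F51072 : act 3 n25620 = n25620 := d13_1 D25620 (iv D25620) F50155
def n25621 : Q := act 1 n25277
theorem D25621 : act 1 n25277 = n25621 := rfl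
theorem F51073 : act 2 n25621 = n25405 := d5_2 D25277 D25621 (iv D25405) (iv D24946) (iv F48560)
theorem F51074 : act 4 n25621 = n25559 := d7_2 (iv F50160) D25621 F50906
def n25622 : Q := act 5 n25277
theorem D25622 : act 5 n25277 = n25622 := rfl
theorem F51075 : act 0 n25622 = n25607 := d4_1 D25622 F51038 (iv F50159)
theorem F51076 : act 2 n25622 = n25278 := d11_1 D25622 (iv D25278) D25277
def n25623 : Q := act 4 n25278
theorem D25623 : act 4 n25278 = n25623 := rfl
theorem F51077 : act 0 n25623 = n25561 := d3_1 D25623 F50911 (iv F50161)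
theorem F51078 : act 1 n25623 = n25407 := d7_1 D25623 (iv D25407) (iv F50162)
theorem F51079 : act 3 n25623 = n25401 := d12_1 D25623 (iv D25401) F49295 (iv F48565) (iv F50163)
theorem F51080 : act 5 n25623 = n25531 := d14_2 D25278 D25623 F50828 F49822 (iv F48561)
def n25624 : Q := act 5 n25284
theorem D25624 : act 5 n25284 = n25624 := rfl
theorem F51081 : act 0 n25624 = n25365 := d4_1 D25624 F50403 (iv F50179)
theorem F51082 : act 1 n25624 = n25285 := d8_1 D25624 (iv D25285) (iv F50180)
theorem F51083 : act 2 n25624 = n25375 := d11_1 D25624 F50434 (iv F50181)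
theorem F51084 : act 3 n25624 = n25365 := d13_1 D25624 F50403 (iv F50182)
theorem F51085 : act 4 n25624 = n25286 := d14_1 D25624 (iv D25286) (iv D24708) (iv F48666) D25284
def n25625 : Q := act 3 n25293
theorem D25625 : act 3 n25293 = n25625 := rfl
theorem F51086 : act 1 n25625 = n25294 := d6_1 D25625 (iv D25294) (iv F50209)
def n25626 : Q := act 4 n25296
theorem D25626 : act 4 n25296 = n25626 := rfl
theorem F51087 : act 1 n25626 = n25297 := d7_1 D25626 (iv D25297) D25296
theorem F51088 : act 5 n25626 = n25626 := d14_2 (iv F50217) D25626 (iv D25626) F50217 F49170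
def n25627 : Q := act 4 n25304
theorem D25627 : act 4 n25304 = n25627 := rfl
theorem F51089 : act 0 n25627 = n25319 := d3_1 D25627 F50289 (iv F50242)
theorem F51090 : act 2 n25627 = n25361 := d10_1 D25627 F50390 (iv F50243)
theorem F51091 : act 3 n25627 = n25305 := d12_1 D25627 (iv D25305) (iv D24756) (iv F48810) D25304
theorem F51092 : act 5 n25627 = n25327 := d14_2 (iv F50244) D25627 (iv D25327) F48922 D24856
def n25628 : Q := act 2 n25307
theorem D25628 : act 2 n25307 = n25628 := rfl
theorem F51093 : act 5 n25628 = n25599 := d11_2 (iv F50259) D25628 F51007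
def n25629 : Q := act 4 n25307
theorem D25629 : act 4 n25307 = n25629 := rfl
theorem F51094 : act 1 n25629 = n25310 := d7_1 D25629 (iv D25310) (iv F50253)
theorem F51095 : act 3 n25629 = n25312 := d12_1 D25629 (iv D25312) (iv D24771) (iv F48867) D25307
theorem F51096 : act 5 n25629 = n25315 := d14_2 (iv F50259) D25629 (iv D25315) F48893 D25221
def n25630 : Q := act 1 n25309
theorem D25630 : act 1 n25309 = n25630 := rfl
theorem F51097 : act 3 n25630 = n25331 := d6_2 (iv F50261) D25630 (iv D25331)
theorem F51098 : act 5 n25630 = n25326 := d8_2 F50262 D25630 F50305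
def n25631 : Q := act 4 n25309
theorem D25631 : act 4 n25309 = n25631 := rfl
theorem F51099 : act 0 n25631 = n25320 := d3_1 D25631 F50291 (iv F50260)
theorem F51100 : act 2 n25631 = n25310 := d10_1 D25631 (iv D25310) D25309
theorem F51101 : act 3 n25631 = n25334 := d12_1 D25631 F50327 F49041 (iv F48937) (iv F50261)
theorem F51102 : act 5 n25631 = n25317 := d14_2 F50262 D25631 (iv D25317) F48896 D24788
def n25632 : Q := act 4 n25313
theorem D25632 : act 4 n25313 = n25632 := rfl
theorem F51103 : act 0 n25632 = n25315 := d3_1 D25632 (iv D25315) (iv F50273)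
theorem F51104 : act 1 n25632 = n25327 := d7_1 D25632 (iv D25327) (iv F50274)
theorem F51105 : act 2 n25632 = n25597 := d10_1 D25632 (iv D25597) (iv F50275)
theorem F51106 : act 3 n25632 = n25318 := d12_1 D25632 (iv D25318) (iv D24780) (iv F48890) D25313
def n25633 : Q := act 4 n25314
theorem D25633 : act 4 n25314 = n25633 := rfl
theorem F51107 : act 0 n25633 = n25597 := d3_1 D25633 (iv D25597) (iv F50277)
theorem F51108 : act 2 n25633 = n25315 := d10_1 D25633 (iv D25315) D25314
def n25634 : Q := act 4 n25316
theorem D25634 : act 4 n25316 = n25634 := rfl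
theorem F51109 : act 1 n25634 = n25317 := d7_1 D25634 (iv D25317) D25316
def n25635 : Q := act 3 n25317
theorem D25635 : act 3 n25317 = n25635 := rfl
theorem F51110 : act 0 n25635 = n25330 := d2_1 D25635 (iv D25330) (iv F50284)
theorem F51111 : act 2 n25635 = n25322 := d9_1 D25635 (iv D25322) (iv D24784) (iv D23938) (iv F46723) D24783 D25320 F50293 F49054 F46911 (iv F46498) F46499 (iv F46710) (iv F48898) (iv F50285)
theorem F51112 : act 4 n25635 = n25322 := d12_2 D25317 D25635 (iv D25322) F48908 (iv F48895)
theorem F51113 : act 5 n25635 = n25334 := d13_2 F51102 D25635 (iv F51101)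
def n25636 : Q := act 2 n25319
theorem D25636 : act 2 n25319 = n25636 := rfl
theorem F51114 : act 0 n25636 = n25361 := d1_1 D25636 (iv F51090) F51089
theorem F51115 : act 1 n25636 = n25496 := d5_1 D25636 F50738 F50645 (iv D25320) (iv F50288)
theorem F51116 : act 3 n25636 = n25495 := d9_2 D25319 D25636 (iv F50853) F50854 (iv F51090) F51091 F50246 (iv F50309) F50308 (iv F49754) F49753 (iv F50313) F50312 F48927 (iv F48904)
theorem F51117 : act 4 n25636 = n25363 := d10_2 (iv F50289) D25636 F50395
theorem F51118 : act 5 n25636 = n25328 := d11_2 (iv F50290) D25636 F50312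
def n25637 : Q := act 0 n25321
theorem D25637 : act 0 n25321 = n25637 := rfl
theorem F51119 : act 1 n25637 = n25360 := d0_2 D25321 D25637 F50387 F49058 (iv F48907)
theorem F51120 : act 2 n25637 = n25332 := d1_2 (iv F50294) D25637 F50322
theorem F51121 : act 4 n25637 = n25323 := d3_2 (iv F50295) D25637 (iv D25323)
theorem F51122 : act 5 n25637 = n25332 := d4_2 (iv F50296) D25637 F50322
def n25638 : Q := act 3 n25321
theorem D25638 : act 3 n25321 = n25638 := rfl
theorem F51123 : act 1 n25638 = n25322 := d6_1 D25638 (iv D25322) D25321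
theorem F51124 : act 5 n25638 = n25333 := d13_2 (iv F50296) D25638 (iv D25333)
def n25639 : Q := act 4 n25325
theorem D25639 : act 4 n25325 = n25639 := rfl
theorem F51125 : act 1 n25639 = n25599 := d7_1 D25639 (iv D25599) (iv F50304)
theorem F51126 : act 2 n25639 = n25326 := d10_1 D25639 (iv D25326) D25325
def n25640 : Q := act 3 n25329
theorem D25640 : act 3 n25329 = n25640 := rfl
theorem F51127 : act 1 n25640 = n25330 := d6_1 D25640 (iv D25330) (iv F50314)
theorem F51128 : act 4 n25640 = n25358 := d12_2 D25329 D25640 F50384 F49060 (iv F48928)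
theorem F51129 : act 5 n25640 = n25359 := d13_2 F50647 D25640 (iv F50646)
theorem F51130 : act 2 n25640 = n25523 := d15_2 (iv F50315) D25640 F50810 (iv F50719) F50720 F49614 D25438 F50598 F49773
def n25641 : Q := act 3 n25332
theorem D25641 : act 3 n25332 = n25641 := rfl
theorem F51131 : act 0 n25641 = n25333 := d2_1 D25641 (iv D25333) (iv F50322)
theorem F51132 : act 1 n25641 = n25355 := d6_1 D25641 F50376 (iv F50323)
theorem F51133 : act 4 n25641 = n25351 := d12_2 D25332 D25641 (iv D25351) F49036 (iv F48945)
def n25642 : Q := act 2 n25333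
theorem D25642 : act 2 n25333 = n25642 := rfl
theorem F51134 : act 4 n25642 = n25352 := d10_2 (iv F50325) D25642 (iv D25352)
def n25643 : Q := act 1 n25334
theorem D25643 : act 1 n25334 = n25643 := rfl
theorem F51135 : act 4 n25643 = n25353 := d7_2 (iv F50327) D25643 F50370
def n25644 : Q := act 4 n25338
theorem D25644 : act 4 n25338 = n25644 := rfl
theorem F51136 : act 0 n25644 = n25340 := d3_1 D25644 (iv D25340) (iv F50332)
theorem F51137 : act 1 n25644 = n25345 := d7_1 D25644 (iv D25345) (iv F50333)
theorem F51138 : act 3 n25644 = n25471 := d12_1 D25644 F50669 F50202 (iv F48980) D25338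
theorem F51139 : act 5 n25644 = n25426 := d14_2 (iv F50334) D25644 F50567 F50331 F50200
def n25645 : Q := act 4 n25339
theorem D25645 : act 4 n25339 = n25645 := rfl
theorem F51140 : act 1 n25645 = n25344 := d7_1 D25645 (iv D25344) (iv F50335)
theorem F51141 : act 2 n25645 = n25340 := d10_1 D25645 (iv D25340) D25339
def n25646 : Q := act 4 n25342
theorem D25646 : act 4 n25342 = n25646 := rfl
theorem F51142 : act 0 n25646 = n25639 := d3_1 D25646 (iv D25639) (iv F50342)
theorem F51143 : act 1 n25646 = n25343 := d7_1 D25646 (iv D25343) (iv F50343)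
theorem F51144 : act 2 n25646 = n25463 := d10_1 D25646 F50655 (iv F50345)
theorem F51145 : act 3 n25646 = n25621 := d12_1 D25646 F51074 (iv D25559) F49826 D25342
def n25647 : Q := act 5 n25343
theorem D25647 : act 5 n25343 = n25647 := rfl
theorem F51146 : act 0 n25647 = n25550 := d4_1 D25647 (iv D25550) (iv F50346)
theorem F51147 : act 2 n25647 = n25437 := d11_1 D25647 F50595 (iv F50347)
theorem F51148 : act 3 n25647 = n25622 := d13_1 D25647 (iv D25622) (iv F50348)
theorem F51149 : act 4 n25647 = n25547 := d14_1 D25647 (iv D25547) F49782 F48989 D25343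
def n25648 : Q := act 3 n25344
theorem D25648 : act 3 n25344 = n25648 := rfl
theorem F51150 : act 0 n25648 = n25481 := d2_1 D25648 (iv D25481) (iv F50349)
theorem F51151 : act 4 n25648 = n25546 := d12_2 D25344 D25648 (iv D25546) F49782 (iv F48992)
def n25649 : Q := act 4 n25346
theorem D25649 : act 4 n25346 = n25649 := rfl
theorem F51152 : act 1 n25649 = n25347 := d7_1 D25649 (iv D25347) D25346
theorem F51153 : act 2 n25649 = n25536 := d10_1 D25649 (iv D25536) (iv F50355)
theorem F51154 : act 5 n25416 = n25649 := d8_0 F51152 (iv F50358) D25416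
def n25650 : Q := act 4 n25350
theorem D25650 : act 4 n25350 = n25650 := rfl
theorem F51155 : act 0 n25650 = n25618 := d3_1 D25650 F51064 F50695
theorem F51156 : act 1 n25650 = n25432 := d7_1 D25650 (iv D25432) (iv F50366)
theorem F51157 : act 2 n25650 = n25617 := d10_1 D25650 F51062 F50693
theorem F51158 : act 3 n25650 = n25615 := d12_1 D25650 (iv D25615) F50110 (iv F49020) D25350
theorem F51159 : act 5 n25650 = n25617 := d14_2 F50472 D25650 F51062 F50694 F50547
def n25651 : Q := act 2 n25351
theorem D25651 : act 2 n25351 = n25651 := rfl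
theorem F51160 : act 0 n25651 = n25352 := d1_1 D25651 (iv D25352) (iv F50367)
theorem F51161 : act 3 n25651 = n25651 := d15_1 D25651 (iv D25651) (iv D25351) F49035 (iv F48260) (iv F49039) (iv F50371) (iv D25353) (iv F50367)
def n25652 : Q := act 1 n25352
theorem D25652 : act 1 n25352 = n25652 := rfl
theorem F51162 : act 2 n25652 = n25353 := d5_2 D25352 D25652 F50370 (iv D24841) (iv F49037)
theorem F51163 : act 3 n25652 = n25652 := d6_2 F50369 D25652 (iv D25652)
theorem F51164 : act 5 n25652 = n25352 := d15_8 (iv D25651) (iv D25351) F49035 (iv F48260) (iv F49039) (iv F50371) (iv F51162) F51163 (iv F51160)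
def n25653 : Q := act 1 n25354
theorem D25653 : act 1 n25354 = n25653 := rfl
theorem F51165 : act 0 n25653 = n25522 := d0_1 D25653 F50809 F49688 F49047 (iv F50372)
theorem F51166 : act 3 n25653 = n25521 := d6_2 (iv F50373) D25653 F50805
theorem F51167 : act 5 n25653 = n25522 := d8_2 F50374 D25653 F50809
def n25654 : Q := act 4 n25354
theorem D25654 : act 4 n25354 = n25654 := rfl
theorem F51168 : act 0 n25654 = n25357 := d3_1 D25654 (iv D25357) (iv F50372)
theorem F51169 : act 2 n25654 = n25355 := d10_1 D25654 (iv D25355) D25354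
theorem F51170 : act 3 n25654 = n25524 := d12_1 D25654 (iv D25524) (iv D25099) (iv F49691) (iv F50373)
def n25655 : Q := act 5 n25355
theorem D25655 : act 5 n25355 = n25655 := rfl
theorem F51171 : act 0 n25655 = n25358 := d4_1 D25655 (iv D25358) (iv F50375)
theorem F51172 : act 3 n25655 = n25360 := d13_1 D25655 (iv D25360) (iv F50376)
def n25656 : Q := act 4 n25356
theorem D25656 : act 4 n25356 = n25656 := rfl
theorem F51173 : act 0 n25656 = n25359 := d3_1 D25656 (iv D25359) (iv F50377)
theorem F51174 : act 2 n25656 = n25498 := d10_1 D25656 F50743 (iv F50378)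
def n25657 : Q := act 5 n25357
theorem D25657 : act 5 n25357 = n25657 := rfl
theorem F51175 : act 1 n25657 = n25523 := d8_1 D25657 (iv D25523) (iv F50380)
theorem F51176 : act 2 n25657 = n25358 := d11_1 D25657 (iv D25358) (iv F50381)
theorem F51177 : act 3 n25657 = n25526 := d13_1 D25657 (iv D25526) (iv F50382)
theorem F51178 : act 4 n25657 = n25523 := d14_1 D25657 (iv D25523) (iv D25098) F49048 D25357
def n25658 : Q := act 3 n25368
theorem D25658 : act 3 n25368 = n25658 := rfl
theorem F51179 : act 1 n25658 = n25413 := d6_1 D25658 (iv D25413) (iv F50413)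
theorem F51180 : act 5 n25658 = n25481 := d13_2 (iv F50415) D25658 (iv D25481)
def n25659 : Q := act 2 n25369
theorem D25659 : act 2 n25369 = n25659 := rfl
theorem F51181 : act 0 n25659 = n25370 := d1_1 D25659 (iv D25370) (iv F50416)
theorem F51182 : act 3 n25659 = n25601 := d9_2 D25369 D25659 F51016 F50002 F48353 (iv D23633) (iv F45965) D24594 D25235 D25605 F51032 (iv D25236) F48383 (iv F47694) (iv F49161)
theorem F51183 : act 4 n25659 = n25659 := d10_2 F50418 D25659 (iv D25659)
theorem F51184 : act 5 n25659 = n25603 := d11_2 (iv F50419) D25659 (iv D25603)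
def n25660 : Q := act 0 n25371
theorem D25660 : act 0 n25371 = n25660 := rfl
theorem F51185 : act 2 n25660 = n25372 := d1_2 (iv F50422) D25660 (iv D25372)
theorem F51186 : act 4 n25660 = n25660 := d3_2 F50423 D25660 (iv D25660)
def n25661 : Q := act 0 n25377
theorem D25661 : act 0 n25377 = n25661 := rfl
theorem F51187 : act 2 n25661 = n25378 := d1_2 (iv F50437) D25661 (iv D25378)
theorem F51188 : act 5 n25661 = n25386 := d4_2 (iv F50438) D25661 F50467
def n25662 : Q := act 3 n25379
theorem D25662 : act 3 n25379 = n25662 := rfl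
theorem F51189 : act 0 n25662 = n25444 := d2_1 D25662 F50611 (iv F50441)
theorem F51190 : act 1 n25662 = n25380 := d6_1 D25662 (iv D25380) D25379
theorem F51191 : act 4 n25662 = n25625 := d12_2 (iv F50443) D25662 (iv D25625) (iv D25293) (iv F49432)
theorem F51192 : act 5 n25662 = n25382 := d13_2 (iv F50444) D25662 F50453
def n25663 : Q := act 1 n25381
theorem D25663 : act 1 n25381 = n25663 := rfl
theorem F51193 : act 3 n25663 = n25454 := d6_2 (iv F50450) D25663 (iv D25454)
theorem F51194 : act 5 n25663 = n25480 := d8_2 (iv F50451) D25663 (iv D25480)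
def n25664 : Q := act 4 n25384
theorem D25664 : act 4 n25384 = n25664 := rfl
theorem F51195 : act 0 n25664 = n25453 := d3_1 D25664 (iv D25453) (iv F50459)
theorem F51196 : act 1 n25664 = n25385 := d7_1 D25664 (iv D25385) (iv F50460)
theorem F51197 : act 2 n25664 = n25468 := d10_1 D25664 (iv D25468) (iv F50461)
theorem F51198 : act 3 n25664 = n25436 := d12_1 D25664 (iv D25436) F49435 (iv F49270) (iv F50462)
theorem F51199 : act 5 n25664 = n25625 := d14_2 D25384 D25664 (iv F51191) F51192 F50454
def n25665 : Q := act 1 n25386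
theorem D25665 : act 1 n25386 = n25665 := rfl
def n25666 : Q := act 1 n25392
theorem D25666 : act 1 n25392 = n25666 := rfl
theorem F51200 : act 0 n25666 = n25416 := d0_1 D25666 (iv D25416) F49366 (iv F50362) (iv F50480)
theorem F51201 : act 3 n25666 = n25649 := d6_2 (iv F50481) D25666 F51152
theorem F51202 : act 4 n25666 = n25416 := d7_2 (iv F50482) D25666 (iv D25416)
def n25667 : Q := act 2 n25393
theorem D25667 : act 2 n25393 = n25667 := rfl
theorem F51203 : act 0 n25667 = n25394 := d1_1 D25667 (iv D25394) (iv F50483)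
theorem F51204 : act 4 n25667 = n25402 := d10_2 (iv F50485) D25667 (iv D25402)
theorem F51205 : act 5 n25667 = n25448 := d11_2 (iv F50486) D25667 F50618
theorem F51206 : act 3 n25667 = n25510 := d15_1 D25667 F50887 (iv D25553) F49807 F48033 (iv F48067) (iv F48069) (iv F49276) (iv F50483)
def n25668 : Q := act 3 n25394
theorem D25668 : act 3 n25394 = n25668 := rfl
theorem F51207 : act 0 n25668 = n25510 := d2_1 D25668 (iv F51206) F51203
theorem F51208 : act 1 n25668 = n25397 := d6_1 D25668 F50497 (iv F50487)
theorem F51209 : act 4 n25668 = n25503 := d12_2 (iv F50488) D25668 F50761 F49663 D25162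
theorem F51210 : act 5 n25668 = n25449 := d13_2 (iv F50489) D25668 (iv D25449)
theorem F51211 : act 2 n25668 = n25399 := d15_2 D25394 D25668 F50503 (iv F49791) F49792 (iv F49556) (iv F49558) (iv F50486) F50483
def n25669 : Q := act 1 n25395
theorem D25669 : act 1 n25395 = n25669 := rfl
theorem F51212 : act 4 n25669 = n25476 := d7_2 (iv F50491) D25669 F50678
def n25670 : Q := act 1 n25396
theorem D25670 : act 1 n25396 = n25670 := rfl
theorem F51213 : act 2 n25670 = n25416 := d5_2 D25396 D25670 (iv D25416) (iv D24963) (iv F49283)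
theorem F51214 : act 3 n25670 = n25577 := d6_2 (iv F50493) D25670 F50943
theorem F51215 : act 5 n25670 = n25536 := d8_2 (iv F50494) D25670 F50842
def n25671 : Q := act 4 n25398
theorem D25671 : act 4 n25398 = n25671 := rfl
theorem F51216 : act 0 n25671 = n25435 := d3_1 D25671 (iv D25435) (iv F50499)
theorem F51217 : act 1 n25671 = n25401 := d7_1 D25671 (iv D25401) (iv F50500)
theorem F51218 : act 2 n25671 = n25450 := d10_1 D25671 (iv D25450) (iv F50501)
theorem F51219 : act 3 n25671 = n25407 := d12_1 D25671 (iv D25407) F49315 (iv F49290) (iv F50502)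
theorem F51220 : act 5 n25671 = n25530 := d14_2 D25398 D25671 (iv D25530) F49714 (iv F49286)
def n25672 : Q := act 5 n25399
theorem D25672 : act 5 n25399 = n25672 := rfl
theorem F51221 : act 1 n25672 = n25400 := d8_1 D25672 (iv D25400) D25399
theorem F51222 : act 2 n25672 = n25449 := d11_1 D25672 (iv F51210) F51211
theorem F51223 : act 3 n25672 = n25535 := d13_1 D25672 (iv D25535) (iv F50503)
theorem F51224 : act 4 n25672 = n25519 := d14_1 D25672 (iv D25519) (iv D25092) (iv F49644) (iv F50504)
def n25673 : Q := act 1 n25402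
theorem D25673 : act 1 n25402 = n25673 := rfl
theorem F51225 : act 0 n25673 = n25665 := d0_1 D25673 (iv D25665) F50467 F49842 (iv F50512)
theorem F51226 : act 2 n25673 = n25669 := d5_2 D25402 D25673 (iv D25669) (iv D25395) (iv F49302)
theorem F51227 : act 3 n25673 = n25506 := d6_2 (iv F50513) D25673 (iv D25506)
theorem F51228 : act 5 n25673 = n25570 := d8_2 (iv F50514) D25673 (iv D25570)
def n25674 : Q := act 1 n25403
theorem D25674 : act 1 n25403 = n25674 := rfl
theorem F51229 : act 0 n25674 = n25621 := d0_1 D25674 (iv D25621) F50159 (iv F50067) (iv F50515)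
theorem F51230 : act 2 n25674 = n25559 := d5_2 D25403 D25674 F50906 F49828 (iv F49309)
theorem F51231 : act 3 n25674 = n25639 := d6_2 F51008 D25674 F51125
theorem F51232 : act 4 n25674 = n25405 := d7_2 (iv F50516) D25674 (iv D25405)
def n25675 : Q := act 5 n25403
theorem D25675 : act 5 n25403 = n25675 := rfl
theorem F51233 : act 0 n25675 = n25608 := d4_1 D25675 (iv D25608) (iv F50515)
theorem F51234 : act 2 n25675 = n25404 := d11_1 D25675 (iv D25404) D25403
theorem F51235 : act 3 n25675 = n25628 := d13_1 D25675 F51093 F51008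
def n25676 : Q := act 4 n25404
theorem D25676 : act 4 n25404 = n25676 := rfl
theorem F51236 : act 0 n25676 = n25609 := d3_1 D25676 (iv D25609) (iv F50517)
theorem F51237 : act 1 n25676 = n25531 := d7_1 D25676 F50828 (iv F50518)
theorem F51238 : act 3 n25676 = n25530 := d12_1 D25676 (iv D25530) F49713 (iv F49314) (iv F50519)
theorem F51239 : act 5 n25676 = n25407 := d14_2 D25404 D25676 (iv D25407) (iv D24947) (iv F49310)
def n25677 : Q := act 5 n25405
theorem D25677 : act 5 n25405 = n25677 := rfl
theorem F51240 : act 1 n25677 = n25406 := d8_1 D25677 (iv D25406) D25405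
theorem F51241 : act 3 n25677 = n25410 := d13_1 D25677 (iv F50903) (iv F50904)
def n25678 : Q := act 4 n25406
theorem D25678 : act 4 n25406 = n25678 := rfl
theorem F51242 : act 0 n25678 = n25414 := d3_1 D25678 (iv D25414) (iv F50520)
theorem F51243 : act 2 n25678 = n25407 := d10_1 D25678 (iv D25407) (iv F50521)
def n25679 : Q := act 1 n25409
theorem D25679 : act 1 n25409 = n25679 := rfl
theorem F51244 : act 2 n25679 = n25426 := d5_2 D25409 D25679 (iv D25426) (iv D24971) (iv F49330)
theorem F51245 : act 4 n25679 = n25410 := d7_2 (iv F50528) D25679 (iv D25410)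
def n25680 : Q := act 3 n25409
theorem D25680 : act 3 n25409 = n25680 := rfl
theorem F51246 : act 0 n25680 = n25413 := d2_1 D25680 (iv D25413) (iv F50527)
def n25681 : Q := act 1 n25411
theorem D25681 : act 1 n25411 = n25681 := rfl
theorem F51247 : act 2 n25681 = n25422 := d5_2 D25411 D25681 (iv D25422) (iv D24969) (iv F49338)
theorem F51248 : act 4 n25681 = n25422 := d7_2 (iv F50531) D25681 (iv D25422)
def n25682 : Q := act 3 n25411
theorem D25682 : act 3 n25411 = n25682 := rfl
theorem F51249 : act 0 n25682 = n25465 := d2_1 D25682 (iv D25465) (iv F50530)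
def n25683 : Q := act 5 n25411
theorem D25683 : act 5 n25411 = n25683 := rfl
theorem F51250 : act 0 n25683 = n25466 := d4_1 D25683 (iv D25466) (iv F50530)
theorem F51251 : act 2 n25683 = n25412 := d11_1 D25683 (iv D25412) D25411
def n25684 : Q := act 4 n25412
theorem D25684 : act 4 n25412 = n25684 := rfl
theorem F51252 : act 0 n25684 = n25467 := d3_1 D25684 (iv D25467) (iv F50532)
theorem F51253 : act 1 n25684 = n25425 := d7_1 D25684 (iv D25425) (iv F50533)
theorem F51254 : act 3 n25684 = n25420 := d12_1 D25684 (iv D25420) F49371 (iv F49343) (iv F50534)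
theorem F51255 : act 5 n25684 = n25425 := d14_2 D25412 D25684 (iv D25425) (iv D24970) (iv F49339)
def n25685 : Q := act 2 n25413
theorem D25685 : act 2 n25413 = n25685 := rfl
theorem F51256 : act 5 n25685 = n25465 := d11_2 F51004 D25685 (iv F51005)
theorem F51257 : act 3 n25685 = n25466 := d15_3 D24956 D25413 D25685 F50659 F49529 (iv F49334) (iv F49974) F49975 F49329
def n25686 : Q := act 4 n25413
theorem D25686 : act 4 n25413 = n25686 := rfl
theorem F51258 : act 3 n25686 = n25414 := d12_1 D25686 (iv D25414) (iv D24957) (iv F49344) D25413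
def n25687 : Q := act 5 n25414
theorem D25687 : act 5 n25414 = n25687 := rfl
theorem F51259 : act 2 n25687 = n25609 := d11_1 D25687 (iv F51046) F51044
theorem F51260 : act 4 n25687 = n25608 := d14_1 D25687 (iv D25608) F50068 F50065 D25414
def n25688 : Q := act 3 n25416
theorem D25688 : act 3 n25416 = n25688 := rfl
theorem F51261 : act 0 n25688 = n25649 := d2_1 D25688 (iv F51201) F51200
theorem F51262 : act 1 n25688 = n25417 := d6_1 D25688 (iv D25417) D25416
theorem F51263 : act 4 n25688 = n25551 := d12_2 F51202 D25688 F50881 D25649 (iv F51201)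
theorem F51264 : act 5 n25688 = n25666 := d13_2 (iv F51154) D25688 F51201
theorem F51265 : act 2 n25552 = n25688 := d10_3 F51263 F50880 D25552
def n25689 : Q := act 4 n25419
theorem D25689 : act 4 n25419 = n25689 := rfl
theorem F51266 : act 0 n25689 = n25583 := d3_1 D25689 (iv D25583) (iv F50548)
theorem F51267 : act 1 n25689 = n25617 := d7_1 D25689 F51062 F50692
theorem F51268 : act 2 n25689 = n25420 := d10_1 D25689 (iv D25420) (iv F50549)
theorem F51269 : act 3 n25689 = n25616 := d12_1 D25689 (iv D25616) F50121 (iv F49880) (iv F50550)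
theorem F51270 : act 5 n25689 = n25432 := d14_2 D25419 D25689 (iv D25432) F49422 (iv F49368)
def n25690 : Q := act 1 n25421
theorem D25690 : act 1 n25421 = n25690 := rfl
theorem F51271 : act 2 n25690 = n25477 := d5_2 D25421 D25690 F50681 F49570 (iv F49383)
theorem F51272 : act 3 n25690 = n25433 := d6_2 (iv F50555) D25690 (iv D25433)
theorem F51273 : act 4 n25690 = n25665 := d7_2 (iv F50556) D25690 (iv D25665)
theorem F51274 : act 5 n25690 = n25442 := d8_2 (iv F50557) D25690 (iv D25442)
def n25691 : Q := act 3 n25422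
theorem D25691 : act 3 n25422 = n25691 := rfl
theorem F51275 : act 1 n25691 = n25423 := d6_1 D25691 (iv D25423) D25422
theorem F51276 : act 5 n25452 = n25691 := d8_0 F51275 F50560 D25452
def n25692 : Q := act 5 n25422
theorem D25692 : act 5 n25422 = n25692 := rfl
theorem F51277 : act 0 n25692 = n25691 := d4_1 D25692 (iv F51276) F50622
theorem F51278 : act 1 n25692 = n25424 := d8_1 D25692 (iv D25424) D25422
theorem F51279 : act 3 n25692 = n25452 := d13_1 D25692 F51276 (iv D25691)
def n25693 : Q := act 4 n25423
theorem D25693 : act 4 n25423 = n25693 := rfl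
theorem F51280 : act 0 n25693 = n25468 := d3_1 D25693 (iv D25468) (iv F50558)
theorem F51281 : act 2 n25693 = n25453 := d10_1 D25693 (iv D25453) (iv F50559)
def n25694 : Q := act 4 n25424
theorem D25694 : act 4 n25424 = n25694 := rfl
theorem F51282 : act 0 n25694 = n25469 := d3_1 D25694 (iv D25469) (iv F50561)
theorem F51283 : act 2 n25694 = n25425 := d10_1 D25694 (iv D25425) (iv F50562)
def n25695 : Q := act 4 n25427
theorem D25695 : act 4 n25427 = n25695 := rfl
theorem F51284 : act 0 n25695 = n25436 := d3_1 D25695 (iv D25436) (iv F50568)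
theorem F51285 : act 1 n25695 = n25451 := d7_1 D25695 (iv D25451) (iv F50569)
theorem F51286 : act 2 n25695 = n25459 := d10_1 D25695 (iv D25459) (iv F50570)
theorem F51287 : act 3 n25695 = n25453 := d12_1 D25695 (iv D25453) F49476 (iv F49406) (iv F50571)
theorem F51288 : act 5 n25695 = n25451 := d14_2 D25427 D25695 (iv D25451) (iv D25004) (iv F49401)
def n25696 : Q := act 1 n25428
theorem D25696 : act 1 n25428 = n25696 := rfl
theorem F51289 : act 0 n25696 = n25509 := d0_1 D25696 F50777 (iv F50759) F50760 (iv F50572)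
theorem F51290 : act 2 n25696 = n25571 := d5_2 D25428 D25696 (iv D25571) (iv D25166) (iv F49408)
theorem F51291 : act 4 n25696 = n25433 := d7_2 (iv F50573) D25696 (iv D25433)
theorem F51292 : act 3 n25508 = n25696 := d15_1 (iv F50776) F51290 F50931 F50422 (iv F49683) F49682 (iv F49638) F49639 D25088
def n25697 : Q := act 3 n25428
theorem D25697 : act 3 n25428 = n25697 := rfl
theorem F51293 : act 0 n25697 = n25505 := d2_1 D25697 F50769 (iv F50572)
theorem F51294 : act 1 n25697 = n25508 := d6_1 D25697 F51292 (iv D25696)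
theorem F51295 : act 4 n25697 = n25567 := d12_2 (iv F50573) D25697 F50925 (iv F50556) F50555
theorem F51296 : act 2 n25697 = n25614 := d15_2 D25428 D25697 F51055 F50087 F48466 (iv F48076) (iv F49713) F49714 (iv F49407)
theorem F51297 : act 5 n25612 = n25697 := d11_0 F51296 (iv D25614) D25612
def n25698 : Q := act 5 n25428
theorem D25698 : act 5 n25428 = n25698 := rfl
theorem F51298 : act 0 n25698 = n25517 := d4_1 D25698 F50796 (iv F50572)
theorem F51299 : act 2 n25698 = n25429 := d11_1 D25698 (iv D25429) D25428
theorem F51300 : act 3 n25698 = n25612 := d13_1 D25698 F51297 (iv D25697)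
def n25699 : Q := act 4 n25429
theorem D25699 : act 4 n25429 = n25699 := rfl
theorem F51301 : act 0 n25699 = n25530 := d3_1 D25699 (iv D25530) (iv F50574)
theorem F51302 : act 1 n25699 = n25563 := d7_1 D25699 (iv D25563) (iv F50575)
theorem F51303 : act 3 n25699 = n25609 := d12_1 D25699 (iv D25609) F50070 (iv F49413) (iv F50576)
theorem F51304 : act 5 n25699 = n25435 := d14_2 D25429 D25699 (iv D25435) (iv D24983) (iv F49409)
def n25700 : Q := act 2 n25430
theorem D25700 : act 2 n25430 = n25700 := rfl
theorem F51305 : act 0 n25700 = n25612 := d1_1 D25700 (iv D25612) (iv F50577)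
theorem F51306 : act 1 n25700 = n25490 := d5_1 D25700 (iv D25490) F49617 (iv F50109) (iv F50578)
theorem F51307 : act 3 n25700 = n25517 := d9_2 D25430 D25700 F50795 F49713 F48076 (iv F48466) (iv F50087) (iv F51055) (iv F51296) (iv D25697) (iv D25428) (iv D24976) F47508 D24240 D24978
theorem F51308 : act 5 n25700 = n25505 := d11_2 F50579 D25700 F50768
def n25701 : Q := act 4 n25430
theorem D25701 : act 4 n25430 = n25701 := rfl
theorem F51309 : act 0 n25701 = n25613 := d3_1 D25701 (iv D25613) (iv F50577)
theorem F51310 : act 1 n25701 = n25615 := d7_1 D25701 (iv D25615) (iv F50578)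
theorem F51311 : act 3 n25701 = n25432 := d12_1 D25701 (iv D25432) (iv D24980) (iv F49416) D25430
theorem F51312 : act 5 n25701 = n25616 := d14_2 F50579 D25701 (iv D25616) (iv D25266) (iv F50104)
def n25702 : Q := act 0 n25433
theorem D25702 : act 0 n25433 = n25702 := rfl
theorem F51313 : act 1 n25702 = n25510 := d0_2 D25433 D25702 (iv F51207) F51208 F50495
theorem F51314 : act 4 n25702 = n25509 := d3_2 F51291 D25702 (iv F51289)
def n25703 : Q := act 5 n25433
theorem D25703 : act 5 n25433 = n25703 := rfl
theorem F51315 : act 1 n25703 = n25434 := d8_1 D25703 (iv D25434) D25433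
theorem F51316 : act 3 n25703 = n25442 := d13_1 D25703 (iv F51274) F51272
def n25704 : Q := act 4 n25434
theorem D25704 : act 4 n25434 = n25704 := rfl
theorem F51317 : act 0 n25704 = n25450 := d3_1 D25704 (iv D25450) (iv F50586)
theorem F51318 : act 2 n25704 = n25435 := d10_1 D25704 (iv D25435) (iv F50587)
def n25705 : Q := act 2 n25438
theorem D25705 : act 2 n25438 = n25705 := rfl
theorem F51319 : act 0 n25705 = n25461 := d1_1 D25705 (iv F50738) F50737
theorem F51320 : act 3 n25705 = n25656 := d9_2 D25438 D25705 F51174 (iv D25498) (iv D25070) (iv D24370) (iv F47847) D25068 (iv F50315) D25640 F51130 F50810 (iv F50719) F50720 F49614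
theorem F51321 : act 4 n25705 = n25439 := d10_2 (iv F50597) D25705 (iv D25439)
theorem F51322 : act 5 n25705 = n25542 := d11_2 (iv F50598) D25705 (iv D25542)
def n25706 : Q := act 1 n25439
theorem D25706 : act 1 n25439 = n25706 := rfl
theorem F51323 : act 0 n25706 = n25630 := d0_1 D25706 (iv D25630) F50260 (iv F49500) (iv F50599)
theorem F51324 : act 3 n25706 = n25460 := d6_2 (iv F50600) D25706 (iv D25460)
theorem F51325 : act 5 n25706 = n25463 := d8_2 (iv F50601) D25706 (iv D25463)
def n25707 : Q := act 1 n25440
theorem D25707 : act 1 n25440 = n25707 := rfl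
theorem F51326 : act 2 n25707 = n25454 := d5_2 D25440 D25707 (iv D25454) (iv D25007) (iv F49446)
theorem F51327 : act 4 n25707 = n25442 := d7_2 (iv F50603) D25707 (iv D25442)
def n25708 : Q := act 3 n25440
theorem D25708 : act 3 n25440 = n25708 := rfl
theorem F51328 : act 0 n25708 = n25446 := d2_1 D25708 (iv D25446) (iv F50602)
def n25709 : Q := act 5 n25440
theorem D25709 : act 5 n25440 = n25709 := rfl
theorem F51329 : act 0 n25709 = n25447 := d4_1 D25709 (iv D25447) (iv F50602)
theorem F51330 : act 2 n25709 = n25441 := d11_1 D25709 (iv D25441) D25440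
theorem F51331 : act 4 n25709 = n25661 := d14_1 D25709 F51188 (iv F50556) F50557 (iv F50603)
def n25710 : Q := act 0 n25442
theorem D25710 : act 0 n25442 = n25710 := rfl
theorem F51332 : act 1 n25710 = n25448 := d0_2 D25442 D25710 (iv D25448) (iv D24997) (iv F49451)
theorem F51333 : act 2 n25710 = n25475 := d1_2 (iv F50608) D25710 (iv D25475)
def n25711 : Q := act 1 n25443
theorem D25711 : act 1 n25443 = n25711 := rfl
theorem F51334 : act 0 n25711 = n25681 := d0_1 D25711 (iv D25681) F50530 D25464 (iv F50658)
theorem F51335 : act 2 n25711 = n25452 := d5_2 D25443 D25711 (iv D25452) (iv D25005) (iv F49452)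
theorem F51336 : act 4 n25711 = n25452 := d7_2 (iv F50609) D25711 (iv D25452)
def n25712 : Q := act 3 n25443
theorem D25712 : act 3 n25443 = n25712 := rfl
def n25713 : Q := act 5 n25443
theorem D25713 : act 5 n25443 = n25713 := rfl
theorem F51337 : act 2 n25713 = n25444 := d11_1 D25713 (iv D25444) D25443
def n25714 : Q := act 4 n25444
theorem D25714 : act 4 n25444 = n25714 := rfl
theorem F51338 : act 0 n25714 = n25625 := d3_1 D25714 (iv F51191) F51189
theorem F51339 : act 1 n25714 = n25453 := d7_1 D25714 (iv D25453) (iv F50610)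
theorem F51340 : act 3 n25714 = n25451 := d12_1 D25714 (iv D25451) F49475 (iv F49456) (iv F50611)
theorem F51341 : act 5 n25714 = n25453 := d14_2 D25444 D25714 (iv D25453) (iv D25006) (iv F49453)
def n25715 : Q := act 3 n25445
theorem D25715 : act 3 n25445 = n25715 := rfl
theorem F51342 : act 1 n25715 = n25446 := d6_1 D25715 (iv D25446) D25445
theorem F51343 : act 5 n25715 = n25473 := d13_2 F50614 D25715 (iv D25473)
theorem F51344 : act 2 n25715 = n25658 := d15_2 (iv F50612) D25715 (iv D25658) F50414 F49154 F47749 D25035 (iv F49577) F49574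
def n25716 : Q := act 2 n25446
theorem D25716 : act 2 n25446 = n25716 := rfl
theorem F51345 : act 1 n25716 = n25685 := d5_1 D25716 (iv D25685) (iv F51179) (iv F51344) F51342
def n25717 : Q := act 4 n25446
theorem D25717 : act 4 n25446 = n25717 := rfl
theorem F51346 : act 3 n25717 = n25450 := d12_1 D25717 (iv D25450) (iv D24998) (iv F49457) D25446
def n25718 : Q := act 5 n25446
theorem D25718 : act 5 n25446 = n25718 := rfl
theorem F51347 : act 1 n25718 = n25473 := d8_1 D25718 (iv F51343) F51342
theorem F51348 : act 3 n25718 = n25447 := d13_1 D25718 (iv D25447) D25446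
def n25719 : Q := act 3 n25448
theorem D25719 : act 3 n25448 = n25719 := rfl
theorem F51349 : act 0 n25719 = n25449 := d2_1 D25719 (iv D25449) D25448
theorem F51350 : act 5 n25719 = n25510 := d13_2 F51205 D25719 (iv F51206)
def n25720 : Q := act 4 n25449
theorem D25720 : act 4 n25449 = n25720 := rfl
theorem F51351 : act 1 n25720 = n25450 := d7_1 D25720 (iv D25450) (iv F50619)
theorem F51352 : act 2 n25720 = n25519 := d10_1 D25720 (iv F51224) F51222
theorem F51353 : act 5 n25720 = n25518 := d14_2 F51210 D25720 (iv D25518) (iv F50762) (iv F51209)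
def n25721 : Q := act 5 n25450
theorem D25721 : act 5 n25450 = n25721 := rfl
theorem F51354 : act 1 n25721 = n25518 := d8_1 D25721 (iv F51353) F51351
theorem F51355 : act 2 n25721 = n25530 := d11_1 D25721 (iv F51220) F51218
theorem F51356 : act 4 n25721 = n25517 := d14_1 D25721 F50796 (iv F50496) (iv F50498) D25450
def n25722 : Q := act 5 n25454
theorem D25722 : act 5 n25454 = n25722 := rfl
theorem F51357 : act 0 n25722 = n25663 := d4_1 D25722 F51194 F50688
theorem F51358 : act 1 n25722 = n25455 := d8_1 D25722 (iv D25455) D25454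
theorem F51359 : act 3 n25722 = n25480 := d13_1 D25722 (iv F51194) F51193
def n25723 : Q := act 4 n25455
theorem D25723 : act 4 n25455 = n25723 := rfl
theorem F51360 : act 0 n25723 = n25457 := d3_1 D25723 (iv D25457) (iv F50624)
theorem F51361 : act 2 n25723 = n25456 := d10_1 D25723 (iv D25456) (iv F50625)
theorem F51362 : act 3 n25723 = n25478 := d12_1 D25723 (iv D25478) (iv F50674) F50675 (iv F50626)
theorem F51363 : act 5 n25723 = n25478 := d14_2 D25455 D25723 (iv D25478) (iv D25042) (iv F49478)
def n25724 : Q := act 2 n25458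
theorem D25724 : act 2 n25458 = n25724 := rfl
theorem F51364 : act 0 n25724 = n25628 := d1_1 D25724 (iv D25628) (iv F50635)
theorem F51365 : act 1 n25724 = n25550 := d5_1 D25724 F50878 (iv F50191) (iv F50243) (iv F50636)
theorem F51366 : act 3 n25724 = n25608 := d9_2 D25458 D25724 F51040 F50070 (iv F49397) (iv F49946) (iv F50256) (iv F50258) (iv F51007) F51008 (iv D25403) (iv D24944) F47373 D24299 D25012
theorem F51367 : act 5 n25724 = n25549 := d11_2 (iv F50637) D25724 F50876
def n25725 : Q := act 4 n25458
theorem D25725 : act 4 n25458 = n25725 := rfl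
theorem F51368 : act 0 n25725 = n25629 := d3_1 D25725 (iv D25629) (iv F50635)
theorem F51369 : act 1 n25725 = n25627 := d7_1 D25725 (iv D25627) (iv F50636)
theorem F51370 : act 3 n25725 = n25459 := d12_1 D25725 (iv D25459) (iv D25014) (iv F49491) D25458
theorem F51371 : act 5 n25725 = n25632 := d14_2 (iv F50637) D25725 (iv D25632) F50276 D25362
def n25726 : Q := act 3 n25464
theorem D25726 : act 3 n25464 = n25726 := rfl
theorem F51372 : act 0 n25726 = n25712 := d2_1 D25726 (iv D25712) F50658
theorem F51373 : act 1 n25726 = n25465 := d6_1 D25726 (iv D25465) D25464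
theorem F51374 : act 2 n25726 = n25718 := d15_2 (iv F50656) D25726 F51348 F50616 F49459 (iv F49455) (iv F50611) (iv D25444) (iv F50452)
theorem F51375 : act 5 n25716 = n25726 := d11_0 F51374 (iv D25718) D25716
def n25727 : Q := act 5 n25464
theorem D25727 : act 5 n25464 = n25727 := rfl
theorem F51376 : act 0 n25727 = n25713 := d4_1 D25727 (iv D25713) F50658
theorem F51377 : act 1 n25727 = n25466 := d8_1 D25727 (iv D25466) D25464
theorem F51378 : act 2 n25727 = n25662 := d11_1 D25727 F51192 (iv F50656)
theorem F51379 : act 3 n25727 = n25716 := d13_1 D25727 F51375 (iv D25726)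
def n25728 : Q := act 4 n25465
theorem D25728 : act 4 n25465 = n25728 := rfl
theorem F51380 : act 3 n25728 = n25468 := d12_1 D25728 (iv D25468) (iv D25028) (iv F49527) D25465
def n25729 : Q := act 4 n25466
theorem D25729 : act 4 n25466 = n25729 := rfl
theorem F51381 : act 2 n25729 = n25467 := d10_1 D25729 (iv D25467) (iv F50659)
theorem F51382 : act 5 n25729 = n25469 := d14_2 D25466 D25729 (iv D25469) (iv D25029) (iv F49527)
def n25730 : Q := act 5 n25468
theorem D25730 : act 5 n25468 = n25730 := rfl
theorem F51383 : act 1 n25730 = n25729 := d8_1 D25730 F51382 F50663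
theorem F51384 : act 2 n25730 = n25625 := d11_1 D25730 (iv F51199) F51197
theorem F51385 : act 4 n25730 = n25727 := d14_1 D25730 (iv D25727) F50657 (iv F49532) D25468
def n25731 : Q := act 3 n25469
theorem D25731 : act 3 n25469 = n25731 := rfl
theorem F51386 : act 1 n25731 = n25728 := d6_1 D25731 F51380 (iv F50663)
theorem F51387 : act 4 n25731 = n25726 := d12_2 D25469 D25731 (iv D25726) F50657 (iv F49535)
def n25732 : Q := act 1 n25470
theorem D25732 : act 1 n25470 = n25732 := rfl
theorem F51388 : act 0 n25732 = n25679 := d0_1 D25732 (iv D25679) F50527 (iv F50413) (iv F50665)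
theorem F51389 : act 2 n25732 = n25471 := d5_2 D25470 D25732 (iv D25471) (iv D25034) (iv F49544)
theorem F51390 : act 4 n25732 = n25557 := d7_2 (iv F50666) D25732 (iv D25557)
theorem F51391 : act 5 n25732 = n25645 := d8_2 (iv F50667) D25732 F51140
def n25733 : Q := act 3 n25470
theorem D25733 : act 3 n25470 = n25733 := rfl
theorem F51392 : act 0 n25733 = n25658 := d2_1 D25733 (iv D25658) (iv F50665)
theorem F51393 : act 5 n25733 = n25648 := d13_2 (iv F50667) D25733 (iv D25648)
def n25734 : Q := act 1 n25472
theorem D25734 : act 1 n25472 = n25734 := rfl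
theorem F51394 : act 2 n25734 = n25663 := d5_2 D25472 D25734 (iv D25663) (iv D25381) (iv F49551)
theorem F51395 : act 4 n25734 = n25570 := d7_2 (iv F50672) D25734 (iv D25570)
def n25735 : Q := act 3 n25472
theorem D25735 : act 3 n25472 = n25735 := rfl
theorem F51396 : act 0 n25735 = n25473 := d2_1 D25735 (iv D25473) (iv F50671)
theorem F51397 : act 2 n25735 = n25648 := d9_1 D25735 (iv D25648) F50350 F48995 F47743 (iv F49470) (iv F50612) D25715 F51344 (iv D25658) F50414 F49154 F47749 D25035 D25472
def n25736 : Q := act 4 n25473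
theorem D25736 : act 4 n25473 = n25736 := rfl
theorem F51398 : act 3 n25736 = n25569 := d12_1 D25736 (iv D25569) F49846 (iv F49553) D25473
def n25737 : Q := act 2 n25476
theorem D25737 : act 2 n25476 = n25737 := rfl
theorem F51399 : act 0 n25737 = n25690 := d1_1 D25737 F51271 F50680
theorem F51400 : act 1 n25737 = n25667 := d5_1 D25737 (iv D25667) F50484 (iv F49568) (iv F50678)
theorem F51401 : act 4 n25737 = n25673 := d10_2 F51212 D25737 F51226
theorem F51402 : act 5 n25737 = n25710 := d11_2 F50679 D25737 F51333
theorem F51403 : act 3 n25702 = n25737 := d12_5 F51401 F51227 F50772 D25509 (iv F51314)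
def n25738 : Q := act 4 n25477
theorem D25738 : act 4 n25477 = n25738 := rfl
theorem F51404 : act 0 n25738 = n25669 := d3_1 D25738 F51212 (iv F50680)
theorem F51405 : act 1 n25738 = n25478 := d7_1 D25738 (iv D25478) (iv F50681)
theorem F51406 : act 2 n25738 = n25665 := d10_1 D25738 (iv F51273) F51271
def n25739 : Q := act 1 n25479
theorem D25739 : act 1 n25479 = n25739 := rfl
theorem F51407 : act 0 n25739 = n25707 := d0_1 D25739 (iv D25707) F50602 D25445 (iv F50685)
theorem F51408 : act 2 n25739 = n25480 := d5_2 D25479 D25739 (iv D25480) (iv D25045) (iv F49575)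
theorem F51409 : act 4 n25739 = n25710 := d7_2 (iv F50686) D25739 F51332
theorem F51410 : act 5 n25739 = n25734 := d8_2 (iv F50687) D25739 (iv D25734)
def n25740 : Q := act 3 n25479
theorem D25740 : act 3 n25479 = n25740 := rfl
theorem F51411 : act 0 n25740 = n25715 := d2_1 D25740 (iv D25715) (iv F50685)
theorem F51412 : act 2 n25740 = n25733 := d9_1 D25740 (iv D25733) (iv D25470) (iv D25033) F47713 D24325 D25036 D25473 (iv F50690) (iv D25481) (iv D25046) (iv D24335) (iv F47738) D25044 D25479
theorem F51413 : act 5 n25740 = n25735 := d13_2 (iv F50687) D25740 (iv D25735)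
def n25741 : Q := act 4 n25481
theorem D25741 : act 4 n25481 = n25741 := rfl
theorem F51414 : act 0 n25741 = n25546 := d3_1 D25741 (iv F51151) F51150
theorem F51415 : act 2 n25741 = n25736 := d10_1 D25741 (iv D25736) (iv F50690)
theorem F51416 : act 3 n25741 = n25540 := d12_1 D25741 F50857 F49762 (iv F49579) D25481
def n25742 : Q := act 1 n25486
theorem D25742 : act 1 n25486 = n25742 := rfl
theorem F51417 : act 2 n25742 = n25570 := d5_2 D25486 D25742 (iv D25570) (iv D25165) (iv F49596)
theorem F51418 : act 3 n25742 = n25669 := d6_2 (iv F50704) D25742 (iv D25669)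
theorem F51419 : act 4 n25742 = n25663 := d7_2 (iv F50705) D25742 (iv D25663)
theorem F51420 : act 5 n25742 = n25669 := d8_2 (iv F50706) D25742 (iv D25669)
def n25743 : Q := act 1 n25491
theorem D25743 : act 1 n25491 = n25743 := rfl
theorem F51421 : act 2 n25743 = n25497 := d5_2 D25491 D25743 (iv D25497) (iv D25070) (iv F49619)
theorem F51422 : act 4 n25743 = n25493 := d7_2 (iv F50725) D25743 (iv D25493)
def n25744 : Q := act 3 n25491
theorem D25744 : act 3 n25491 = n25744 := rfl
def n25745 : Q := act 5 n25491
theorem D25745 : act 5 n25491 = n25745 := rfl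
theorem F51423 : act 0 n25745 = n25569 := d4_1 D25745 F50930 F50868
theorem F51424 : act 2 n25745 = n25492 := d11_1 D25745 (iv D25492) D25491
theorem F51425 : act 4 n25745 = n25507 := d14_1 D25745 (iv D25507) F49665 (iv F49624) (iv F50725)
def n25746 : Q := act 0 n25493
theorem D25746 : act 0 n25493 = n25746 := rfl
theorem F51426 : act 1 n25746 = n25612 := d0_2 D25493 D25746 (iv F51305) F51306 F50722
theorem F51427 : act 2 n25746 = n25500 := d1_2 (iv F50730) D25746 (iv D25500)
theorem F51428 : act 5 n25746 = n25508 := d4_2 (iv F50731) D25746 (iv D25508)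
def n25747 : Q := act 3 n25493
theorem D25747 : act 3 n25493 = n25747 := rfl
theorem F51429 : act 1 n25747 = n25494 := d6_1 D25747 (iv D25494) D25493
theorem F51430 : act 5 n25747 = n25509 := d13_2 (iv F50731) D25747 (iv D25509)
def n25748 : Q := act 4 n25494
theorem D25748 : act 4 n25494 = n25748 := rfl
theorem F51431 : act 0 n25748 = n25518 := d3_1 D25748 (iv D25518) (iv F50732)
theorem F51432 : act 2 n25748 = n25516 := d10_1 D25748 (iv D25516) (iv F50734)
def n25749 : Q := act 0 n25497
theorem D25749 : act 0 n25497 = n25749 := rfl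
theorem F51433 : act 1 n25749 = n25524 := d0_2 D25497 D25749 F50811 F49702 (iv F49629)
theorem F51434 : act 4 n25749 = n25500 := d3_2 (iv F50741) D25749 (iv D25500)
def n25750 : Q := act 3 n25497
theorem D25750 : act 3 n25497 = n25750 := rfl
theorem F51435 : act 1 n25750 = n25498 := d6_1 D25750 (iv D25498) D25497
theorem F51436 : act 4 n25750 = n25522 := d12_2 (iv F50741) D25750 (iv D25522) F49687 (iv F49638)
def n25751 : Q := act 5 n25497
theorem D25751 : act 5 n25497 = n25751 := rfl
theorem F51437 : act 1 n25751 = n25499 := d8_1 D25751 (iv D25499) D25497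
theorem F51438 : act 4 n25751 = n25512 := d14_1 D25751 (iv D25512) F49670 (iv F49639) (iv F50741)
def n25752 : Q := act 5 n25498
theorem D25752 : act 5 n25498 = n25752 := rfl
theorem F51439 : act 0 n25752 = n25523 := d4_1 D25752 (iv D25523) (iv F50742)
theorem F51440 : act 3 n25752 = n25499 := d13_1 D25752 (iv D25499) D25498
def n25753 : Q := act 0 n25506
theorem D25753 : act 0 n25506 = n25753 := rfl
theorem F51441 : act 1 n25753 = n25567 := d0_2 D25506 D25753 (iv D25567) (iv D25161) (iv F49664)
theorem F51442 : act 2 n25753 = n25511 := d1_2 (iv F50771) D25753 (iv D25511)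
theorem F51443 : act 3 n25753 = n25665 := d2_2 F51227 D25753 (iv F51225)
theorem F51444 : act 4 n25753 = n25508 := d3_2 (iv F50772) D25753 (iv D25508)
def n25754 : Q := act 5 n25506
theorem D25754 : act 5 n25506 = n25754 := rfl
theorem F51445 : act 1 n25754 = n25507 := d8_1 D25754 (iv D25507) D25506
theorem F51446 : act 2 n25754 = n25512 := d11_1 D25754 (iv D25512) (iv F50771)
theorem F51447 : act 3 n25754 = n25570 := d13_1 D25754 (iv F51228) F51227
def n25755 : Q := act 2 n25509
theorem D25755 : act 2 n25509 = n25755 := rfl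
theorem F51448 : act 0 n25755 = n25571 := d1_1 D25755 (iv F51290) F51289
theorem F51449 : act 1 n25755 = n25572 := d5_1 D25755 F50932 (iv F50756) F50757 (iv F50777)
theorem F51450 : act 3 n25755 = n25660 := d15_3 (iv F49669) D25509 D25755 F51185 (iv F50802) F50801 (iv F50748) F50749 (iv D25088)
def n25756 : Q := act 5 n25511
theorem D25756 : act 5 n25511 = n25756 := rfl
theorem F51451 : act 0 n25756 = n25512 := d4_1 D25756 (iv D25512) D25511
theorem F51452 : act 1 n25756 = n25514 := d8_1 D25756 (iv D25514) (iv F50778)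
theorem F51453 : act 3 n25756 = n25512 := d13_1 D25756 (iv D25512) F50780
def n25757 : Q := act 4 n25514
theorem D25757 : act 4 n25514 = n25757 := rfl
theorem F51454 : act 0 n25757 = n25526 := d3_1 D25757 F50819 (iv F50787)
theorem F51455 : act 2 n25757 = n25582 := d10_1 D25757 (iv D25582) (iv F50788)
theorem F51456 : act 5 n25757 = n25524 := d14_2 D25514 D25757 (iv D25524) F49696 (iv F49672)
def n25758 : Q := act 2 n25515
theorem D25758 : act 2 n25515 = n25758 := rfl
theorem F51457 : act 0 n25758 = n25527 := d1_1 D25758 (iv D25527) (iv F50790)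
theorem F51458 : act 5 n25758 = n25572 := d11_2 (iv F50792) D25758 F50932
def n25759 : Q := act 4 n25515
theorem D25759 : act 4 n25515 = n25759 := rfl
theorem F51459 : act 0 n25759 = n25528 := d3_1 D25759 (iv D25528) (iv F50790)
theorem F51460 : act 1 n25759 = n25516 := d7_1 D25759 (iv D25516) (iv F50791)
theorem F51461 : act 3 n25759 = n25528 := d12_1 D25759 (iv D25528) (iv D25105) (iv F49678) D25515
def n25760 : Q := act 5 n25516
theorem D25760 : act 5 n25516 = n25760 := rfl
theorem F51462 : act 0 n25760 = n25519 := d4_1 D25760 (iv D25519) (iv F50793)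
theorem F51463 : act 3 n25760 = n25529 := d13_1 D25760 (iv D25529) (iv F50794)
def n25761 : Q := act 3 n25518
theorem D25761 : act 3 n25518 = n25761 := rfl
def n25762 : Q := act 2 n25522
theorem D25762 : act 2 n25522 = n25762 := rfl
theorem F51464 : act 3 n25762 = n25762 := d15_1 D25762 (iv D25762) (iv D25522) F49686 F48038 (iv F49686) D25522 (iv F51167) F51165
def n25763 : Q := act 3 n25527
theorem D25763 : act 3 n25527 = n25763 := rfl
theorem F51465 : act 1 n25763 = n25564 := d6_1 D25763 (iv D25564) (iv F50820)
theorem F51466 : act 5 n25763 = n25573 := d13_2 (iv F50821) D25763 (iv D25573)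
def n25764 : Q := act 4 n25527
theorem D25764 : act 4 n25527 = n25764 := rfl
theorem F51467 : act 1 n25764 = n25565 := d7_1 D25764 (iv D25565) (iv F50820)
theorem F51468 : act 2 n25764 = n25528 := d10_1 D25764 (iv D25528) D25527
def n25765 : Q := act 5 n25528
theorem D25765 : act 5 n25528 = n25765 := rfl
theorem F51469 : act 1 n25765 = n25529 := d8_1 D25765 (iv D25529) (iv F50822)
theorem F51470 : act 4 n25765 = n25577 := d14_1 D25765 (iv D25577) (iv D25172) (iv F49710) D25528
def n25766 : Q := act 2 n25531
theorem D25766 : act 2 n25531 = n25766 := rfl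
theorem F51471 : act 0 n25766 = n25560 := d1_1 D25766 F50908 (iv F50827)
theorem F51472 : act 4 n25766 = n25556 := d10_2 (iv F50828) D25766 (iv D25556)
def n25767 : Q := act 3 n25532
theorem D25767 : act 3 n25532 = n25767 := rfl
theorem F51473 : act 0 n25767 = n25588 := d2_1 D25767 (iv D25588) (iv F50829)
theorem F51474 : act 1 n25767 = n25659 := d6_1 D25767 F51182 F51015
theorem F51475 : act 4 n25767 = n25767 := d12_2 (iv F51013) D25767 (iv D25767) F51013 F51011
theorem F51476 : act 2 n25767 = n25573 := d15_2 D25532 D25767 (iv D25573) F49853 (iv F49704) F49703 D25122 F49747 (iv F49721)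
def n25768 : Q := act 3 n25537
theorem D25768 : act 3 n25537 = n25768 := rfl
theorem F51477 : act 1 n25768 = n25586 := d6_1 D25768 (iv D25586) (iv F50844)
theorem F51478 : act 5 n25768 = n25588 := d13_2 (iv F50845) D25768 (iv D25588)
def n25769 : Q := act 5 n25540
theorem D25769 : act 5 n25540 = n25769 := rfl
theorem F51479 : act 0 n25769 = n25547 := d4_1 D25769 (iv D25547) (iv F50856)
theorem F51480 : act 2 n25769 = n25541 := d11_1 D25769 (iv D25541) D25540
theorem F51481 : act 4 n25769 = n25550 := d14_1 D25769 (iv D25550) (iv D25141) F49763 (iv F50857)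
def n25770 : Q := act 1 n25542
theorem D25770 : act 1 n25542 = n25770 := rfl
theorem F51482 : act 0 n25770 = n25634 := d0_1 D25770 F51109 F50284 (iv F50314) (iv F50862)
theorem F51483 : act 2 n25770 = n25545 := d5_2 D25542 D25770 (iv D25545) (iv D25134) (iv F49774)
theorem F51484 : act 4 n25770 = n25543 := d7_2 (iv F50863) D25770 (iv D25543)
def n25771 : Q := act 3 n25542
theorem D25771 : act 3 n25542 = n25771 := rfl
theorem F51485 : act 0 n25771 = n25640 := d2_1 D25771 (iv D25640) (iv F50862)
theorem F51486 : act 2 n25771 = n25752 := d9_1 D25771 F51440 F50745 F49631 (iv F49627) (iv F50739) F50738 F50646 F50386 F49694 F49612 (iv D25061) (iv F48003) D25130 D25542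
theorem F51487 : act 4 n25771 = n25655 := d12_2 (iv F50863) D25771 F51172 F50389 F49968
theorem F51488 : act 5 n25771 = n25656 := d13_2 F51322 D25771 (iv F51320)
def n25772 : Q := act 1 n25544
theorem D25772 : act 1 n25544 = n25772 := rfl
theorem F51489 : act 2 n25772 = n25701 := d5_2 D25544 D25772 F51310 F51058 F50112
theorem F51490 : act 4 n25772 = n25700 := d7_2 (iv F50869) D25772 F51306
def n25773 : Q := act 3 n25544
theorem D25773 : act 3 n25544 = n25773 := rfl
theorem F51491 : act 0 n25773 = n25744 := d2_1 D25773 (iv D25744) (iv F50868)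
theorem F51492 : act 4 n25773 = n25761 := d12_2 (iv F50869) D25773 (iv D25761) (iv D25518) (iv F50724)
theorem F51493 : act 5 n25773 = n25736 := d13_2 F50930 D25773 F51398
def n25774 : Q := act 0 n25545
theorem D25774 : act 0 n25545 = n25774 := rfl
theorem F51494 : act 1 n25774 = n25633 := d0_2 D25545 D25774 F51107 F51002 F50856
theorem F51495 : act 2 n25774 = n25634 := d1_2 F51483 D25774 (iv F51482)
theorem F51496 : act 4 n25774 = n25548 := d3_2 (iv F50870) D25774 (iv D25548)
def n25775 : Q := act 3 n25545
theorem D25775 : act 3 n25545 = n25775 := rfl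
theorem F51497 : act 1 n25775 = n25546 := d6_1 D25775 (iv D25546) D25545
def n25776 : Q := act 5 n25545
theorem D25776 : act 5 n25545 = n25776 := rfl
theorem F51498 : act 1 n25776 = n25547 := d8_1 D25776 (iv D25547) D25545
def n25777 : Q := act 2 n25546
theorem D25777 : act 2 n25546 = n25777 := rfl
theorem F51499 : act 0 n25777 = n25736 := d1_1 D25777 (iv F51415) F51414
theorem F51500 : act 4 n25777 = n25735 := d10_2 F51151 D25777 F51397
theorem F51501 : act 3 n25777 = n25745 := d15_3 D25134 D25546 D25777 F51424 F50728 (iv F49759) (iv F50860) (iv D25541) F49755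
theorem F51502 : act 5 n25744 = n25777 := d13_0 F51501 (iv D25745) D25744
def n25778 : Q := act 5 n25546
theorem D25778 : act 5 n25546 = n25778 := rfl
theorem F51503 : act 2 n25778 = n25744 := d11_1 D25778 F51502 (iv D25777)
theorem F51504 : act 3 n25778 = n25547 := d13_1 D25778 (iv D25547) D25546
def n25779 : Q := act 5 n25552
theorem D25779 : act 5 n25552 = n25779 := rfl
theorem F51505 : act 0 n25779 = n25670 := d4_1 D25779 F51215 (iv F50883)
theorem F51506 : act 1 n25779 = n25554 := d8_1 D25779 (iv D25554) (iv F50884)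
theorem F51507 : act 2 n25779 = n25666 := d11_1 D25779 (iv F51264) (iv F51265)
theorem F51508 : act 4 n25779 = n25670 := d14_1 D25779 F51215 (iv D25536) (iv F49805) D25552
def n25780 : Q := act 5 n25553
theorem D25780 : act 5 n25553 = n25780 := rfl
theorem F51509 : act 0 n25780 = n25672 := d4_1 D25780 (iv D25672) (iv F50885)
theorem F51510 : act 2 n25780 = n25719 := d11_1 D25780 F51350 F50887
theorem F51511 : act 3 n25780 = n25554 := d13_1 D25780 (iv D25554) D25553
theorem F51512 : act 4 n25780 = n25760 := d14_1 D25780 (iv D25760) (iv D25516) (iv F50758) (iv F50886)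
def n25781 : Q := act 1 n25556
theorem D25781 : act 1 n25556 = n25781 := rfl
theorem F51513 : act 0 n25781 = n25677 := d0_1 D25781 F51240 F50520 F49831 (iv F50894)
theorem F51514 : act 3 n25781 = n25557 := d6_2 (iv F50895) D25781 (iv D25557)
theorem F51515 : act 5 n25781 = n25559 := d8_2 (iv F50896) D25781 F50906
def n25782 : Q := act 3 n25560
theorem D25782 : act 3 n25560 = n25782 := rfl
theorem F51516 : act 1 n25782 = n25686 := d6_1 D25782 F51258 (iv F50907)
theorem F51517 : act 4 n25782 = n25658 := d12_2 D25560 D25782 (iv D25658) (iv D25368) (iv F49829)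
def n25783 : Q := act 5 n25560
theorem D25783 : act 5 n25560 = n25783 := rfl
theorem F51518 : act 1 n25783 = n25687 := d8_1 D25783 (iv D25687) (iv F50907)
theorem F51519 : act 2 n25783 = n25561 := d11_1 D25783 (iv D25561) (iv F50908)
theorem F51520 : act 4 n25783 = n25607 := d14_1 D25783 F51038 F50061 (iv F49830) D25560
def n25784 : Q := act 1 n25562
theorem D25784 : act 1 n25562 = n25784 := rfl
theorem F51521 : act 3 n25784 = n25579 := d6_2 (iv F50913) D25784 (iv D25579)
theorem F51522 : act 5 n25784 = n25571 := d8_2 (iv F50914) D25784 (iv D25571)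
def n25785 : Q := act 4 n25562
theorem D25785 : act 4 n25562 = n25785 := rfl
theorem F51523 : act 0 n25785 = n25565 := d3_1 D25785 (iv D25565) (iv F50912)
theorem F51524 : act 2 n25785 = n25563 := d10_1 D25785 (iv D25563) D25562
def n25786 : Q := act 4 n25564
theorem D25786 : act 4 n25564 = n25786 := rfl
theorem F51525 : act 0 n25786 = n25580 := d3_1 D25786 (iv D25580) (iv F50917)
theorem F51526 : act 2 n25786 = n25578 := d10_1 D25786 (iv D25578) (iv F50918)
theorem F51527 : act 5 n25786 = n25786 := d14_2 (iv F50919) D25786 (iv D25786) F50919 F49856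
def n25787 : Q := act 3 n25565
theorem D25787 : act 3 n25565 = n25787 := rfl
theorem F51528 : act 2 n25787 = n25787 := d15_2 (iv F50920) D25787 (iv D25787) F50920 F49838 (iv F50083) D25611 F51050 F50915
def n25788 : Q := act 5 n25565
theorem D25788 : act 5 n25565 = n25788 := rfl
theorem F51529 : act 2 n25788 = n25566 := d11_1 D25788 (iv D25566) (iv F50920)
theorem F51530 : act 4 n25788 = n25575 := d14_1 D25788 (iv D25575) (iv D25169) (iv F49836) D25565
def n25789 : Q := act 5 n25567
theorem D25789 : act 5 n25567 = n25789 := rfl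
theorem F51531 : act 0 n25789 = n25568 := d4_1 D25789 (iv D25568) D25567
theorem F51532 : act 2 n25789 = n25581 := d11_1 D25789 F50953 (iv F50924)
theorem F51533 : act 3 n25789 = n25661 := d13_1 D25789 F51188 (iv F50925)
def n25790 : Q := act 4 n25568
theorem D25790 : act 4 n25568 = n25790 := rfl
theorem F51534 : act 1 n25790 = n25569 := d7_1 D25790 (iv D25569) (iv F50926)
theorem F51535 : act 2 n25790 = n25616 := d10_1 D25790 (iv D25616) (iv F50927)
theorem F51536 : act 5 n25790 = n25772 := d14_2 D25568 D25790 F51490 F51308 F50770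
def n25791 : Q := act 0 n25570
theorem D25791 : act 0 n25570 = n25791 := rfl
theorem F51537 : act 1 n25791 = n25661 := d0_2 D25570 D25791 (iv D25661) (iv D25377) (iv F49850)
theorem F51538 : act 5 n25791 = n25665 := d4_2 F51228 D25791 (iv F51225)
def n25792 : Q := act 3 n25572
theorem D25792 : act 3 n25572 = n25792 := rfl
theorem F51539 : act 0 n25792 = n25573 := d2_1 D25792 (iv D25573) D25572
theorem F51540 : act 1 n25792 = n25660 := d6_1 D25792 (iv F51450) F51449
theorem F51541 : act 2 n25792 = n25588 := d15_2 (iv F50932) D25792 (iv D25588) F49905 (iv F49656) F49655 D25105 F49710 D25171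
theorem F51542 : act 4 n25792 = n25792 := d10_0 F51541 F50975 (iv F51541)
def n25793 : Q := act 4 n25572
theorem D25793 : act 4 n25572 = n25793 := rfl
theorem F51543 : act 0 n25793 = n25574 := d3_1 D25793 (iv D25574) D25572
theorem F51544 : act 2 n25793 = n25576 := d10_1 D25793 (iv D25576) (iv F50932)
theorem F51545 : act 3 n25793 = n25793 := d12_1 D25793 (iv D25793) D25792 F51542 (iv D25792)
def n25794 : Q := act 5 n25574
theorem D25794 : act 5 n25574 = n25794 := rfl
theorem F51546 : act 1 n25794 = n25575 := d8_1 D25794 (iv D25575) (iv F50935)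
theorem F51547 : act 2 n25794 = n25577 := d11_1 D25794 (iv D25577) (iv F50936)
theorem F51548 : act 3 n25794 = n25794 := d13_1 D25794 (iv D25794) F50937
def n25795 : Q := act 5 n25576
theorem D25795 : act 5 n25576 = n25795 := rfl
theorem F51549 : act 0 n25795 = n25577 := d4_1 D25795 (iv D25577) (iv F50940)
theorem F51550 : act 1 n25795 = n25780 := d8_1 D25795 (iv D25780) (iv F50941)
theorem F51551 : act 3 n25795 = n25779 := d13_1 D25795 (iv D25779) (iv F50942)
def n25796 : Q := act 0 n25579
theorem D25796 : act 0 n25579 = n25796 := rfl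
theorem F51552 : act 2 n25796 = n25590 := d1_2 (iv F50947) D25796 F50979
theorem F51553 : act 5 n25796 = n25660 := d4_2 (iv F50948) D25796 (iv D25660)
def n25797 : Q := act 4 n25579
theorem D25797 : act 4 n25579 = n25797 := rfl
theorem F51554 : act 1 n25797 = n25580 := d7_1 D25797 (iv D25580) D25579
theorem F51555 : act 2 n25797 = n25626 := d10_1 D25797 (iv D25626) (iv F50947)
theorem F51556 : act 5 n25797 = n25797 := d14_2 (iv F50948) D25797 (iv D25797) F50948 F50423
def n25798 : Q := act 3 n25580
theorem D25798 : act 3 n25580 = n25798 := rfl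
theorem F51557 : act 5 n25798 = n25798 := d13_2 F50950 D25798 (iv D25798)
theorem F51558 : act 2 n25798 = n25798 := d15_2 (iv F50949) D25798 (iv D25798) F50949 F49867 (iv F50074) (iv F50945) F50946 F50944
def n25799 : Q := act 4 n25581
theorem D25799 : act 4 n25581 = n25799 := rfl
theorem F51559 : act 0 n25799 = n25616 := d3_1 D25799 (iv D25616) (iv F50951)
theorem F51560 : act 1 n25799 = n25582 := d7_1 D25799 (iv D25582) (iv F50952)
theorem F51561 : act 3 n25799 = n25583 := d12_1 D25799 (iv D25583) (iv D25181) (iv F49871) D25581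
theorem F51562 : act 5 n25799 = n25613 := d14_2 (iv F50953) D25799 (iv D25613) D25614 (iv F51056)
def n25800 : Q := act 4 n25586
theorem D25800 : act 4 n25586 = n25800 := rfl
theorem F51563 : act 0 n25800 = n25592 := d3_1 D25800 (iv D25592) (iv F50968)
theorem F51564 : act 2 n25800 = n25591 := d10_1 D25800 (iv D25591) (iv F50969)
theorem F51565 : act 5 n25800 = n25800 := d14_2 (iv F50970) D25800 (iv D25800) F50970 F49909
def n25801 : Q := act 4 n25590
theorem D25801 : act 4 n25590 = n25801 := rfl
theorem F51566 : act 0 n25801 = n25626 := d3_1 D25801 (iv D25626) (iv F50979)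
theorem F51567 : act 1 n25801 = n25591 := d7_1 D25801 (iv D25591) (iv F50980)
theorem F51568 : act 3 n25801 = n25626 := d12_1 D25801 (iv D25626) F50216 (iv F49913) D25590
theorem F51569 : act 5 n25801 = n25801 := d14_2 (iv F50981) D25801 (iv D25801) F50981 F50424
def n25802 : Q := act 2 n25594
theorem D25802 : act 2 n25594 = n25802 := rfl
theorem F51570 : act 0 n25802 = n25652 := d1_1 D25802 F51162 (iv F50992)
theorem F51571 : act 1 n25802 = n25762 := d5_1 D25802 (iv D25762) F50809 (iv F50378) (iv F50993)
theorem F51572 : act 3 n25802 = n25802 := d9_2 D25594 D25802 (iv D25802) (iv D25594) (iv D25208) (iv D24549) (iv F46898) D24839 D25352 F50369 (iv D25352) (iv D24839) F46898 D24549 D25208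
theorem F51573 : act 5 n25802 = n25651 := d11_2 (iv F50994) D25802 (iv D25651)
def n25803 : Q := act 4 n25594
theorem D25803 : act 4 n25594 = n25803 := rfl
theorem F51574 : act 0 n25803 = n25643 := d3_1 D25803 F51135 (iv F50992)
theorem F51575 : act 1 n25803 = n25656 := d7_1 D25803 (iv D25656) (iv F50993)
def n25804 : Q := act 4 n25595
theorem D25804 : act 4 n25595 = n25804 := rfl
theorem F51576 : act 0 n25804 = n25645 := d3_1 D25804 (iv D25645) (iv F50995)
theorem F51577 : act 1 n25804 = n25596 := d7_1 D25804 (iv D25596) D25595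
theorem F51578 : act 2 n25804 = n25644 := d10_1 D25804 (iv D25644) (iv F50996)
theorem F51579 : act 5 n25804 = n25679 := d14_2 (iv F50998) D25804 F51245 (iv F50903) F50902
def n25805 : Q := act 3 n25596
theorem D25805 : act 3 n25596 = n25805 := rfl
theorem F51580 : act 0 n25805 = n25598 := d2_1 D25805 (iv D25598) (iv F50999)
theorem F51581 : act 2 n25805 = n25682 := d9_1 D25805 (iv D25682) (iv D25411) (iv D24954) F47409 D24205 D24956 D25413 D25685 F51257 F50659 F49529 (iv F49334) (iv F49974) (iv F51000)
theorem F51582 : act 5 n25805 = n25680 := d13_2 (iv F51001) D25805 (iv D25680)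
def n25806 : Q := act 3 n25597
theorem D25806 : act 3 n25597 = n25806 := rfl
theorem F51583 : act 1 n25806 = n25741 := d6_1 D25806 F51416 (iv F51002)
theorem F51584 : act 4 n25806 = n25598 := d12_2 D25597 D25806 (iv D25598) (iv D25218) D25217
theorem F51585 : act 2 n25806 = n25728 := d15_2 F51105 D25806 F51380 (iv F51197) F51198 F50590 (iv F51095) F51096 (iv F51103)
def n25807 : Q := act 5 n25597
theorem D25807 : act 5 n25597 = n25807 := rfl
theorem F51586 : act 1 n25807 = n25769 := d8_1 D25807 (iv D25769) (iv F51002)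
theorem F51587 : act 2 n25807 = n25725 := d11_1 D25807 F51371 F51105
theorem F51588 : act 4 n25807 = n25724 := d14_1 D25807 F51367 (iv D25549) (iv F49977) D25597
def n25808 : Q := act 2 n25602
theorem D25808 : act 2 n25602 = n25808 := rfl
theorem F51589 : act 0 n25808 = n25604 := d1_1 D25808 (iv D25604) (iv F51018)
theorem F51590 : act 3 n25808 = n25800 := d9_2 D25602 D25808 F51564 F50983 F50219 (iv F49525) F49524 D25234 D25604 F51027 F50985 F49916 (iv F49728) F49729 (iv F50025)
theorem F51591 : act 4 n25808 = n25603 := d10_2 (iv F51020) D25808 (iv D25603)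
theorem F51592 : act 5 n25808 = n25808 := d11_2 F51021 D25808 (iv D25808)
def n25809 : Q := act 1 n25603
theorem D25809 : act 1 n25603 = n25809 := rfl
theorem F51593 : act 0 n25809 = n25768 := d0_1 D25809 F51477 F50968 (iv F50032) (iv F51022)
theorem F51594 : act 2 n25809 = n25763 := d5_2 D25603 D25809 F51465 F50918 (iv F50028)
theorem F51595 : act 3 n25809 = n25606 := d6_2 (iv F51023) D25809 (iv D25606)
theorem F51596 : act 5 n25809 = n25767 := d8_2 F51184 D25809 F51474
def n25810 : Q := act 2 n25611
theorem D25810 : act 2 n25611 = n25810 := rfl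
theorem F51597 : act 0 n25810 = n25788 := d1_1 D25810 F51529 (iv F51047)
theorem F51598 : act 4 n25810 = n25620 := d10_2 (iv F51049) D25810 F51071
theorem F51599 : act 5 n25810 = n25785 := d11_2 (iv F51050) D25810 F51524
def n25811 : Q := act 4 n25612
theorem D25811 : act 4 n25612 = n25811 := rfl
theorem F51600 : act 0 n25811 = n25772 := d3_1 D25811 F51490 F51305
theorem F51601 : act 2 n25811 = n25613 := d10_1 D25811 (iv D25613) D25612
def n25812 : Q := act 0 n25619
theorem D25812 : act 0 n25619 = n25812 := rfl
theorem F51602 : act 1 n25812 = n25793 := d0_2 D25619 D25812 F51543 F50935 (iv F50153)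
theorem F51603 : act 2 n25812 = n25702 := d1_2 (iv F51067) D25812 (iv D25702)
theorem F51604 : act 3 n25812 = n25812 := d2_2 F51068 D25812 (iv D25812)
theorem F51605 : act 4 n25812 = n25755 := d3_2 (iv F51069) D25812 F51448
def n25813 : Q := act 5 n25619
theorem D25813 : act 5 n25619 = n25813 := rfl
theorem F51606 : act 1 n25813 = n25620 := d8_1 D25813 (iv D25620) D25619
theorem F51607 : act 2 n25813 = n25703 := d11_1 D25813 (iv D25703) (iv F51067)
theorem F51608 : act 3 n25813 = n25813 := d13_1 D25813 (iv D25813) F51068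
def n25814 : Q := act 5 n25621
theorem D25814 : act 5 n25621 = n25814 := rfl
theorem F51609 : act 1 n25814 = n25622 := d8_1 D25814 (iv D25622) D25621
theorem F51610 : act 2 n25814 = n25677 := d11_1 D25814 (iv D25677) (iv F51073)
def n25815 : Q := act 4 n25622
theorem D25815 : act 4 n25622 = n25815 := rfl
theorem F51611 : act 0 n25815 = n25783 := d3_1 D25815 F51520 (iv F51075)
theorem F51612 : act 2 n25815 = n25623 := d10_1 D25815 (iv D25623) (iv F51076)
theorem F51613 : act 5 n25815 = n25766 := d14_2 D25622 D25815 F51472 F50896 (iv F50160)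
def n25816 : Q := act 1 n25628
theorem D25816 : act 1 n25628 = n25816 := rfl
theorem F51614 : act 2 n25816 = n25630 := d5_2 D25628 D25816 (iv D25630) (iv D25309) (iv F50253)
theorem F51615 : act 5 n25816 = n25639 := d8_2 (iv F51093) D25816 F51125
def n25817 : Q := act 4 n25628
theorem D25817 : act 4 n25628 = n25817 := rfl
theorem F51616 : act 0 n25817 = n25807 := d3_1 D25817 F51588 F51364
theorem F51617 : act 2 n25817 = n25629 := d10_1 D25817 (iv D25629) D25628
theorem F51618 : act 5 n25817 = n25633 := d14_2 (iv F51093) D25817 (iv D25633) F50279 D25599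
def n25818 : Q := act 4 n25630
theorem D25818 : act 4 n25630 = n25818 := rfl
theorem F51619 : act 1 n25818 = n25631 := d7_1 D25818 (iv D25631) D25630
theorem F51620 : act 3 n25818 = n25643 := d12_1 D25818 F51135 F50371 (iv F50320) (iv F51097)
theorem F51621 : act 5 n25818 = n25634 := d14_2 (iv F51098) D25818 (iv D25634) F50283 D25326
def n25819 : Q := act 3 n25633
theorem D25819 : act 3 n25633 = n25819 := rfl
theorem F51622 : act 0 n25819 = n25806 := d2_1 D25819 (iv D25806) (iv F51107)
theorem F51623 : act 4 n25819 = n25805 := d12_2 D25633 D25819 (iv D25805) (iv D25596) (iv F50278)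
def n25820 : Q := act 3 n25634
theorem D25820 : act 3 n25634 = n25820 := rfl
theorem F51624 : act 1 n25820 = n25635 := d6_1 D25820 (iv D25635) (iv F51109)
theorem F51625 : act 4 n25820 = n25638 := d12_2 D25634 D25820 (iv D25638) F50295 (iv F50282)
theorem F51626 : act 5 n25820 = n25643 := d13_2 F51621 D25820 (iv F51620)
def n25821 : Q := act 3 n25637
theorem D25821 : act 3 n25637 = n25821 := rfl
theorem F51627 : act 0 n25821 = n25638 := d2_1 D25821 (iv D25638) D25637
theorem F51628 : act 1 n25821 = n25655 := d6_1 D25821 F51172 (iv F51119)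
theorem F51629 : act 5 n25821 = n25641 := d13_2 (iv F51122) D25821 (iv D25641)
def n25822 : Q := act 2 n25638
theorem D25822 : act 2 n25638 = n25822 := rfl
theorem F51630 : act 5 n25822 = n25642 := d11_2 (iv F51124) D25822 (iv D25642)
def n25823 : Q := act 2 n25641
theorem D25823 : act 2 n25641 = n25823 := rfl
theorem F51631 : act 0 n25823 = n25642 := d1_1 D25823 (iv D25642) (iv F51131)
theorem F51632 : act 4 n25823 = n25651 := d10_2 (iv F51133) D25823 (iv D25651)
def n25824 : Q := act 1 n25642
theorem D25824 : act 1 n25642 = n25824 := rfl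
theorem F51633 : act 2 n25824 = n25643 := d5_2 D25642 D25824 (iv D25643) (iv D25334) (iv F50324)
theorem F51634 : act 4 n25824 = n25652 := d7_2 (iv F51134) D25824 (iv D25652)
def n25825 : Q := act 3 n25642
theorem D25825 : act 3 n25642 = n25825 := rfl
theorem F51635 : act 4 n25825 = n25825 := d12_2 (iv F51134) D25825 (iv D25825) F51134 F50369
def n25826 : Q := act 3 n25645
theorem D25826 : act 3 n25645 = n25826 := rfl
theorem F51636 : act 1 n25826 = n25648 := d6_1 D25826 (iv D25648) (iv F51140)
theorem F51637 : act 4 n25826 = n25775 := d12_2 D25645 D25826 (iv D25775) F50870 F50337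
def n25827 : Q := act 5 n25646
theorem D25827 : act 5 n25646 = n25827 := rfl
theorem F51638 : act 0 n25827 = n25816 := d4_1 D25827 F51615 (iv F51142)
theorem F51639 : act 1 n25827 = n25647 := d8_1 D25827 (iv D25647) (iv F51143)
theorem F51640 : act 2 n25827 = n25706 := d11_1 D25827 F51325 (iv F51144)
theorem F51641 : act 3 n25827 = n25814 := d13_1 D25827 (iv D25814) (iv F51145)
theorem F51642 : act 4 n25827 = n25776 := d14_1 D25827 (iv D25776) F50870 (iv F50344) D25646
def n25828 : Q := act 1 n25651
theorem D25828 : act 1 n25651 = n25828 := rfl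
theorem F51643 : act 0 n25828 = n25762 := d0_1 D25828 (iv F51571) F51570 (iv D25652) (iv F51160)
theorem F51644 : act 2 n25828 = n25653 := d5_2 D25651 D25828 (iv D25653) (iv D25354) (iv F50368)
theorem F51645 : act 3 n25828 = n25828 := d6_2 F51161 D25828 (iv D25828)
theorem F51646 : act 5 n25828 = n25762 := d8_2 F51573 D25828 (iv F51571)
def n25829 : Q := act 4 n25653
theorem D25829 : act 4 n25653 = n25829 := rfl
theorem F51647 : act 0 n25829 = n25750 := d3_1 D25829 F51436 (iv F51165)
theorem F51648 : act 1 n25829 = n25654 := d7_1 D25829 (iv D25654) D25653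
theorem F51649 : act 3 n25829 = n25749 := d12_1 D25829 F51434 F50748 (iv F50807) (iv F51166)
def n25830 : Q := act 5 n25654
theorem D25830 : act 5 n25654 = n25830 := rfl
theorem F51650 : act 0 n25830 = n25657 := d4_1 D25830 (iv D25657) (iv F51168)
theorem F51651 : act 2 n25830 = n25655 := d11_1 D25830 (iv D25655) (iv F51169)
theorem F51652 : act 3 n25830 = n25757 := d13_1 D25830 F51456 (iv F51170)
theorem F51653 : act 4 n25830 = n25752 := d14_1 D25830 (iv D25752) F50743 F50374 D25654
def n25831 : Q := act 5 n25674
theorem D25831 : act 5 n25674 = n25831 := rfl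
theorem F51654 : act 0 n25831 = n25814 := d4_1 D25831 (iv D25814) (iv F51229)
theorem F51655 : act 1 n25831 = n25675 := d8_1 D25831 (iv D25675) D25674
theorem F51656 : act 2 n25831 = n25781 := d11_1 D25831 F51515 (iv F51230)
theorem F51657 : act 3 n25831 = n25816 := d13_1 D25831 F51615 (iv F51231)
def n25832 : Q := act 4 n25675
theorem D25832 : act 4 n25675 = n25832 := rfl
theorem F51658 : act 0 n25832 = n25687 := d3_1 D25832 F51260 (iv F51233)
theorem F51659 : act 2 n25832 = n25676 := d10_1 D25832 (iv D25676) (iv F51234)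
theorem F51660 : act 5 n25832 = n25678 := d14_2 D25675 D25832 (iv D25678) (iv D25406) (iv F50516)
def n25833 : Q := act 4 n25677
theorem D25833 : act 4 n25677 = n25833 := rfl
theorem F51661 : act 1 n25833 = n25678 := d7_1 D25833 (iv D25678) (iv F51240)
def n25834 : Q := act 3 n25678
theorem D25834 : act 3 n25678 = n25834 := rfl
theorem F51662 : act 0 n25834 = n25686 := d2_1 D25834 F51258 (iv F51242)
theorem F51663 : act 4 n25834 = n25680 := d12_2 D25678 D25834 (iv D25680) F50528 (iv F50522)
def n25835 : Q := act 3 n25679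
theorem D25835 : act 3 n25679 = n25835 := rfl
theorem F51664 : act 1 n25835 = n25680 := d6_1 D25835 (iv D25680) D25679
def n25836 : Q := act 2 n25680
theorem D25836 : act 2 n25680 = n25836 := rfl
theorem F51665 : act 0 n25836 = n25685 := d1_1 D25836 (iv D25685) (iv F51246)
theorem F51666 : act 3 n25836 = n25683 := d9_2 D25680 D25836 F51251 F50534 F49342 (iv F48286) (iv F49979) D25598 F51005 (iv D25465) (iv D25025) (iv D24316) (iv F47401) D24951 D25409
theorem F51667 : act 5 n25836 = n25682 := d11_2 F51582 D25836 (iv F51581)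
def n25837 : Q := act 3 n25681
theorem D25837 : act 3 n25681 = n25837 := rfl
theorem F51668 : act 1 n25837 = n25682 := d6_1 D25837 (iv D25682) D25681
def n25838 : Q := act 5 n25681
theorem D25838 : act 5 n25681 = n25838 := rfl
theorem F51669 : act 1 n25838 = n25683 := d8_1 D25838 (iv D25683) D25681
theorem F51670 : act 2 n25838 = n25692 := d11_1 D25838 (iv D25692) (iv F51247)
def n25839 : Q := act 4 n25682
theorem D25839 : act 4 n25682 = n25839 := rfl
theorem F51671 : act 0 n25839 = n25728 := d3_1 D25839 (iv D25728) (iv F51249)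
theorem F51672 : act 2 n25839 = n25819 := d10_1 D25839 F51623 F51581
theorem F51673 : act 3 n25839 = n25693 := d12_1 D25839 (iv D25693) (iv D25423) (iv F50531) D25682
def n25840 : Q := act 4 n25683
theorem D25840 : act 4 n25683 = n25840 := rfl
theorem F51674 : act 0 n25840 = n25729 := d3_1 D25840 (iv D25729) (iv F51250)
theorem F51675 : act 2 n25840 = n25684 := d10_1 D25840 (iv D25684) (iv F51251)
theorem F51676 : act 5 n25840 = n25694 := d14_2 D25683 D25840 (iv D25694) (iv D25424) (iv F50531)
def n25841 : Q := act 4 n25685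
theorem D25841 : act 4 n25685 = n25841 := rfl
theorem F51677 : act 2 n25841 = n25686 := d10_1 D25841 (iv D25686) D25685
def n25842 : Q := act 5 n25686
theorem D25842 : act 5 n25686 = n25842 := rfl
theorem F51678 : act 3 n25842 = n25687 := d13_1 D25842 (iv D25687) (iv F51258)
def n25843 : Q := act 2 n25691
theorem D25843 : act 2 n25691 = n25843 := rfl
theorem F51679 : act 0 n25843 = n25838 := d1_1 D25843 F51670 F51277
theorem F51680 : act 1 n25843 = n25713 := d5_1 D25843 F51337 F50610 (iv F50559) (iv F51275)
theorem F51681 : act 5 n25843 = n25711 := d11_2 F51276 D25843 F51335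
def n25844 : Q := act 4 n25691
theorem D25844 : act 4 n25691 = n25844 := rfl
theorem F51682 : act 1 n25844 = n25693 := d7_1 D25844 (iv D25693) (iv F51275)
def n25845 : Q := act 4 n25692
theorem D25845 : act 4 n25692 = n25845 := rfl
theorem F51683 : act 0 n25845 = n25844 := d3_1 D25845 (iv D25844) (iv F51277)
theorem F51684 : act 1 n25845 = n25694 := d7_1 D25845 (iv D25694) (iv F51278)
def n25846 : Q := act 5 n25693
theorem D25846 : act 5 n25693 = n25846 := rfl
theorem F51685 : act 0 n25846 = n25730 := d4_1 D25846 (iv D25730) (iv F51280)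
theorem F51686 : act 2 n25846 = n25714 := d11_1 D25846 F51341 (iv F51281)
theorem F51687 : act 4 n25846 = n25713 := d14_1 D25846 (iv D25713) F50609 (iv F50560) D25693
def n25847 : Q := act 3 n25694
theorem D25847 : act 3 n25694 = n25847 := rfl
theorem F51688 : act 0 n25847 = n25731 := d2_1 D25847 (iv D25731) (iv F51282)
theorem F51689 : act 4 n25847 = n25712 := d12_2 D25694 D25847 (iv D25712) F50609 (iv F50563)
def n25848 : Q := act 5 n25696
theorem D25848 : act 5 n25696 = n25848 := rfl
theorem F51690 : act 0 n25848 = n25747 := d4_1 D25848 F51430 (iv F51289)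
theorem F51691 : act 1 n25848 = n25698 := d8_1 D25848 (iv D25698) D25696
theorem F51692 : act 2 n25848 = n25784 := d11_1 D25848 F51522 (iv F51290)
theorem F51693 : act 3 n25848 = n25746 := d13_1 D25848 F51428 F51292
def n25849 : Q := act 4 n25698
theorem D25849 : act 4 n25698 = n25849 := rfl
theorem F51694 : act 0 n25849 = n25721 := d3_1 D25849 F51356 (iv F51298)
theorem F51695 : act 2 n25849 = n25699 := d10_1 D25849 (iv D25699) (iv F51299)
theorem F51696 : act 5 n25849 = n25704 := d14_2 D25698 D25849 (iv D25704) (iv D25434) (iv F50573)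
def n25850 : Q := act 5 n25702
theorem D25850 : act 5 n25702 = n25850 := rfl
theorem F51697 : act 0 n25850 = n25703 := d4_1 D25850 (iv D25703) D25702
theorem F51698 : act 1 n25850 = n25719 := d8_1 D25850 F51350 (iv F51313)
theorem F51699 : act 3 n25850 = n25710 := d13_1 D25850 (iv F51402) (iv F51403)
def n25851 : Q := act 4 n25703
theorem D25851 : act 4 n25703 = n25851 := rfl
theorem F51700 : act 1 n25851 = n25704 := d7_1 D25851 (iv D25704) (iv F51315)
def n25852 : Q := act 3 n25704
theorem D25852 : act 3 n25704 = n25852 := rfl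
theorem F51701 : act 0 n25852 = n25717 := d2_1 D25852 F51346 (iv F51317)
theorem F51702 : act 4 n25852 = n25708 := d12_2 D25704 D25852 (iv D25708) F50603 (iv F50588)
def n25853 : Q := act 1 n25705
theorem D25853 : act 1 n25705 = n25853 := rfl
theorem F51703 : act 0 n25853 = n25818 := d0_1 D25853 F51619 F51099 (iv F50645) (iv F51319)
theorem F51704 : act 2 n25853 = n25776 := d5_2 D25705 D25853 F51498 F50871 (iv F50596)
theorem F51705 : act 3 n25853 = n25803 := d6_2 (iv F51320) D25853 F51575
theorem F51706 : act 4 n25853 = n25706 := d7_2 (iv F51321) D25853 (iv D25706)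
theorem F51707 : act 5 n25853 = n25770 := d8_2 (iv F51322) D25853 (iv D25770)
def n25854 : Q := act 3 n25707
theorem D25854 : act 3 n25707 = n25854 := rfl
theorem F51708 : act 1 n25854 = n25708 := d6_1 D25854 (iv D25708) D25707
def n25855 : Q := act 5 n25707
theorem D25855 : act 5 n25707 = n25855 := rfl
theorem F51709 : act 0 n25855 = n25734 := d4_1 D25855 (iv F51410) F51407
theorem F51710 : act 1 n25855 = n25709 := d8_1 D25855 (iv D25709) D25707
theorem F51711 : act 2 n25855 = n25722 := d11_1 D25855 (iv D25722) (iv F51326)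
theorem F51712 : act 4 n25855 = n25791 := d14_1 D25855 F51538 (iv F51273) F51274 (iv F51327)
def n25856 : Q := act 2 n25708
theorem D25856 : act 2 n25708 = n25856 := rfl
theorem F51713 : act 0 n25856 = n25716 := d1_1 D25856 (iv D25716) (iv F51328)
theorem F51714 : act 3 n25856 = n25713 := d9_2 D25708 D25856 F51337 F50611 F49455 (iv F49459) (iv F50616) (iv F51348) (iv F51374) (iv D25726) F50656 F50453 F49266 D24990 D25440
theorem F51715 : act 5 n25712 = n25856 := d13_0 F51714 (iv D25713) D25712
def n25857 : Q := act 5 n25708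
theorem D25857 : act 5 n25708 = n25857 := rfl
theorem F51716 : act 0 n25857 = n25718 := d4_1 D25857 (iv D25718) (iv F51328)
theorem F51717 : act 2 n25857 = n25712 := d11_1 D25857 F51715 (iv D25856)
theorem F51718 : act 3 n25857 = n25709 := d13_1 D25857 (iv D25709) D25708
def n25858 : Q := act 3 n25711
theorem D25858 : act 3 n25711 = n25858 := rfl
theorem F51719 : act 0 n25858 = n25837 := d2_1 D25858 (iv D25837) (iv F51334)
theorem F51720 : act 1 n25858 = n25712 := d6_1 D25858 (iv D25712) D25711
def n25859 : Q := act 4 n25715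
theorem D25859 : act 4 n25715 = n25859 := rfl
theorem F51721 : act 1 n25859 = n25717 := d7_1 D25859 (iv D25717) (iv F51342)
theorem F51722 : act 2 n25859 = n25782 := d10_1 D25859 F51517 (iv F51344)
theorem F51723 : act 3 n25859 = n25720 := d12_1 D25859 (iv D25720) (iv D25449) (iv F50613) D25715
theorem F51724 : act 5 n25859 = n25761 := d14_2 (iv F51343) D25859 (iv F51492) F51493 (iv D25736)
def n25860 : Q := act 4 n25716
theorem D25860 : act 4 n25716 = n25860 := rfl
theorem F51725 : act 1 n25860 = n25841 := d7_1 D25860 (iv D25841) (iv F51345)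
theorem F51726 : act 2 n25860 = n25717 := d10_1 D25860 (iv D25717) D25716
def n25861 : Q := act 5 n25717
theorem D25861 : act 5 n25717 = n25861 := rfl
theorem F51727 : act 1 n25861 = n25761 := d8_1 D25861 (iv F51724) F51721
theorem F51728 : act 3 n25861 = n25721 := d13_1 D25861 (iv D25721) (iv F51346)
def n25862 : Q := act 4 n25718
theorem D25862 : act 4 n25718 = n25862 := rfl
theorem F51729 : act 1 n25862 = n25736 := d7_1 D25862 (iv D25736) (iv F51347)
theorem F51730 : act 2 n25862 = n25731 := d10_1 D25862 F51387 F51374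
theorem F51731 : act 3 n25862 = n25790 := d12_1 D25862 (iv D25790) F50928 (iv F50617) (iv F51348)
def n25863 : Q := act 4 n25719
theorem D25863 : act 4 n25719 = n25863 := rfl
theorem F51732 : act 0 n25863 = n25720 := d3_1 D25863 (iv D25720) (iv F51349)
theorem F51733 : act 2 n25863 = n25760 := d10_1 D25863 (iv F51512) F51510
theorem F51734 : act 5 n25863 = n25748 := d14_2 (iv F51350) D25863 (iv D25748) F50733 D25510
def n25864 : Q := act 4 n25722
theorem D25864 : act 4 n25722 = n25864 := rfl
theorem F51735 : act 0 n25864 = n25742 := d3_1 D25864 F51419 (iv F51357)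
theorem F51736 : act 1 n25864 = n25723 := d7_1 D25864 (iv D25723) (iv F51358)
theorem F51737 : act 2 n25864 = n25791 := d10_1 D25864 (iv F51712) F51711
theorem F51738 : act 3 n25864 = n25738 := d12_1 D25864 (iv D25738) F50682 (iv F50689) (iv F51359)
theorem F51739 : act 5 n25864 = n25738 := d14_2 D25722 D25864 (iv D25738) (iv D25477) (iv F50623)
def n25865 : Q := act 5 n25728
theorem D25865 : act 5 n25728 = n25865 := rfl
theorem F51740 : act 3 n25865 = n25730 := d13_1 D25865 (iv D25730) (iv F51380)
def n25866 : Q := act 3 n25729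
theorem D25866 : act 3 n25729 = n25866 := rfl
theorem F51741 : act 1 n25866 = n25865 := d6_1 D25866 F51740 F51383
theorem F51742 : act 5 n25866 = n25731 := d13_2 (iv F51382) D25866 (iv D25731)
def n25867 : Q := act 3 n25732
theorem D25867 : act 3 n25732 = n25867 := rfl
theorem F51743 : act 0 n25867 = n25835 := d2_1 D25867 (iv D25835) (iv F51388)
theorem F51744 : act 1 n25867 = n25733 := d6_1 D25867 (iv D25733) D25732
theorem F51745 : act 5 n25867 = n25826 := d13_2 (iv F51391) D25867 (iv D25826)
def n25868 : Q := act 4 n25733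
theorem D25868 : act 4 n25733 = n25868 := rfl
theorem F51746 : act 0 n25868 = n25782 := d3_1 D25868 F51517 (iv F51392)
theorem F51747 : act 3 n25868 = n25766 := d12_1 D25868 F51472 F50895 (iv F50666) D25733
def n25869 : Q := act 3 n25734
theorem D25869 : act 3 n25734 = n25869 := rfl
theorem F51748 : act 1 n25869 = n25735 := d6_1 D25869 (iv D25735) D25734
def n25870 : Q := act 3 n25739
theorem D25870 : act 3 n25739 = n25870 := rfl
theorem F51749 : act 0 n25870 = n25854 := d2_1 D25870 (iv D25854) (iv F51407)
theorem F51750 : act 1 n25870 = n25740 := d6_1 D25870 (iv D25740) D25739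
theorem F51751 : act 5 n25870 = n25869 := d13_2 (iv F51410) D25870 (iv D25869)
def n25871 : Q := act 4 n25740
theorem D25871 : act 4 n25740 = n25871 := rfl
theorem F51752 : act 0 n25871 = n25859 := d3_1 D25871 (iv D25859) (iv F51411)
theorem F51753 : act 2 n25871 = n25868 := d10_1 D25871 (iv D25868) (iv F51412)
theorem F51754 : act 3 n25871 = n25863 := d12_1 D25871 (iv D25863) (iv D25719) (iv F50686) D25740
def n25872 : Q := act 5 n25741
theorem D25872 : act 5 n25741 = n25872 := rfl
theorem F51755 : act 0 n25872 = n25778 := d4_1 D25872 (iv D25778) (iv F51414)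
theorem F51756 : act 2 n25872 = n25773 := d11_1 D25872 F51493 (iv F51415)
theorem F51757 : act 3 n25872 = n25769 := d13_1 D25872 (iv D25769) (iv F51416)
def n25873 : Q := act 0 n25743
theorem D25873 : act 0 n25743 = n25873 := rfl
theorem F51758 : act 1 n25873 = n25811 := d0_2 D25743 D25873 F51600 (iv D25772) F50868
theorem F51759 : act 2 n25873 = n25749 := d1_2 (iv F51421) D25873 (iv D25749)
theorem F51760 : act 4 n25873 = n25746 := d3_2 (iv F51422) D25873 (iv D25746)
def n25874 : Q := act 3 n25743
theorem D25874 : act 3 n25743 = n25874 := rfl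
theorem F51761 : act 1 n25874 = n25744 := d6_1 D25874 (iv D25744) D25743
def n25875 : Q := act 5 n25743
theorem D25875 : act 5 n25743 = n25875 := rfl
theorem F51762 : act 1 n25875 = n25745 := d8_1 D25875 (iv D25745) D25743
theorem F51763 : act 2 n25875 = n25751 := d11_1 D25875 (iv D25751) (iv F51421)
theorem F51764 : act 4 n25875 = n25754 := d14_1 D25875 (iv D25754) F50772 (iv F50731) (iv F51422)
def n25876 : Q := act 4 n25744
theorem D25876 : act 4 n25744 = n25876 := rfl
theorem F51765 : act 0 n25876 = n25761 := d3_1 D25876 (iv F51492) F51491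
theorem F51766 : act 3 n25876 = n25748 := d12_1 D25876 (iv D25748) (iv D25494) (iv F50725) D25744
theorem F51767 : act 5 n25876 = n25871 := d14_2 (iv F51502) D25876 (iv D25871) F51413 (iv F51500)
def n25877 : Q := act 2 n25747
theorem D25877 : act 2 n25747 = n25877 := rfl
theorem F51768 : act 0 n25877 = n25784 := d1_1 D25877 (iv F51692) F51690
theorem F51769 : act 1 n25877 = n25758 := d5_1 D25877 (iv D25758) F50791 (iv F50734) (iv F51429)
theorem F51770 : act 3 n25877 = n25796 := d9_2 D25747 D25877 F51552 (iv D25590) F49912 (iv F49675) (iv F50776) F51292 F51290 F50931 F50422 (iv F49683) F49682 (iv F49638) (iv F50730)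
theorem F51771 : act 5 n25877 = n25755 := d11_2 (iv F51430) D25877 (iv D25755)
def n25878 : Q := act 4 n25747
theorem D25878 : act 4 n25747 = n25878 := rfl
theorem F51772 : act 1 n25878 = n25748 := d7_1 D25878 (iv D25748) (iv F51429)
def n25879 : Q := act 5 n25749
theorem D25879 : act 5 n25749 = n25879 := rfl
theorem F51773 : act 0 n25879 = n25751 := d4_1 D25879 (iv D25751) D25749
theorem F51774 : act 1 n25879 = n25757 := d8_1 D25879 F51456 (iv F51433)
theorem F51775 : act 4 n25879 = n25756 := d14_1 D25879 (iv D25756) F50779 (iv F50749) (iv F51434)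
def n25880 : Q := act 2 n25750
theorem D25880 : act 2 n25750 = n25880 := rfl
theorem F51776 : act 4 n25880 = n25762 := d10_2 (iv F51436) D25880 (iv D25762)
def n25881 : Q := act 5 n25750
theorem D25881 : act 5 n25750 = n25881 := rfl
theorem F51777 : act 1 n25881 = n25752 := d8_1 D25881 (iv D25752) (iv F51435)
theorem F51778 : act 3 n25881 = n25751 := d13_1 D25881 (iv D25751) D25750
def n25882 : Q := act 5 n25753
theorem D25882 : act 5 n25753 = n25882 := rfl
theorem F51779 : act 0 n25882 = n25754 := d4_1 D25882 (iv D25754) D25753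
theorem F51780 : act 1 n25882 = n25789 := d8_1 D25882 (iv D25789) (iv F51441)
theorem F51781 : act 2 n25882 = n25756 := d11_1 D25882 (iv D25756) (iv F51442)
theorem F51782 : act 3 n25882 = n25791 := d13_1 D25882 F51538 (iv F51443)
def n25883 : Q := act 3 n25758
theorem D25883 : act 3 n25758 = n25883 := rfl
theorem F51783 : act 0 n25883 = n25763 := d2_1 D25883 (iv D25763) (iv F51457)
theorem F51784 : act 1 n25883 = n25796 := d6_1 D25883 (iv F51770) F51769
theorem F51785 : act 2 n25883 = n25768 := d9_1 D25883 (iv D25768) (iv D25537) (iv D25122) (iv F49703) F49704 (iv F49853) D25573 (iv F51476) (iv D25767) (iv D25532) (iv D25111) (iv F49677) D25515 D25758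
theorem F51786 : act 5 n25883 = n25792 := d13_2 (iv F51458) D25883 (iv D25792)
def n25884 : Q := act 4 n25758
theorem D25884 : act 4 n25758 = n25884 := rfl
theorem F51787 : act 0 n25884 = n25764 := d3_1 D25884 (iv D25764) (iv F51457)
theorem F51788 : act 2 n25884 = n25759 := d10_1 D25884 (iv D25759) D25758
def n25885 : Q := act 5 n25759
theorem D25885 : act 5 n25759 = n25885 := rfl
theorem F51789 : act 0 n25885 = n25765 := d4_1 D25885 (iv D25765) (iv F51459)
theorem F51790 : act 1 n25885 = n25760 := d8_1 D25885 (iv D25760) (iv F51460)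
theorem F51791 : act 3 n25885 = n25765 := d13_1 D25885 (iv D25765) (iv F51461)
theorem F51792 : act 4 n25885 = n25795 := d14_1 D25885 (iv D25795) (iv D25576) (iv F50792) D25759
def n25886 : Q := act 2 n25761
theorem D25886 : act 2 n25761 = n25886 := rfl
theorem F51793 : act 3 n25886 = n25783 := d9_2 D25761 D25886 F51519 F50910 (iv F50824) (iv F51463) (iv F51733) (iv F51754) F51753 F51747 (iv D25766) (iv D25531) F49716 (iv F49681) (iv F50797)
theorem F51794 : act 4 n25886 = n25872 := d10_2 F51492 D25886 F51756
theorem F51795 : act 5 n25886 = n25782 := d11_2 F51724 D25886 (iv F51722)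
theorem F51796 : act 1 n25842 = n25886 := d8_3 F51795 F51516 D25842
def n25887 : Q := act 4 n25763
theorem D25887 : act 4 n25763 = n25887 := rfl
theorem F51797 : act 1 n25887 = n25786 := d7_1 D25887 (iv D25786) (iv F51465)
theorem F51798 : act 5 n25887 = n25887 := d14_2 (iv F51466) D25887 (iv D25887) F51466 F50934
def n25888 : Q := act 3 n25764
theorem D25888 : act 3 n25764 = n25888 := rfl
theorem F51799 : act 1 n25888 = n25787 := d6_1 D25888 (iv D25787) (iv F51467)
def n25889 : Q := act 5 n25764
theorem D25889 : act 5 n25764 = n25889 := rfl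
theorem F51800 : act 1 n25889 = n25788 := d8_1 D25889 (iv D25788) (iv F51467)
theorem F51801 : act 2 n25889 = n25765 := d11_1 D25889 (iv D25765) (iv F51468)
theorem F51802 : act 4 n25889 = n25794 := d14_1 D25889 (iv D25794) (iv D25574) (iv F50821) D25764
def n25890 : Q := act 1 n25766
theorem D25890 : act 1 n25766 = n25890 := rfl
theorem F51803 : act 0 n25890 = n25833 := d0_1 D25890 F51661 F51242 (iv F50907) (iv F51471)
theorem F51804 : act 4 n25890 = n25781 := d7_2 (iv F51472) D25890 (iv D25781)
def n25891 : Q := act 4 n25768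
theorem D25891 : act 4 n25768 = n25891 := rfl
theorem F51805 : act 1 n25891 = n25800 := d7_1 D25891 (iv D25800) (iv F51477)
theorem F51806 : act 5 n25891 = n25891 := d14_2 (iv F51478) D25891 (iv D25891) F51478 F50975
def n25892 : Q := act 3 n25770
theorem D25892 : act 3 n25770 = n25892 := rfl
theorem F51807 : act 0 n25892 = n25820 := d2_1 D25892 (iv D25820) (iv F51482)
theorem F51808 : act 1 n25892 = n25771 := d6_1 D25892 (iv D25771) D25770
theorem F51809 : act 4 n25892 = n25821 := d12_2 (iv F51484) D25892 (iv D25821) F51121 (iv F50866)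
theorem F51810 : act 5 n25892 = n25803 := d13_2 F51707 D25892 (iv F51705)
def n25893 : Q := act 3 n25772
theorem D25893 : act 3 n25772 = n25893 := rfl
theorem F51811 : act 1 n25893 = n25773 := d6_1 D25893 (iv D25773) D25772
theorem F51812 : act 4 n25893 = n25861 := d12_2 (iv F51490) D25893 F51728 F51356 (iv F51307)
theorem F51813 : act 5 n25893 = n25862 := d13_2 F51536 D25893 F51731
theorem F51814 : act 2 n25893 = n25866 := d15_2 (iv F51489) D25893 (iv D25866) F51381 F50661 (iv F50958) (iv F51561) F51562 (iv F51309)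
def n25894 : Q := act 3 n25774
theorem D25894 : act 3 n25774 = n25894 := rfl
theorem F51815 : act 0 n25894 = n25775 := d2_1 D25894 (iv D25775) D25774
theorem F51816 : act 1 n25894 = n25819 := d6_1 D25894 (iv D25819) (iv F51494)
def n25895 : Q := act 5 n25774
theorem D25895 : act 5 n25774 = n25895 := rfl
theorem F51817 : act 0 n25895 = n25776 := d4_1 D25895 (iv D25776) D25774
theorem F51818 : act 1 n25895 = n25817 := d8_1 D25895 F51618 (iv F51494)
theorem F51819 : act 2 n25895 = n25818 := d11_1 D25895 F51621 (iv F51495)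
theorem F51820 : act 4 n25895 = n25816 := d14_1 D25895 F51615 (iv D25639) (iv F50874) (iv F51496)
def n25896 : Q := act 2 n25775
theorem D25896 : act 2 n25775 = n25896 := rfl
def n25897 : Q := act 5 n25775
theorem D25897 : act 5 n25775 = n25897 := rfl
theorem F51821 : act 1 n25897 = n25778 := d8_1 D25897 (iv D25778) (iv F51497)
theorem F51822 : act 3 n25897 = n25776 := d13_1 D25897 (iv D25776) D25775
def n25898 : Q := act 1 n25777
theorem D25898 : act 1 n25777 = n25898 := rfl
theorem F51823 : act 3 n25898 = n25875 := d6_2 (iv F51501) D25898 F51762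
theorem F51824 : act 4 n25898 = n25869 := d7_2 (iv F51500) D25898 F51748
theorem F51825 : act 5 n25898 = n25874 := d8_2 F51502 D25898 F51761
def n25899 : Q := act 4 n25778
theorem D25899 : act 4 n25778 = n25899 := rfl
theorem F51826 : act 0 n25899 = n25886 := d3_1 D25899 F51794 F51755
theorem F51827 : act 2 n25899 = n25876 := d10_1 D25899 (iv D25876) (iv F51503)
theorem F51828 : act 3 n25899 = n25815 := d12_1 D25899 (iv D25815) (iv F51148) F51149 (iv F51504)
theorem F51829 : act 5 n25899 = n25868 := d14_2 D25778 D25899 (iv D25868) F51393 F51151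
def n25900 : Q := act 4 n25784
theorem D25900 : act 4 n25784 = n25900 := rfl
theorem F51830 : act 1 n25900 = n25785 := d7_1 D25900 (iv D25785) D25784
def n25901 : Q := act 3 n25785
theorem D25901 : act 3 n25785 = n25901 := rfl
theorem F51831 : act 0 n25901 = n25787 := d2_1 D25901 (iv D25787) (iv F51523)
theorem F51832 : act 4 n25901 = n25798 := d12_2 D25785 D25901 (iv D25798) (iv D25580) (iv F50913)
theorem F51833 : act 2 n25901 = n25901 := d15_2 (iv F51524) D25901 (iv D25901) F51524 F50916 (iv F50076) (iv F50922) (iv D25566) (iv F50915)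
def n25902 : Q := act 3 n25786
theorem D25902 : act 3 n25786 = n25902 := rfl
theorem F51834 : act 0 n25902 = n25798 := d2_1 D25902 (iv D25798) (iv F51525)
theorem F51835 : act 2 n25902 = n25902 := d9_1 D25902 (iv D25902) F51526 F50945 F50074 (iv F49867) (iv F50949) D25798 F51558 (iv D25798) F50949 F49867 (iv F50074) (iv F50945) (iv F51526)
theorem F51836 : act 4 n25902 = n25787 := d12_2 D25786 D25902 (iv D25787) (iv D25565) D25564
theorem F51837 : act 5 n25902 = n25902 := d13_2 F51527 D25902 (iv D25902)
def n25903 : Q := act 5 n25787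
theorem D25903 : act 5 n25787 = n25903 := rfl
theorem F51838 : act 2 n25903 = n25903 := d11_1 D25903 (iv D25903) F51528
theorem F51839 : act 3 n25903 = n25788 := d13_1 D25903 (iv D25788) D25787
theorem F51840 : act 4 n25903 = n25903 := d14_1 D25903 (iv D25903) (iv F51836) F51837 F51836
def n25904 : Q := act 4 n25789
theorem D25904 : act 4 n25789 = n25904 := rfl
theorem F51841 : act 0 n25904 = n25790 := d3_1 D25904 (iv D25790) (iv F51531)
theorem F51842 : act 2 n25904 = n25799 := d10_1 D25904 (iv D25799) (iv F51532)
theorem F51843 : act 5 n25904 = n25811 := d14_2 D25789 D25904 (iv D25811) F51297 F51295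
def n25905 : Q := act 5 n25793
theorem D25905 : act 5 n25793 = n25905 := rfl
theorem F51844 : act 0 n25905 = n25794 := d4_1 D25905 (iv D25794) (iv F51543)
theorem F51845 : act 2 n25905 = n25795 := d11_1 D25905 (iv D25795) (iv F51544)
theorem F51846 : act 3 n25905 = n25905 := d13_1 D25905 (iv D25905) F51545
def n25906 : Q := act 4 n25796
theorem D25906 : act 4 n25796 = n25906 := rfl
theorem F51847 : act 0 n25906 = n25797 := d3_1 D25906 (iv D25797) D25796
theorem F51848 : act 2 n25906 = n25801 := d10_1 D25906 (iv D25801) (iv F51552)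
theorem F51849 : act 5 n25906 = n25906 := d14_2 (iv F51553) D25906 (iv D25906) F51553 F51186
def n25907 : Q := act 3 n25797
theorem D25907 : act 3 n25797 = n25907 := rfl
theorem F51850 : act 1 n25907 = n25798 := d6_1 D25907 (iv D25798) (iv F51554)
theorem F51851 : act 5 n25907 = n25907 := d13_2 F51556 D25907 (iv D25907)
def n25908 : Q := act 4 n25802
theorem D25908 : act 4 n25802 = n25908 := rfl
theorem F51852 : act 0 n25908 = n25824 := d3_1 D25908 F51634 (iv F51570)
theorem F51853 : act 1 n25908 = n25880 := d7_1 D25908 F51776 (iv F51571)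
theorem F51854 : act 2 n25908 = n25803 := d10_1 D25908 (iv D25803) D25802
def n25909 : Q := act 3 n25804
theorem D25909 : act 3 n25804 = n25909 := rfl
theorem F51855 : act 0 n25909 = n25826 := d2_1 D25909 (iv D25826) (iv F51576)
theorem F51856 : act 1 n25909 = n25805 := d6_1 D25909 (iv D25805) (iv F51577)
theorem F51857 : act 4 n25909 = n25894 := d12_2 D25804 D25909 (iv D25894) F51496 (iv F50997)
theorem F51858 : act 5 n25909 = n25835 := d13_2 (iv F51579) D25909 (iv D25835)
def n25910 : Q := act 5 n25806
theorem D25910 : act 5 n25806 = n25910 := rfl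
theorem F51859 : act 1 n25910 = n25872 := d8_1 D25910 (iv D25872) (iv F51583)
theorem F51860 : act 2 n25910 = n25865 := d11_1 D25910 (iv D25865) (iv F51585)
theorem F51861 : act 3 n25910 = n25807 := d13_1 D25910 (iv D25807) D25806
theorem F51862 : act 4 n25910 = n25842 := d14_1 D25910 (iv D25842) (iv D25686) (iv F51004) (iv F51584)
def n25911 : Q := act 1 n25808
theorem D25911 : act 1 n25808 = n25911 := rfl
theorem F51863 : act 0 n25911 = n25891 := d0_1 D25911 F51805 F51563 (iv F51024) (iv F51589)
theorem F51864 : act 2 n25911 = n25887 := d5_2 D25808 D25911 F51797 F51526 (iv F51019)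
theorem F51865 : act 3 n25911 = n25891 := d6_2 (iv F51590) D25911 F51805
theorem F51866 : act 4 n25911 = n25809 := d7_2 (iv F51591) D25911 (iv D25809)
theorem F51867 : act 5 n25911 = n25911 := d8_2 F51592 D25911 (iv D25911)
def n25912 : Q := act 1 n25810
theorem D25912 : act 1 n25810 = n25912 := rfl
theorem F51868 : act 2 n25912 = n25851 := d5_2 D25810 D25912 F51700 F51318 (iv F51048)
theorem F51869 : act 4 n25912 = n25813 := d7_2 (iv F51598) D25912 F51606
theorem F51870 : act 5 n25912 = n25900 := d8_2 (iv F51599) D25912 F51830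
def n25913 : Q := act 3 n25810
theorem D25913 : act 3 n25810 = n25913 := rfl
theorem F51871 : act 0 n25913 = n25903 := d2_1 D25913 F51839 (iv F51597)
theorem F51872 : act 2 n25913 = n25913 := d9_1 D25913 (iv D25913) (iv D25810) (iv D25611) F50083 (iv F49838) (iv F50920) D25787 F51528 (iv D25787) F50920 F49838 (iv F50083) D25611 D25810
theorem F51873 : act 4 n25913 = n25913 := d12_2 (iv F51598) D25913 (iv D25913) F51598 F51072
theorem F51874 : act 5 n25913 = n25901 := d13_2 (iv F51599) D25913 (iv D25901)
def n25914 : Q := act 3 n25811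
theorem D25914 : act 3 n25811 = n25914 := rfl
theorem F51875 : act 0 n25914 = n25893 := d2_1 D25914 (iv D25893) (iv F51600)
def n25915 : Q := act 5 n25812
theorem D25915 : act 5 n25812 = n25915 := rfl
theorem F51876 : act 0 n25915 = n25813 := d4_1 D25915 (iv D25813) D25812
theorem F51877 : act 1 n25915 = n25905 := d8_1 D25915 (iv D25905) (iv F51602)
theorem F51878 : act 2 n25915 = n25850 := d11_1 D25915 (iv D25850) (iv F51603)
theorem F51879 : act 3 n25915 = n25915 := d13_1 D25915 (iv D25915) F51604
def n25916 : Q := act 4 n25814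
theorem D25916 : act 4 n25814 = n25916 := rfl
theorem F51880 : act 1 n25916 = n25815 := d7_1 D25916 (iv D25815) (iv F51609)
theorem F51881 : act 2 n25916 = n25833 := d10_1 D25916 (iv D25833) (iv F51610)
theorem F51882 : act 5 n25916 = n25890 := d14_2 D25814 D25916 F51804 F51515 (iv F51074)
def n25917 : Q := act 3 n25817
theorem D25917 : act 3 n25817 = n25917 := rfl
theorem F51883 : act 0 n25917 = n25910 := d2_1 D25917 F51861 (iv F51616)
theorem F51884 : act 5 n25917 = n25819 := d13_2 (iv F51618) D25917 (iv D25819)
def n25918 : Q := act 2 n25820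
theorem D25918 : act 2 n25820 = n25918 := rfl
theorem F51885 : act 1 n25918 = n25822 := d5_1 D25918 (iv D25822) F51123 (iv F51111) (iv F51624)
theorem F51886 : act 4 n25918 = n25822 := d10_2 (iv F51625) D25918 (iv D25822)
theorem F51887 : act 5 n25918 = n25824 := d11_2 (iv F51626) D25918 F51633
def n25919 : Q := act 2 n25821
theorem D25919 : act 2 n25821 = n25919 := rfl
theorem F51888 : act 0 n25919 = n25822 := d1_1 D25919 (iv D25822) (iv F51627)
theorem F51889 : act 5 n25919 = n25823 := d11_2 (iv F51629) D25919 (iv D25823)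
def n25920 : Q := act 3 n25822
theorem D25920 : act 3 n25822 = n25920 := rfl
theorem F51890 : act 5 n25920 = n25825 := d13_2 (iv F51630) D25920 (iv D25825)
def n25921 : Q := act 1 n25823
theorem D25921 : act 1 n25823 = n25921 := rfl
theorem F51891 : act 0 n25921 = n25880 := d0_1 D25921 (iv F51853) F51852 (iv D25824) (iv F51631)
theorem F51892 : act 2 n25921 = n25829 := d5_2 D25823 D25921 F51648 F51169 (iv F51132)
theorem F51893 : act 4 n25921 = n25828 := d7_2 (iv F51632) D25921 (iv D25828)
def n25922 : Q := act 3 n25823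
theorem D25922 : act 3 n25823 = n25922 := rfl
theorem F51894 : act 0 n25922 = n25825 := d2_1 D25922 (iv D25825) (iv F51631)
theorem F51895 : act 4 n25922 = n25922 := d12_2 (iv F51632) D25922 (iv D25922) F51632 F51161
theorem F51896 : act 2 n25922 = n25825 := d15_2 D25823 D25922 (iv D25825) (iv D25642) (iv D25333) (iv F50294) D25638 F51124 (iv F51131)
def n25923 : Q := act 3 n25824
theorem D25923 : act 3 n25824 = n25923 := rfl
theorem F51897 : act 1 n25923 = n25825 := d6_1 D25923 (iv D25825) D25824
theorem F51898 : act 4 n25923 = n25923 := d12_2 (iv F51634) D25923 (iv D25923) F51634 F51163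
def n25924 : Q := act 2 n25826
theorem D25924 : act 2 n25826 = n25924 := rfl
theorem F51899 : act 4 n25924 = n25896 := d10_2 (iv F51637) D25924 (iv D25896)
theorem F51900 : act 3 n25924 = n25924 := d15_1 D25924 (iv D25924) (iv D25826) F51141 (iv F50566) (iv F51244) D25835 (iv F51858) F51855
def n25925 : Q := act 5 n25829
theorem D25925 : act 5 n25829 = n25925 := rfl
theorem F51901 : act 0 n25925 = n25881 := d4_1 D25925 (iv D25881) (iv F51647)
theorem F51902 : act 1 n25925 = n25830 := d8_1 D25925 (iv D25830) (iv F51648)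
theorem F51903 : act 3 n25925 = n25879 := d13_1 D25925 (iv D25879) (iv F51649)
theorem F51904 : act 4 n25925 = n25881 := d14_1 D25925 (iv D25881) F51436 (iv F51167) D25829
def n25926 : Q := act 4 n25831
theorem D25926 : act 4 n25831 = n25926 := rfl
theorem F51905 : act 0 n25926 = n25916 := d3_1 D25926 (iv D25916) (iv F51654)
theorem F51906 : act 1 n25926 = n25832 := d7_1 D25926 (iv D25832) (iv F51655)
theorem F51907 : act 2 n25926 = n25890 := d10_1 D25926 F51804 (iv F51656)
theorem F51908 : act 5 n25926 = n25833 := d14_2 D25831 D25926 (iv D25833) (iv D25677) (iv F51232)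
def n25927 : Q := act 3 n25832
theorem D25927 : act 3 n25832 = n25927 := rfl
theorem F51909 : act 0 n25927 = n25842 := d2_1 D25927 F51678 (iv F51658)
theorem F51910 : act 4 n25927 = n25917 := d12_2 D25832 D25927 (iv D25917) (iv D25817) (iv F51235)
theorem F51911 : act 5 n25927 = n25834 := d13_2 (iv F51660) D25927 (iv D25834)
def n25928 : Q := act 3 n25833
theorem D25928 : act 3 n25833 = n25928 := rfl
theorem F51912 : act 1 n25928 = n25834 := d6_1 D25928 (iv D25834) (iv F51661)
theorem F51913 : act 4 n25928 = n25835 := d12_2 D25833 D25928 (iv D25835) F51245 (iv F51241)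
def n25929 : Q := act 2 n25834
theorem D25929 : act 2 n25834 = n25929 := rfl
theorem F51914 : act 0 n25929 = n25841 := d1_1 D25929 F51677 (iv F51662)
theorem F51915 : act 4 n25929 = n25836 := d10_2 (iv F51663) D25929 (iv D25836)
def n25930 : Q := act 2 n25835
theorem D25930 : act 2 n25835 = n25930 := rfl
theorem F51916 : act 3 n25930 = n25930 := d9_2 D25835 D25930 (iv D25930) (iv D25835) F51244 F50566 (iv F51141) D25826 D25924 F51900 (iv D25924) (iv D25826) F51141 (iv F50566) (iv F51244)
def n25931 : Q := act 1 n25836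
theorem D25931 : act 1 n25836 = n25931 := rfl
theorem F51917 : act 3 n25931 = n25838 := d6_2 (iv F51666) D25931 F51669
theorem F51918 : act 5 n25931 = n25837 := d8_2 (iv F51667) D25931 F51668
def n25932 : Q := act 2 n25837
theorem D25932 : act 2 n25837 = n25932 := rfl
theorem F51919 : act 3 n25932 = n25932 := d15_3 (iv F51247) D25837 D25932 (iv D25932) (iv D25837) F51247 D25691 (iv F51276) F50622
def n25933 : Q := act 4 n25837
theorem D25933 : act 4 n25837 = n25933 := rfl
theorem F51920 : act 1 n25933 = n25839 := d7_1 D25933 (iv D25839) (iv F51668)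
theorem F51921 : act 3 n25933 = n25844 := d12_1 D25933 (iv D25844) (iv D25691) (iv F51248) D25837
def n25934 : Q := act 4 n25838
theorem D25934 : act 4 n25838 = n25934 := rfl
theorem F51922 : act 1 n25934 = n25840 := d7_1 D25934 (iv D25840) (iv F51669)
theorem F51923 : act 2 n25934 = n25845 := d10_1 D25934 (iv D25845) (iv F51670)
theorem F51924 : act 5 n25934 = n25845 := d14_2 D25838 D25934 (iv D25845) (iv D25692) (iv F51248)
def n25935 : Q := act 5 n25839
theorem D25935 : act 5 n25839 = n25935 := rfl
theorem F51925 : act 0 n25935 = n25865 := d4_1 D25935 (iv D25865) (iv F51671)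
theorem F51926 : act 2 n25935 = n25917 := d11_1 D25935 F51884 (iv F51672)
theorem F51927 : act 3 n25935 = n25846 := d13_1 D25935 (iv D25846) (iv F51673)
def n25936 : Q := act 3 n25840
theorem D25936 : act 3 n25840 = n25936 := rfl
theorem F51928 : act 0 n25936 = n25866 := d2_1 D25936 (iv D25866) (iv F51674)
theorem F51929 : act 2 n25936 = n25914 := d9_1 D25936 (iv D25914) F51601 F51052 F50479 (iv F49537) (iv F50664) D25731 (iv F51730) F51731 F51535 (iv F51269) F51268 (iv F51254) (iv F51675)
theorem F51930 : act 5 n25936 = n25847 := d13_2 (iv F51676) D25936 (iv D25847)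
def n25937 : Q := act 3 n25841
theorem D25937 : act 3 n25841 = n25937 := rfl
theorem F51931 : act 4 n25937 = n25866 := d12_2 D25841 D25937 (iv D25866) (iv D25729) (iv F51257)
theorem F51932 : act 2 n25937 = n25861 := d15_2 (iv F51677) D25937 F51728 F51355 (iv F51238) (iv F51659) D25927 F51911 F51662
theorem F51933 : act 5 n25860 = n25937 := d11_0 F51932 (iv D25861) (iv F51726)
def n25938 : Q := act 5 n25841
theorem D25938 : act 5 n25841 = n25938 := rfl
theorem F51934 : act 1 n25938 = n25937 := d8_1 D25938 (iv F51933) F51725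
theorem F51935 : act 2 n25938 = n25842 := d11_1 D25938 (iv D25842) (iv F51677)
theorem F51936 : act 3 n25938 = n25860 := d13_1 D25938 F51933 (iv D25937)
theorem F51937 : act 4 n25938 = n25865 := d14_1 D25938 (iv D25865) (iv D25728) (iv F51256) D25841
def n25939 : Q := act 3 n25843
theorem D25939 : act 3 n25843 = n25939 := rfl
theorem F51938 : act 0 n25939 = n25931 := d2_1 D25939 F51917 (iv F51679)
theorem F51939 : act 1 n25939 = n25856 := d6_1 D25939 F51714 (iv F51680)
theorem F51940 : act 5 n25939 = n25858 := d13_2 (iv F51681) D25939 (iv D25858)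
def n25940 : Q := act 4 n25843
theorem D25940 : act 4 n25843 = n25940 := rfl
theorem F51941 : act 0 n25940 = n25934 := d3_1 D25940 (iv D25934) (iv F51679)
theorem F51942 : act 1 n25940 = n25846 := d7_1 D25940 F51687 (iv F51680)
theorem F51943 : act 2 n25940 = n25844 := d10_1 D25940 (iv D25844) D25843
theorem F51944 : act 5 n25940 = n25844 := d14_2 (iv F51681) D25940 (iv D25844) (iv F51276) (iv F51336)
def n25941 : Q := act 3 n25845
theorem D25941 : act 3 n25845 = n25941 := rfl
theorem F51945 : act 0 n25941 = n25933 := d2_1 D25941 F51921 (iv F51683)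
theorem F51946 : act 1 n25941 = n25847 := d6_1 D25941 (iv D25847) (iv F51684)
theorem F51947 : act 4 n25941 = n25858 := d12_2 D25845 D25941 (iv D25858) F51336 (iv F51279)
def n25942 : Q := act 2 n25847
theorem D25942 : act 2 n25847 = n25942 := rfl
theorem F51948 : act 0 n25942 = n25862 := d1_1 D25942 F51730 (iv F51688)
theorem F51949 : act 3 n25942 = n25904 := d9_2 D25847 D25942 F51842 F51561 F50958 (iv F50661) (iv F51381) D25866 (iv F51814) (iv D25893) F51489 F51311 F50585 (iv F50565) (iv F51283)
theorem F51950 : act 4 n25942 = n25857 := d10_2 (iv F51689) D25942 F51717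
theorem F51951 : act 5 n25942 = n25914 := d11_2 F51930 D25942 (iv F51929)
def n25943 : Q := act 4 n25848
theorem D25943 : act 4 n25848 = n25943 := rfl
theorem F51952 : act 0 n25943 = n25878 := d3_1 D25943 (iv D25878) (iv F51690)
theorem F51953 : act 1 n25943 = n25849 := d7_1 D25943 (iv D25849) (iv F51691)
theorem F51954 : act 2 n25943 = n25900 := d10_1 D25943 (iv D25900) (iv F51692)
theorem F51955 : act 5 n25943 = n25851 := d14_2 D25848 D25943 (iv D25851) (iv D25703) (iv F51291)
def n25944 : Q := act 3 n25849
theorem D25944 : act 3 n25849 = n25944 := rfl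
theorem F51956 : act 0 n25944 = n25861 := d2_1 D25944 F51728 (iv F51694)
theorem F51957 : act 4 n25944 = n25914 := d12_2 D25849 D25944 (iv D25914) (iv D25811) (iv F51300)
theorem F51958 : act 5 n25944 = n25852 := d13_2 (iv F51696) D25944 (iv D25852)
def n25945 : Q := act 4 n25850
theorem D25945 : act 4 n25850 = n25945 := rfl
theorem F51959 : act 0 n25945 = n25851 := d3_1 D25945 (iv D25851) (iv F51697)
theorem F51960 : act 1 n25945 = n25863 := d7_1 D25945 (iv D25863) (iv F51698)
theorem F51961 : act 5 n25945 = n25878 := d14_2 D25850 D25945 (iv D25878) F51430 (iv F51314)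
def n25946 : Q := act 3 n25851
theorem D25946 : act 3 n25851 = n25946 := rfl
theorem F51962 : act 1 n25946 = n25852 := d6_1 D25946 (iv D25852) (iv F51700)
theorem F51963 : act 4 n25946 = n25854 := d12_2 D25851 D25946 (iv D25854) F51327 (iv F51316)
def n25947 : Q := act 2 n25852
theorem D25947 : act 2 n25852 = n25947 := rfl
theorem F51964 : act 0 n25947 = n25860 := d1_1 D25947 F51726 (iv F51701)
theorem F51965 : act 4 n25947 = n25856 := d10_2 (iv F51702) D25947 (iv D25856)
def n25948 : Q := act 2 n25854
theorem D25948 : act 2 n25854 = n25948 := rfl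
theorem F51966 : act 3 n25948 = n25948 := d15_1 D25948 (iv D25948) (iv D25854) F51326 (iv F51193) (iv F51394) D25869 (iv F51751) F51749
def n25949 : Q := act 5 n25854
theorem D25949 : act 5 n25854 = n25949 := rfl
theorem F51967 : act 0 n25949 = n25869 := d4_1 D25949 (iv F51751) F51749
theorem F51968 : act 1 n25949 = n25857 := d8_1 D25949 (iv D25857) (iv F51708)
theorem F51969 : act 3 n25949 = n25855 := d13_1 D25949 (iv D25855) D25854
def n25950 : Q := act 2 n25858
theorem D25950 : act 2 n25858 = n25950 := rfl
theorem F51970 : act 0 n25950 = n25932 := d1_1 D25950 (iv D25932) (iv F51719)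
theorem F51971 : act 3 n25950 = n25950 := d15_1 D25950 (iv D25950) (iv D25858) F51335 (iv F51279) (iv F51670) (iv F51917) F51918 (iv F51719)
def n25951 : Q := act 2 n25867
theorem D25951 : act 2 n25867 = n25951 := rfl
theorem F51972 : act 0 n25951 = n25930 := d1_1 D25951 (iv D25930) (iv F51743)
theorem F51973 : act 5 n25951 = n25924 := d11_2 (iv F51745) D25951 (iv D25924)
theorem F51974 : act 3 n25951 = n25951 := d15_1 D25951 (iv D25951) (iv D25867) F51389 (iv F51138) (iv F51578) D25909 F51858 (iv F51743)
def n25952 : Q := act 4 n25867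
theorem D25952 : act 4 n25867 = n25952 := rfl
theorem F51975 : act 0 n25952 = n25928 := d3_1 D25952 F51913 (iv F51743)
theorem F51976 : act 1 n25952 = n25868 := d7_1 D25952 (iv D25868) (iv F51744)
theorem F51977 : act 3 n25952 = n25890 := d12_1 D25952 F51804 F51514 (iv F51390) D25867
def n25953 : Q := act 2 n25869
theorem D25953 : act 2 n25869 = n25953 := rfl
theorem F51978 : act 1 n25953 = n25924 := d5_1 D25953 (iv D25924) F51636 (iv F51397) (iv F51748)
theorem F51979 : act 3 n25953 = n25953 := d9_2 D25869 D25953 (iv D25953) (iv D25869) F51394 F51193 (iv F51326) D25854 D25948 F51966 (iv D25948) (iv D25854) F51326 (iv F51193) (iv F51394)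
def n25954 : Q := act 2 n25870
theorem D25954 : act 2 n25870 = n25954 := rfl
theorem F51980 : act 0 n25954 = n25948 := d1_1 D25954 (iv D25948) (iv F51749)
theorem F51981 : act 1 n25954 = n25951 := d5_1 D25954 (iv D25951) F51744 (iv F51412) (iv F51750)
theorem F51982 : act 5 n25954 = n25953 := d11_2 (iv F51751) D25954 (iv D25953)
theorem F51983 : act 3 n25954 = n25954 := d15_1 D25954 (iv D25954) (iv D25870) F51408 (iv F51359) (iv F51711) (iv F51969) (iv D25949) (iv F51749)
def n25955 : Q := act 4 n25870
theorem D25955 : act 4 n25870 = n25955 := rfl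
theorem F51984 : act 0 n25955 = n25946 := d3_1 D25955 F51963 (iv F51749)
theorem F51985 : act 1 n25955 = n25871 := d7_1 D25955 (iv D25871) (iv F51750)
theorem F51986 : act 3 n25955 = n25945 := d12_1 D25955 (iv D25945) F51699 (iv F51409) D25870
def n25956 : Q := act 3 n25873
theorem D25956 : act 3 n25873 = n25956 := rfl
theorem F51987 : act 0 n25956 = n25874 := d2_1 D25956 (iv D25874) D25873
theorem F51988 : act 1 n25956 = n25914 := d6_1 D25956 (iv D25914) (iv F51758)
def n25957 : Q := act 5 n25873
theorem D25957 : act 5 n25873 = n25957 := rfl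
theorem F51989 : act 0 n25957 = n25875 := d4_1 D25957 (iv D25875) D25873
theorem F51990 : act 1 n25957 = n25904 := d8_1 D25957 F51843 (iv F51758)
theorem F51991 : act 2 n25957 = n25879 := d11_1 D25957 (iv D25879) (iv F51759)
theorem F51992 : act 4 n25957 = n25882 := d14_1 D25957 (iv D25882) F51444 (iv F51428) (iv F51760)
def n25958 : Q := act 2 n25874
theorem D25958 : act 2 n25874 = n25958 := rfl
def n25959 : Q := act 4 n25874
theorem D25959 : act 4 n25874 = n25959 := rfl
theorem F51993 : act 1 n25959 = n25876 := d7_1 D25959 (iv D25876) (iv F51761)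
theorem F51994 : act 3 n25959 = n25878 := d12_1 D25959 (iv D25878) (iv D25747) (iv F51422) D25874
theorem F51995 : act 5 n25959 = n25955 := d14_2 F51825 D25959 (iv D25955) F51751 (iv F51824)
def n25960 : Q := act 4 n25877
theorem D25960 : act 4 n25877 = n25960 := rfl
theorem F51996 : act 0 n25960 = n25900 := d3_1 D25960 (iv D25900) (iv F51768)
theorem F51997 : act 1 n25960 = n25884 := d7_1 D25960 (iv D25884) (iv F51769)
theorem F51998 : act 2 n25960 = n25878 := d10_1 D25960 (iv D25878) D25877
def n25961 : Q := act 3 n25880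
theorem D25961 : act 3 n25880 = n25961 := rfl
theorem F51999 : act 4 n25961 = n25961 := d12_2 (iv F51776) D25961 (iv D25961) F51776 F51464
def n25962 : Q := act 5 n25880
theorem D25962 : act 5 n25880 = n25962 := rfl
theorem F52000 : act 2 n25962 = n25881 := d11_1 D25962 (iv D25881) D25880
def n25963 : Q := act 4 n25883
theorem D25963 : act 4 n25883 = n25963 := rfl
theorem F52001 : act 0 n25963 = n25887 := d3_1 D25963 (iv D25887) (iv F51783)
theorem F52002 : act 1 n25963 = n25906 := d7_1 D25963 (iv D25906) (iv F51784)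
theorem F52003 : act 2 n25963 = n25891 := d10_1 D25963 (iv D25891) (iv F51785)
theorem F52004 : act 5 n25963 = n25963 := d14_2 (iv F51786) D25963 (iv D25963) F51786 F51542
def n25964 : Q := act 3 n25884
theorem D25964 : act 3 n25884 = n25964 := rfl
theorem F52005 : act 0 n25964 = n25888 := d2_1 D25964 (iv D25888) (iv F51787)
def n25965 : Q := act 5 n25884
theorem D25965 : act 5 n25884 = n25965 := rfl
theorem F52006 : act 0 n25965 = n25889 := d4_1 D25965 (iv D25889) (iv F51787)
theorem F52007 : act 2 n25965 = n25885 := d11_1 D25965 (iv D25885) (iv F51788)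
theorem F52008 : act 4 n25965 = n25905 := d14_1 D25965 (iv D25905) (iv D25793) (iv F51458) D25884
def n25966 : Q := act 3 n25887
theorem D25966 : act 3 n25887 = n25966 := rfl
theorem F52009 : act 1 n25966 = n25902 := d6_1 D25966 (iv D25902) (iv F51797)
theorem F52010 : act 4 n25966 = n25888 := d12_2 D25887 D25966 (iv D25888) (iv D25764) D25763
theorem F52011 : act 5 n25966 = n25966 := d13_2 F51798 D25966 (iv D25966)
def n25967 : Q := act 2 n25888
theorem D25967 : act 2 n25888 = n25967 := rfl
theorem F52012 : act 1 n25967 = n25967 := d5_1 D25967 (iv D25967) F51799 F51528 (iv F51799)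
def n25968 : Q := act 5 n25888
theorem D25968 : act 5 n25888 = n25968 := rfl
theorem F52013 : act 1 n25968 = n25903 := d8_1 D25968 (iv D25903) (iv F51799)
theorem F52014 : act 3 n25968 = n25889 := d13_1 D25968 (iv D25889) D25888
theorem F52015 : act 4 n25968 = n25968 := d14_1 D25968 (iv D25968) (iv F52010) F52011 F52010
def n25969 : Q := act 2 n25892
theorem D25969 : act 2 n25892 = n25969 := rfl
theorem F52016 : act 0 n25969 = n25918 := d1_1 D25969 (iv D25918) (iv F51807)
theorem F52017 : act 1 n25969 = n25962 := d5_1 D25969 F52000 F51777 (iv F51486) (iv F51808)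
theorem F52018 : act 4 n25969 = n25919 := d10_2 (iv F51809) D25969 (iv D25919)
theorem F52019 : act 5 n25969 = n25908 := d11_2 (iv F51810) D25969 F51854
def n25970 : Q := act 2 n25894
theorem D25970 : act 2 n25894 = n25970 := rfl
theorem F52020 : act 0 n25970 = n25896 := d1_1 D25970 (iv D25896) (iv F51815)
def n25971 : Q := act 5 n25894
theorem D25971 : act 5 n25894 = n25971 := rfl
theorem F52021 : act 0 n25971 = n25897 := d4_1 D25971 (iv D25897) (iv F51815)
theorem F52022 : act 1 n25971 = n25917 := d8_1 D25971 F51884 (iv F51816)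
theorem F52023 : act 3 n25971 = n25895 := d13_1 D25971 (iv D25895) D25894
def n25972 : Q := act 1 n25896
theorem D25972 : act 1 n25896 = n25972 := rfl
theorem F52024 : act 2 n25972 = n25898 := d5_2 D25896 D25972 (iv D25898) (iv D25777) (iv F51497)
theorem F52025 : act 4 n25972 = n25953 := d7_2 F51899 D25972 F51978
theorem F52026 : act 5 n25958 = n25972 := d11_0 F52024 F51825 D25958
def n25973 : Q := act 3 n25896
theorem D25973 : act 3 n25896 = n25973 := rfl
theorem F52027 : act 4 n25973 = n25973 := d12_2 F51899 D25973 (iv D25973) (iv F51899) F51900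
theorem F52028 : act 2 n25973 = n25923 := d15_2 D25896 D25973 (iv D25923) F51633 (iv F51620) (iv F51819) (iv F52023) (iv D25971) F51815
def n25974 : Q := act 5 n25896
theorem D25974 : act 5 n25896 = n25974 := rfl
theorem F52029 : act 1 n25974 = n25958 := d8_1 D25974 F52026 (iv D25972)
theorem F52030 : act 2 n25974 = n25897 := d11_1 D25974 (iv D25897) D25896
def n25975 : Q := act 4 n25897
theorem D25975 : act 4 n25897 = n25975 := rfl
theorem F52031 : act 1 n25975 = n25899 := d7_1 D25975 (iv D25899) (iv F51821)
theorem F52032 : act 3 n25975 = n25916 := d12_1 D25975 (iv D25916) (iv F51641) F51642 (iv F51822)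
theorem F52033 : act 5 n25975 = n25952 := d14_2 D25897 D25975 (iv D25952) F51745 F51637
def n25976 : Q := act 0 n25898
theorem D25976 : act 0 n25898 = n25976 := rfl
theorem F52034 : act 1 n25976 = n25942 := d0_2 D25898 D25976 F51948 F51729 (iv F51499)
theorem F52035 : act 3 n25976 = n25957 := d2_2 (iv F51823) D25976 F51989
theorem F52036 : act 4 n25976 = n25949 := d3_2 (iv F51824) D25976 F51967
theorem F52037 : act 5 n25976 = n25956 := d4_2 (iv F51825) D25976 F51987
def n25977 : Q := act 3 n25900
theorem D25977 : act 3 n25900 = n25977 := rfl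
theorem F52038 : act 1 n25977 = n25901 := d6_1 D25977 (iv D25901) (iv F51830)
theorem F52039 : act 4 n25977 = n25907 := d12_2 D25900 D25977 (iv D25907) (iv D25797) (iv F51521)
def n25978 : Q := act 3 n25906
theorem D25978 : act 3 n25906 = n25978 := rfl
theorem F52040 : act 0 n25978 = n25907 := d2_1 D25978 (iv D25907) (iv F51847)
theorem F52041 : act 5 n25978 = n25978 := d13_2 F51849 D25978 (iv D25978)
def n25979 : Q := act 2 n25907
theorem D25979 : act 2 n25907 = n25979 := rfl
theorem F52042 : act 1 n25979 = n25979 := d5_1 D25979 (iv D25979) F51850 F51558 (iv F51850)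
theorem F52043 : act 5 n25979 = n25979 := d11_2 F51851 D25979 (iv D25979)
theorem F52044 : act 3 n25979 = n25979 := d15_1 D25979 (iv D25979) (iv D25907) F51555 (iv F51568) (iv F51848) D25978 F52041 F52040
def n25980 : Q := act 3 n25908
theorem D25980 : act 3 n25908 = n25980 := rfl
theorem F52045 : act 0 n25980 = n25923 := d2_1 D25980 (iv D25923) (iv F51852)
theorem F52046 : act 1 n25980 = n25961 := d6_1 D25980 (iv D25961) (iv F51853)
theorem F52047 : act 4 n25980 = n25980 := d12_2 D25908 D25980 (iv D25980) (iv D25908) F51572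
def n25981 : Q := act 2 n25909
theorem D25981 : act 2 n25909 = n25981 := rfl
theorem F52048 : act 0 n25981 = n25924 := d1_1 D25981 (iv D25924) (iv F51855)
theorem F52049 : act 1 n25981 = n25932 := d5_1 D25981 (iv D25932) F51668 (iv F51581) (iv F51856)
theorem F52050 : act 3 n25981 = n25981 := d9_2 D25909 D25981 (iv D25981) (iv D25909) F51578 F51138 (iv F51389) D25867 D25951 F51974 (iv D25951) (iv D25867) F51389 (iv F51138) (iv F51578)
theorem F52051 : act 4 n25981 = n25970 := d10_2 (iv F51857) D25981 (iv D25970)
theorem F52052 : act 5 n25981 = n25930 := d11_2 (iv F51858) D25981 (iv D25930)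
def n25982 : Q := act 0 n25912
theorem D25982 : act 0 n25912 = n25982 := rfl
theorem F52053 : act 1 n25982 = n25965 := d0_2 D25912 D25982 F52006 F51800 (iv F51597)
theorem F52054 : act 2 n25982 = n25945 := d1_2 (iv F51868) D25982 F51959
theorem F52055 : act 4 n25982 = n25915 := d3_2 (iv F51869) D25982 F51876
theorem F52056 : act 5 n25982 = n25960 := d4_2 (iv F51870) D25982 F51996
def n25983 : Q := act 3 n25912
theorem D25983 : act 3 n25912 = n25983 := rfl
theorem F52057 : act 1 n25983 = n25913 := d6_1 D25983 (iv D25913) D25912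
theorem F52058 : act 4 n25983 = n25983 := d12_2 (iv F51869) D25983 (iv D25983) F51869 F51608
theorem F52059 : act 5 n25983 = n25977 := d13_2 (iv F51870) D25983 (iv D25977)
def n25984 : Q := act 3 n25918
theorem D25984 : act 3 n25918 = n25984 := rfl
theorem F52060 : act 1 n25984 = n25920 := d6_1 D25984 (iv D25920) (iv F51885)
theorem F52061 : act 5 n25984 = n25923 := d13_2 (iv F51887) D25984 (iv D25923)
def n25985 : Q := act 1 n25919
theorem D25985 : act 1 n25919 = n25985 := rfl
theorem F52062 : act 0 n25985 = n25962 := d0_1 D25985 (iv F52017) F52016 F51885 (iv F51888)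
theorem F52063 : act 2 n25985 = n25925 := d5_2 D25919 D25985 F51902 F51651 (iv F51628)
theorem F52064 : act 4 n25985 = n25962 := d7_2 F52018 D25985 (iv F52017)
theorem F52065 : act 5 n25985 = n25921 := d8_2 (iv F51889) D25985 (iv D25921)
def n25986 : Q := act 3 n25919
theorem D25986 : act 3 n25919 = n25986 := rfl
theorem F52066 : act 0 n25986 = n25920 := d2_1 D25986 (iv D25920) (iv F51888)
theorem F52067 : act 2 n25986 = n25920 := d9_1 D25986 (iv D25920) (iv D25822) (iv D25638) F50294 D25333 D25642 D25825 (iv F51896) (iv D25922) (iv D25823) (iv D25641) (iv F51120) D25821 D25919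
theorem F52068 : act 5 n25986 = n25922 := d13_2 (iv F51889) D25986 (iv D25922)
def n25987 : Q := act 4 n25920
theorem D25987 : act 4 n25920 = n25987 := rfl
theorem F52069 : act 5 n25987 = n25987 := d14_2 (iv F51890) D25987 (iv D25987) F51890 F51635
def n25988 : Q := act 3 n25921
theorem D25988 : act 3 n25921 = n25988 := rfl
theorem F52070 : act 0 n25988 = n25961 := d2_1 D25988 (iv D25961) (iv F51891)
theorem F52071 : act 1 n25988 = n25922 := d6_1 D25988 (iv D25922) D25921
theorem F52072 : act 4 n25988 = n25988 := d12_2 (iv F51893) D25988 (iv D25988) F51893 F51645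
def n25989 : Q := act 3 n25926
theorem D25989 : act 3 n25926 = n25989 := rfl
theorem F52073 : act 0 n25989 = n25975 := d2_1 D25989 F52032 (iv F51905)
theorem F52074 : act 1 n25989 = n25927 := d6_1 D25989 (iv D25927) (iv F51906)
theorem F52075 : act 4 n25989 = n25971 := d12_2 D25926 D25989 F52023 F51820 (iv F51657)
theorem F52076 : act 5 n25989 = n25928 := d13_2 (iv F51908) D25989 (iv D25928)
def n25990 : Q := act 2 n25927
theorem D25990 : act 2 n25927 = n25990 := rfl
theorem F52077 : act 0 n25990 = n25938 := d1_1 D25990 F51935 (iv F51909)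
theorem F52078 : act 3 n25990 = n25947 := d9_2 D25927 D25990 (iv D25947) (iv D25852) F51318 (iv F51045) F51044 (iv F51258) (iv F51677) D25937 F51932 F51728 F51355 (iv F51238) (iv F51659)
theorem F52079 : act 4 n25990 = n25935 := d10_2 (iv F51910) D25990 F51926
theorem F52080 : act 5 n25990 = n25929 := d11_2 (iv F51911) D25990 (iv D25929)
def n25991 : Q := act 2 n25928
theorem D25991 : act 2 n25928 = n25991 := rfl
theorem F52081 : act 4 n25991 = n25930 := d10_2 (iv F51913) D25991 (iv D25930)
def n25992 : Q := act 1 n25929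
theorem D25992 : act 1 n25929 = n25992 := rfl
theorem F52082 : act 4 n25992 = n25931 := d7_2 (iv F51915) D25992 (iv D25931)
def n25993 : Q := act 3 n25929
theorem D25993 : act 3 n25929 = n25993 := rfl
theorem F52083 : act 0 n25993 = n25937 := d2_1 D25993 (iv D25937) (iv F51914)
theorem F52084 : act 2 n25993 = n25944 := d9_1 D25993 (iv D25944) F51695 F51303 (iv F51259) (iv F51678) (iv F51935) F51936 F51726 F51346 (iv F51218) F51219 (iv F51243) D25834 D25929
theorem F52085 : act 4 n25993 = n25936 := d12_2 (iv F51915) D25993 (iv D25936) (iv D25840) (iv F51666)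
theorem F52086 : act 5 n25993 = n25947 := d13_2 F52080 D25993 (iv F52078)
def n25994 : Q := act 1 n25930
theorem D25994 : act 1 n25930 = n25994 := rfl
theorem F52087 : act 2 n25994 = n25931 := d5_2 D25930 D25994 (iv D25931) (iv D25836) (iv F51664)
theorem F52088 : act 3 n25994 = n25994 := d6_2 F51916 D25994 (iv D25994)
theorem F52089 : act 5 n25994 = n25932 := d8_2 F52052 D25994 (iv F52049)
def n25995 : Q := act 4 n25932
theorem D25995 : act 4 n25932 = n25995 := rfl
theorem F52090 : act 1 n25995 = n25970 := d7_1 D25995 (iv F52051) F52049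
theorem F52091 : act 2 n25995 = n25933 := d10_1 D25995 (iv D25933) D25932
def n25996 : Q := act 5 n25933
theorem D25996 : act 5 n25933 = n25996 := rfl
theorem F52092 : act 1 n25996 = n25935 := d8_1 D25996 (iv D25935) (iv F51920)
theorem F52093 : act 3 n25996 = n25940 := d13_1 D25996 F51944 (iv F51921)
def n25997 : Q := act 3 n25934
theorem D25997 : act 3 n25934 = n25997 := rfl
theorem F52094 : act 0 n25997 = n25996 := d2_1 D25997 F52093 F51941
theorem F52095 : act 1 n25997 = n25936 := d6_1 D25997 (iv D25936) (iv F51922)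
theorem F52096 : act 5 n25997 = n25941 := d13_2 (iv F51924) D25997 (iv D25941)
def n25998 : Q := act 2 n25939
theorem D25998 : act 2 n25939 = n25998 := rfl
theorem F52097 : act 0 n25998 = n25994 := d1_1 D25998 F52087 (iv F51938)
theorem F52098 : act 1 n25998 = n25948 := d5_1 D25998 (iv D25948) F51708 D25856 (iv F51939)
theorem F52099 : act 3 n25998 = n25998 := d9_2 D25939 D25998 (iv D25998) (iv D25939) (iv D25843) (iv D25691) (iv F51247) D25837 D25932 F51919 (iv D25932) (iv D25837) F51247 D25691 D25843
theorem F52100 : act 5 n25998 = n25950 := d11_2 (iv F51940) D25998 (iv D25950)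
def n25999 : Q := act 4 n25939
theorem D25999 : act 4 n25939 = n25999 := rfl
theorem F52101 : act 0 n25999 = n25992 := d3_1 D25999 F52082 (iv F51938)
theorem F52102 : act 1 n25999 = n25947 := d7_1 D25999 F51965 (iv F51939)
def n26000 : Q := act 2 n25941
theorem D26000 : act 2 n25941 = n26000 := rfl
theorem F52103 : act 0 n26000 = n25995 := d1_1 D26000 F52091 (iv F51945)
theorem F52104 : act 4 n26000 = n25950 := d10_2 (iv F51947) D26000 (iv D25950)
def n26001 : Q := act 3 n25943
theorem D26001 : act 3 n25943 = n26001 := rfl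
theorem F52105 : act 0 n26001 = n25959 := d2_1 D26001 F51994 (iv F51952)
theorem F52106 : act 1 n26001 = n25944 := d6_1 D26001 (iv D25944) (iv F51953)
theorem F52107 : act 4 n26001 = n25956 := d12_2 D25943 D26001 (iv D25956) F51760 (iv F51693)
theorem F52108 : act 5 n26001 = n25946 := d13_2 (iv F51955) D26001 (iv D25946)
def n26002 : Q := act 2 n25946
theorem D26002 : act 2 n25946 = n26002 := rfl
theorem F52109 : act 4 n26002 = n25948 := d10_2 (iv F51963) D26002 (iv D25948)
def n26003 : Q := act 5 n25948
theorem D26003 : act 5 n25948 = n26003 := rfl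
theorem F52110 : act 0 n26003 = n25953 := d4_1 D26003 (iv F51982) F51980
theorem F52111 : act 1 n26003 = n25950 := d8_1 D26003 (iv F52100) F52098
theorem F52112 : act 2 n26003 = n25949 := d11_1 D26003 (iv D25949) D25948
theorem F52113 : act 3 n26003 = n26003 := d13_1 D26003 (iv D26003) F51966
def n26004 : Q := act 4 n25951
theorem D26004 : act 4 n25951 = n26004 := rfl
theorem F52114 : act 0 n26004 = n25991 := d3_1 D26004 F52081 (iv F51972)
theorem F52115 : act 2 n26004 = n25952 := d10_1 D26004 (iv D25952) D25951
def n26005 : Q := act 4 n25954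
theorem D26005 : act 4 n25954 = n26005 := rfl
theorem F52116 : act 0 n26005 = n26002 := d3_1 D26005 F52109 (iv F51980)
theorem F52117 : act 1 n26005 = n26004 := d7_1 D26005 (iv D26004) (iv F51981)
theorem F52118 : act 2 n26005 = n25955 := d10_1 D26005 (iv D25955) D25954
def n26006 : Q := act 2 n25956
theorem D26006 : act 2 n25956 = n26006 := rfl
theorem F52119 : act 0 n26006 = n25958 := d1_1 D26006 (iv D25958) (iv F51987)
def n26007 : Q := act 3 n25958
theorem D26007 : act 3 n25958 = n26007 := rfl
def n26008 : Q := act 4 n25958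
theorem D26008 : act 4 n25958 = n26008 := rfl
theorem F52120 : act 2 n26008 = n25959 := d10_1 D26008 (iv D25959) D25958
theorem F52121 : act 5 n26008 = n26005 := d14_2 (iv F52026) D26008 (iv D26005) F51982 (iv F52025)
def n26009 : Q := act 3 n25960
theorem D26009 : act 3 n25960 = n26009 := rfl
theorem F52122 : act 0 n26009 = n25977 := d2_1 D26009 (iv D25977) (iv F51996)
theorem F52123 : act 1 n26009 = n25964 := d6_1 D26009 (iv D25964) (iv F51997)
theorem F52124 : act 4 n26009 = n25978 := d12_2 D25960 D26009 (iv D25978) (iv D25906) (iv F51770)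
def n26010 : Q := act 2 n25961
theorem D26010 : act 2 n25961 = n26010 := rfl
theorem F52125 : act 4 n26010 = n26010 := d10_2 F51999 D26010 (iv D26010)
def n26011 : Q := act 5 n25961
theorem D26011 : act 5 n25961 = n26011 := rfl
theorem F52126 : act 3 n26011 = n25962 := d13_1 D26011 (iv D25962) D25961
def n26012 : Q := act 3 n25963
theorem D26012 : act 3 n25963 = n26012 := rfl
theorem F52127 : act 0 n26012 = n25966 := d2_1 D26012 (iv D25966) (iv F52001)
theorem F52128 : act 1 n26012 = n25978 := d6_1 D26012 (iv D25978) (iv F52002)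
theorem F52129 : act 4 n26012 = n25964 := d12_2 D25963 D26012 (iv D25964) (iv D25884) D25883
theorem F52130 : act 5 n26012 = n26012 := d13_2 F52004 D26012 (iv D26012)
def n26013 : Q := act 2 n25964
theorem D26013 : act 2 n25964 = n26013 := rfl
theorem F52131 : act 0 n26013 = n25967 := d1_1 D26013 (iv D25967) (iv F52005)
def n26014 : Q := act 5 n25964
theorem D26014 : act 5 n25964 = n26014 := rfl
theorem F52132 : act 0 n26014 = n25968 := d4_1 D26014 (iv D25968) (iv F52005)
theorem F52133 : act 3 n26014 = n25965 := d13_1 D26014 (iv D25965) D25964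
theorem F52134 : act 4 n26014 = n26014 := d14_1 D26014 (iv D26014) (iv F52129) F52130 F52129
def n26015 : Q := act 2 n25966
theorem D26015 : act 2 n25966 = n26015 := rfl
theorem F52135 : act 1 n26015 = n26015 := d5_1 D26015 (iv D26015) F52009 F51835 (iv F52009)
theorem F52136 : act 4 n26015 = n25967 := d10_2 (iv F52010) D26015 (iv D25967)
theorem F52137 : act 5 n26015 = n26015 := d11_2 F52011 D26015 (iv D26015)
theorem F52138 : act 3 n26015 = n26015 := d15_1 D26015 (iv D26015) (iv D25966) (iv F51864) F51865 (iv F52003) D26012 F52130 F52127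
def n26016 : Q := act 3 n25967
theorem D26016 : act 3 n25967 = n26016 := rfl
theorem F52139 : act 1 n26016 = n26016 := d6_1 D26016 (iv D26016) F52012
theorem F52140 : act 4 n26016 = n26016 := d12_2 F52136 D26016 (iv D26016) (iv F52136) F52138
theorem F52141 : act 2 n26016 = n25968 := d15_2 D25967 D26016 F52014 F51801 (iv F51791) (iv F52007) (iv F52133) (iv D26014) F52005
theorem F52142 : act 5 n26016 = n25967 := d15_8 (iv D26013) (iv D25964) F51788 F51461 (iv F51468) D25888 D25967 D26016 (iv F52131)
def n26017 : Q := act 3 n25969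
theorem D26017 : act 3 n25969 = n26017 := rfl
theorem F52143 : act 0 n26017 = n25984 := d2_1 D26017 (iv D25984) (iv F52016)
theorem F52144 : act 1 n26017 = n26011 := d6_1 D26017 F52126 (iv F52017)
theorem F52145 : act 5 n26017 = n25980 := d13_2 (iv F52019) D26017 (iv D25980)
def n26018 : Q := act 3 n25970
theorem D26018 : act 3 n25970 = n26018 := rfl
theorem F52146 : act 0 n26018 = n25973 := d2_1 D26018 (iv D25973) (iv F52020)
theorem F52147 : act 4 n26018 = n26018 := d12_2 F52051 D26018 (iv D26018) (iv F52051) F52050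
theorem F52148 : act 2 n26018 = n25980 := d15_2 D25970 D26018 (iv D25980) F51854 (iv F51705) F51704 (iv F51822) (iv D25897) (iv F51815)
def n26019 : Q := act 5 n25970
theorem D26019 : act 5 n25970 = n26019 := rfl
theorem F52149 : act 0 n26019 = n25974 := d4_1 D26019 (iv D25974) (iv F52020)
theorem F52150 : act 2 n26019 = n25971 := d11_1 D26019 (iv D25971) D25970
def n26020 : Q := act 0 n25972
theorem D26020 : act 0 n25972 = n26020 := rfl
theorem F52151 : act 1 n26020 = n26000 := d0_2 D25972 D26020 F52103 F52090 F52020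
theorem F52152 : act 2 n26020 = n25976 := d1_2 (iv F52024) D26020 (iv D25976)
theorem F52153 : act 4 n26020 = n26003 := d3_2 (iv F52025) D26020 F52110
theorem F52154 : act 5 n26020 = n26006 := d4_2 F52026 D26020 F52119
theorem F52155 : act 3 n26010 = n26020 := d15_7 (iv D25958) (iv D25874) F51421 D25750 D25880 D25961 D26010 F52154 F52119
def n26021 : Q := act 3 n25972
theorem D26021 : act 3 n25972 = n26021 := rfl
theorem F52156 : act 0 n26021 = n26010 := d2_1 D26021 F52155 (iv D26020)
theorem F52157 : act 1 n26021 = n25973 := d6_1 D26021 (iv D25973) D25972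
theorem F52158 : act 4 n26021 = n26021 := d12_2 (iv F52025) D26021 (iv D26021) F52025 F51979
theorem F52159 : act 5 n26021 = n26007 := d13_2 F52026 D26021 (iv D26007)
theorem F52160 : act 2 n26021 = n25988 := d15_2 (iv F52024) D26021 (iv D25988) F51892 F51649 (iv F51759) D25956 (iv F52037) (iv D25976)
def n26022 : Q := act 5 n25973
theorem D26022 : act 5 n25973 = n26022 := rfl
theorem F52161 : act 1 n26022 = n26007 := d8_1 D26022 (iv F52159) F52157
theorem F52162 : act 2 n26022 = n25984 := d11_1 D26022 F52061 (iv F52028)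
theorem F52163 : act 3 n26022 = n25974 := d13_1 D26022 (iv D25974) D25973
def n26023 : Q := act 4 n25974
theorem D26023 : act 4 n25974 = n26023 := rfl
theorem F52164 : act 1 n26023 = n26008 := d7_1 D26023 (iv D26008) (iv F52029)
theorem F52165 : act 2 n26023 = n25975 := d10_1 D26023 (iv D25975) (iv F52030)
theorem F52166 : act 5 n26023 = n26004 := d14_2 D25974 D26023 (iv D26004) F51973 F51899
def n26024 : Q := act 2 n25977
theorem D26024 : act 2 n25977 = n26024 := rfl
theorem F52167 : act 1 n26024 = n26024 := d5_1 D26024 (iv D26024) F52038 F51833 (iv F52038)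
theorem F52168 : act 4 n26024 = n25979 := d10_2 (iv F52039) D26024 (iv D25979)
def n26025 : Q := act 2 n25978
theorem D26025 : act 2 n25978 = n26025 := rfl
theorem F52169 : act 0 n26025 = n25979 := d1_1 D26025 (iv D25979) (iv F52040)
theorem F52170 : act 3 n26025 = n26025 := d9_2 D25978 D26025 (iv D26025) (iv D25978) F51848 F51568 (iv F51555) D25907 D25979 F52044 (iv D25979) (iv D25907) F51555 (iv F51568) (iv F51848)
theorem F52171 : act 5 n26025 = n26025 := d11_2 F52041 D26025 (iv D26025)
def n26026 : Q := act 3 n25982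
theorem D26026 : act 3 n25982 = n26026 := rfl
theorem F52172 : act 0 n26026 = n25983 := d2_1 D26026 (iv D25983) D25982
theorem F52173 : act 1 n26026 = n26014 := d6_1 D26026 F52133 (iv F52053)
theorem F52174 : act 4 n26026 = n26026 := d12_2 (iv F52055) D26026 (iv D26026) F52055 F51879
theorem F52175 : act 5 n26026 = n26009 := d13_2 (iv F52056) D26026 (iv D26009)
def n26027 : Q := act 2 n25983
theorem D26027 : act 2 n25983 = n26027 := rfl
theorem F52176 : act 1 n26027 = n26027 := d5_1 D26027 (iv D26027) F52057 F51872 (iv F52057)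
theorem F52177 : act 4 n26027 = n26027 := d10_2 F52058 D26027 (iv D26027)
theorem F52178 : act 5 n26027 = n26024 := d11_2 (iv F52059) D26027 (iv D26024)
def n26028 : Q := act 4 n25984
theorem D26028 : act 4 n25984 = n26028 := rfl
theorem F52179 : act 1 n26028 = n25987 := d7_1 D26028 (iv D25987) (iv F52060)
theorem F52180 : act 3 n26028 = n25987 := d12_1 D26028 (iv D25987) (iv D25920) (iv F51886) D25984
theorem F52181 : act 5 n26028 = n26028 := d14_2 (iv F52061) D26028 (iv D26028) F52061 F51898
def n26029 : Q := act 3 n25985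
theorem D26029 : act 3 n25985 = n26029 := rfl
theorem F52182 : act 0 n26029 = n26011 := d2_1 D26029 F52126 (iv F52062)
theorem F52183 : act 1 n26029 = n25986 := d6_1 D26029 (iv D25986) D25985
theorem F52184 : act 2 n26029 = n26007 := d9_1 D26029 (iv D26007) (iv D25958) (iv D25874) F51421 D25750 D25880 D25961 D26010 F52155 F52152 F52035 F51991 (iv F51903) (iv F52063)
theorem F52185 : act 5 n26029 = n25988 := d13_2 (iv F52065) D26029 (iv D25988)
def n26030 : Q := act 4 n25986
theorem D26030 : act 4 n25986 = n26030 := rfl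
theorem F52186 : act 0 n26030 = n25987 := d3_1 D26030 (iv D25987) (iv F52066)
theorem F52187 : act 2 n26030 = n25987 := d10_1 D26030 (iv D25987) (iv F52067)
theorem F52188 : act 5 n26030 = n26030 := d14_2 (iv F52068) D26030 (iv D26030) F52068 F51895
def n26031 : Q := act 2 n25989
theorem D26031 : act 2 n25989 = n26031 := rfl
theorem F52189 : act 0 n26031 = n26023 := d1_1 D26031 F52165 (iv F52073)
theorem F52190 : act 4 n26031 = n26019 := d10_2 (iv F52075) D26031 F52150
theorem F52191 : act 5 n26031 = n25991 := d11_2 (iv F52076) D26031 (iv D25991)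
def n26032 : Q := act 1 n25990
theorem D26032 : act 1 n25990 = n26032 := rfl
theorem F52192 : act 3 n26032 = n25999 := d6_2 (iv F52078) D26032 F52102
theorem F52193 : act 4 n26032 = n25996 := d7_2 (iv F52079) D26032 F52092
theorem F52194 : act 5 n26032 = n25992 := d8_2 (iv F52080) D26032 (iv D25992)
def n26033 : Q := act 1 n25991
theorem D26033 : act 1 n25991 = n26033 := rfl
theorem F52195 : act 2 n26033 = n25992 := d5_2 D25991 D26033 (iv D25992) (iv D25929) (iv F51912)
theorem F52196 : act 4 n26033 = n25994 := d7_2 (iv F52081) D26033 (iv D25994)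
def n26034 : Q := act 3 n25991
theorem D26034 : act 3 n25991 = n26034 := rfl
theorem F52197 : act 4 n26034 = n26034 := d12_2 (iv F52081) D26034 (iv D26034) F52081 F51916
theorem F52198 : act 2 n26034 = n26034 := d15_2 D25991 D26034 (iv D26034) (iv D25991) (iv D25928) (iv F51881) (iv F52032) F52033 F51975
def n26035 : Q := act 3 n25992
theorem D26035 : act 3 n25992 = n26035 := rfl
theorem F52199 : act 0 n26035 = n26032 := d2_1 D26035 F52192 F52101
theorem F52200 : act 1 n26035 = n25993 := d6_1 D26035 (iv D25993) D25992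
theorem F52201 : act 4 n26035 = n25997 := d12_2 (iv F52082) D26035 (iv D25997) (iv D25934) (iv F51917)
theorem F52202 : act 5 n26035 = n25999 := d13_2 F52194 D26035 (iv F52192)
def n26036 : Q := act 3 n25995
theorem D26036 : act 3 n25995 = n26036 := rfl
theorem F52203 : act 1 n26036 = n26018 := d6_1 D26036 (iv D26018) (iv F52090)
theorem F52204 : act 4 n26036 = n26036 := d12_2 D25995 D26036 (iv D26036) (iv D25995) F51919
def n26037 : Q := act 5 n25995
theorem D26037 : act 5 n25995 = n26037 := rfl
theorem F52205 : act 1 n26037 = n26019 := d8_1 D26037 (iv D26019) (iv F52090)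
theorem F52206 : act 2 n26037 = n25996 := d11_1 D26037 (iv D25996) (iv F52091)
def n26038 : Q := act 2 n25997
theorem D26038 : act 2 n25997 = n26038 := rfl
theorem F52207 : act 0 n26038 = n26037 := d1_1 D26038 F52206 (iv F52094)
theorem F52208 : act 1 n26038 = n26006 := d5_1 D26038 (iv D26006) F51988 (iv F51929) (iv F52095)
theorem F52209 : act 5 n26038 = n26000 := d11_2 (iv F52096) D26038 (iv D26000)
def n26039 : Q := act 4 n25998
theorem D26039 : act 4 n25998 = n26039 := rfl
theorem F52210 : act 0 n26039 = n26033 := d3_1 D26039 F52196 (iv F52097)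
theorem F52211 : act 1 n26039 = n26002 := d7_1 D26039 F52109 (iv F52098)
theorem F52212 : act 2 n26039 = n25999 := d10_1 D26039 (iv D25999) D25998
def n26040 : Q := act 3 n26000
theorem D26040 : act 3 n26000 = n26040 := rfl
theorem F52213 : act 0 n26040 = n26036 := d2_1 D26040 (iv D26036) (iv F52103)
theorem F52214 : act 1 n26040 = n26010 := d6_1 D26040 F52155 F52151
theorem F52215 : act 4 n26040 = n26040 := d12_2 (iv F52104) D26040 (iv D26040) F52104 F51971
theorem F52216 : act 2 n26040 = n26036 := d15_2 D26000 D26040 (iv D26036) F52091 F51921 (iv F51943) (iv F52093) (iv D25996) (iv F51945)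
def n26041 : Q := act 2 n26001
theorem D26041 : act 2 n26001 = n26041 := rfl
theorem F52217 : act 0 n26041 = n26008 := d1_1 D26041 F52120 (iv F52105)
theorem F52218 : act 4 n26041 = n26006 := d10_2 (iv F52107) D26041 (iv D26006)
theorem F52219 : act 5 n26041 = n26002 := d11_2 (iv F52108) D26041 (iv D26002)
def n26042 : Q := act 3 n26002
theorem D26042 : act 3 n26002 = n26042 := rfl
theorem F52220 : act 4 n26042 = n26042 := d12_2 (iv F52109) D26042 (iv D26042) F52109 F51966
def n26043 : Q := act 3 n26004
theorem D26043 : act 3 n26004 = n26043 := rfl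
theorem F52221 : act 0 n26043 = n26034 := d2_1 D26043 (iv D26034) (iv F52114)
theorem F52222 : act 4 n26043 = n26043 := d12_2 D26004 D26043 (iv D26043) (iv D26004) F51974
theorem F52223 : act 2 n26043 = n26043 := d15_2 (iv F52115) D26043 (iv D26043) F52115 F51977 (iv F51907) D25989 F52076 (iv F51975)
def n26044 : Q := act 3 n26005
theorem D26044 : act 3 n26005 = n26044 := rfl
theorem F52224 : act 0 n26044 = n26042 := d2_1 D26044 (iv D26042) (iv F52116)
theorem F52225 : act 1 n26044 = n26043 := d6_1 D26044 (iv D26043) (iv F52117)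
theorem F52226 : act 4 n26044 = n26044 := d12_2 D26005 D26044 (iv D26044) (iv D26005) F51983
def n26045 : Q := act 3 n26006
theorem D26045 : act 3 n26006 = n26045 := rfl
theorem F52227 : act 0 n26045 = n26007 := d2_1 D26045 (iv D26007) (iv F52119)
theorem F52228 : act 2 n26045 = n26011 := d9_1 D26045 F52126 F52000 F51778 (iv F51763) (iv F51823) (iv F52024) D26021 F52160 (iv D25988) F51892 F51649 (iv F51759) D25956 D26006
theorem F52229 : act 5 n26045 = n26010 := d13_2 F52154 D26045 F52155
def n26046 : Q := act 4 n26007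
theorem D26046 : act 4 n26007 = n26046 := rfl
theorem F52230 : act 5 n26046 = n26046 := d14_2 F52159 D26046 (iv D26046) (iv F52159) F52158
def n26047 : Q := act 3 n26008
theorem D26047 : act 3 n26008 = n26047 := rfl
theorem F52231 : act 5 n26047 = n26044 := d13_2 (iv F52121) D26047 (iv D26044)
def n26048 : Q := act 2 n26009
theorem D26048 : act 2 n26009 = n26048 := rfl
theorem F52232 : act 0 n26048 = n26024 := d1_1 D26048 (iv D26024) (iv F52122)
theorem F52233 : act 4 n26048 = n26025 := d10_2 (iv F52124) D26048 (iv D26025)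
def n26049 : Q := act 4 n26011
theorem D26049 : act 4 n26011 = n26049 := rfl
theorem F52234 : act 5 n26049 = n26049 := d14_2 D26011 D26049 (iv D26049) (iv D26011) F51999
def n26050 : Q := act 2 n26012
theorem D26050 : act 2 n26012 = n26050 := rfl
theorem F52235 : act 0 n26050 = n26015 := d1_1 D26050 (iv D26015) (iv F52127)
theorem F52236 : act 3 n26050 = n26050 := d9_2 D26012 D26050 (iv D26050) (iv D26012) F52003 (iv F51865) F51864 D25966 D26015 F52138 (iv D26015) (iv D25966) (iv F51864) F51865 (iv F52003)
theorem F52237 : act 4 n26050 = n26013 := d10_2 (iv F52129) D26050 (iv D26013)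
theorem F52238 : act 5 n26050 = n26050 := d11_2 F52130 D26050 (iv D26050)
def n26051 : Q := act 1 n26013
theorem D26051 : act 1 n26013 = n26051 := rfl
theorem F52239 : act 0 n26051 = n26051 := d0_1 D26051 (iv D26051) F52131 F52012 (iv F52131)
def n26052 : Q := act 3 n26013
theorem D26052 : act 3 n26013 = n26052 := rfl
theorem F52240 : act 0 n26052 = n26016 := d2_1 D26052 (iv D26016) (iv F52131)
theorem F52241 : act 2 n26052 = n26014 := d9_1 D26052 F52133 F52007 F51791 (iv F51801) (iv F52014) (iv F52141) (iv D26016) (iv D25967) (iv D25888) F51468 (iv F51461) (iv F51788) D25964 D26013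
theorem F52242 : act 4 n26052 = n26052 := d12_2 F52237 D26052 (iv D26052) (iv F52237) F52236
theorem F52243 : act 5 n26052 = n26013 := d15_8 (iv D25967) (iv D25888) F51468 (iv F51461) (iv F51788) D25964 D26013 D26052 F52131
def n26053 : Q := act 2 n26017
theorem D26053 : act 2 n26017 = n26053 := rfl
theorem F52244 : act 0 n26053 = n26022 := d1_1 D26053 F52162 (iv F52143)
theorem F52245 : act 3 n26053 = n26019 := d9_2 D26017 D26053 F52150 F52023 F51819 F51620 (iv F51633) D25923 (iv F52028) (iv D25973) (iv D25896) (iv D25775) (iv F51483) D25892 D25969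
theorem F52246 : act 5 n26053 = n26018 := d11_2 (iv F52145) D26053 F52148
def n26054 : Q := act 4 n26017
theorem D26054 : act 4 n26017 = n26054 := rfl
theorem F52247 : act 0 n26054 = n26028 := d3_1 D26054 (iv D26028) (iv F52143)
theorem F52248 : act 1 n26054 = n26049 := d7_1 D26054 (iv D26049) (iv F52144)
theorem F52249 : act 3 n26054 = n26030 := d12_1 D26054 (iv D26030) (iv D25986) (iv F52018) D26017
theorem F52250 : act 5 n26054 = n26054 := d14_2 (iv F52145) D26054 (iv D26054) F52145 F52047
def n26055 : Q := act 4 n26022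
theorem D26055 : act 4 n26022 = n26055 := rfl
theorem F52251 : act 1 n26055 = n26046 := d7_1 D26055 (iv D26046) (iv F52161)
theorem F52252 : act 2 n26055 = n26028 := d10_1 D26055 (iv D26028) (iv F52162)
theorem F52253 : act 5 n26055 = n26055 := d14_2 D26022 D26055 (iv D26055) (iv D26022) F52027
def n26056 : Q := act 3 n26023
theorem D26056 : act 3 n26023 = n26056 := rfl
theorem F52254 : act 1 n26056 = n26047 := d6_1 D26056 (iv D26047) (iv F52164)
theorem F52255 : act 2 n26056 = n26056 := d9_1 D26056 (iv D26056) F52165 F52032 F51881 D25928 D25991 D26034 F52198 (iv D26034) (iv D25991) (iv D25928) (iv F51881) (iv F52032) (iv F52165)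
theorem F52256 : act 5 n26056 = n26043 := d13_2 (iv F52166) D26056 (iv D26043)
def n26057 : Q := act 3 n26024
theorem D26057 : act 3 n26024 = n26057 := rfl
theorem F52257 : act 1 n26057 = n26057 := d6_1 D26057 (iv D26057) F52167
theorem F52258 : act 4 n26057 = n26057 := d12_2 (iv F52168) D26057 (iv D26057) F52168 F52044
theorem F52259 : act 2 n26057 = n26044 := d15_2 D26024 D26057 (iv D26044) F52118 F51986 (iv F52054) D26026 F52175 F52122
def n26058 : Q := act 1 n26025
theorem D26058 : act 1 n26025 = n26058 := rfl
theorem F52260 : act 0 n26058 = n26058 := d0_1 D26058 (iv D26058) F52169 F52042 (iv F52169)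
theorem F52261 : act 3 n26058 = n26058 := d6_2 F52170 D26058 (iv D26058)
theorem F52262 : act 5 n26058 = n26058 := d8_2 F52171 D26058 (iv D26058)
def n26059 : Q := act 2 n26026
theorem D26059 : act 2 n26026 = n26059 := rfl
theorem F52263 : act 0 n26059 = n26027 := d1_1 D26059 (iv D26027) (iv F52172)
theorem F52264 : act 4 n26059 = n26059 := d10_2 F52174 D26059 (iv D26059)
theorem F52265 : act 5 n26059 = n26048 := d11_2 (iv F52175) D26059 (iv D26048)
def n26060 : Q := act 3 n26027
theorem D26060 : act 3 n26027 = n26060 := rfl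
theorem F52266 : act 1 n26060 = n26060 := d6_1 D26060 (iv D26060) F52176
theorem F52267 : act 5 n26060 = n26057 := d13_2 (iv F52178) D26060 (iv D26057)
theorem F52268 : act 2 n26060 = n26047 := d15_2 D26027 D26060 (iv D26047) F52120 F51994 (iv F51998) D26009 (iv F52175) F52172
def n26061 : Q := act 4 n26029
theorem D26061 : act 4 n26029 = n26061 := rfl
theorem F52269 : act 0 n26061 = n26049 := d3_1 D26061 (iv D26049) (iv F52182)
theorem F52270 : act 1 n26061 = n26030 := d7_1 D26061 (iv D26030) (iv F52183)
theorem F52271 : act 2 n26061 = n26046 := d10_1 D26061 (iv D26046) (iv F52184)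
theorem F52272 : act 3 n26061 = n26049 := d12_1 D26061 (iv D26049) F52126 (iv F52064) D26029
theorem F52273 : act 5 n26061 = n26061 := d14_2 (iv F52185) D26061 (iv D26061) F52185 F52072
def n26062 : Q := act 1 n26031
theorem D26062 : act 1 n26031 = n26062 := rfl
theorem F52274 : act 2 n26062 = n26032 := d5_2 D26031 D26062 (iv D26032) (iv D25990) (iv F52074)
theorem F52275 : act 4 n26062 = n26037 := d7_2 (iv F52190) D26062 F52205
theorem F52276 : act 5 n26062 = n26033 := d8_2 (iv F52191) D26062 (iv D26033)
def n26063 : Q := act 3 n26031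
theorem D26063 : act 3 n26031 = n26063 := rfl
theorem F52277 : act 0 n26063 = n26056 := d2_1 D26063 (iv D26056) (iv F52189)
theorem F52278 : act 2 n26063 = n26063 := d9_1 D26063 (iv D26063) (iv D26031) (iv D25989) F51907 (iv F51977) (iv F52115) D26043 F52223 (iv D26043) F52115 F51977 (iv F51907) D25989 D26031
theorem F52279 : act 5 n26063 = n26034 := d13_2 (iv F52191) D26063 (iv D26034)
def n26064 : Q := act 3 n26033
theorem D26064 : act 3 n26033 = n26064 := rfl
theorem F52280 : act 1 n26064 = n26034 := d6_1 D26064 (iv D26034) D26033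
theorem F52281 : act 4 n26064 = n26064 := d12_2 (iv F52196) D26064 (iv D26064) F52196 F52088
def n26065 : Q := act 2 n26035
theorem D26065 : act 2 n26035 = n26065 := rfl
theorem F52282 : act 0 n26065 = n26062 := d1_1 D26065 F52274 (iv F52199)
theorem F52283 : act 1 n26065 = n26041 := d5_1 D26065 (iv D26041) F52106 (iv F52084) (iv F52200)
theorem F52284 : act 4 n26065 = n26038 := d10_2 (iv F52201) D26065 (iv D26038)
theorem F52285 : act 5 n26065 = n26039 := d11_2 (iv F52202) D26065 F52212
def n26066 : Q := act 5 n26036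
theorem D26066 : act 5 n26036 = n26066 := rfl
theorem F52286 : act 1 n26066 = n26053 := d8_1 D26066 F52246 (iv F52203)
theorem F52287 : act 3 n26066 = n26037 := d13_1 D26066 (iv D26037) D26036
def n26067 : Q := act 3 n26038
theorem D26067 : act 3 n26038 = n26067 := rfl
theorem F52288 : act 0 n26067 = n26066 := d2_1 D26067 F52287 (iv F52207)
theorem F52289 : act 1 n26067 = n26045 := d6_1 D26067 (iv D26045) (iv F52208)
theorem F52290 : act 2 n26067 = n26066 := d9_1 D26067 F52287 F52206 F52093 F51943 (iv F51921) (iv F52091) D26036 (iv F52216) (iv D26040) (iv D26000) (iv D25941) (iv F51923) D25997 D26038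
theorem F52291 : act 5 n26067 = n26040 := d13_2 (iv F52209) D26067 (iv D26040)
def n26068 : Q := act 3 n26039
theorem D26068 : act 3 n26039 = n26068 := rfl
theorem F52292 : act 0 n26068 = n26064 := d2_1 D26068 (iv D26064) (iv F52210)
theorem F52293 : act 1 n26068 = n26042 := d6_1 D26068 (iv D26042) (iv F52211)
theorem F52294 : act 4 n26068 = n26068 := d12_2 D26039 D26068 (iv D26068) (iv D26039) F52099
def n26069 : Q := act 3 n26041
theorem D26069 : act 3 n26041 = n26069 := rfl
theorem F52295 : act 0 n26069 = n26047 := d2_1 D26069 (iv D26047) (iv F52217)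
theorem F52296 : act 5 n26069 = n26042 := d13_2 (iv F52219) D26069 (iv D26042)
def n26070 : Q := act 2 n26042
theorem D26070 : act 2 n26042 = n26070 := rfl
theorem F52297 : act 0 n26070 = n26057 := d1_1 D26070 F52259 F52224
theorem F52298 : act 3 n26070 = n26048 := d9_2 D26042 D26070 (iv D26048) (iv D26009) F51998 (iv F51994) (iv F52120) D26047 (iv F52268) (iv D26060) (iv D26027) (iv D25983) F51868 D25946 D26002
theorem F52299 : act 4 n26070 = n26070 := d10_2 F52220 D26070 (iv D26070)
def n26071 : Q := act 4 n26045
theorem D26071 : act 4 n26045 = n26071 := rfl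
theorem F52300 : act 0 n26071 = n26046 := d3_1 D26071 (iv D26046) (iv F52227)
theorem F52301 : act 2 n26071 = n26049 := d10_1 D26071 (iv D26049) (iv F52228)
theorem F52302 : act 5 n26071 = n26071 := d14_2 (iv F52229) D26071 (iv D26071) F52229 F52125
def n26072 : Q := act 3 n26046
theorem D26072 : act 3 n26046 = n26072 := rfl
theorem F52303 : act 4 n26072 = n26047 := d12_2 D26046 D26072 (iv D26047) (iv D26008) D26007
theorem F52304 : act 5 n26072 = n26072 := d13_2 F52230 D26072 (iv D26072)
def n26073 : Q := act 1 n26048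
theorem D26073 : act 1 n26048 = n26073 := rfl
theorem F52305 : act 0 n26073 = n26073 := d0_1 D26073 (iv D26073) F52232 F52167 (iv F52232)
theorem F52306 : act 2 n26073 = n26051 := d5_2 D26048 D26073 (iv D26051) (iv D26013) (iv F52123)
theorem F52307 : act 4 n26073 = n26058 := d7_2 (iv F52233) D26073 (iv D26058)
def n26074 : Q := act 1 n26050
theorem D26074 : act 1 n26050 = n26074 := rfl
theorem F52308 : act 0 n26074 = n26074 := d0_1 D26074 (iv D26074) F52235 F52135 (iv F52235)
theorem F52309 : act 2 n26074 = n26058 := d5_2 D26050 D26074 (iv D26058) (iv D26025) (iv F52128)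
theorem F52310 : act 3 n26074 = n26074 := d6_2 F52236 D26074 (iv D26074)
theorem F52311 : act 4 n26074 = n26051 := d7_2 (iv F52237) D26074 (iv D26051)
theorem F52312 : act 5 n26074 = n26074 := d8_2 F52238 D26074 (iv D26074)
def n26075 : Q := act 3 n26051
theorem D26075 : act 3 n26051 = n26075 := rfl
theorem F52313 : act 0 n26075 = n26075 := d2_1 D26075 (iv D26075) F52239
theorem F52314 : act 1 n26075 = n26052 := d6_1 D26075 (iv D26052) D26051
theorem F52315 : act 4 n26075 = n26075 := d12_2 F52311 D26075 (iv D26075) (iv F52311) F52310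
theorem F52316 : act 5 n26051 = n26075 := d8_0 F52314 F52243 D26051
def n26076 : Q := act 4 n26053
theorem D26076 : act 4 n26053 = n26076 := rfl
theorem F52317 : act 0 n26076 = n26055 := d3_1 D26076 (iv D26055) (iv F52244)
theorem F52318 : act 2 n26076 = n26054 := d10_1 D26076 (iv D26054) D26053
theorem F52319 : act 5 n26076 = n26076 := d14_2 (iv F52246) D26076 (iv D26076) F52246 F52147
def n26077 : Q := act 3 n26055
theorem D26077 : act 3 n26055 = n26077 := rfl
theorem F52320 : act 1 n26077 = n26072 := d6_1 D26077 (iv D26072) (iv F52251)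
theorem F52321 : act 4 n26077 = n26056 := d12_2 D26055 D26077 (iv D26056) (iv D26023) (iv F52163)
theorem F52322 : act 5 n26077 = n26077 := d13_2 F52253 D26077 (iv D26077)
theorem F52323 : act 2 n26077 = n26077 := d15_2 (iv F52252) D26077 (iv D26077) F52252 F52180 (iv F52187) (iv F52249) F52250 F52247
def n26078 : Q := act 1 n26059
theorem D26078 : act 1 n26059 = n26078 := rfl
theorem F52324 : act 0 n26078 = n26078 := d0_1 D26078 (iv D26078) F52263 F52176 (iv F52263)
theorem F52325 : act 2 n26078 = n26075 := d5_2 D26059 D26078 F52314 F52241 (iv F52173)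
theorem F52326 : act 4 n26078 = n26078 := d7_2 F52264 D26078 (iv D26078)
theorem F52327 : act 5 n26078 = n26073 := d8_2 (iv F52265) D26078 (iv D26073)
def n26079 : Q := act 3 n26059
theorem D26079 : act 3 n26059 = n26079 := rfl
theorem F52328 : act 0 n26079 = n26060 := d2_1 D26079 (iv D26060) (iv F52263)
theorem F52329 : act 2 n26079 = n26069 := d9_1 D26079 (iv D26069) (iv D26041) (iv D26001) F51954 D25977 D26024 D26057 F52259 (iv D26044) F52118 F51986 (iv F52054) D26026 D26059
theorem F52330 : act 5 n26079 = n26070 := d13_2 (iv F52265) D26079 F52298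
def n26080 : Q := act 4 n26060
theorem D26080 : act 4 n26060 = n26080 := rfl
theorem F52331 : act 1 n26080 = n26080 := d7_1 D26080 (iv D26080) F52266
theorem F52332 : act 2 n26080 = n26072 := d10_1 D26080 F52303 (iv F52268)
theorem F52333 : act 3 n26080 = n26080 := d12_1 D26080 (iv D26080) (iv D26060) F52177 D26060
theorem F52334 : act 5 n26080 = n26080 := d14_2 (iv F52267) D26080 (iv D26080) F52267 F52258
def n26081 : Q := act 3 n26062
theorem D26081 : act 3 n26062 = n26081 := rfl
theorem F52335 : act 1 n26081 = n26063 := d6_1 D26081 (iv D26063) D26062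
theorem F52336 : act 5 n26081 = n26064 := d13_2 (iv F52276) D26081 (iv D26064)
def n26082 : Q := act 4 n26063
theorem D26082 : act 4 n26063 = n26082 := rfl
theorem F52337 : act 0 n26082 = n26077 := d3_1 D26082 F52321 (iv F52277)
theorem F52338 : act 2 n26082 = n26082 := d10_1 D26082 (iv D26082) F52278
theorem F52339 : act 3 n26082 = n26076 := d12_1 D26082 (iv D26076) F52245 (iv F52190) D26063
theorem F52340 : act 5 n26082 = n26082 := d14_2 (iv F52279) D26082 (iv D26082) F52279 F52197
def n26083 : Q := act 2 n26064
theorem D26083 : act 2 n26064 = n26083 := rfl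
theorem F52341 : act 1 n26083 = n26083 := d5_1 D26083 (iv D26083) F52280 F52198 (iv F52280)
theorem F52342 : act 4 n26083 = n26083 := d10_2 F52281 D26083 (iv D26083)
theorem F52343 : act 3 n26083 = n26083 := d15_3 (iv F52195) D26064 D26083 (iv D26083) (iv D26064) F52195 D26035 F52202 F52101
def n26084 : Q := act 3 n26065
theorem D26084 : act 3 n26065 = n26084 := rfl
theorem F52344 : act 0 n26084 = n26081 := d2_1 D26084 (iv D26081) (iv F52282)
theorem F52345 : act 1 n26084 = n26069 := d6_1 D26084 (iv D26069) (iv F52283)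
theorem F52346 : act 5 n26084 = n26068 := d13_2 (iv F52285) D26084 (iv D26068)
def n26085 : Q := act 4 n26066
theorem D26085 : act 4 n26066 = n26085 := rfl
theorem F52347 : act 1 n26085 = n26076 := d7_1 D26085 (iv D26076) (iv F52286)
theorem F52348 : act 5 n26085 = n26085 := d14_2 D26066 D26085 (iv D26085) (iv D26066) F52204
def n26086 : Q := act 4 n26067
theorem D26086 : act 4 n26067 = n26086 := rfl
theorem F52349 : act 0 n26086 = n26085 := d3_1 D26086 (iv D26085) (iv F52288)
theorem F52350 : act 1 n26086 = n26071 := d7_1 D26086 (iv D26071) (iv F52289)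
theorem F52351 : act 2 n26086 = n26085 := d10_1 D26086 (iv D26085) (iv F52290)
theorem F52352 : act 5 n26086 = n26086 := d14_2 (iv F52291) D26086 (iv D26086) F52291 F52215
def n26087 : Q := act 2 n26068
theorem D26087 : act 2 n26068 = n26087 := rfl
theorem F52353 : act 0 n26087 = n26083 := d1_1 D26087 (iv D26083) (iv F52292)
theorem F52354 : act 4 n26087 = n26087 := d10_2 F52294 D26087 (iv D26087)
theorem F52355 : act 3 n26087 = n26087 := d15_1 D26087 (iv D26087) (iv D26068) F52212 (iv F52192) (iv F52274) D26081 F52336 (iv F52292)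
def n26088 : Q := act 4 n26069
theorem D26088 : act 4 n26069 = n26088 := rfl
theorem F52356 : act 0 n26088 = n26072 := d3_1 D26088 F52303 (iv F52295)
theorem F52357 : act 3 n26088 = n26071 := d12_1 D26088 (iv D26071) (iv D26045) (iv F52218) D26069
theorem F52358 : act 5 n26088 = n26088 := d14_2 (iv F52296) D26088 (iv D26088) F52296 F52220
def n26089 : Q := act 1 n26070
theorem D26089 : act 1 n26070 = n26089 := rfl
theorem F52359 : act 0 n26089 = n26089 := d0_1 D26089 (iv D26089) F52297 F52257 (iv F52297)
theorem F52360 : act 3 n26089 = n26073 := d6_2 (iv F52298) D26089 (iv D26073)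
theorem F52361 : act 4 n26089 = n26089 := d7_2 F52299 D26089 (iv D26089)
def n26090 : Q := act 3 n26078
theorem D26090 : act 3 n26078 = n26090 := rfl
theorem F52362 : act 0 n26090 = n26090 := d2_1 D26090 (iv D26090) F52324
theorem F52363 : act 1 n26090 = n26079 := d6_1 D26090 (iv D26079) D26078
theorem F52364 : act 5 n26090 = n26089 := d13_2 (iv F52327) D26090 F52360
def n26091 : Q := act 4 n26079
theorem D26091 : act 4 n26079 = n26091 := rfl
theorem F52365 : act 0 n26091 = n26080 := d3_1 D26091 (iv D26080) (iv F52328)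
theorem F52366 : act 2 n26091 = n26088 := d10_1 D26091 (iv D26088) (iv F52329)
theorem F52367 : act 3 n26091 = n26091 := d12_1 D26091 (iv D26091) (iv D26079) F52264 D26079
theorem F52368 : act 5 n26091 = n26091 := d14_2 (iv F52330) D26091 (iv D26091) F52330 F52299
def n26092 : Q := act 2 n26081
theorem D26092 : act 2 n26081 = n26092 := rfl
theorem F52369 : act 1 n26092 = n26092 := d5_1 D26092 (iv D26092) F52335 F52278 (iv F52335)
theorem F52370 : act 3 n26092 = n26092 := d9_2 D26081 D26092 (iv D26092) (iv D26081) F52274 F52192 (iv F52212) D26068 D26087 F52355 (iv D26087) (iv D26068) F52212 (iv F52192) (iv F52274)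
theorem F52371 : act 5 n26092 = n26083 := d11_2 (iv F52336) D26092 (iv D26083)
def n26093 : Q := act 4 n26081
theorem D26093 : act 4 n26081 = n26093 := rfl
theorem F52372 : act 1 n26093 = n26082 := d7_1 D26093 (iv D26082) (iv F52335)
theorem F52373 : act 3 n26093 = n26085 := d12_1 D26093 (iv D26085) F52287 (iv F52275) D26081
theorem F52374 : act 5 n26093 = n26093 := d14_2 (iv F52336) D26093 (iv D26093) F52336 F52281
def n26094 : Q := act 2 n26084
theorem D26094 : act 2 n26084 = n26094 := rfl
theorem F52375 : act 0 n26094 = n26092 := d1_1 D26094 (iv D26092) (iv F52344)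
theorem F52376 : act 3 n26094 = n26094 := d9_2 D26084 D26094 (iv D26094) (iv D26084) (iv D26065) (iv D26035) (iv F52195) D26064 D26083 F52343 (iv D26083) (iv D26064) F52195 D26035 D26065
theorem F52377 : act 5 n26094 = n26087 := d11_2 (iv F52346) D26094 (iv D26087)
def n26095 : Q := act 4 n26084
theorem D26095 : act 4 n26084 = n26095 := rfl
theorem F52378 : act 0 n26095 = n26093 := d3_1 D26095 (iv D26093) (iv F52344)
theorem F52379 : act 1 n26095 = n26088 := d7_1 D26095 (iv D26088) (iv F52345)
theorem F52380 : act 3 n26095 = n26086 := d12_1 D26095 (iv D26086) (iv D26067) (iv F52284) D26084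
theorem F52381 : act 5 n26095 = n26095 := d14_2 (iv F52346) D26095 (iv D26095) F52346 F52294
def n26096 : Q := act 1 n26087
theorem D26096 : act 1 n26087 = n26096 := rfl
theorem F52382 : act 0 n26096 = n26096 := d0_1 D26096 (iv D26096) F52353 F52341 (iv F52353)
theorem F52383 : act 2 n26096 = n26089 := d5_2 D26087 D26096 (iv D26089) (iv D26070) (iv F52293)
theorem F52384 : act 3 n26096 = n26096 := d6_2 F52355 D26096 (iv D26096)
theorem F52385 : act 4 n26096 = n26096 := d7_2 F52354 D26096 (iv D26096)
def n26097 : Q := act 2 n26090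
theorem D26097 : act 2 n26090 = n26097 := rfl
theorem F52386 : act 0 n26097 = n26097 := d1_1 D26097 (iv D26097) F52362
theorem F52387 : act 1 n26097 = n26094 := d5_1 D26097 (iv D26094) F52345 (iv F52329) (iv F52363)
theorem F52388 : act 3 n26097 = n26097 := d9_2 D26090 D26097 (iv D26097) (iv D26090) F52325 (iv D26075) (iv F52306) (iv F52360) (iv F52383) F52384 F52383 F52360 F52306 D26075 (iv F52325)
theorem F52389 : act 5 n26097 = n26096 := d11_2 (iv F52364) D26097 F52383
def n26098 : Q := act 4 n26090
theorem D26098 : act 4 n26090 = n26098 := rfl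
theorem F52390 : act 0 n26098 = n26098 := d3_1 D26098 (iv D26098) F52362
theorem F52391 : act 1 n26098 = n26091 := d7_1 D26098 (iv D26091) (iv F52363)
theorem F52392 : act 3 n26098 = n26098 := d12_1 D26098 (iv D26098) (iv D26090) F52326 D26090
theorem F52393 : act 5 n26098 = n26098 := d14_2 (iv F52364) D26098 (iv D26098) F52364 F52361
def n26099 : Q := act 4 n26092
theorem D26099 : act 4 n26092 = n26099 := rfl
theorem F52394 : act 1 n26099 = n26099 := d7_1 D26099 (iv D26099) F52369
theorem F52395 : act 2 n26099 = n26093 := d10_1 D26099 (iv D26093) D26092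
theorem F52396 : act 5 n26099 = n26099 := d14_2 (iv F52371) D26099 (iv D26099) F52371 F52342
def n26100 : Q := act 4 n26094
theorem D26100 : act 4 n26094 = n26100 := rfl
theorem F52397 : act 0 n26100 = n26099 := d3_1 D26100 (iv D26099) (iv F52375)
theorem F52398 : act 2 n26100 = n26095 := d10_1 D26100 (iv D26095) D26094
theorem F52399 : act 5 n26100 = n26100 := d14_2 (iv F52377) D26100 (iv D26100) F52377 F52354
def n26101 : Q := act 4 n26097
theorem D26101 : act 4 n26097 = n26101 := rfl
theorem F52400 : act 0 n26101 = n26101 := d3_1 D26101 (iv D26101) F52386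
theorem F52401 : act 1 n26101 = n26100 := d7_1 D26101 (iv D26100) (iv F52387)
theorem F52402 : act 2 n26101 = n26098 := d10_1 D26101 (iv D26098) D26097
theorem F52403 : act 5 n26101 = n26101 := d14_2 (iv F52389) D26101 (iv D26101) F52389 F52385
def n26102 : Q := act 3 n26099
theorem D26102 : act 3 n26099 = n26102 := rfl
theorem F52404 : act 1 n26102 = n26102 := d6_1 D26102 (iv D26102) F52394
theorem F52405 : act 4 n26102 = n26102 := d12_2 D26099 D26102 (iv D26102) (iv D26099) F52370
theorem F52406 : act 5 n26102 = n26102 := d13_2 F52396 D26102 (iv D26102)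
theorem F52407 : act 2 n26102 = n26102 := d15_2 (iv F52395) D26102 (iv D26102) F52395 F52373 (iv F52351) (iv F52380) F52381 F52378
def n26103 : Q := act 3 n26100
theorem D26103 : act 3 n26100 = n26103 := rfl
theorem F52408 : act 0 n26103 = n26102 := d2_1 D26103 (iv D26102) (iv F52397)
theorem F52409 : act 2 n26103 = n26103 := d9_1 D26103 (iv D26103) F52398 F52380 F52351 (iv F52373) (iv F52395) D26102 F52407 (iv D26102) F52395 F52373 (iv F52351) (iv F52380) (iv F52398)
theorem F52410 : act 4 n26103 = n26103 := d12_2 D26100 D26103 (iv D26103) (iv D26100) F52376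
theorem F52411 : act 5 n26103 = n26103 := d13_2 F52399 D26103 (iv D26103)
def n26104 : Q := act 3 n26101
theorem D26104 : act 3 n26101 = n26104 := rfl
theorem F52412 : act 0 n26104 = n26104 := d2_1 D26104 (iv D26104) F52400
theorem F52413 : act 1 n26104 = n26103 := d6_1 D26104 (iv D26103) (iv F52401)
theorem F52414 : act 4 n26104 = n26104 := d12_2 D26101 D26104 (iv D26104) (iv D26101) F52388
theorem F52415 : act 5 n26104 = n26104 := d13_2 F52403 D26104 (iv D26104)
def n26105 : Q := act 2 n26104
theorem D26105 : act 2 n26104 = n26105 := rfl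
theorem F52416 : act 0 n26105 = n26105 := d1_1 D26105 (iv D26105) F52412
theorem F52417 : act 1 n26105 = n26105 := d5_1 D26105 (iv D26105) F52413 F52409 (iv F52413)
theorem F52418 : act 4 n26105 = n26105 := d10_2 F52414 D26105 (iv D26105)
theorem F52419 : act 5 n26105 = n26105 := d11_2 F52415 D26105 (iv D26105)
theorem F52420 : act 3 n26105 = n26105 := d15_1 D26105 (iv D26105) (iv D26104) F52402 F52392 (iv F52402) D26104 F52415 F52412

end Cfsg.Agent.Helper17.ONS1TC
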