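import Cfsg.Agent.Helper17.ONS1TC.Fin1

set_option autoImplicit false
set_option linter.all false
set_option maxRecDepth 100000

noncomputable section

namespace Cfsg.Agent.Helper17.ONS1TC

theorem N10001 : nd 10001 = n10001 := ndS (p := 7713) (l := 3) rfl N7713 D10001
theorem N10002 : nd 10002 = n10002 := ndS (p := 7714) (l := 0) rfl N7714 D10002
theorem N10003 : nd 10003 = n10003 := ndS (p := 7714) (l := 3) rfl N7714 D10003
theorem N10004 : nd 10004 = n10004 := ndS (p := 7714) (l := 4) rfl N7714 D10004
theorem N10005 : nd 10005 = n10005 := ndS (p := 7715) (l := 4) rfl N7715 D10005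
theorem N10006 : nd 10006 = n10006 := ndS (p := 7715) (l := 5) rfl N7715 D10006
theorem N10007 : nd 10007 = n10007 := ndS (p := 7716) (l := 3) rfl N7716 D10007
theorem N10008 : nd 10008 = n10008 := ndS (p := 7716) (l := 5) rfl N7716 D10008
theorem N10009 : nd 10009 = n10009 := ndS (p := 7717) (l := 4) rfl N7717 D10009
theorem N10010 : nd 10010 = n10010 := ndS (p := 7718) (l := 4) rfl N7718 D10010
theorem N10011 : nd 10011 = n10011 := ndS (p := 7719) (l := 3) rfl N7719 D10011
theorem N10012 : nd 10012 = n10012 := ndS (p := 7720) (l := 2) rfl N7720 D10012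
theorem N10013 : nd 10013 = n10013 := ndS (p := 7721) (l := 4) rfl N7721 D10013
theorem N10014 : nd 10014 = n10014 := ndS (p := 7722) (l := 3) rfl N7722 D10014
theorem N10015 : nd 10015 = n10015 := ndS (p := 7722) (l := 5) rfl N7722 D10015
theorem N10016 : nd 10016 = n10016 := ndS (p := 7726) (l := 2) rfl N7726 D10016
theorem N10017 : nd 10017 = n10017 := ndS (p := 7727) (l := 1) rfl N7727 D10017
theorem N10018 : nd 10018 = n10018 := ndS (p := 7728) (l := 4) rfl N7728 D10018
theorem N10019 : nd 10019 = n10019 := ndS (p := 7729) (l := 4) rfl N7729 D10019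
theorem N10020 : nd 10020 = n10020 := ndS (p := 7730) (l := 3) rfl N7730 D10020
theorem N10021 : nd 10021 = n10021 := ndS (p := 7730) (l := 5) rfl N7730 D10021
theorem N10022 : nd 10022 = n10022 := ndS (p := 7732) (l := 2) rfl N7732 D10022
theorem N10023 : nd 10023 = n10023 := ndS (p := 7733) (l := 4) rfl N7733 D10023
theorem N10024 : nd 10024 = n10024 := ndS (p := 7734) (l := 3) rfl N7734 D10024
theorem N10025 : nd 10025 = n10025 := ndS (p := 7734) (l := 5) rfl N7734 D10025
theorem N10026 : nd 10026 = n10026 := ndS (p := 7735) (l := 2) rfl N7735 D10026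
theorem N10027 : nd 10027 = n10027 := ndS (p := 7735) (l := 5) rfl N7735 D10027
theorem N10028 : nd 10028 = n10028 := ndS (p := 7737) (l := 1) rfl N7737 D10028
theorem N10029 : nd 10029 = n10029 := ndS (p := 7737) (l := 3) rfl N7737 D10029
theorem N10030 : nd 10030 = n10030 := ndS (p := 7738) (l := 0) rfl N7738 D10030
theorem N10031 : nd 10031 = n10031 := ndS (p := 7739) (l := 2) rfl N7739 D10031
theorem N10032 : nd 10032 = n10032 := ndS (p := 7739) (l := 5) rfl N7739 D10032
theorem N10033 : nd 10033 = n10033 := ndS (p := 7741) (l := 1) rfl N7741 D10033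
theorem N10034 : nd 10034 = n10034 := ndS (p := 7741) (l := 3) rfl N7741 D10034
theorem N10035 : nd 10035 = n10035 := ndS (p := 7741) (l := 5) rfl N7741 D10035
theorem N10036 : nd 10036 = n10036 := ndS (p := 7742) (l := 4) rfl N7742 D10036
theorem N10037 : nd 10037 = n10037 := ndS (p := 7743) (l := 0) rfl N7743 D10037
theorem N10038 : nd 10038 = n10038 := ndS (p := 7745) (l := 3) rfl N7745 D10038
theorem N10039 : nd 10039 = n10039 := ndS (p := 7745) (l := 5) rfl N7745 D10039
theorem N10040 : nd 10040 = n10040 := ndS (p := 7746) (l := 2) rfl N7746 D10040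
theorem N10041 : nd 10041 = n10041 := ndS (p := 7746) (l := 4) rfl N7746 D10041
theorem N10042 : nd 10042 = n10042 := ndS (p := 7747) (l := 4) rfl N7747 D10042
theorem N10043 : nd 10043 = n10043 := ndS (p := 7750) (l := 5) rfl N7750 D10043
theorem N10044 : nd 10044 = n10044 := ndS (p := 7752) (l := 3) rfl N7752 D10044
theorem N10045 : nd 10045 = n10045 := ndS (p := 7752) (l := 5) rfl N7752 D10045
theorem N10046 : nd 10046 = n10046 := ndS (p := 7753) (l := 5) rfl N7753 D10046
theorem N10047 : nd 10047 = n10047 := ndS (p := 7755) (l := 4) rfl N7755 D10047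
theorem N10048 : nd 10048 = n10048 := ndS (p := 7756) (l := 4) rfl N7756 D10048
theorem N10049 : nd 10049 = n10049 := ndS (p := 7757) (l := 3) rfl N7757 D10049
theorem N10050 : nd 10050 = n10050 := ndS (p := 7757) (l := 5) rfl N7757 D10050
theorem N10051 : nd 10051 = n10051 := ndS (p := 7759) (l := 2) rfl N7759 D10051
theorem N10052 : nd 10052 = n10052 := ndS (p := 7760) (l := 4) rfl N7760 D10052
theorem N10053 : nd 10053 = n10053 := ndS (p := 7761) (l := 3) rfl N7761 D10053
theorem N10054 : nd 10054 = n10054 := ndS (p := 7761) (l := 5) rfl N7761 D10054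
theorem N10055 : nd 10055 = n10055 := ndS (p := 7762) (l := 2) rfl N7762 D10055
theorem N10056 : nd 10056 = n10056 := ndS (p := 7762) (l := 5) rfl N7762 D10056
theorem N10057 : nd 10057 = n10057 := ndS (p := 7764) (l := 3) rfl N7764 D10057
theorem N10058 : nd 10058 = n10058 := ndS (p := 7765) (l := 4) rfl N7765 D10058
theorem N10059 : nd 10059 = n10059 := ndS (p := 7766) (l := 3) rfl N7766 D10059
theorem N10060 : nd 10060 = n10060 := ndS (p := 7766) (l := 5) rfl N7766 D10060
theorem N10061 : nd 10061 = n10061 := ndS (p := 7767) (l := 4) rfl N7767 D10061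
theorem N10062 : nd 10062 = n10062 := ndS (p := 7768) (l := 2) rfl N7768 D10062
theorem N10063 : nd 10063 = n10063 := ndS (p := 7768) (l := 5) rfl N7768 D10063
theorem N10064 : nd 10064 = n10064 := ndS (p := 7769) (l := 4) rfl N7769 D10064
theorem N10065 : nd 10065 = n10065 := ndS (p := 7770) (l := 3) rfl N7770 D10065
theorem N10066 : nd 10066 = n10066 := ndS (p := 7771) (l := 3) rfl N7771 D10066
theorem N10067 : nd 10067 = n10067 := ndS (p := 7772) (l := 2) rfl N7772 D10067
theorem N10068 : nd 10068 = n10068 := ndS (p := 7773) (l := 1) rfl N7773 D10068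
theorem N10069 : nd 10069 = n10069 := ndS (p := 7774) (l := 3) rfl N7774 D10069
theorem N10070 : nd 10070 = n10070 := ndS (p := 7774) (l := 5) rfl N7774 D10070
theorem N10071 : nd 10071 = n10071 := ndS (p := 7775) (l := 3) rfl N7775 D10071
theorem N10072 : nd 10072 = n10072 := ndS (p := 7775) (l := 5) rfl N7775 D10072
theorem N10073 : nd 10073 = n10073 := ndS (p := 7776) (l := 2) rfl N7776 D10073
theorem N10074 : nd 10074 = n10074 := ndS (p := 7776) (l := 5) rfl N7776 D10074
theorem N10075 : nd 10075 = n10075 := ndS (p := 7778) (l := 2) rfl N7778 D10075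
theorem N10076 : nd 10076 = n10076 := ndS (p := 7778) (l := 5) rfl N7778 D10076
theorem N10077 : nd 10077 = n10077 := ndS (p := 7779) (l := 4) rfl N7779 D10077
theorem N10078 : nd 10078 = n10078 := ndS (p := 7780) (l := 3) rfl N7780 D10078
theorem N10079 : nd 10079 = n10079 := ndS (p := 7781) (l := 1) rfl N7781 D10079
theorem N10080 : nd 10080 = n10080 := ndS (p := 7781) (l := 3) rfl N7781 D10080
theorem N10081 : nd 10081 = n10081 := ndS (p := 7781) (l := 5) rfl N7781 D10081
theorem N10082 : nd 10082 = n10082 := ndS (p := 7782) (l := 4) rfl N7782 D10082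
theorem N10083 : nd 10083 = n10083 := ndS (p := 7783) (l := 3) rfl N7783 D10083
theorem N10084 : nd 10084 = n10084 := ndS (p := 7784) (l := 2) rfl N7784 D10084
theorem N10085 : nd 10085 = n10085 := ndS (p := 7785) (l := 2) rfl N7785 D10085
theorem N10086 : nd 10086 = n10086 := ndS (p := 7786) (l := 1) rfl N7786 D10086
theorem N10087 : nd 10087 = n10087 := ndS (p := 7786) (l := 3) rfl N7786 D10087
theorem N10088 : nd 10088 = n10088 := ndS (p := 7787) (l := 0) rfl N7787 D10088
theorem N10089 : nd 10089 = n10089 := ndS (p := 7789) (l := 1) rfl N7789 D10089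
theorem N10090 : nd 10090 = n10090 := ndS (p := 7789) (l := 3) rfl N7789 D10090
theorem N10091 : nd 10091 = n10091 := ndS (p := 7789) (l := 5) rfl N7789 D10091
theorem N10092 : nd 10092 = n10092 := ndS (p := 7791) (l := 0) rfl N7791 D10092
theorem N10093 : nd 10093 = n10093 := ndS (p := 7791) (l := 3) rfl N7791 D10093
theorem N10094 : nd 10094 = n10094 := ndS (p := 7791) (l := 5) rfl N7791 D10094
theorem N10095 : nd 10095 = n10095 := ndS (p := 7794) (l := 0) rfl N7794 D10095
theorem N10096 : nd 10096 = n10096 := ndS (p := 7796) (l := 4) rfl N7796 D10096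
theorem N10097 : nd 10097 = n10097 := ndS (p := 7797) (l := 3) rfl N7797 D10097
theorem N10098 : nd 10098 = n10098 := ndS (p := 7797) (l := 5) rfl N7797 D10098
theorem N10099 : nd 10099 = n10099 := ndS (p := 7798) (l := 2) rfl N7798 D10099
theorem N10100 : nd 10100 = n10100 := ndS (p := 7799) (l := 2) rfl N7799 D10100
theorem N10101 : nd 10101 = n10101 := ndS (p := 7799) (l := 5) rfl N7799 D10101
theorem N10102 : nd 10102 = n10102 := ndS (p := 7801) (l := 1) rfl N7801 D10102
theorem N10103 : nd 10103 = n10103 := ndS (p := 7802) (l := 4) rfl N7802 D10103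
theorem N10104 : nd 10104 = n10104 := ndS (p := 7803) (l := 3) rfl N7803 D10104
theorem N10105 : nd 10105 = n10105 := ndS (p := 7803) (l := 5) rfl N7803 D10105
theorem N10106 : nd 10106 = n10106 := ndS (p := 7804) (l := 2) rfl N7804 D10106
theorem N10107 : nd 10107 = n10107 := ndS (p := 7804) (l := 5) rfl N7804 D10107
theorem N10108 : nd 10108 = n10108 := ndS (p := 7806) (l := 1) rfl N7806 D10108
theorem N10109 : nd 10109 = n10109 := ndS (p := 7806) (l := 3) rfl N7806 D10109
theorem N10110 : nd 10110 = n10110 := ndS (p := 7806) (l := 5) rfl N7806 D10110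
theorem N10111 : nd 10111 = n10111 := ndS (p := 7808) (l := 0) rfl N7808 D10111
theorem N10112 : nd 10112 = n10112 := ndS (p := 7809) (l := 5) rfl N7809 D10112
theorem N10113 : nd 10113 = n10113 := ndS (p := 7811) (l := 2) rfl N7811 D10113
theorem N10114 : nd 10114 = n10114 := ndS (p := 7813) (l := 3) rfl N7813 D10114
theorem N10115 : nd 10115 = n10115 := ndS (p := 7813) (l := 5) rfl N7813 D10115
theorem N10116 : nd 10116 = n10116 := ndS (p := 7814) (l := 2) rfl N7814 D10116
theorem N10117 : nd 10117 = n10117 := ndS (p := 7814) (l := 5) rfl N7814 D10117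
theorem N10118 : nd 10118 = n10118 := ndS (p := 7816) (l := 2) rfl N7816 D10118
theorem N10119 : nd 10119 = n10119 := ndS (p := 7816) (l := 5) rfl N7816 D10119
theorem N10120 : nd 10120 = n10120 := ndS (p := 7818) (l := 1) rfl N7818 D10120
theorem N10121 : nd 10121 = n10121 := ndS (p := 7818) (l := 3) rfl N7818 D10121
theorem N10122 : nd 10122 = n10122 := ndS (p := 7818) (l := 5) rfl N7818 D10122
theorem N10123 : nd 10123 = n10123 := ndS (p := 7820) (l := 2) rfl N7820 D10123
theorem N10124 : nd 10124 = n10124 := ndS (p := 7821) (l := 1) rfl N7821 D10124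
theorem N10125 : nd 10125 = n10125 := ndS (p := 7821) (l := 3) rfl N7821 D10125
theorem N10126 : nd 10126 = n10126 := ndS (p := 7822) (l := 0) rfl N7822 D10126
theorem N10127 : nd 10127 = n10127 := ndS (p := 7823) (l := 3) rfl N7823 D10127
theorem N10128 : nd 10128 = n10128 := ndS (p := 7824) (l := 4) rfl N7824 D10128
theorem N10129 : nd 10129 = n10129 := ndS (p := 7825) (l := 4) rfl N7825 D10129
theorem N10130 : nd 10130 = n10130 := ndS (p := 7826) (l := 5) rfl N7826 D10130
theorem N10131 : nd 10131 = n10131 := ndS (p := 7827) (l := 3) rfl N7827 D10131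
theorem N10132 : nd 10132 = n10132 := ndS (p := 7828) (l := 3) rfl N7828 D10132
theorem N10133 : nd 10133 = n10133 := ndS (p := 7828) (l := 5) rfl N7828 D10133
theorem N10134 : nd 10134 = n10134 := ndS (p := 7829) (l := 2) rfl N7829 D10134
theorem N10135 : nd 10135 = n10135 := ndS (p := 7829) (l := 4) rfl N7829 D10135
theorem N10136 : nd 10136 = n10136 := ndS (p := 7829) (l := 5) rfl N7829 D10136
theorem N10137 : nd 10137 = n10137 := ndS (p := 7831) (l := 4) rfl N7831 D10137
theorem N10138 : nd 10138 = n10138 := ndS (p := 7832) (l := 5) rfl N7832 D10138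
theorem N10139 : nd 10139 = n10139 := ndS (p := 7833) (l := 3) rfl N7833 D10139
theorem N10140 : nd 10140 = n10140 := ndS (p := 7834) (l := 4) rfl N7834 D10140
theorem N10141 : nd 10141 = n10141 := ndS (p := 7835) (l := 1) rfl N7835 D10141
theorem N10142 : nd 10142 = n10142 := ndS (p := 7835) (l := 4) rfl N7835 D10142
theorem N10143 : nd 10143 = n10143 := ndS (p := 7836) (l := 5) rfl N7836 D10143
theorem N10144 : nd 10144 = n10144 := ndS (p := 7837) (l := 4) rfl N7837 D10144
theorem N10145 : nd 10145 = n10145 := ndS (p := 7838) (l := 3) rfl N7838 D10145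
theorem N10146 : nd 10146 = n10146 := ndS (p := 7838) (l := 5) rfl N7838 D10146
theorem N10147 : nd 10147 = n10147 := ndS (p := 7839) (l := 4) rfl N7839 D10147
theorem N10148 : nd 10148 = n10148 := ndS (p := 7840) (l := 3) rfl N7840 D10148
theorem N10149 : nd 10149 = n10149 := ndS (p := 7841) (l := 2) rfl N7841 D10149
theorem N10150 : nd 10150 = n10150 := ndS (p := 7842) (l := 2) rfl N7842 D10150
theorem N10151 : nd 10151 = n10151 := ndS (p := 7842) (l := 5) rfl N7842 D10151
theorem N10152 : nd 10152 = n10152 := ndS (p := 7844) (l := 1) rfl N7844 D10152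
theorem N10153 : nd 10153 = n10153 := ndS (p := 7844) (l := 3) rfl N7844 D10153
theorem N10154 : nd 10154 = n10154 := ndS (p := 7844) (l := 5) rfl N7844 D10154
theorem N10155 : nd 10155 = n10155 := ndS (p := 7846) (l := 0) rfl N7846 D10155
theorem N10156 : nd 10156 = n10156 := ndS (p := 7847) (l := 0) rfl N7847 D10156
theorem N10157 : nd 10157 = n10157 := ndS (p := 7849) (l := 4) rfl N7849 D10157
theorem N10158 : nd 10158 = n10158 := ndS (p := 7851) (l := 3) rfl N7851 D10158
theorem N10159 : nd 10159 = n10159 := ndS (p := 7851) (l := 4) rfl N7851 D10159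
theorem N10160 : nd 10160 = n10160 := ndS (p := 7855) (l := 2) rfl N7855 D10160
theorem N10161 : nd 10161 = n10161 := ndS (p := 7855) (l := 4) rfl N7855 D10161
theorem N10162 : nd 10162 = n10162 := ndS (p := 7857) (l := 2) rfl N7857 D10162
theorem N10163 : nd 10163 = n10163 := ndS (p := 7857) (l := 4) rfl N7857 D10163
theorem N10164 : nd 10164 = n10164 := ndS (p := 7858) (l := 4) rfl N7858 D10164
theorem N10165 : nd 10165 = n10165 := ndS (p := 7859) (l := 3) rfl N7859 D10165
theorem N10166 : nd 10166 = n10166 := ndS (p := 7859) (l := 4) rfl N7859 D10166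
theorem N10167 : nd 10167 = n10167 := ndS (p := 7862) (l := 4) rfl N7862 D10167
theorem N10168 : nd 10168 = n10168 := ndS (p := 7863) (l := 5) rfl N7863 D10168
theorem N10169 : nd 10169 = n10169 := ndS (p := 7864) (l := 3) rfl N7864 D10169
theorem N10170 : nd 10170 = n10170 := ndS (p := 7865) (l := 4) rfl N7865 D10170
theorem N10171 : nd 10171 = n10171 := ndS (p := 7866) (l := 3) rfl N7866 D10171
theorem N10172 : nd 10172 = n10172 := ndS (p := 7866) (l := 5) rfl N7866 D10172
theorem N10173 : nd 10173 = n10173 := ndS (p := 7868) (l := 2) rfl N7868 D10173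
theorem N10174 : nd 10174 = n10174 := ndS (p := 7869) (l := 3) rfl N7869 D10174
theorem N10175 : nd 10175 = n10175 := ndS (p := 7869) (l := 5) rfl N7869 D10175
theorem N10176 : nd 10176 = n10176 := ndS (p := 7870) (l := 2) rfl N7870 D10176
theorem N10177 : nd 10177 = n10177 := ndS (p := 7870) (l := 4) rfl N7870 D10177
theorem N10178 : nd 10178 = n10178 := ndS (p := 7870) (l := 5) rfl N7870 D10178
theorem N10179 : nd 10179 = n10179 := ndS (p := 7871) (l := 4) rfl N7871 D10179
theorem N10180 : nd 10180 = n10180 := ndS (p := 7872) (l := 4) rfl N7872 D10180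
theorem N10181 : nd 10181 = n10181 := ndS (p := 7873) (l := 5) rfl N7873 D10181
theorem N10182 : nd 10182 = n10182 := ndS (p := 7874) (l := 3) rfl N7874 D10182
theorem N10183 : nd 10183 = n10183 := ndS (p := 7875) (l := 2) rfl N7875 D10183
theorem N10184 : nd 10184 = n10184 := ndS (p := 7876) (l := 4) rfl N7876 D10184
theorem N10185 : nd 10185 = n10185 := ndS (p := 7877) (l := 3) rfl N7877 D10185
theorem N10186 : nd 10186 = n10186 := ndS (p := 7878) (l := 3) rfl N7878 D10186
theorem N10187 : nd 10187 = n10187 := ndS (p := 7880) (l := 1) rfl N7880 D10187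
theorem N10188 : nd 10188 = n10188 := ndS (p := 7880) (l := 3) rfl N7880 D10188
theorem N10189 : nd 10189 = n10189 := ndS (p := 7880) (l := 4) rfl N7880 D10189
theorem N10190 : nd 10190 = n10190 := ndS (p := 7880) (l := 5) rfl N7880 D10190
theorem N10191 : nd 10191 = n10191 := ndS (p := 7882) (l := 4) rfl N7882 D10191
theorem N10192 : nd 10192 = n10192 := ndS (p := 7884) (l := 0) rfl N7884 D10192
theorem N10193 : nd 10193 = n10193 := ndS (p := 7884) (l := 3) rfl N7884 D10193
theorem N10194 : nd 10194 = n10194 := ndS (p := 7884) (l := 4) rfl N7884 D10194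
theorem N10195 : nd 10195 = n10195 := ndS (p := 7885) (l := 2) rfl N7885 D10195
theorem N10196 : nd 10196 = n10196 := ndS (p := 7885) (l := 4) rfl N7885 D10196
theorem N10197 : nd 10197 = n10197 := ndS (p := 7885) (l := 5) rfl N7885 D10197
theorem N10198 : nd 10198 = n10198 := ndS (p := 7886) (l := 3) rfl N7886 D10198
theorem N10199 : nd 10199 = n10199 := ndS (p := 7887) (l := 4) rfl N7887 D10199
theorem N10200 : nd 10200 = n10200 := ndS (p := 7889) (l := 4) rfl N7889 D10200
theorem N10201 : nd 10201 = n10201 := ndS (p := 7890) (l := 3) rfl N7890 D10201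
theorem N10202 : nd 10202 = n10202 := ndS (p := 7892) (l := 3) rfl N7892 D10202
theorem N10203 : nd 10203 = n10203 := ndS (p := 7893) (l := 2) rfl N7893 D10203
theorem N10204 : nd 10204 = n10204 := ndS (p := 7895) (l := 4) rfl N7895 D10204
theorem N10205 : nd 10205 = n10205 := ndS (p := 7896) (l := 3) rfl N7896 D10205
theorem N10206 : nd 10206 = n10206 := ndS (p := 7897) (l := 2) rfl N7897 D10206
theorem N10207 : nd 10207 = n10207 := ndS (p := 7897) (l := 5) rfl N7897 D10207
theorem N10208 : nd 10208 = n10208 := ndS (p := 7900) (l := 2) rfl N7900 D10208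
theorem N10209 : nd 10209 = n10209 := ndS (p := 7900) (l := 5) rfl N7900 D10209
theorem N10210 : nd 10210 = n10210 := ndS (p := 7902) (l := 1) rfl N7902 D10210
theorem N10211 : nd 10211 = n10211 := ndS (p := 7902) (l := 3) rfl N7902 D10211
theorem N10212 : nd 10212 = n10212 := ndS (p := 7902) (l := 5) rfl N7902 D10212
theorem N10213 : nd 10213 = n10213 := ndS (p := 7903) (l := 4) rfl N7903 D10213
theorem N10214 : nd 10214 = n10214 := ndS (p := 7904) (l := 5) rfl N7904 D10214
theorem N10215 : nd 10215 = n10215 := ndS (p := 7905) (l := 3) rfl N7905 D10215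
theorem N10216 : nd 10216 = n10216 := ndS (p := 7905) (l := 5) rfl N7905 D10216
theorem N10217 : nd 10217 = n10217 := ndS (p := 7907) (l := 1) rfl N7907 D10217
theorem N10218 : nd 10218 = n10218 := ndS (p := 7908) (l := 3) rfl N7908 D10218
theorem N10219 : nd 10219 = n10219 := ndS (p := 7909) (l := 2) rfl N7909 D10219
theorem N10220 : nd 10220 = n10220 := ndS (p := 7910) (l := 1) rfl N7910 D10220
theorem N10221 : nd 10221 = n10221 := ndS (p := 7911) (l := 1) rfl N7911 D10221
theorem N10222 : nd 10222 = n10222 := ndS (p := 7911) (l := 3) rfl N7911 D10222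
theorem N10223 : nd 10223 = n10223 := ndS (p := 7911) (l := 4) rfl N7911 D10223
theorem N10224 : nd 10224 = n10224 := ndS (p := 7912) (l := 5) rfl N7912 D10224
theorem N10225 : nd 10225 = n10225 := ndS (p := 7913) (l := 2) rfl N7913 D10225
theorem N10226 : nd 10226 = n10226 := ndS (p := 7913) (l := 4) rfl N7913 D10226
theorem N10227 : nd 10227 = n10227 := ndS (p := 7914) (l := 3) rfl N7914 D10227
theorem N10228 : nd 10228 = n10228 := ndS (p := 7914) (l := 5) rfl N7914 D10228
theorem N10229 : nd 10229 = n10229 := ndS (p := 7916) (l := 1) rfl N7916 D10229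
theorem N10230 : nd 10230 = n10230 := ndS (p := 7916) (l := 4) rfl N7916 D10230
theorem N10231 : nd 10231 = n10231 := ndS (p := 7917) (l := 5) rfl N7917 D10231
theorem N10232 : nd 10232 = n10232 := ndS (p := 7918) (l := 4) rfl N7918 D10232
theorem N10233 : nd 10233 = n10233 := ndS (p := 7919) (l := 3) rfl N7919 D10233
theorem N10234 : nd 10234 = n10234 := ndS (p := 7919) (l := 5) rfl N7919 D10234
theorem N10235 : nd 10235 = n10235 := ndS (p := 7921) (l := 0) rfl N7921 D10235
theorem N10236 : nd 10236 = n10236 := ndS (p := 7921) (l := 3) rfl N7921 D10236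
theorem N10237 : nd 10237 = n10237 := ndS (p := 7921) (l := 4) rfl N7921 D10237
theorem N10238 : nd 10238 = n10238 := ndS (p := 7922) (l := 4) rfl N7922 D10238
theorem N10239 : nd 10239 = n10239 := ndS (p := 7923) (l := 3) rfl N7923 D10239
theorem N10240 : nd 10240 = n10240 := ndS (p := 7923) (l := 5) rfl N7923 D10240
theorem N10241 : nd 10241 = n10241 := ndS (p := 7925) (l := 4) rfl N7925 D10241
theorem N10242 : nd 10242 = n10242 := ndS (p := 7926) (l := 4) rfl N7926 D10242
theorem N10243 : nd 10243 = n10243 := ndS (p := 7927) (l := 3) rfl N7927 D10243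
theorem N10244 : nd 10244 = n10244 := ndS (p := 7927) (l := 5) rfl N7927 D10244
theorem N10245 : nd 10245 = n10245 := ndS (p := 7928) (l := 1) rfl N7928 D10245
theorem N10246 : nd 10246 = n10246 := ndS (p := 7928) (l := 4) rfl N7928 D10246
theorem N10247 : nd 10247 = n10247 := ndS (p := 7929) (l := 3) rfl N7929 D10247
theorem N10248 : nd 10248 = n10248 := ndS (p := 7929) (l := 5) rfl N7929 D10248
theorem N10249 : nd 10249 = n10249 := ndS (p := 7930) (l := 2) rfl N7930 D10249
theorem N10250 : nd 10250 = n10250 := ndS (p := 7930) (l := 5) rfl N7930 D10250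
theorem N10251 : nd 10251 = n10251 := ndS (p := 7932) (l := 3) rfl N7932 D10251
theorem N10252 : nd 10252 = n10252 := ndS (p := 7932) (l := 5) rfl N7932 D10252
theorem N10253 : nd 10253 = n10253 := ndS (p := 7933) (l := 2) rfl N7933 D10253
theorem N10254 : nd 10254 = n10254 := ndS (p := 7933) (l := 5) rfl N7933 D10254
theorem N10255 : nd 10255 = n10255 := ndS (p := 7935) (l := 1) rfl N7935 D10255
theorem N10256 : nd 10256 = n10256 := ndS (p := 7937) (l := 1) rfl N7937 D10256
theorem N10257 : nd 10257 = n10257 := ndS (p := 7937) (l := 4) rfl N7937 D10257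
theorem N10258 : nd 10258 = n10258 := ndS (p := 7938) (l := 5) rfl N7938 D10258
theorem N10259 : nd 10259 = n10259 := ndS (p := 7939) (l := 3) rfl N7939 D10259
theorem N10260 : nd 10260 = n10260 := ndS (p := 7940) (l := 4) rfl N7940 D10260
theorem N10261 : nd 10261 = n10261 := ndS (p := 7941) (l := 3) rfl N7941 D10261
theorem N10262 : nd 10262 = n10262 := ndS (p := 7941) (l := 5) rfl N7941 D10262
theorem N10263 : nd 10263 = n10263 := ndS (p := 7943) (l := 2) rfl N7943 D10263
theorem N10264 : nd 10264 = n10264 := ndS (p := 7944) (l := 4) rfl N7944 D10264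
theorem N10265 : nd 10265 = n10265 := ndS (p := 7945) (l := 3) rfl N7945 D10265
theorem N10266 : nd 10266 = n10266 := ndS (p := 7945) (l := 5) rfl N7945 D10266
theorem N10267 : nd 10267 = n10267 := ndS (p := 7947) (l := 2) rfl N7947 D10267
theorem N10268 : nd 10268 = n10268 := ndS (p := 7948) (l := 3) rfl N7948 D10268
theorem N10269 : nd 10269 = n10269 := ndS (p := 7948) (l := 5) rfl N7948 D10269
theorem N10270 : nd 10270 = n10270 := ndS (p := 7949) (l := 2) rfl N7949 D10270
theorem N10271 : nd 10271 = n10271 := ndS (p := 7949) (l := 5) rfl N7949 D10271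
theorem N10272 : nd 10272 = n10272 := ndS (p := 7951) (l := 1) rfl N7951 D10272
theorem N10273 : nd 10273 = n10273 := ndS (p := 7951) (l := 3) rfl N7951 D10273
theorem N10274 : nd 10274 = n10274 := ndS (p := 7952) (l := 0) rfl N7952 D10274
theorem N10275 : nd 10275 = n10275 := ndS (p := 7953) (l := 4) rfl N7953 D10275
theorem N10276 : nd 10276 = n10276 := ndS (p := 7954) (l := 4) rfl N7954 D10276
theorem N10277 : nd 10277 = n10277 := ndS (p := 7955) (l := 3) rfl N7955 D10277
theorem N10278 : nd 10278 = n10278 := ndS (p := 7955) (l := 5) rfl N7955 D10278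
theorem N10279 : nd 10279 = n10279 := ndS (p := 7957) (l := 2) rfl N7957 D10279
theorem N10280 : nd 10280 = n10280 := ndS (p := 7958) (l := 4) rfl N7958 D10280
theorem N10281 : nd 10281 = n10281 := ndS (p := 7959) (l := 3) rfl N7959 D10281
theorem N10282 : nd 10282 = n10282 := ndS (p := 7959) (l := 5) rfl N7959 D10282
theorem N10283 : nd 10283 = n10283 := ndS (p := 7960) (l := 2) rfl N7960 D10283
theorem N10284 : nd 10284 = n10284 := ndS (p := 7960) (l := 5) rfl N7960 D10284
theorem N10285 : nd 10285 = n10285 := ndS (p := 7962) (l := 1) rfl N7962 D10285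
theorem N10286 : nd 10286 = n10286 := ndS (p := 7962) (l := 3) rfl N7962 D10286
theorem N10287 : nd 10287 = n10287 := ndS (p := 7963) (l := 0) rfl N7963 D10287
theorem N10288 : nd 10288 = n10288 := ndS (p := 7964) (l := 4) rfl N7964 D10288
theorem N10289 : nd 10289 = n10289 := ndS (p := 7965) (l := 3) rfl N7965 D10289
theorem N10290 : nd 10290 = n10290 := ndS (p := 7965) (l := 5) rfl N7965 D10290
theorem N10291 : nd 10291 = n10291 := ndS (p := 7966) (l := 3) rfl N7966 D10291
theorem N10292 : nd 10292 = n10292 := ndS (p := 7966) (l := 5) rfl N7966 D10292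
theorem N10293 : nd 10293 = n10293 := ndS (p := 7967) (l := 2) rfl N7967 D10293
theorem N10294 : nd 10294 = n10294 := ndS (p := 7967) (l := 5) rfl N7967 D10294
theorem N10295 : nd 10295 = n10295 := ndS (p := 7969) (l := 1) rfl N7969 D10295
theorem N10296 : nd 10296 = n10296 := ndS (p := 7969) (l := 3) rfl N7969 D10296
theorem N10297 : nd 10297 = n10297 := ndS (p := 7970) (l := 4) rfl N7970 D10297
theorem N10298 : nd 10298 = n10298 := ndS (p := 7971) (l := 3) rfl N7971 D10298
theorem N10299 : nd 10299 = n10299 := ndS (p := 7971) (l := 5) rfl N7971 D10299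
theorem N10300 : nd 10300 = n10300 := ndS (p := 7972) (l := 2) rfl N7972 D10300
theorem N10301 : nd 10301 = n10301 := ndS (p := 7972) (l := 5) rfl N7972 D10301
theorem N10302 : nd 10302 = n10302 := ndS (p := 7974) (l := 1) rfl N7974 D10302
theorem N10303 : nd 10303 = n10303 := ndS (p := 7974) (l := 3) rfl N7974 D10303
theorem N10304 : nd 10304 = n10304 := ndS (p := 7974) (l := 5) rfl N7974 D10304
theorem N10305 : nd 10305 = n10305 := ndS (p := 7975) (l := 4) rfl N7975 D10305
theorem N10306 : nd 10306 = n10306 := ndS (p := 7976) (l := 0) rfl N7976 D10306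
theorem N10307 : nd 10307 = n10307 := ndS (p := 7976) (l := 3) rfl N7976 D10307
theorem N10308 : nd 10308 = n10308 := ndS (p := 7977) (l := 2) rfl N7977 D10308
theorem N10309 : nd 10309 = n10309 := ndS (p := 7977) (l := 4) rfl N7977 D10309
theorem N10310 : nd 10310 = n10310 := ndS (p := 7978) (l := 3) rfl N7978 D10310
theorem N10311 : nd 10311 = n10311 := ndS (p := 7979) (l := 2) rfl N7979 D10311
theorem N10312 : nd 10312 = n10312 := ndS (p := 7980) (l := 4) rfl N7980 D10312
theorem N10313 : nd 10313 = n10313 := ndS (p := 7981) (l := 3) rfl N7981 D10313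
theorem N10314 : nd 10314 = n10314 := ndS (p := 7981) (l := 5) rfl N7981 D10314
theorem N10315 : nd 10315 = n10315 := ndS (p := 7983) (l := 3) rfl N7983 D10315
theorem N10316 : nd 10316 = n10316 := ndS (p := 7983) (l := 5) rfl N7983 D10316
theorem N10317 : nd 10317 = n10317 := ndS (p := 7984) (l := 2) rfl N7984 D10317
theorem N10318 : nd 10318 = n10318 := ndS (p := 7984) (l := 5) rfl N7984 D10318
theorem N10319 : nd 10319 = n10319 := ndS (p := 7986) (l := 4) rfl N7986 D10319
theorem N10320 : nd 10320 = n10320 := ndS (p := 7987) (l := 3) rfl N7987 D10320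
theorem N10321 : nd 10321 = n10321 := ndS (p := 7987) (l := 5) rfl N7987 D10321
theorem N10322 : nd 10322 = n10322 := ndS (p := 7988) (l := 2) rfl N7988 D10322
theorem N10323 : nd 10323 = n10323 := ndS (p := 7988) (l := 5) rfl N7988 D10323
theorem N10324 : nd 10324 = n10324 := ndS (p := 7990) (l := 4) rfl N7990 D10324
theorem N10325 : nd 10325 = n10325 := ndS (p := 7991) (l := 3) rfl N7991 D10325
theorem N10326 : nd 10326 = n10326 := ndS (p := 7991) (l := 5) rfl N7991 D10326
theorem N10327 : nd 10327 = n10327 := ndS (p := 7993) (l := 3) rfl N7993 D10327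
theorem N10328 : nd 10328 = n10328 := ndS (p := 7993) (l := 5) rfl N7993 D10328
theorem N10329 : nd 10329 = n10329 := ndS (p := 7994) (l := 2) rfl N7994 D10329
theorem N10330 : nd 10330 = n10330 := ndS (p := 7994) (l := 5) rfl N7994 D10330
theorem N10331 : nd 10331 = n10331 := ndS (p := 7996) (l := 2) rfl N7996 D10331
theorem N10332 : nd 10332 = n10332 := ndS (p := 7996) (l := 5) rfl N7996 D10332
theorem N10333 : nd 10333 = n10333 := ndS (p := 7998) (l := 1) rfl N7998 D10333
theorem N10334 : nd 10334 = n10334 := ndS (p := 7998) (l := 3) rfl N7998 D10334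
theorem N10335 : nd 10335 = n10335 := ndS (p := 7998) (l := 5) rfl N7998 D10335
theorem N10336 : nd 10336 = n10336 := ndS (p := 7999) (l := 4) rfl N7999 D10336
theorem N10337 : nd 10337 = n10337 := ndS (p := 8000) (l := 2) rfl N8000 D10337
theorem N10338 : nd 10338 = n10338 := ndS (p := 8000) (l := 5) rfl N8000 D10338
theorem N10339 : nd 10339 = n10339 := ndS (p := 8002) (l := 1) rfl N8002 D10339
theorem N10340 : nd 10340 = n10340 := ndS (p := 8002) (l := 3) rfl N8002 D10340
theorem N10341 : nd 10341 = n10341 := ndS (p := 8002) (l := 5) rfl N8002 D10341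
theorem N10342 : nd 10342 = n10342 := ndS (p := 8003) (l := 4) rfl N8003 D10342
theorem N10343 : nd 10343 = n10343 := ndS (p := 8004) (l := 0) rfl N8004 D10343
theorem N10344 : nd 10344 = n10344 := ndS (p := 8006) (l := 2) rfl N8006 D10344
theorem N10345 : nd 10345 = n10345 := ndS (p := 8006) (l := 5) rfl N8006 D10345
theorem N10346 : nd 10346 = n10346 := ndS (p := 8008) (l := 1) rfl N8008 D10346
theorem N10347 : nd 10347 = n10347 := ndS (p := 8009) (l := 4) rfl N8009 D10347
theorem N10348 : nd 10348 = n10348 := ndS (p := 8010) (l := 1) rfl N8010 D10348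
theorem N10349 : nd 10349 = n10349 := ndS (p := 8010) (l := 3) rfl N8010 D10349
theorem N10350 : nd 10350 = n10350 := ndS (p := 8010) (l := 5) rfl N8010 D10350
theorem N10351 : nd 10351 = n10351 := ndS (p := 8011) (l := 4) rfl N8011 D10351
theorem N10352 : nd 10352 = n10352 := ndS (p := 8012) (l := 0) rfl N8012 D10352
theorem N10353 : nd 10353 = n10353 := ndS (p := 8012) (l := 3) rfl N8012 D10353
theorem N10354 : nd 10354 = n10354 := ndS (p := 8012) (l := 5) rfl N8012 D10354
theorem N10355 : nd 10355 = n10355 := ndS (p := 8013) (l := 4) rfl N8013 D10355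
theorem N10356 : nd 10356 = n10356 := ndS (p := 8014) (l := 4) rfl N8014 D10356
theorem N10357 : nd 10357 = n10357 := ndS (p := 8016) (l := 3) rfl N8016 D10357
theorem N10358 : nd 10358 = n10358 := ndS (p := 8016) (l := 5) rfl N8016 D10358
theorem N10359 : nd 10359 = n10359 := ndS (p := 8017) (l := 2) rfl N8017 D10359
theorem N10360 : nd 10360 = n10360 := ndS (p := 8017) (l := 4) rfl N8017 D10360
theorem N10361 : nd 10361 = n10361 := ndS (p := 8017) (l := 5) rfl N8017 D10361
theorem N10362 : nd 10362 = n10362 := ndS (p := 8019) (l := 3) rfl N8019 D10362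
theorem N10363 : nd 10363 = n10363 := ndS (p := 8019) (l := 5) rfl N8019 D10363
theorem N10364 : nd 10364 = n10364 := ndS (p := 8020) (l := 2) rfl N8020 D10364
theorem N10365 : nd 10365 = n10365 := ndS (p := 8022) (l := 4) rfl N8022 D10365
theorem N10366 : nd 10366 = n10366 := ndS (p := 8025) (l := 4) rfl N8025 D10366
theorem N10367 : nd 10367 = n10367 := ndS (p := 8026) (l := 3) rfl N8026 D10367
theorem N10368 : nd 10368 = n10368 := ndS (p := 8027) (l := 2) rfl N8027 D10368
theorem N10369 : nd 10369 = n10369 := ndS (p := 8027) (l := 5) rfl N8027 D10369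
theorem N10370 : nd 10370 = n10370 := ndS (p := 8029) (l := 5) rfl N8029 D10370
theorem N10371 : nd 10371 = n10371 := ndS (p := 8030) (l := 3) rfl N8030 D10371
theorem N10372 : nd 10372 = n10372 := ndS (p := 8032) (l := 2) rfl N8032 D10372
theorem N10373 : nd 10373 = n10373 := ndS (p := 8033) (l := 2) rfl N8033 D10373
theorem N10374 : nd 10374 = n10374 := ndS (p := 8033) (l := 5) rfl N8033 D10374
theorem N10375 : nd 10375 = n10375 := ndS (p := 8035) (l := 1) rfl N8035 D10375
theorem N10376 : nd 10376 = n10376 := ndS (p := 8035) (l := 3) rfl N8035 D10376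
theorem N10377 : nd 10377 = n10377 := ndS (p := 8035) (l := 4) rfl N8035 D10377
theorem N10378 : nd 10378 = n10378 := ndS (p := 8036) (l := 5) rfl N8036 D10378
theorem N10379 : nd 10379 = n10379 := ndS (p := 8037) (l := 4) rfl N8037 D10379
theorem N10380 : nd 10380 = n10380 := ndS (p := 8038) (l := 3) rfl N8038 D10380
theorem N10381 : nd 10381 = n10381 := ndS (p := 8038) (l := 5) rfl N8038 D10381
theorem N10382 : nd 10382 = n10382 := ndS (p := 8040) (l := 2) rfl N8040 D10382
theorem N10383 : nd 10383 = n10383 := ndS (p := 8042) (l := 3) rfl N8042 D10383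
theorem N10384 : nd 10384 = n10384 := ndS (p := 8042) (l := 5) rfl N8042 D10384
theorem N10385 : nd 10385 = n10385 := ndS (p := 8043) (l := 2) rfl N8043 D10385
theorem N10386 : nd 10386 = n10386 := ndS (p := 8043) (l := 5) rfl N8043 D10386
theorem N10387 : nd 10387 = n10387 := ndS (p := 8045) (l := 3) rfl N8045 D10387
theorem N10388 : nd 10388 = n10388 := ndS (p := 8046) (l := 2) rfl N8046 D10388
theorem N10389 : nd 10389 = n10389 := ndS (p := 8047) (l := 1) rfl N8047 D10389
theorem N10390 : nd 10390 = n10390 := ndS (p := 8048) (l := 1) rfl N8048 D10390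
theorem N10391 : nd 10391 = n10391 := ndS (p := 8048) (l := 3) rfl N8048 D10391
theorem N10392 : nd 10392 = n10392 := ndS (p := 8048) (l := 5) rfl N8048 D10392
theorem N10393 : nd 10393 = n10393 := ndS (p := 8049) (l := 4) rfl N8049 D10393
theorem N10394 : nd 10394 = n10394 := ndS (p := 8050) (l := 0) rfl N8050 D10394
theorem N10395 : nd 10395 = n10395 := ndS (p := 8050) (l := 3) rfl N8050 D10395
theorem N10396 : nd 10396 = n10396 := ndS (p := 8051) (l := 2) rfl N8051 D10396
theorem N10397 : nd 10397 = n10397 := ndS (p := 8051) (l := 5) rfl N8051 D10397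
theorem N10398 : nd 10398 = n10398 := ndS (p := 8052) (l := 4) rfl N8052 D10398
theorem N10399 : nd 10399 = n10399 := ndS (p := 8055) (l := 3) rfl N8055 D10399
theorem N10400 : nd 10400 = n10400 := ndS (p := 8056) (l := 2) rfl N8056 D10400
theorem N10401 : nd 10401 = n10401 := ndS (p := 8057) (l := 4) rfl N8057 D10401
theorem N10402 : nd 10402 = n10402 := ndS (p := 8058) (l := 5) rfl N8058 D10402
theorem N10403 : nd 10403 = n10403 := ndS (p := 8059) (l := 1) rfl N8059 D10403
theorem N10404 : nd 10404 = n10404 := ndS (p := 8059) (l := 3) rfl N8059 D10404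
theorem N10405 : nd 10405 = n10405 := ndS (p := 8059) (l := 4) rfl N8059 D10405
theorem N10406 : nd 10406 = n10406 := ndS (p := 8060) (l := 5) rfl N8060 D10406
theorem N10407 : nd 10407 = n10407 := ndS (p := 8061) (l := 3) rfl N8061 D10407
theorem N10408 : nd 10408 = n10408 := ndS (p := 8062) (l := 2) rfl N8062 D10408
theorem N10409 : nd 10409 = n10409 := ndS (p := 8062) (l := 4) rfl N8062 D10409
theorem N10410 : nd 10410 = n10410 := ndS (p := 8063) (l := 3) rfl N8063 D10410
theorem N10411 : nd 10411 = n10411 := ndS (p := 8063) (l := 5) rfl N8063 D10411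
theorem N10412 : nd 10412 = n10412 := ndS (p := 8065) (l := 2) rfl N8065 D10412
theorem N10413 : nd 10413 = n10413 := ndS (p := 8066) (l := 3) rfl N8066 D10413
theorem N10414 : nd 10414 = n10414 := ndS (p := 8066) (l := 5) rfl N8066 D10414
theorem N10415 : nd 10415 = n10415 := ndS (p := 8068) (l := 2) rfl N8068 D10415
theorem N10416 : nd 10416 = n10416 := ndS (p := 8069) (l := 3) rfl N8069 D10416
theorem N10417 : nd 10417 = n10417 := ndS (p := 8069) (l := 5) rfl N8069 D10417
theorem N10418 : nd 10418 = n10418 := ndS (p := 8070) (l := 2) rfl N8070 D10418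
theorem N10419 : nd 10419 = n10419 := ndS (p := 8070) (l := 5) rfl N8070 D10419
theorem N10420 : nd 10420 = n10420 := ndS (p := 8072) (l := 1) rfl N8072 D10420
theorem N10421 : nd 10421 = n10421 := ndS (p := 8072) (l := 3) rfl N8072 D10421
theorem N10422 : nd 10422 = n10422 := ndS (p := 8073) (l := 0) rfl N8073 D10422
theorem N10423 : nd 10423 = n10423 := ndS (p := 8074) (l := 2) rfl N8074 D10423
theorem N10424 : nd 10424 = n10424 := ndS (p := 8074) (l := 4) rfl N8074 D10424
theorem N10425 : nd 10425 = n10425 := ndS (p := 8074) (l := 5) rfl N8074 D10425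
theorem N10426 : nd 10426 = n10426 := ndS (p := 8076) (l := 1) rfl N8076 D10426
theorem N10427 : nd 10427 = n10427 := ndS (p := 8076) (l := 3) rfl N8076 D10427
theorem N10428 : nd 10428 = n10428 := ndS (p := 8076) (l := 4) rfl N8076 D10428
theorem N10429 : nd 10429 = n10429 := ndS (p := 8077) (l := 5) rfl N8077 D10429
theorem N10430 : nd 10430 = n10430 := ndS (p := 8078) (l := 4) rfl N8078 D10430
theorem N10431 : nd 10431 = n10431 := ndS (p := 8079) (l := 3) rfl N8079 D10431
theorem N10432 : nd 10432 = n10432 := ndS (p := 8080) (l := 3) rfl N8080 D10432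
theorem N10433 : nd 10433 = n10433 := ndS (p := 8080) (l := 5) rfl N8080 D10433
theorem N10434 : nd 10434 = n10434 := ndS (p := 8082) (l := 2) rfl N8082 D10434
theorem N10435 : nd 10435 = n10435 := ndS (p := 8083) (l := 1) rfl N8083 D10435
theorem N10436 : nd 10436 = n10436 := ndS (p := 8083) (l := 3) rfl N8083 D10436
theorem N10437 : nd 10437 = n10437 := ndS (p := 8083) (l := 4) rfl N8083 D10437
theorem N10438 : nd 10438 = n10438 := ndS (p := 8084) (l := 5) rfl N8084 D10438
theorem N10439 : nd 10439 = n10439 := ndS (p := 8085) (l := 3) rfl N8085 D10439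
theorem N10440 : nd 10440 = n10440 := ndS (p := 8086) (l := 2) rfl N8086 D10440
theorem N10441 : nd 10441 = n10442 := ndS (p := 8087) (l := 3) rfl N8087 D10442
theorem N10442 : nd 10442 = n10443 := ndS (p := 8087) (l := 5) rfl N8087 D10443
theorem N10443 : nd 10443 = n10444 := ndS (p := 8089) (l := 2) rfl N8089 D10444
theorem N10444 : nd 10444 = n10445 := ndS (p := 8090) (l := 0) rfl N8090 D10445
theorem N10445 : nd 10445 = n10446 := ndS (p := 8090) (l := 3) rfl N8090 D10446
theorem N10446 : nd 10446 = n10447 := ndS (p := 8090) (l := 4) rfl N8090 D10447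
theorem N10447 : nd 10447 = n10448 := ndS (p := 8090) (l := 5) rfl N8090 D10448
theorem N10448 : nd 10448 = n10449 := ndS (p := 8091) (l := 4) rfl N8091 D10449
theorem N10449 : nd 10449 = n10450 := ndS (p := 8092) (l := 3) rfl N8092 D10450
theorem N10450 : nd 10450 = n10451 := ndS (p := 8092) (l := 5) rfl N8092 D10451
theorem N10451 : nd 10451 = n10452 := ndS (p := 8093) (l := 4) rfl N8093 D10452
theorem N10452 : nd 10452 = n10453 := ndS (p := 8094) (l := 4) rfl N8094 D10453
theorem N10453 : nd 10453 = n10454 := ndS (p := 8095) (l := 3) rfl N8095 D10454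
theorem N10454 : nd 10454 = n10455 := ndS (p := 8096) (l := 2) rfl N8096 D10455
theorem N10455 : nd 10455 = n10456 := ndS (p := 8097) (l := 4) rfl N8097 D10456
theorem N10456 : nd 10456 = n10457 := ndS (p := 8098) (l := 4) rfl N8098 D10457
theorem N10457 : nd 10457 = n10458 := ndS (p := 8099) (l := 3) rfl N8099 D10458
theorem N10458 : nd 10458 = n10459 := ndS (p := 8100) (l := 1) rfl N8100 D10459
theorem N10459 : nd 10459 = n10460 := ndS (p := 8100) (l := 4) rfl N8100 D10460
theorem N10460 : nd 10460 = n10461 := ndS (p := 8101) (l := 3) rfl N8101 D10461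
theorem N10461 : nd 10461 = n10462 := ndS (p := 8101) (l := 5) rfl N8101 D10462
theorem N10462 : nd 10462 = n10463 := ndS (p := 8102) (l := 4) rfl N8102 D10463
theorem N10463 : nd 10463 = n10464 := ndS (p := 8103) (l := 2) rfl N8103 D10464
theorem N10464 : nd 10464 = n10465 := ndS (p := 8103) (l := 5) rfl N8103 D10465
theorem N10465 : nd 10465 = n10466 := ndS (p := 8104) (l := 4) rfl N8104 D10466
theorem N10466 : nd 10466 = n10467 := ndS (p := 8105) (l := 3) rfl N8105 D10467
theorem N10467 : nd 10467 = n10468 := ndS (p := 8107) (l := 2) rfl N8107 D10468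
theorem N10468 : nd 10468 = n10469 := ndS (p := 8108) (l := 1) rfl N8108 D10469
theorem N10469 : nd 10469 = n10470 := ndS (p := 8108) (l := 3) rfl N8108 D10470
theorem N10470 : nd 10470 = n10471 := ndS (p := 8110) (l := 0) rfl N8110 D10471
theorem N10471 : nd 10471 = n10472 := ndS (p := 8111) (l := 3) rfl N8111 D10472
theorem N10472 : nd 10472 = n10473 := ndS (p := 8111) (l := 5) rfl N8111 D10473
theorem N10473 : nd 10473 = n10474 := ndS (p := 8112) (l := 2) rfl N8112 D10474
theorem N10474 : nd 10474 = n10475 := ndS (p := 8113) (l := 1) rfl N8113 D10475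
theorem N10475 : nd 10475 = n10476 := ndS (p := 8113) (l := 3) rfl N8113 D10476
theorem N10476 : nd 10476 = n10477 := ndS (p := 8114) (l := 3) rfl N8114 D10477
theorem N10477 : nd 10477 = n10478 := ndS (p := 8114) (l := 5) rfl N8114 D10478
theorem N10478 : nd 10478 = n10479 := ndS (p := 8115) (l := 2) rfl N8115 D10479
theorem N10479 : nd 10479 = n10480 := ndS (p := 8115) (l := 5) rfl N8115 D10480
theorem N10480 : nd 10480 = n10481 := ndS (p := 8117) (l := 1) rfl N8117 D10481
theorem N10481 : nd 10481 = n10482 := ndS (p := 8117) (l := 3) rfl N8117 D10482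
theorem N10482 : nd 10482 = n10483 := ndS (p := 8118) (l := 0) rfl N8118 D10483
theorem N10483 : nd 10483 = n10484 := ndS (p := 8118) (l := 3) rfl N8118 D10484
theorem N10484 : nd 10484 = n10485 := ndS (p := 8119) (l := 2) rfl N8119 D10485
theorem N10485 : nd 10485 = n10486 := ndS (p := 8119) (l := 4) rfl N8119 D10486
theorem N10486 : nd 10486 = n10487 := ndS (p := 8120) (l := 3) rfl N8120 D10487
theorem N10487 : nd 10487 = n10488 := ndS (p := 8121) (l := 2) rfl N8121 D10488
theorem N10488 : nd 10488 = n10489 := ndS (p := 8122) (l := 2) rfl N8122 D10489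
theorem N10489 : nd 10489 = n10490 := ndS (p := 8124) (l := 3) rfl N8124 D10490
theorem N10490 : nd 10490 = n10491 := ndS (p := 8126) (l := 3) rfl N8126 D10491
theorem N10491 : nd 10491 = n10492 := ndS (p := 8126) (l := 5) rfl N8126 D10492
theorem N10492 : nd 10492 = n10493 := ndS (p := 8127) (l := 2) rfl N8127 D10493
theorem N10493 : nd 10493 = n10494 := ndS (p := 8127) (l := 5) rfl N8127 D10494
theorem N10494 : nd 10494 = n10495 := ndS (p := 8129) (l := 3) rfl N8129 D10495
theorem N10495 : nd 10495 = n10496 := ndS (p := 8129) (l := 5) rfl N8129 D10496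
theorem N10496 : nd 10496 = n10497 := ndS (p := 8130) (l := 2) rfl N8130 D10497
theorem N10497 : nd 10497 = n10498 := ndS (p := 8130) (l := 5) rfl N8130 D10498
theorem N10498 : nd 10498 = n10499 := ndS (p := 8132) (l := 1) rfl N8132 D10499
theorem N10499 : nd 10499 = n10500 := ndS (p := 8134) (l := 2) rfl N8134 D10500
theorem N10500 : nd 10500 = n10501 := ndS (p := 8135) (l := 1) rfl N8135 D10501
theorem N10501 : nd 10501 = n10502 := ndS (p := 8135) (l := 3) rfl N8135 D10502
theorem N10502 : nd 10502 = n10503 := ndS (p := 8136) (l := 0) rfl N8136 D10503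
theorem N10503 : nd 10503 = n10504 := ndS (p := 8137) (l := 0) rfl N8137 D10504
theorem N10504 : nd 10504 = n10505 := ndS (p := 8137) (l := 3) rfl N8137 D10505
theorem N10505 : nd 10505 = n10506 := ndS (p := 8137) (l := 5) rfl N8137 D10506
theorem N10506 : nd 10506 = n10507 := ndS (p := 8138) (l := 4) rfl N8138 D10507
theorem N10507 : nd 10507 = n10508 := ndS (p := 8139) (l := 4) rfl N8139 D10508
theorem N10508 : nd 10508 = n10509 := ndS (p := 8142) (l := 4) rfl N8142 D10509
theorem N10509 : nd 10509 = n10510 := ndS (p := 8143) (l := 1) rfl N8143 D10510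
theorem N10510 : nd 10510 = n10511 := ndS (p := 8143) (l := 4) rfl N8143 D10511
theorem N10511 : nd 10511 = n10512 := ndS (p := 8144) (l := 5) rfl N8144 D10512
theorem N10512 : nd 10512 = n10513 := ndS (p := 8145) (l := 4) rfl N8145 D10513
theorem N10513 : nd 10513 = n10514 := ndS (p := 8146) (l := 3) rfl N8146 D10514
theorem N10514 : nd 10514 = n10515 := ndS (p := 8147) (l := 1) rfl N8147 D10515
theorem N10515 : nd 10515 = n10516 := ndS (p := 8148) (l := 4) rfl N8148 D10516
theorem N10516 : nd 10516 = n10517 := ndS (p := 8149) (l := 1) rfl N8149 D10517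
theorem N10517 : nd 10517 = n10518 := ndS (p := 8149) (l := 3) rfl N8149 D10518
theorem N10518 : nd 10518 = n10519 := ndS (p := 8149) (l := 5) rfl N8149 D10519
theorem N10519 : nd 10519 = n10520 := ndS (p := 8150) (l := 4) rfl N8150 D10520
theorem N10520 : nd 10520 = n10521 := ndS (p := 8151) (l := 0) rfl N8151 D10521
theorem N10521 : nd 10521 = n10522 := ndS (p := 8151) (l := 3) rfl N8151 D10522
theorem N10522 : nd 10522 = n10523 := ndS (p := 8151) (l := 5) rfl N8151 D10523
theorem N10523 : nd 10523 = n10524 := ndS (p := 8152) (l := 4) rfl N8152 D10524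
theorem N10524 : nd 10524 = n10525 := ndS (p := 8153) (l := 4) rfl N8153 D10525
theorem N10525 : nd 10525 = n10526 := ndS (p := 8155) (l := 3) rfl N8155 D10526
theorem N10526 : nd 10526 = n10527 := ndS (p := 8155) (l := 4) rfl N8155 D10527
theorem N10527 : nd 10527 = n10528 := ndS (p := 8156) (l := 4) rfl N8156 D10528
theorem N10528 : nd 10528 = n10529 := ndS (p := 8157) (l := 3) rfl N8157 D10529
theorem N10529 : nd 10529 = n10530 := ndS (p := 8157) (l := 5) rfl N8157 D10530
theorem N10530 : nd 10530 = n10531 := ndS (p := 8159) (l := 2) rfl N8159 D10531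
theorem N10531 : nd 10531 = n10532 := ndS (p := 8160) (l := 1) rfl N8160 D10532
theorem N10532 : nd 10532 = n10533 := ndS (p := 8160) (l := 4) rfl N8160 D10533
theorem N10533 : nd 10533 = n10534 := ndS (p := 8161) (l := 3) rfl N8161 D10534
theorem N10534 : nd 10534 = n10535 := ndS (p := 8161) (l := 5) rfl N8161 D10535
theorem N10535 : nd 10535 = n10536 := ndS (p := 8162) (l := 2) rfl N8162 D10536
theorem N10536 : nd 10536 = n10537 := ndS (p := 8162) (l := 5) rfl N8162 D10537
theorem N10537 : nd 10537 = n10538 := ndS (p := 8164) (l := 3) rfl N8164 D10538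
theorem N10538 : nd 10538 = n10539 := ndS (p := 8165) (l := 4) rfl N8165 D10539
theorem N10539 : nd 10539 = n10540 := ndS (p := 8166) (l := 3) rfl N8166 D10540
theorem N10540 : nd 10540 = n10541 := ndS (p := 8166) (l := 5) rfl N8166 D10541
theorem N10541 : nd 10541 = n10542 := ndS (p := 8167) (l := 4) rfl N8167 D10542
theorem N10542 : nd 10542 = n10543 := ndS (p := 8168) (l := 2) rfl N8168 D10543
theorem N10543 : nd 10543 = n10544 := ndS (p := 8168) (l := 5) rfl N8168 D10544
theorem N10544 : nd 10544 = n10545 := ndS (p := 8169) (l := 4) rfl N8169 D10545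
theorem N10545 : nd 10545 = n10546 := ndS (p := 8170) (l := 3) rfl N8170 D10546
theorem N10546 : nd 10546 = n10547 := ndS (p := 8172) (l := 2) rfl N8172 D10547
theorem N10547 : nd 10547 = n10548 := ndS (p := 8173) (l := 1) rfl N8173 D10548
theorem N10548 : nd 10548 = n10549 := ndS (p := 8174) (l := 3) rfl N8174 D10549
theorem N10549 : nd 10549 = n10550 := ndS (p := 8174) (l := 5) rfl N8174 D10550
theorem N10550 : nd 10550 = n10551 := ndS (p := 8175) (l := 3) rfl N8175 D10551
theorem N10551 : nd 10551 = n10552 := ndS (p := 8175) (l := 5) rfl N8175 D10552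
theorem N10552 : nd 10552 = n10553 := ndS (p := 8176) (l := 2) rfl N8176 D10553
theorem N10553 : nd 10553 = n10554 := ndS (p := 8176) (l := 5) rfl N8176 D10554
theorem N10554 : nd 10554 = n10555 := ndS (p := 8178) (l := 2) rfl N8178 D10555
theorem N10555 : nd 10555 = n10556 := ndS (p := 8178) (l := 5) rfl N8178 D10556
theorem N10556 : nd 10556 = n10557 := ndS (p := 8179) (l := 4) rfl N8179 D10557
theorem N10557 : nd 10557 = n10558 := ndS (p := 8180) (l := 3) rfl N8180 D10558
theorem N10558 : nd 10558 = n10559 := ndS (p := 8181) (l := 1) rfl N8181 D10559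
theorem N10559 : nd 10559 = n10560 := ndS (p := 8181) (l := 3) rfl N8181 D10560
theorem N10560 : nd 10560 = n10561 := ndS (p := 8181) (l := 5) rfl N8181 D10561
theorem N10561 : nd 10561 = n10562 := ndS (p := 8182) (l := 4) rfl N8182 D10562
theorem N10562 : nd 10562 = n10563 := ndS (p := 8183) (l := 3) rfl N8183 D10563
theorem N10563 : nd 10563 = n10564 := ndS (p := 8184) (l := 2) rfl N8184 D10564
theorem N10564 : nd 10564 = n10565 := ndS (p := 8185) (l := 3) rfl N8185 D10565
theorem N10565 : nd 10565 = n10566 := ndS (p := 8186) (l := 0) rfl N8186 D10566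
theorem N10566 : nd 10566 = n10567 := ndS (p := 8187) (l := 2) rfl N8187 D10567
theorem N10567 : nd 10567 = n10568 := ndS (p := 8189) (l := 3) rfl N8189 D10568
theorem N10568 : nd 10568 = n10569 := ndS (p := 8191) (l := 3) rfl N8191 D10569
theorem N10569 : nd 10569 = n10570 := ndS (p := 8191) (l := 5) rfl N8191 D10570
theorem N10570 : nd 10570 = n10571 := ndS (p := 8192) (l := 2) rfl N8192 D10571
theorem N10571 : nd 10571 = n10572 := ndS (p := 8192) (l := 5) rfl N8192 D10572
theorem N10572 : nd 10572 = n10573 := ndS (p := 8194) (l := 2) rfl N8194 D10573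
theorem N10573 : nd 10573 = n10574 := ndS (p := 8194) (l := 5) rfl N8194 D10574
theorem N10574 : nd 10574 = n10575 := ndS (p := 8196) (l := 1) rfl N8196 D10575
theorem N10575 : nd 10575 = n10576 := ndS (p := 8197) (l := 4) rfl N8197 D10576
theorem N10576 : nd 10576 = n10577 := ndS (p := 8198) (l := 0) rfl N8198 D10577
theorem N10577 : nd 10577 = n10578 := ndS (p := 8199) (l := 5) rfl N8199 D10578
theorem N10578 : nd 10578 = n10579 := ndS (p := 8201) (l := 1) rfl N8201 D10579
theorem N10579 : nd 10579 = n10580 := ndS (p := 8201) (l := 3) rfl N8201 D10580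
theorem N10580 : nd 10580 = n10581 := ndS (p := 8201) (l := 5) rfl N8201 D10581
theorem N10581 : nd 10581 = n10582 := ndS (p := 8202) (l := 4) rfl N8202 D10582
theorem N10582 : nd 10582 = n10583 := ndS (p := 8203) (l := 0) rfl N8203 D10583
theorem N10583 : nd 10583 = n10584 := ndS (p := 8203) (l := 3) rfl N8203 D10584
theorem N10584 : nd 10584 = n10585 := ndS (p := 8203) (l := 5) rfl N8203 D10585
theorem N10585 : nd 10585 = n10586 := ndS (p := 8204) (l := 4) rfl N8204 D10586
theorem N10586 : nd 10586 = n10587 := ndS (p := 8205) (l := 4) rfl N8205 D10587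
theorem N10587 : nd 10587 = n10588 := ndS (p := 8208) (l := 2) rfl N8208 D10588
theorem N10588 : nd 10588 = n10589 := ndS (p := 8209) (l := 3) rfl N8209 D10589
theorem N10589 : nd 10589 = n10590 := ndS (p := 8210) (l := 1) rfl N8210 D10590
theorem N10590 : nd 10590 = n10591 := ndS (p := 8210) (l := 3) rfl N8210 D10591
theorem N10591 : nd 10591 = n10592 := ndS (p := 8210) (l := 5) rfl N8210 D10592
theorem N10592 : nd 10592 = n10593 := ndS (p := 8211) (l := 4) rfl N8211 D10593
theorem N10593 : nd 10593 = n10594 := ndS (p := 8212) (l := 0) rfl N8212 D10594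
theorem N10594 : nd 10594 = n10595 := ndS (p := 8212) (l := 3) rfl N8212 D10595
theorem N10595 : nd 10595 = n10596 := ndS (p := 8213) (l := 2) rfl N8213 D10596
theorem N10596 : nd 10596 = n10597 := ndS (p := 8213) (l := 4) rfl N8213 D10597
theorem N10597 : nd 10597 = n10598 := ndS (p := 8213) (l := 5) rfl N8213 D10598
theorem N10598 : nd 10598 = n10599 := ndS (p := 8214) (l := 4) rfl N8214 D10599
theorem N10599 : nd 10599 = n10600 := ndS (p := 8217) (l := 3) rfl N8217 D10600
theorem N10600 : nd 10600 = n10601 := ndS (p := 8217) (l := 5) rfl N8217 D10601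
theorem N10601 : nd 10601 = n10602 := ndS (p := 8218) (l := 4) rfl N8218 D10602
theorem N10602 : nd 10602 = n10603 := ndS (p := 8219) (l := 4) rfl N8219 D10603
theorem N10603 : nd 10603 = n10604 := ndS (p := 8221) (l := 3) rfl N8221 D10604
theorem N10604 : nd 10604 = n10605 := ndS (p := 8221) (l := 5) rfl N8221 D10605
theorem N10605 : nd 10605 = n10606 := ndS (p := 8222) (l := 2) rfl N8222 D10606
theorem N10606 : nd 10606 = n10607 := ndS (p := 8222) (l := 4) rfl N8222 D10607
theorem N10607 : nd 10607 = n10608 := ndS (p := 8222) (l := 5) rfl N8222 D10608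
theorem N10608 : nd 10608 = n10609 := ndS (p := 8224) (l := 1) rfl N8224 D10609
theorem N10609 : nd 10609 = n10610 := ndS (p := 8224) (l := 4) rfl N8224 D10610
theorem N10610 : nd 10610 = n10611 := ndS (p := 8225) (l := 5) rfl N8225 D10611
theorem N10611 : nd 10611 = n10612 := ndS (p := 8226) (l := 4) rfl N8226 D10612
theorem N10612 : nd 10612 = n10613 := ndS (p := 8227) (l := 3) rfl N8227 D10613
theorem N10613 : nd 10613 = n10614 := ndS (p := 8228) (l := 2) rfl N8228 D10614
theorem N10614 : nd 10614 = n10615 := ndS (p := 8230) (l := 3) rfl N8230 D10615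
theorem N10615 : nd 10615 = n10616 := ndS (p := 8231) (l := 1) rfl N8231 D10616
theorem N10616 : nd 10616 = n10617 := ndS (p := 8231) (l := 3) rfl N8231 D10617
theorem N10617 : nd 10617 = n10618 := ndS (p := 8232) (l := 0) rfl N8232 D10618
theorem N10618 : nd 10618 = n10619 := ndS (p := 8233) (l := 0) rfl N8233 D10619
theorem N10619 : nd 10619 = n10620 := ndS (p := 8233) (l := 3) rfl N8233 D10620
theorem N10620 : nd 10620 = n10621 := ndS (p := 8234) (l := 4) rfl N8234 D10621
theorem N10621 : nd 10621 = n10622 := ndS (p := 8235) (l := 4) rfl N8235 D10622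
theorem N10622 : nd 10622 = n10623 := ndS (p := 8237) (l := 4) rfl N8237 D10623
theorem N10623 : nd 10623 = n10624 := ndS (p := 8238) (l := 3) rfl N8238 D10624
theorem N10624 : nd 10624 = n10625 := ndS (p := 8238) (l := 5) rfl N8238 D10625
theorem N10625 : nd 10625 = n10626 := ndS (p := 8239) (l := 1) rfl N8239 D10626
theorem N10626 : nd 10626 = n10627 := ndS (p := 8239) (l := 4) rfl N8239 D10627
theorem N10627 : nd 10627 = n10628 := ndS (p := 8240) (l := 3) rfl N8240 D10628
theorem N10628 : nd 10628 = n10629 := ndS (p := 8240) (l := 5) rfl N8240 D10629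
theorem N10629 : nd 10629 = n10630 := ndS (p := 8244) (l := 1) rfl N8244 D10630
theorem N10630 : nd 10630 = n10631 := ndS (p := 8246) (l := 0) rfl N8246 D10631
theorem N10631 : nd 10631 = n10632 := ndS (p := 8247) (l := 1) rfl N8247 D10632
theorem N10632 : nd 10632 = n10633 := ndS (p := 8247) (l := 3) rfl N8247 D10633
theorem N10633 : nd 10633 = n10634 := ndS (p := 8247) (l := 5) rfl N8247 D10634
theorem N10634 : nd 10634 = n10635 := ndS (p := 8249) (l := 0) rfl N8249 D10635
theorem N10635 : nd 10635 = n10636 := ndS (p := 8249) (l := 3) rfl N8249 D10636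
theorem N10636 : nd 10636 = n10637 := ndS (p := 8249) (l := 5) rfl N8249 D10637
theorem N10637 : nd 10637 = n10638 := ndS (p := 8252) (l := 1) rfl N8252 D10638
theorem N10638 : nd 10638 = n10639 := ndS (p := 8253) (l := 0) rfl N8253 D10639
theorem N10639 : nd 10639 = n10640 := ndS (p := 8253) (l := 3) rfl N8253 D10640
theorem N10640 : nd 10640 = n10641 := ndS (p := 8255) (l := 3) rfl N8255 D10641
theorem N10641 : nd 10641 = n10642 := ndS (p := 8256) (l := 2) rfl N8256 D10642
theorem N10642 : nd 10642 = n10643 := ndS (p := 8256) (l := 4) rfl N8256 D10643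
theorem N10643 : nd 10643 = n10644 := ndS (p := 8258) (l := 2) rfl N8258 D10644
theorem N10644 : nd 10644 = n10645 := ndS (p := 8259) (l := 1) rfl N8259 D10645
theorem N10645 : nd 10645 = n10646 := ndS (p := 8259) (l := 3) rfl N8259 D10646
theorem N10646 : nd 10646 = n10647 := ndS (p := 8260) (l := 0) rfl N8260 D10647
theorem N10647 : nd 10647 = n10648 := ndS (p := 8262) (l := 2) rfl N8262 D10648
theorem N10648 : nd 10648 = n10649 := ndS (p := 8262) (l := 5) rfl N8262 D10649
theorem N10649 : nd 10649 = n10650 := ndS (p := 8264) (l := 3) rfl N8264 D10650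
theorem N10650 : nd 10650 = n10651 := ndS (p := 8265) (l := 4) rfl N8265 D10651
theorem N10651 : nd 10651 = n10652 := ndS (p := 8266) (l := 4) rfl N8266 D10652
theorem N10652 : nd 10652 = n10653 := ndS (p := 8267) (l := 5) rfl N8267 D10653
theorem N10653 : nd 10653 = n10654 := ndS (p := 8268) (l := 3) rfl N8268 D10654
theorem N10654 : nd 10654 = n10655 := ndS (p := 8269) (l := 4) rfl N8269 D10655
theorem N10655 : nd 10655 = n10656 := ndS (p := 8270) (l := 1) rfl N8270 D10656
theorem N10656 : nd 10656 = n10657 := ndS (p := 8270) (l := 4) rfl N8270 D10657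
theorem N10657 : nd 10657 = n10658 := ndS (p := 8271) (l := 5) rfl N8271 D10658
theorem N10658 : nd 10658 = n10659 := ndS (p := 8272) (l := 4) rfl N8272 D10659
theorem N10659 : nd 10659 = n10660 := ndS (p := 8273) (l := 3) rfl N8273 D10660
theorem N10660 : nd 10660 = n10661 := ndS (p := 8273) (l := 5) rfl N8273 D10661
theorem N10661 : nd 10661 = n10662 := ndS (p := 8274) (l := 4) rfl N8274 D10662
theorem N10662 : nd 10662 = n10663 := ndS (p := 8275) (l := 3) rfl N8275 D10663
theorem N10663 : nd 10663 = n10664 := ndS (p := 8276) (l := 2) rfl N8276 D10664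
theorem N10664 : nd 10664 = n10665 := ndS (p := 8277) (l := 1) rfl N8277 D10665
theorem N10665 : nd 10665 = n10666 := ndS (p := 8277) (l := 3) rfl N8277 D10666
theorem N10666 : nd 10666 = n10667 := ndS (p := 8278) (l := 2) rfl N8278 D10667
theorem N10667 : nd 10667 = n10668 := ndS (p := 8278) (l := 4) rfl N8278 D10668
theorem N10668 : nd 10668 = n10669 := ndS (p := 8280) (l := 3) rfl N8280 D10669
theorem N10669 : nd 10669 = n10670 := ndS (p := 8280) (l := 5) rfl N8280 D10670
theorem N10670 : nd 10670 = n10671 := ndS (p := 8281) (l := 2) rfl N8281 D10671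
theorem N10671 : nd 10671 = n10672 := ndS (p := 8281) (l := 5) rfl N8281 D10672
theorem N10672 : nd 10672 = n10673 := ndS (p := 8283) (l := 1) rfl N8283 D10673
theorem N10673 : nd 10673 = n10674 := ndS (p := 8283) (l := 3) rfl N8283 D10674
theorem N10674 : nd 10674 = n10675 := ndS (p := 8284) (l := 0) rfl N8284 D10675
theorem N10675 : nd 10675 = n10676 := ndS (p := 8284) (l := 3) rfl N8284 D10676
theorem N10676 : nd 10676 = n10677 := ndS (p := 8285) (l := 2) rfl N8285 D10677
theorem N10677 : nd 10677 = n10678 := ndS (p := 8285) (l := 4) rfl N8285 D10678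
theorem N10678 : nd 10678 = n10679 := ndS (p := 8287) (l := 4) rfl N8287 D10679
theorem N10679 : nd 10679 = n10680 := ndS (p := 8288) (l := 3) rfl N8288 D10680
theorem N10680 : nd 10680 = n10681 := ndS (p := 8288) (l := 5) rfl N8288 D10681
theorem N10681 : nd 10681 = n10682 := ndS (p := 8289) (l := 3) rfl N8289 D10682
theorem N10682 : nd 10682 = n10683 := ndS (p := 8289) (l := 5) rfl N8289 D10683
theorem N10683 : nd 10683 = n10684 := ndS (p := 8290) (l := 2) rfl N8290 D10684
theorem N10684 : nd 10684 = n10685 := ndS (p := 8290) (l := 5) rfl N8290 D10685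
theorem N10685 : nd 10685 = n10686 := ndS (p := 8292) (l := 1) rfl N8292 D10686
theorem N10686 : nd 10686 = n10687 := ndS (p := 8293) (l := 4) rfl N8293 D10687
theorem N10687 : nd 10687 = n10688 := ndS (p := 8294) (l := 3) rfl N8294 D10688
theorem N10688 : nd 10688 = n10689 := ndS (p := 8294) (l := 5) rfl N8294 D10689
theorem N10689 : nd 10689 = n10690 := ndS (p := 8295) (l := 2) rfl N8295 D10690
theorem N10690 : nd 10690 = n10691 := ndS (p := 8295) (l := 5) rfl N8295 D10691
theorem N10691 : nd 10691 = n10692 := ndS (p := 8297) (l := 1) rfl N8297 D10692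
theorem N10692 : nd 10692 = n10693 := ndS (p := 8297) (l := 3) rfl N8297 D10693
theorem N10693 : nd 10693 = n10694 := ndS (p := 8297) (l := 5) rfl N8297 D10694
theorem N10694 : nd 10694 = n10695 := ndS (p := 8298) (l := 4) rfl N8298 D10695
theorem N10695 : nd 10695 = n10696 := ndS (p := 8299) (l := 0) rfl N8299 D10696
theorem N10696 : nd 10696 = n10697 := ndS (p := 8299) (l := 3) rfl N8299 D10697
theorem N10697 : nd 10697 = n10698 := ndS (p := 8302) (l := 2) rfl N8302 D10698
theorem N10698 : nd 10698 = n10699 := ndS (p := 8302) (l := 5) rfl N8302 D10699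
theorem N10699 : nd 10699 = n10700 := ndS (p := 8304) (l := 1) rfl N8304 D10700
theorem N10700 : nd 10700 = n10701 := ndS (p := 8305) (l := 4) rfl N8305 D10701
theorem N10701 : nd 10701 = n10702 := ndS (p := 8306) (l := 3) rfl N8306 D10702
theorem N10702 : nd 10702 = n10703 := ndS (p := 8307) (l := 2) rfl N8307 D10703
theorem N10703 : nd 10703 = n10704 := ndS (p := 8308) (l := 2) rfl N8308 D10704
theorem N10704 : nd 10704 = n10705 := ndS (p := 8309) (l := 1) rfl N8309 D10705
theorem N10705 : nd 10705 = n10706 := ndS (p := 8309) (l := 3) rfl N8309 D10706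
theorem N10706 : nd 10706 = n10707 := ndS (p := 8310) (l := 0) rfl N8310 D10707
theorem N10707 : nd 10707 = n10708 := ndS (p := 8310) (l := 3) rfl N8310 D10708
theorem N10708 : nd 10708 = n10709 := ndS (p := 8311) (l := 4) rfl N8311 D10709
theorem N10709 : nd 10709 = n10710 := ndS (p := 8312) (l := 2) rfl N8312 D10710
theorem N10710 : nd 10710 = n10711 := ndS (p := 8312) (l := 5) rfl N8312 D10711
theorem N10711 : nd 10711 = n10712 := ndS (p := 8314) (l := 1) rfl N8314 D10712
theorem N10712 : nd 10712 = n10713 := ndS (p := 8314) (l := 3) rfl N8314 D10713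
theorem N10713 : nd 10713 = n10714 := ndS (p := 8314) (l := 5) rfl N8314 D10714
theorem N10714 : nd 10714 = n10715 := ndS (p := 8315) (l := 4) rfl N8315 D10715
theorem N10715 : nd 10715 = n10716 := ndS (p := 8316) (l := 4) rfl N8316 D10716
theorem N10716 : nd 10716 = n10717 := ndS (p := 8317) (l := 3) rfl N8317 D10717
theorem N10717 : nd 10717 = n10718 := ndS (p := 8318) (l := 2) rfl N8318 D10718
theorem N10718 : nd 10718 = n10719 := ndS (p := 8319) (l := 0) rfl N8319 D10719
theorem N10719 : nd 10719 = n10720 := ndS (p := 8319) (l := 3) rfl N8319 D10720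
theorem N10720 : nd 10720 = n10721 := ndS (p := 8319) (l := 5) rfl N8319 D10721
theorem N10721 : nd 10721 = n10722 := ndS (p := 8321) (l := 4) rfl N8321 D10722
theorem N10722 : nd 10722 = n10723 := ndS (p := 8322) (l := 3) rfl N8322 D10723
theorem N10723 : nd 10723 = n10724 := ndS (p := 8323) (l := 2) rfl N8323 D10724
theorem N10724 : nd 10724 = n10725 := ndS (p := 8324) (l := 1) rfl N8324 D10725
theorem N10725 : nd 10725 = n10726 := ndS (p := 8324) (l := 3) rfl N8324 D10726
theorem N10726 : nd 10726 = n10727 := ndS (p := 8325) (l := 3) rfl N8325 D10727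
theorem N10727 : nd 10727 = n10728 := ndS (p := 8326) (l := 0) rfl N8326 D10728
theorem N10728 : nd 10728 = n10729 := ndS (p := 8326) (l := 3) rfl N8326 D10729
theorem N10729 : nd 10729 = n10730 := ndS (p := 8327) (l := 2) rfl N8327 D10730
theorem N10730 : nd 10730 = n10731 := ndS (p := 8327) (l := 4) rfl N8327 D10731
theorem N10731 : nd 10731 = n10732 := ndS (p := 8328) (l := 3) rfl N8328 D10732
theorem N10732 : nd 10732 = n10733 := ndS (p := 8329) (l := 2) rfl N8329 D10733
theorem N10733 : nd 10733 = n10734 := ndS (p := 8329) (l := 4) rfl N8329 D10734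
theorem N10734 : nd 10734 = n10735 := ndS (p := 8331) (l := 2) rfl N8331 D10735
theorem N10735 : nd 10735 = n10736 := ndS (p := 8331) (l := 4) rfl N8331 D10736
theorem N10736 : nd 10736 = n10737 := ndS (p := 8333) (l := 2) rfl N8333 D10737
theorem N10737 : nd 10737 = n10738 := ndS (p := 8334) (l := 3) rfl N8334 D10738
theorem N10738 : nd 10738 = n10739 := ndS (p := 8335) (l := 0) rfl N8335 D10739
theorem N10739 : nd 10739 = n10740 := ndS (p := 8335) (l := 4) rfl N8335 D10740
theorem N10740 : nd 10740 = n10741 := ndS (p := 8336) (l := 3) rfl N8336 D10741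
theorem N10741 : nd 10741 = n10742 := ndS (p := 8336) (l := 5) rfl N8336 D10742
theorem N10742 : nd 10742 = n10743 := ndS (p := 8337) (l := 4) rfl N8337 D10743
theorem N10743 : nd 10743 = n10744 := ndS (p := 8338) (l := 4) rfl N8338 D10744
theorem N10744 : nd 10744 = n10745 := ndS (p := 8339) (l := 3) rfl N8339 D10745
theorem N10745 : nd 10745 = n10746 := ndS (p := 8340) (l := 2) rfl N8340 D10746
theorem N10746 : nd 10746 = n10747 := ndS (p := 8341) (l := 4) rfl N8341 D10747
theorem N10747 : nd 10747 = n10748 := ndS (p := 8342) (l := 3) rfl N8342 D10748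
theorem N10748 : nd 10748 = n10749 := ndS (p := 8342) (l := 5) rfl N8342 D10749
theorem N10749 : nd 10749 = n10750 := ndS (p := 8343) (l := 3) rfl N8343 D10750
theorem N10750 : nd 10750 = n10751 := ndS (p := 8343) (l := 5) rfl N8343 D10751
theorem N10751 : nd 10751 = n10752 := ndS (p := 8344) (l := 2) rfl N8344 D10752
theorem N10752 : nd 10752 = n10753 := ndS (p := 8344) (l := 5) rfl N8344 D10753
theorem N10753 : nd 10753 = n10754 := ndS (p := 8346) (l := 3) rfl N8346 D10754
theorem N10754 : nd 10754 = n10755 := ndS (p := 8347) (l := 2) rfl N8347 D10755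
theorem N10755 : nd 10755 = n10756 := ndS (p := 8348) (l := 1) rfl N8348 D10756
theorem N10756 : nd 10756 = n10757 := ndS (p := 8348) (l := 3) rfl N8348 D10757
theorem N10757 : nd 10757 = n10758 := ndS (p := 8349) (l := 1) rfl N8349 D10758
theorem N10758 : nd 10758 = n10759 := ndS (p := 8351) (l := 0) rfl N8351 D10759
theorem N10759 : nd 10759 = n10760 := ndS (p := 8352) (l := 4) rfl N8352 D10760
theorem N10760 : nd 10760 = n10761 := ndS (p := 8353) (l := 3) rfl N8353 D10761
theorem N10761 : nd 10761 = n10762 := ndS (p := 8353) (l := 5) rfl N8353 D10762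
theorem N10762 : nd 10762 = n10763 := ndS (p := 8354) (l := 3) rfl N8354 D10763
theorem N10763 : nd 10763 = n10764 := ndS (p := 8354) (l := 5) rfl N8354 D10764
theorem N10764 : nd 10764 = n10765 := ndS (p := 8355) (l := 2) rfl N8355 D10765
theorem N10765 : nd 10765 = n10766 := ndS (p := 8355) (l := 5) rfl N8355 D10766
theorem N10766 : nd 10766 = n10767 := ndS (p := 8357) (l := 1) rfl N8357 D10767
theorem N10767 : nd 10767 = n10768 := ndS (p := 8357) (l := 3) rfl N8357 D10768
theorem N10768 : nd 10768 = n10769 := ndS (p := 8358) (l := 4) rfl N8358 D10769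
theorem N10769 : nd 10769 = n10770 := ndS (p := 8359) (l := 3) rfl N8359 D10770
theorem N10770 : nd 10770 = n10771 := ndS (p := 8359) (l := 5) rfl N8359 D10771
theorem N10771 : nd 10771 = n10772 := ndS (p := 8360) (l := 2) rfl N8360 D10772
theorem N10772 : nd 10772 = n10773 := ndS (p := 8360) (l := 5) rfl N8360 D10773
theorem N10773 : nd 10773 = n10774 := ndS (p := 8362) (l := 1) rfl N8362 D10774
theorem N10774 : nd 10774 = n10775 := ndS (p := 8362) (l := 3) rfl N8362 D10775
theorem N10775 : nd 10775 = n10776 := ndS (p := 8362) (l := 5) rfl N8362 D10776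
theorem N10776 : nd 10776 = n10777 := ndS (p := 8363) (l := 4) rfl N8363 D10777
theorem N10777 : nd 10777 = n10778 := ndS (p := 8364) (l := 2) rfl N8364 D10778
theorem N10778 : nd 10778 = n10779 := ndS (p := 8364) (l := 4) rfl N8364 D10779
theorem N10779 : nd 10779 = n10780 := ndS (p := 8365) (l := 3) rfl N8365 D10780
theorem N10780 : nd 10780 = n10781 := ndS (p := 8366) (l := 3) rfl N8366 D10781
theorem N10781 : nd 10781 = n10782 := ndS (p := 8366) (l := 5) rfl N8366 D10782
theorem N10782 : nd 10782 = n10783 := ndS (p := 8367) (l := 2) rfl N8367 D10783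
theorem N10783 : nd 10783 = n10784 := ndS (p := 8367) (l := 5) rfl N8367 D10784
theorem N10784 : nd 10784 = n10785 := ndS (p := 8368) (l := 4) rfl N8368 D10785
theorem N10785 : nd 10785 = n10786 := ndS (p := 8369) (l := 3) rfl N8369 D10786
theorem N10786 : nd 10786 = n10787 := ndS (p := 8370) (l := 5) rfl N8370 D10787
theorem N10787 : nd 10787 = n10788 := ndS (p := 8372) (l := 4) rfl N8372 D10788
theorem N10788 : nd 10788 = n10789 := ndS (p := 8373) (l := 3) rfl N8373 D10789
theorem N10789 : nd 10789 = n10790 := ndS (p := 8374) (l := 2) rfl N8374 D10790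
theorem N10790 : nd 10790 = n10791 := ndS (p := 8376) (l := 2) rfl N8376 D10791
theorem N10791 : nd 10791 = n10792 := ndS (p := 8376) (l := 5) rfl N8376 D10792
theorem N10792 : nd 10792 = n10793 := ndS (p := 8379) (l := 3) rfl N8379 D10793
theorem N10793 : nd 10793 = n10794 := ndS (p := 8379) (l := 5) rfl N8379 D10794
theorem N10794 : nd 10794 = n10795 := ndS (p := 8380) (l := 2) rfl N8380 D10795
theorem N10795 : nd 10795 = n10796 := ndS (p := 8382) (l := 4) rfl N8382 D10796
theorem N10796 : nd 10796 = n10797 := ndS (p := 8383) (l := 3) rfl N8383 D10797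
theorem N10797 : nd 10797 = n10798 := ndS (p := 8384) (l := 2) rfl N8384 D10798
theorem N10798 : nd 10798 = n10799 := ndS (p := 8385) (l := 3) rfl N8385 D10799
theorem N10799 : nd 10799 = n10800 := ndS (p := 8386) (l := 2) rfl N8386 D10800
theorem N10800 : nd 10800 = n10801 := ndS (p := 8387) (l := 1) rfl N8387 D10801
theorem N10801 : nd 10801 = n10802 := ndS (p := 8388) (l := 2) rfl N8388 D10802
theorem N10802 : nd 10802 = n10803 := ndS (p := 8388) (l := 4) rfl N8388 D10803
theorem N10803 : nd 10803 = n10804 := ndS (p := 8389) (l := 3) rfl N8389 D10804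
theorem N10804 : nd 10804 = n10805 := ndS (p := 8390) (l := 2) rfl N8390 D10805
theorem N10805 : nd 10805 = n10806 := ndS (p := 8390) (l := 4) rfl N8390 D10806
theorem N10806 : nd 10806 = n10807 := ndS (p := 8392) (l := 1) rfl N8392 D10807
theorem N10807 : nd 10807 = n10808 := ndS (p := 8393) (l := 4) rfl N8393 D10808
theorem N10808 : nd 10808 = n10809 := ndS (p := 8394) (l := 4) rfl N8394 D10809
theorem N10809 : nd 10809 = n10810 := ndS (p := 8395) (l := 3) rfl N8395 D10810
theorem N10810 : nd 10810 = n10811 := ndS (p := 8395) (l := 5) rfl N8395 D10811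
theorem N10811 : nd 10811 = n10812 := ndS (p := 8396) (l := 3) rfl N8396 D10812
theorem N10812 : nd 10812 = n10813 := ndS (p := 8396) (l := 5) rfl N8396 D10813
theorem N10813 : nd 10813 = n10814 := ndS (p := 8397) (l := 2) rfl N8397 D10814
theorem N10814 : nd 10814 = n10815 := ndS (p := 8397) (l := 5) rfl N8397 D10815
theorem N10815 : nd 10815 = n10816 := ndS (p := 8399) (l := 4) rfl N8399 D10816
theorem N10816 : nd 10816 = n10817 := ndS (p := 8400) (l := 3) rfl N8400 D10817
theorem N10817 : nd 10817 = n10818 := ndS (p := 8400) (l := 5) rfl N8400 D10818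
theorem N10818 : nd 10818 = n10819 := ndS (p := 8401) (l := 2) rfl N8401 D10819
theorem N10819 : nd 10819 = n10820 := ndS (p := 8401) (l := 5) rfl N8401 D10820
theorem N10820 : nd 10820 = n10821 := ndS (p := 8403) (l := 1) rfl N8403 D10821
theorem N10821 : nd 10821 = n10822 := ndS (p := 8403) (l := 3) rfl N8403 D10822
theorem N10822 : nd 10822 = n10823 := ndS (p := 8403) (l := 5) rfl N8403 D10823
theorem N10823 : nd 10823 = n10824 := ndS (p := 8404) (l := 4) rfl N8404 D10824
theorem N10824 : nd 10824 = n10825 := ndS (p := 8405) (l := 1) rfl N8405 D10825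
theorem N10825 : nd 10825 = n10826 := ndS (p := 8406) (l := 2) rfl N8406 D10826
theorem N10826 : nd 10826 = n10827 := ndS (p := 8407) (l := 1) rfl N8407 D10827
theorem N10827 : nd 10827 = n10828 := ndS (p := 8407) (l := 3) rfl N8407 D10828
theorem N10828 : nd 10828 = n10829 := ndS (p := 8408) (l := 0) rfl N8408 D10829
theorem N10829 : nd 10829 = n10830 := ndS (p := 8409) (l := 1) rfl N8409 D10830
theorem N10830 : nd 10830 = n10831 := ndS (p := 8409) (l := 3) rfl N8409 D10831
theorem N10831 : nd 10831 = n10832 := ndS (p := 8410) (l := 2) rfl N8410 D10832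
theorem N10832 : nd 10832 = n10833 := ndS (p := 8410) (l := 4) rfl N8410 D10833
theorem N10833 : nd 10833 = n10834 := ndS (p := 8411) (l := 0) rfl N8411 D10834
theorem N10834 : nd 10834 = n10835 := ndS (p := 8411) (l := 3) rfl N8411 D10835
theorem N10835 : nd 10835 = n10836 := ndS (p := 8412) (l := 4) rfl N8412 D10836
theorem N10836 : nd 10836 = n10837 := ndS (p := 8413) (l := 3) rfl N8413 D10837
theorem N10837 : nd 10837 = n10838 := ndS (p := 8414) (l := 2) rfl N8414 D10838
theorem N10838 : nd 10838 = n10839 := ndS (p := 8414) (l := 4) rfl N8414 D10839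
theorem N10839 : nd 10839 = n10840 := ndS (p := 8415) (l := 1) rfl N8415 D10840
theorem N10840 : nd 10840 = n10841 := ndS (p := 8415) (l := 4) rfl N8415 D10841
theorem N10841 : nd 10841 = n10842 := ndS (p := 8416) (l := 5) rfl N8416 D10842
theorem N10842 : nd 10842 = n10843 := ndS (p := 8417) (l := 3) rfl N8417 D10843
theorem N10843 : nd 10843 = n10844 := ndS (p := 8417) (l := 5) rfl N8417 D10844
theorem N10844 : nd 10844 = n10845 := ndS (p := 8418) (l := 2) rfl N8418 D10845
theorem N10845 : nd 10845 = n10846 := ndS (p := 8418) (l := 5) rfl N8418 D10846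
theorem N10846 : nd 10846 = n10847 := ndS (p := 8420) (l := 2) rfl N8420 D10847
theorem N10847 : nd 10847 = n10848 := ndS (p := 8420) (l := 5) rfl N8420 D10848
theorem N10848 : nd 10848 = n10849 := ndS (p := 8422) (l := 1) rfl N8422 D10849
theorem N10849 : nd 10849 = n10850 := ndS (p := 8423) (l := 4) rfl N8423 D10850
theorem N10850 : nd 10850 = n10851 := ndS (p := 8424) (l := 5) rfl N8424 D10851
theorem N10851 : nd 10851 = n10852 := ndS (p := 8425) (l := 2) rfl N8425 D10852
theorem N10852 : nd 10852 = n10853 := ndS (p := 8425) (l := 5) rfl N8425 D10853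
theorem N10853 : nd 10853 = n10854 := ndS (p := 8427) (l := 1) rfl N8427 D10854
theorem N10854 : nd 10854 = n10855 := ndS (p := 8427) (l := 3) rfl N8427 D10855
theorem N10855 : nd 10855 = n10856 := ndS (p := 8427) (l := 5) rfl N8427 D10856
theorem N10856 : nd 10856 = n10857 := ndS (p := 8428) (l := 4) rfl N8428 D10857
theorem N10857 : nd 10857 = n10858 := ndS (p := 8429) (l := 0) rfl N8429 D10858
theorem N10858 : nd 10858 = n10859 := ndS (p := 8429) (l := 3) rfl N8429 D10859
theorem N10859 : nd 10859 = n10860 := ndS (p := 8429) (l := 5) rfl N8429 D10860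
theorem N10860 : nd 10860 = n10861 := ndS (p := 8430) (l := 4) rfl N8430 D10861
theorem N10861 : nd 10861 = n10862 := ndS (p := 8431) (l := 4) rfl N8431 D10862
theorem N10862 : nd 10862 = n10863 := ndS (p := 8433) (l := 3) rfl N8433 D10863
theorem N10863 : nd 10863 = n10864 := ndS (p := 8434) (l := 4) rfl N8434 D10864
theorem N10864 : nd 10864 = n10865 := ndS (p := 8435) (l := 1) rfl N8435 D10865
theorem N10865 : nd 10865 = n10866 := ndS (p := 8435) (l := 4) rfl N8435 D10866
theorem N10866 : nd 10866 = n10867 := ndS (p := 8436) (l := 5) rfl N8436 D10867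
theorem N10867 : nd 10867 = n10868 := ndS (p := 8437) (l := 2) rfl N8437 D10868
theorem N10868 : nd 10868 = n10869 := ndS (p := 8437) (l := 5) rfl N8437 D10869
theorem N10869 : nd 10869 = n10870 := ndS (p := 8439) (l := 1) rfl N8439 D10870
theorem N10870 : nd 10870 = n10871 := ndS (p := 8440) (l := 4) rfl N8440 D10871
theorem N10871 : nd 10871 = n10872 := ndS (p := 8441) (l := 1) rfl N8441 D10872
theorem N10872 : nd 10872 = n10873 := ndS (p := 8441) (l := 3) rfl N8441 D10873
theorem N10873 : nd 10873 = n10874 := ndS (p := 8441) (l := 5) rfl N8441 D10874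
theorem N10874 : nd 10874 = n10875 := ndS (p := 8442) (l := 4) rfl N8442 D10875
theorem N10875 : nd 10875 = n10876 := ndS (p := 8443) (l := 0) rfl N8443 D10876
theorem N10876 : nd 10876 = n10877 := ndS (p := 8443) (l := 3) rfl N8443 D10877
theorem N10877 : nd 10877 = n10878 := ndS (p := 8443) (l := 5) rfl N8443 D10878
theorem N10878 : nd 10878 = n10879 := ndS (p := 8444) (l := 4) rfl N8444 D10879
theorem N10879 : nd 10879 = n10880 := ndS (p := 8445) (l := 4) rfl N8445 D10880
theorem N10880 : nd 10880 = n10881 := ndS (p := 8447) (l := 5) rfl N8447 D10881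
theorem N10881 : nd 10881 = n10882 := ndS (p := 8448) (l := 1) rfl N8448 D10882
theorem N10882 : nd 10882 = n10883 := ndS (p := 8448) (l := 3) rfl N8448 D10883
theorem N10883 : nd 10883 = n10884 := ndS (p := 8448) (l := 5) rfl N8448 D10884
theorem N10884 : nd 10884 = n10885 := ndS (p := 8449) (l := 4) rfl N8449 D10885
theorem N10885 : nd 10885 = n10886 := ndS (p := 8450) (l := 0) rfl N8450 D10886
theorem N10886 : nd 10886 = n10887 := ndS (p := 8450) (l := 3) rfl N8450 D10887
theorem N10887 : nd 10887 = n10888 := ndS (p := 8450) (l := 5) rfl N8450 D10888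
theorem N10888 : nd 10888 = n10889 := ndS (p := 8451) (l := 2) rfl N8451 D10889
theorem N10889 : nd 10889 = n10890 := ndS (p := 8451) (l := 4) rfl N8451 D10890
theorem N10890 : nd 10890 = n10891 := ndS (p := 8451) (l := 5) rfl N8451 D10891
theorem N10891 : nd 10891 = n10892 := ndS (p := 8452) (l := 4) rfl N8452 D10892
theorem N10892 : nd 10892 = n10893 := ndS (p := 8454) (l := 3) rfl N8454 D10893
theorem N10893 : nd 10893 = n10894 := ndS (p := 8454) (l := 5) rfl N8454 D10894
theorem N10894 : nd 10894 = n10895 := ndS (p := 8455) (l := 2) rfl N8455 D10895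
theorem N10895 : nd 10895 = n10896 := ndS (p := 8457) (l := 0) rfl N8457 D10896
theorem N10896 : nd 10896 = n10897 := ndS (p := 8457) (l := 3) rfl N8457 D10897
theorem N10897 : nd 10897 = n10898 := ndS (p := 8457) (l := 5) rfl N8457 D10898
theorem N10898 : nd 10898 = n10899 := ndS (p := 8458) (l := 4) rfl N8458 D10899
theorem N10899 : nd 10899 = n10900 := ndS (p := 8459) (l := 4) rfl N8459 D10900
theorem N10900 : nd 10900 = n10901 := ndS (p := 8461) (l := 3) rfl N8461 D10901
theorem N10901 : nd 10901 = n10902 := ndS (p := 8462) (l := 2) rfl N8462 D10902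
theorem N10902 : nd 10902 = n10903 := ndS (p := 8462) (l := 4) rfl N8462 D10903
theorem N10903 : nd 10903 = n10904 := ndS (p := 8463) (l := 1) rfl N8463 D10904
theorem N10904 : nd 10904 = n10905 := ndS (p := 8463) (l := 4) rfl N8463 D10905
theorem N10905 : nd 10905 = n10906 := ndS (p := 8464) (l := 5) rfl N8464 D10906
theorem N10906 : nd 10906 = n10907 := ndS (p := 8465) (l := 4) rfl N8465 D10907
theorem N10907 : nd 10907 = n10908 := ndS (p := 8466) (l := 3) rfl N8466 D10908
theorem N10908 : nd 10908 = n10909 := ndS (p := 8470) (l := 4) rfl N8470 D10909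
theorem N10909 : nd 10909 = n10910 := ndS (p := 8471) (l := 4) rfl N8471 D10910
theorem N10910 : nd 10910 = n10911 := ndS (p := 8472) (l := 5) rfl N8472 D10911
theorem N10911 : nd 10911 = n10912 := ndS (p := 8473) (l := 3) rfl N8473 D10912
theorem N10912 : nd 10912 = n10913 := ndS (p := 8474) (l := 2) rfl N8474 D10913
theorem N10913 : nd 10913 = n10914 := ndS (p := 8474) (l := 4) rfl N8474 D10914
theorem N10914 : nd 10914 = n10915 := ndS (p := 8475) (l := 4) rfl N8475 D10915
theorem N10915 : nd 10915 = n10916 := ndS (p := 8476) (l := 3) rfl N8476 D10916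
theorem N10916 : nd 10916 = n10917 := ndS (p := 8476) (l := 4) rfl N8476 D10917
theorem N10917 : nd 10917 = n10918 := ndS (p := 8477) (l := 5) rfl N8477 D10918
theorem N10918 : nd 10918 = n10919 := ndS (p := 8478) (l := 3) rfl N8478 D10919
theorem N10919 : nd 10919 = n10920 := ndS (p := 8480) (l := 2) rfl N8480 D10920
theorem N10920 : nd 10920 = n10921 := ndS (p := 8481) (l := 1) rfl N8481 D10921
theorem N10921 : nd 10921 = n10922 := ndS (p := 8482) (l := 4) rfl N8482 D10922
theorem N10922 : nd 10922 = n10923 := ndS (p := 8483) (l := 3) rfl N8483 D10923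
theorem N10923 : nd 10923 = n10924 := ndS (p := 8484) (l := 4) rfl N8484 D10924
theorem N10924 : nd 10924 = n10925 := ndS (p := 8485) (l := 1) rfl N8485 D10925
theorem N10925 : nd 10925 = n10926 := ndS (p := 8485) (l := 3) rfl N8485 D10926
theorem N10926 : nd 10926 = n10927 := ndS (p := 8485) (l := 5) rfl N8485 D10927
theorem N10927 : nd 10927 = n10928 := ndS (p := 8486) (l := 4) rfl N8486 D10928
theorem N10928 : nd 10928 = n10929 := ndS (p := 8487) (l := 0) rfl N8487 D10929
theorem N10929 : nd 10929 = n10930 := ndS (p := 8487) (l := 3) rfl N8487 D10930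
theorem N10930 : nd 10930 = n10931 := ndS (p := 8487) (l := 5) rfl N8487 D10931
theorem N10931 : nd 10931 = n10932 := ndS (p := 8488) (l := 4) rfl N8488 D10932
theorem N10932 : nd 10932 = n10933 := ndS (p := 8489) (l := 4) rfl N8489 D10933
theorem N10933 : nd 10933 = n10934 := ndS (p := 8491) (l := 5) rfl N8491 D10934
theorem N10934 : nd 10934 = n10935 := ndS (p := 8492) (l := 1) rfl N8492 D10935
theorem N10935 : nd 10935 = n10936 := ndS (p := 8492) (l := 3) rfl N8492 D10936
theorem N10936 : nd 10936 = n10937 := ndS (p := 8492) (l := 5) rfl N8492 D10937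
theorem N10937 : nd 10937 = n10938 := ndS (p := 8493) (l := 4) rfl N8493 D10938
theorem N10938 : nd 10938 = n10939 := ndS (p := 8494) (l := 0) rfl N8494 D10939
theorem N10939 : nd 10939 = n10940 := ndS (p := 8495) (l := 3) rfl N8495 D10940
theorem N10940 : nd 10940 = n10941 := ndS (p := 8496) (l := 2) rfl N8496 D10941
theorem N10941 : nd 10941 = n10942 := ndS (p := 8497) (l := 1) rfl N8497 D10942
theorem N10942 : nd 10942 = n10943 := ndS (p := 8498) (l := 3) rfl N8498 D10943
theorem N10943 : nd 10943 = n10944 := ndS (p := 8499) (l := 2) rfl N8499 D10944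
theorem N10944 : nd 10944 = n10945 := ndS (p := 8501) (l := 1) rfl N8501 D10945
theorem N10945 : nd 10945 = n10946 := ndS (p := 8501) (l := 5) rfl N8501 D10946
theorem N10946 : nd 10946 = n10947 := ndS (p := 8502) (l := 4) rfl N8502 D10947
theorem N10947 : nd 10947 = n10948 := ndS (p := 8503) (l := 1) rfl N8503 D10948
theorem N10948 : nd 10948 = n10949 := ndS (p := 8503) (l := 3) rfl N8503 D10949
theorem N10949 : nd 10949 = n10950 := ndS (p := 8503) (l := 5) rfl N8503 D10950
theorem N10950 : nd 10950 = n10951 := ndS (p := 8504) (l := 4) rfl N8504 D10951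
theorem N10951 : nd 10951 = n10952 := ndS (p := 8505) (l := 0) rfl N8505 D10952
theorem N10952 : nd 10952 = n10953 := ndS (p := 8505) (l := 3) rfl N8505 D10953
theorem N10953 : nd 10953 = n10954 := ndS (p := 8505) (l := 5) rfl N8505 D10954
theorem N10954 : nd 10954 = n10955 := ndS (p := 8506) (l := 4) rfl N8506 D10955
theorem N10955 : nd 10955 = n10956 := ndS (p := 8506) (l := 5) rfl N8506 D10956
theorem N10956 : nd 10956 = n10957 := ndS (p := 8507) (l := 4) rfl N8507 D10957
theorem N10957 : nd 10957 = n10958 := ndS (p := 8509) (l := 0) rfl N8509 D10958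
theorem N10958 : nd 10958 = n10959 := ndS (p := 8509) (l := 3) rfl N8509 D10959
theorem N10959 : nd 10959 = n10960 := ndS (p := 8509) (l := 5) rfl N8509 D10960
theorem N10960 : nd 10960 = n10961 := ndS (p := 8510) (l := 4) rfl N8510 D10961
theorem N10961 : nd 10961 = n10962 := ndS (p := 8511) (l := 4) rfl N8511 D10962
theorem N10962 : nd 10962 = n10963 := ndS (p := 8512) (l := 3) rfl N8512 D10963
theorem N10963 : nd 10963 = n10964 := ndS (p := 8513) (l := 2) rfl N8513 D10964
theorem N10964 : nd 10964 = n10965 := ndS (p := 8514) (l := 1) rfl N8514 D10965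
theorem N10965 : nd 10965 = n10966 := ndS (p := 8514) (l := 3) rfl N8514 D10966
theorem N10966 : nd 10966 = n10967 := ndS (p := 8515) (l := 3) rfl N8515 D10967
theorem N10967 : nd 10967 = n10968 := ndS (p := 8515) (l := 5) rfl N8515 D10968
theorem N10968 : nd 10968 = n10969 := ndS (p := 8516) (l := 2) rfl N8516 D10969
theorem N10969 : nd 10969 = n10970 := ndS (p := 8516) (l := 4) rfl N8516 D10970
theorem N10970 : nd 10970 = n10971 := ndS (p := 8517) (l := 4) rfl N8517 D10971
theorem N10971 : nd 10971 = n10972 := ndS (p := 8518) (l := 5) rfl N8518 D10972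
theorem N10972 : nd 10972 = n10973 := ndS (p := 8519) (l := 3) rfl N8519 D10973
theorem N10973 : nd 10973 = n10974 := ndS (p := 8520) (l := 2) rfl N8520 D10974
theorem N10974 : nd 10974 = n10975 := ndS (p := 8521) (l := 1) rfl N8521 D10975
theorem N10975 : nd 10975 = n10976 := ndS (p := 8522) (l := 0) rfl N8522 D10976
theorem N10976 : nd 10976 = n10977 := ndS (p := 8522) (l := 3) rfl N8522 D10977
theorem N10977 : nd 10977 = n10978 := ndS (p := 8523) (l := 4) rfl N8523 D10978
theorem N10978 : nd 10978 = n10979 := ndS (p := 8524) (l := 1) rfl N8524 D10979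
theorem N10979 : nd 10979 = n10980 := ndS (p := 8524) (l := 4) rfl N8524 D10980
theorem N10980 : nd 10980 = n10981 := ndS (p := 8525) (l := 5) rfl N8525 D10981
theorem N10981 : nd 10981 = n10982 := ndS (p := 8526) (l := 2) rfl N8526 D10982
theorem N10982 : nd 10982 = n10983 := ndS (p := 8526) (l := 4) rfl N8526 D10983
theorem N10983 : nd 10983 = n10984 := ndS (p := 8527) (l := 3) rfl N8527 D10984
theorem N10984 : nd 10984 = n10985 := ndS (p := 8527) (l := 4) rfl N8527 D10985
theorem N10985 : nd 10985 = n10986 := ndS (p := 8528) (l := 5) rfl N8528 D10986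
theorem N10986 : nd 10986 = n10987 := ndS (p := 8530) (l := 3) rfl N8530 D10987
theorem N10987 : nd 10987 = n10988 := ndS (p := 8532) (l := 1) rfl N8532 D10988
theorem N10988 : nd 10988 = n10989 := ndS (p := 8532) (l := 4) rfl N8532 D10989
theorem N10989 : nd 10989 = n10990 := ndS (p := 8533) (l := 5) rfl N8533 D10990
theorem N10990 : nd 10990 = n10991 := ndS (p := 8534) (l := 1) rfl N8534 D10991
theorem N10991 : nd 10991 = n10992 := ndS (p := 8534) (l := 3) rfl N8534 D10992
theorem N10992 : nd 10992 = n10993 := ndS (p := 8534) (l := 5) rfl N8534 D10993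
theorem N10993 : nd 10993 = n10994 := ndS (p := 8535) (l := 4) rfl N8535 D10994
theorem N10994 : nd 10994 = n10995 := ndS (p := 8536) (l := 0) rfl N8536 D10995
theorem N10995 : nd 10995 = n10996 := ndS (p := 8536) (l := 3) rfl N8536 D10996
theorem N10996 : nd 10996 = n10997 := ndS (p := 8537) (l := 4) rfl N8537 D10997
theorem N10997 : nd 10997 = n10998 := ndS (p := 8538) (l := 4) rfl N8538 D10998
theorem N10998 : nd 10998 = n10999 := ndS (p := 8540) (l := 0) rfl N8540 D10999
theorem N10999 : nd 10999 = n11000 := ndS (p := 8540) (l := 3) rfl N8540 D11000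
theorem N11000 : nd 11000 = n11001 := ndS (p := 8540) (l := 5) rfl N8540 D11001
theorem N11001 : nd 11001 = n11002 := ndS (p := 8541) (l := 2) rfl N8541 D11002
theorem N11002 : nd 11002 = n11003 := ndS (p := 8541) (l := 5) rfl N8541 D11003
theorem N11003 : nd 11003 = n11004 := ndS (p := 8545) (l := 2) rfl N8545 D11004
theorem N11004 : nd 11004 = n11005 := ndS (p := 8545) (l := 4) rfl N8545 D11005
theorem N11005 : nd 11005 = n11006 := ndS (p := 8546) (l := 4) rfl N8546 D11006
theorem N11006 : nd 11006 = n11007 := ndS (p := 8547) (l := 5) rfl N8547 D11007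
theorem N11007 : nd 11007 = n11008 := ndS (p := 8549) (l := 1) rfl N8549 D11008
theorem N11008 : nd 11008 = n11009 := ndS (p := 8549) (l := 3) rfl N8549 D11009
theorem N11009 : nd 11009 = n11010 := ndS (p := 8549) (l := 5) rfl N8549 D11010
theorem N11010 : nd 11010 = n11011 := ndS (p := 8550) (l := 4) rfl N8550 D11011
theorem N11011 : nd 11011 = n11012 := ndS (p := 8551) (l := 0) rfl N8551 D11012
theorem N11012 : nd 11012 = n11013 := ndS (p := 8551) (l := 3) rfl N8551 D11013
theorem N11013 : nd 11013 = n11014 := ndS (p := 8551) (l := 5) rfl N8551 D11014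
theorem N11014 : nd 11014 = n11015 := ndS (p := 8552) (l := 4) rfl N8552 D11015
theorem N11015 : nd 11015 = n11016 := ndS (p := 8553) (l := 4) rfl N8553 D11016
theorem N11016 : nd 11016 = n11017 := ndS (p := 8555) (l := 3) rfl N8555 D11017
theorem N11017 : nd 11017 = n11018 := ndS (p := 8555) (l := 5) rfl N8555 D11018
theorem N11018 : nd 11018 = n11019 := ndS (p := 8556) (l := 2) rfl N8556 D11019
theorem N11019 : nd 11019 = n11020 := ndS (p := 8556) (l := 4) rfl N8556 D11020
theorem N11020 : nd 11020 = n11021 := ndS (p := 8556) (l := 5) rfl N8556 D11021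
theorem N11021 : nd 11021 = n11022 := ndS (p := 8557) (l := 4) rfl N8557 D11022
theorem N11022 : nd 11022 = n11023 := ndS (p := 8558) (l := 1) rfl N8558 D11023
theorem N11023 : nd 11023 = n11024 := ndS (p := 8558) (l := 4) rfl N8558 D11024
theorem N11024 : nd 11024 = n11025 := ndS (p := 8559) (l := 5) rfl N8559 D11025
theorem N11025 : nd 11025 = n11026 := ndS (p := 8560) (l := 4) rfl N8560 D11026
theorem N11026 : nd 11026 = n11027 := ndS (p := 8561) (l := 3) rfl N8561 D11027
theorem N11027 : nd 11027 = n11028 := ndS (p := 8562) (l := 2) rfl N8562 D11028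
theorem N11028 : nd 11028 = n11029 := ndS (p := 8562) (l := 4) rfl N8562 D11029
theorem N11029 : nd 11029 = n11030 := ndS (p := 8563) (l := 4) rfl N8563 D11030
theorem N11030 : nd 11030 = n11031 := ndS (p := 8564) (l := 3) rfl N8564 D11031
theorem N11031 : nd 11031 = n11032 := ndS (p := 8564) (l := 4) rfl N8564 D11032
theorem N11032 : nd 11032 = n11033 := ndS (p := 8565) (l := 5) rfl N8565 D11033
theorem N11033 : nd 11033 = n11034 := ndS (p := 8566) (l := 3) rfl N8566 D11034
theorem N11034 : nd 11034 = n11035 := ndS (p := 8568) (l := 2) rfl N8568 D11035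
theorem N11035 : nd 11035 = n11036 := ndS (p := 8569) (l := 1) rfl N8569 D11036
theorem N11036 : nd 11036 = n11037 := ndS (p := 8569) (l := 4) rfl N8569 D11037
theorem N11037 : nd 11037 = n11038 := ndS (p := 8570) (l := 5) rfl N8570 D11038
theorem N11038 : nd 11038 = n11039 := ndS (p := 8571) (l := 0) rfl N8571 D11039
theorem N11039 : nd 11039 = n11040 := ndS (p := 8571) (l := 3) rfl N8571 D11040
theorem N11040 : nd 11040 = n11041 := ndS (p := 8571) (l := 4) rfl N8571 D11041
theorem N11041 : nd 11041 = n11042 := ndS (p := 8572) (l := 4) rfl N8572 D11042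
theorem N11042 : nd 11042 = n11043 := ndS (p := 8573) (l := 3) rfl N8573 D11043
theorem N11043 : nd 11043 = n11044 := ndS (p := 8573) (l := 5) rfl N8573 D11044
theorem N11044 : nd 11044 = n11045 := ndS (p := 8576) (l := 5) rfl N8576 D11045
theorem N11045 : nd 11045 = n11046 := ndS (p := 8578) (l := 3) rfl N8578 D11046
theorem N11046 : nd 11046 = n11047 := ndS (p := 8579) (l := 4) rfl N8579 D11047
theorem N11047 : nd 11047 = n11048 := ndS (p := 8580) (l := 1) rfl N8580 D11048
theorem N11048 : nd 11048 = n11049 := ndS (p := 8580) (l := 4) rfl N8580 D11049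
theorem N11049 : nd 11049 = n11050 := ndS (p := 8581) (l := 5) rfl N8581 D11050
theorem N11050 : nd 11050 = n11051 := ndS (p := 8582) (l := 3) rfl N8582 D11051
theorem N11051 : nd 11051 = n11052 := ndS (p := 8582) (l := 5) rfl N8582 D11052
theorem N11052 : nd 11052 = n11053 := ndS (p := 8583) (l := 2) rfl N8583 D11053
theorem N11053 : nd 11053 = n11054 := ndS (p := 8583) (l := 4) rfl N8583 D11054
theorem N11054 : nd 11054 = n11055 := ndS (p := 8584) (l := 4) rfl N8584 D11055
theorem N11055 : nd 11055 = n11056 := ndS (p := 8585) (l := 5) rfl N8585 D11056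
theorem N11056 : nd 11056 = n11057 := ndS (p := 8586) (l := 3) rfl N8586 D11057
theorem N11057 : nd 11057 = n11058 := ndS (p := 8587) (l := 2) rfl N8587 D11058
theorem N11058 : nd 11058 = n11059 := ndS (p := 8587) (l := 4) rfl N8587 D11059
theorem N11059 : nd 11059 = n11060 := ndS (p := 8587) (l := 5) rfl N8587 D11060
theorem N11060 : nd 11060 = n11061 := ndS (p := 8588) (l := 4) rfl N8588 D11061
theorem N11061 : nd 11061 = n11062 := ndS (p := 8589) (l := 1) rfl N8589 D11062
theorem N11062 : nd 11062 = n11063 := ndS (p := 8589) (l := 3) rfl N8589 D11063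
theorem N11063 : nd 11063 = n11064 := ndS (p := 8589) (l := 4) rfl N8589 D11064
theorem N11064 : nd 11064 = n11065 := ndS (p := 8589) (l := 5) rfl N8589 D11065
theorem N11065 : nd 11065 = n11066 := ndS (p := 8590) (l := 5) rfl N8590 D11066
theorem N11066 : nd 11066 = n11067 := ndS (p := 8591) (l := 4) rfl N8591 D11067
theorem N11067 : nd 11067 = n11068 := ndS (p := 8592) (l := 3) rfl N8592 D11068
theorem N11068 : nd 11068 = n11069 := ndS (p := 8593) (l := 0) rfl N8593 D11069
theorem N11069 : nd 11069 = n11070 := ndS (p := 8593) (l := 4) rfl N8593 D11070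
theorem N11070 : nd 11070 = n11071 := ndS (p := 8594) (l := 3) rfl N8594 D11071
theorem N11071 : nd 11071 = n11072 := ndS (p := 8594) (l := 5) rfl N8594 D11072
theorem N11072 : nd 11072 = n11073 := ndS (p := 8595) (l := 4) rfl N8595 D11073
theorem N11073 : nd 11073 = n11074 := ndS (p := 8596) (l := 3) rfl N8596 D11074
theorem N11074 : nd 11074 = n11075 := ndS (p := 8597) (l := 2) rfl N8597 D11075
theorem N11075 : nd 11075 = n11076 := ndS (p := 8598) (l := 1) rfl N8598 D11076
theorem N11076 : nd 11076 = n11077 := ndS (p := 8598) (l := 3) rfl N8598 D11077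
theorem N11077 : nd 11077 = n11078 := ndS (p := 8598) (l := 4) rfl N8598 D11078
theorem N11078 : nd 11078 = n11079 := ndS (p := 8599) (l := 5) rfl N8599 D11079
theorem N11079 : nd 11079 = n11080 := ndS (p := 8600) (l := 3) rfl N8600 D11080
theorem N11080 : nd 11080 = n11081 := ndS (p := 8601) (l := 2) rfl N8601 D11081
theorem N11081 : nd 11081 = n11082 := ndS (p := 8601) (l := 4) rfl N8601 D11082
theorem N11082 : nd 11082 = n11083 := ndS (p := 8602) (l := 3) rfl N8602 D11083
theorem N11083 : nd 11083 = n11084 := ndS (p := 8602) (l := 5) rfl N8602 D11084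
theorem N11084 : nd 11084 = n11085 := ndS (p := 8604) (l := 2) rfl N8604 D11085
theorem N11085 : nd 11085 = n11086 := ndS (p := 8605) (l := 2) rfl N8605 D11086
theorem N11086 : nd 11086 = n11087 := ndS (p := 8607) (l := 3) rfl N8607 D11087
theorem N11087 : nd 11087 = n11088 := ndS (p := 8607) (l := 4) rfl N8607 D11088
theorem N11088 : nd 11088 = n11089 := ndS (p := 8608) (l := 5) rfl N8608 D11089
theorem N11089 : nd 11089 = n11090 := ndS (p := 8609) (l := 3) rfl N8609 D11090
theorem N11090 : nd 11090 = n11091 := ndS (p := 8612) (l := 1) rfl N8612 D11091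
theorem N11091 : nd 11091 = n11092 := ndS (p := 8612) (l := 5) rfl N8612 D11092
theorem N11092 : nd 11092 = n11093 := ndS (p := 8613) (l := 4) rfl N8613 D11093
theorem N11093 : nd 11093 = n11094 := ndS (p := 8614) (l := 0) rfl N8614 D11094
theorem N11094 : nd 11094 = n11095 := ndS (p := 8614) (l := 3) rfl N8614 D11095
theorem N11095 : nd 11095 = n11096 := ndS (p := 8614) (l := 4) rfl N8614 D11096
theorem N11096 : nd 11096 = n11097 := ndS (p := 8615) (l := 4) rfl N8615 D11097
theorem N11097 : nd 11097 = n11098 := ndS (p := 8615) (l := 5) rfl N8615 D11098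
theorem N11098 : nd 11098 = n11099 := ndS (p := 8616) (l := 3) rfl N8616 D11099
theorem N11099 : nd 11099 = n11100 := ndS (p := 8616) (l := 5) rfl N8616 D11100
theorem N11100 : nd 11100 = n11101 := ndS (p := 8617) (l := 4) rfl N8617 D11101
theorem N11101 : nd 11101 = n11102 := ndS (p := 8618) (l := 4) rfl N8618 D11102
theorem N11102 : nd 11102 = n11103 := ndS (p := 8620) (l := 4) rfl N8620 D11103
theorem N11103 : nd 11103 = n11104 := ndS (p := 8621) (l := 3) rfl N8621 D11104
theorem N11104 : nd 11104 = n11105 := ndS (p := 8621) (l := 5) rfl N8621 D11105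
theorem N11105 : nd 11105 = n11106 := ndS (p := 8622) (l := 2) rfl N8622 D11106
theorem N11106 : nd 11106 = n11107 := ndS (p := 8622) (l := 5) rfl N8622 D11107
theorem N11107 : nd 11107 = n11108 := ndS (p := 8624) (l := 3) rfl N8624 D11108
theorem N11108 : nd 11108 = n11109 := ndS (p := 8625) (l := 2) rfl N8625 D11109
theorem N11109 : nd 11109 = n11110 := ndS (p := 8626) (l := 1) rfl N8626 D11110
theorem N11110 : nd 11110 = n11111 := ndS (p := 8627) (l := 3) rfl N8627 D11111
theorem N11111 : nd 11111 = n11112 := ndS (p := 8628) (l := 4) rfl N8628 D11112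
theorem N11112 : nd 11112 = n11113 := ndS (p := 8629) (l := 1) rfl N8629 D11113
theorem N11113 : nd 11113 = n11114 := ndS (p := 8629) (l := 4) rfl N8629 D11114
theorem N11114 : nd 11114 = n11115 := ndS (p := 8630) (l := 5) rfl N8630 D11115
theorem N11115 : nd 11115 = n11116 := ndS (p := 8632) (l := 2) rfl N8632 D11116
theorem N11116 : nd 11116 = n11117 := ndS (p := 8633) (l := 1) rfl N8633 D11117
theorem N11117 : nd 11117 = n11118 := ndS (p := 8634) (l := 1) rfl N8634 D11118
theorem N11118 : nd 11118 = n11119 := ndS (p := 8634) (l := 3) rfl N8634 D11119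
theorem N11119 : nd 11119 = n11120 := ndS (p := 8634) (l := 5) rfl N8634 D11120
theorem N11120 : nd 11120 = n11121 := ndS (p := 8635) (l := 4) rfl N8635 D11121
theorem N11121 : nd 11121 = n11122 := ndS (p := 8636) (l := 3) rfl N8636 D11122
theorem N11122 : nd 11122 = n11123 := ndS (p := 8636) (l := 4) rfl N8636 D11123
theorem N11123 : nd 11123 = n11124 := ndS (p := 8637) (l := 2) rfl N8637 D11124
theorem N11124 : nd 11124 = n11125 := ndS (p := 8637) (l := 4) rfl N8637 D11125
theorem N11125 : nd 11125 = n11126 := ndS (p := 8638) (l := 3) rfl N8638 D11126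
theorem N11126 : nd 11126 = n11127 := ndS (p := 8638) (l := 5) rfl N8638 D11127
theorem N11127 : nd 11127 = n11128 := ndS (p := 8639) (l := 4) rfl N8639 D11128
theorem N11128 : nd 11128 = n11129 := ndS (p := 8641) (l := 2) rfl N8641 D11129
theorem N11129 : nd 11129 = n11130 := ndS (p := 8641) (l := 5) rfl N8641 D11130
theorem N11130 : nd 11130 = n11131 := ndS (p := 8643) (l := 1) rfl N8643 D11131
theorem N11131 : nd 11131 = n11132 := ndS (p := 8644) (l := 2) rfl N8644 D11132
theorem N11132 : nd 11132 = n11133 := ndS (p := 8644) (l := 5) rfl N8644 D11133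
theorem N11133 : nd 11133 = n11134 := ndS (p := 8646) (l := 1) rfl N8646 D11134
theorem N11134 : nd 11134 = n11135 := ndS (p := 8646) (l := 3) rfl N8646 D11135
theorem N11135 : nd 11135 = n11136 := ndS (p := 8646) (l := 5) rfl N8646 D11136
theorem N11136 : nd 11136 = n11137 := ndS (p := 8647) (l := 4) rfl N8647 D11137
theorem N11137 : nd 11137 = n11138 := ndS (p := 8648) (l := 2) rfl N8648 D11138
theorem N11138 : nd 11138 = n11139 := ndS (p := 8649) (l := 1) rfl N8649 D11139
theorem N11139 : nd 11139 = n11140 := ndS (p := 8649) (l := 3) rfl N8649 D11140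
theorem N11140 : nd 11140 = n11141 := ndS (p := 8650) (l := 0) rfl N8650 D11141
theorem N11141 : nd 11141 = n11142 := ndS (p := 8651) (l := 0) rfl N8651 D11142
theorem N11142 : nd 11142 = n11143 := ndS (p := 8651) (l := 3) rfl N8651 D11143
theorem N11143 : nd 11143 = n11144 := ndS (p := 8651) (l := 5) rfl N8651 D11144
theorem N11144 : nd 11144 = n11145 := ndS (p := 8652) (l := 4) rfl N8652 D11145
theorem N11145 : nd 11145 = n11146 := ndS (p := 8653) (l := 4) rfl N8653 D11146
theorem N11146 : nd 11146 = n11147 := ndS (p := 8655) (l := 3) rfl N8655 D11147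
theorem N11147 : nd 11147 = n11148 := ndS (p := 8656) (l := 2) rfl N8656 D11148
theorem N11148 : nd 11148 = n11149 := ndS (p := 8656) (l := 4) rfl N8656 D11149
theorem N11149 : nd 11149 = n11150 := ndS (p := 8657) (l := 1) rfl N8657 D11150
theorem N11150 : nd 11150 = n11151 := ndS (p := 8657) (l := 4) rfl N8657 D11151
theorem N11151 : nd 11151 = n11152 := ndS (p := 8658) (l := 5) rfl N8658 D11152
theorem N11152 : nd 11152 = n11153 := ndS (p := 8659) (l := 4) rfl N8659 D11153
theorem N11153 : nd 11153 = n11154 := ndS (p := 8660) (l := 3) rfl N8660 D11154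
theorem N11154 : nd 11154 = n11155 := ndS (p := 8661) (l := 2) rfl N8661 D11155
theorem N11155 : nd 11155 = n11156 := ndS (p := 8662) (l := 3) rfl N8662 D11156
theorem N11156 : nd 11156 = n11157 := ndS (p := 8663) (l := 5) rfl N8663 D11157
theorem N11157 : nd 11157 = n11158 := ndS (p := 8664) (l := 5) rfl N8664 D11158
theorem N11158 : nd 11158 = n11159 := ndS (p := 8666) (l := 3) rfl N8666 D11159
theorem N11159 : nd 11159 = n11160 := ndS (p := 8666) (l := 4) rfl N8666 D11160
theorem N11160 : nd 11160 = n11161 := ndS (p := 8667) (l := 4) rfl N8667 D11161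
theorem N11161 : nd 11161 = n11162 := ndS (p := 8668) (l := 3) rfl N8668 D11162
theorem N11162 : nd 11162 = n11163 := ndS (p := 8668) (l := 5) rfl N8668 D11163
theorem N11163 : nd 11163 = n11164 := ndS (p := 8670) (l := 2) rfl N8670 D11164
theorem N11164 : nd 11164 = n11165 := ndS (p := 8671) (l := 1) rfl N8671 D11165
theorem N11165 : nd 11165 = n11166 := ndS (p := 8671) (l := 4) rfl N8671 D11166
theorem N11166 : nd 11166 = n11167 := ndS (p := 8672) (l := 3) rfl N8672 D11167
theorem N11167 : nd 11167 = n11168 := ndS (p := 8672) (l := 5) rfl N8672 D11168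
theorem N11168 : nd 11168 = n11169 := ndS (p := 8673) (l := 2) rfl N8673 D11169
theorem N11169 : nd 11169 = n11170 := ndS (p := 8673) (l := 5) rfl N8673 D11170
theorem N11170 : nd 11170 = n11171 := ndS (p := 8675) (l := 3) rfl N8675 D11171
theorem N11171 : nd 11171 = n11172 := ndS (p := 8676) (l := 3) rfl N8676 D11172
theorem N11172 : nd 11172 = n11173 := ndS (p := 8676) (l := 5) rfl N8676 D11173
theorem N11173 : nd 11173 = n11174 := ndS (p := 8677) (l := 2) rfl N8677 D11174
theorem N11174 : nd 11174 = n11175 := ndS (p := 8677) (l := 5) rfl N8677 D11175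
theorem N11175 : nd 11175 = n11176 := ndS (p := 8679) (l := 1) rfl N8679 D11176
theorem N11176 : nd 11176 = n11177 := ndS (p := 8679) (l := 3) rfl N8679 D11177
theorem N11177 : nd 11177 = n11178 := ndS (p := 8680) (l := 2) rfl N8680 D11178
theorem N11178 : nd 11178 = n11179 := ndS (p := 8680) (l := 5) rfl N8680 D11179
theorem N11179 : nd 11179 = n11180 := ndS (p := 8682) (l := 1) rfl N8682 D11180
theorem N11180 : nd 11180 = n11181 := ndS (p := 8682) (l := 3) rfl N8682 D11181
theorem N11181 : nd 11181 = n11182 := ndS (p := 8682) (l := 5) rfl N8682 D11182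
theorem N11182 : nd 11182 = n11183 := ndS (p := 8683) (l := 4) rfl N8683 D11183
theorem N11183 : nd 11183 = n11184 := ndS (p := 8684) (l := 0) rfl N8684 D11184
theorem N11184 : nd 11184 = n11185 := ndS (p := 8684) (l := 3) rfl N8684 D11185
theorem N11185 : nd 11185 = n11186 := ndS (p := 8685) (l := 2) rfl N8685 D11186
theorem N11186 : nd 11186 = n11187 := ndS (p := 8685) (l := 4) rfl N8685 D11187
theorem N11187 : nd 11187 = n11188 := ndS (p := 8687) (l := 1) rfl N8687 D11188
theorem N11188 : nd 11188 = n11189 := ndS (p := 8687) (l := 4) rfl N8687 D11189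
theorem N11189 : nd 11189 = n11190 := ndS (p := 8687) (l := 5) rfl N8687 D11190
theorem N11190 : nd 11190 = n11191 := ndS (p := 8688) (l := 5) rfl N8688 D11191
theorem N11191 : nd 11191 = n11192 := ndS (p := 8689) (l := 4) rfl N8689 D11192
theorem N11192 : nd 11192 = n11193 := ndS (p := 8690) (l := 3) rfl N8690 D11193
theorem N11193 : nd 11193 = n11194 := ndS (p := 8690) (l := 4) rfl N8690 D11194
theorem N11194 : nd 11194 = n11195 := ndS (p := 8691) (l := 4) rfl N8691 D11195
theorem N11195 : nd 11195 = n11196 := ndS (p := 8692) (l := 3) rfl N8692 D11196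
theorem N11196 : nd 11196 = n11197 := ndS (p := 8692) (l := 5) rfl N8692 D11197
theorem N11197 : nd 11197 = n11198 := ndS (p := 8693) (l := 4) rfl N8693 D11198
theorem N11198 : nd 11198 = n11199 := ndS (p := 8694) (l := 3) rfl N8694 D11199
theorem N11199 : nd 11199 = n11200 := ndS (p := 8695) (l := 2) rfl N8695 D11200
theorem N11200 : nd 11200 = n11201 := ndS (p := 8696) (l := 2) rfl N8696 D11201
theorem N11201 : nd 11201 = n11202 := ndS (p := 8696) (l := 5) rfl N8696 D11202
theorem N11202 : nd 11202 = n11203 := ndS (p := 8698) (l := 1) rfl N8698 D11203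
theorem N11203 : nd 11203 = n11204 := ndS (p := 8699) (l := 3) rfl N8699 D11204
theorem N11204 : nd 11204 = n11205 := ndS (p := 8699) (l := 4) rfl N8699 D11205
theorem N11205 : nd 11205 = n11206 := ndS (p := 8700) (l := 4) rfl N8700 D11206
theorem N11206 : nd 11206 = n11207 := ndS (p := 8701) (l := 3) rfl N8701 D11207
theorem N11207 : nd 11207 = n11208 := ndS (p := 8701) (l := 5) rfl N8701 D11208
theorem N11208 : nd 11208 = n11209 := ndS (p := 8703) (l := 2) rfl N8703 D11209
theorem N11209 : nd 11209 = n11210 := ndS (p := 8704) (l := 1) rfl N8704 D11210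
theorem N11210 : nd 11210 = n11211 := ndS (p := 8704) (l := 4) rfl N8704 D11211
theorem N11211 : nd 11211 = n11212 := ndS (p := 8705) (l := 3) rfl N8705 D11212
theorem N11212 : nd 11212 = n11213 := ndS (p := 8705) (l := 5) rfl N8705 D11213
theorem N11213 : nd 11213 = n11214 := ndS (p := 8706) (l := 2) rfl N8706 D11214
theorem N11214 : nd 11214 = n11215 := ndS (p := 8706) (l := 5) rfl N8706 D11215
theorem N11215 : nd 11215 = n11216 := ndS (p := 8708) (l := 3) rfl N8708 D11216
theorem N11216 : nd 11216 = n11217 := ndS (p := 8709) (l := 4) rfl N8709 D11217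
theorem N11217 : nd 11217 = n11218 := ndS (p := 8710) (l := 4) rfl N8710 D11218
theorem N11218 : nd 11218 = n11219 := ndS (p := 8711) (l := 3) rfl N8711 D11219
theorem N11219 : nd 11219 = n11220 := ndS (p := 8711) (l := 5) rfl N8711 D11220
theorem N11220 : nd 11220 = n11221 := ndS (p := 8712) (l := 4) rfl N8712 D11221
theorem N11221 : nd 11221 = n11222 := ndS (p := 8713) (l := 3) rfl N8713 D11222
theorem N11222 : nd 11222 = n11223 := ndS (p := 8713) (l := 5) rfl N8713 D11223
theorem N11223 : nd 11223 = n11224 := ndS (p := 8714) (l := 2) rfl N8714 D11224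
theorem N11224 : nd 11224 = n11225 := ndS (p := 8714) (l := 5) rfl N8714 D11225
theorem N11225 : nd 11225 = n11226 := ndS (p := 8715) (l := 4) rfl N8715 D11226
theorem N11226 : nd 11226 = n11227 := ndS (p := 8716) (l := 3) rfl N8716 D11227
theorem N11227 : nd 11227 = n11228 := ndS (p := 8718) (l := 2) rfl N8718 D11228
theorem N11228 : nd 11228 = n11229 := ndS (p := 8719) (l := 1) rfl N8719 D11229
theorem N11229 : nd 11229 = n11230 := ndS (p := 8720) (l := 3) rfl N8720 D11230
theorem N11230 : nd 11230 = n11231 := ndS (p := 8721) (l := 3) rfl N8721 D11231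
theorem N11231 : nd 11231 = n11232 := ndS (p := 8721) (l := 5) rfl N8721 D11232
theorem N11232 : nd 11232 = n11233 := ndS (p := 8722) (l := 2) rfl N8722 D11233
theorem N11233 : nd 11233 = n11234 := ndS (p := 8723) (l := 4) rfl N8723 D11234
theorem N11234 : nd 11234 = n11235 := ndS (p := 8724) (l := 3) rfl N8724 D11235
theorem N11235 : nd 11235 = n11236 := ndS (p := 8724) (l := 5) rfl N8724 D11236
theorem N11236 : nd 11236 = n11237 := ndS (p := 8725) (l := 2) rfl N8725 D11237
theorem N11237 : nd 11237 = n11238 := ndS (p := 8725) (l := 5) rfl N8725 D11238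
theorem N11238 : nd 11238 = n11239 := ndS (p := 8726) (l := 4) rfl N8726 D11239
theorem N11239 : nd 11239 = n11240 := ndS (p := 8727) (l := 3) rfl N8727 D11240
theorem N11240 : nd 11240 = n11241 := ndS (p := 8728) (l := 1) rfl N8728 D11241
theorem N11241 : nd 11241 = n11242 := ndS (p := 8728) (l := 3) rfl N8728 D11242
theorem N11242 : nd 11242 = n11243 := ndS (p := 8728) (l := 5) rfl N8728 D11243
theorem N11243 : nd 11243 = n11244 := ndS (p := 8729) (l := 4) rfl N8729 D11244
theorem N11244 : nd 11244 = n11245 := ndS (p := 8730) (l := 3) rfl N8730 D11245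
theorem N11245 : nd 11245 = n11246 := ndS (p := 8731) (l := 2) rfl N8731 D11246
theorem N11246 : nd 11246 = n11247 := ndS (p := 8732) (l := 3) rfl N8732 D11247
theorem N11247 : nd 11247 = n11248 := ndS (p := 8733) (l := 0) rfl N8733 D11248
theorem N11248 : nd 11248 = n11249 := ndS (p := 8733) (l := 3) rfl N8733 D11249
theorem N11249 : nd 11249 = n11250 := ndS (p := 8734) (l := 4) rfl N8734 D11250
theorem N11250 : nd 11250 = n11251 := ndS (p := 8736) (l := 2) rfl N8736 D11251
theorem N11251 : nd 11251 = n11252 := ndS (p := 8736) (l := 5) rfl N8736 D11252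
theorem N11252 : nd 11252 = n11253 := ndS (p := 8738) (l := 1) rfl N8738 D11253
theorem N11253 : nd 11253 = n11254 := ndS (p := 8739) (l := 4) rfl N8739 D11254
theorem N11254 : nd 11254 = n11255 := ndS (p := 8740) (l := 0) rfl N8740 D11255
theorem N11255 : nd 11255 = n11256 := ndS (p := 8740) (l := 3) rfl N8740 D11256
theorem N11256 : nd 11256 = n11257 := ndS (p := 8741) (l := 4) rfl N8741 D11257
theorem N11257 : nd 11257 = n11258 := ndS (p := 8742) (l := 2) rfl N8742 D11258
theorem N11258 : nd 11258 = n11259 := ndS (p := 8742) (l := 5) rfl N8742 D11259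
theorem N11259 : nd 11259 = n11260 := ndS (p := 8744) (l := 1) rfl N8744 D11260
theorem N11260 : nd 11260 = n11261 := ndS (p := 8744) (l := 3) rfl N8744 D11261
theorem N11261 : nd 11261 = n11262 := ndS (p := 8744) (l := 5) rfl N8744 D11262
theorem N11262 : nd 11262 = n11263 := ndS (p := 8745) (l := 4) rfl N8745 D11263
theorem N11263 : nd 11263 = n11264 := ndS (p := 8746) (l := 0) rfl N8746 D11264
theorem N11264 : nd 11264 = n11265 := ndS (p := 8746) (l := 3) rfl N8746 D11265
theorem N11265 : nd 11265 = n11266 := ndS (p := 8747) (l := 4) rfl N8747 D11266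
theorem N11266 : nd 11266 = n11267 := ndS (p := 8748) (l := 4) rfl N8748 D11267
theorem N11267 : nd 11267 = n11268 := ndS (p := 8750) (l := 3) rfl N8750 D11268
theorem N11268 : nd 11268 = n11269 := ndS (p := 8751) (l := 2) rfl N8751 D11269
theorem N11269 : nd 11269 = n11270 := ndS (p := 8751) (l := 4) rfl N8751 D11270
theorem N11270 : nd 11270 = n11271 := ndS (p := 8752) (l := 1) rfl N8752 D11271
theorem N11271 : nd 11271 = n11272 := ndS (p := 8752) (l := 4) rfl N8752 D11272
theorem N11272 : nd 11272 = n11273 := ndS (p := 8753) (l := 5) rfl N8753 D11273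
theorem N11273 : nd 11273 = n11274 := ndS (p := 8754) (l := 2) rfl N8754 D11274
theorem N11274 : nd 11274 = n11275 := ndS (p := 8755) (l := 3) rfl N8755 D11275
theorem N11275 : nd 11275 = n11276 := ndS (p := 8756) (l := 2) rfl N8756 D11276
theorem N11276 : nd 11276 = n11277 := ndS (p := 8756) (l := 5) rfl N8756 D11277
theorem N11277 : nd 11277 = n11278 := ndS (p := 8758) (l := 1) rfl N8758 D11278
theorem N11278 : nd 11278 = n11279 := ndS (p := 8758) (l := 3) rfl N8758 D11279
theorem N11279 : nd 11279 = n11280 := ndS (p := 8758) (l := 5) rfl N8758 D11280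
theorem N11280 : nd 11280 = n11281 := ndS (p := 8759) (l := 4) rfl N8759 D11281
theorem N11281 : nd 11281 = n11282 := ndS (p := 8760) (l := 0) rfl N8760 D11282
theorem N11282 : nd 11282 = n11283 := ndS (p := 8760) (l := 3) rfl N8760 D11283
theorem N11283 : nd 11283 = n11284 := ndS (p := 8760) (l := 5) rfl N8760 D11284
theorem N11284 : nd 11284 = n11285 := ndS (p := 8764) (l := 1) rfl N8764 D11285
theorem N11285 : nd 11285 = n11286 := ndS (p := 8764) (l := 3) rfl N8764 D11286
theorem N11286 : nd 11286 = n11287 := ndS (p := 8765) (l := 2) rfl N8765 D11287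
theorem N11287 : nd 11287 = n11288 := ndS (p := 8765) (l := 4) rfl N8765 D11288
theorem N11288 : nd 11288 = n11289 := ndS (p := 8766) (l := 1) rfl N8766 D11289
theorem N11289 : nd 11289 = n11290 := ndS (p := 8766) (l := 3) rfl N8766 D11290
theorem N11290 : nd 11290 = n11291 := ndS (p := 8766) (l := 5) rfl N8766 D11291
theorem N11291 : nd 11291 = n11292 := ndS (p := 8767) (l := 4) rfl N8767 D11292
theorem N11292 : nd 11292 = n11293 := ndS (p := 8768) (l := 0) rfl N8768 D11293
theorem N11293 : nd 11293 = n11294 := ndS (p := 8770) (l := 0) rfl N8770 D11294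
theorem N11294 : nd 11294 = n11295 := ndS (p := 8770) (l := 3) rfl N8770 D11295
theorem N11295 : nd 11295 = n11296 := ndS (p := 8770) (l := 5) rfl N8770 D11296
theorem N11296 : nd 11296 = n11297 := ndS (p := 8774) (l := 3) rfl N8774 D11297
theorem N11297 : nd 11297 = n11298 := ndS (p := 8774) (l := 5) rfl N8774 D11298
theorem N11298 : nd 11298 = n11299 := ndS (p := 8775) (l := 2) rfl N8775 D11299
theorem N11299 : nd 11299 = n11300 := ndS (p := 8775) (l := 4) rfl N8775 D11300
theorem N11300 : nd 11300 = n11301 := ndS (p := 8776) (l := 4) rfl N8776 D11301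
theorem N11301 : nd 11301 = n11302 := ndS (p := 8779) (l := 0) rfl N8779 D11302
theorem N11302 : nd 11302 = n11303 := ndS (p := 8779) (l := 3) rfl N8779 D11303
theorem N11303 : nd 11303 = n11304 := ndS (p := 8779) (l := 4) rfl N8779 D11304
theorem N11304 : nd 11304 = n11305 := ndS (p := 8780) (l := 4) rfl N8780 D11305
theorem N11305 : nd 11305 = n11306 := ndS (p := 8781) (l := 3) rfl N8781 D11306
theorem N11306 : nd 11306 = n11307 := ndS (p := 8781) (l := 5) rfl N8781 D11307
theorem N11307 : nd 11307 = n11308 := ndS (p := 8782) (l := 4) rfl N8782 D11308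
theorem N11308 : nd 11308 = n11309 := ndS (p := 8783) (l := 4) rfl N8783 D11309
theorem N11309 : nd 11309 = n11310 := ndS (p := 8785) (l := 4) rfl N8785 D11310
theorem N11310 : nd 11310 = n11311 := ndS (p := 8786) (l := 3) rfl N8786 D11311
theorem N11311 : nd 11311 = n11312 := ndS (p := 8786) (l := 5) rfl N8786 D11312
theorem N11312 : nd 11312 = n11313 := ndS (p := 8787) (l := 1) rfl N8787 D11313
theorem N11313 : nd 11313 = n11314 := ndS (p := 8787) (l := 4) rfl N8787 D11314
theorem N11314 : nd 11314 = n11315 := ndS (p := 8788) (l := 3) rfl N8788 D11315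
theorem N11315 : nd 11315 = n11316 := ndS (p := 8788) (l := 5) rfl N8788 D11316
theorem N11316 : nd 11316 = n11317 := ndS (p := 8789) (l := 2) rfl N8789 D11317
theorem N11317 : nd 11317 = n11318 := ndS (p := 8789) (l := 5) rfl N8789 D11318
theorem N11318 : nd 11318 = n11319 := ndS (p := 8793) (l := 3) rfl N8793 D11319
theorem N11319 : nd 11319 = n11320 := ndS (p := 8793) (l := 5) rfl N8793 D11320
theorem N11320 : nd 11320 = n11321 := ndS (p := 8794) (l := 2) rfl N8794 D11321
theorem N11321 : nd 11321 = n11322 := ndS (p := 8794) (l := 5) rfl N8794 D11322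
theorem N11322 : nd 11322 = n11323 := ndS (p := 8796) (l := 1) rfl N8796 D11323
theorem N11323 : nd 11323 = n11324 := ndS (p := 8796) (l := 3) rfl N8796 D11324
theorem N11324 : nd 11324 = n11325 := ndS (p := 8796) (l := 5) rfl N8796 D11325
theorem N11325 : nd 11325 = n11326 := ndS (p := 8797) (l := 4) rfl N8797 D11326
theorem N11326 : nd 11326 = n11327 := ndS (p := 8798) (l := 2) rfl N8798 D11327
theorem N11327 : nd 11327 = n11328 := ndS (p := 8798) (l := 5) rfl N8798 D11328
theorem N11328 : nd 11328 = n11329 := ndS (p := 8800) (l := 1) rfl N8800 D11329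
theorem N11329 : nd 11329 = n11330 := ndS (p := 8800) (l := 3) rfl N8800 D11330
theorem N11330 : nd 11330 = n11331 := ndS (p := 8800) (l := 5) rfl N8800 D11331
theorem N11331 : nd 11331 = n11332 := ndS (p := 8802) (l := 0) rfl N8802 D11332
theorem N11332 : nd 11332 = n11333 := ndS (p := 8802) (l := 3) rfl N8802 D11333
theorem N11333 : nd 11333 = n11334 := ndS (p := 8802) (l := 5) rfl N8802 D11334
theorem N11334 : nd 11334 = n11335 := ndS (p := 8805) (l := 1) rfl N8805 D11335
theorem N11335 : nd 11335 = n11336 := ndS (p := 8806) (l := 0) rfl N8806 D11336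
theorem N11336 : nd 11336 = n11337 := ndS (p := 8806) (l := 3) rfl N8806 D11337
theorem N11337 : nd 11337 = n11338 := ndS (p := 8809) (l := 3) rfl N8809 D11338
theorem N11338 : nd 11338 = n11339 := ndS (p := 8810) (l := 4) rfl N8810 D11339
theorem N11339 : nd 11339 = n11340 := ndS (p := 8811) (l := 4) rfl N8811 D11340
theorem N11340 : nd 11340 = n11341 := ndS (p := 8812) (l := 5) rfl N8812 D11341
theorem N11341 : nd 11341 = n11342 := ndS (p := 8813) (l := 3) rfl N8813 D11342
theorem N11342 : nd 11342 = n11343 := ndS (p := 8814) (l := 4) rfl N8814 D11343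
theorem N11343 : nd 11343 = n11344 := ndS (p := 8815) (l := 1) rfl N8815 D11344
theorem N11344 : nd 11344 = n11345 := ndS (p := 8815) (l := 4) rfl N8815 D11345
theorem N11345 : nd 11345 = n11346 := ndS (p := 8816) (l := 5) rfl N8816 D11346
theorem N11346 : nd 11346 = n11347 := ndS (p := 8817) (l := 4) rfl N8817 D11347
theorem N11347 : nd 11347 = n11348 := ndS (p := 8818) (l := 3) rfl N8818 D11348
theorem N11348 : nd 11348 = n11349 := ndS (p := 8818) (l := 5) rfl N8818 D11349
theorem N11349 : nd 11349 = n11350 := ndS (p := 8819) (l := 4) rfl N8819 D11350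
theorem N11350 : nd 11350 = n11351 := ndS (p := 8820) (l := 3) rfl N8820 D11351
theorem N11351 : nd 11351 = n11352 := ndS (p := 8821) (l := 2) rfl N8821 D11352
theorem N11352 : nd 11352 = n11353 := ndS (p := 8822) (l := 1) rfl N8822 D11353
theorem N11353 : nd 11353 = n11354 := ndS (p := 8822) (l := 3) rfl N8822 D11354
theorem N11354 : nd 11354 = n11355 := ndS (p := 8822) (l := 5) rfl N8822 D11355
theorem N11355 : nd 11355 = n11356 := ndS (p := 8823) (l := 4) rfl N8823 D11356
theorem N11356 : nd 11356 = n11357 := ndS (p := 8824) (l := 1) rfl N8824 D11357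
theorem N11357 : nd 11357 = n11358 := ndS (p := 8824) (l := 3) rfl N8824 D11358
theorem N11358 : nd 11358 = n11359 := ndS (p := 8824) (l := 5) rfl N8824 D11359
theorem N11359 : nd 11359 = n11360 := ndS (p := 8825) (l := 4) rfl N8825 D11360
theorem N11360 : nd 11360 = n11361 := ndS (p := 8826) (l := 0) rfl N8826 D11361
theorem N11361 : nd 11361 = n11362 := ndS (p := 8828) (l := 1) rfl N8828 D11362
theorem N11362 : nd 11362 = n11363 := ndS (p := 8828) (l := 3) rfl N8828 D11363
theorem N11363 : nd 11363 = n11364 := ndS (p := 8828) (l := 5) rfl N8828 D11364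
theorem N11364 : nd 11364 = n11365 := ndS (p := 8829) (l := 4) rfl N8829 D11365
theorem N11365 : nd 11365 = n11366 := ndS (p := 8830) (l := 0) rfl N8830 D11366
theorem N11366 : nd 11366 = n11367 := ndS (p := 8830) (l := 3) rfl N8830 D11367
theorem N11367 : nd 11367 = n11368 := ndS (p := 8830) (l := 5) rfl N8830 D11368
theorem N11368 : nd 11368 = n11369 := ndS (p := 8831) (l := 2) rfl N8831 D11369
theorem N11369 : nd 11369 = n11370 := ndS (p := 8831) (l := 4) rfl N8831 D11370
theorem N11370 : nd 11370 = n11371 := ndS (p := 8831) (l := 5) rfl N8831 D11371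
theorem N11371 : nd 11371 = n11372 := ndS (p := 8832) (l := 4) rfl N8832 D11372
theorem N11372 : nd 11372 = n11373 := ndS (p := 8834) (l := 3) rfl N8834 D11373
theorem N11373 : nd 11373 = n11374 := ndS (p := 8834) (l := 5) rfl N8834 D11374
theorem N11374 : nd 11374 = n11375 := ndS (p := 8835) (l := 2) rfl N8835 D11375
theorem N11375 : nd 11375 = n11376 := ndS (p := 8835) (l := 4) rfl N8835 D11376
theorem N11376 : nd 11376 = n11377 := ndS (p := 8836) (l := 4) rfl N8836 D11377
theorem N11377 : nd 11377 = n11378 := ndS (p := 8837) (l := 5) rfl N8837 D11378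
theorem N11378 : nd 11378 = n11379 := ndS (p := 8838) (l := 3) rfl N8838 D11379
theorem N11379 : nd 11379 = n11380 := ndS (p := 8839) (l := 0) rfl N8839 D11380
theorem N11380 : nd 11380 = n11381 := ndS (p := 8839) (l := 4) rfl N8839 D11381
theorem N11381 : nd 11381 = n11382 := ndS (p := 8840) (l := 3) rfl N8840 D11382
theorem N11382 : nd 11382 = n11383 := ndS (p := 8840) (l := 5) rfl N8840 D11383
theorem N11383 : nd 11383 = n11384 := ndS (p := 8841) (l := 4) rfl N8841 D11384
theorem N11384 : nd 11384 = n11385 := ndS (p := 8842) (l := 4) rfl N8842 D11385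
theorem N11385 : nd 11385 = n11386 := ndS (p := 8844) (l := 4) rfl N8844 D11386
theorem N11386 : nd 11386 = n11387 := ndS (p := 8845) (l := 3) rfl N8845 D11387
theorem N11387 : nd 11387 = n11388 := ndS (p := 8845) (l := 5) rfl N8845 D11388
theorem N11388 : nd 11388 = n11389 := ndS (p := 8846) (l := 3) rfl N8846 D11389
theorem N11389 : nd 11389 = n11390 := ndS (p := 8846) (l := 5) rfl N8846 D11390
theorem N11390 : nd 11390 = n11391 := ndS (p := 8847) (l := 2) rfl N8847 D11391
theorem N11391 : nd 11391 = n11392 := ndS (p := 8847) (l := 5) rfl N8847 D11392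
theorem N11392 : nd 11392 = n11393 := ndS (p := 8850) (l := 2) rfl N8850 D11393
theorem N11393 : nd 11393 = n11394 := ndS (p := 8851) (l := 1) rfl N8851 D11394
theorem N11394 : nd 11394 = n11395 := ndS (p := 8851) (l := 3) rfl N8851 D11395
theorem N11395 : nd 11395 = n11396 := ndS (p := 8852) (l := 1) rfl N8852 D11396
theorem N11396 : nd 11396 = n11397 := ndS (p := 8853) (l := 0) rfl N8853 D11397
theorem N11397 : nd 11397 = n11398 := ndS (p := 8854) (l := 4) rfl N8854 D11398
theorem N11398 : nd 11398 = n11399 := ndS (p := 8855) (l := 3) rfl N8855 D11399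
theorem N11399 : nd 11399 = n11400 := ndS (p := 8855) (l := 5) rfl N8855 D11400
theorem N11400 : nd 11400 = n11401 := ndS (p := 8856) (l := 3) rfl N8856 D11401
theorem N11401 : nd 11401 = n11402 := ndS (p := 8856) (l := 5) rfl N8856 D11402
theorem N11402 : nd 11402 = n11403 := ndS (p := 8859) (l := 1) rfl N8859 D11403
theorem N11403 : nd 11403 = n11404 := ndS (p := 8859) (l := 3) rfl N8859 D11404
theorem N11404 : nd 11404 = n11405 := ndS (p := 8860) (l := 4) rfl N8860 D11405
theorem N11405 : nd 11405 = n11407 := ndS (p := 8861) (l := 5) rfl N8861 D11407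
theorem N11406 : nd 11406 = n11408 := ndS (p := 8862) (l := 2) rfl N8862 D11408
theorem N11407 : nd 11407 = n11409 := ndS (p := 8862) (l := 5) rfl N8862 D11409
theorem N11408 : nd 11408 = n11410 := ndS (p := 8864) (l := 1) rfl N8864 D11410
theorem N11409 : nd 11409 = n11411 := ndS (p := 8865) (l := 4) rfl N8865 D11411
theorem N11410 : nd 11410 = n11412 := ndS (p := 8866) (l := 4) rfl N8866 D11412
theorem N11411 : nd 11411 = n11413 := ndS (p := 8867) (l := 3) rfl N8867 D11413
theorem N11412 : nd 11412 = n11414 := ndS (p := 8867) (l := 5) rfl N8867 D11414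
theorem N11413 : nd 11413 = n11415 := ndS (p := 8868) (l := 3) rfl N8868 D11415
theorem N11414 : nd 11414 = n11416 := ndS (p := 8868) (l := 5) rfl N8868 D11416
theorem N11415 : nd 11415 = n11417 := ndS (p := 8869) (l := 2) rfl N8869 D11417
theorem N11416 : nd 11416 = n11418 := ndS (p := 8869) (l := 5) rfl N8869 D11418
theorem N11417 : nd 11417 = n11419 := ndS (p := 8870) (l := 4) rfl N8870 D11419
theorem N11418 : nd 11418 = n11420 := ndS (p := 8871) (l := 3) rfl N8871 D11420
theorem N11419 : nd 11419 = n11421 := ndS (p := 8872) (l := 2) rfl N8872 D11421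
theorem N11420 : nd 11420 = n11422 := ndS (p := 8872) (l := 5) rfl N8872 D11422
theorem N11421 : nd 11421 = n11423 := ndS (p := 8874) (l := 1) rfl N8874 D11423
theorem N11422 : nd 11422 = n11424 := ndS (p := 8875) (l := 4) rfl N8875 D11424
theorem N11423 : nd 11423 = n11425 := ndS (p := 8876) (l := 3) rfl N8876 D11425
theorem N11424 : nd 11424 = n11426 := ndS (p := 8877) (l := 2) rfl N8877 D11426
theorem N11425 : nd 11425 = n11427 := ndS (p := 8878) (l := 1) rfl N8878 D11427
theorem N11426 : nd 11426 = n11428 := ndS (p := 8878) (l := 3) rfl N8878 D11428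
theorem N11427 : nd 11427 = n11429 := ndS (p := 8879) (l := 0) rfl N8879 D11429
theorem N11428 : nd 11428 = n11430 := ndS (p := 8880) (l := 2) rfl N8880 D11430
theorem N11429 : nd 11429 = n11431 := ndS (p := 8880) (l := 5) rfl N8880 D11431
theorem N11430 : nd 11430 = n11432 := ndS (p := 8882) (l := 2) rfl N8882 D11432
theorem N11431 : nd 11431 = n11433 := ndS (p := 8884) (l := 1) rfl N8884 D11433
theorem N11432 : nd 11432 = n11434 := ndS (p := 8884) (l := 3) rfl N8884 D11434
theorem N11433 : nd 11433 = n11435 := ndS (p := 8884) (l := 5) rfl N8884 D11435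
theorem N11434 : nd 11434 = n11436 := ndS (p := 8886) (l := 3) rfl N8886 D11436
theorem N11435 : nd 11435 = n11437 := ndS (p := 8886) (l := 5) rfl N8886 D11437
theorem N11436 : nd 11436 = n11438 := ndS (p := 8887) (l := 2) rfl N8887 D11438
theorem N11437 : nd 11437 = n11439 := ndS (p := 8887) (l := 5) rfl N8887 D11439
theorem N11438 : nd 11438 = n11440 := ndS (p := 8889) (l := 1) rfl N8889 D11440
theorem N11439 : nd 11439 = n11441 := ndS (p := 8889) (l := 3) rfl N8889 D11441
theorem N11440 : nd 11440 = n11442 := ndS (p := 8891) (l := 3) rfl N8891 D11442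
theorem N11441 : nd 11441 = n11443 := ndS (p := 8892) (l := 2) rfl N8892 D11443
theorem N11442 : nd 11442 = n11444 := ndS (p := 8893) (l := 0) rfl N8893 D11444
theorem N11443 : nd 11443 = n11445 := ndS (p := 8893) (l := 3) rfl N8893 D11445
theorem N11444 : nd 11444 = n11446 := ndS (p := 8893) (l := 5) rfl N8893 D11446
theorem N11445 : nd 11445 = n11447 := ndS (p := 8894) (l := 4) rfl N8894 D11447
theorem N11446 : nd 11446 = n11448 := ndS (p := 8896) (l := 3) rfl N8896 D11448
theorem N11447 : nd 11447 = n11449 := ndS (p := 8897) (l := 2) rfl N8897 D11449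
theorem N11448 : nd 11448 = n11450 := ndS (p := 8898) (l := 1) rfl N8898 D11450
theorem N11449 : nd 11449 = n11451 := ndS (p := 8898) (l := 3) rfl N8898 D11451
theorem N11450 : nd 11450 = n11452 := ndS (p := 8899) (l := 2) rfl N8899 D11452
theorem N11451 : nd 11451 = n11453 := ndS (p := 8899) (l := 4) rfl N8899 D11453
theorem N11452 : nd 11452 = n11454 := ndS (p := 8900) (l := 3) rfl N8900 D11454
theorem N11453 : nd 11453 = n11455 := ndS (p := 8901) (l := 2) rfl N8901 D11455
theorem N11454 : nd 11454 = n11456 := ndS (p := 8901) (l := 4) rfl N8901 D11456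
theorem N11455 : nd 11455 = n11457 := ndS (p := 8902) (l := 5) rfl N8902 D11457
theorem N11456 : nd 11456 = n11458 := ndS (p := 8903) (l := 1) rfl N8903 D11458
theorem N11457 : nd 11457 = n11459 := ndS (p := 8903) (l := 3) rfl N8903 D11459
theorem N11458 : nd 11458 = n11460 := ndS (p := 8904) (l := 2) rfl N8904 D11460
theorem N11459 : nd 11459 = n11461 := ndS (p := 8905) (l := 2) rfl N8905 D11461
theorem N11460 : nd 11460 = n11462 := ndS (p := 8905) (l := 5) rfl N8905 D11462
theorem N11461 : nd 11461 = n11463 := ndS (p := 8907) (l := 1) rfl N8907 D11463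
theorem N11462 : nd 11462 = n11464 := ndS (p := 8907) (l := 3) rfl N8907 D11464
theorem N11463 : nd 11463 = n11465 := ndS (p := 8907) (l := 5) rfl N8907 D11465
theorem N11464 : nd 11464 = n11466 := ndS (p := 8908) (l := 4) rfl N8908 D11466
theorem N11465 : nd 11465 = n11467 := ndS (p := 8909) (l := 1) rfl N8909 D11467
theorem N11466 : nd 11466 = n11468 := ndS (p := 8909) (l := 5) rfl N8909 D11468
theorem N11467 : nd 11467 = n11469 := ndS (p := 8910) (l := 4) rfl N8910 D11469
theorem N11468 : nd 11468 = n11470 := ndS (p := 8911) (l := 0) rfl N8911 D11470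
theorem N11469 : nd 11469 = n11471 := ndS (p := 8913) (l := 3) rfl N8913 D11471
theorem N11470 : nd 11470 = n11472 := ndS (p := 8914) (l := 4) rfl N8914 D11472
theorem N11471 : nd 11471 = n11473 := ndS (p := 8915) (l := 5) rfl N8915 D11473
theorem N11472 : nd 11472 = n11474 := ndS (p := 8916) (l := 2) rfl N8916 D11474
theorem N11473 : nd 11473 = n11475 := ndS (p := 8916) (l := 5) rfl N8916 D11475
theorem N11474 : nd 11474 = n11476 := ndS (p := 8918) (l := 1) rfl N8918 D11476
theorem N11475 : nd 11475 = n11477 := ndS (p := 8918) (l := 3) rfl N8918 D11477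
theorem N11476 : nd 11476 = n11478 := ndS (p := 8918) (l := 5) rfl N8918 D11478
theorem N11477 : nd 11477 = n11479 := ndS (p := 8919) (l := 4) rfl N8919 D11479
theorem N11478 : nd 11478 = n11480 := ndS (p := 8920) (l := 0) rfl N8920 D11480
theorem N11479 : nd 11479 = n11481 := ndS (p := 8920) (l := 5) rfl N8920 D11481
theorem N11480 : nd 11480 = n11482 := ndS (p := 8921) (l := 2) rfl N8921 D11482
theorem N11481 : nd 11481 = n11483 := ndS (p := 8921) (l := 5) rfl N8921 D11483
theorem N11482 : nd 11482 = n11484 := ndS (p := 8922) (l := 4) rfl N8922 D11484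
theorem N11483 : nd 11483 = n11485 := ndS (p := 8924) (l := 3) rfl N8924 D11485
theorem N11484 : nd 11484 = n11486 := ndS (p := 8924) (l := 5) rfl N8924 D11486
theorem N11485 : nd 11485 = n11487 := ndS (p := 8925) (l := 2) rfl N8925 D11487
theorem N11486 : nd 11486 = n11488 := ndS (p := 8926) (l := 4) rfl N8926 D11488
theorem N11487 : nd 11487 = n11489 := ndS (p := 8928) (l := 3) rfl N8928 D11489
theorem N11488 : nd 11488 = n11490 := ndS (p := 8929) (l := 2) rfl N8929 D11490
theorem N11489 : nd 11489 = n11491 := ndS (p := 8929) (l := 4) rfl N8929 D11491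
theorem N11490 : nd 11490 = n11492 := ndS (p := 8930) (l := 1) rfl N8930 D11492
theorem N11491 : nd 11491 = n11493 := ndS (p := 8930) (l := 3) rfl N8930 D11493
theorem N11492 : nd 11492 = n11494 := ndS (p := 8930) (l := 4) rfl N8930 D11494
theorem N11493 : nd 11493 = n11495 := ndS (p := 8931) (l := 5) rfl N8931 D11495
theorem N11494 : nd 11494 = n11496 := ndS (p := 8932) (l := 4) rfl N8932 D11496
theorem N11495 : nd 11495 = n11497 := ndS (p := 8933) (l := 3) rfl N8933 D11497
theorem N11496 : nd 11496 = n11498 := ndS (p := 8933) (l := 5) rfl N8933 D11498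
theorem N11497 : nd 11497 = n11499 := ndS (p := 8935) (l := 1) rfl N8935 D11499
theorem N11498 : nd 11498 = n11500 := ndS (p := 8935) (l := 3) rfl N8935 D11500
theorem N11499 : nd 11499 = n11501 := ndS (p := 8936) (l := 2) rfl N8936 D11501
theorem N11500 : nd 11500 = n11502 := ndS (p := 8936) (l := 4) rfl N8936 D11502
theorem N11501 : nd 11501 = n11503 := ndS (p := 8937) (l := 1) rfl N8937 D11503
theorem N11502 : nd 11502 = n11504 := ndS (p := 8937) (l := 3) rfl N8937 D11504
theorem N11503 : nd 11503 = n11505 := ndS (p := 8937) (l := 5) rfl N8937 D11505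
theorem N11504 : nd 11504 = n11506 := ndS (p := 8938) (l := 4) rfl N8938 D11506
theorem N11505 : nd 11505 = n11507 := ndS (p := 8939) (l := 0) rfl N8939 D11507
theorem N11506 : nd 11506 = n11508 := ndS (p := 8939) (l := 3) rfl N8939 D11508
theorem N11507 : nd 11507 = n11509 := ndS (p := 8940) (l := 2) rfl N8940 D11509
theorem N11508 : nd 11508 = n11510 := ndS (p := 8940) (l := 4) rfl N8940 D11510
theorem N11509 : nd 11509 = n11511 := ndS (p := 8940) (l := 5) rfl N8940 D11511
theorem N11510 : nd 11510 = n11512 := ndS (p := 8941) (l := 4) rfl N8941 D11512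
theorem N11511 : nd 11511 = n11513 := ndS (p := 8944) (l := 1) rfl N8944 D11513
theorem N11512 : nd 11512 = n11514 := ndS (p := 8944) (l := 3) rfl N8944 D11514
theorem N11513 : nd 11513 = n11515 := ndS (p := 8944) (l := 5) rfl N8944 D11515
theorem N11514 : nd 11514 = n11516 := ndS (p := 8945) (l := 4) rfl N8945 D11516
theorem N11515 : nd 11515 = n11517 := ndS (p := 8946) (l := 0) rfl N8946 D11517
theorem N11516 : nd 11516 = n11518 := ndS (p := 8946) (l := 3) rfl N8946 D11518
theorem N11517 : nd 11517 = n11519 := ndS (p := 8946) (l := 5) rfl N8946 D11519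
theorem N11518 : nd 11518 = n11520 := ndS (p := 8947) (l := 4) rfl N8947 D11520
theorem N11519 : nd 11519 = n11521 := ndS (p := 8948) (l := 4) rfl N8948 D11521
theorem N11520 : nd 11520 = n11522 := ndS (p := 8950) (l := 1) rfl N8950 D11522
theorem N11521 : nd 11521 = n11523 := ndS (p := 8950) (l := 3) rfl N8950 D11523
theorem N11522 : nd 11522 = n11524 := ndS (p := 8950) (l := 5) rfl N8950 D11524
theorem N11523 : nd 11523 = n11525 := ndS (p := 8951) (l := 4) rfl N8951 D11525
theorem N11524 : nd 11524 = n11526 := ndS (p := 8952) (l := 0) rfl N8952 D11526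
theorem N11525 : nd 11525 = n11527 := ndS (p := 8952) (l := 3) rfl N8952 D11527
theorem N11526 : nd 11526 = n11528 := ndS (p := 8953) (l := 2) rfl N8953 D11528
theorem N11527 : nd 11527 = n11529 := ndS (p := 8953) (l := 4) rfl N8953 D11529
theorem N11528 : nd 11528 = n11530 := ndS (p := 8953) (l := 5) rfl N8953 D11530
theorem N11529 : nd 11529 = n11531 := ndS (p := 8954) (l := 4) rfl N8954 D11531
theorem N11530 : nd 11530 = n11532 := ndS (p := 8956) (l := 3) rfl N8956 D11532
theorem N11531 : nd 11531 = n11533 := ndS (p := 8956) (l := 5) rfl N8956 D11533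
theorem N11532 : nd 11532 = n11534 := ndS (p := 8957) (l := 2) rfl N8957 D11534
theorem N11533 : nd 11533 = n11535 := ndS (p := 8957) (l := 4) rfl N8957 D11535
theorem N11534 : nd 11534 = n11536 := ndS (p := 8957) (l := 5) rfl N8957 D11536
theorem N11535 : nd 11535 = n11537 := ndS (p := 8958) (l := 4) rfl N8958 D11537
theorem N11536 : nd 11536 = n11538 := ndS (p := 8959) (l := 4) rfl N8959 D11538
theorem N11537 : nd 11537 = n11539 := ndS (p := 8960) (l := 5) rfl N8960 D11539
theorem N11538 : nd 11538 = n11540 := ndS (p := 8961) (l := 4) rfl N8961 D11540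
theorem N11539 : nd 11539 = n11541 := ndS (p := 8962) (l := 3) rfl N8962 D11541
theorem N11540 : nd 11540 = n11542 := ndS (p := 8964) (l := 2) rfl N8964 D11542
theorem N11541 : nd 11541 = n11543 := ndS (p := 8964) (l := 4) rfl N8964 D11543
theorem N11542 : nd 11542 = n11544 := ndS (p := 8965) (l := 4) rfl N8965 D11544
theorem N11543 : nd 11543 = n11545 := ndS (p := 8966) (l := 3) rfl N8966 D11545
theorem N11544 : nd 11544 = n11546 := ndS (p := 8966) (l := 4) rfl N8966 D11546
theorem N11545 : nd 11545 = n11547 := ndS (p := 8969) (l := 5) rfl N8969 D11547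
theorem N11546 : nd 11546 = n11548 := ndS (p := 8970) (l := 2) rfl N8970 D11548
theorem N11547 : nd 11547 = n11549 := ndS (p := 8970) (l := 5) rfl N8970 D11549
theorem N11548 : nd 11548 = n11550 := ndS (p := 8972) (l := 1) rfl N8972 D11550
theorem N11549 : nd 11549 = n11551 := ndS (p := 8972) (l := 3) rfl N8972 D11551
theorem N11550 : nd 11550 = n11552 := ndS (p := 8972) (l := 4) rfl N8972 D11552
theorem N11551 : nd 11551 = n11553 := ndS (p := 8972) (l := 5) rfl N8972 D11553
theorem N11552 : nd 11552 = n11554 := ndS (p := 8973) (l := 5) rfl N8973 D11554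
theorem N11553 : nd 11553 = n11555 := ndS (p := 8974) (l := 4) rfl N8974 D11555
theorem N11554 : nd 11554 = n11556 := ndS (p := 8975) (l := 0) rfl N8975 D11556
theorem N11555 : nd 11555 = n11557 := ndS (p := 8975) (l := 4) rfl N8975 D11557
theorem N11556 : nd 11556 = n11558 := ndS (p := 8976) (l := 3) rfl N8976 D11558
theorem N11557 : nd 11557 = n11559 := ndS (p := 8976) (l := 5) rfl N8976 D11559
theorem N11558 : nd 11558 = n11560 := ndS (p := 8977) (l := 4) rfl N8977 D11560
theorem N11559 : nd 11559 = n11561 := ndS (p := 8978) (l := 3) rfl N8978 D11561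
theorem N11560 : nd 11560 = n11562 := ndS (p := 8980) (l := 1) rfl N8980 D11562
theorem N11561 : nd 11561 = n11563 := ndS (p := 8980) (l := 3) rfl N8980 D11563
theorem N11562 : nd 11562 = n11564 := ndS (p := 8981) (l := 2) rfl N8981 D11564
theorem N11563 : nd 11563 = n11565 := ndS (p := 8981) (l := 4) rfl N8981 D11565
theorem N11564 : nd 11564 = n11566 := ndS (p := 8982) (l := 1) rfl N8982 D11566
theorem N11565 : nd 11565 = n11567 := ndS (p := 8982) (l := 3) rfl N8982 D11567
theorem N11566 : nd 11566 = n11568 := ndS (p := 8982) (l := 5) rfl N8982 D11568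
theorem N11567 : nd 11567 = n11569 := ndS (p := 8983) (l := 4) rfl N8983 D11569
theorem N11568 : nd 11568 = n11570 := ndS (p := 8984) (l := 2) rfl N8984 D11570
theorem N11569 : nd 11569 = n11571 := ndS (p := 8984) (l := 4) rfl N8984 D11571
theorem N11570 : nd 11570 = n11572 := ndS (p := 8984) (l := 5) rfl N8984 D11572
theorem N11571 : nd 11571 = n11573 := ndS (p := 8986) (l := 5) rfl N8986 D11573
theorem N11572 : nd 11572 = n11574 := ndS (p := 8987) (l := 1) rfl N8987 D11574
theorem N11573 : nd 11573 = n11575 := ndS (p := 8987) (l := 3) rfl N8987 D11575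
theorem N11574 : nd 11574 = n11576 := ndS (p := 8987) (l := 5) rfl N8987 D11576
theorem N11575 : nd 11575 = n11577 := ndS (p := 8988) (l := 4) rfl N8988 D11577
theorem N11576 : nd 11576 = n11578 := ndS (p := 8989) (l := 0) rfl N8989 D11578
theorem N11577 : nd 11577 = n11579 := ndS (p := 8989) (l := 3) rfl N8989 D11579
theorem N11578 : nd 11578 = n11580 := ndS (p := 8989) (l := 5) rfl N8989 D11580
theorem N11579 : nd 11579 = n11581 := ndS (p := 8990) (l := 2) rfl N8990 D11581
theorem N11580 : nd 11580 = n11582 := ndS (p := 8990) (l := 4) rfl N8990 D11582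
theorem N11581 : nd 11581 = n11583 := ndS (p := 8990) (l := 5) rfl N8990 D11583
theorem N11582 : nd 11582 = n11584 := ndS (p := 8991) (l := 4) rfl N8991 D11584
theorem N11583 : nd 11583 = n11585 := ndS (p := 8993) (l := 3) rfl N8993 D11585
theorem N11584 : nd 11584 = n11586 := ndS (p := 8993) (l := 5) rfl N8993 D11586
theorem N11585 : nd 11585 = n11587 := ndS (p := 8994) (l := 2) rfl N8994 D11587
theorem N11586 : nd 11586 = n11588 := ndS (p := 8994) (l := 4) rfl N8994 D11588
theorem N11587 : nd 11587 = n11589 := ndS (p := 8995) (l := 4) rfl N8995 D11589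
theorem N11588 : nd 11588 = n11590 := ndS (p := 8998) (l := 2) rfl N8998 D11590
theorem N11589 : nd 11589 = n11591 := ndS (p := 8998) (l := 5) rfl N8998 D11591
theorem N11590 : nd 11590 = n11592 := ndS (p := 9000) (l := 1) rfl N9000 D11592
theorem N11591 : nd 11591 = n11593 := ndS (p := 9000) (l := 3) rfl N9000 D11593
theorem N11592 : nd 11592 = n11594 := ndS (p := 9000) (l := 5) rfl N9000 D11594
theorem N11593 : nd 11593 = n11595 := ndS (p := 9001) (l := 4) rfl N9001 D11595
theorem N11594 : nd 11594 = n11596 := ndS (p := 9002) (l := 0) rfl N9002 D11596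
theorem N11595 : nd 11595 = n11597 := ndS (p := 9004) (l := 4) rfl N9004 D11597
theorem N11596 : nd 11596 = n11598 := ndS (p := 9005) (l := 4) rfl N9005 D11598
theorem N11597 : nd 11597 = n11599 := ndS (p := 9006) (l := 3) rfl N9006 D11599
theorem N11598 : nd 11598 = n11600 := ndS (p := 9006) (l := 5) rfl N9006 D11600
theorem N11599 : nd 11599 = n11601 := ndS (p := 9008) (l := 4) rfl N9008 D11601
theorem N11600 : nd 11600 = n11602 := ndS (p := 9009) (l := 3) rfl N9009 D11602
theorem N11601 : nd 11601 = n11603 := ndS (p := 9009) (l := 5) rfl N9009 D11603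
theorem N11602 : nd 11602 = n11604 := ndS (p := 9010) (l := 2) rfl N9010 D11604
theorem N11603 : nd 11603 = n11605 := ndS (p := 9010) (l := 5) rfl N9010 D11605
theorem N11604 : nd 11604 = n11606 := ndS (p := 9012) (l := 1) rfl N9012 D11606
theorem N11605 : nd 11605 = n11607 := ndS (p := 9012) (l := 3) rfl N9012 D11607
theorem N11606 : nd 11606 = n11608 := ndS (p := 9013) (l := 0) rfl N9013 D11608
theorem N11607 : nd 11607 = n11609 := ndS (p := 9014) (l := 0) rfl N9014 D11609
theorem N11608 : nd 11608 = n11610 := ndS (p := 9014) (l := 3) rfl N9014 D11610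
theorem N11609 : nd 11609 = n11611 := ndS (p := 9015) (l := 2) rfl N9015 D11611
theorem N11610 : nd 11610 = n11612 := ndS (p := 9015) (l := 4) rfl N9015 D11612
theorem N11611 : nd 11611 = n11613 := ndS (p := 9017) (l := 4) rfl N9017 D11613
theorem N11612 : nd 11612 = n11614 := ndS (p := 9018) (l := 4) rfl N9018 D11614
theorem N11613 : nd 11613 = n11615 := ndS (p := 9019) (l := 3) rfl N9019 D11615
theorem N11614 : nd 11614 = n11616 := ndS (p := 9019) (l := 5) rfl N9019 D11616
theorem N11615 : nd 11615 = n11617 := ndS (p := 9020) (l := 4) rfl N9020 D11617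
theorem N11616 : nd 11616 = n11618 := ndS (p := 9021) (l := 3) rfl N9021 D11618
theorem N11617 : nd 11617 = n11619 := ndS (p := 9021) (l := 5) rfl N9021 D11619
theorem N11618 : nd 11618 = n11620 := ndS (p := 9022) (l := 2) rfl N9022 D11620
theorem N11619 : nd 11619 = n11621 := ndS (p := 9022) (l := 5) rfl N9022 D11621
theorem N11620 : nd 11620 = n11622 := ndS (p := 9023) (l := 4) rfl N9023 D11622
theorem N11621 : nd 11621 = n11623 := ndS (p := 9024) (l := 3) rfl N9024 D11623
theorem N11622 : nd 11622 = n11624 := ndS (p := 9026) (l := 3) rfl N9026 D11624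
theorem N11623 : nd 11623 = n11625 := ndS (p := 9026) (l := 5) rfl N9026 D11625
theorem N11624 : nd 11624 = n11626 := ndS (p := 9027) (l := 3) rfl N9027 D11626
theorem N11625 : nd 11625 = n11627 := ndS (p := 9027) (l := 5) rfl N9027 D11627
theorem N11626 : nd 11626 = n11628 := ndS (p := 9028) (l := 2) rfl N9028 D11628
theorem N11627 : nd 11627 = n11629 := ndS (p := 9028) (l := 5) rfl N9028 D11629
theorem N11628 : nd 11628 = n11630 := ndS (p := 9030) (l := 4) rfl N9030 D11630
theorem N11629 : nd 11629 = n11631 := ndS (p := 9031) (l := 5) rfl N9031 D11631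
theorem N11630 : nd 11630 = n11632 := ndS (p := 9032) (l := 2) rfl N9032 D11632
theorem N11631 : nd 11631 = n11633 := ndS (p := 9032) (l := 5) rfl N9032 D11633
theorem N11632 : nd 11632 = n11634 := ndS (p := 9033) (l := 4) rfl N9033 D11634
theorem N11633 : nd 11633 = n11635 := ndS (p := 9034) (l := 3) rfl N9034 D11635
theorem N11634 : nd 11634 = n11636 := ndS (p := 9035) (l := 1) rfl N9035 D11636
theorem N11635 : nd 11635 = n11637 := ndS (p := 9036) (l := 4) rfl N9036 D11637
theorem N11636 : nd 11636 = n11638 := ndS (p := 9037) (l := 3) rfl N9037 D11638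
theorem N11637 : nd 11637 = n11639 := ndS (p := 9038) (l := 2) rfl N9038 D11639
theorem N11638 : nd 11638 = n11640 := ndS (p := 9039) (l := 2) rfl N9039 D11640
theorem N11639 : nd 11639 = n11641 := ndS (p := 9039) (l := 5) rfl N9039 D11641
theorem N11640 : nd 11640 = n11642 := ndS (p := 9041) (l := 1) rfl N9041 D11642
theorem N11641 : nd 11641 = n11643 := ndS (p := 9041) (l := 3) rfl N9041 D11643
theorem N11642 : nd 11642 = n11644 := ndS (p := 9041) (l := 5) rfl N9041 D11644
theorem N11643 : nd 11643 = n11645 := ndS (p := 9043) (l := 0) rfl N9043 D11645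
theorem N11644 : nd 11644 = n11646 := ndS (p := 9044) (l := 0) rfl N9044 D11646
theorem N11645 : nd 11645 = n11647 := ndS (p := 9046) (l := 1) rfl N9046 D11647
theorem N11646 : nd 11646 = n11648 := ndS (p := 9046) (l := 3) rfl N9046 D11648
theorem N11647 : nd 11647 = n11649 := ndS (p := 9046) (l := 5) rfl N9046 D11649
theorem N11648 : nd 11648 = n11650 := ndS (p := 9047) (l := 4) rfl N9047 D11650
theorem N11649 : nd 11649 = n11651 := ndS (p := 9048) (l := 0) rfl N9048 D11651
theorem N11650 : nd 11650 = n11652 := ndS (p := 9048) (l := 3) rfl N9048 D11652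
theorem N11651 : nd 11651 = n11653 := ndS (p := 9048) (l := 5) rfl N9048 D11653
theorem N11652 : nd 11652 = n11654 := ndS (p := 9049) (l := 4) rfl N9049 D11654
theorem N11653 : nd 11653 = n11655 := ndS (p := 9050) (l := 4) rfl N9050 D11655
theorem N11654 : nd 11654 = n11656 := ndS (p := 9052) (l := 0) rfl N9052 D11656
theorem N11655 : nd 11655 = n11657 := ndS (p := 9052) (l := 3) rfl N9052 D11657
theorem N11656 : nd 11656 = n11658 := ndS (p := 9052) (l := 5) rfl N9052 D11658
theorem N11657 : nd 11657 = n11659 := ndS (p := 9053) (l := 2) rfl N9053 D11659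
theorem N11658 : nd 11658 = n11660 := ndS (p := 9053) (l := 4) rfl N9053 D11660
theorem N11659 : nd 11659 = n11661 := ndS (p := 9053) (l := 5) rfl N9053 D11661
theorem N11660 : nd 11660 = n11662 := ndS (p := 9054) (l := 4) rfl N9054 D11662
theorem N11661 : nd 11661 = n11663 := ndS (p := 9056) (l := 3) rfl N9056 D11663
theorem N11662 : nd 11662 = n11664 := ndS (p := 9056) (l := 5) rfl N9056 D11664
theorem N11663 : nd 11663 = n11666 := ndS (p := 9059) (l := 0) rfl N9059 D11666
theorem N11664 : nd 11664 = n11667 := ndS (p := 9060) (l := 3) rfl N9060 D11667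
theorem N11665 : nd 11665 = n11668 := ndS (p := 9062) (l := 2) rfl N9062 D11668
theorem N11666 : nd 11666 = n11669 := ndS (p := 9063) (l := 3) rfl N9063 D11669
theorem N11667 : nd 11667 = n11670 := ndS (p := 9064) (l := 1) rfl N9064 D11670
theorem N11668 : nd 11668 = n11671 := ndS (p := 9065) (l := 0) rfl N9065 D11671
theorem N11669 : nd 11669 = n11672 := ndS (p := 9067) (l := 2) rfl N9067 D11672
theorem N11670 : nd 11670 = n11673 := ndS (p := 9067) (l := 5) rfl N9067 D11673
theorem N11671 : nd 11671 = n11674 := ndS (p := 9069) (l := 2) rfl N9069 D11674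
theorem N11672 : nd 11672 = n11675 := ndS (p := 9069) (l := 5) rfl N9069 D11675
theorem N11673 : nd 11673 = n11676 := ndS (p := 9071) (l := 1) rfl N9071 D11676
theorem N11674 : nd 11674 = n11677 := ndS (p := 9071) (l := 3) rfl N9071 D11677
theorem N11675 : nd 11675 = n11678 := ndS (p := 9071) (l := 5) rfl N9071 D11678
theorem N11676 : nd 11676 = n11679 := ndS (p := 9072) (l := 4) rfl N9072 D11679
theorem N11677 : nd 11677 = n11680 := ndS (p := 9073) (l := 4) rfl N9073 D11680
theorem N11678 : nd 11678 = n11681 := ndS (p := 9074) (l := 4) rfl N9074 D11681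
theorem N11679 : nd 11679 = n11682 := ndS (p := 9075) (l := 5) rfl N9075 D11682
theorem N11680 : nd 11680 = n11683 := ndS (p := 9077) (l := 5) rfl N9077 D11683
theorem N11681 : nd 11681 = n11684 := ndS (p := 9079) (l := 4) rfl N9079 D11684
theorem N11682 : nd 11682 = n11685 := ndS (p := 9080) (l := 3) rfl N9080 D11685
theorem N11683 : nd 11683 = n11686 := ndS (p := 9080) (l := 5) rfl N9080 D11686
theorem N11684 : nd 11684 = n11687 := ndS (p := 9081) (l := 2) rfl N9081 D11687
theorem N11685 : nd 11685 = n11688 := ndS (p := 9081) (l := 5) rfl N9081 D11688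
theorem N11686 : nd 11686 = n11689 := ndS (p := 9084) (l := 2) rfl N9084 D11689
theorem N11687 : nd 11687 = n11690 := ndS (p := 9085) (l := 2) rfl N9085 D11690
theorem N11688 : nd 11688 = n11691 := ndS (p := 9085) (l := 5) rfl N9085 D11691
theorem N11689 : nd 11689 = n11692 := ndS (p := 9087) (l := 1) rfl N9087 D11692
theorem N11690 : nd 11690 = n11693 := ndS (p := 9088) (l := 2) rfl N9088 D11693
theorem N11691 : nd 11691 = n11694 := ndS (p := 9088) (l := 5) rfl N9088 D11694
theorem N11692 : nd 11692 = n11695 := ndS (p := 9090) (l := 1) rfl N9090 D11695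
theorem N11693 : nd 11693 = n11696 := ndS (p := 9090) (l := 3) rfl N9090 D11696
theorem N11694 : nd 11694 = n11697 := ndS (p := 9090) (l := 5) rfl N9090 D11697
theorem N11695 : nd 11695 = n11698 := ndS (p := 9092) (l := 0) rfl N9092 D11698
theorem N11696 : nd 11696 = n11699 := ndS (p := 9093) (l := 2) rfl N9093 D11699
theorem N11697 : nd 11697 = n11700 := ndS (p := 9094) (l := 1) rfl N9094 D11700
theorem N11698 : nd 11698 = n11701 := ndS (p := 9095) (l := 1) rfl N9095 D11701
theorem N11699 : nd 11699 = n11702 := ndS (p := 9095) (l := 3) rfl N9095 D11702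
theorem N11700 : nd 11700 = n11703 := ndS (p := 9095) (l := 5) rfl N9095 D11703
theorem N11701 : nd 11701 = n11704 := ndS (p := 9097) (l := 0) rfl N9097 D11704
theorem N11702 : nd 11702 = n11705 := ndS (p := 9097) (l := 3) rfl N9097 D11705
theorem N11703 : nd 11703 = n11706 := ndS (p := 9098) (l := 4) rfl N9098 D11706
theorem N11704 : nd 11704 = n11707 := ndS (p := 9100) (l := 2) rfl N9100 D11707
theorem N11705 : nd 11705 = n11708 := ndS (p := 9100) (l := 5) rfl N9100 D11708
theorem N11706 : nd 11706 = n11709 := ndS (p := 9102) (l := 1) rfl N9102 D11709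
theorem N11707 : nd 11707 = n11710 := ndS (p := 9102) (l := 3) rfl N9102 D11710
theorem N11708 : nd 11708 = n11711 := ndS (p := 9102) (l := 5) rfl N9102 D11711
theorem N11709 : nd 11709 = n11712 := ndS (p := 9103) (l := 4) rfl N9103 D11712
theorem N11710 : nd 11710 = n11713 := ndS (p := 9104) (l := 4) rfl N9104 D11713
theorem N11711 : nd 11711 = n11714 := ndS (p := 9106) (l := 3) rfl N9106 D11714
theorem N11712 : nd 11712 = n11715 := ndS (p := 9106) (l := 5) rfl N9106 D11715
theorem N11713 : nd 11713 = n11716 := ndS (p := 9107) (l := 4) rfl N9107 D11716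
theorem N11714 : nd 11714 = n11717 := ndS (p := 9108) (l := 3) rfl N9108 D11717
theorem N11715 : nd 11715 = n11718 := ndS (p := 9108) (l := 5) rfl N9108 D11718
theorem N11716 : nd 11716 = n11719 := ndS (p := 9110) (l := 4) rfl N9110 D11719
theorem N11717 : nd 11717 = n11720 := ndS (p := 9111) (l := 3) rfl N9111 D11720
theorem N11718 : nd 11718 = n11721 := ndS (p := 9113) (l := 2) rfl N9113 D11721
theorem N11719 : nd 11719 = n11722 := ndS (p := 9116) (l := 3) rfl N9116 D11722
theorem N11720 : nd 11720 = n11723 := ndS (p := 9116) (l := 5) rfl N9116 D11723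
theorem N11721 : nd 11721 = n11724 := ndS (p := 9118) (l := 3) rfl N9118 D11724
theorem N11722 : nd 11722 = n11725 := ndS (p := 9118) (l := 5) rfl N9118 D11725
theorem N11723 : nd 11723 = n11726 := ndS (p := 9119) (l := 2) rfl N9119 D11726
theorem N11724 : nd 11724 = n11727 := ndS (p := 9119) (l := 5) rfl N9119 D11727
theorem N11725 : nd 11725 = n11728 := ndS (p := 9121) (l := 4) rfl N9121 D11728
theorem N11726 : nd 11726 = n11729 := ndS (p := 9122) (l := 3) rfl N9122 D11729
theorem N11727 : nd 11727 = n11730 := ndS (p := 9122) (l := 5) rfl N9122 D11730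
theorem N11728 : nd 11728 = n11731 := ndS (p := 9123) (l := 2) rfl N9123 D11731
theorem N11729 : nd 11729 = n11732 := ndS (p := 9123) (l := 5) rfl N9123 D11732
theorem N11730 : nd 11730 = n11733 := ndS (p := 9124) (l := 4) rfl N9124 D11733
theorem N11731 : nd 11731 = n11734 := ndS (p := 9125) (l := 3) rfl N9125 D11734
theorem N11732 : nd 11732 = n11735 := ndS (p := 9126) (l := 1) rfl N9126 D11735
theorem N11733 : nd 11733 = n11736 := ndS (p := 9127) (l := 4) rfl N9127 D11736
theorem N11734 : nd 11734 = n11737 := ndS (p := 9128) (l := 3) rfl N9128 D11737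
theorem N11735 : nd 11735 = n11738 := ndS (p := 9129) (l := 2) rfl N9129 D11738
theorem N11736 : nd 11736 = n11739 := ndS (p := 9130) (l := 3) rfl N9130 D11739
theorem N11737 : nd 11737 = n11740 := ndS (p := 9131) (l := 4) rfl N9131 D11740
theorem N11738 : nd 11738 = n11741 := ndS (p := 9132) (l := 2) rfl N9132 D11741
theorem N11739 : nd 11739 = n11742 := ndS (p := 9134) (l := 3) rfl N9134 D11742
theorem N11740 : nd 11740 = n11743 := ndS (p := 9135) (l := 0) rfl N9135 D11743
theorem N11741 : nd 11741 = n11744 := ndS (p := 9135) (l := 3) rfl N9135 D11744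
theorem N11742 : nd 11742 = n11745 := ndS (p := 9136) (l := 4) rfl N9136 D11745
theorem N11743 : nd 11743 = n11746 := ndS (p := 9137) (l := 3) rfl N9137 D11746
theorem N11744 : nd 11744 = n11747 := ndS (p := 9138) (l := 2) rfl N9138 D11747
theorem N11745 : nd 11745 = n11748 := ndS (p := 9138) (l := 4) rfl N9138 D11748
theorem N11746 : nd 11746 = n11749 := ndS (p := 9139) (l := 1) rfl N9139 D11749
theorem N11747 : nd 11747 = n11750 := ndS (p := 9139) (l := 4) rfl N9139 D11750
theorem N11748 : nd 11748 = n11751 := ndS (p := 9140) (l := 5) rfl N9140 D11751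
theorem N11749 : nd 11749 = n11752 := ndS (p := 9141) (l := 4) rfl N9141 D11752
theorem N11750 : nd 11750 = n11753 := ndS (p := 9142) (l := 3) rfl N9142 D11753
theorem N11751 : nd 11751 = n11754 := ndS (p := 9142) (l := 5) rfl N9142 D11754
theorem N11752 : nd 11752 = n11755 := ndS (p := 9144) (l := 2) rfl N9144 D11755
theorem N11753 : nd 11753 = n11756 := ndS (p := 9145) (l := 2) rfl N9145 D11756
theorem N11754 : nd 11754 = n11757 := ndS (p := 9147) (l := 1) rfl N9147 D11757
theorem N11755 : nd 11755 = n11758 := ndS (p := 9147) (l := 3) rfl N9147 D11758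
theorem N11756 : nd 11756 = n11759 := ndS (p := 9148) (l := 0) rfl N9148 D11759
theorem N11757 : nd 11757 = n11760 := ndS (p := 9149) (l := 4) rfl N9149 D11760
theorem N11758 : nd 11758 = n11761 := ndS (p := 9150) (l := 3) rfl N9150 D11761
theorem N11759 : nd 11759 = n11762 := ndS (p := 9150) (l := 5) rfl N9150 D11762
theorem N11760 : nd 11760 = n11763 := ndS (p := 9151) (l := 3) rfl N9151 D11763
theorem N11761 : nd 11761 = n11764 := ndS (p := 9151) (l := 5) rfl N9151 D11764
theorem N11762 : nd 11762 = n11765 := ndS (p := 9152) (l := 2) rfl N9152 D11765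
theorem N11763 : nd 11763 = n11766 := ndS (p := 9152) (l := 5) rfl N9152 D11766
theorem N11764 : nd 11764 = n11767 := ndS (p := 9154) (l := 1) rfl N9154 D11767
theorem N11765 : nd 11765 = n11768 := ndS (p := 9154) (l := 3) rfl N9154 D11768
theorem N11766 : nd 11766 = n11769 := ndS (p := 9155) (l := 4) rfl N9155 D11769
theorem N11767 : nd 11767 = n11770 := ndS (p := 9156) (l := 3) rfl N9156 D11770
theorem N11768 : nd 11768 = n11771 := ndS (p := 9156) (l := 5) rfl N9156 D11771
theorem N11769 : nd 11769 = n11772 := ndS (p := 9157) (l := 2) rfl N9157 D11772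
theorem N11770 : nd 11770 = n11773 := ndS (p := 9157) (l := 5) rfl N9157 D11773
theorem N11771 : nd 11771 = n11774 := ndS (p := 9159) (l := 1) rfl N9159 D11774
theorem N11772 : nd 11772 = n11775 := ndS (p := 9159) (l := 3) rfl N9159 D11775
theorem N11773 : nd 11773 = n11776 := ndS (p := 9159) (l := 5) rfl N9159 D11776
theorem N11774 : nd 11774 = n11777 := ndS (p := 9160) (l := 4) rfl N9160 D11777
theorem N11775 : nd 11775 = n11778 := ndS (p := 9161) (l := 0) rfl N9161 D11778
theorem N11776 : nd 11776 = n11779 := ndS (p := 9161) (l := 3) rfl N9161 D11779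
theorem N11777 : nd 11777 = n11780 := ndS (p := 9162) (l := 2) rfl N9162 D11780
theorem N11778 : nd 11778 = n11781 := ndS (p := 9162) (l := 4) rfl N9162 D11781
theorem N11779 : nd 11779 = n11782 := ndS (p := 9164) (l := 4) rfl N9164 D11782
theorem N11780 : nd 11780 = n11783 := ndS (p := 9165) (l := 3) rfl N9165 D11783
theorem N11781 : nd 11781 = n11784 := ndS (p := 9165) (l := 5) rfl N9165 D11784
theorem N11782 : nd 11782 = n11785 := ndS (p := 9166) (l := 3) rfl N9166 D11785
theorem N11783 : nd 11783 = n11786 := ndS (p := 9166) (l := 5) rfl N9166 D11786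
theorem N11784 : nd 11784 = n11787 := ndS (p := 9167) (l := 2) rfl N9167 D11787
theorem N11785 : nd 11785 = n11788 := ndS (p := 9167) (l := 5) rfl N9167 D11788
theorem N11786 : nd 11786 = n11789 := ndS (p := 9168) (l := 4) rfl N9168 D11789
theorem N11787 : nd 11787 = n11790 := ndS (p := 9169) (l := 3) rfl N9169 D11790
theorem N11788 : nd 11788 = n11791 := ndS (p := 9170) (l := 2) rfl N9170 D11791
theorem N11789 : nd 11789 = n11792 := ndS (p := 9170) (l := 5) rfl N9170 D11792
theorem N11790 : nd 11790 = n11793 := ndS (p := 9172) (l := 1) rfl N9172 D11793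
theorem N11791 : nd 11791 = n11794 := ndS (p := 9173) (l := 4) rfl N9173 D11794
theorem N11792 : nd 11792 = n11795 := ndS (p := 9174) (l := 3) rfl N9174 D11795
theorem N11793 : nd 11793 = n11796 := ndS (p := 9175) (l := 2) rfl N9175 D11796
theorem N11794 : nd 11794 = n11797 := ndS (p := 9177) (l := 3) rfl N9177 D11797
theorem N11795 : nd 11795 = n11798 := ndS (p := 9177) (l := 5) rfl N9177 D11798
theorem N11796 : nd 11796 = n11799 := ndS (p := 9178) (l := 2) rfl N9178 D11799
theorem N11797 : nd 11797 = n11800 := ndS (p := 9178) (l := 5) rfl N9178 D11800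
theorem N11798 : nd 11798 = n11801 := ndS (p := 9180) (l := 4) rfl N9180 D11801
theorem N11799 : nd 11799 = n11802 := ndS (p := 9181) (l := 3) rfl N9181 D11802
theorem N11800 : nd 11800 = n11803 := ndS (p := 9181) (l := 5) rfl N9181 D11803
theorem N11801 : nd 11801 = n11804 := ndS (p := 9182) (l := 2) rfl N9182 D11804
theorem N11802 : nd 11802 = n11805 := ndS (p := 9182) (l := 5) rfl N9182 D11805
theorem N11803 : nd 11803 = n11806 := ndS (p := 9184) (l := 1) rfl N9184 D11806
theorem N11804 : nd 11804 = n11807 := ndS (p := 9184) (l := 3) rfl N9184 D11807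
theorem N11805 : nd 11805 = n11808 := ndS (p := 9184) (l := 5) rfl N9184 D11808
theorem N11806 : nd 11806 = n11809 := ndS (p := 9185) (l := 4) rfl N9185 D11809
theorem N11807 : nd 11807 = n11810 := ndS (p := 9186) (l := 5) rfl N9186 D11810
theorem N11808 : nd 11808 = n11811 := ndS (p := 9188) (l := 1) rfl N9188 D11811
theorem N11809 : nd 11809 = n11812 := ndS (p := 9188) (l := 3) rfl N9188 D11812
theorem N11810 : nd 11810 = n11813 := ndS (p := 9188) (l := 5) rfl N9188 D11813
theorem N11811 : nd 11811 = n11814 := ndS (p := 9189) (l := 4) rfl N9189 D11814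
theorem N11812 : nd 11812 = n11815 := ndS (p := 9190) (l := 3) rfl N9190 D11815
theorem N11813 : nd 11813 = n11816 := ndS (p := 9191) (l := 2) rfl N9191 D11816
theorem N11814 : nd 11814 = n11817 := ndS (p := 9192) (l := 0) rfl N9192 D11817
theorem N11815 : nd 11815 = n11818 := ndS (p := 9192) (l := 3) rfl N9192 D11818
theorem N11816 : nd 11816 = n11819 := ndS (p := 9192) (l := 5) rfl N9192 D11819
theorem N11817 : nd 11817 = n11820 := ndS (p := 9193) (l := 4) rfl N9193 D11820
theorem N11818 : nd 11818 = n11821 := ndS (p := 9194) (l := 4) rfl N9194 D11821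
theorem N11819 : nd 11819 = n11822 := ndS (p := 9195) (l := 3) rfl N9195 D11822
theorem N11820 : nd 11820 = n11823 := ndS (p := 9196) (l := 2) rfl N9196 D11823
theorem N11821 : nd 11821 = n11824 := ndS (p := 9197) (l := 1) rfl N9197 D11824
theorem N11822 : nd 11822 = n11825 := ndS (p := 9197) (l := 3) rfl N9197 D11825
theorem N11823 : nd 11823 = n11826 := ndS (p := 9198) (l := 3) rfl N9198 D11826
theorem N11824 : nd 11824 = n11827 := ndS (p := 9200) (l := 2) rfl N9200 D11827
theorem N11825 : nd 11825 = n11828 := ndS (p := 9202) (l := 1) rfl N9202 D11828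
theorem N11826 : nd 11826 = n11829 := ndS (p := 9202) (l := 3) rfl N9202 D11829
theorem N11827 : nd 11827 = n11830 := ndS (p := 9202) (l := 5) rfl N9202 D11830
theorem N11828 : nd 11828 = n11831 := ndS (p := 9204) (l := 0) rfl N9204 D11831
theorem N11829 : nd 11829 = n11832 := ndS (p := 9204) (l := 3) rfl N9204 D11832
theorem N11830 : nd 11830 = n11833 := ndS (p := 9205) (l := 2) rfl N9205 D11833
theorem N11831 : nd 11831 = n11834 := ndS (p := 9205) (l := 4) rfl N9205 D11834
theorem N11832 : nd 11832 = n11835 := ndS (p := 9205) (l := 5) rfl N9205 D11835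
theorem N11833 : nd 11833 = n11836 := ndS (p := 9209) (l := 0) rfl N9209 D11836
theorem N11834 : nd 11834 = n11837 := ndS (p := 9211) (l := 1) rfl N9211 D11837
theorem N11835 : nd 11835 = n11838 := ndS (p := 9211) (l := 3) rfl N9211 D11838
theorem N11836 : nd 11836 = n11839 := ndS (p := 9212) (l := 0) rfl N9212 D11839
theorem N11837 : nd 11837 = n11840 := ndS (p := 9212) (l := 3) rfl N9212 D11840
theorem N11838 : nd 11838 = n11841 := ndS (p := 9213) (l := 2) rfl N9213 D11841
theorem N11839 : nd 11839 = n11842 := ndS (p := 9215) (l := 1) rfl N9215 D11842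
theorem N11840 : nd 11840 = n11843 := ndS (p := 9215) (l := 3) rfl N9215 D11843
theorem N11841 : nd 11841 = n11844 := ndS (p := 9215) (l := 5) rfl N9215 D11844
theorem N11842 : nd 11842 = n11845 := ndS (p := 9216) (l := 4) rfl N9216 D11845
theorem N11843 : nd 11843 = n11846 := ndS (p := 9217) (l := 0) rfl N9217 D11846
theorem N11844 : nd 11844 = n11847 := ndS (p := 9217) (l := 3) rfl N9217 D11847
theorem N11845 : nd 11845 = n11848 := ndS (p := 9217) (l := 5) rfl N9217 D11848
theorem N11846 : nd 11846 = n11849 := ndS (p := 9218) (l := 4) rfl N9218 D11849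
theorem N11847 : nd 11847 = n11850 := ndS (p := 9219) (l := 4) rfl N9219 D11850
theorem N11848 : nd 11848 = n11851 := ndS (p := 9221) (l := 0) rfl N9221 D11851
theorem N11849 : nd 11849 = n11852 := ndS (p := 9223) (l := 3) rfl N9223 D11852
theorem N11850 : nd 11850 = n11853 := ndS (p := 9223) (l := 5) rfl N9223 D11853
theorem N11851 : nd 11851 = n11854 := ndS (p := 9224) (l := 2) rfl N9224 D11854
theorem N11852 : nd 11852 = n11855 := ndS (p := 9224) (l := 4) rfl N9224 D11855
theorem N11853 : nd 11853 = n11856 := ndS (p := 9225) (l := 4) rfl N9225 D11856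
theorem N11854 : nd 11854 = n11857 := ndS (p := 9226) (l := 5) rfl N9226 D11857
theorem N11855 : nd 11855 = n11858 := ndS (p := 9227) (l := 3) rfl N9227 D11858
theorem N11856 : nd 11856 = n11859 := ndS (p := 9228) (l := 2) rfl N9228 D11859
theorem N11857 : nd 11857 = n11860 := ndS (p := 9229) (l := 1) rfl N9229 D11860
theorem N11858 : nd 11858 = n11861 := ndS (p := 9230) (l := 0) rfl N9230 D11861
theorem N11859 : nd 11859 = n11862 := ndS (p := 9230) (l := 3) rfl N9230 D11862
theorem N11860 : nd 11860 = n11863 := ndS (p := 9231) (l := 4) rfl N9231 D11863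
theorem N11861 : nd 11861 = n11864 := ndS (p := 9232) (l := 4) rfl N9232 D11864
theorem N11862 : nd 11862 = n11865 := ndS (p := 9233) (l := 3) rfl N9233 D11865
theorem N11863 : nd 11863 = n11866 := ndS (p := 9234) (l := 2) rfl N9234 D11866
theorem N11864 : nd 11864 = n11867 := ndS (p := 9234) (l := 4) rfl N9234 D11867
theorem N11865 : nd 11865 = n11868 := ndS (p := 9235) (l := 1) rfl N9235 D11868
theorem N11866 : nd 11866 = n11869 := ndS (p := 9235) (l := 4) rfl N9235 D11869
theorem N11867 : nd 11867 = n11870 := ndS (p := 9236) (l := 5) rfl N9236 D11870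
theorem N11868 : nd 11868 = n11871 := ndS (p := 9237) (l := 2) rfl N9237 D11871
theorem N11869 : nd 11869 = n11872 := ndS (p := 9237) (l := 4) rfl N9237 D11872
theorem N11870 : nd 11870 = n11873 := ndS (p := 9238) (l := 4) rfl N9238 D11873
theorem N11871 : nd 11871 = n11874 := ndS (p := 9239) (l := 5) rfl N9239 D11874
theorem N11872 : nd 11872 = n11875 := ndS (p := 9241) (l := 1) rfl N9241 D11875
theorem N11873 : nd 11873 = n11876 := ndS (p := 9241) (l := 4) rfl N9241 D11876
theorem N11874 : nd 11874 = n11877 := ndS (p := 9242) (l := 5) rfl N9242 D11877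
theorem N11875 : nd 11875 = n11878 := ndS (p := 9243) (l := 4) rfl N9243 D11878
theorem N11876 : nd 11876 = n11879 := ndS (p := 9244) (l := 1) rfl N9244 D11879
theorem N11877 : nd 11877 = n11880 := ndS (p := 9244) (l := 3) rfl N9244 D11880
theorem N11878 : nd 11878 = n11881 := ndS (p := 9244) (l := 4) rfl N9244 D11881
theorem N11879 : nd 11879 = n11882 := ndS (p := 9246) (l := 2) rfl N9246 D11882
theorem N11880 : nd 11880 = n11883 := ndS (p := 9246) (l := 4) rfl N9246 D11883
theorem N11881 : nd 11881 = n11884 := ndS (p := 9247) (l := 3) rfl N9247 D11884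
theorem N11882 : nd 11882 = n11885 := ndS (p := 9248) (l := 5) rfl N9248 D11885
theorem N11883 : nd 11883 = n11886 := ndS (p := 9249) (l := 4) rfl N9249 D11886
theorem N11884 : nd 11884 = n11887 := ndS (p := 9250) (l := 3) rfl N9250 D11887
theorem N11885 : nd 11885 = n11888 := ndS (p := 9251) (l := 2) rfl N9251 D11888
theorem N11886 : nd 11886 = n11889 := ndS (p := 9252) (l := 1) rfl N9252 D11889
theorem N11887 : nd 11887 = n11890 := ndS (p := 9252) (l := 3) rfl N9252 D11890
theorem N11888 : nd 11888 = n11891 := ndS (p := 9253) (l := 0) rfl N9253 D11891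
theorem N11889 : nd 11889 = n11892 := ndS (p := 9253) (l := 3) rfl N9253 D11892
theorem N11890 : nd 11890 = n11893 := ndS (p := 9254) (l := 4) rfl N9254 D11893
theorem N11891 : nd 11891 = n11894 := ndS (p := 9255) (l := 2) rfl N9255 D11894
theorem N11892 : nd 11892 = n11895 := ndS (p := 9255) (l := 5) rfl N9255 D11895
theorem N11893 : nd 11893 = n11896 := ndS (p := 9257) (l := 1) rfl N9257 D11896
theorem N11894 : nd 11894 = n11897 := ndS (p := 9257) (l := 3) rfl N9257 D11897
theorem N11895 : nd 11895 = n11898 := ndS (p := 9257) (l := 5) rfl N9257 D11898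
theorem N11896 : nd 11896 = n11899 := ndS (p := 9258) (l := 4) rfl N9258 D11899
theorem N11897 : nd 11897 = n11900 := ndS (p := 9259) (l := 0) rfl N9259 D11900
theorem N11898 : nd 11898 = n11901 := ndS (p := 9261) (l := 0) rfl N9261 D11901
theorem N11899 : nd 11899 = n11902 := ndS (p := 9263) (l := 4) rfl N9263 D11902
theorem N11900 : nd 11900 = n11903 := ndS (p := 9264) (l := 5) rfl N9264 D11903
theorem N11901 : nd 11901 = n11904 := ndS (p := 9266) (l := 3) rfl N9266 D11904
theorem N11902 : nd 11902 = n11905 := ndS (p := 9267) (l := 4) rfl N9267 D11905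
theorem N11903 : nd 11903 = n11906 := ndS (p := 9268) (l := 4) rfl N9268 D11906
theorem N11904 : nd 11904 = n11907 := ndS (p := 9269) (l := 3) rfl N9269 D11907
theorem N11905 : nd 11905 = n11908 := ndS (p := 9269) (l := 5) rfl N9269 D11908
theorem N11906 : nd 11906 = n11909 := ndS (p := 9270) (l := 2) rfl N9270 D11909
theorem N11907 : nd 11907 = n11910 := ndS (p := 9270) (l := 5) rfl N9270 D11910
theorem N11908 : nd 11908 = n11911 := ndS (p := 9272) (l := 5) rfl N9272 D11911
theorem N11909 : nd 11909 = n11912 := ndS (p := 9273) (l := 2) rfl N9273 D11912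
theorem N11910 : nd 11910 = n11913 := ndS (p := 9274) (l := 3) rfl N9274 D11913
theorem N11911 : nd 11911 = n11914 := ndS (p := 9274) (l := 5) rfl N9274 D11914
theorem N11912 : nd 11912 = n11915 := ndS (p := 9275) (l := 2) rfl N9275 D11915
theorem N11913 : nd 11913 = n11916 := ndS (p := 9275) (l := 5) rfl N9275 D11916
theorem N11914 : nd 11914 = n11917 := ndS (p := 9277) (l := 3) rfl N9277 D11917
theorem N11915 : nd 11915 = n11918 := ndS (p := 9279) (l := 1) rfl N9279 D11918
theorem N11916 : nd 11916 = n11919 := ndS (p := 9280) (l := 1) rfl N9280 D11919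
theorem N11917 : nd 11917 = n11920 := ndS (p := 9282) (l := 0) rfl N9282 D11920
theorem N11918 : nd 11918 = n11921 := ndS (p := 9282) (l := 3) rfl N9282 D11921
theorem N11919 : nd 11919 = n11922 := ndS (p := 9283) (l := 4) rfl N9283 D11922
theorem N11920 : nd 11920 = n11923 := ndS (p := 9284) (l := 3) rfl N9284 D11923
theorem N11921 : nd 11921 = n11924 := ndS (p := 9284) (l := 5) rfl N9284 D11924
theorem N11922 : nd 11922 = n11925 := ndS (p := 9285) (l := 2) rfl N9285 D11925
theorem N11923 : nd 11923 = n11926 := ndS (p := 9285) (l := 5) rfl N9285 D11926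
theorem N11924 : nd 11924 = n11927 := ndS (p := 9287) (l := 1) rfl N9287 D11927
theorem N11925 : nd 11925 = n11928 := ndS (p := 9287) (l := 3) rfl N9287 D11928
theorem N11926 : nd 11926 = n11929 := ndS (p := 9287) (l := 5) rfl N9287 D11929
theorem N11927 : nd 11927 = n11930 := ndS (p := 9288) (l := 4) rfl N9288 D11930
theorem N11928 : nd 11928 = n11931 := ndS (p := 9289) (l := 0) rfl N9289 D11931
theorem N11929 : nd 11929 = n11932 := ndS (p := 9289) (l := 3) rfl N9289 D11932
theorem N11930 : nd 11930 = n11933 := ndS (p := 9289) (l := 5) rfl N9289 D11933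
theorem N11931 : nd 11931 = n11934 := ndS (p := 9290) (l := 2) rfl N9290 D11934
theorem N11932 : nd 11932 = n11935 := ndS (p := 9290) (l := 5) rfl N9290 D11935
theorem N11933 : nd 11933 = n11936 := ndS (p := 9295) (l := 4) rfl N9295 D11936
theorem N11934 : nd 11934 = n11937 := ndS (p := 9296) (l := 5) rfl N9296 D11937
theorem N11935 : nd 11935 = n11938 := ndS (p := 9297) (l := 3) rfl N9297 D11938
theorem N11936 : nd 11936 = n11939 := ndS (p := 9297) (l := 5) rfl N9297 D11939
theorem N11937 : nd 11937 = n11940 := ndS (p := 9298) (l := 2) rfl N9298 D11940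
theorem N11938 : nd 11938 = n11941 := ndS (p := 9299) (l := 2) rfl N9299 D11941
theorem N11939 : nd 11939 = n11942 := ndS (p := 9299) (l := 5) rfl N9299 D11942
theorem N11940 : nd 11940 = n11943 := ndS (p := 9301) (l := 1) rfl N9301 D11943
theorem N11941 : nd 11941 = n11944 := ndS (p := 9302) (l := 3) rfl N9302 D11944
theorem N11942 : nd 11942 = n11945 := ndS (p := 9302) (l := 5) rfl N9302 D11945
theorem N11943 : nd 11943 = n11946 := ndS (p := 9303) (l := 2) rfl N9303 D11946
theorem N11944 : nd 11944 = n11947 := ndS (p := 9303) (l := 5) rfl N9303 D11947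
theorem N11945 : nd 11945 = n11948 := ndS (p := 9305) (l := 1) rfl N9305 D11948
theorem N11946 : nd 11946 = n11949 := ndS (p := 9305) (l := 3) rfl N9305 D11949
theorem N11947 : nd 11947 = n11950 := ndS (p := 9305) (l := 5) rfl N9305 D11950
theorem N11948 : nd 11948 = n11951 := ndS (p := 9307) (l := 0) rfl N9307 D11951
theorem N11949 : nd 11949 = n11952 := ndS (p := 9309) (l := 2) rfl N9309 D11952
theorem N11950 : nd 11950 = n11953 := ndS (p := 9310) (l := 3) rfl N9310 D11953
theorem N11951 : nd 11951 = n11954 := ndS (p := 9310) (l := 4) rfl N9310 D11954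
theorem N11952 : nd 11952 = n11955 := ndS (p := 9311) (l := 5) rfl N9311 D11955
theorem N11953 : nd 11953 = n11956 := ndS (p := 9313) (l := 2) rfl N9313 D11956
theorem N11954 : nd 11954 = n11957 := ndS (p := 9313) (l := 5) rfl N9313 D11957
theorem N11955 : nd 11955 = n11958 := ndS (p := 9315) (l := 1) rfl N9315 D11958
theorem N11956 : nd 11956 = n11959 := ndS (p := 9315) (l := 3) rfl N9315 D11959
theorem N11957 : nd 11957 = n11960 := ndS (p := 9316) (l := 1) rfl N9316 D11960
theorem N11958 : nd 11958 = n11961 := ndS (p := 9316) (l := 3) rfl N9316 D11961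
theorem N11959 : nd 11959 = n11962 := ndS (p := 9316) (l := 5) rfl N9316 D11962
theorem N11960 : nd 11960 = n11963 := ndS (p := 9318) (l := 0) rfl N9318 D11963
theorem N11961 : nd 11961 = n11964 := ndS (p := 9319) (l := 2) rfl N9319 D11964
theorem N11962 : nd 11962 = n11965 := ndS (p := 9319) (l := 5) rfl N9319 D11965
theorem N11963 : nd 11963 = n11966 := ndS (p := 9321) (l := 1) rfl N9321 D11966
theorem N11964 : nd 11964 = n11968 := ndS (p := 9321) (l := 5) rfl N9321 D11968
theorem N11965 : nd 11965 = n11969 := ndS (p := 9322) (l := 4) rfl N9322 D11969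
theorem N11966 : nd 11966 = n11970 := ndS (p := 9323) (l := 0) rfl N9323 D11970
theorem N11967 : nd 11967 = n11971 := ndS (p := 9323) (l := 3) rfl N9323 D11971
theorem N11968 : nd 11968 = n11972 := ndS (p := 9323) (l := 5) rfl N9323 D11972
theorem N11969 : nd 11969 = n11973 := ndS (p := 9324) (l := 2) rfl N9324 D11973
theorem N11970 : nd 11970 = n11974 := ndS (p := 9324) (l := 5) rfl N9324 D11974
theorem N11971 : nd 11971 = n11975 := ndS (p := 9327) (l := 1) rfl N9327 D11975
theorem N11972 : nd 11972 = n11976 := ndS (p := 9327) (l := 3) rfl N9327 D11976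
theorem N11973 : nd 11973 = n11977 := ndS (p := 9327) (l := 5) rfl N9327 D11977
theorem N11974 : nd 11974 = n11978 := ndS (p := 9328) (l := 4) rfl N9328 D11978
theorem N11975 : nd 11975 = n11979 := ndS (p := 9329) (l := 0) rfl N9329 D11979
theorem N11976 : nd 11976 = n11980 := ndS (p := 9331) (l := 0) rfl N9331 D11980
theorem N11977 : nd 11977 = n11981 := ndS (p := 9333) (l := 3) rfl N9333 D11981
theorem N11978 : nd 11978 = n11982 := ndS (p := 9333) (l := 5) rfl N9333 D11982
theorem N11979 : nd 11979 = n11983 := ndS (p := 9334) (l := 2) rfl N9334 D11983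
theorem N11980 : nd 11980 = n11984 := ndS (p := 9334) (l := 4) rfl N9334 D11984
theorem N11981 : nd 11981 = n11985 := ndS (p := 9335) (l := 4) rfl N9335 D11985
theorem N11982 : nd 11982 = n11986 := ndS (p := 9340) (l := 1) rfl N9340 D11986
theorem N11983 : nd 11983 = n11987 := ndS (p := 9340) (l := 3) rfl N9340 D11987
theorem N11984 : nd 11984 = n11988 := ndS (p := 9340) (l := 5) rfl N9340 D11988
theorem N11985 : nd 11985 = n11989 := ndS (p := 9341) (l := 4) rfl N9341 D11989
theorem N11986 : nd 11986 = n11990 := ndS (p := 9342) (l := 3) rfl N9342 D11990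
theorem N11987 : nd 11987 = n11991 := ndS (p := 9343) (l := 2) rfl N9343 D11991
theorem N11988 : nd 11988 = n11992 := ndS (p := 9343) (l := 5) rfl N9343 D11992
theorem N11989 : nd 11989 = n11993 := ndS (p := 9348) (l := 2) rfl N9348 D11993
theorem N11990 : nd 11990 = n11994 := ndS (p := 9350) (l := 3) rfl N9350 D11994
theorem N11991 : nd 11991 = n11995 := ndS (p := 9350) (l := 4) rfl N9350 D11995
theorem N11992 : nd 11992 = n11996 := ndS (p := 9353) (l := 0) rfl N9353 D11996
theorem N11993 : nd 11993 = n11997 := ndS (p := 9355) (l := 1) rfl N9355 D11997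
theorem N11994 : nd 11994 = n11998 := ndS (p := 9355) (l := 3) rfl N9355 D11998
theorem N11995 : nd 11995 = n11999 := ndS (p := 9355) (l := 5) rfl N9355 D11999
theorem N11996 : nd 11996 = n12000 := ndS (p := 9356) (l := 4) rfl N9356 D12000
theorem N11997 : nd 11997 = n12001 := ndS (p := 9357) (l := 0) rfl N9357 D12001
theorem N11998 : nd 11998 = n12002 := ndS (p := 9357) (l := 3) rfl N9357 D12002
theorem N11999 : nd 11999 = n12003 := ndS (p := 9357) (l := 5) rfl N9357 D12003
theorem N12000 : nd 12000 = n12004 := ndS (p := 9358) (l := 2) rfl N9358 D12004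
theorem N12001 : nd 12001 = n12005 := ndS (p := 9358) (l := 4) rfl N9358 D12005
theorem N12002 : nd 12002 = n12006 := ndS (p := 9358) (l := 5) rfl N9358 D12006
theorem N12003 : nd 12003 = n12007 := ndS (p := 9359) (l := 4) rfl N9359 D12007
theorem N12004 : nd 12004 = n12008 := ndS (p := 9361) (l := 3) rfl N9361 D12008
theorem N12005 : nd 12005 = n12009 := ndS (p := 9361) (l := 5) rfl N9361 D12009
theorem N12006 : nd 12006 = n12010 := ndS (p := 9362) (l := 2) rfl N9362 D12010
theorem N12007 : nd 12007 = n12011 := ndS (p := 9362) (l := 4) rfl N9362 D12011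
theorem N12008 : nd 12008 = n12012 := ndS (p := 9363) (l := 4) rfl N9363 D12012
theorem N12009 : nd 12009 = n12013 := ndS (p := 9364) (l := 5) rfl N9364 D12013
theorem N12010 : nd 12010 = n12014 := ndS (p := 9365) (l := 3) rfl N9365 D12014
theorem N12011 : nd 12011 = n12015 := ndS (p := 9367) (l := 3) rfl N9367 D12015
theorem N12012 : nd 12012 = n12016 := ndS (p := 9367) (l := 5) rfl N9367 D12016
theorem N12013 : nd 12013 = n12017 := ndS (p := 9369) (l := 4) rfl N9369 D12017
theorem N12014 : nd 12014 = n12018 := ndS (p := 9371) (l := 3) rfl N9371 D12018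
theorem N12015 : nd 12015 = n12019 := ndS (p := 9371) (l := 5) rfl N9371 D12019
theorem N12016 : nd 12016 = n12020 := ndS (p := 9372) (l := 2) rfl N9372 D12020
theorem N12017 : nd 12017 = n12021 := ndS (p := 9372) (l := 5) rfl N9372 D12021
theorem N12018 : nd 12018 = n12022 := ndS (p := 9374) (l := 1) rfl N9374 D12022
theorem N12019 : nd 12019 = n12023 := ndS (p := 9374) (l := 4) rfl N9374 D12023
theorem N12020 : nd 12020 = n12024 := ndS (p := 9375) (l := 5) rfl N9375 D12024
theorem N12021 : nd 12021 = n12025 := ndS (p := 9376) (l := 4) rfl N9376 D12025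
theorem N12022 : nd 12022 = n12026 := ndS (p := 9377) (l := 3) rfl N9377 D12026
theorem N12023 : nd 12023 = n12027 := ndS (p := 9378) (l := 2) rfl N9378 D12027
theorem N12024 : nd 12024 = n12028 := ndS (p := 9380) (l := 3) rfl N9380 D12028
theorem N12025 : nd 12025 = n12029 := ndS (p := 9381) (l := 3) rfl N9381 D12029
theorem N12026 : nd 12026 = n12030 := ndS (p := 9381) (l := 5) rfl N9381 D12030
theorem N12027 : nd 12027 = n12031 := ndS (p := 9382) (l := 2) rfl N9382 D12031
theorem N12028 : nd 12028 = n12032 := ndS (p := 9382) (l := 4) rfl N9382 D12032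
theorem N12029 : nd 12029 = n12033 := ndS (p := 9383) (l := 4) rfl N9383 D12033
theorem N12030 : nd 12030 = n12034 := ndS (p := 9384) (l := 5) rfl N9384 D12034
theorem N12031 : nd 12031 = n12035 := ndS (p := 9385) (l := 3) rfl N9385 D12035
theorem N12032 : nd 12032 = n12036 := ndS (p := 9386) (l := 2) rfl N9386 D12036
theorem N12033 : nd 12033 = n12037 := ndS (p := 9386) (l := 4) rfl N9386 D12037
theorem N12034 : nd 12034 = n12038 := ndS (p := 9386) (l := 5) rfl N9386 D12038
theorem N12035 : nd 12035 = n12039 := ndS (p := 9387) (l := 4) rfl N9387 D12039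
theorem N12036 : nd 12036 = n12040 := ndS (p := 9388) (l := 1) rfl N9388 D12040
theorem N12037 : nd 12037 = n12041 := ndS (p := 9388) (l := 3) rfl N9388 D12041
theorem N12038 : nd 12038 = n12042 := ndS (p := 9388) (l := 4) rfl N9388 D12042
theorem N12039 : nd 12039 = n12043 := ndS (p := 9388) (l := 5) rfl N9388 D12043
theorem N12040 : nd 12040 = n12044 := ndS (p := 9391) (l := 3) rfl N9391 D12044
theorem N12041 : nd 12041 = n12045 := ndS (p := 9392) (l := 4) rfl N9392 D12045
theorem N12042 : nd 12042 = n12046 := ndS (p := 9393) (l := 3) rfl N9393 D12046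
theorem N12043 : nd 12043 = n12047 := ndS (p := 9395) (l := 3) rfl N9395 D12047
theorem N12044 : nd 12044 = n12048 := ndS (p := 9396) (l := 2) rfl N9396 D12048
theorem N12045 : nd 12045 = n12049 := ndS (p := 9397) (l := 1) rfl N9397 D12049
theorem N12046 : nd 12046 = n12050 := ndS (p := 9397) (l := 3) rfl N9397 D12050
theorem N12047 : nd 12047 = n12051 := ndS (p := 9397) (l := 4) rfl N9397 D12051
theorem N12048 : nd 12048 = n12052 := ndS (p := 9400) (l := 2) rfl N9400 D12052
theorem N12049 : nd 12049 = n12053 := ndS (p := 9400) (l := 4) rfl N9400 D12053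
theorem N12050 : nd 12050 = n12054 := ndS (p := 9401) (l := 3) rfl N9401 D12054
theorem N12051 : nd 12051 = n12055 := ndS (p := 9402) (l := 1) rfl N9402 D12055
theorem N12052 : nd 12052 = n12056 := ndS (p := 9402) (l := 3) rfl N9402 D12056
theorem N12053 : nd 12053 = n12057 := ndS (p := 9403) (l := 2) rfl N9403 D12057
theorem N12054 : nd 12054 = n12058 := ndS (p := 9403) (l := 4) rfl N9403 D12058
theorem N12055 : nd 12055 = n12059 := ndS (p := 9404) (l := 2) rfl N9404 D12059
theorem N12056 : nd 12056 = n12060 := ndS (p := 9404) (l := 5) rfl N9404 D12060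
theorem N12057 : nd 12057 = n12061 := ndS (p := 9406) (l := 1) rfl N9406 D12061
theorem N12058 : nd 12058 = n12062 := ndS (p := 9407) (l := 4) rfl N9407 D12062
theorem N12059 : nd 12059 = n12063 := ndS (p := 9408) (l := 1) rfl N9408 D12063
theorem N12060 : nd 12060 = n12064 := ndS (p := 9408) (l := 3) rfl N9408 D12064
theorem N12061 : nd 12061 = n12065 := ndS (p := 9408) (l := 5) rfl N9408 D12065
theorem N12062 : nd 12062 = n12066 := ndS (p := 9409) (l := 4) rfl N9409 D12066
theorem N12063 : nd 12063 = n12067 := ndS (p := 9410) (l := 0) rfl N9410 D12067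
theorem N12064 : nd 12064 = n12068 := ndS (p := 9410) (l := 3) rfl N9410 D12068
theorem N12065 : nd 12065 = n12069 := ndS (p := 9410) (l := 5) rfl N9410 D12069
theorem N12066 : nd 12066 = n12070 := ndS (p := 9411) (l := 2) rfl N9411 D12070
theorem N12067 : nd 12067 = n12071 := ndS (p := 9411) (l := 4) rfl N9411 D12071
theorem N12068 : nd 12068 = n12072 := ndS (p := 9411) (l := 5) rfl N9411 D12072
theorem N12069 : nd 12069 = n12073 := ndS (p := 9412) (l := 4) rfl N9412 D12073
theorem N12070 : nd 12070 = n12074 := ndS (p := 9414) (l := 3) rfl N9414 D12074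
theorem N12071 : nd 12071 = n12075 := ndS (p := 9414) (l := 5) rfl N9414 D12075
theorem N12072 : nd 12072 = n12076 := ndS (p := 9415) (l := 2) rfl N9415 D12076
theorem N12073 : nd 12073 = n12077 := ndS (p := 9415) (l := 4) rfl N9415 D12077
theorem N12074 : nd 12074 = n12078 := ndS (p := 9416) (l := 4) rfl N9416 D12078
theorem N12075 : nd 12075 = n12079 := ndS (p := 9419) (l := 3) rfl N9419 D12079
theorem N12076 : nd 12076 = n12080 := ndS (p := 9419) (l := 5) rfl N9419 D12080
theorem N12077 : nd 12077 = n12081 := ndS (p := 9420) (l := 2) rfl N9420 D12081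
theorem N12078 : nd 12078 = n12082 := ndS (p := 9420) (l := 4) rfl N9420 D12082
theorem N12079 : nd 12079 = n12083 := ndS (p := 9421) (l := 4) rfl N9421 D12083
theorem N12080 : nd 12080 = n12084 := ndS (p := 9425) (l := 1) rfl N9425 D12084
theorem N12081 : nd 12081 = n12085 := ndS (p := 9425) (l := 3) rfl N9425 D12085
theorem N12082 : nd 12082 = n12086 := ndS (p := 9425) (l := 5) rfl N9425 D12086
theorem N12083 : nd 12083 = n12087 := ndS (p := 9426) (l := 4) rfl N9426 D12087
theorem N12084 : nd 12084 = n12088 := ndS (p := 9427) (l := 1) rfl N9427 D12088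
theorem N12085 : nd 12085 = n12089 := ndS (p := 9427) (l := 3) rfl N9427 D12089
theorem N12086 : nd 12086 = n12090 := ndS (p := 9427) (l := 5) rfl N9427 D12090
theorem N12087 : nd 12087 = n12091 := ndS (p := 9428) (l := 4) rfl N9428 D12091
theorem N12088 : nd 12088 = n12092 := ndS (p := 9429) (l := 0) rfl N9429 D12092
theorem N12089 : nd 12089 = n12093 := ndS (p := 9431) (l := 1) rfl N9431 D12093
theorem N12090 : nd 12090 = n12094 := ndS (p := 9431) (l := 3) rfl N9431 D12094
theorem N12091 : nd 12091 = n12095 := ndS (p := 9431) (l := 5) rfl N9431 D12095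
theorem N12092 : nd 12092 = n12096 := ndS (p := 9432) (l := 4) rfl N9432 D12096
theorem N12093 : nd 12093 = n12097 := ndS (p := 9433) (l := 0) rfl N9433 D12097
theorem N12094 : nd 12094 = n12098 := ndS (p := 9433) (l := 3) rfl N9433 D12098
theorem N12095 : nd 12095 = n12099 := ndS (p := 9433) (l := 5) rfl N9433 D12099
theorem N12096 : nd 12096 = n12100 := ndS (p := 9434) (l := 2) rfl N9434 D12100
theorem N12097 : nd 12097 = n12101 := ndS (p := 9434) (l := 4) rfl N9434 D12101
theorem N12098 : nd 12098 = n12102 := ndS (p := 9434) (l := 5) rfl N9434 D12102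
theorem N12099 : nd 12099 = n12103 := ndS (p := 9435) (l := 4) rfl N9435 D12103
theorem N12100 : nd 12100 = n12104 := ndS (p := 9437) (l := 3) rfl N9437 D12104
theorem N12101 : nd 12101 = n12105 := ndS (p := 9437) (l := 5) rfl N9437 D12105
theorem N12102 : nd 12102 = n12106 := ndS (p := 9438) (l := 2) rfl N9438 D12106
theorem N12103 : nd 12103 = n12107 := ndS (p := 9438) (l := 4) rfl N9438 D12107
theorem N12104 : nd 12104 = n12108 := ndS (p := 9439) (l := 4) rfl N9439 D12108
theorem N12105 : nd 12105 = n12109 := ndS (p := 9440) (l := 5) rfl N9440 D12109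
theorem N12106 : nd 12106 = n12110 := ndS (p := 9441) (l := 3) rfl N9441 D12110
theorem N12107 : nd 12107 = n12111 := ndS (p := 9442) (l := 1) rfl N9442 D12111
theorem N12108 : nd 12108 = n12112 := ndS (p := 9442) (l := 3) rfl N9442 D12112
theorem N12109 : nd 12109 = n12113 := ndS (p := 9442) (l := 5) rfl N9442 D12113
theorem N12110 : nd 12110 = n12114 := ndS (p := 9443) (l := 4) rfl N9443 D12114
theorem N12111 : nd 12111 = n12115 := ndS (p := 9444) (l := 0) rfl N9444 D12115
theorem N12112 : nd 12112 = n12116 := ndS (p := 9446) (l := 0) rfl N9446 D12116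
theorem N12113 : nd 12113 = n12117 := ndS (p := 9446) (l := 3) rfl N9446 D12117
theorem N12114 : nd 12114 = n12118 := ndS (p := 9446) (l := 5) rfl N9446 D12118
theorem N12115 : nd 12115 = n12119 := ndS (p := 9447) (l := 4) rfl N9447 D12119
theorem N12116 : nd 12116 = n12120 := ndS (p := 9448) (l := 4) rfl N9448 D12120
theorem N12117 : nd 12117 = n12121 := ndS (p := 9450) (l := 3) rfl N9450 D12121
theorem N12118 : nd 12118 = n12122 := ndS (p := 9450) (l := 5) rfl N9450 D12122
theorem N12119 : nd 12119 = n12123 := ndS (p := 9451) (l := 2) rfl N9451 D12123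
theorem N12120 : nd 12120 = n12124 := ndS (p := 9451) (l := 4) rfl N9451 D12124
theorem N12121 : nd 12121 = n12125 := ndS (p := 9452) (l := 4) rfl N9452 D12125
theorem N12122 : nd 12122 = n12126 := ndS (p := 9453) (l := 5) rfl N9453 D12126
theorem N12123 : nd 12123 = n12127 := ndS (p := 9454) (l := 3) rfl N9454 D12127
theorem N12124 : nd 12124 = n12128 := ndS (p := 9455) (l := 1) rfl N9455 D12128
theorem N12125 : nd 12125 = n12129 := ndS (p := 9455) (l := 3) rfl N9455 D12129
theorem N12126 : nd 12126 = n12130 := ndS (p := 9455) (l := 5) rfl N9455 D12130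
theorem N12127 : nd 12127 = n12131 := ndS (p := 9456) (l := 4) rfl N9456 D12131
theorem N12128 : nd 12128 = n12132 := ndS (p := 9457) (l := 3) rfl N9457 D12132
theorem N12129 : nd 12129 = n12133 := ndS (p := 9457) (l := 5) rfl N9457 D12133
theorem N12130 : nd 12130 = n12134 := ndS (p := 9458) (l := 4) rfl N9458 D12134
theorem N12131 : nd 12131 = n12135 := ndS (p := 9459) (l := 2) rfl N9459 D12135
theorem N12132 : nd 12132 = n12136 := ndS (p := 9459) (l := 4) rfl N9459 D12136
theorem N12133 : nd 12133 = n12137 := ndS (p := 9460) (l := 4) rfl N9460 D12137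
theorem N12134 : nd 12134 = n12138 := ndS (p := 9464) (l := 0) rfl N9464 D12138
theorem N12135 : nd 12135 = n12139 := ndS (p := 9464) (l := 3) rfl N9464 D12139
theorem N12136 : nd 12136 = n12140 := ndS (p := 9464) (l := 5) rfl N9464 D12140
theorem N12137 : nd 12137 = n12141 := ndS (p := 9465) (l := 4) rfl N9465 D12141
theorem N12138 : nd 12138 = n12142 := ndS (p := 9466) (l := 4) rfl N9466 D12142
theorem N12139 : nd 12139 = n12143 := ndS (p := 9468) (l := 0) rfl N9468 D12143
theorem N12140 : nd 12140 = n12144 := ndS (p := 9468) (l := 3) rfl N9468 D12144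
theorem N12141 : nd 12141 = n12145 := ndS (p := 9468) (l := 5) rfl N9468 D12145
theorem N12142 : nd 12142 = n12146 := ndS (p := 9469) (l := 4) rfl N9469 D12146
theorem N12143 : nd 12143 = n12147 := ndS (p := 9470) (l := 4) rfl N9470 D12147
theorem N12144 : nd 12144 = n12148 := ndS (p := 9472) (l := 3) rfl N9472 D12148
theorem N12145 : nd 12145 = n12149 := ndS (p := 9472) (l := 5) rfl N9472 D12149
theorem N12146 : nd 12146 = n12150 := ndS (p := 9473) (l := 2) rfl N9473 D12150
theorem N12147 : nd 12147 = n12151 := ndS (p := 9473) (l := 4) rfl N9473 D12151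
theorem N12148 : nd 12148 = n12152 := ndS (p := 9473) (l := 5) rfl N9473 D12152
theorem N12149 : nd 12149 = n12153 := ndS (p := 9474) (l := 4) rfl N9474 D12153
theorem N12150 : nd 12150 = n12154 := ndS (p := 9475) (l := 1) rfl N9475 D12154
theorem N12151 : nd 12151 = n12155 := ndS (p := 9475) (l := 4) rfl N9475 D12155
theorem N12152 : nd 12152 = n12156 := ndS (p := 9476) (l := 5) rfl N9476 D12156
theorem N12153 : nd 12153 = n12157 := ndS (p := 9477) (l := 4) rfl N9477 D12157
theorem N12154 : nd 12154 = n12158 := ndS (p := 9478) (l := 3) rfl N9478 D12158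
theorem N12155 : nd 12155 = n12159 := ndS (p := 9479) (l := 1) rfl N9479 D12159
theorem N12156 : nd 12156 = n12160 := ndS (p := 9479) (l := 3) rfl N9479 D12160
theorem N12157 : nd 12157 = n12161 := ndS (p := 9479) (l := 5) rfl N9479 D12161
theorem N12158 : nd 12158 = n12162 := ndS (p := 9480) (l := 4) rfl N9480 D12162
theorem N12159 : nd 12159 = n12163 := ndS (p := 9481) (l := 0) rfl N9481 D12163
theorem N12160 : nd 12160 = n12164 := ndS (p := 9481) (l := 3) rfl N9481 D12164
theorem N12161 : nd 12161 = n12165 := ndS (p := 9481) (l := 5) rfl N9481 D12165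
theorem N12162 : nd 12162 = n12166 := ndS (p := 9482) (l := 4) rfl N9482 D12166
theorem N12163 : nd 12163 = n12167 := ndS (p := 9483) (l := 4) rfl N9483 D12167
theorem N12164 : nd 12164 = n12168 := ndS (p := 9485) (l := 5) rfl N9485 D12168
theorem N12165 : nd 12165 = n12169 := ndS (p := 9486) (l := 2) rfl N9486 D12169
theorem N12166 : nd 12166 = n12170 := ndS (p := 9486) (l := 5) rfl N9486 D12170
theorem N12167 : nd 12167 = n12171 := ndS (p := 9487) (l := 4) rfl N9487 D12171
theorem N12168 : nd 12168 = n12172 := ndS (p := 9488) (l := 1) rfl N9488 D12172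
theorem N12169 : nd 12169 = n12173 := ndS (p := 9489) (l := 4) rfl N9489 D12173
theorem N12170 : nd 12170 = n12174 := ndS (p := 9490) (l := 3) rfl N9490 D12174
theorem N12171 : nd 12171 = n12175 := ndS (p := 9491) (l := 4) rfl N9491 D12175
theorem N12172 : nd 12172 = n12176 := ndS (p := 9492) (l := 3) rfl N9492 D12176
theorem N12173 : nd 12173 = n12177 := ndS (p := 9494) (l := 2) rfl N9494 D12177
theorem N12174 : nd 12174 = n12178 := ndS (p := 9494) (l := 4) rfl N9494 D12178
theorem N12175 : nd 12175 = n12179 := ndS (p := 9496) (l := 5) rfl N9496 D12179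
theorem N12176 : nd 12176 = n12180 := ndS (p := 9497) (l := 0) rfl N9497 D12180
theorem N12177 : nd 12177 = n12181 := ndS (p := 9497) (l := 4) rfl N9497 D12181
theorem N12178 : nd 12178 = n12182 := ndS (p := 9498) (l := 3) rfl N9498 D12182
theorem N12179 : nd 12179 = n12183 := ndS (p := 9498) (l := 5) rfl N9498 D12183
theorem N12180 : nd 12180 = n12184 := ndS (p := 9499) (l := 4) rfl N9499 D12184
theorem N12181 : nd 12181 = n12185 := ndS (p := 9501) (l := 2) rfl N9501 D12185
theorem N12182 : nd 12182 = n12186 := ndS (p := 9502) (l := 3) rfl N9502 D12186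
theorem N12183 : nd 12183 = n12187 := ndS (p := 9503) (l := 2) rfl N9503 D12187
theorem N12184 : nd 12184 = n12188 := ndS (p := 9503) (l := 4) rfl N9503 D12188
theorem N12185 : nd 12185 = n12189 := ndS (p := 9504) (l := 5) rfl N9504 D12189
theorem N12186 : nd 12186 = n12190 := ndS (p := 9505) (l := 0) rfl N9505 D12190
theorem N12187 : nd 12187 = n12191 := ndS (p := 9505) (l := 4) rfl N9505 D12191
theorem N12188 : nd 12188 = n12192 := ndS (p := 9506) (l := 3) rfl N9506 D12192
theorem N12189 : nd 12189 = n12193 := ndS (p := 9506) (l := 5) rfl N9506 D12193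
theorem N12190 : nd 12190 = n12194 := ndS (p := 9508) (l := 5) rfl N9508 D12194
theorem N12191 : nd 12191 = n12195 := ndS (p := 9509) (l := 3) rfl N9509 D12195
theorem N12192 : nd 12192 = n12196 := ndS (p := 9509) (l := 5) rfl N9509 D12196
theorem N12193 : nd 12193 = n12197 := ndS (p := 9511) (l := 1) rfl N9511 D12197
theorem N12194 : nd 12194 = n12198 := ndS (p := 9511) (l := 3) rfl N9511 D12198
theorem N12195 : nd 12195 = n12199 := ndS (p := 9511) (l := 5) rfl N9511 D12199
theorem N12196 : nd 12196 = n12200 := ndS (p := 9512) (l := 4) rfl N9512 D12200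
theorem N12197 : nd 12197 = n12201 := ndS (p := 9513) (l := 1) rfl N9513 D12201
theorem N12198 : nd 12198 = n12202 := ndS (p := 9513) (l := 3) rfl N9513 D12202
theorem N12199 : nd 12199 = n12203 := ndS (p := 9513) (l := 5) rfl N9513 D12203
theorem N12200 : nd 12200 = n12204 := ndS (p := 9514) (l := 4) rfl N9514 D12204
theorem N12201 : nd 12201 = n12205 := ndS (p := 9515) (l := 0) rfl N9515 D12205
theorem N12202 : nd 12202 = n12206 := ndS (p := 9517) (l := 3) rfl N9517 D12206
theorem N12203 : nd 12203 = n12207 := ndS (p := 9518) (l := 2) rfl N9518 D12207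
theorem N12204 : nd 12204 = n12208 := ndS (p := 9518) (l := 4) rfl N9518 D12208
theorem N12205 : nd 12205 = n12209 := ndS (p := 9519) (l := 5) rfl N9519 D12209
theorem N12206 : nd 12206 = n12210 := ndS (p := 9520) (l := 1) rfl N9520 D12210
theorem N12207 : nd 12207 = n12211 := ndS (p := 9520) (l := 3) rfl N9520 D12211
theorem N12208 : nd 12208 = n12212 := ndS (p := 9520) (l := 5) rfl N9520 D12212
theorem N12209 : nd 12209 = n12213 := ndS (p := 9521) (l := 4) rfl N9521 D12213
theorem N12210 : nd 12210 = n12214 := ndS (p := 9522) (l := 0) rfl N9522 D12214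
theorem N12211 : nd 12211 = n12215 := ndS (p := 9522) (l := 3) rfl N9522 D12215
theorem N12212 : nd 12212 = n12216 := ndS (p := 9523) (l := 2) rfl N9523 D12216
theorem N12213 : nd 12213 = n12217 := ndS (p := 9523) (l := 4) rfl N9523 D12217
theorem N12214 : nd 12214 = n12218 := ndS (p := 9523) (l := 5) rfl N9523 D12218
theorem N12215 : nd 12215 = n12219 := ndS (p := 9524) (l := 4) rfl N9524 D12219
theorem N12216 : nd 12216 = n12220 := ndS (p := 9526) (l := 3) rfl N9526 D12220
theorem N12217 : nd 12217 = n12221 := ndS (p := 9526) (l := 5) rfl N9526 D12221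
theorem N12218 : nd 12218 = n12222 := ndS (p := 9527) (l := 2) rfl N9527 D12222
theorem N12219 : nd 12219 = n12223 := ndS (p := 9527) (l := 4) rfl N9527 D12223
theorem N12220 : nd 12220 = n12224 := ndS (p := 9528) (l := 4) rfl N9528 D12224
theorem N12221 : nd 12221 = n12225 := ndS (p := 9529) (l := 5) rfl N9529 D12225
theorem N12222 : nd 12222 = n12226 := ndS (p := 9530) (l := 3) rfl N9530 D12226
theorem N12223 : nd 12223 = n12227 := ndS (p := 9531) (l := 4) rfl N9531 D12227
theorem N12224 : nd 12224 = n12228 := ndS (p := 9532) (l := 4) rfl N9532 D12228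
theorem N12225 : nd 12225 = n12229 := ndS (p := 9533) (l := 5) rfl N9533 D12229
theorem N12226 : nd 12226 = n12230 := ndS (p := 9535) (l := 1) rfl N9535 D12230
theorem N12227 : nd 12227 = n12231 := ndS (p := 9535) (l := 3) rfl N9535 D12231
theorem N12228 : nd 12228 = n12232 := ndS (p := 9535) (l := 5) rfl N9535 D12232
theorem N12229 : nd 12229 = n12233 := ndS (p := 9536) (l := 4) rfl N9536 D12233
theorem N12230 : nd 12230 = n12234 := ndS (p := 9537) (l := 0) rfl N9537 D12234
theorem N12231 : nd 12231 = n12235 := ndS (p := 9537) (l := 3) rfl N9537 D12235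
theorem N12232 : nd 12232 = n12236 := ndS (p := 9538) (l := 2) rfl N9538 D12236
theorem N12233 : nd 12233 = n12237 := ndS (p := 9538) (l := 4) rfl N9538 D12237
theorem N12234 : nd 12234 = n12238 := ndS (p := 9538) (l := 5) rfl N9538 D12238
theorem N12235 : nd 12235 = n12239 := ndS (p := 9539) (l := 4) rfl N9539 D12239
theorem N12236 : nd 12236 = n12240 := ndS (p := 9540) (l := 3) rfl N9540 D12240
theorem N12237 : nd 12237 = n12241 := ndS (p := 9541) (l := 2) rfl N9541 D12241
theorem N12238 : nd 12238 = n12242 := ndS (p := 9542) (l := 1) rfl N9542 D12242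
theorem N12239 : nd 12239 = n12243 := ndS (p := 9542) (l := 3) rfl N9542 D12243
theorem N12240 : nd 12240 = n12244 := ndS (p := 9544) (l := 2) rfl N9544 D12244
theorem N12241 : nd 12241 = n12245 := ndS (p := 9545) (l := 1) rfl N9545 D12245
theorem N12242 : nd 12242 = n12246 := ndS (p := 9546) (l := 0) rfl N9546 D12246
theorem N12243 : nd 12243 = n12247 := ndS (p := 9546) (l := 3) rfl N9546 D12247
theorem N12244 : nd 12244 = n12248 := ndS (p := 9547) (l := 4) rfl N9547 D12248
theorem N12245 : nd 12245 = n12249 := ndS (p := 9548) (l := 3) rfl N9548 D12249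
theorem N12246 : nd 12246 = n12250 := ndS (p := 9549) (l := 4) rfl N9549 D12250
theorem N12247 : nd 12247 = n12251 := ndS (p := 9550) (l := 3) rfl N9550 D12251
theorem N12248 : nd 12248 = n12252 := ndS (p := 9551) (l := 2) rfl N9551 D12252
theorem N12249 : nd 12249 = n12253 := ndS (p := 9552) (l := 1) rfl N9552 D12253
theorem N12250 : nd 12250 = n12254 := ndS (p := 9553) (l := 0) rfl N9553 D12254
theorem N12251 : nd 12251 = n12255 := ndS (p := 9553) (l := 5) rfl N9553 D12255
theorem N12252 : nd 12252 = n12256 := ndS (p := 9554) (l := 4) rfl N9554 D12256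
theorem N12253 : nd 12253 = n12257 := ndS (p := 9556) (l := 0) rfl N9556 D12257
theorem N12254 : nd 12254 = n12258 := ndS (p := 9556) (l := 3) rfl N9556 D12258
theorem N12255 : nd 12255 = n12259 := ndS (p := 9556) (l := 5) rfl N9556 D12259
theorem N12256 : nd 12256 = n12260 := ndS (p := 9557) (l := 4) rfl N9557 D12260
theorem N12257 : nd 12257 = n12261 := ndS (p := 9560) (l := 3) rfl N9560 D12261
theorem N12258 : nd 12258 = n12262 := ndS (p := 9560) (l := 5) rfl N9560 D12262
theorem N12259 : nd 12259 = n12263 := ndS (p := 9561) (l := 2) rfl N9561 D12263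
theorem N12260 : nd 12260 = n12264 := ndS (p := 9561) (l := 4) rfl N9561 D12264
theorem N12261 : nd 12261 = n12265 := ndS (p := 9561) (l := 5) rfl N9561 D12265
theorem N12262 : nd 12262 = n12266 := ndS (p := 9562) (l := 4) rfl N9562 D12266
theorem N12263 : nd 12263 = n12267 := ndS (p := 9563) (l := 5) rfl N9563 D12267
theorem N12264 : nd 12264 = n12268 := ndS (p := 9566) (l := 3) rfl N9566 D12268
theorem N12265 : nd 12265 = n12269 := ndS (p := 9566) (l := 5) rfl N9566 D12269
theorem N12266 : nd 12266 = n12270 := ndS (p := 9567) (l := 2) rfl N9567 D12270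
theorem N12267 : nd 12267 = n12271 := ndS (p := 9567) (l := 4) rfl N9567 D12271
theorem N12268 : nd 12268 = n12272 := ndS (p := 9568) (l := 4) rfl N9568 D12272
theorem N12269 : nd 12269 = n12273 := ndS (p := 9571) (l := 2) rfl N9571 D12273
theorem N12270 : nd 12270 = n12274 := ndS (p := 9572) (l := 1) rfl N9572 D12274
theorem N12271 : nd 12271 = n12275 := ndS (p := 9573) (l := 0) rfl N9573 D12275
theorem N12272 : nd 12272 = n12276 := ndS (p := 9573) (l := 3) rfl N9573 D12276
theorem N12273 : nd 12273 = n12277 := ndS (p := 9574) (l := 4) rfl N9574 D12277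
theorem N12274 : nd 12274 = n12278 := ndS (p := 9575) (l := 2) rfl N9575 D12278
theorem N12275 : nd 12275 = n12279 := ndS (p := 9575) (l := 4) rfl N9575 D12279
theorem N12276 : nd 12276 = n12280 := ndS (p := 9576) (l := 4) rfl N9576 D12280
theorem N12277 : nd 12277 = n12281 := ndS (p := 9577) (l := 3) rfl N9577 D12281
theorem N12278 : nd 12278 = n12282 := ndS (p := 9577) (l := 4) rfl N9577 D12282
theorem N12279 : nd 12279 = n12283 := ndS (p := 9580) (l := 1) rfl N9580 D12283
theorem N12280 : nd 12280 = n12284 := ndS (p := 9580) (l := 3) rfl N9580 D12284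
theorem N12281 : nd 12281 = n12285 := ndS (p := 9581) (l := 0) rfl N9581 D12285
theorem N12282 : nd 12282 = n12286 := ndS (p := 9582) (l := 3) rfl N9582 D12286
theorem N12283 : nd 12283 = n12287 := ndS (p := 9583) (l := 2) rfl N9583 D12287
theorem N12284 : nd 12284 = n12288 := ndS (p := 9583) (l := 4) rfl N9583 D12288
theorem N12285 : nd 12285 = n12289 := ndS (p := 9584) (l := 5) rfl N9584 D12289
theorem N12286 : nd 12286 = n12290 := ndS (p := 9585) (l := 5) rfl N9585 D12290
theorem N12287 : nd 12287 = n12291 := ndS (p := 9586) (l := 4) rfl N9586 D12291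
theorem N12288 : nd 12288 = n12292 := ndS (p := 9587) (l := 1) rfl N9587 D12292
theorem N12289 : nd 12289 = n12293 := ndS (p := 9587) (l := 4) rfl N9587 D12293
theorem N12290 : nd 12290 = n12294 := ndS (p := 9588) (l := 5) rfl N9588 D12294
theorem N12291 : nd 12291 = n12295 := ndS (p := 9589) (l := 0) rfl N9589 D12295
theorem N12292 : nd 12292 = n12296 := ndS (p := 9589) (l := 4) rfl N9589 D12296
theorem N12293 : nd 12293 = n12297 := ndS (p := 9592) (l := 1) rfl N9592 D12297
theorem N12294 : nd 12294 = n12298 := ndS (p := 9592) (l := 4) rfl N9592 D12298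
theorem N12295 : nd 12295 = n12299 := ndS (p := 9593) (l := 5) rfl N9593 D12299
theorem N12296 : nd 12296 = n12300 := ndS (p := 9595) (l := 3) rfl N9595 D12300
theorem N12297 : nd 12297 = n12301 := ndS (p := 9595) (l := 5) rfl N9595 D12301
theorem N12298 : nd 12298 = n12302 := ndS (p := 9597) (l := 2) rfl N9597 D12302
theorem N12299 : nd 12299 = n12303 := ndS (p := 9598) (l := 0) rfl N9598 D12303
theorem N12300 : nd 12300 = n12304 := ndS (p := 9598) (l := 4) rfl N9598 D12304
theorem N12301 : nd 12301 = n12305 := ndS (p := 9601) (l := 3) rfl N9601 D12305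
theorem N12302 : nd 12302 = n12306 := ndS (p := 9602) (l := 4) rfl N9602 D12306
theorem N12303 : nd 12303 = n12307 := ndS (p := 9603) (l := 1) rfl N9603 D12307
theorem N12304 : nd 12304 = n12308 := ndS (p := 9603) (l := 4) rfl N9603 D12308
theorem N12305 : nd 12305 = n12309 := ndS (p := 9604) (l := 5) rfl N9604 D12309
theorem N12306 : nd 12306 = n12310 := ndS (p := 9605) (l := 1) rfl N9605 D12310
theorem N12307 : nd 12307 = n12311 := ndS (p := 9605) (l := 3) rfl N9605 D12311
theorem N12308 : nd 12308 = n12312 := ndS (p := 9605) (l := 5) rfl N9605 D12312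
theorem N12309 : nd 12309 = n12313 := ndS (p := 9606) (l := 4) rfl N9606 D12313
theorem N12310 : nd 12310 = n12314 := ndS (p := 9607) (l := 0) rfl N9607 D12314
theorem N12311 : nd 12311 = n12315 := ndS (p := 9607) (l := 3) rfl N9607 D12315
theorem N12312 : nd 12312 = n12316 := ndS (p := 9607) (l := 5) rfl N9607 D12316
theorem N12313 : nd 12313 = n12317 := ndS (p := 9608) (l := 2) rfl N9608 D12317
theorem N12314 : nd 12314 = n12318 := ndS (p := 9608) (l := 4) rfl N9608 D12318
theorem N12315 : nd 12315 = n12319 := ndS (p := 9608) (l := 5) rfl N9608 D12319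
theorem N12316 : nd 12316 = n12320 := ndS (p := 9609) (l := 4) rfl N9609 D12320
theorem N12317 : nd 12317 = n12321 := ndS (p := 9612) (l := 4) rfl N9612 D12321
theorem N12318 : nd 12318 = n12322 := ndS (p := 9613) (l := 5) rfl N9613 D12322
theorem N12319 : nd 12319 = n12323 := ndS (p := 9614) (l := 3) rfl N9614 D12323
theorem N12320 : nd 12320 = n12324 := ndS (p := 9615) (l := 5) rfl N9615 D12324
theorem N12321 : nd 12321 = n12325 := ndS (p := 9616) (l := 5) rfl N9616 D12325
theorem N12322 : nd 12322 = n12326 := ndS (p := 9618) (l := 1) rfl N9618 D12326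
theorem N12323 : nd 12323 = n12327 := ndS (p := 9619) (l := 4) rfl N9619 D12327
theorem N12324 : nd 12324 = n12328 := ndS (p := 9620) (l := 1) rfl N9620 D12328
theorem N12325 : nd 12325 = n12329 := ndS (p := 9620) (l := 3) rfl N9620 D12329
theorem N12326 : nd 12326 = n12330 := ndS (p := 9620) (l := 4) rfl N9620 D12330
theorem N12327 : nd 12327 = n12331 := ndS (p := 9621) (l := 5) rfl N9621 D12331
theorem N12328 : nd 12328 = n12332 := ndS (p := 9622) (l := 4) rfl N9622 D12332
theorem N12329 : nd 12329 = n12333 := ndS (p := 9623) (l := 3) rfl N9623 D12333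
theorem N12330 : nd 12330 = n12334 := ndS (p := 9623) (l := 5) rfl N9623 D12334
theorem N12331 : nd 12331 = n12335 := ndS (p := 9625) (l := 1) rfl N9625 D12335
theorem N12332 : nd 12332 = n12336 := ndS (p := 9625) (l := 3) rfl N9625 D12336
theorem N12333 : nd 12333 = n12337 := ndS (p := 9625) (l := 5) rfl N9625 D12337
theorem N12334 : nd 12334 = n12338 := ndS (p := 9626) (l := 4) rfl N9626 D12338
theorem N12335 : nd 12335 = n12339 := ndS (p := 9627) (l := 0) rfl N9627 D12339
theorem N12336 : nd 12336 = n12340 := ndS (p := 9627) (l := 3) rfl N9627 D12340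
theorem N12337 : nd 12337 = n12341 := ndS (p := 9627) (l := 5) rfl N9627 D12341
theorem N12338 : nd 12338 = n12342 := ndS (p := 9628) (l := 2) rfl N9628 D12342
theorem N12339 : nd 12339 = n12343 := ndS (p := 9628) (l := 4) rfl N9628 D12343
theorem N12340 : nd 12340 = n12344 := ndS (p := 9628) (l := 5) rfl N9628 D12344
theorem N12341 : nd 12341 = n12345 := ndS (p := 9629) (l := 4) rfl N9629 D12345
theorem N12342 : nd 12342 = n12346 := ndS (p := 9631) (l := 3) rfl N9631 D12346
theorem N12343 : nd 12343 = n12347 := ndS (p := 9631) (l := 5) rfl N9631 D12347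
theorem N12344 : nd 12344 = n12348 := ndS (p := 9632) (l := 2) rfl N9632 D12348
theorem N12345 : nd 12345 = n12349 := ndS (p := 9632) (l := 4) rfl N9632 D12349
theorem N12346 : nd 12346 = n12350 := ndS (p := 9633) (l := 4) rfl N9633 D12350
theorem N12347 : nd 12347 = n12351 := ndS (p := 9634) (l := 5) rfl N9634 D12351
theorem N12348 : nd 12348 = n12352 := ndS (p := 9635) (l := 3) rfl N9635 D12352
theorem N12349 : nd 12349 = n12353 := ndS (p := 9636) (l := 2) rfl N9636 D12353
theorem N12350 : nd 12350 = n12354 := ndS (p := 9636) (l := 5) rfl N9636 D12354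
theorem N12351 : nd 12351 = n12355 := ndS (p := 9637) (l := 4) rfl N9637 D12355
theorem N12352 : nd 12352 = n12356 := ndS (p := 9638) (l := 1) rfl N9638 D12356
theorem N12353 : nd 12353 = n12357 := ndS (p := 9638) (l := 3) rfl N9638 D12357
theorem N12354 : nd 12354 = n12358 := ndS (p := 9638) (l := 4) rfl N9638 D12358
theorem N12355 : nd 12355 = n12359 := ndS (p := 9638) (l := 5) rfl N9638 D12359
theorem N12356 : nd 12356 = n12360 := ndS (p := 9639) (l := 5) rfl N9639 D12360
theorem N12357 : nd 12357 = n12361 := ndS (p := 9640) (l := 4) rfl N9640 D12361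
theorem N12358 : nd 12358 = n12362 := ndS (p := 9641) (l := 3) rfl N9641 D12362
theorem N12359 : nd 12359 = n12363 := ndS (p := 9642) (l := 0) rfl N9642 D12363
theorem N12360 : nd 12360 = n12364 := ndS (p := 9642) (l := 4) rfl N9642 D12364
theorem N12361 : nd 12361 = n12365 := ndS (p := 9644) (l := 4) rfl N9644 D12365
theorem N12362 : nd 12362 = n12366 := ndS (p := 9645) (l := 3) rfl N9645 D12366
theorem N12363 : nd 12363 = n12367 := ndS (p := 9646) (l := 2) rfl N9646 D12367
theorem N12364 : nd 12364 = n12368 := ndS (p := 9647) (l := 3) rfl N9647 D12368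
theorem N12365 : nd 12365 = n12369 := ndS (p := 9647) (l := 4) rfl N9647 D12369
theorem N12366 : nd 12366 = n12370 := ndS (p := 9648) (l := 5) rfl N9648 D12370
theorem N12367 : nd 12367 = n12371 := ndS (p := 9649) (l := 3) rfl N9649 D12371
theorem N12368 : nd 12368 = n12372 := ndS (p := 9650) (l := 2) rfl N9650 D12372
theorem N12369 : nd 12369 = n12373 := ndS (p := 9650) (l := 4) rfl N9650 D12373
theorem N12370 : nd 12370 = n12374 := ndS (p := 9651) (l := 3) rfl N9651 D12374
theorem N12371 : nd 12371 = n12375 := ndS (p := 9653) (l := 2) rfl N9653 D12375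
theorem N12372 : nd 12372 = n12376 := ndS (p := 9654) (l := 1) rfl N9654 D12376
theorem N12373 : nd 12373 = n12377 := ndS (p := 9654) (l := 3) rfl N9654 D12377
theorem N12374 : nd 12374 = n12378 := ndS (p := 9655) (l := 0) rfl N9655 D12378
theorem N12375 : nd 12375 = n12379 := ndS (p := 9655) (l := 4) rfl N9655 D12379
theorem N12376 : nd 12376 = n12380 := ndS (p := 9656) (l := 5) rfl N9656 D12380
theorem N12377 : nd 12377 = n12381 := ndS (p := 9658) (l := 3) rfl N9658 D12381
theorem N12378 : nd 12378 = n12382 := ndS (p := 9658) (l := 4) rfl N9658 D12382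
theorem N12379 : nd 12379 = n12383 := ndS (p := 9659) (l := 2) rfl N9659 D12383
theorem N12380 : nd 12380 = n12384 := ndS (p := 9660) (l := 3) rfl N9660 D12384
theorem N12381 : nd 12381 = n12385 := ndS (p := 9660) (l := 5) rfl N9660 D12385
theorem N12382 : nd 12382 = n12386 := ndS (p := 9663) (l := 5) rfl N9663 D12386
theorem N12383 : nd 12383 = n12387 := ndS (p := 9664) (l := 2) rfl N9664 D12387
theorem N12384 : nd 12384 = n12388 := ndS (p := 9664) (l := 5) rfl N9664 D12388
theorem N12385 : nd 12385 = n12389 := ndS (p := 9666) (l := 1) rfl N9666 D12389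
theorem N12386 : nd 12386 = n12390 := ndS (p := 9666) (l := 3) rfl N9666 D12390
theorem N12387 : nd 12387 = n12391 := ndS (p := 9666) (l := 5) rfl N9666 D12391
theorem N12388 : nd 12388 = n12392 := ndS (p := 9667) (l := 4) rfl N9667 D12392
theorem N12389 : nd 12389 = n12393 := ndS (p := 9668) (l := 2) rfl N9668 D12393
theorem N12390 : nd 12390 = n12394 := ndS (p := 9668) (l := 4) rfl N9668 D12394
theorem N12391 : nd 12391 = n12395 := ndS (p := 9670) (l := 0) rfl N9670 D12395
theorem N12392 : nd 12392 = n12396 := ndS (p := 9670) (l := 4) rfl N9670 D12396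
theorem N12393 : nd 12393 = n12397 := ndS (p := 9671) (l := 3) rfl N9671 D12397
theorem N12394 : nd 12394 = n12398 := ndS (p := 9673) (l := 3) rfl N9673 D12398
theorem N12395 : nd 12395 = n12399 := ndS (p := 9673) (l := 4) rfl N9673 D12399
theorem N12396 : nd 12396 = n12400 := ndS (p := 9674) (l := 5) rfl N9674 D12400
theorem N12397 : nd 12397 = n12401 := ndS (p := 9676) (l := 4) rfl N9676 D12401
theorem N12398 : nd 12398 = n12402 := ndS (p := 9677) (l := 3) rfl N9677 D12402
theorem N12399 : nd 12399 = n12403 := ndS (p := 9677) (l := 5) rfl N9677 D12403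
theorem N12400 : nd 12400 = n12404 := ndS (p := 9678) (l := 2) rfl N9678 D12404
theorem N12401 : nd 12401 = n12405 := ndS (p := 9678) (l := 5) rfl N9678 D12405
theorem N12402 : nd 12402 = n12406 := ndS (p := 9680) (l := 1) rfl N9680 D12406
theorem N12403 : nd 12403 = n12407 := ndS (p := 9680) (l := 3) rfl N9680 D12407
theorem N12404 : nd 12404 = n12408 := ndS (p := 9680) (l := 5) rfl N9680 D12408
theorem N12405 : nd 12405 = n12409 := ndS (p := 9681) (l := 4) rfl N9681 D12409
theorem N12406 : nd 12406 = n12410 := ndS (p := 9682) (l := 0) rfl N9682 D12410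
theorem N12407 : nd 12407 = n12411 := ndS (p := 9682) (l := 3) rfl N9682 D12411
theorem N12408 : nd 12408 = n12412 := ndS (p := 9683) (l := 2) rfl N9683 D12412
theorem N12409 : nd 12409 = n12413 := ndS (p := 9683) (l := 4) rfl N9683 D12413
theorem N12410 : nd 12410 = n12414 := ndS (p := 9683) (l := 5) rfl N9683 D12414
theorem N12411 : nd 12411 = n12415 := ndS (p := 9684) (l := 4) rfl N9684 D12415
theorem N12412 : nd 12412 = n12416 := ndS (p := 9686) (l := 0) rfl N9686 D12416
theorem N12413 : nd 12413 = n12417 := ndS (p := 9686) (l := 3) rfl N9686 D12417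
theorem N12414 : nd 12414 = n12418 := ndS (p := 9686) (l := 5) rfl N9686 D12418
theorem N12415 : nd 12415 = n12419 := ndS (p := 9687) (l := 2) rfl N9687 D12419
theorem N12416 : nd 12416 = n12420 := ndS (p := 9687) (l := 5) rfl N9687 D12420
theorem N12417 : nd 12417 = n12421 := ndS (p := 9691) (l := 0) rfl N9691 D12421
theorem N12418 : nd 12418 = n12423 := ndS (p := 9691) (l := 5) rfl N9691 D12423
theorem N12419 : nd 12419 = n12424 := ndS (p := 9692) (l := 4) rfl N9692 D12424
theorem N12420 : nd 12420 = n12425 := ndS (p := 9693) (l := 4) rfl N9693 D12425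
theorem N12421 : nd 12421 = n12426 := ndS (p := 9695) (l := 3) rfl N9695 D12426
theorem N12422 : nd 12422 = n12427 := ndS (p := 9695) (l := 5) rfl N9695 D12427
theorem N12423 : nd 12423 = n12428 := ndS (p := 9696) (l := 2) rfl N9696 D12428
theorem N12424 : nd 12424 = n12429 := ndS (p := 9696) (l := 4) rfl N9696 D12429
theorem N12425 : nd 12425 = n12430 := ndS (p := 9696) (l := 5) rfl N9696 D12430
theorem N12426 : nd 12426 = n12431 := ndS (p := 9697) (l := 4) rfl N9697 D12431
theorem N12427 : nd 12427 = n12432 := ndS (p := 9698) (l := 1) rfl N9698 D12432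
theorem N12428 : nd 12428 = n12433 := ndS (p := 9698) (l := 4) rfl N9698 D12433
theorem N12429 : nd 12429 = n12434 := ndS (p := 9699) (l := 5) rfl N9699 D12434
theorem N12430 : nd 12430 = n12435 := ndS (p := 9700) (l := 4) rfl N9700 D12435
theorem N12431 : nd 12431 = n12436 := ndS (p := 9701) (l := 3) rfl N9701 D12436
theorem N12432 : nd 12432 = n12437 := ndS (p := 9702) (l := 2) rfl N9702 D12437
theorem N12433 : nd 12433 = n12438 := ndS (p := 9702) (l := 4) rfl N9702 D12438
theorem N12434 : nd 12434 = n12439 := ndS (p := 9703) (l := 4) rfl N9703 D12439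
theorem N12435 : nd 12435 = n12440 := ndS (p := 9704) (l := 3) rfl N9704 D12440
theorem N12436 : nd 12436 = n12441 := ndS (p := 9704) (l := 4) rfl N9704 D12441
theorem N12437 : nd 12437 = n12442 := ndS (p := 9705) (l := 5) rfl N9705 D12442
theorem N12438 : nd 12438 = n12443 := ndS (p := 9706) (l := 3) rfl N9706 D12443
theorem N12439 : nd 12439 = n12444 := ndS (p := 9708) (l := 2) rfl N9708 D12444
theorem N12440 : nd 12440 = n12445 := ndS (p := 9709) (l := 0) rfl N9709 D12445
theorem N12441 : nd 12441 = n12446 := ndS (p := 9709) (l := 3) rfl N9709 D12446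
theorem N12442 : nd 12442 = n12447 := ndS (p := 9710) (l := 4) rfl N9710 D12447
theorem N12443 : nd 12443 = n12448 := ndS (p := 9711) (l := 4) rfl N9711 D12448
theorem N12444 : nd 12444 = n12449 := ndS (p := 9714) (l := 3) rfl N9714 D12449
theorem N12445 : nd 12445 = n12450 := ndS (p := 9714) (l := 5) rfl N9714 D12450
theorem N12446 : nd 12446 = n12451 := ndS (p := 9715) (l := 2) rfl N9715 D12451
theorem N12447 : nd 12447 = n12452 := ndS (p := 9715) (l := 4) rfl N9715 D12452
theorem N12448 : nd 12448 = n12453 := ndS (p := 9716) (l := 4) rfl N9716 D12453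
theorem N12449 : nd 12449 = n12454 := ndS (p := 9719) (l := 2) rfl N9719 D12454
theorem N12450 : nd 12450 = n12455 := ndS (p := 9719) (l := 4) rfl N9719 D12455
theorem N12451 : nd 12451 = n12456 := ndS (p := 9720) (l := 4) rfl N9720 D12456
theorem N12452 : nd 12452 = n12457 := ndS (p := 9721) (l := 3) rfl N9721 D12457
theorem N12453 : nd 12453 = n12458 := ndS (p := 9721) (l := 4) rfl N9721 D12458
theorem N12454 : nd 12454 = n12459 := ndS (p := 9725) (l := 4) rfl N9725 D12459
theorem N12455 : nd 12455 = n12460 := ndS (p := 9728) (l := 4) rfl N9728 D12460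
theorem N12456 : nd 12456 = n12461 := ndS (p := 9729) (l := 5) rfl N9729 D12461
theorem N12457 : nd 12457 = n12462 := ndS (p := 9730) (l := 4) rfl N9730 D12462
theorem N12458 : nd 12458 = n12463 := ndS (p := 9731) (l := 3) rfl N9731 D12463
theorem N12459 : nd 12459 = n12464 := ndS (p := 9732) (l := 3) rfl N9732 D12464
theorem N12460 : nd 12460 = n12465 := ndS (p := 9732) (l := 5) rfl N9732 D12465
theorem N12461 : nd 12461 = n12466 := ndS (p := 9733) (l := 2) rfl N9733 D12466
theorem N12462 : nd 12462 = n12467 := ndS (p := 9733) (l := 5) rfl N9733 D12467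
theorem N12463 : nd 12463 = n12468 := ndS (p := 9734) (l := 4) rfl N9734 D12468
theorem N12464 : nd 12464 = n12469 := ndS (p := 9736) (l := 3) rfl N9736 D12469
theorem N12465 : nd 12465 = n12470 := ndS (p := 9737) (l := 0) rfl N9737 D12470
theorem N12466 : nd 12466 = n12471 := ndS (p := 9737) (l := 3) rfl N9737 D12471
theorem N12467 : nd 12467 = n12472 := ndS (p := 9737) (l := 5) rfl N9737 D12472
theorem N12468 : nd 12468 = n12473 := ndS (p := 9741) (l := 3) rfl N9741 D12473
theorem N12469 : nd 12469 = n12474 := ndS (p := 9741) (l := 5) rfl N9741 D12474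
theorem N12470 : nd 12470 = n12475 := ndS (p := 9742) (l := 2) rfl N9742 D12475
theorem N12471 : nd 12471 = n12476 := ndS (p := 9742) (l := 4) rfl N9742 D12476
theorem N12472 : nd 12472 = n12477 := ndS (p := 9742) (l := 5) rfl N9742 D12477
theorem N12473 : nd 12473 = n12478 := ndS (p := 9743) (l := 4) rfl N9743 D12478
theorem N12474 : nd 12474 = n12479 := ndS (p := 9744) (l := 1) rfl N9744 D12479
theorem N12475 : nd 12475 = n12480 := ndS (p := 9744) (l := 4) rfl N9744 D12480
theorem N12476 : nd 12476 = n12481 := ndS (p := 9745) (l := 5) rfl N9745 D12481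
theorem N12477 : nd 12477 = n12482 := ndS (p := 9746) (l := 4) rfl N9746 D12482
theorem N12478 : nd 12478 = n12483 := ndS (p := 9747) (l := 3) rfl N9747 D12483
theorem N12479 : nd 12479 = n12484 := ndS (p := 9748) (l := 4) rfl N9748 D12484
theorem N12480 : nd 12480 = n12485 := ndS (p := 9749) (l := 4) rfl N9749 D12485
theorem N12481 : nd 12481 = n12486 := ndS (p := 9750) (l := 4) rfl N9750 D12486
theorem N12482 : nd 12482 = n12487 := ndS (p := 9751) (l := 5) rfl N9751 D12487
theorem N12483 : nd 12483 = n12488 := ndS (p := 9752) (l := 4) rfl N9752 D12488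
theorem N12484 : nd 12484 = n12489 := ndS (p := 9753) (l := 3) rfl N9753 D12489
theorem N12485 : nd 12485 = n12490 := ndS (p := 9754) (l := 4) rfl N9754 D12490
theorem N12486 : nd 12486 = n12491 := ndS (p := 9755) (l := 3) rfl N9755 D12491
theorem N12487 : nd 12487 = n12492 := ndS (p := 9756) (l := 2) rfl N9756 D12492
theorem N12488 : nd 12488 = n12493 := ndS (p := 9757) (l := 2) rfl N9757 D12493
theorem N12489 : nd 12489 = n12494 := ndS (p := 9757) (l := 4) rfl N9757 D12494
theorem N12490 : nd 12490 = n12495 := ndS (p := 9758) (l := 4) rfl N9758 D12495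
theorem N12491 : nd 12491 = n12496 := ndS (p := 9759) (l := 3) rfl N9759 D12496
theorem N12492 : nd 12492 = n12497 := ndS (p := 9759) (l := 4) rfl N9759 D12497
theorem N12493 : nd 12493 = n12498 := ndS (p := 9762) (l := 4) rfl N9762 D12498
theorem N12494 : nd 12494 = n12499 := ndS (p := 9765) (l := 3) rfl N9765 D12499
theorem N12495 : nd 12495 = n12500 := ndS (p := 9767) (l := 2) rfl N9767 D12500
theorem N12496 : nd 12496 = n12501 := ndS (p := 9767) (l := 5) rfl N9767 D12501
theorem N12497 : nd 12497 = n12502 := ndS (p := 9769) (l := 4) rfl N9769 D12502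
theorem N12498 : nd 12498 = n12503 := ndS (p := 9770) (l := 5) rfl N9770 D12503
theorem N12499 : nd 12499 = n12504 := ndS (p := 9772) (l := 2) rfl N9772 D12504
theorem N12500 : nd 12500 = n12505 := ndS (p := 9773) (l := 2) rfl N9773 D12505
theorem N12501 : nd 12501 = n12506 := ndS (p := 9773) (l := 4) rfl N9773 D12506
theorem N12502 : nd 12502 = n12507 := ndS (p := 9774) (l := 4) rfl N9774 D12507
theorem N12503 : nd 12503 = n12508 := ndS (p := 9775) (l := 3) rfl N9775 D12508
theorem N12504 : nd 12504 = n12509 := ndS (p := 9775) (l := 4) rfl N9775 D12509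
theorem N12505 : nd 12505 = n12510 := ndS (p := 9776) (l := 5) rfl N9776 D12510
theorem N12506 : nd 12506 = n12511 := ndS (p := 9780) (l := 1) rfl N9780 D12511
theorem N12507 : nd 12507 = n12512 := ndS (p := 9780) (l := 3) rfl N9780 D12512
theorem N12508 : nd 12508 = n12513 := ndS (p := 9780) (l := 4) rfl N9780 D12513
theorem N12509 : nd 12509 = n12514 := ndS (p := 9783) (l := 2) rfl N9783 D12514
theorem N12510 : nd 12510 = n12515 := ndS (p := 9783) (l := 4) rfl N9783 D12515
theorem N12511 : nd 12511 = n12516 := ndS (p := 9784) (l := 3) rfl N9784 D12516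
theorem N12512 : nd 12512 = n12517 := ndS (p := 9785) (l := 3) rfl N9785 D12517
theorem N12513 : nd 12513 = n12518 := ndS (p := 9785) (l := 5) rfl N9785 D12518
theorem N12514 : nd 12514 = n12519 := ndS (p := 9787) (l := 2) rfl N9787 D12519
theorem N12515 : nd 12515 = n12520 := ndS (p := 9788) (l := 2) rfl N9788 D12520
theorem N12516 : nd 12516 = n12521 := ndS (p := 9788) (l := 5) rfl N9788 D12521
theorem N12517 : nd 12517 = n12522 := ndS (p := 9790) (l := 3) rfl N9790 D12522
theorem N12518 : nd 12518 = n12523 := ndS (p := 9791) (l := 0) rfl N9791 D12523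
theorem N12519 : nd 12519 = n12524 := ndS (p := 9791) (l := 3) rfl N9791 D12524
theorem N12520 : nd 12520 = n12525 := ndS (p := 9792) (l := 2) rfl N9792 D12525
theorem N12521 : nd 12521 = n12526 := ndS (p := 9792) (l := 4) rfl N9792 D12526
theorem N12522 : nd 12522 = n12527 := ndS (p := 9792) (l := 5) rfl N9792 D12527
theorem N12523 : nd 12523 = n12528 := ndS (p := 9793) (l := 4) rfl N9793 D12528
theorem N12524 : nd 12524 = n12529 := ndS (p := 9795) (l := 0) rfl N9795 D12529
theorem N12525 : nd 12525 = n12530 := ndS (p := 9795) (l := 3) rfl N9795 D12530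
theorem N12526 : nd 12526 = n12531 := ndS (p := 9795) (l := 5) rfl N9795 D12531
theorem N12527 : nd 12527 = n12532 := ndS (p := 9796) (l := 2) rfl N9796 D12532
theorem N12528 : nd 12528 = n12533 := ndS (p := 9796) (l := 5) rfl N9796 D12533
theorem N12529 : nd 12529 = n12534 := ndS (p := 9800) (l := 0) rfl N9800 D12534
theorem N12530 : nd 12530 = n12535 := ndS (p := 9800) (l := 3) rfl N9800 D12535
theorem N12531 : nd 12531 = n12536 := ndS (p := 9800) (l := 5) rfl N9800 D12536
theorem N12532 : nd 12532 = n12537 := ndS (p := 9802) (l := 4) rfl N9802 D12537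
theorem N12533 : nd 12533 = n12538 := ndS (p := 9804) (l := 3) rfl N9804 D12538
theorem N12534 : nd 12534 = n12539 := ndS (p := 9804) (l := 5) rfl N9804 D12539
theorem N12535 : nd 12535 = n12540 := ndS (p := 9805) (l := 2) rfl N9805 D12540
theorem N12536 : nd 12536 = n12541 := ndS (p := 9805) (l := 5) rfl N9805 D12541
theorem N12537 : nd 12537 = n12542 := ndS (p := 9806) (l := 4) rfl N9806 D12542
theorem N12538 : nd 12538 = n12543 := ndS (p := 9807) (l := 1) rfl N9807 D12543
theorem N12539 : nd 12539 = n12544 := ndS (p := 9807) (l := 4) rfl N9807 D12544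
theorem N12540 : nd 12540 = n12545 := ndS (p := 9809) (l := 4) rfl N9809 D12545
theorem N12541 : nd 12541 = n12546 := ndS (p := 9812) (l := 4) rfl N9812 D12546
theorem N12542 : nd 12542 = n12547 := ndS (p := 9814) (l := 0) rfl N9814 D12547
theorem N12543 : nd 12543 = n12548 := ndS (p := 9814) (l := 3) rfl N9814 D12548
theorem N12544 : nd 12544 = n12549 := ndS (p := 9814) (l := 5) rfl N9814 D12549
theorem N12545 : nd 12545 = n12550 := ndS (p := 9815) (l := 4) rfl N9815 D12550
theorem N12546 : nd 12546 = n12551 := ndS (p := 9816) (l := 4) rfl N9816 D12551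
theorem N12547 : nd 12547 = n12552 := ndS (p := 9818) (l := 3) rfl N9818 D12552
theorem N12548 : nd 12548 = n12553 := ndS (p := 9819) (l := 2) rfl N9819 D12553
theorem N12549 : nd 12549 = n12554 := ndS (p := 9819) (l := 4) rfl N9819 D12554
theorem N12550 : nd 12550 = n12555 := ndS (p := 9820) (l := 1) rfl N9820 D12555
theorem N12551 : nd 12551 = n12556 := ndS (p := 9820) (l := 4) rfl N9820 D12556
theorem N12552 : nd 12552 = n12557 := ndS (p := 9821) (l := 5) rfl N9821 D12557
theorem N12553 : nd 12553 = n12558 := ndS (p := 9822) (l := 4) rfl N9822 D12558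
theorem N12554 : nd 12554 = n12559 := ndS (p := 9823) (l := 3) rfl N9823 D12559
theorem N12555 : nd 12555 = n12560 := ndS (p := 9824) (l := 2) rfl N9824 D12560
theorem N12556 : nd 12556 = n12561 := ndS (p := 9825) (l := 1) rfl N9825 D12561
theorem N12557 : nd 12557 = n12562 := ndS (p := 9826) (l := 0) rfl N9826 D12562
theorem N12558 : nd 12558 = n12563 := ndS (p := 9826) (l := 3) rfl N9826 D12563
theorem N12559 : nd 12559 = n12564 := ndS (p := 9827) (l := 4) rfl N9827 D12564
theorem N12560 : nd 12560 = n12565 := ndS (p := 9828) (l := 1) rfl N9828 D12565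
theorem N12561 : nd 12561 = n12566 := ndS (p := 9829) (l := 0) rfl N9829 D12566
theorem N12562 : nd 12562 = n12567 := ndS (p := 9830) (l := 3) rfl N9830 D12567
theorem N12563 : nd 12563 = n12568 := ndS (p := 9831) (l := 2) rfl N9831 D12568
theorem N12564 : nd 12564 = n12569 := ndS (p := 9831) (l := 4) rfl N9831 D12569
theorem N12565 : nd 12565 = n12570 := ndS (p := 9833) (l := 3) rfl N9833 D12570
theorem N12566 : nd 12566 = n12571 := ndS (p := 9834) (l := 2) rfl N9834 D12571
theorem N12567 : nd 12567 = n12572 := ndS (p := 9834) (l := 4) rfl N9834 D12572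
theorem N12568 : nd 12568 = n12573 := ndS (p := 9836) (l := 2) rfl N9836 D12573
theorem N12569 : nd 12569 = n12574 := ndS (p := 9837) (l := 1) rfl N9837 D12574
theorem N12570 : nd 12570 = n12575 := ndS (p := 9837) (l := 3) rfl N9837 D12575
theorem N12571 : nd 12571 = n12576 := ndS (p := 9838) (l := 0) rfl N9838 D12576
theorem N12572 : nd 12572 = n12577 := ndS (p := 9839) (l := 0) rfl N9839 D12577
theorem N12573 : nd 12573 = n12578 := ndS (p := 9839) (l := 3) rfl N9839 D12578
theorem N12574 : nd 12574 = n12579 := ndS (p := 9839) (l := 5) rfl N9839 D12579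
theorem N12575 : nd 12575 = n12580 := ndS (p := 9840) (l := 2) rfl N9840 D12580
theorem N12576 : nd 12576 = n12581 := ndS (p := 9840) (l := 4) rfl N9840 D12581
theorem N12577 : nd 12577 = n12582 := ndS (p := 9840) (l := 5) rfl N9840 D12582
theorem N12578 : nd 12578 = n12583 := ndS (p := 9841) (l := 4) rfl N9841 D12583
theorem N12579 : nd 12579 = n12584 := ndS (p := 9843) (l := 3) rfl N9843 D12584
theorem N12580 : nd 12580 = n12585 := ndS (p := 9844) (l := 4) rfl N9844 D12585
theorem N12581 : nd 12581 = n12586 := ndS (p := 9845) (l := 4) rfl N9845 D12586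
theorem N12582 : nd 12582 = n12587 := ndS (p := 9846) (l := 5) rfl N9846 D12587
theorem N12583 : nd 12583 = n12588 := ndS (p := 9847) (l := 3) rfl N9847 D12588
theorem N12584 : nd 12584 = n12589 := ndS (p := 9848) (l := 0) rfl N9848 D12589
theorem N12585 : nd 12585 = n12590 := ndS (p := 9848) (l := 3) rfl N9848 D12590
theorem N12586 : nd 12586 = n12591 := ndS (p := 9852) (l := 3) rfl N9852 D12591
theorem N12587 : nd 12587 = n12592 := ndS (p := 9853) (l := 2) rfl N9853 D12592
theorem N12588 : nd 12588 = n12593 := ndS (p := 9853) (l := 4) rfl N9853 D12593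
theorem N12589 : nd 12589 = n12594 := ndS (p := 9854) (l := 1) rfl N9854 D12594
theorem N12590 : nd 12590 = n12595 := ndS (p := 9854) (l := 4) rfl N9854 D12595
theorem N12591 : nd 12591 = n12596 := ndS (p := 9855) (l := 5) rfl N9855 D12596
theorem N12592 : nd 12592 = n12597 := ndS (p := 9856) (l := 4) rfl N9856 D12597
theorem N12593 : nd 12593 = n12598 := ndS (p := 9857) (l := 3) rfl N9857 D12598
theorem N12594 : nd 12594 = n12599 := ndS (p := 9858) (l := 4) rfl N9858 D12599
theorem N12595 : nd 12595 = n12600 := ndS (p := 9859) (l := 1) rfl N9859 D12600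
theorem N12596 : nd 12596 = n12601 := ndS (p := 9859) (l := 4) rfl N9859 D12601
theorem N12597 : nd 12597 = n12602 := ndS (p := 9860) (l := 5) rfl N9860 D12602
theorem N12598 : nd 12598 = n12603 := ndS (p := 9861) (l := 4) rfl N9861 D12603
theorem N12599 : nd 12599 = n12604 := ndS (p := 9862) (l := 3) rfl N9862 D12604
theorem N12600 : nd 12600 = n12605 := ndS (p := 9862) (l := 5) rfl N9862 D12605
theorem N12601 : nd 12601 = n12606 := ndS (p := 9863) (l := 4) rfl N9863 D12606
theorem N12602 : nd 12602 = n12607 := ndS (p := 9864) (l := 3) rfl N9864 D12607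
theorem N12603 : nd 12603 = n12608 := ndS (p := 9865) (l := 2) rfl N9865 D12608
theorem N12604 : nd 12604 = n12609 := ndS (p := 9867) (l := 0) rfl N9867 D12609
theorem N12605 : nd 12605 = n12610 := ndS (p := 9869) (l := 2) rfl N9869 D12610
theorem N12606 : nd 12606 = n12611 := ndS (p := 9869) (l := 4) rfl N9869 D12611
theorem N12607 : nd 12607 = n12612 := ndS (p := 9870) (l := 3) rfl N9870 D12612
theorem N12608 : nd 12608 = n12613 := ndS (p := 9870) (l := 4) rfl N9870 D12613
theorem N12609 : nd 12609 = n12614 := ndS (p := 9872) (l := 4) rfl N9872 D12614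
theorem N12610 : nd 12610 = n12615 := ndS (p := 9873) (l := 4) rfl N9873 D12615
theorem N12611 : nd 12611 = n12616 := ndS (p := 9874) (l := 5) rfl N9874 D12616
theorem N12612 : nd 12612 = n12617 := ndS (p := 9876) (l := 1) rfl N9876 D12617
theorem N12613 : nd 12613 = n12618 := ndS (p := 9876) (l := 4) rfl N9876 D12618
theorem N12614 : nd 12614 = n12619 := ndS (p := 9877) (l := 5) rfl N9877 D12619
theorem N12615 : nd 12615 = n12620 := ndS (p := 9878) (l := 0) rfl N9878 D12620
theorem N12616 : nd 12616 = n12621 := ndS (p := 9878) (l := 3) rfl N9878 D12621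
theorem N12617 : nd 12617 = n12622 := ndS (p := 9878) (l := 4) rfl N9878 D12622
theorem N12618 : nd 12618 = n12623 := ndS (p := 9879) (l := 4) rfl N9879 D12623
theorem N12619 : nd 12619 = n12624 := ndS (p := 9880) (l := 3) rfl N9880 D12624
theorem N12620 : nd 12620 = n12625 := ndS (p := 9880) (l := 5) rfl N9880 D12625
theorem N12621 : nd 12621 = n12626 := ndS (p := 9882) (l := 4) rfl N9882 D12626
theorem N12622 : nd 12622 = n12627 := ndS (p := 9884) (l := 3) rfl N9884 D12627
theorem N12623 : nd 12623 = n12628 := ndS (p := 9884) (l := 5) rfl N9884 D12628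
theorem N12624 : nd 12624 = n12629 := ndS (p := 9886) (l := 3) rfl N9886 D12629
theorem N12625 : nd 12625 = n12630 := ndS (p := 9886) (l := 5) rfl N9886 D12630
theorem N12626 : nd 12626 = n12631 := ndS (p := 9887) (l := 2) rfl N9887 D12631
theorem N12627 : nd 12627 = n12632 := ndS (p := 9887) (l := 5) rfl N9887 D12632
theorem N12628 : nd 12628 = n12633 := ndS (p := 9889) (l := 2) rfl N9889 D12633
theorem N12629 : nd 12629 = n12634 := ndS (p := 9889) (l := 4) rfl N9889 D12634
theorem N12630 : nd 12630 = n12635 := ndS (p := 9890) (l := 3) rfl N9890 D12635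
theorem N12631 : nd 12631 = n12636 := ndS (p := 9890) (l := 4) rfl N9890 D12636
theorem N12632 : nd 12632 = n12637 := ndS (p := 9891) (l := 5) rfl N9891 D12637
theorem N12633 : nd 12633 = n12638 := ndS (p := 9892) (l := 3) rfl N9892 D12638
theorem N12634 : nd 12634 = n12639 := ndS (p := 9895) (l := 5) rfl N9895 D12639
theorem N12635 : nd 12635 = n12640 := ndS (p := 9896) (l := 0) rfl N9896 D12640
theorem N12636 : nd 12636 = n12641 := ndS (p := 9896) (l := 4) rfl N9896 D12641
theorem N12637 : nd 12637 = n12642 := ndS (p := 9897) (l := 3) rfl N9897 D12642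
theorem N12638 : nd 12638 = n12643 := ndS (p := 9897) (l := 5) rfl N9897 D12643
theorem N12639 : nd 12639 = n12644 := ndS (p := 9899) (l := 4) rfl N9899 D12644
theorem N12640 : nd 12640 = n12645 := ndS (p := 9900) (l := 3) rfl N9900 D12645
theorem N12641 : nd 12641 = n12646 := ndS (p := 9900) (l := 5) rfl N9900 D12646
theorem N12642 : nd 12642 = n12647 := ndS (p := 9901) (l := 2) rfl N9901 D12647
theorem N12643 : nd 12643 = n12648 := ndS (p := 9903) (l := 3) rfl N9903 D12648
theorem N12644 : nd 12644 = n12649 := ndS (p := 9904) (l := 2) rfl N9904 D12649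
theorem N12645 : nd 12645 = n12650 := ndS (p := 9905) (l := 1) rfl N9905 D12650
theorem N12646 : nd 12646 = n12651 := ndS (p := 9906) (l := 0) rfl N9906 D12651
theorem N12647 : nd 12647 = n12652 := ndS (p := 9906) (l := 3) rfl N9906 D12652
theorem N12648 : nd 12648 = n12653 := ndS (p := 9906) (l := 5) rfl N9906 D12653
theorem N12649 : nd 12649 = n12654 := ndS (p := 9907) (l := 4) rfl N9907 D12654
theorem N12650 : nd 12650 = n12655 := ndS (p := 9908) (l := 4) rfl N9908 D12655
theorem N12651 : nd 12651 = n12656 := ndS (p := 9910) (l := 0) rfl N9910 D12656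
theorem N12652 : nd 12652 = n12657 := ndS (p := 9910) (l := 3) rfl N9910 D12657
theorem N12653 : nd 12653 = n12658 := ndS (p := 9910) (l := 5) rfl N9910 D12658
theorem N12654 : nd 12654 = n12659 := ndS (p := 9911) (l := 4) rfl N9911 D12659
theorem N12655 : nd 12655 = n12660 := ndS (p := 9912) (l := 4) rfl N9912 D12660
theorem N12656 : nd 12656 = n12661 := ndS (p := 9914) (l := 3) rfl N9914 D12661
theorem N12657 : nd 12657 = n12662 := ndS (p := 9914) (l := 5) rfl N9914 D12662
theorem N12658 : nd 12658 = n12663 := ndS (p := 9915) (l := 2) rfl N9915 D12663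
theorem N12659 : nd 12659 = n12664 := ndS (p := 9915) (l := 4) rfl N9915 D12664
theorem N12660 : nd 12660 = n12665 := ndS (p := 9915) (l := 5) rfl N9915 D12665
theorem N12661 : nd 12661 = n12666 := ndS (p := 9916) (l := 4) rfl N9916 D12666
theorem N12662 : nd 12662 = n12667 := ndS (p := 9917) (l := 1) rfl N9917 D12667
theorem N12663 : nd 12663 = n12668 := ndS (p := 9917) (l := 4) rfl N9917 D12668
theorem N12664 : nd 12664 = n12672 := ndS (p := 9921) (l := 2) rfl N9921 D12672
theorem N12665 : nd 12665 = n12673 := ndS (p := 9921) (l := 4) rfl N9921 D12673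
theorem N12666 : nd 12666 = n12674 := ndS (p := 9922) (l := 4) rfl N9922 D12674
theorem N12667 : nd 12667 = n12676 := ndS (p := 9923) (l := 4) rfl N9923 D12676
theorem N12668 : nd 12668 = n12677 := ndS (p := 9926) (l := 1) rfl N9926 D12677
theorem N12669 : nd 12669 = n12678 := ndS (p := 9926) (l := 3) rfl N9926 D12678
theorem N12670 : nd 12670 = n12679 := ndS (p := 9926) (l := 5) rfl N9926 D12679
theorem N12671 : nd 12671 = n12680 := ndS (p := 9927) (l := 4) rfl N9927 D12680
theorem N12672 : nd 12672 = n12681 := ndS (p := 9928) (l := 0) rfl N9928 D12681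
theorem N12673 : nd 12673 = n12682 := ndS (p := 9928) (l := 3) rfl N9928 D12682
theorem N12674 : nd 12674 = n12683 := ndS (p := 9928) (l := 5) rfl N9928 D12683
theorem N12675 : nd 12675 = n12684 := ndS (p := 9929) (l := 4) rfl N9929 D12684
theorem N12676 : nd 12676 = n12685 := ndS (p := 9930) (l := 4) rfl N9930 D12685
theorem N12677 : nd 12677 = n12686 := ndS (p := 9932) (l := 1) rfl N9932 D12686
theorem N12678 : nd 12678 = n12687 := ndS (p := 9932) (l := 4) rfl N9932 D12687
theorem N12679 : nd 12679 = n12688 := ndS (p := 9933) (l := 5) rfl N9933 D12688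
theorem N12680 : nd 12680 = n12689 := ndS (p := 9934) (l := 4) rfl N9934 D12689
theorem N12681 : nd 12681 = n12690 := ndS (p := 9936) (l := 0) rfl N9936 D12690
theorem N12682 : nd 12682 = n12691 := ndS (p := 9936) (l := 3) rfl N9936 D12691
theorem N12683 : nd 12683 = n12692 := ndS (p := 9936) (l := 5) rfl N9936 D12692
theorem N12684 : nd 12684 = n12693 := ndS (p := 9937) (l := 4) rfl N9937 D12693
theorem N12685 : nd 12685 = n12694 := ndS (p := 9938) (l := 4) rfl N9938 D12694
theorem N12686 : nd 12686 = n12695 := ndS (p := 9940) (l := 3) rfl N9940 D12695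
theorem N12687 : nd 12687 = n12696 := ndS (p := 9940) (l := 5) rfl N9940 D12696
theorem N12688 : nd 12688 = n12697 := ndS (p := 9941) (l := 4) rfl N9941 D12697
theorem N12689 : nd 12689 = n12698 := ndS (p := 9942) (l := 4) rfl N9942 D12698
theorem N12690 : nd 12690 = n12699 := ndS (p := 9943) (l := 1) rfl N9943 D12699
theorem N12691 : nd 12691 = n12700 := ndS (p := 9943) (l := 4) rfl N9943 D12700
theorem N12692 : nd 12692 = n12701 := ndS (p := 9944) (l := 5) rfl N9944 D12701
theorem N12693 : nd 12693 = n12702 := ndS (p := 9946) (l := 3) rfl N9946 D12702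
theorem N12694 : nd 12694 = n12703 := ndS (p := 9947) (l := 2) rfl N9947 D12703
theorem N12695 : nd 12695 = n12704 := ndS (p := 9947) (l := 4) rfl N9947 D12704
theorem N12696 : nd 12696 = n12705 := ndS (p := 9948) (l := 4) rfl N9948 D12705
theorem N12697 : nd 12697 = n12706 := ndS (p := 9949) (l := 3) rfl N9949 D12706
theorem N12698 : nd 12698 = n12707 := ndS (p := 9949) (l := 4) rfl N9949 D12707
theorem N12699 : nd 12699 = n12708 := ndS (p := 9952) (l := 1) rfl N9952 D12708
theorem N12700 : nd 12700 = n12709 := ndS (p := 9952) (l := 3) rfl N9952 D12709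
theorem N12701 : nd 12701 = n12710 := ndS (p := 9952) (l := 5) rfl N9952 D12710
theorem N12702 : nd 12702 = n12711 := ndS (p := 9953) (l := 4) rfl N9953 D12711
theorem N12703 : nd 12703 = n12712 := ndS (p := 9954) (l := 0) rfl N9954 D12712
theorem N12704 : nd 12704 = n12713 := ndS (p := 9954) (l := 3) rfl N9954 D12713
theorem N12705 : nd 12705 = n12714 := ndS (p := 9955) (l := 2) rfl N9955 D12714
theorem N12706 : nd 12706 = n12715 := ndS (p := 9955) (l := 4) rfl N9955 D12715
theorem N12707 : nd 12707 = n12716 := ndS (p := 9955) (l := 5) rfl N9955 D12716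
theorem N12708 : nd 12708 = n12717 := ndS (p := 9956) (l := 4) rfl N9956 D12717
theorem N12709 : nd 12709 = n12718 := ndS (p := 9960) (l := 1) rfl N9960 D12718
theorem N12710 : nd 12710 = n12719 := ndS (p := 9960) (l := 3) rfl N9960 D12719
theorem N12711 : nd 12711 = n12720 := ndS (p := 9960) (l := 5) rfl N9960 D12720
theorem N12712 : nd 12712 = n12721 := ndS (p := 9961) (l := 4) rfl N9961 D12721
theorem N12713 : nd 12713 = n12722 := ndS (p := 9962) (l := 0) rfl N9962 D12722
theorem N12714 : nd 12714 = n12723 := ndS (p := 9962) (l := 3) rfl N9962 D12723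
theorem N12715 : nd 12715 = n12724 := ndS (p := 9963) (l := 2) rfl N9963 D12724
theorem N12716 : nd 12716 = n12725 := ndS (p := 9963) (l := 4) rfl N9963 D12725
theorem N12717 : nd 12717 = n12726 := ndS (p := 9963) (l := 5) rfl N9963 D12726
theorem N12718 : nd 12718 = n12727 := ndS (p := 9964) (l := 4) rfl N9964 D12727
theorem N12719 : nd 12719 = n12728 := ndS (p := 9967) (l := 1) rfl N9967 D12728
theorem N12720 : nd 12720 = n12729 := ndS (p := 9967) (l := 3) rfl N9967 D12729
theorem N12721 : nd 12721 = n12730 := ndS (p := 9967) (l := 4) rfl N9967 D12730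
theorem N12722 : nd 12722 = n12731 := ndS (p := 9968) (l := 5) rfl N9968 D12731
theorem N12723 : nd 12723 = n12732 := ndS (p := 9969) (l := 3) rfl N9969 D12732
theorem N12724 : nd 12724 = n12733 := ndS (p := 9970) (l := 2) rfl N9970 D12733
theorem N12725 : nd 12725 = n12734 := ndS (p := 9970) (l := 4) rfl N9970 D12734
theorem N12726 : nd 12726 = n12735 := ndS (p := 9971) (l := 3) rfl N9971 D12735
theorem N12727 : nd 12727 = n12736 := ndS (p := 9971) (l := 5) rfl N9971 D12736
theorem N12728 : nd 12728 = n12737 := ndS (p := 9973) (l := 2) rfl N9973 D12737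
theorem N12729 : nd 12729 = n12738 := ndS (p := 9974) (l := 0) rfl N9974 D12738
theorem N12730 : nd 12730 = n12739 := ndS (p := 9974) (l := 4) rfl N9974 D12739
theorem N12731 : nd 12731 = n12740 := ndS (p := 9974) (l := 5) rfl N9974 D12740
theorem N12732 : nd 12732 = n12741 := ndS (p := 9975) (l := 3) rfl N9975 D12741
theorem N12733 : nd 12733 = n12742 := ndS (p := 9975) (l := 5) rfl N9975 D12742
theorem N12734 : nd 12734 = n12743 := ndS (p := 9976) (l := 4) rfl N9976 D12743
theorem N12735 : nd 12735 = n12744 := ndS (p := 9977) (l := 4) rfl N9977 D12744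
theorem N12736 : nd 12736 = n12745 := ndS (p := 9979) (l := 3) rfl N9979 D12745
theorem N12737 : nd 12737 = n12746 := ndS (p := 9979) (l := 4) rfl N9979 D12746
theorem N12738 : nd 12738 = n12747 := ndS (p := 9980) (l := 2) rfl N9980 D12747
theorem N12739 : nd 12739 = n12748 := ndS (p := 9980) (l := 4) rfl N9980 D12748
theorem N12740 : nd 12740 = n12749 := ndS (p := 9981) (l := 3) rfl N9981 D12749
theorem N12741 : nd 12741 = n12750 := ndS (p := 9982) (l := 3) rfl N9982 D12750
theorem N12742 : nd 12742 = n12751 := ndS (p := 9982) (l := 5) rfl N9982 D12751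
theorem N12743 : nd 12743 = n12752 := ndS (p := 9983) (l := 4) rfl N9983 D12752
theorem N12744 : nd 12744 = n12753 := ndS (p := 9984) (l := 2) rfl N9984 D12753
theorem N12745 : nd 12745 = n12754 := ndS (p := 9984) (l := 5) rfl N9984 D12754
theorem N12746 : nd 12746 = n12755 := ndS (p := 9985) (l := 4) rfl N9985 D12755
theorem N12747 : nd 12747 = n12756 := ndS (p := 9986) (l := 3) rfl N9986 D12756
theorem N12748 : nd 12748 = n12757 := ndS (p := 9989) (l := 3) rfl N9989 D12757
theorem N12749 : nd 12749 = n12758 := ndS (p := 9989) (l := 5) rfl N9989 D12758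
theorem N12750 : nd 12750 = n12759 := ndS (p := 9990) (l := 2) rfl N9990 D12759
theorem N12751 : nd 12751 = n12760 := ndS (p := 9990) (l := 5) rfl N9990 D12760
theorem N12752 : nd 12752 = n12761 := ndS (p := 9992) (l := 2) rfl N9992 D12761
theorem N12753 : nd 12753 = n12762 := ndS (p := 9992) (l := 5) rfl N9992 D12762
theorem N12754 : nd 12754 = n12763 := ndS (p := 9994) (l := 1) rfl N9994 D12763
theorem N12755 : nd 12755 = n12764 := ndS (p := 9994) (l := 3) rfl N9994 D12764
theorem N12756 : nd 12756 = n12765 := ndS (p := 9994) (l := 5) rfl N9994 D12765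
theorem N12757 : nd 12757 = n12766 := ndS (p := 9995) (l := 4) rfl N9995 D12766
theorem N12758 : nd 12758 = n12767 := ndS (p := 9996) (l := 4) rfl N9996 D12767
theorem N12759 : nd 12759 = n12768 := ndS (p := 9997) (l := 3) rfl N9997 D12768
theorem N12760 : nd 12760 = n12769 := ndS (p := 9997) (l := 5) rfl N9997 D12769
theorem N12761 : nd 12761 = n12770 := ndS (p := 9998) (l := 4) rfl N9998 D12770
theorem N12762 : nd 12762 = n12771 := ndS (p := 9999) (l := 4) rfl N9999 D12771
theorem N12763 : nd 12763 = n12772 := ndS (p := 10000) (l := 3) rfl N10000 D12772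
theorem N12764 : nd 12764 = n12773 := ndS (p := 10001) (l := 2) rfl N10001 D12773
theorem N12765 : nd 12765 = n12774 := ndS (p := 10002) (l := 4) rfl N10002 D12774
theorem N12766 : nd 12766 = n12775 := ndS (p := 10004) (l := 3) rfl N10004 D12775
theorem N12767 : nd 12767 = n12776 := ndS (p := 10004) (l := 5) rfl N10004 D12776
theorem N12768 : nd 12768 = n12777 := ndS (p := 10005) (l := 3) rfl N10005 D12777
theorem N12769 : nd 12769 = n12778 := ndS (p := 10005) (l := 5) rfl N10005 D12778
theorem N12770 : nd 12770 = n12779 := ndS (p := 10006) (l := 4) rfl N10006 D12779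
theorem N12771 : nd 12771 = n12780 := ndS (p := 10007) (l := 2) rfl N10007 D12780
theorem N12772 : nd 12772 = n12781 := ndS (p := 10007) (l := 5) rfl N10007 D12781
theorem N12773 : nd 12773 = n12782 := ndS (p := 10008) (l := 4) rfl N10008 D12782
theorem N12774 : nd 12774 = n12783 := ndS (p := 10009) (l := 3) rfl N10009 D12783
theorem N12775 : nd 12775 = n12784 := ndS (p := 10011) (l := 2) rfl N10011 D12784
theorem N12776 : nd 12776 = n12785 := ndS (p := 10012) (l := 1) rfl N10012 D12785
theorem N12777 : nd 12777 = n12786 := ndS (p := 10012) (l := 3) rfl N10012 D12786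
theorem N12778 : nd 12778 = n12787 := ndS (p := 10013) (l := 3) rfl N10013 D12787
theorem N12779 : nd 12779 = n12788 := ndS (p := 10013) (l := 5) rfl N10013 D12788
theorem N12780 : nd 12780 = n12789 := ndS (p := 10014) (l := 2) rfl N10014 D12789
theorem N12781 : nd 12781 = n12790 := ndS (p := 10016) (l := 1) rfl N10016 D12790
theorem N12782 : nd 12782 = n12791 := ndS (p := 10017) (l := 0) rfl N10017 D12791
theorem N12783 : nd 12783 = n12792 := ndS (p := 10018) (l := 3) rfl N10018 D12792
theorem N12784 : nd 12784 = n12793 := ndS (p := 10019) (l := 3) rfl N10019 D12793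
theorem N12785 : nd 12785 = n12794 := ndS (p := 10019) (l := 5) rfl N10019 D12794
theorem N12786 : nd 12786 = n12795 := ndS (p := 10020) (l := 2) rfl N10020 D12795
theorem N12787 : nd 12787 = n12796 := ndS (p := 10020) (l := 5) rfl N10020 D12796
theorem N12788 : nd 12788 = n12797 := ndS (p := 10022) (l := 1) rfl N10022 D12797
theorem N12789 : nd 12789 = n12798 := ndS (p := 10022) (l := 3) rfl N10022 D12798
theorem N12790 : nd 12790 = n12799 := ndS (p := 10023) (l := 3) rfl N10023 D12799
theorem N12791 : nd 12791 = n12800 := ndS (p := 10023) (l := 5) rfl N10023 D12800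
theorem N12792 : nd 12792 = n12801 := ndS (p := 10024) (l := 2) rfl N10024 D12801
theorem N12793 : nd 12793 = n12802 := ndS (p := 10024) (l := 5) rfl N10024 D12802
theorem N12794 : nd 12794 = n12803 := ndS (p := 10026) (l := 1) rfl N10026 D12803
theorem N12795 : nd 12795 = n12804 := ndS (p := 10026) (l := 3) rfl N10026 D12804
theorem N12796 : nd 12796 = n12805 := ndS (p := 10026) (l := 5) rfl N10026 D12805
theorem N12797 : nd 12797 = n12806 := ndS (p := 10028) (l := 0) rfl N10028 D12806
theorem N12798 : nd 12798 = n12807 := ndS (p := 10028) (l := 3) rfl N10028 D12807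
theorem N12799 : nd 12799 = n12808 := ndS (p := 10029) (l := 2) rfl N10029 D12808
theorem N12800 : nd 12800 = n12809 := ndS (p := 10029) (l := 4) rfl N10029 D12809
theorem N12801 : nd 12801 = n12810 := ndS (p := 10031) (l := 1) rfl N10031 D12810
theorem N12802 : nd 12802 = n12811 := ndS (p := 10031) (l := 5) rfl N10031 D12811
theorem N12803 : nd 12803 = n12812 := ndS (p := 10032) (l := 4) rfl N10032 D12812
theorem N12804 : nd 12804 = n12813 := ndS (p := 10033) (l := 0) rfl N10033 D12813
theorem N12805 : nd 12805 = n12814 := ndS (p := 10033) (l := 3) rfl N10033 D12814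
theorem N12806 : nd 12806 = n12815 := ndS (p := 10034) (l := 4) rfl N10034 D12815
theorem N12807 : nd 12807 = n12816 := ndS (p := 10034) (l := 5) rfl N10034 D12816
theorem N12808 : nd 12808 = n12817 := ndS (p := 10035) (l := 4) rfl N10035 D12817
theorem N12809 : nd 12809 = n12818 := ndS (p := 10038) (l := 2) rfl N10038 D12818
theorem N12810 : nd 12810 = n12819 := ndS (p := 10038) (l := 4) rfl N10038 D12819
theorem N12811 : nd 12811 = n12820 := ndS (p := 10039) (l := 4) rfl N10039 D12820
theorem N12812 : nd 12812 = n12821 := ndS (p := 10040) (l := 3) rfl N10040 D12821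
theorem N12813 : nd 12813 = n12822 := ndS (p := 10040) (l := 4) rfl N10040 D12822
theorem N12814 : nd 12814 = n12823 := ndS (p := 10044) (l := 2) rfl N10044 D12823
theorem N12815 : nd 12815 = n12824 := ndS (p := 10044) (l := 5) rfl N10044 D12824
theorem N12816 : nd 12816 = n12825 := ndS (p := 10047) (l := 3) rfl N10047 D12825
theorem N12817 : nd 12817 = n12826 := ndS (p := 10047) (l := 5) rfl N10047 D12826
theorem N12818 : nd 12818 = n12827 := ndS (p := 10048) (l := 3) rfl N10048 D12827
theorem N12819 : nd 12819 = n12828 := ndS (p := 10048) (l := 5) rfl N10048 D12828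
theorem N12820 : nd 12820 = n12829 := ndS (p := 10049) (l := 2) rfl N10049 D12829
theorem N12821 : nd 12821 = n12830 := ndS (p := 10049) (l := 5) rfl N10049 D12830
theorem N12822 : nd 12822 = n12831 := ndS (p := 10051) (l := 1) rfl N10051 D12831
theorem N12823 : nd 12823 = n12832 := ndS (p := 10052) (l := 3) rfl N10052 D12832
theorem N12824 : nd 12824 = n12833 := ndS (p := 10052) (l := 5) rfl N10052 D12833
theorem N12825 : nd 12825 = n12834 := ndS (p := 10053) (l := 2) rfl N10053 D12834
theorem N12826 : nd 12826 = n12835 := ndS (p := 10053) (l := 5) rfl N10053 D12835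
theorem N12827 : nd 12827 = n12836 := ndS (p := 10055) (l := 1) rfl N10055 D12836
theorem N12828 : nd 12828 = n12837 := ndS (p := 10055) (l := 3) rfl N10055 D12837
theorem N12829 : nd 12829 = n12838 := ndS (p := 10055) (l := 5) rfl N10055 D12838
theorem N12830 : nd 12830 = n12839 := ndS (p := 10056) (l := 4) rfl N10056 D12839
theorem N12831 : nd 12831 = n12840 := ndS (p := 10057) (l := 4) rfl N10057 D12840
theorem N12832 : nd 12832 = n12841 := ndS (p := 10058) (l := 3) rfl N10058 D12841
theorem N12833 : nd 12833 = n12842 := ndS (p := 10058) (l := 5) rfl N10058 D12842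
theorem N12834 : nd 12834 = n12843 := ndS (p := 10059) (l := 2) rfl N10059 D12843
theorem N12835 : nd 12835 = n12844 := ndS (p := 10059) (l := 5) rfl N10059 D12844
theorem N12836 : nd 12836 = n12845 := ndS (p := 10060) (l := 4) rfl N10060 D12845
theorem N12837 : nd 12837 = n12846 := ndS (p := 10061) (l := 3) rfl N10061 D12846
theorem N12838 : nd 12838 = n12847 := ndS (p := 10062) (l := 1) rfl N10062 D12847
theorem N12839 : nd 12839 = n12848 := ndS (p := 10063) (l := 4) rfl N10063 D12848
theorem N12840 : nd 12840 = n12849 := ndS (p := 10064) (l := 3) rfl N10064 D12849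
theorem N12841 : nd 12841 = n12850 := ndS (p := 10065) (l := 2) rfl N10065 D12850
theorem N12842 : nd 12842 = n12851 := ndS (p := 10066) (l := 2) rfl N10066 D12851
theorem N12843 : nd 12843 = n12852 := ndS (p := 10067) (l := 1) rfl N10067 D12852
theorem N12844 : nd 12844 = n12853 := ndS (p := 10067) (l := 3) rfl N10067 D12853
theorem N12845 : nd 12845 = n12854 := ndS (p := 10068) (l := 0) rfl N10068 D12854
theorem N12846 : nd 12846 = n12855 := ndS (p := 10069) (l := 2) rfl N10069 D12855
theorem N12847 : nd 12847 = n12856 := ndS (p := 10069) (l := 5) rfl N10069 D12856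
theorem N12848 : nd 12848 = n12857 := ndS (p := 10071) (l := 2) rfl N10071 D12857
theorem N12849 : nd 12849 = n12858 := ndS (p := 10071) (l := 5) rfl N10071 D12858
theorem N12850 : nd 12850 = n12859 := ndS (p := 10073) (l := 1) rfl N10073 D12859
theorem N12851 : nd 12851 = n12860 := ndS (p := 10073) (l := 3) rfl N10073 D12860
theorem N12852 : nd 12852 = n12861 := ndS (p := 10073) (l := 5) rfl N10073 D12861
theorem N12853 : nd 12853 = n12862 := ndS (p := 10074) (l := 4) rfl N10074 D12862
theorem N12854 : nd 12854 = n12863 := ndS (p := 10075) (l := 1) rfl N10075 D12863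
theorem N12855 : nd 12855 = n12864 := ndS (p := 10076) (l := 4) rfl N10076 D12864
theorem N12856 : nd 12856 = n12865 := ndS (p := 10077) (l := 3) rfl N10077 D12865
theorem N12857 : nd 12857 = n12866 := ndS (p := 10078) (l := 2) rfl N10078 D12866
theorem N12858 : nd 12858 = n12867 := ndS (p := 10079) (l := 0) rfl N10079 D12867
theorem N12859 : nd 12859 = n12868 := ndS (p := 10079) (l := 3) rfl N10079 D12868
theorem N12860 : nd 12860 = n12869 := ndS (p := 10079) (l := 5) rfl N10079 D12869
theorem N12861 : nd 12861 = n12870 := ndS (p := 10080) (l := 4) rfl N10080 D12870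
theorem N12862 : nd 12862 = n12871 := ndS (p := 10081) (l := 4) rfl N10081 D12871
theorem N12863 : nd 12863 = n12872 := ndS (p := 10082) (l := 3) rfl N10082 D12872
theorem N12864 : nd 12864 = n12873 := ndS (p := 10083) (l := 2) rfl N10083 D12873
theorem N12865 : nd 12865 = n12875 := ndS (p := 10086) (l := 0) rfl N10086 D12875
theorem N12866 : nd 12866 = n12877 := ndS (p := 10087) (l := 2) rfl N10087 D12877
theorem N12867 : nd 12867 = n12878 := ndS (p := 10089) (l := 0) rfl N10089 D12878
theorem N12868 : nd 12868 = n12879 := ndS (p := 10089) (l := 3) rfl N10089 D12879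
theorem N12869 : nd 12869 = n12880 := ndS (p := 10089) (l := 5) rfl N10089 D12880
theorem N12870 : nd 12870 = n12881 := ndS (p := 10090) (l := 2) rfl N10090 D12881
theorem N12871 : nd 12871 = n12882 := ndS (p := 10090) (l := 4) rfl N10090 D12882
theorem N12872 : nd 12872 = n12883 := ndS (p := 10090) (l := 5) rfl N10090 D12883
theorem N12873 : nd 12873 = n12884 := ndS (p := 10092) (l := 3) rfl N10092 D12884
theorem N12874 : nd 12874 = n12885 := ndS (p := 10092) (l := 5) rfl N10092 D12885
theorem N12875 : nd 12875 = n12886 := ndS (p := 10093) (l := 2) rfl N10093 D12886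
theorem N12876 : nd 12876 = n12887 := ndS (p := 10096) (l := 3) rfl N10096 D12887
theorem N12877 : nd 12877 = n12888 := ndS (p := 10096) (l := 5) rfl N10096 D12888
theorem N12878 : nd 12878 = n12891 := ndS (p := 10099) (l := 3) rfl N10099 D12891
theorem N12879 : nd 12879 = n12893 := ndS (p := 10100) (l := 3) rfl N10100 D12893
theorem N12880 : nd 12880 = n12894 := ndS (p := 10100) (l := 5) rfl N10100 D12894
theorem N12881 : nd 12881 = n12895 := ndS (p := 10102) (l := 0) rfl N10102 D12895
theorem N12882 : nd 12882 = n12896 := ndS (p := 10103) (l := 3) rfl N10103 D12896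
theorem N12883 : nd 12883 = n12897 := ndS (p := 10103) (l := 5) rfl N10103 D12897
theorem N12884 : nd 12884 = n12898 := ndS (p := 10104) (l := 2) rfl N10104 D12898
theorem N12885 : nd 12885 = n12899 := ndS (p := 10104) (l := 5) rfl N10104 D12899
theorem N12886 : nd 12886 = n12900 := ndS (p := 10106) (l := 5) rfl N10106 D12900
theorem N12887 : nd 12887 = n12901 := ndS (p := 10107) (l := 4) rfl N10107 D12901
theorem N12888 : nd 12888 = n12902 := ndS (p := 10108) (l := 0) rfl N10108 D12902
theorem N12889 : nd 12889 = n12903 := ndS (p := 10108) (l := 3) rfl N10108 D12903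
theorem N12890 : nd 12890 = n12904 := ndS (p := 10109) (l := 2) rfl N10109 D12904
theorem N12891 : nd 12891 = n12905 := ndS (p := 10109) (l := 5) rfl N10109 D12905
theorem N12892 : nd 12892 = n12906 := ndS (p := 10113) (l := 3) rfl N10113 D12906
theorem N12893 : nd 12893 = n12907 := ndS (p := 10114) (l := 2) rfl N10114 D12907
theorem N12894 : nd 12894 = n12908 := ndS (p := 10114) (l := 5) rfl N10114 D12908
theorem N12895 : nd 12895 = n12909 := ndS (p := 10116) (l := 1) rfl N10116 D12909
theorem N12896 : nd 12896 = n12910 := ndS (p := 10117) (l := 4) rfl N10117 D12910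
theorem N12897 : nd 12897 = n12911 := ndS (p := 10118) (l := 1) rfl N10118 D12911
theorem N12898 : nd 12898 = n12912 := ndS (p := 10118) (l := 3) rfl N10118 D12912
theorem N12899 : nd 12899 = n12913 := ndS (p := 10118) (l := 5) rfl N10118 D12913
theorem N12900 : nd 12900 = n12914 := ndS (p := 10120) (l := 0) rfl N10120 D12914
theorem N12901 : nd 12901 = n12915 := ndS (p := 10120) (l := 3) rfl N10120 D12915
theorem N12902 : nd 12902 = n12916 := ndS (p := 10120) (l := 5) rfl N10120 D12916
theorem N12903 : nd 12903 = n12917 := ndS (p := 10123) (l := 1) rfl N10123 D12917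
theorem N12904 : nd 12904 = n12918 := ndS (p := 10124) (l := 0) rfl N10124 D12918
theorem N12905 : nd 12905 = n12919 := ndS (p := 10124) (l := 3) rfl N10124 D12919
theorem N12906 : nd 12906 = n12920 := ndS (p := 10127) (l := 4) rfl N10127 D12920
theorem N12907 : nd 12907 = n12921 := ndS (p := 10128) (l := 5) rfl N10128 D12921
theorem N12908 : nd 12908 = n12922 := ndS (p := 10129) (l := 3) rfl N10129 D12922
theorem N12909 : nd 12909 = n12923 := ndS (p := 10131) (l := 2) rfl N10131 D12923
theorem N12910 : nd 12910 = n12924 := ndS (p := 10132) (l := 2) rfl N10132 D12924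
theorem N12911 : nd 12911 = n12925 := ndS (p := 10132) (l := 4) rfl N10132 D12925
theorem N12912 : nd 12912 = n12926 := ndS (p := 10132) (l := 5) rfl N10132 D12926
theorem N12913 : nd 12913 = n12927 := ndS (p := 10134) (l := 1) rfl N10134 D12927
theorem N12914 : nd 12914 = n12928 := ndS (p := 10134) (l := 3) rfl N10134 D12928
theorem N12915 : nd 12915 = n12929 := ndS (p := 10134) (l := 4) rfl N10134 D12929
theorem N12916 : nd 12916 = n12930 := ndS (p := 10135) (l := 5) rfl N10135 D12930
theorem N12917 : nd 12917 = n12931 := ndS (p := 10136) (l := 4) rfl N10136 D12931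
theorem N12918 : nd 12918 = n12932 := ndS (p := 10137) (l := 3) rfl N10137 D12932
theorem N12919 : nd 12919 = n12933 := ndS (p := 10137) (l := 5) rfl N10137 D12933
theorem N12920 : nd 12920 = n12934 := ndS (p := 10139) (l := 2) rfl N10139 D12934
theorem N12921 : nd 12921 = n12935 := ndS (p := 10140) (l := 5) rfl N10140 D12935
theorem N12922 : nd 12922 = n12936 := ndS (p := 10141) (l := 4) rfl N10141 D12936
theorem N12923 : nd 12923 = n12937 := ndS (p := 10142) (l := 3) rfl N10142 D12937
theorem N12924 : nd 12924 = n12938 := ndS (p := 10142) (l := 5) rfl N10142 D12938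
theorem N12925 : nd 12925 = n12939 := ndS (p := 10144) (l := 3) rfl N10144 D12939
theorem N12926 : nd 12926 = n12940 := ndS (p := 10144) (l := 5) rfl N10144 D12940
theorem N12927 : nd 12927 = n12941 := ndS (p := 10145) (l := 2) rfl N10145 D12941
theorem N12928 : nd 12928 = n12942 := ndS (p := 10145) (l := 5) rfl N10145 D12942
theorem N12929 : nd 12929 = n12943 := ndS (p := 10147) (l := 3) rfl N10147 D12943
theorem N12930 : nd 12930 = n12944 := ndS (p := 10148) (l := 2) rfl N10148 D12944
theorem N12931 : nd 12931 = n12945 := ndS (p := 10149) (l := 1) rfl N10149 D12945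
theorem N12932 : nd 12932 = n12946 := ndS (p := 10150) (l := 1) rfl N10150 D12946
theorem N12933 : nd 12933 = n12947 := ndS (p := 10150) (l := 3) rfl N10150 D12947
theorem N12934 : nd 12934 = n12948 := ndS (p := 10150) (l := 5) rfl N10150 D12948
theorem N12935 : nd 12935 = n12949 := ndS (p := 10152) (l := 0) rfl N10152 D12949
theorem N12936 : nd 12936 = n12950 := ndS (p := 10152) (l := 3) rfl N10152 D12950
theorem N12937 : nd 12937 = n12951 := ndS (p := 10153) (l := 2) rfl N10153 D12951
theorem N12938 : nd 12938 = n12952 := ndS (p := 10153) (l := 4) rfl N10153 D12952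
theorem N12939 : nd 12939 = n12953 := ndS (p := 10153) (l := 5) rfl N10153 D12953
theorem N12940 : nd 12940 = n12954 := ndS (p := 10158) (l := 4) rfl N10158 D12954
theorem N12941 : nd 12941 = n12955 := ndS (p := 10159) (l := 3) rfl N10159 D12955
theorem N12942 : nd 12942 = n12956 := ndS (p := 10160) (l := 4) rfl N10160 D12956
theorem N12943 : nd 12943 = n12957 := ndS (p := 10161) (l := 5) rfl N10161 D12957
theorem N12944 : nd 12944 = n12958 := ndS (p := 10162) (l := 1) rfl N10162 D12958
theorem N12945 : nd 12945 = n12959 := ndS (p := 10162) (l := 3) rfl N10162 D12959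
theorem N12946 : nd 12946 = n12960 := ndS (p := 10162) (l := 4) rfl N10162 D12960
theorem N12947 : nd 12947 = n12961 := ndS (p := 10165) (l := 2) rfl N10165 D12961
theorem N12948 : nd 12948 = n12962 := ndS (p := 10165) (l := 4) rfl N10165 D12962
theorem N12949 : nd 12949 = n12963 := ndS (p := 10166) (l := 3) rfl N10166 D12963
theorem N12950 : nd 12950 = n12964 := ndS (p := 10167) (l := 3) rfl N10167 D12964
theorem N12951 : nd 12951 = n12965 := ndS (p := 10167) (l := 5) rfl N10167 D12965
theorem N12952 : nd 12952 = n12966 := ndS (p := 10169) (l := 2) rfl N10169 D12966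
theorem N12953 : nd 12953 = n12967 := ndS (p := 10170) (l := 3) rfl N10170 D12967
theorem N12954 : nd 12954 = n12968 := ndS (p := 10170) (l := 5) rfl N10170 D12968
theorem N12955 : nd 12955 = n12969 := ndS (p := 10171) (l := 2) rfl N10171 D12969
theorem N12956 : nd 12956 = n12970 := ndS (p := 10171) (l := 5) rfl N10171 D12970
theorem N12957 : nd 12957 = n12971 := ndS (p := 10173) (l := 3) rfl N10173 D12971
theorem N12958 : nd 12958 = n12972 := ndS (p := 10174) (l := 2) rfl N10174 D12972
theorem N12959 : nd 12959 = n12973 := ndS (p := 10174) (l := 5) rfl N10174 D12973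
theorem N12960 : nd 12960 = n12974 := ndS (p := 10176) (l := 1) rfl N10176 D12974
theorem N12961 : nd 12961 = n12975 := ndS (p := 10176) (l := 3) rfl N10176 D12975
theorem N12962 : nd 12962 = n12976 := ndS (p := 10176) (l := 4) rfl N10176 D12976
theorem N12963 : nd 12963 = n12977 := ndS (p := 10177) (l := 5) rfl N10177 D12977
theorem N12964 : nd 12964 = n12978 := ndS (p := 10178) (l := 4) rfl N10178 D12978
theorem N12965 : nd 12965 = n12979 := ndS (p := 10179) (l := 3) rfl N10179 D12979
theorem N12966 : nd 12966 = n12980 := ndS (p := 10180) (l := 3) rfl N10180 D12980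
theorem N12967 : nd 12967 = n12981 := ndS (p := 10180) (l := 5) rfl N10180 D12981
theorem N12968 : nd 12968 = n12982 := ndS (p := 10182) (l := 2) rfl N10182 D12982
theorem N12969 : nd 12969 = n12983 := ndS (p := 10183) (l := 1) rfl N10183 D12983
theorem N12970 : nd 12970 = n12984 := ndS (p := 10183) (l := 3) rfl N10183 D12984
theorem N12971 : nd 12971 = n12985 := ndS (p := 10184) (l := 3) rfl N10184 D12985
theorem N12972 : nd 12972 = n12986 := ndS (p := 10185) (l := 2) rfl N10185 D12986
theorem N12973 : nd 12973 = n12987 := ndS (p := 10185) (l := 4) rfl N10185 D12987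
theorem N12974 : nd 12974 = n12988 := ndS (p := 10186) (l := 2) rfl N10186 D12988
theorem N12975 : nd 12975 = n12989 := ndS (p := 10187) (l := 0) rfl N10187 D12989
theorem N12976 : nd 12976 = n12990 := ndS (p := 10187) (l := 3) rfl N10187 D12990
theorem N12977 : nd 12977 = n12991 := ndS (p := 10187) (l := 4) rfl N10187 D12991
theorem N12978 : nd 12978 = n12992 := ndS (p := 10187) (l := 5) rfl N10187 D12992
theorem N12979 : nd 12979 = n12993 := ndS (p := 10188) (l := 4) rfl N10188 D12993
theorem N12980 : nd 12980 = n12994 := ndS (p := 10189) (l := 3) rfl N10189 D12994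
theorem N12981 : nd 12981 = n12995 := ndS (p := 10190) (l := 4) rfl N10190 D12995
theorem N12982 : nd 12982 = n12996 := ndS (p := 10192) (l := 4) rfl N10192 D12996
theorem N12983 : nd 12983 = n12997 := ndS (p := 10193) (l := 4) rfl N10193 D12997
theorem N12984 : nd 12984 = n12998 := ndS (p := 10194) (l := 3) rfl N10194 D12998
theorem N12985 : nd 12985 = n12999 := ndS (p := 10195) (l := 1) rfl N10195 D12999
theorem N12986 : nd 12986 = n13000 := ndS (p := 10195) (l := 4) rfl N10195 D13000
theorem N12987 : nd 12987 = n13001 := ndS (p := 10196) (l := 3) rfl N10196 D13001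
theorem N12988 : nd 12988 = n13002 := ndS (p := 10196) (l := 5) rfl N10196 D13002
theorem N12989 : nd 12989 = n13003 := ndS (p := 10197) (l := 4) rfl N10197 D13003
theorem N12990 : nd 12990 = n13004 := ndS (p := 10198) (l := 2) rfl N10198 D13004
theorem N12991 : nd 12991 = n13005 := ndS (p := 10199) (l := 3) rfl N10199 D13005
theorem N12992 : nd 12992 = n13006 := ndS (p := 10200) (l := 3) rfl N10200 D13006
theorem N12993 : nd 12993 = n13007 := ndS (p := 10201) (l := 2) rfl N10201 D13007
theorem N12994 : nd 12994 = n13008 := ndS (p := 10202) (l := 2) rfl N10202 D13008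
theorem N12995 : nd 12995 = n13009 := ndS (p := 10203) (l := 1) rfl N10203 D13009
theorem N12996 : nd 12996 = n13010 := ndS (p := 10203) (l := 3) rfl N10203 D13010
theorem N12997 : nd 12997 = n13011 := ndS (p := 10204) (l := 3) rfl N10204 D13011
theorem N12998 : nd 12998 = n13012 := ndS (p := 10205) (l := 2) rfl N10205 D13012
theorem N12999 : nd 12999 = n13013 := ndS (p := 10206) (l := 1) rfl N10206 D13013
theorem N13000 : nd 13000 = n13014 := ndS (p := 10206) (l := 3) rfl N10206 D13014
theorem N13001 : nd 13001 = n13015 := ndS (p := 10206) (l := 5) rfl N10206 D13015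
theorem N13002 : nd 13002 = n13016 := ndS (p := 10207) (l := 4) rfl N10207 D13016
theorem N13003 : nd 13003 = n13017 := ndS (p := 10208) (l := 1) rfl N10208 D13017
theorem N13004 : nd 13004 = n13018 := ndS (p := 10209) (l := 4) rfl N10209 D13018
theorem N13005 : nd 13005 = n13019 := ndS (p := 10210) (l := 0) rfl N10210 D13019
theorem N13006 : nd 13006 = n13020 := ndS (p := 10210) (l := 3) rfl N10210 D13020
theorem N13007 : nd 13007 = n13021 := ndS (p := 10210) (l := 5) rfl N10210 D13021
theorem N13008 : nd 13008 = n13022 := ndS (p := 10211) (l := 4) rfl N10211 D13022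
theorem N13009 : nd 13009 = n13023 := ndS (p := 10212) (l := 4) rfl N10212 D13023
theorem N13010 : nd 13010 = n13024 := ndS (p := 10215) (l := 2) rfl N10215 D13024
theorem N13011 : nd 13011 = n13025 := ndS (p := 10215) (l := 5) rfl N10215 D13025
theorem N13012 : nd 13012 = n13026 := ndS (p := 10217) (l := 0) rfl N10217 D13026
theorem N13013 : nd 13013 = n13027 := ndS (p := 10218) (l := 2) rfl N10218 D13027
theorem N13014 : nd 13014 = n13028 := ndS (p := 10219) (l := 1) rfl N10219 D13028
theorem N13015 : nd 13015 = n13029 := ndS (p := 10219) (l := 3) rfl N10219 D13029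
theorem N13016 : nd 13016 = n13030 := ndS (p := 10220) (l := 0) rfl N10220 D13030
theorem N13017 : nd 13017 = n13031 := ndS (p := 10221) (l := 4) rfl N10221 D13031
theorem N13018 : nd 13018 = n13032 := ndS (p := 10222) (l := 4) rfl N10222 D13032
theorem N13019 : nd 13019 = n13033 := ndS (p := 10223) (l := 3) rfl N10223 D13033
theorem N13020 : nd 13020 = n13034 := ndS (p := 10223) (l := 5) rfl N10223 D13034
theorem N13021 : nd 13021 = n13035 := ndS (p := 10225) (l := 4) rfl N10225 D13035
theorem N13022 : nd 13022 = n13036 := ndS (p := 10226) (l := 3) rfl N10226 D13036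
theorem N13023 : nd 13023 = n13037 := ndS (p := 10226) (l := 5) rfl N10226 D13037
theorem N13024 : nd 13024 = n13038 := ndS (p := 10227) (l := 2) rfl N10227 D13038
theorem N13025 : nd 13025 = n13039 := ndS (p := 10227) (l := 5) rfl N10227 D13039
theorem N13026 : nd 13026 = n13040 := ndS (p := 10229) (l := 4) rfl N10229 D13040
theorem N13027 : nd 13027 = n13041 := ndS (p := 10230) (l := 3) rfl N10230 D13041
theorem N13028 : nd 13028 = n13042 := ndS (p := 10230) (l := 5) rfl N10230 D13042
theorem N13029 : nd 13029 = n13043 := ndS (p := 10232) (l := 3) rfl N10232 D13043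
theorem N13030 : nd 13030 = n13044 := ndS (p := 10232) (l := 5) rfl N10232 D13044
theorem N13031 : nd 13031 = n13045 := ndS (p := 10233) (l := 2) rfl N10233 D13045
theorem N13032 : nd 13032 = n13046 := ndS (p := 10233) (l := 5) rfl N10233 D13046
theorem N13033 : nd 13033 = n13047 := ndS (p := 10235) (l := 4) rfl N10235 D13047
theorem N13034 : nd 13034 = n13048 := ndS (p := 10236) (l := 4) rfl N10236 D13048
theorem N13035 : nd 13035 = n13049 := ndS (p := 10237) (l := 3) rfl N10237 D13049
theorem N13036 : nd 13036 = n13050 := ndS (p := 10237) (l := 5) rfl N10237 D13050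
theorem N13037 : nd 13037 = n13051 := ndS (p := 10238) (l := 3) rfl N10238 D13051
theorem N13038 : nd 13038 = n13052 := ndS (p := 10238) (l := 5) rfl N10238 D13052
theorem N13039 : nd 13039 = n13053 := ndS (p := 10241) (l := 3) rfl N10241 D13053
theorem N13040 : nd 13040 = n13054 := ndS (p := 10241) (l := 5) rfl N10241 D13054
theorem N13041 : nd 13041 = n13055 := ndS (p := 10242) (l := 3) rfl N10242 D13055
theorem N13042 : nd 13042 = n13056 := ndS (p := 10242) (l := 5) rfl N10242 D13056
theorem N13043 : nd 13043 = n13057 := ndS (p := 10243) (l := 2) rfl N10243 D13057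
theorem N13044 : nd 13044 = n13058 := ndS (p := 10243) (l := 5) rfl N10243 D13058
theorem N13045 : nd 13045 = n13059 := ndS (p := 10245) (l := 4) rfl N10245 D13059
theorem N13046 : nd 13046 = n13060 := ndS (p := 10246) (l := 3) rfl N10246 D13060
theorem N13047 : nd 13047 = n13061 := ndS (p := 10246) (l := 5) rfl N10246 D13061
theorem N13048 : nd 13048 = n13062 := ndS (p := 10247) (l := 2) rfl N10247 D13062
theorem N13049 : nd 13049 = n13063 := ndS (p := 10247) (l := 5) rfl N10247 D13063
theorem N13050 : nd 13050 = n13064 := ndS (p := 10249) (l := 1) rfl N10249 D13064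
theorem N13051 : nd 13051 = n13065 := ndS (p := 10250) (l := 4) rfl N10250 D13065
theorem N13052 : nd 13052 = n13066 := ndS (p := 10251) (l := 2) rfl N10251 D13066
theorem N13053 : nd 13053 = n13067 := ndS (p := 10251) (l := 5) rfl N10251 D13067
theorem N13054 : nd 13054 = n13068 := ndS (p := 10253) (l := 1) rfl N10253 D13068
theorem N13055 : nd 13055 = n13069 := ndS (p := 10253) (l := 3) rfl N10253 D13069
theorem N13056 : nd 13056 = n13070 := ndS (p := 10253) (l := 5) rfl N10253 D13070
theorem N13057 : nd 13057 = n13071 := ndS (p := 10255) (l := 0) rfl N10255 D13071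
theorem N13058 : nd 13058 = n13072 := ndS (p := 10256) (l := 4) rfl N10256 D13072
theorem N13059 : nd 13059 = n13073 := ndS (p := 10257) (l := 3) rfl N10257 D13073
theorem N13060 : nd 13060 = n13074 := ndS (p := 10257) (l := 5) rfl N10257 D13074
theorem N13061 : nd 13061 = n13075 := ndS (p := 10259) (l := 2) rfl N10259 D13075
theorem N13062 : nd 13062 = n13076 := ndS (p := 10260) (l := 3) rfl N10260 D13076
theorem N13063 : nd 13063 = n13077 := ndS (p := 10260) (l := 5) rfl N10260 D13077
theorem N13064 : nd 13064 = n13078 := ndS (p := 10261) (l := 2) rfl N10261 D13078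
theorem N13065 : nd 13065 = n13079 := ndS (p := 10261) (l := 5) rfl N10261 D13079
theorem N13066 : nd 13066 = n13080 := ndS (p := 10263) (l := 3) rfl N10263 D13080
theorem N13067 : nd 13067 = n13081 := ndS (p := 10264) (l := 3) rfl N10264 D13081
theorem N13068 : nd 13068 = n13082 := ndS (p := 10264) (l := 5) rfl N10264 D13082
theorem N13069 : nd 13069 = n13083 := ndS (p := 10265) (l := 2) rfl N10265 D13083
theorem N13070 : nd 13070 = n13084 := ndS (p := 10265) (l := 5) rfl N10265 D13084
theorem N13071 : nd 13071 = n13085 := ndS (p := 10267) (l := 1) rfl N10267 D13085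
theorem N13072 : nd 13072 = n13086 := ndS (p := 10267) (l := 3) rfl N10267 D13086
theorem N13073 : nd 13073 = n13087 := ndS (p := 10268) (l := 2) rfl N10268 D13087
theorem N13074 : nd 13074 = n13088 := ndS (p := 10268) (l := 5) rfl N10268 D13088
theorem N13075 : nd 13075 = n13089 := ndS (p := 10270) (l := 1) rfl N10270 D13089
theorem N13076 : nd 13076 = n13090 := ndS (p := 10270) (l := 3) rfl N10270 D13090
theorem N13077 : nd 13077 = n13091 := ndS (p := 10270) (l := 5) rfl N10270 D13091
theorem N13078 : nd 13078 = n13092 := ndS (p := 10271) (l := 4) rfl N10271 D13092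
theorem N13079 : nd 13079 = n13093 := ndS (p := 10272) (l := 0) rfl N10272 D13093
theorem N13080 : nd 13080 = n13094 := ndS (p := 10272) (l := 3) rfl N10272 D13094
theorem N13081 : nd 13081 = n13095 := ndS (p := 10273) (l := 2) rfl N10273 D13095
theorem N13082 : nd 13082 = n13096 := ndS (p := 10273) (l := 4) rfl N10273 D13096
theorem N13083 : nd 13083 = n13097 := ndS (p := 10275) (l := 3) rfl N10275 D13097
theorem N13084 : nd 13084 = n13098 := ndS (p := 10275) (l := 5) rfl N10275 D13098
theorem N13085 : nd 13085 = n13099 := ndS (p := 10276) (l := 3) rfl N10276 D13099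
theorem N13086 : nd 13086 = n13100 := ndS (p := 10276) (l := 5) rfl N10276 D13100
theorem N13087 : nd 13087 = n13101 := ndS (p := 10277) (l := 2) rfl N10277 D13101
theorem N13088 : nd 13088 = n13102 := ndS (p := 10277) (l := 5) rfl N10277 D13102
theorem N13089 : nd 13089 = n13103 := ndS (p := 10279) (l := 1) rfl N10279 D13103
theorem N13090 : nd 13090 = n13104 := ndS (p := 10280) (l := 3) rfl N10280 D13104
theorem N13091 : nd 13091 = n13105 := ndS (p := 10280) (l := 5) rfl N10280 D13105
theorem N13092 : nd 13092 = n13106 := ndS (p := 10281) (l := 2) rfl N10281 D13106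
theorem N13093 : nd 13093 = n13107 := ndS (p := 10281) (l := 5) rfl N10281 D13107
theorem N13094 : nd 13094 = n13108 := ndS (p := 10283) (l := 1) rfl N10283 D13108
theorem N13095 : nd 13095 = n13109 := ndS (p := 10283) (l := 3) rfl N10283 D13109
theorem N13096 : nd 13096 = n13110 := ndS (p := 10283) (l := 5) rfl N10283 D13110
theorem N13097 : nd 13097 = n13111 := ndS (p := 10284) (l := 4) rfl N10284 D13111
theorem N13098 : nd 13098 = n13112 := ndS (p := 10285) (l := 0) rfl N10285 D13112
theorem N13099 : nd 13099 = n13113 := ndS (p := 10285) (l := 3) rfl N10285 D13113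
theorem N13100 : nd 13100 = n13114 := ndS (p := 10286) (l := 4) rfl N10286 D13114
theorem N13101 : nd 13101 = n13115 := ndS (p := 10288) (l := 3) rfl N10288 D13115
theorem N13102 : nd 13102 = n13116 := ndS (p := 10288) (l := 5) rfl N10288 D13116
theorem N13103 : nd 13103 = n13117 := ndS (p := 10289) (l := 2) rfl N10289 D13117
theorem N13104 : nd 13104 = n13118 := ndS (p := 10289) (l := 5) rfl N10289 D13118
theorem N13105 : nd 13105 = n13119 := ndS (p := 10291) (l := 2) rfl N10291 D13119
theorem N13106 : nd 13106 = n13120 := ndS (p := 10291) (l := 5) rfl N10291 D13120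
theorem N13107 : nd 13107 = n13121 := ndS (p := 10293) (l := 1) rfl N10293 D13121
theorem N13108 : nd 13108 = n13122 := ndS (p := 10294) (l := 4) rfl N10294 D13122
theorem N13109 : nd 13109 = n13123 := ndS (p := 10295) (l := 0) rfl N10295 D13123
theorem N13110 : nd 13110 = n13124 := ndS (p := 10295) (l := 3) rfl N10295 D13124
theorem N13111 : nd 13111 = n13125 := ndS (p := 10296) (l := 4) rfl N10296 D13125
theorem N13112 : nd 13112 = n13126 := ndS (p := 10297) (l := 3) rfl N10297 D13126
theorem N13113 : nd 13113 = n13127 := ndS (p := 10297) (l := 5) rfl N10297 D13127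
theorem N13114 : nd 13114 = n13128 := ndS (p := 10298) (l := 2) rfl N10298 D13128
theorem N13115 : nd 13115 = n13129 := ndS (p := 10298) (l := 5) rfl N10298 D13129
theorem N13116 : nd 13116 = n13130 := ndS (p := 10300) (l := 1) rfl N10300 D13130
theorem N13117 : nd 13117 = n13131 := ndS (p := 10300) (l := 3) rfl N10300 D13131
theorem N13118 : nd 13118 = n13132 := ndS (p := 10300) (l := 5) rfl N10300 D13132
theorem N13119 : nd 13119 = n13133 := ndS (p := 10301) (l := 4) rfl N10301 D13133
theorem N13120 : nd 13120 = n13134 := ndS (p := 10302) (l := 0) rfl N10302 D13134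
theorem N13121 : nd 13121 = n13135 := ndS (p := 10302) (l := 3) rfl N10302 D13135
theorem N13122 : nd 13122 = n13136 := ndS (p := 10302) (l := 5) rfl N10302 D13136
theorem N13123 : nd 13123 = n13137 := ndS (p := 10303) (l := 4) rfl N10303 D13137
theorem N13124 : nd 13124 = n13138 := ndS (p := 10304) (l := 4) rfl N10304 D13138
theorem N13125 : nd 13125 = n13139 := ndS (p := 10306) (l := 3) rfl N10306 D13139
theorem N13126 : nd 13126 = n13140 := ndS (p := 10307) (l := 2) rfl N10307 D13140
theorem N13127 : nd 13127 = n13141 := ndS (p := 10307) (l := 4) rfl N10307 D13141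
theorem N13128 : nd 13128 = n13142 := ndS (p := 10308) (l := 1) rfl N10308 D13142
theorem N13129 : nd 13129 = n13143 := ndS (p := 10308) (l := 4) rfl N10308 D13143
theorem N13130 : nd 13130 = n13144 := ndS (p := 10309) (l := 5) rfl N10309 D13144
theorem N13131 : nd 13131 = n13145 := ndS (p := 10310) (l := 2) rfl N10310 D13145
theorem N13132 : nd 13132 = n13146 := ndS (p := 10311) (l := 3) rfl N10311 D13146
theorem N13133 : nd 13133 = n13147 := ndS (p := 10312) (l := 3) rfl N10312 D13147
theorem N13134 : nd 13134 = n13148 := ndS (p := 10312) (l := 5) rfl N10312 D13148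
theorem N13135 : nd 13135 = n13149 := ndS (p := 10313) (l := 2) rfl N10313 D13149
theorem N13136 : nd 13136 = n13150 := ndS (p := 10313) (l := 5) rfl N10313 D13150
theorem N13137 : nd 13137 = n13151 := ndS (p := 10315) (l := 2) rfl N10315 D13151
theorem N13138 : nd 13138 = n13152 := ndS (p := 10315) (l := 5) rfl N10315 D13152
theorem N13139 : nd 13139 = n13153 := ndS (p := 10317) (l := 1) rfl N10317 D13153
theorem N13140 : nd 13140 = n13154 := ndS (p := 10317) (l := 3) rfl N10317 D13154
theorem N13141 : nd 13141 = n13155 := ndS (p := 10317) (l := 5) rfl N10317 D13155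
theorem N13142 : nd 13142 = n13156 := ndS (p := 10318) (l := 4) rfl N10318 D13156
theorem N13143 : nd 13143 = n13157 := ndS (p := 10319) (l := 3) rfl N10319 D13157
theorem N13144 : nd 13144 = n13158 := ndS (p := 10319) (l := 5) rfl N10319 D13158
theorem N13145 : nd 13145 = n13159 := ndS (p := 10320) (l := 2) rfl N10320 D13159
theorem N13146 : nd 13146 = n13160 := ndS (p := 10320) (l := 5) rfl N10320 D13160
theorem N13147 : nd 13147 = n13161 := ndS (p := 10322) (l := 1) rfl N10322 D13161
theorem N13148 : nd 13148 = n13162 := ndS (p := 10323) (l := 4) rfl N10323 D13162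
theorem N13149 : nd 13149 = n13163 := ndS (p := 10324) (l := 3) rfl N10324 D13163
theorem N13150 : nd 13150 = n13164 := ndS (p := 10325) (l := 2) rfl N10325 D13164
theorem N13151 : nd 13151 = n13165 := ndS (p := 10325) (l := 5) rfl N10325 D13165
theorem N13152 : nd 13152 = n13166 := ndS (p := 10327) (l := 2) rfl N10327 D13166
theorem N13153 : nd 13153 = n13167 := ndS (p := 10327) (l := 5) rfl N10327 D13167
theorem N13154 : nd 13154 = n13168 := ndS (p := 10329) (l := 1) rfl N10329 D13168
theorem N13155 : nd 13155 = n13169 := ndS (p := 10329) (l := 3) rfl N10329 D13169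
theorem N13156 : nd 13156 = n13170 := ndS (p := 10329) (l := 5) rfl N10329 D13170
theorem N13157 : nd 13157 = n13171 := ndS (p := 10330) (l := 4) rfl N10330 D13171
theorem N13158 : nd 13158 = n13172 := ndS (p := 10331) (l := 1) rfl N10331 D13172
theorem N13159 : nd 13159 = n13173 := ndS (p := 10332) (l := 4) rfl N10332 D13173
theorem N13160 : nd 13160 = n13174 := ndS (p := 10333) (l := 0) rfl N10333 D13174
theorem N13161 : nd 13161 = n13175 := ndS (p := 10333) (l := 3) rfl N10333 D13175
theorem N13162 : nd 13162 = n13176 := ndS (p := 10333) (l := 5) rfl N10333 D13176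
theorem N13163 : nd 13163 = n13177 := ndS (p := 10334) (l := 4) rfl N10334 D13177
theorem N13164 : nd 13164 = n13178 := ndS (p := 10335) (l := 4) rfl N10335 D13178
theorem N13165 : nd 13165 = n13179 := ndS (p := 10337) (l := 1) rfl N10337 D13179
theorem N13166 : nd 13166 = n13180 := ndS (p := 10337) (l := 3) rfl N10337 D13180
theorem N13167 : nd 13167 = n13181 := ndS (p := 10337) (l := 5) rfl N10337 D13181
theorem N13168 : nd 13168 = n13182 := ndS (p := 10338) (l := 4) rfl N10338 D13182
theorem N13169 : nd 13169 = n13183 := ndS (p := 10339) (l := 0) rfl N10339 D13183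
theorem N13170 : nd 13170 = n13184 := ndS (p := 10339) (l := 3) rfl N10339 D13184
theorem N13171 : nd 13171 = n13185 := ndS (p := 10340) (l := 2) rfl N10340 D13185
theorem N13172 : nd 13172 = n13186 := ndS (p := 10340) (l := 4) rfl N10340 D13186
theorem N13173 : nd 13173 = n13187 := ndS (p := 10340) (l := 5) rfl N10340 D13187
theorem N13174 : nd 13174 = n13188 := ndS (p := 10341) (l := 4) rfl N10341 D13188
theorem N13175 : nd 13175 = n13189 := ndS (p := 10344) (l := 1) rfl N10344 D13189
theorem N13176 : nd 13176 = n13190 := ndS (p := 10344) (l := 3) rfl N10344 D13190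
theorem N13177 : nd 13177 = n13191 := ndS (p := 10344) (l := 5) rfl N10344 D13191
theorem N13178 : nd 13178 = n13192 := ndS (p := 10345) (l := 4) rfl N10345 D13192
theorem N13179 : nd 13179 = n13193 := ndS (p := 10346) (l := 0) rfl N10346 D13193
theorem N13180 : nd 13180 = n13194 := ndS (p := 10348) (l := 0) rfl N10348 D13194
theorem N13181 : nd 13181 = n13195 := ndS (p := 10348) (l := 3) rfl N10348 D13195
theorem N13182 : nd 13182 = n13196 := ndS (p := 10348) (l := 5) rfl N10348 D13196
theorem N13183 : nd 13183 = n13197 := ndS (p := 10349) (l := 4) rfl N10349 D13197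
theorem N13184 : nd 13184 = n13198 := ndS (p := 10350) (l := 4) rfl N10350 D13198
theorem N13185 : nd 13185 = n13199 := ndS (p := 10352) (l := 3) rfl N10352 D13199
theorem N13186 : nd 13186 = n13200 := ndS (p := 10352) (l := 5) rfl N10352 D13200
theorem N13187 : nd 13187 = n13201 := ndS (p := 10353) (l := 2) rfl N10353 D13201
theorem N13188 : nd 13188 = n13202 := ndS (p := 10353) (l := 4) rfl N10353 D13202
theorem N13189 : nd 13189 = n13203 := ndS (p := 10354) (l := 4) rfl N10354 D13203
theorem N13190 : nd 13190 = n13204 := ndS (p := 10355) (l := 5) rfl N10355 D13204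
theorem N13191 : nd 13191 = n13205 := ndS (p := 10356) (l := 3) rfl N10356 D13205
theorem N13192 : nd 13192 = n13206 := ndS (p := 10357) (l := 2) rfl N10357 D13206
theorem N13193 : nd 13193 = n13207 := ndS (p := 10357) (l := 4) rfl N10357 D13207
theorem N13194 : nd 13194 = n13208 := ndS (p := 10357) (l := 5) rfl N10357 D13208
theorem N13195 : nd 13195 = n13209 := ndS (p := 10359) (l := 1) rfl N10359 D13209
theorem N13196 : nd 13196 = n13210 := ndS (p := 10359) (l := 4) rfl N10359 D13210
theorem N13197 : nd 13197 = n13211 := ndS (p := 10360) (l := 5) rfl N10360 D13211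
theorem N13198 : nd 13198 = n13212 := ndS (p := 10361) (l := 4) rfl N10361 D13212
theorem N13199 : nd 13199 = n13213 := ndS (p := 10362) (l := 2) rfl N10362 D13213
theorem N13200 : nd 13200 = n13214 := ndS (p := 10364) (l := 3) rfl N10364 D13214
theorem N13201 : nd 13201 = n13215 := ndS (p := 10365) (l := 3) rfl N10365 D13215
theorem N13202 : nd 13202 = n13216 := ndS (p := 10366) (l := 3) rfl N10366 D13216
theorem N13203 : nd 13203 = n13217 := ndS (p := 10367) (l := 2) rfl N10367 D13217
theorem N13204 : nd 13204 = n13218 := ndS (p := 10368) (l := 1) rfl N10368 D13218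
theorem N13205 : nd 13205 = n13219 := ndS (p := 10368) (l := 3) rfl N10368 D13219
theorem N13206 : nd 13206 = n13220 := ndS (p := 10368) (l := 5) rfl N10368 D13220
theorem N13207 : nd 13207 = n13221 := ndS (p := 10369) (l := 4) rfl N10369 D13221
theorem N13208 : nd 13208 = n13222 := ndS (p := 10371) (l := 2) rfl N10371 D13222
theorem N13209 : nd 13209 = n13223 := ndS (p := 10372) (l := 1) rfl N10372 D13223
theorem N13210 : nd 13210 = n13224 := ndS (p := 10373) (l := 1) rfl N10373 D13224
theorem N13211 : nd 13211 = n13225 := ndS (p := 10373) (l := 3) rfl N10373 D13225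
theorem N13212 : nd 13212 = n13226 := ndS (p := 10373) (l := 5) rfl N10373 D13226
theorem N13213 : nd 13213 = n13227 := ndS (p := 10374) (l := 4) rfl N10374 D13227
theorem N13214 : nd 13214 = n13228 := ndS (p := 10375) (l := 3) rfl N10375 D13228
theorem N13215 : nd 13215 = n13229 := ndS (p := 10375) (l := 4) rfl N10375 D13229
theorem N13216 : nd 13216 = n13230 := ndS (p := 10376) (l := 2) rfl N10376 D13230
theorem N13217 : nd 13217 = n13231 := ndS (p := 10376) (l := 4) rfl N10376 D13231
theorem N13218 : nd 13218 = n13232 := ndS (p := 10377) (l := 3) rfl N10377 D13232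
theorem N13219 : nd 13219 = n13233 := ndS (p := 10377) (l := 5) rfl N10377 D13233
theorem N13220 : nd 13220 = n13234 := ndS (p := 10378) (l := 4) rfl N10378 D13234
theorem N13221 : nd 13221 = n13235 := ndS (p := 10380) (l := 2) rfl N10380 D13235
theorem N13222 : nd 13222 = n13236 := ndS (p := 10380) (l := 5) rfl N10380 D13236
theorem N13223 : nd 13223 = n13237 := ndS (p := 10382) (l := 1) rfl N10382 D13237
theorem N13224 : nd 13224 = n13238 := ndS (p := 10383) (l := 2) rfl N10383 D13238
theorem N13225 : nd 13225 = n13239 := ndS (p := 10383) (l := 5) rfl N10383 D13239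
theorem N13226 : nd 13226 = n13240 := ndS (p := 10385) (l := 1) rfl N10385 D13240
theorem N13227 : nd 13227 = n13241 := ndS (p := 10385) (l := 3) rfl N10385 D13241
theorem N13228 : nd 13228 = n13242 := ndS (p := 10385) (l := 5) rfl N10385 D13242
theorem N13229 : nd 13229 = n13243 := ndS (p := 10387) (l := 2) rfl N10387 D13243
theorem N13230 : nd 13230 = n13244 := ndS (p := 10388) (l := 1) rfl N10388 D13244
theorem N13231 : nd 13231 = n13245 := ndS (p := 10388) (l := 3) rfl N10388 D13245
theorem N13232 : nd 13232 = n13246 := ndS (p := 10389) (l := 0) rfl N10389 D13246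
theorem N13233 : nd 13233 = n13247 := ndS (p := 10390) (l := 0) rfl N10390 D13247
theorem N13234 : nd 13234 = n13248 := ndS (p := 10390) (l := 3) rfl N10390 D13248
theorem N13235 : nd 13235 = n13249 := ndS (p := 10390) (l := 5) rfl N10390 D13249
theorem N13236 : nd 13236 = n13250 := ndS (p := 10392) (l := 4) rfl N10392 D13250
theorem N13237 : nd 13237 = n13251 := ndS (p := 10394) (l := 3) rfl N10394 D13251
theorem N13238 : nd 13238 = n13252 := ndS (p := 10395) (l := 2) rfl N10395 D13252
theorem N13239 : nd 13239 = n13253 := ndS (p := 10397) (l := 4) rfl N10397 D13253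
theorem N13240 : nd 13240 = n13254 := ndS (p := 10398) (l := 3) rfl N10398 D13254
theorem N13241 : nd 13241 = n13255 := ndS (p := 10399) (l := 2) rfl N10399 D13255
theorem N13242 : nd 13242 = n13256 := ndS (p := 10400) (l := 3) rfl N10400 D13256
theorem N13243 : nd 13243 = n13257 := ndS (p := 10401) (l := 5) rfl N10401 D13257
theorem N13244 : nd 13244 = n13258 := ndS (p := 10403) (l := 3) rfl N10403 D13258
theorem N13245 : nd 13245 = n13259 := ndS (p := 10403) (l := 4) rfl N10403 D13259
theorem N13246 : nd 13246 = n13260 := ndS (p := 10404) (l := 4) rfl N10404 D13260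
theorem N13247 : nd 13247 = n13261 := ndS (p := 10405) (l := 3) rfl N10405 D13261
theorem N13248 : nd 13248 = n13262 := ndS (p := 10405) (l := 5) rfl N10405 D13262
theorem N13249 : nd 13249 = n13263 := ndS (p := 10407) (l := 2) rfl N10407 D13263
theorem N13250 : nd 13250 = n13264 := ndS (p := 10408) (l := 1) rfl N10408 D13264
theorem N13251 : nd 13251 = n13265 := ndS (p := 10408) (l := 4) rfl N10408 D13265
theorem N13252 : nd 13252 = n13266 := ndS (p := 10409) (l := 3) rfl N10409 D13266
theorem N13253 : nd 13253 = n13267 := ndS (p := 10409) (l := 5) rfl N10409 D13267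
theorem N13254 : nd 13254 = n13268 := ndS (p := 10410) (l := 2) rfl N10410 D13268
theorem N13255 : nd 13255 = n13269 := ndS (p := 10410) (l := 5) rfl N10410 D13269
theorem N13256 : nd 13256 = n13270 := ndS (p := 10412) (l := 3) rfl N10412 D13270
theorem N13257 : nd 13257 = n13271 := ndS (p := 10413) (l := 2) rfl N10413 D13271
theorem N13258 : nd 13258 = n13272 := ndS (p := 10413) (l := 5) rfl N10413 D13272
theorem N13259 : nd 13259 = n13273 := ndS (p := 10415) (l := 1) rfl N10415 D13273
theorem N13260 : nd 13260 = n13274 := ndS (p := 10415) (l := 3) rfl N10415 D13274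
theorem N13261 : nd 13261 = n13275 := ndS (p := 10416) (l := 2) rfl N10416 D13275
theorem N13262 : nd 13262 = n13276 := ndS (p := 10416) (l := 5) rfl N10416 D13276
theorem N13263 : nd 13263 = n13277 := ndS (p := 10418) (l := 1) rfl N10418 D13277
theorem N13264 : nd 13264 = n13278 := ndS (p := 10418) (l := 3) rfl N10418 D13278
theorem N13265 : nd 13265 = n13279 := ndS (p := 10418) (l := 5) rfl N10418 D13279
theorem N13266 : nd 13266 = n13280 := ndS (p := 10419) (l := 4) rfl N10419 D13280
theorem N13267 : nd 13267 = n13281 := ndS (p := 10420) (l := 0) rfl N10420 D13281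
theorem N13268 : nd 13268 = n13282 := ndS (p := 10420) (l := 3) rfl N10420 D13282
theorem N13269 : nd 13269 = n13283 := ndS (p := 10421) (l := 2) rfl N10421 D13283
theorem N13270 : nd 13270 = n13284 := ndS (p := 10421) (l := 4) rfl N10421 D13284
theorem N13271 : nd 13271 = n13285 := ndS (p := 10423) (l := 1) rfl N10423 D13285
theorem N13272 : nd 13272 = n13286 := ndS (p := 10423) (l := 4) rfl N10423 D13286
theorem N13273 : nd 13273 = n13287 := ndS (p := 10423) (l := 5) rfl N10423 D13287
theorem N13274 : nd 13274 = n13288 := ndS (p := 10424) (l := 5) rfl N10424 D13288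
theorem N13275 : nd 13275 = n13289 := ndS (p := 10425) (l := 4) rfl N10425 D13289
theorem N13276 : nd 13276 = n13290 := ndS (p := 10426) (l := 3) rfl N10426 D13290
theorem N13277 : nd 13277 = n13291 := ndS (p := 10426) (l := 4) rfl N10426 D13291
theorem N13278 : nd 13278 = n13292 := ndS (p := 10427) (l := 4) rfl N10427 D13292
theorem N13279 : nd 13279 = n13293 := ndS (p := 10428) (l := 3) rfl N10428 D13293
theorem N13280 : nd 13280 = n13294 := ndS (p := 10428) (l := 5) rfl N10428 D13294
theorem N13281 : nd 13281 = n13295 := ndS (p := 10429) (l := 4) rfl N10429 D13295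
theorem N13282 : nd 13282 = n13296 := ndS (p := 10430) (l := 3) rfl N10430 D13296
theorem N13283 : nd 13283 = n13297 := ndS (p := 10431) (l := 2) rfl N10431 D13297
theorem N13284 : nd 13284 = n13298 := ndS (p := 10432) (l := 2) rfl N10432 D13298
theorem N13285 : nd 13285 = n13299 := ndS (p := 10432) (l := 5) rfl N10432 D13299
theorem N13286 : nd 13286 = n13300 := ndS (p := 10434) (l := 1) rfl N10434 D13300
theorem N13287 : nd 13287 = n13305 := ndS (p := 10437) (l := 5) rfl N10437 D13305
theorem N13288 : nd 13288 = n13306 := ndS (p := 10439) (l := 2) rfl N10439 D13306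
theorem N13289 : nd 13289 = n13312 := ndS (p := 10441) (l := 5) rfl N10441 D13312
theorem N13290 : nd 13290 = n13313 := ndS (p := 10443) (l := 3) rfl N10443 D13313
theorem N13291 : nd 13291 = n13314 := ndS (p := 10444) (l := 4) rfl N10444 D13314
theorem N13292 : nd 13292 = n13315 := ndS (p := 10445) (l := 4) rfl N10445 D13315
theorem N13293 : nd 13293 = n13316 := ndS (p := 10446) (l := 3) rfl N10446 D13316
theorem N13294 : nd 13294 = n13317 := ndS (p := 10446) (l := 5) rfl N10446 D13317
theorem N13295 : nd 13295 = n13318 := ndS (p := 10447) (l := 4) rfl N10447 D13318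
theorem N13296 : nd 13296 = n13319 := ndS (p := 10448) (l := 3) rfl N10448 D13319
theorem N13297 : nd 13297 = n13320 := ndS (p := 10448) (l := 5) rfl N10448 D13320
theorem N13298 : nd 13298 = n13321 := ndS (p := 10449) (l := 5) rfl N10449 D13321
theorem N13299 : nd 13299 = n13322 := ndS (p := 10450) (l := 4) rfl N10450 D13322
theorem N13300 : nd 13300 = n13323 := ndS (p := 10451) (l := 3) rfl N10451 D13323
theorem N13301 : nd 13301 = n13324 := ndS (p := 10453) (l := 2) rfl N10453 D13324
theorem N13302 : nd 13302 = n13325 := ndS (p := 10454) (l := 1) rfl N10454 D13325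
theorem N13303 : nd 13303 = n13326 := ndS (p := 10455) (l := 3) rfl N10455 D13326
theorem N13304 : nd 13304 = n13327 := ndS (p := 10456) (l := 3) rfl N10456 D13327
theorem N13305 : nd 13305 = n13328 := ndS (p := 10456) (l := 5) rfl N10456 D13328
theorem N13306 : nd 13306 = n13329 := ndS (p := 10457) (l := 2) rfl N10457 D13329
theorem N13307 : nd 13307 = n13330 := ndS (p := 10458) (l := 4) rfl N10458 D13330
theorem N13308 : nd 13308 = n13331 := ndS (p := 10459) (l := 3) rfl N10459 D13331
theorem N13309 : nd 13309 = n13332 := ndS (p := 10459) (l := 5) rfl N10459 D13332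
theorem N13310 : nd 13310 = n13333 := ndS (p := 10460) (l := 2) rfl N10460 D13333
theorem N13311 : nd 13311 = n13334 := ndS (p := 10460) (l := 5) rfl N10460 D13334
theorem N13312 : nd 13312 = n13335 := ndS (p := 10461) (l := 4) rfl N10461 D13335
theorem N13313 : nd 13313 = n13336 := ndS (p := 10462) (l := 3) rfl N10462 D13336
theorem N13314 : nd 13314 = n13337 := ndS (p := 10463) (l := 1) rfl N10463 D13337
theorem N13315 : nd 13315 = n13338 := ndS (p := 10463) (l := 5) rfl N10463 D13338
theorem N13316 : nd 13316 = n13339 := ndS (p := 10464) (l := 4) rfl N10464 D13339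
theorem N13317 : nd 13317 = n13340 := ndS (p := 10465) (l := 3) rfl N10465 D13340
theorem N13318 : nd 13318 = n13341 := ndS (p := 10466) (l := 2) rfl N10466 D13341
theorem N13319 : nd 13319 = n13342 := ndS (p := 10467) (l := 3) rfl N10467 D13342
theorem N13320 : nd 13320 = n13343 := ndS (p := 10468) (l := 0) rfl N10468 D13343
theorem N13321 : nd 13321 = n13344 := ndS (p := 10468) (l := 3) rfl N10468 D13344
theorem N13322 : nd 13322 = n13345 := ndS (p := 10469) (l := 4) rfl N10469 D13345
theorem N13323 : nd 13323 = n13346 := ndS (p := 10471) (l := 2) rfl N10471 D13346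
theorem N13324 : nd 13324 = n13347 := ndS (p := 10471) (l := 5) rfl N10471 D13347
theorem N13325 : nd 13325 = n13348 := ndS (p := 10473) (l := 1) rfl N10473 D13348
theorem N13326 : nd 13326 = n13349 := ndS (p := 10474) (l := 0) rfl N10474 D13349
theorem N13327 : nd 13327 = n13350 := ndS (p := 10474) (l := 3) rfl N10474 D13350
theorem N13328 : nd 13328 = n13351 := ndS (p := 10475) (l := 4) rfl N10475 D13351
theorem N13329 : nd 13329 = n13352 := ndS (p := 10476) (l := 2) rfl N10476 D13352
theorem N13330 : nd 13330 = n13353 := ndS (p := 10476) (l := 5) rfl N10476 D13353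
theorem N13331 : nd 13331 = n13354 := ndS (p := 10478) (l := 1) rfl N10478 D13354
theorem N13332 : nd 13332 = n13355 := ndS (p := 10478) (l := 3) rfl N10478 D13355
theorem N13333 : nd 13333 = n13356 := ndS (p := 10478) (l := 5) rfl N10478 D13356
theorem N13334 : nd 13334 = n13357 := ndS (p := 10480) (l := 0) rfl N10480 D13357
theorem N13335 : nd 13335 = n13358 := ndS (p := 10480) (l := 3) rfl N10480 D13358
theorem N13336 : nd 13336 = n13359 := ndS (p := 10481) (l := 4) rfl N10481 D13359
theorem N13337 : nd 13337 = n13360 := ndS (p := 10482) (l := 3) rfl N10482 D13360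
theorem N13338 : nd 13338 = n13361 := ndS (p := 10483) (l := 2) rfl N10483 D13361
theorem N13339 : nd 13339 = n13362 := ndS (p := 10483) (l := 4) rfl N10483 D13362
theorem N13340 : nd 13340 = n13363 := ndS (p := 10484) (l := 1) rfl N10484 D13363
theorem N13341 : nd 13341 = n13364 := ndS (p := 10484) (l := 4) rfl N10484 D13364
theorem N13342 : nd 13342 = n13365 := ndS (p := 10485) (l := 5) rfl N10485 D13365
theorem N13343 : nd 13343 = n13366 := ndS (p := 10486) (l := 2) rfl N10486 D13366
theorem N13344 : nd 13344 = n13367 := ndS (p := 10487) (l := 3) rfl N10487 D13367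
theorem N13345 : nd 13345 = n13368 := ndS (p := 10488) (l := 1) rfl N10488 D13368
theorem N13346 : nd 13346 = n13369 := ndS (p := 10488) (l := 3) rfl N10488 D13369
theorem N13347 : nd 13347 = n13370 := ndS (p := 10489) (l := 2) rfl N10489 D13370
theorem N13348 : nd 13348 = n13371 := ndS (p := 10489) (l := 4) rfl N10489 D13371
theorem N13349 : nd 13349 = n13372 := ndS (p := 10490) (l := 2) rfl N10490 D13372
theorem N13350 : nd 13350 = n13373 := ndS (p := 10490) (l := 5) rfl N10490 D13373
theorem N13351 : nd 13351 = n13374 := ndS (p := 10492) (l := 1) rfl N10492 D13374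
theorem N13352 : nd 13352 = n13375 := ndS (p := 10492) (l := 3) rfl N10492 D13375
theorem N13353 : nd 13353 = n13376 := ndS (p := 10492) (l := 5) rfl N10492 D13376
theorem N13354 : nd 13354 = n13377 := ndS (p := 10493) (l := 4) rfl N10493 D13377
theorem N13355 : nd 13355 = n13378 := ndS (p := 10494) (l := 2) rfl N10494 D13378
theorem N13356 : nd 13356 = n13379 := ndS (p := 10494) (l := 5) rfl N10494 D13379
theorem N13357 : nd 13357 = n13380 := ndS (p := 10496) (l := 1) rfl N10496 D13380
theorem N13358 : nd 13358 = n13381 := ndS (p := 10496) (l := 3) rfl N10496 D13381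
theorem N13359 : nd 13359 = n13382 := ndS (p := 10496) (l := 5) rfl N10496 D13382
theorem N13360 : nd 13360 = n13383 := ndS (p := 10498) (l := 0) rfl N10498 D13383
theorem N13361 : nd 13361 = n13384 := ndS (p := 10499) (l := 1) rfl N10499 D13384
theorem N13362 : nd 13362 = n13385 := ndS (p := 10500) (l := 0) rfl N10500 D13385
theorem N13363 : nd 13363 = n13386 := ndS (p := 10500) (l := 3) rfl N10500 D13386
theorem N13364 : nd 13364 = n13387 := ndS (p := 10504) (l := 4) rfl N10504 D13387
theorem N13365 : nd 13365 = n13388 := ndS (p := 10505) (l := 4) rfl N10505 D13388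
theorem N13366 : nd 13366 = n13389 := ndS (p := 10506) (l := 5) rfl N10506 D13389
theorem N13367 : nd 13367 = n13390 := ndS (p := 10507) (l := 3) rfl N10507 D13390
theorem N13368 : nd 13368 = n13391 := ndS (p := 10508) (l := 5) rfl N10508 D13391
theorem N13369 : nd 13369 = n13392 := ndS (p := 10509) (l := 4) rfl N10509 D13392
theorem N13370 : nd 13370 = n13393 := ndS (p := 10510) (l := 3) rfl N10510 D13393
theorem N13371 : nd 13371 = n13394 := ndS (p := 10510) (l := 5) rfl N10510 D13394
theorem N13372 : nd 13372 = n13395 := ndS (p := 10511) (l := 4) rfl N10511 D13395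
theorem N13373 : nd 13373 = n13396 := ndS (p := 10512) (l := 3) rfl N10512 D13396
theorem N13374 : nd 13374 = n13397 := ndS (p := 10513) (l := 2) rfl N10513 D13397
theorem N13375 : nd 13375 = n13398 := ndS (p := 10514) (l := 0) rfl N10514 D13398
theorem N13376 : nd 13376 = n13399 := ndS (p := 10516) (l := 0) rfl N10516 D13399
theorem N13377 : nd 13377 = n13400 := ndS (p := 10516) (l := 3) rfl N10516 D13400
theorem N13378 : nd 13378 = n13401 := ndS (p := 10516) (l := 5) rfl N10516 D13401
theorem N13379 : nd 13379 = n13402 := ndS (p := 10517) (l := 4) rfl N10517 D13402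
theorem N13380 : nd 13380 = n13403 := ndS (p := 10518) (l := 4) rfl N10518 D13403
theorem N13381 : nd 13381 = n13404 := ndS (p := 10520) (l := 3) rfl N10520 D13404
theorem N13382 : nd 13382 = n13405 := ndS (p := 10520) (l := 5) rfl N10520 D13405
theorem N13383 : nd 13383 = n13406 := ndS (p := 10521) (l := 4) rfl N10521 D13406
theorem N13384 : nd 13384 = n13407 := ndS (p := 10522) (l := 4) rfl N10522 D13407
theorem N13385 : nd 13385 = n13408 := ndS (p := 10523) (l := 5) rfl N10523 D13408
theorem N13386 : nd 13386 = n13409 := ndS (p := 10524) (l := 3) rfl N10524 D13409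
theorem N13387 : nd 13387 = n13410 := ndS (p := 10525) (l := 4) rfl N10525 D13410
theorem N13388 : nd 13388 = n13411 := ndS (p := 10526) (l := 3) rfl N10526 D13411
theorem N13389 : nd 13389 = n13412 := ndS (p := 10526) (l := 5) rfl N10526 D13412
theorem N13390 : nd 13390 = n13413 := ndS (p := 10527) (l := 3) rfl N10527 D13413
theorem N13391 : nd 13391 = n13414 := ndS (p := 10527) (l := 5) rfl N10527 D13414
theorem N13392 : nd 13392 = n13415 := ndS (p := 10528) (l := 2) rfl N10528 D13415
theorem N13393 : nd 13393 = n13416 := ndS (p := 10528) (l := 5) rfl N10528 D13416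
theorem N13394 : nd 13394 = n13417 := ndS (p := 10530) (l := 1) rfl N10530 D13417
theorem N13395 : nd 13395 = n13418 := ndS (p := 10530) (l := 3) rfl N10530 D13418
theorem N13396 : nd 13396 = n13419 := ndS (p := 10531) (l := 4) rfl N10531 D13419
theorem N13397 : nd 13397 = n13420 := ndS (p := 10532) (l := 5) rfl N10532 D13420
theorem N13398 : nd 13398 = n13421 := ndS (p := 10533) (l := 2) rfl N10533 D13421
theorem N13399 : nd 13399 = n13422 := ndS (p := 10533) (l := 5) rfl N10533 D13422
theorem N13400 : nd 13400 = n13423 := ndS (p := 10535) (l := 1) rfl N10535 D13423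
theorem N13401 : nd 13401 = n13424 := ndS (p := 10535) (l := 3) rfl N10535 D13424
theorem N13402 : nd 13402 = n13425 := ndS (p := 10535) (l := 5) rfl N10535 D13425
theorem N13403 : nd 13403 = n13426 := ndS (p := 10536) (l := 4) rfl N10536 D13426
theorem N13404 : nd 13404 = n13427 := ndS (p := 10537) (l := 2) rfl N10537 D13427
theorem N13405 : nd 13405 = n13428 := ndS (p := 10537) (l := 4) rfl N10537 D13428
theorem N13406 : nd 13406 = n13429 := ndS (p := 10538) (l := 3) rfl N10538 D13429
theorem N13407 : nd 13407 = n13430 := ndS (p := 10538) (l := 5) rfl N10538 D13430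
theorem N13408 : nd 13408 = n13431 := ndS (p := 10539) (l := 2) rfl N10539 D13431
theorem N13409 : nd 13409 = n13432 := ndS (p := 10539) (l := 5) rfl N10539 D13432
theorem N13410 : nd 13410 = n13433 := ndS (p := 10540) (l := 4) rfl N10540 D13433
theorem N13411 : nd 13411 = n13434 := ndS (p := 10541) (l := 3) rfl N10541 D13434
theorem N13412 : nd 13412 = n13435 := ndS (p := 10542) (l := 1) rfl N10542 D13435
theorem N13413 : nd 13413 = n13436 := ndS (p := 10543) (l := 4) rfl N10543 D13436
theorem N13414 : nd 13414 = n13437 := ndS (p := 10544) (l := 3) rfl N10544 D13437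
theorem N13415 : nd 13415 = n13438 := ndS (p := 10545) (l := 2) rfl N10545 D13438
theorem N13416 : nd 13416 = n13439 := ndS (p := 10546) (l := 1) rfl N10546 D13439
theorem N13417 : nd 13417 = n13440 := ndS (p := 10546) (l := 3) rfl N10546 D13440
theorem N13418 : nd 13418 = n13441 := ndS (p := 10547) (l := 0) rfl N10547 D13441
theorem N13419 : nd 13419 = n13442 := ndS (p := 10548) (l := 2) rfl N10548 D13442
theorem N13420 : nd 13420 = n13443 := ndS (p := 10548) (l := 5) rfl N10548 D13443
theorem N13421 : nd 13421 = n13444 := ndS (p := 10550) (l := 2) rfl N10550 D13444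
theorem N13422 : nd 13422 = n13445 := ndS (p := 10550) (l := 5) rfl N10550 D13445
theorem N13423 : nd 13423 = n13446 := ndS (p := 10552) (l := 1) rfl N10552 D13446
theorem N13424 : nd 13424 = n13447 := ndS (p := 10552) (l := 3) rfl N10552 D13447
theorem N13425 : nd 13425 = n13448 := ndS (p := 10552) (l := 5) rfl N10552 D13448
theorem N13426 : nd 13426 = n13449 := ndS (p := 10553) (l := 4) rfl N10553 D13449
theorem N13427 : nd 13427 = n13450 := ndS (p := 10554) (l := 1) rfl N10554 D13450
theorem N13428 : nd 13428 = n13451 := ndS (p := 10554) (l := 3) rfl N10554 D13451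
theorem N13429 : nd 13429 = n13452 := ndS (p := 10554) (l := 5) rfl N10554 D13452
theorem N13430 : nd 13430 = n13453 := ndS (p := 10555) (l := 4) rfl N10555 D13453
theorem N13431 : nd 13431 = n13454 := ndS (p := 10556) (l := 3) rfl N10556 D13454
theorem N13432 : nd 13432 = n13455 := ndS (p := 10557) (l := 2) rfl N10557 D13455
theorem N13433 : nd 13433 = n13456 := ndS (p := 10558) (l := 0) rfl N10558 D13456
theorem N13434 : nd 13434 = n13457 := ndS (p := 10558) (l := 3) rfl N10558 D13457
theorem N13435 : nd 13435 = n13458 := ndS (p := 10558) (l := 5) rfl N10558 D13458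
theorem N13436 : nd 13436 = n13459 := ndS (p := 10559) (l := 4) rfl N10559 D13459
theorem N13437 : nd 13437 = n13460 := ndS (p := 10560) (l := 4) rfl N10560 D13460
theorem N13438 : nd 13438 = n13461 := ndS (p := 10561) (l := 3) rfl N10561 D13461
theorem N13439 : nd 13439 = n13462 := ndS (p := 10562) (l := 2) rfl N10562 D13462
theorem N13440 : nd 13440 = n13463 := ndS (p := 10563) (l := 1) rfl N10563 D13463
theorem N13441 : nd 13441 = n13464 := ndS (p := 10563) (l := 3) rfl N10563 D13464
theorem N13442 : nd 13442 = n13465 := ndS (p := 10564) (l := 2) rfl N10564 D13465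
theorem N13443 : nd 13443 = n13466 := ndS (p := 10566) (l := 1) rfl N10566 D13466
theorem N13444 : nd 13444 = n13467 := ndS (p := 10566) (l := 3) rfl N10566 D13467
theorem N13445 : nd 13445 = n13468 := ndS (p := 10567) (l := 2) rfl N10567 D13468
theorem N13446 : nd 13446 = n13469 := ndS (p := 10567) (l := 4) rfl N10567 D13469
theorem N13447 : nd 13447 = n13470 := ndS (p := 10568) (l := 2) rfl N10568 D13470
theorem N13448 : nd 13448 = n13471 := ndS (p := 10568) (l := 5) rfl N10568 D13471
theorem N13449 : nd 13449 = n13472 := ndS (p := 10570) (l := 1) rfl N10570 D13472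
theorem N13450 : nd 13450 = n13473 := ndS (p := 10570) (l := 3) rfl N10570 D13473
theorem N13451 : nd 13451 = n13474 := ndS (p := 10570) (l := 5) rfl N10570 D13474
theorem N13452 : nd 13452 = n13475 := ndS (p := 10571) (l := 4) rfl N10571 D13475
theorem N13453 : nd 13453 = n13476 := ndS (p := 10572) (l := 1) rfl N10572 D13476
theorem N13454 : nd 13454 = n13477 := ndS (p := 10573) (l := 4) rfl N10573 D13477
theorem N13455 : nd 13455 = n13478 := ndS (p := 10574) (l := 0) rfl N10574 D13478
theorem N13456 : nd 13456 = n13479 := ndS (p := 10578) (l := 0) rfl N10578 D13479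
theorem N13457 : nd 13457 = n13480 := ndS (p := 10578) (l := 3) rfl N10578 D13480
theorem N13458 : nd 13458 = n13481 := ndS (p := 10578) (l := 5) rfl N10578 D13481
theorem N13459 : nd 13459 = n13482 := ndS (p := 10579) (l := 4) rfl N10579 D13482
theorem N13460 : nd 13460 = n13483 := ndS (p := 10580) (l := 4) rfl N10580 D13483
theorem N13461 : nd 13461 = n13484 := ndS (p := 10582) (l := 3) rfl N10582 D13484
theorem N13462 : nd 13462 = n13485 := ndS (p := 10582) (l := 5) rfl N10582 D13485
theorem N13463 : nd 13463 = n13486 := ndS (p := 10583) (l := 2) rfl N10583 D13486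
theorem N13464 : nd 13464 = n13487 := ndS (p := 10583) (l := 4) rfl N10583 D13487
theorem N13465 : nd 13465 = n13488 := ndS (p := 10584) (l := 4) rfl N10584 D13488
theorem N13466 : nd 13466 = n13489 := ndS (p := 10587) (l := 3) rfl N10587 D13489
theorem N13467 : nd 13467 = n13490 := ndS (p := 10588) (l := 2) rfl N10588 D13490
theorem N13468 : nd 13468 = n13491 := ndS (p := 10588) (l := 4) rfl N10588 D13491
theorem N13469 : nd 13469 = n13492 := ndS (p := 10589) (l := 0) rfl N10589 D13492
theorem N13470 : nd 13470 = n13493 := ndS (p := 10589) (l := 3) rfl N10589 D13493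
theorem N13471 : nd 13471 = n13494 := ndS (p := 10589) (l := 5) rfl N10589 D13494
theorem N13472 : nd 13472 = n13495 := ndS (p := 10590) (l := 4) rfl N10590 D13495
theorem N13473 : nd 13473 = n13496 := ndS (p := 10591) (l := 4) rfl N10591 D13496
theorem N13474 : nd 13474 = n13497 := ndS (p := 10593) (l := 3) rfl N10593 D13497
theorem N13475 : nd 13475 = n13498 := ndS (p := 10594) (l := 2) rfl N10594 D13498
theorem N13476 : nd 13476 = n13499 := ndS (p := 10594) (l := 4) rfl N10594 D13499
theorem N13477 : nd 13477 = n13500 := ndS (p := 10595) (l := 1) rfl N10595 D13500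
theorem N13478 : nd 13478 = n13501 := ndS (p := 10595) (l := 4) rfl N10595 D13501
theorem N13479 : nd 13479 = n13502 := ndS (p := 10596) (l := 5) rfl N10596 D13502
theorem N13480 : nd 13480 = n13503 := ndS (p := 10597) (l := 4) rfl N10597 D13503
theorem N13481 : nd 13481 = n13504 := ndS (p := 10598) (l := 3) rfl N10598 D13504
theorem N13482 : nd 13482 = n13505 := ndS (p := 10599) (l := 2) rfl N10599 D13505
theorem N13483 : nd 13483 = n13506 := ndS (p := 10600) (l := 4) rfl N10600 D13506
theorem N13484 : nd 13484 = n13507 := ndS (p := 10601) (l := 5) rfl N10601 D13507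
theorem N13485 : nd 13485 = n13508 := ndS (p := 10602) (l := 3) rfl N10602 D13508
theorem N13486 : nd 13486 = n13509 := ndS (p := 10603) (l := 2) rfl N10603 D13509
theorem N13487 : nd 13487 = n13510 := ndS (p := 10603) (l := 5) rfl N10603 D13510
theorem N13488 : nd 13488 = n13511 := ndS (p := 10605) (l := 1) rfl N10605 D13511
theorem N13489 : nd 13489 = n13512 := ndS (p := 10605) (l := 3) rfl N10605 D13512
theorem N13490 : nd 13490 = n13513 := ndS (p := 10605) (l := 4) rfl N10605 D13513
theorem N13491 : nd 13491 = n13514 := ndS (p := 10605) (l := 5) rfl N10605 D13514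
theorem N13492 : nd 13492 = n13515 := ndS (p := 10606) (l := 5) rfl N10606 D13515
theorem N13493 : nd 13493 = n13516 := ndS (p := 10607) (l := 4) rfl N10607 D13516
theorem N13494 : nd 13494 = n13517 := ndS (p := 10608) (l := 0) rfl N10608 D13517
theorem N13495 : nd 13495 = n13518 := ndS (p := 10608) (l := 4) rfl N10608 D13518
theorem N13496 : nd 13496 = n13519 := ndS (p := 10609) (l := 3) rfl N10609 D13519
theorem N13497 : nd 13497 = n13520 := ndS (p := 10609) (l := 5) rfl N10609 D13520
theorem N13498 : nd 13498 = n13521 := ndS (p := 10610) (l := 4) rfl N10610 D13521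
theorem N13499 : nd 13499 = n13522 := ndS (p := 10611) (l := 3) rfl N10611 D13522
theorem N13500 : nd 13500 = n13523 := ndS (p := 10612) (l := 2) rfl N10612 D13523
theorem N13501 : nd 13501 = n13524 := ndS (p := 10613) (l := 1) rfl N10613 D13524
theorem N13502 : nd 13502 = n13525 := ndS (p := 10613) (l := 3) rfl N10613 D13525
theorem N13503 : nd 13503 = n13526 := ndS (p := 10614) (l := 2) rfl N10614 D13526
theorem N13504 : nd 13504 = n13527 := ndS (p := 10614) (l := 4) rfl N10614 D13527
theorem N13505 : nd 13505 = n13528 := ndS (p := 10615) (l := 0) rfl N10615 D13528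
theorem N13506 : nd 13506 = n13529 := ndS (p := 10615) (l := 3) rfl N10615 D13529
theorem N13507 : nd 13507 = n13530 := ndS (p := 10616) (l := 4) rfl N10616 D13530
theorem N13508 : nd 13508 = n13531 := ndS (p := 10619) (l := 4) rfl N10619 D13531
theorem N13509 : nd 13509 = n13532 := ndS (p := 10620) (l := 5) rfl N10620 D13532
theorem N13510 : nd 13510 = n13533 := ndS (p := 10621) (l := 3) rfl N10621 D13533
theorem N13511 : nd 13511 = n13534 := ndS (p := 10622) (l := 3) rfl N10622 D13534
theorem N13512 : nd 13512 = n13535 := ndS (p := 10622) (l := 5) rfl N10622 D13535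
theorem N13513 : nd 13513 = n13536 := ndS (p := 10623) (l := 2) rfl N10623 D13536
theorem N13514 : nd 13514 = n13537 := ndS (p := 10625) (l := 4) rfl N10625 D13537
theorem N13515 : nd 13515 = n13538 := ndS (p := 10626) (l := 3) rfl N10626 D13538
theorem N13516 : nd 13516 = n13539 := ndS (p := 10626) (l := 5) rfl N10626 D13539
theorem N13517 : nd 13517 = n13540 := ndS (p := 10627) (l := 5) rfl N10627 D13540
theorem N13518 : nd 13518 = n13541 := ndS (p := 10629) (l := 0) rfl N10629 D13541
theorem N13519 : nd 13519 = n13542 := ndS (p := 10631) (l := 0) rfl N10631 D13542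
theorem N13520 : nd 13520 = n13543 := ndS (p := 10631) (l := 3) rfl N10631 D13543
theorem N13521 : nd 13521 = n13544 := ndS (p := 10631) (l := 5) rfl N10631 D13544
theorem N13522 : nd 13522 = n13545 := ndS (p := 10632) (l := 2) rfl N10632 D13545
theorem N13523 : nd 13523 = n13546 := ndS (p := 10632) (l := 4) rfl N10632 D13546
theorem N13524 : nd 13524 = n13547 := ndS (p := 10632) (l := 5) rfl N10632 D13547
theorem N13525 : nd 13525 = n13548 := ndS (p := 10634) (l := 3) rfl N10634 D13548
theorem N13526 : nd 13526 = n13549 := ndS (p := 10634) (l := 5) rfl N10634 D13549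
theorem N13527 : nd 13527 = n13550 := ndS (p := 10635) (l := 2) rfl N10635 D13550
theorem N13528 : nd 13528 = n13551 := ndS (p := 10637) (l := 0) rfl N10637 D13551
theorem N13529 : nd 13529 = n13552 := ndS (p := 10638) (l := 3) rfl N10638 D13552
theorem N13530 : nd 13530 = n13553 := ndS (p := 10639) (l := 2) rfl N10639 D13553
theorem N13531 : nd 13531 = n13554 := ndS (p := 10640) (l := 2) rfl N10640 D13554
theorem N13532 : nd 13532 = n13555 := ndS (p := 10640) (l := 4) rfl N10640 D13555
theorem N13533 : nd 13533 = n13556 := ndS (p := 10641) (l := 3) rfl N10641 D13556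
theorem N13534 : nd 13534 = n13557 := ndS (p := 10641) (l := 4) rfl N10641 D13557
theorem N13535 : nd 13535 = n13558 := ndS (p := 10643) (l := 1) rfl N10643 D13558
theorem N13536 : nd 13536 = n13559 := ndS (p := 10644) (l := 0) rfl N10644 D13559
theorem N13537 : nd 13537 = n13560 := ndS (p := 10644) (l := 3) rfl N10644 D13560
theorem N13538 : nd 13538 = n13561 := ndS (p := 10645) (l := 4) rfl N10645 D13561
theorem N13539 : nd 13539 = n13562 := ndS (p := 10647) (l := 1) rfl N10647 D13562
theorem N13540 : nd 13540 = n13563 := ndS (p := 10647) (l := 3) rfl N10647 D13563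
theorem N13541 : nd 13541 = n13564 := ndS (p := 10647) (l := 5) rfl N10647 D13564
theorem N13542 : nd 13542 = n13565 := ndS (p := 10648) (l := 4) rfl N10648 D13565
theorem N13543 : nd 13543 = n13566 := ndS (p := 10649) (l := 4) rfl N10649 D13566
theorem N13544 : nd 13544 = n13567 := ndS (p := 10650) (l := 5) rfl N10650 D13567
theorem N13545 : nd 13545 = n13568 := ndS (p := 10651) (l := 3) rfl N10651 D13568
theorem N13546 : nd 13546 = n13569 := ndS (p := 10654) (l := 5) rfl N10654 D13569
theorem N13547 : nd 13547 = n13570 := ndS (p := 10655) (l := 4) rfl N10655 D13570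
theorem N13548 : nd 13548 = n13571 := ndS (p := 10656) (l := 3) rfl N10656 D13571
theorem N13549 : nd 13549 = n13572 := ndS (p := 10656) (l := 5) rfl N10656 D13572
theorem N13550 : nd 13550 = n13573 := ndS (p := 10658) (l := 5) rfl N10658 D13573
theorem N13551 : nd 13551 = n13574 := ndS (p := 10661) (l := 3) rfl N10661 D13574
theorem N13552 : nd 13552 = n13575 := ndS (p := 10662) (l := 2) rfl N10662 D13575
theorem N13553 : nd 13553 = n13576 := ndS (p := 10663) (l := 1) rfl N10663 D13576
theorem N13554 : nd 13554 = n13577 := ndS (p := 10664) (l := 3) rfl N10664 D13577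
theorem N13555 : nd 13555 = n13578 := ndS (p := 10665) (l := 4) rfl N10665 D13578
theorem N13556 : nd 13556 = n13579 := ndS (p := 10666) (l := 1) rfl N10666 D13579
theorem N13557 : nd 13557 = n13580 := ndS (p := 10666) (l := 4) rfl N10666 D13580
theorem N13558 : nd 13558 = n13581 := ndS (p := 10667) (l := 5) rfl N10667 D13581
theorem N13559 : nd 13559 = n13582 := ndS (p := 10668) (l := 2) rfl N10668 D13582
theorem N13560 : nd 13560 = n13583 := ndS (p := 10668) (l := 5) rfl N10668 D13583
theorem N13561 : nd 13561 = n13584 := ndS (p := 10670) (l := 1) rfl N10670 D13584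
theorem N13562 : nd 13562 = n13585 := ndS (p := 10670) (l := 3) rfl N10670 D13585
theorem N13563 : nd 13563 = n13586 := ndS (p := 10670) (l := 5) rfl N10670 D13586
theorem N13564 : nd 13564 = n13587 := ndS (p := 10672) (l := 0) rfl N10672 D13587
theorem N13565 : nd 13565 = n13588 := ndS (p := 10672) (l := 3) rfl N10672 D13588
theorem N13566 : nd 13566 = n13589 := ndS (p := 10673) (l := 4) rfl N10673 D13589
theorem N13567 : nd 13567 = n13590 := ndS (p := 10674) (l := 3) rfl N10674 D13590
theorem N13568 : nd 13568 = n13591 := ndS (p := 10675) (l := 2) rfl N10675 D13591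
theorem N13569 : nd 13569 = n13592 := ndS (p := 10675) (l := 4) rfl N10675 D13592
theorem N13570 : nd 13570 = n13593 := ndS (p := 10676) (l := 1) rfl N10676 D13593
theorem N13571 : nd 13571 = n13594 := ndS (p := 10676) (l := 4) rfl N10676 D13594
theorem N13572 : nd 13572 = n13595 := ndS (p := 10677) (l := 5) rfl N10677 D13595
theorem N13573 : nd 13573 = n13596 := ndS (p := 10678) (l := 3) rfl N10678 D13596
theorem N13574 : nd 13574 = n13597 := ndS (p := 10678) (l := 5) rfl N10678 D13597
theorem N13575 : nd 13575 = n13598 := ndS (p := 10679) (l := 2) rfl N10679 D13598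
theorem N13576 : nd 13576 = n13599 := ndS (p := 10679) (l := 5) rfl N10679 D13599
theorem N13577 : nd 13577 = n13600 := ndS (p := 10681) (l := 2) rfl N10681 D13600
theorem N13578 : nd 13578 = n13601 := ndS (p := 10681) (l := 5) rfl N10681 D13601
theorem N13579 : nd 13579 = n13602 := ndS (p := 10683) (l := 1) rfl N10683 D13602
theorem N13580 : nd 13580 = n13603 := ndS (p := 10685) (l := 0) rfl N10685 D13603
theorem N13581 : nd 13581 = n13604 := ndS (p := 10686) (l := 3) rfl N10686 D13604
theorem N13582 : nd 13582 = n13605 := ndS (p := 10686) (l := 5) rfl N10686 D13605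
theorem N13583 : nd 13583 = n13606 := ndS (p := 10687) (l := 2) rfl N10687 D13606
theorem N13584 : nd 13584 = n13607 := ndS (p := 10687) (l := 5) rfl N10687 D13607
theorem N13585 : nd 13585 = n13608 := ndS (p := 10689) (l := 1) rfl N10689 D13608
theorem N13586 : nd 13586 = n13609 := ndS (p := 10689) (l := 3) rfl N10689 D13609
theorem N13587 : nd 13587 = n13610 := ndS (p := 10689) (l := 5) rfl N10689 D13610
theorem N13588 : nd 13588 = n13611 := ndS (p := 10691) (l := 0) rfl N10691 D13611
theorem N13589 : nd 13589 = n13612 := ndS (p := 10691) (l := 3) rfl N10691 D13612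
theorem N13590 : nd 13590 = n13613 := ndS (p := 10691) (l := 5) rfl N10691 D13613
theorem N13591 : nd 13591 = n13614 := ndS (p := 10692) (l := 4) rfl N10692 D13614
theorem N13592 : nd 13592 = n13615 := ndS (p := 10695) (l := 3) rfl N10695 D13615
theorem N13593 : nd 13593 = n13616 := ndS (p := 10696) (l := 2) rfl N10696 D13616
theorem N13594 : nd 13594 = n13617 := ndS (p := 10697) (l := 1) rfl N10697 D13617
theorem N13595 : nd 13595 = n13618 := ndS (p := 10697) (l := 3) rfl N10697 D13618
theorem N13596 : nd 13596 = n13619 := ndS (p := 10697) (l := 5) rfl N10697 D13619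
theorem N13597 : nd 13597 = n13620 := ndS (p := 10698) (l := 4) rfl N10698 D13620
theorem N13598 : nd 13598 = n13621 := ndS (p := 10699) (l := 0) rfl N10699 D13621
theorem N13599 : nd 13599 = n13622 := ndS (p := 10700) (l := 3) rfl N10700 D13622
theorem N13600 : nd 13600 = n13623 := ndS (p := 10701) (l := 2) rfl N10701 D13623
theorem N13601 : nd 13601 = n13624 := ndS (p := 10702) (l := 1) rfl N10702 D13624
theorem N13602 : nd 13602 = n13625 := ndS (p := 10702) (l := 3) rfl N10702 D13625
theorem N13603 : nd 13603 = n13626 := ndS (p := 10703) (l := 1) rfl N10703 D13626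
theorem N13604 : nd 13604 = n13627 := ndS (p := 10703) (l := 3) rfl N10703 D13627
theorem N13605 : nd 13605 = n13628 := ndS (p := 10704) (l := 0) rfl N10704 D13628
theorem N13606 : nd 13606 = n13629 := ndS (p := 10704) (l := 3) rfl N10704 D13629
theorem N13607 : nd 13607 = n13630 := ndS (p := 10705) (l := 2) rfl N10705 D13630
theorem N13608 : nd 13608 = n13631 := ndS (p := 10705) (l := 4) rfl N10705 D13631
theorem N13609 : nd 13609 = n13632 := ndS (p := 10706) (l := 3) rfl N10706 D13632
theorem N13610 : nd 13610 = n13633 := ndS (p := 10707) (l := 2) rfl N10707 D13633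
theorem N13611 : nd 13611 = n13634 := ndS (p := 10707) (l := 4) rfl N10707 D13634
theorem N13612 : nd 13612 = n13635 := ndS (p := 10709) (l := 3) rfl N10709 D13635
theorem N13613 : nd 13613 = n13636 := ndS (p := 10709) (l := 5) rfl N10709 D13636
theorem N13614 : nd 13614 = n13637 := ndS (p := 10710) (l := 4) rfl N10710 D13637
theorem N13615 : nd 13615 = n13638 := ndS (p := 10711) (l := 0) rfl N10711 D13638
theorem N13616 : nd 13616 = n13639 := ndS (p := 10711) (l := 3) rfl N10711 D13639
theorem N13617 : nd 13617 = n13640 := ndS (p := 10711) (l := 5) rfl N10711 D13640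
theorem N13618 : nd 13618 = n13641 := ndS (p := 10712) (l := 4) rfl N10712 D13641
theorem N13619 : nd 13619 = n13642 := ndS (p := 10713) (l := 4) rfl N10713 D13642
theorem N13620 : nd 13620 = n13643 := ndS (p := 10715) (l := 3) rfl N10715 D13643
theorem N13621 : nd 13621 = n13644 := ndS (p := 10716) (l := 2) rfl N10716 D13644
theorem N13622 : nd 13622 = n13645 := ndS (p := 10717) (l := 1) rfl N10717 D13645
theorem N13623 : nd 13623 = n13646 := ndS (p := 10718) (l := 5) rfl N10718 D13646
theorem N13624 : nd 13624 = n13647 := ndS (p := 10720) (l := 4) rfl N10720 D13647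
theorem N13625 : nd 13625 = n13648 := ndS (p := 10721) (l := 3) rfl N10721 D13648
theorem N13626 : nd 13626 = n13649 := ndS (p := 10722) (l := 2) rfl N10722 D13649
theorem N13627 : nd 13627 = n13650 := ndS (p := 10723) (l := 1) rfl N10723 D13650
theorem N13628 : nd 13628 = n13651 := ndS (p := 10724) (l := 0) rfl N10724 D13651
theorem N13629 : nd 13629 = n13652 := ndS (p := 10724) (l := 3) rfl N10724 D13652
theorem N13630 : nd 13630 = n13653 := ndS (p := 10725) (l := 4) rfl N10725 D13653
theorem N13631 : nd 13631 = n13654 := ndS (p := 10726) (l := 4) rfl N10726 D13654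
theorem N13632 : nd 13632 = n13655 := ndS (p := 10727) (l := 3) rfl N10727 D13655
theorem N13633 : nd 13633 = n13656 := ndS (p := 10728) (l := 2) rfl N10728 D13656
theorem N13634 : nd 13634 = n13657 := ndS (p := 10728) (l := 4) rfl N10728 D13657
theorem N13635 : nd 13635 = n13658 := ndS (p := 10729) (l := 1) rfl N10729 D13658
theorem N13636 : nd 13636 = n13659 := ndS (p := 10729) (l := 4) rfl N10729 D13659
theorem N13637 : nd 13637 = n13660 := ndS (p := 10731) (l := 2) rfl N10731 D13660
theorem N13638 : nd 13638 = n13661 := ndS (p := 10731) (l := 4) rfl N10731 D13661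
theorem N13639 : nd 13639 = n13662 := ndS (p := 10732) (l := 3) rfl N10732 D13662
theorem N13640 : nd 13640 = n13663 := ndS (p := 10732) (l := 4) rfl N10732 D13663
theorem N13641 : nd 13641 = n13664 := ndS (p := 10734) (l := 1) rfl N10734 D13664
theorem N13642 : nd 13642 = n13665 := ndS (p := 10734) (l := 4) rfl N10734 D13665
theorem N13643 : nd 13643 = n13666 := ndS (p := 10735) (l := 5) rfl N10735 D13666
theorem N13644 : nd 13644 = n13667 := ndS (p := 10736) (l := 1) rfl N10736 D13667
theorem N13645 : nd 13645 = n13668 := ndS (p := 10736) (l := 3) rfl N10736 D13668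
theorem N13646 : nd 13646 = n13669 := ndS (p := 10737) (l := 2) rfl N10737 D13669
theorem N13647 : nd 13647 = n13670 := ndS (p := 10737) (l := 4) rfl N10737 D13670
theorem N13648 : nd 13648 = n13671 := ndS (p := 10738) (l := 4) rfl N10738 D13671
theorem N13649 : nd 13649 = n13672 := ndS (p := 10739) (l := 3) rfl N10739 D13672
theorem N13650 : nd 13650 = n13673 := ndS (p := 10739) (l := 5) rfl N10739 D13673
theorem N13651 : nd 13651 = n13674 := ndS (p := 10740) (l := 2) rfl N10740 D13674
theorem N13652 : nd 13652 = n13675 := ndS (p := 10740) (l := 5) rfl N10740 D13675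
theorem N13653 : nd 13653 = n13676 := ndS (p := 10741) (l := 4) rfl N10741 D13676
theorem N13654 : nd 13654 = n13677 := ndS (p := 10742) (l := 3) rfl N10742 D13677
theorem N13655 : nd 13655 = n13678 := ndS (p := 10743) (l := 3) rfl N10743 D13678
theorem N13656 : nd 13656 = n13679 := ndS (p := 10744) (l := 2) rfl N10744 D13679
theorem N13657 : nd 13657 = n13680 := ndS (p := 10745) (l := 1) rfl N10745 D13680
theorem N13658 : nd 13658 = n13681 := ndS (p := 10746) (l := 3) rfl N10746 D13681
theorem N13659 : nd 13659 = n13682 := ndS (p := 10746) (l := 5) rfl N10746 D13682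
theorem N13660 : nd 13660 = n13683 := ndS (p := 10747) (l := 2) rfl N10747 D13683
theorem N13661 : nd 13661 = n13684 := ndS (p := 10747) (l := 5) rfl N10747 D13684
theorem N13662 : nd 13662 = n13685 := ndS (p := 10749) (l := 2) rfl N10749 D13685
theorem N13663 : nd 13663 = n13686 := ndS (p := 10749) (l := 5) rfl N10749 D13686
theorem N13664 : nd 13664 = n13687 := ndS (p := 10751) (l := 1) rfl N10751 D13687
theorem N13665 : nd 13665 = n13688 := ndS (p := 10751) (l := 3) rfl N10751 D13688
theorem N13666 : nd 13666 = n13689 := ndS (p := 10751) (l := 5) rfl N10751 D13689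
theorem N13667 : nd 13667 = n13690 := ndS (p := 10752) (l := 4) rfl N10752 D13690
theorem N13668 : nd 13668 = n13691 := ndS (p := 10753) (l := 2) rfl N10753 D13691
theorem N13669 : nd 13669 = n13692 := ndS (p := 10754) (l := 1) rfl N10754 D13692
theorem N13670 : nd 13670 = n13693 := ndS (p := 10754) (l := 3) rfl N10754 D13693
theorem N13671 : nd 13671 = n13694 := ndS (p := 10755) (l := 0) rfl N10755 D13694
theorem N13672 : nd 13672 = n13695 := ndS (p := 10755) (l := 3) rfl N10755 D13695
theorem N13673 : nd 13673 = n13696 := ndS (p := 10756) (l := 4) rfl N10756 D13696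
theorem N13674 : nd 13674 = n13697 := ndS (p := 10757) (l := 0) rfl N10757 D13697
theorem N13675 : nd 13675 = n13698 := ndS (p := 10759) (l := 3) rfl N10759 D13698
theorem N13676 : nd 13676 = n13699 := ndS (p := 10759) (l := 5) rfl N10759 D13699
theorem N13677 : nd 13677 = n13700 := ndS (p := 10760) (l := 2) rfl N10760 D13700
theorem N13678 : nd 13678 = n13701 := ndS (p := 10760) (l := 5) rfl N10760 D13701
theorem N13679 : nd 13679 = n13702 := ndS (p := 10762) (l := 2) rfl N10762 D13702
theorem N13680 : nd 13680 = n13703 := ndS (p := 10762) (l := 5) rfl N10762 D13703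
theorem N13681 : nd 13681 = n13704 := ndS (p := 10764) (l := 1) rfl N10764 D13704
theorem N13682 : nd 13682 = n13705 := ndS (p := 10765) (l := 4) rfl N10765 D13705
theorem N13683 : nd 13683 = n13706 := ndS (p := 10766) (l := 3) rfl N10766 D13706
theorem N13684 : nd 13684 = n13707 := ndS (p := 10767) (l := 4) rfl N10767 D13707
theorem N13685 : nd 13685 = n13708 := ndS (p := 10771) (l := 1) rfl N10771 D13708
theorem N13686 : nd 13686 = n13709 := ndS (p := 10771) (l := 3) rfl N10771 D13709
theorem N13687 : nd 13687 = n13710 := ndS (p := 10771) (l := 5) rfl N10771 D13710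
theorem N13688 : nd 13688 = n13711 := ndS (p := 10772) (l := 4) rfl N10772 D13711
theorem N13689 : nd 13689 = n13712 := ndS (p := 10773) (l := 0) rfl N10773 D13712
theorem N13690 : nd 13690 = n13713 := ndS (p := 10773) (l := 3) rfl N10773 D13713
theorem N13691 : nd 13691 = n13714 := ndS (p := 10773) (l := 5) rfl N10773 D13714
theorem N13692 : nd 13692 = n13715 := ndS (p := 10774) (l := 4) rfl N10774 D13715
theorem N13693 : nd 13693 = n13716 := ndS (p := 10775) (l := 4) rfl N10775 D13716
theorem N13694 : nd 13694 = n13717 := ndS (p := 10777) (l := 1) rfl N10777 D13717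
theorem N13695 : nd 13695 = n13718 := ndS (p := 10777) (l := 4) rfl N10777 D13718
theorem N13696 : nd 13696 = n13719 := ndS (p := 10778) (l := 5) rfl N10778 D13719
theorem N13697 : nd 13697 = n13720 := ndS (p := 10779) (l := 2) rfl N10779 D13720
theorem N13698 : nd 13698 = n13721 := ndS (p := 10780) (l := 2) rfl N10780 D13721
theorem N13699 : nd 13699 = n13722 := ndS (p := 10780) (l := 5) rfl N10780 D13722
theorem N13700 : nd 13700 = n13723 := ndS (p := 10783) (l := 4) rfl N10783 D13723
theorem N13701 : nd 13701 = n13724 := ndS (p := 10784) (l := 3) rfl N10784 D13724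
theorem N13702 : nd 13702 = n13725 := ndS (p := 10785) (l := 2) rfl N10785 D13725
theorem N13703 : nd 13703 = n13726 := ndS (p := 10786) (l := 4) rfl N10786 D13726
theorem N13704 : nd 13704 = n13727 := ndS (p := 10787) (l := 3) rfl N10787 D13727
theorem N13705 : nd 13705 = n13728 := ndS (p := 10788) (l := 2) rfl N10788 D13728
theorem N13706 : nd 13706 = n13729 := ndS (p := 10789) (l := 1) rfl N10789 D13729
theorem N13707 : nd 13707 = n13730 := ndS (p := 10790) (l := 3) rfl N10790 D13730
theorem N13708 : nd 13708 = n13731 := ndS (p := 10790) (l := 5) rfl N10790 D13731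
theorem N13709 : nd 13709 = n13732 := ndS (p := 10792) (l := 2) rfl N10792 D13732
theorem N13710 : nd 13710 = n13733 := ndS (p := 10792) (l := 5) rfl N10792 D13733
theorem N13711 : nd 13711 = n13734 := ndS (p := 10795) (l := 3) rfl N10795 D13734
theorem N13712 : nd 13712 = n13735 := ndS (p := 10796) (l := 2) rfl N10796 D13735
theorem N13713 : nd 13713 = n13736 := ndS (p := 10797) (l := 1) rfl N10797 D13736
theorem N13714 : nd 13714 = n13737 := ndS (p := 10798) (l := 2) rfl N10798 D13737
theorem N13715 : nd 13715 = n13738 := ndS (p := 10799) (l := 1) rfl N10799 D13738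
theorem N13716 : nd 13716 = n13739 := ndS (p := 10800) (l := 0) rfl N10800 D13739
theorem N13717 : nd 13717 = n13740 := ndS (p := 10801) (l := 1) rfl N10801 D13740
theorem N13718 : nd 13718 = n13741 := ndS (p := 10801) (l := 4) rfl N10801 D13741
theorem N13719 : nd 13719 = n13742 := ndS (p := 10803) (l := 2) rfl N10803 D13742
theorem N13720 : nd 13720 = n13743 := ndS (p := 10803) (l := 4) rfl N10803 D13743
theorem N13721 : nd 13721 = n13744 := ndS (p := 10804) (l := 3) rfl N10804 D13744
theorem N13722 : nd 13722 = n13745 := ndS (p := 10804) (l := 4) rfl N10804 D13745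
theorem N13723 : nd 13723 = n13746 := ndS (p := 10807) (l := 5) rfl N10807 D13746
theorem N13724 : nd 13724 = n13747 := ndS (p := 10808) (l := 3) rfl N10808 D13747
theorem N13725 : nd 13725 = n13748 := ndS (p := 10808) (l := 5) rfl N10808 D13748
theorem N13726 : nd 13726 = n13749 := ndS (p := 10809) (l := 2) rfl N10809 D13749
theorem N13727 : nd 13727 = n13750 := ndS (p := 10809) (l := 5) rfl N10809 D13750
theorem N13728 : nd 13728 = n13751 := ndS (p := 10811) (l := 2) rfl N10811 D13751
theorem N13729 : nd 13729 = n13752 := ndS (p := 10811) (l := 5) rfl N10811 D13752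
theorem N13730 : nd 13730 = n13753 := ndS (p := 10813) (l := 1) rfl N10813 D13753
theorem N13731 : nd 13731 = n13754 := ndS (p := 10814) (l := 4) rfl N10814 D13754
theorem N13732 : nd 13732 = n13755 := ndS (p := 10815) (l := 3) rfl N10815 D13755
theorem N13733 : nd 13733 = n13756 := ndS (p := 10815) (l := 5) rfl N10815 D13756
theorem N13734 : nd 13734 = n13757 := ndS (p := 10816) (l := 2) rfl N10816 D13757
theorem N13735 : nd 13735 = n13758 := ndS (p := 10816) (l := 5) rfl N10816 D13758
theorem N13736 : nd 13736 = n13759 := ndS (p := 10818) (l := 1) rfl N10818 D13759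
theorem N13737 : nd 13737 = n13760 := ndS (p := 10818) (l := 3) rfl N10818 D13760
theorem N13738 : nd 13738 = n13761 := ndS (p := 10818) (l := 5) rfl N10818 D13761
theorem N13739 : nd 13739 = n13762 := ndS (p := 10819) (l := 4) rfl N10819 D13762
theorem N13740 : nd 13740 = n13763 := ndS (p := 10820) (l := 0) rfl N10820 D13763
theorem N13741 : nd 13741 = n13764 := ndS (p := 10820) (l := 3) rfl N10820 D13764
theorem N13742 : nd 13742 = n13765 := ndS (p := 10820) (l := 5) rfl N10820 D13765
theorem N13743 : nd 13743 = n13766 := ndS (p := 10821) (l := 4) rfl N10821 D13766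
theorem N13744 : nd 13744 = n13767 := ndS (p := 10822) (l := 4) rfl N10822 D13767
theorem N13745 : nd 13745 = n13768 := ndS (p := 10824) (l := 0) rfl N10824 D13768
theorem N13746 : nd 13746 = n13769 := ndS (p := 10825) (l := 1) rfl N10825 D13769
theorem N13747 : nd 13747 = n13770 := ndS (p := 10826) (l := 0) rfl N10826 D13770
theorem N13748 : nd 13748 = n13771 := ndS (p := 10826) (l := 3) rfl N10826 D13771
theorem N13749 : nd 13749 = n13772 := ndS (p := 10827) (l := 4) rfl N10827 D13772
theorem N13750 : nd 13750 = n13773 := ndS (p := 10829) (l := 3) rfl N10829 D13773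
theorem N13751 : nd 13751 = n13774 := ndS (p := 10830) (l := 4) rfl N10830 D13774
theorem N13752 : nd 13752 = n13775 := ndS (p := 10831) (l := 1) rfl N10831 D13775
theorem N13753 : nd 13753 = n13776 := ndS (p := 10831) (l := 4) rfl N10831 D13776
theorem N13754 : nd 13754 = n13777 := ndS (p := 10832) (l := 5) rfl N10832 D13777
theorem N13755 : nd 13755 = n13778 := ndS (p := 10833) (l := 3) rfl N10833 D13778
theorem N13756 : nd 13756 = n13779 := ndS (p := 10834) (l := 2) rfl N10834 D13779
theorem N13757 : nd 13757 = n13780 := ndS (p := 10834) (l := 4) rfl N10834 D13780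
theorem N13758 : nd 13758 = n13781 := ndS (p := 10835) (l := 5) rfl N10835 D13781
theorem N13759 : nd 13759 = n13782 := ndS (p := 10836) (l := 4) rfl N10836 D13782
theorem N13760 : nd 13760 = n13783 := ndS (p := 10837) (l := 1) rfl N10837 D13783
theorem N13761 : nd 13761 = n13784 := ndS (p := 10837) (l := 4) rfl N10837 D13784
theorem N13762 : nd 13762 = n13785 := ndS (p := 10838) (l := 5) rfl N10838 D13785
theorem N13763 : nd 13763 = n13786 := ndS (p := 10839) (l := 0) rfl N10839 D13786
theorem N13764 : nd 13764 = n13787 := ndS (p := 10839) (l := 4) rfl N10839 D13787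
theorem N13765 : nd 13765 = n13788 := ndS (p := 10840) (l := 3) rfl N10840 D13788
theorem N13766 : nd 13766 = n13789 := ndS (p := 10840) (l := 5) rfl N10840 D13789
theorem N13767 : nd 13767 = n13790 := ndS (p := 10842) (l := 2) rfl N10842 D13790
theorem N13768 : nd 13768 = n13791 := ndS (p := 10842) (l := 5) rfl N10842 D13791
theorem N13769 : nd 13769 = n13792 := ndS (p := 10844) (l := 1) rfl N10844 D13792
theorem N13770 : nd 13770 = n13793 := ndS (p := 10844) (l := 3) rfl N10844 D13793
theorem N13771 : nd 13771 = n13794 := ndS (p := 10844) (l := 5) rfl N10844 D13794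
theorem N13772 : nd 13772 = n13795 := ndS (p := 10845) (l := 4) rfl N10845 D13795
theorem N13773 : nd 13773 = n13796 := ndS (p := 10846) (l := 1) rfl N10846 D13796
theorem N13774 : nd 13774 = n13797 := ndS (p := 10846) (l := 3) rfl N10846 D13797
theorem N13775 : nd 13775 = n13798 := ndS (p := 10846) (l := 5) rfl N10846 D13798
theorem N13776 : nd 13776 = n13799 := ndS (p := 10847) (l := 4) rfl N10847 D13799
theorem N13777 : nd 13777 = n13800 := ndS (p := 10848) (l := 0) rfl N10848 D13800
theorem N13778 : nd 13778 = n13801 := ndS (p := 10851) (l := 1) rfl N10851 D13801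
theorem N13779 : nd 13779 = n13802 := ndS (p := 10851) (l := 3) rfl N10851 D13802
theorem N13780 : nd 13780 = n13803 := ndS (p := 10851) (l := 5) rfl N10851 D13803
theorem N13781 : nd 13781 = n13804 := ndS (p := 10852) (l := 4) rfl N10852 D13804
theorem N13782 : nd 13782 = n13805 := ndS (p := 10853) (l := 0) rfl N10853 D13805
theorem N13783 : nd 13783 = n13806 := ndS (p := 10853) (l := 3) rfl N10853 D13806
theorem N13784 : nd 13784 = n13807 := ndS (p := 10853) (l := 5) rfl N10853 D13807
theorem N13785 : nd 13785 = n13808 := ndS (p := 10854) (l := 2) rfl N10854 D13808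
theorem N13786 : nd 13786 = n13809 := ndS (p := 10854) (l := 4) rfl N10854 D13809
theorem N13787 : nd 13787 = n13810 := ndS (p := 10854) (l := 5) rfl N10854 D13810
theorem N13788 : nd 13788 = n13811 := ndS (p := 10855) (l := 4) rfl N10855 D13811
theorem N13789 : nd 13789 = n13812 := ndS (p := 10857) (l := 3) rfl N10857 D13812
theorem N13790 : nd 13790 = n13813 := ndS (p := 10857) (l := 5) rfl N10857 D13813
theorem N13791 : nd 13791 = n13814 := ndS (p := 10858) (l := 2) rfl N10858 D13814
theorem N13792 : nd 13792 = n13815 := ndS (p := 10858) (l := 4) rfl N10858 D13815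
theorem N13793 : nd 13793 = n13816 := ndS (p := 10859) (l := 4) rfl N10859 D13816
theorem N13794 : nd 13794 = n13817 := ndS (p := 10860) (l := 5) rfl N10860 D13817
theorem N13795 : nd 13795 = n13818 := ndS (p := 10861) (l := 3) rfl N10861 D13818
theorem N13796 : nd 13796 = n13819 := ndS (p := 10862) (l := 2) rfl N10862 D13819
theorem N13797 : nd 13797 = n13820 := ndS (p := 10862) (l := 4) rfl N10862 D13820
theorem N13798 : nd 13798 = n13821 := ndS (p := 10863) (l := 5) rfl N10863 D13821
theorem N13799 : nd 13799 = n13822 := ndS (p := 10864) (l := 0) rfl N10864 D13822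
theorem N13800 : nd 13800 = n13823 := ndS (p := 10867) (l := 1) rfl N10867 D13823
theorem N13801 : nd 13801 = n13824 := ndS (p := 10867) (l := 3) rfl N10867 D13824
theorem N13802 : nd 13802 = n13825 := ndS (p := 10867) (l := 5) rfl N10867 D13825
theorem N13803 : nd 13803 = n13826 := ndS (p := 10868) (l := 4) rfl N10868 D13826
theorem N13804 : nd 13804 = n13827 := ndS (p := 10869) (l := 0) rfl N10869 D13827
theorem N13805 : nd 13805 = n13828 := ndS (p := 10871) (l := 0) rfl N10871 D13828
theorem N13806 : nd 13806 = n13829 := ndS (p := 10871) (l := 3) rfl N10871 D13829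
theorem N13807 : nd 13807 = n13830 := ndS (p := 10871) (l := 5) rfl N10871 D13830
theorem N13808 : nd 13808 = n13831 := ndS (p := 10872) (l := 2) rfl N10872 D13831
theorem N13809 : nd 13809 = n13832 := ndS (p := 10872) (l := 4) rfl N10872 D13832
theorem N13810 : nd 13810 = n13833 := ndS (p := 10872) (l := 5) rfl N10872 D13833
theorem N13811 : nd 13811 = n13834 := ndS (p := 10873) (l := 4) rfl N10873 D13834
theorem N13812 : nd 13812 = n13835 := ndS (p := 10875) (l := 3) rfl N10875 D13835
theorem N13813 : nd 13813 = n13836 := ndS (p := 10875) (l := 5) rfl N10875 D13836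
theorem N13814 : nd 13814 = n13837 := ndS (p := 10876) (l := 2) rfl N10876 D13837
theorem N13815 : nd 13815 = n13838 := ndS (p := 10876) (l := 4) rfl N10876 D13838
theorem N13816 : nd 13816 = n13839 := ndS (p := 10877) (l := 4) rfl N10877 D13839
theorem N13817 : nd 13817 = n13840 := ndS (p := 10878) (l := 5) rfl N10878 D13840
theorem N13818 : nd 13818 = n13841 := ndS (p := 10879) (l := 3) rfl N10879 D13841
theorem N13819 : nd 13819 = n13842 := ndS (p := 10881) (l := 0) rfl N10881 D13842
theorem N13820 : nd 13820 = n13843 := ndS (p := 10881) (l := 3) rfl N10881 D13843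
theorem N13821 : nd 13821 = n13844 := ndS (p := 10881) (l := 5) rfl N10881 D13844
theorem N13822 : nd 13822 = n13845 := ndS (p := 10882) (l := 4) rfl N10882 D13845
theorem N13823 : nd 13823 = n13846 := ndS (p := 10883) (l := 4) rfl N10883 D13846
theorem N13824 : nd 13824 = n13847 := ndS (p := 10885) (l := 3) rfl N10885 D13847
theorem N13825 : nd 13825 = n13848 := ndS (p := 10885) (l := 5) rfl N10885 D13848
theorem N13826 : nd 13826 = n13849 := ndS (p := 10886) (l := 2) rfl N10886 D13849
theorem N13827 : nd 13827 = n13850 := ndS (p := 10886) (l := 4) rfl N10886 D13850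
theorem N13828 : nd 13828 = n13851 := ndS (p := 10886) (l := 5) rfl N10886 D13851
theorem N13829 : nd 13829 = n13852 := ndS (p := 10888) (l := 1) rfl N10888 D13852
theorem N13830 : nd 13830 = n13853 := ndS (p := 10888) (l := 4) rfl N10888 D13853
theorem N13831 : nd 13831 = n13854 := ndS (p := 10889) (l := 5) rfl N10889 D13854
theorem N13832 : nd 13832 = n13855 := ndS (p := 10890) (l := 4) rfl N10890 D13855
theorem N13833 : nd 13833 = n13856 := ndS (p := 10891) (l := 3) rfl N10891 D13856
theorem N13834 : nd 13834 = n13857 := ndS (p := 10892) (l := 2) rfl N10892 D13857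
theorem N13835 : nd 13835 = n13858 := ndS (p := 10894) (l := 3) rfl N10894 D13858
theorem N13836 : nd 13836 = n13859 := ndS (p := 10895) (l := 3) rfl N10895 D13859
theorem N13837 : nd 13837 = n13860 := ndS (p := 10896) (l := 2) rfl N10896 D13860
theorem N13838 : nd 13838 = n13861 := ndS (p := 10896) (l := 4) rfl N10896 D13861
theorem N13839 : nd 13839 = n13862 := ndS (p := 10897) (l := 4) rfl N10897 D13862
theorem N13840 : nd 13840 = n13863 := ndS (p := 10898) (l := 5) rfl N10898 D13863
theorem N13841 : nd 13841 = n13864 := ndS (p := 10899) (l := 3) rfl N10899 D13864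
theorem N13842 : nd 13842 = n13865 := ndS (p := 10900) (l := 4) rfl N10900 D13865
theorem N13843 : nd 13843 = n13866 := ndS (p := 10902) (l := 5) rfl N10902 D13866
theorem N13844 : nd 13844 = n13867 := ndS (p := 10905) (l := 4) rfl N10905 D13867
theorem N13845 : nd 13845 = n13868 := ndS (p := 10906) (l := 3) rfl N10906 D13868
theorem N13846 : nd 13846 = n13869 := ndS (p := 10907) (l := 2) rfl N10907 D13869
theorem N13847 : nd 13847 = n13870 := ndS (p := 10908) (l := 5) rfl N10908 D13870
theorem N13848 : nd 13848 = n13871 := ndS (p := 10909) (l := 3) rfl N10909 D13871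
theorem N13849 : nd 13849 = n13872 := ndS (p := 10911) (l := 2) rfl N10911 D13872
theorem N13850 : nd 13850 = n13873 := ndS (p := 10912) (l := 1) rfl N10912 D13873
theorem N13851 : nd 13851 = n13874 := ndS (p := 10912) (l := 3) rfl N10912 D13874
theorem N13852 : nd 13852 = n13875 := ndS (p := 10912) (l := 4) rfl N10912 D13875
theorem N13853 : nd 13853 = n13876 := ndS (p := 10913) (l := 5) rfl N10913 D13876
theorem N13854 : nd 13854 = n13877 := ndS (p := 10914) (l := 3) rfl N10914 D13877
theorem N13855 : nd 13855 = n13878 := ndS (p := 10915) (l := 2) rfl N10915 D13878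
theorem N13856 : nd 13856 = n13879 := ndS (p := 10915) (l := 4) rfl N10915 D13879
theorem N13857 : nd 13857 = n13880 := ndS (p := 10916) (l := 3) rfl N10916 D13880
theorem N13858 : nd 13858 = n13881 := ndS (p := 10916) (l := 5) rfl N10916 D13881
theorem N13859 : nd 13859 = n13882 := ndS (p := 10918) (l := 2) rfl N10918 D13882
theorem N13860 : nd 13860 = n13883 := ndS (p := 10919) (l := 1) rfl N10919 D13883
theorem N13861 : nd 13861 = n13884 := ndS (p := 10919) (l := 3) rfl N10919 D13884
theorem N13862 : nd 13862 = n13885 := ndS (p := 10920) (l := 0) rfl N10920 D13885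
theorem N13863 : nd 13863 = n13886 := ndS (p := 10922) (l := 4) rfl N10922 D13886
theorem N13864 : nd 13864 = n13887 := ndS (p := 10923) (l := 5) rfl N10923 D13887
theorem N13865 : nd 13865 = n13888 := ndS (p := 10924) (l := 0) rfl N10924 D13888
theorem N13866 : nd 13866 = n13889 := ndS (p := 10924) (l := 3) rfl N10924 D13889
theorem N13867 : nd 13867 = n13890 := ndS (p := 10924) (l := 5) rfl N10924 D13890
theorem N13868 : nd 13868 = n13891 := ndS (p := 10925) (l := 4) rfl N10925 D13891
theorem N13869 : nd 13869 = n13892 := ndS (p := 10926) (l := 4) rfl N10926 D13892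
theorem N13870 : nd 13870 = n13893 := ndS (p := 10928) (l := 3) rfl N10928 D13893
theorem N13871 : nd 13871 = n13894 := ndS (p := 10928) (l := 5) rfl N10928 D13894
theorem N13872 : nd 13872 = n13895 := ndS (p := 10929) (l := 2) rfl N10929 D13895
theorem N13873 : nd 13873 = n13896 := ndS (p := 10929) (l := 4) rfl N10929 D13896
theorem N13874 : nd 13874 = n13897 := ndS (p := 10930) (l := 4) rfl N10930 D13897
theorem N13875 : nd 13875 = n13898 := ndS (p := 10931) (l := 5) rfl N10931 D13898
theorem N13876 : nd 13876 = n13899 := ndS (p := 10932) (l := 3) rfl N10932 D13899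
theorem N13877 : nd 13877 = n13900 := ndS (p := 10934) (l := 0) rfl N10934 D13900
theorem N13878 : nd 13878 = n13901 := ndS (p := 10934) (l := 3) rfl N10934 D13901
theorem N13879 : nd 13879 = n13902 := ndS (p := 10935) (l := 2) rfl N10935 D13902
theorem N13880 : nd 13880 = n13903 := ndS (p := 10935) (l := 5) rfl N10935 D13903
theorem N13881 : nd 13881 = n13904 := ndS (p := 10939) (l := 2) rfl N10939 D13904
theorem N13882 : nd 13882 = n13905 := ndS (p := 10940) (l := 1) rfl N10940 D13905
theorem N13883 : nd 13883 = n13906 := ndS (p := 10941) (l := 0) rfl N10941 D13906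
theorem N13884 : nd 13884 = n13907 := ndS (p := 10942) (l := 2) rfl N10942 D13907
theorem N13885 : nd 13885 = n13908 := ndS (p := 10943) (l := 1) rfl N10943 D13908
theorem N13886 : nd 13886 = n13909 := ndS (p := 10944) (l := 0) rfl N10944 D13909
theorem N13887 : nd 13887 = n13910 := ndS (p := 10944) (l := 5) rfl N10944 D13910
theorem N13888 : nd 13888 = n13911 := ndS (p := 10945) (l := 4) rfl N10945 D13911
theorem N13889 : nd 13889 = n13912 := ndS (p := 10947) (l := 0) rfl N10947 D13912
theorem N13890 : nd 13890 = n13913 := ndS (p := 10947) (l := 3) rfl N10947 D13913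
theorem N13891 : nd 13891 = n13914 := ndS (p := 10947) (l := 5) rfl N10947 D13914
theorem N13892 : nd 13892 = n13915 := ndS (p := 10948) (l := 4) rfl N10948 D13915
theorem N13893 : nd 13893 = n13916 := ndS (p := 10949) (l := 4) rfl N10949 D13916
theorem N13894 : nd 13894 = n13917 := ndS (p := 10951) (l := 3) rfl N10951 D13917
theorem N13895 : nd 13895 = n13918 := ndS (p := 10951) (l := 5) rfl N10951 D13918
theorem N13896 : nd 13896 = n13919 := ndS (p := 10952) (l := 2) rfl N10952 D13919
theorem N13897 : nd 13897 = n13920 := ndS (p := 10952) (l := 4) rfl N10952 D13920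
theorem N13898 : nd 13898 = n13921 := ndS (p := 10952) (l := 5) rfl N10952 D13921
theorem N13899 : nd 13899 = n13922 := ndS (p := 10953) (l := 4) rfl N10953 D13922
theorem N13900 : nd 13900 = n13923 := ndS (p := 10954) (l := 5) rfl N10954 D13923
theorem N13901 : nd 13901 = n13924 := ndS (p := 10956) (l := 3) rfl N10956 D13924
theorem N13902 : nd 13902 = n13925 := ndS (p := 10957) (l := 3) rfl N10957 D13925
theorem N13903 : nd 13903 = n13926 := ndS (p := 10957) (l := 5) rfl N10957 D13926
theorem N13904 : nd 13904 = n13927 := ndS (p := 10958) (l := 2) rfl N10958 D13927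
theorem N13905 : nd 13905 = n13928 := ndS (p := 10958) (l := 4) rfl N10958 D13928
theorem N13906 : nd 13906 = n13929 := ndS (p := 10959) (l := 4) rfl N10959 D13929
theorem N13907 : nd 13907 = n13930 := ndS (p := 10960) (l := 5) rfl N10960 D13930
theorem N13908 : nd 13908 = n13931 := ndS (p := 10961) (l := 3) rfl N10961 D13931
theorem N13909 : nd 13909 = n13932 := ndS (p := 10962) (l := 2) rfl N10962 D13932
theorem N13910 : nd 13910 = n13933 := ndS (p := 10963) (l := 1) rfl N10963 D13933
theorem N13911 : nd 13911 = n13934 := ndS (p := 10964) (l := 0) rfl N10964 D13934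
theorem N13912 : nd 13912 = n13935 := ndS (p := 10964) (l := 3) rfl N10964 D13935
theorem N13913 : nd 13913 = n13936 := ndS (p := 10965) (l := 4) rfl N10965 D13936
theorem N13914 : nd 13914 = n13937 := ndS (p := 10966) (l := 2) rfl N10966 D13937
theorem N13915 : nd 13915 = n13938 := ndS (p := 10966) (l := 4) rfl N10966 D13938
theorem N13916 : nd 13916 = n13939 := ndS (p := 10967) (l := 4) rfl N10967 D13939
theorem N13917 : nd 13917 = n13940 := ndS (p := 10968) (l := 4) rfl N10968 D13940
theorem N13918 : nd 13918 = n13941 := ndS (p := 10969) (l := 5) rfl N10969 D13941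
theorem N13919 : nd 13919 = n13942 := ndS (p := 10970) (l := 3) rfl N10970 D13942
theorem N13920 : nd 13920 = n13943 := ndS (p := 10972) (l := 2) rfl N10972 D13943
theorem N13921 : nd 13921 = n13944 := ndS (p := 10973) (l := 1) rfl N10973 D13944
theorem N13922 : nd 13922 = n13945 := ndS (p := 10973) (l := 3) rfl N10973 D13945
theorem N13923 : nd 13923 = n13946 := ndS (p := 10974) (l := 0) rfl N10974 D13946
theorem N13924 : nd 13924 = n13947 := ndS (p := 10975) (l := 3) rfl N10975 D13947
theorem N13925 : nd 13925 = n13948 := ndS (p := 10976) (l := 2) rfl N10976 D13948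
theorem N13926 : nd 13926 = n13949 := ndS (p := 10976) (l := 4) rfl N10976 D13949
theorem N13927 : nd 13927 = n13950 := ndS (p := 10977) (l := 5) rfl N10977 D13950
theorem N13928 : nd 13928 = n13951 := ndS (p := 10978) (l := 0) rfl N10978 D13951
theorem N13929 : nd 13929 = n13952 := ndS (p := 10978) (l := 4) rfl N10978 D13952
theorem N13930 : nd 13930 = n13953 := ndS (p := 10979) (l := 3) rfl N10979 D13953
theorem N13931 : nd 13931 = n13954 := ndS (p := 10979) (l := 5) rfl N10979 D13954
theorem N13932 : nd 13932 = n13955 := ndS (p := 10981) (l := 1) rfl N10981 D13955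
theorem N13933 : nd 13933 = n13956 := ndS (p := 10981) (l := 4) rfl N10981 D13956
theorem N13934 : nd 13934 = n13957 := ndS (p := 10982) (l := 5) rfl N10982 D13957
theorem N13935 : nd 13935 = n13958 := ndS (p := 10983) (l := 4) rfl N10983 D13958
theorem N13936 : nd 13936 = n13959 := ndS (p := 10984) (l := 3) rfl N10984 D13959
theorem N13937 : nd 13937 = n13960 := ndS (p := 10984) (l := 5) rfl N10984 D13960
theorem N13938 : nd 13938 = n13961 := ndS (p := 10986) (l := 2) rfl N10986 D13961
theorem N13939 : nd 13939 = n13962 := ndS (p := 10987) (l := 0) rfl N10987 D13962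
theorem N13940 : nd 13940 = n13963 := ndS (p := 10987) (l := 4) rfl N10987 D13963
theorem N13941 : nd 13941 = n13964 := ndS (p := 10988) (l := 3) rfl N10988 D13964
theorem N13942 : nd 13942 = n13965 := ndS (p := 10988) (l := 5) rfl N10988 D13965
theorem N13943 : nd 13943 = n13966 := ndS (p := 10990) (l := 0) rfl N10990 D13966
theorem N13944 : nd 13944 = n13967 := ndS (p := 10990) (l := 3) rfl N10990 D13967
theorem N13945 : nd 13945 = n13968 := ndS (p := 10990) (l := 5) rfl N10990 D13968
theorem N13946 : nd 13946 = n13969 := ndS (p := 10991) (l := 2) rfl N10991 D13969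
theorem N13947 : nd 13947 = n13970 := ndS (p := 10991) (l := 4) rfl N10991 D13970
theorem N13948 : nd 13948 = n13971 := ndS (p := 10991) (l := 5) rfl N10991 D13971
theorem N13949 : nd 13949 = n13972 := ndS (p := 10992) (l := 4) rfl N10992 D13972
theorem N13950 : nd 13950 = n13973 := ndS (p := 10994) (l := 3) rfl N10994 D13973
theorem N13951 : nd 13951 = n13974 := ndS (p := 10995) (l := 2) rfl N10995 D13974
theorem N13952 : nd 13952 = n13975 := ndS (p := 10995) (l := 4) rfl N10995 D13975
theorem N13953 : nd 13953 = n13976 := ndS (p := 10996) (l := 5) rfl N10996 D13976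
theorem N13954 : nd 13954 = n13977 := ndS (p := 10997) (l := 3) rfl N10997 D13977
theorem N13955 : nd 13955 = n13978 := ndS (p := 10998) (l := 3) rfl N10998 D13978
theorem N13956 : nd 13956 = n13979 := ndS (p := 10998) (l := 5) rfl N10998 D13979
theorem N13957 : nd 13957 = n13980 := ndS (p := 10999) (l := 2) rfl N10999 D13980
theorem N13958 : nd 13958 = n13981 := ndS (p := 10999) (l := 5) rfl N10999 D13981
theorem N13959 : nd 13959 = n13982 := ndS (p := 11001) (l := 1) rfl N11001 D13982
theorem N13960 : nd 13960 = n13983 := ndS (p := 11002) (l := 4) rfl N11002 D13983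
theorem N13961 : nd 13961 = n13984 := ndS (p := 11003) (l := 4) rfl N11003 D13984
theorem N13962 : nd 13962 = n13985 := ndS (p := 11004) (l := 5) rfl N11004 D13985
theorem N13963 : nd 13963 = n13986 := ndS (p := 11007) (l := 3) rfl N11007 D13986
theorem N13964 : nd 13964 = n13987 := ndS (p := 11007) (l := 5) rfl N11007 D13987
theorem N13965 : nd 13965 = n13988 := ndS (p := 11008) (l := 2) rfl N11008 D13988
theorem N13966 : nd 13966 = n13989 := ndS (p := 11008) (l := 4) rfl N11008 D13989
theorem N13967 : nd 13967 = n13990 := ndS (p := 11008) (l := 5) rfl N11008 D13990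
theorem N13968 : nd 13968 = n13991 := ndS (p := 11009) (l := 4) rfl N11009 D13991
theorem N13969 : nd 13969 = n13992 := ndS (p := 11011) (l := 3) rfl N11011 D13992
theorem N13970 : nd 13970 = n13993 := ndS (p := 11011) (l := 5) rfl N11011 D13993
theorem N13971 : nd 13971 = n13994 := ndS (p := 11012) (l := 2) rfl N11012 D13994
theorem N13972 : nd 13972 = n13995 := ndS (p := 11012) (l := 4) rfl N11012 D13995
theorem N13973 : nd 13973 = n13996 := ndS (p := 11013) (l := 4) rfl N11013 D13996
theorem N13974 : nd 13974 = n13997 := ndS (p := 11014) (l := 5) rfl N11014 D13997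
theorem N13975 : nd 13975 = n13998 := ndS (p := 11015) (l := 3) rfl N11015 D13998
theorem N13976 : nd 13976 = n13999 := ndS (p := 11016) (l := 2) rfl N11016 D13999
theorem N13977 : nd 13977 = n14000 := ndS (p := 11016) (l := 4) rfl N11016 D14000
theorem N13978 : nd 13978 = n14001 := ndS (p := 11016) (l := 5) rfl N11016 D14001
theorem N13979 : nd 13979 = n14002 := ndS (p := 11017) (l := 4) rfl N11017 D14002
theorem N13980 : nd 13980 = n14003 := ndS (p := 11018) (l := 1) rfl N11018 D14003
theorem N13981 : nd 13981 = n14004 := ndS (p := 11018) (l := 3) rfl N11018 D14004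
theorem N13982 : nd 13982 = n14005 := ndS (p := 11018) (l := 4) rfl N11018 D14005
theorem N13983 : nd 13983 = n14006 := ndS (p := 11018) (l := 5) rfl N11018 D14006
theorem N13984 : nd 13984 = n14007 := ndS (p := 11019) (l := 5) rfl N11019 D14007
theorem N13985 : nd 13985 = n14008 := ndS (p := 11020) (l := 4) rfl N11020 D14008
theorem N13986 : nd 13986 = n14009 := ndS (p := 11021) (l := 3) rfl N11021 D14009
theorem N13987 : nd 13987 = n14010 := ndS (p := 11022) (l := 0) rfl N11022 D14010
theorem N13988 : nd 13988 = n14011 := ndS (p := 11022) (l := 4) rfl N11022 D14011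
theorem N13989 : nd 13989 = n14012 := ndS (p := 11023) (l := 3) rfl N11023 D14012
theorem N13990 : nd 13990 = n14013 := ndS (p := 11023) (l := 5) rfl N11023 D14013
theorem N13991 : nd 13991 = n14014 := ndS (p := 11024) (l := 4) rfl N11024 D14014
theorem N13992 : nd 13992 = n14015 := ndS (p := 11025) (l := 3) rfl N11025 D14015
theorem N13993 : nd 13993 = n14016 := ndS (p := 11026) (l := 2) rfl N11026 D14016
theorem N13994 : nd 13994 = n14017 := ndS (p := 11027) (l := 1) rfl N11027 D14017
theorem N13995 : nd 13995 = n14018 := ndS (p := 11027) (l := 3) rfl N11027 D14018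
theorem N13996 : nd 13996 = n14019 := ndS (p := 11027) (l := 4) rfl N11027 D14019
theorem N13997 : nd 13997 = n14020 := ndS (p := 11028) (l := 5) rfl N11028 D14020
theorem N13998 : nd 13998 = n14021 := ndS (p := 11029) (l := 3) rfl N11029 D14021
theorem N13999 : nd 13999 = n14022 := ndS (p := 11030) (l := 2) rfl N11030 D14022
theorem N14000 : nd 14000 = n14023 := ndS (p := 11030) (l := 4) rfl N11030 D14023
theorem N14001 : nd 14001 = n14024 := ndS (p := 11031) (l := 3) rfl N11031 D14024
theorem N14002 : nd 14002 = n14025 := ndS (p := 11033) (l := 2) rfl N11033 D14025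
theorem N14003 : nd 14003 = n14026 := ndS (p := 11034) (l := 1) rfl N11034 D14026
theorem N14004 : nd 14004 = n14027 := ndS (p := 11034) (l := 3) rfl N11034 D14027
theorem N14005 : nd 14005 = n14028 := ndS (p := 11035) (l := 4) rfl N11035 D14028
theorem N14006 : nd 14006 = n14029 := ndS (p := 11036) (l := 3) rfl N11036 D14029
theorem N14007 : nd 14007 = n14030 := ndS (p := 11036) (l := 5) rfl N11036 D14030
theorem N14008 : nd 14008 = n14031 := ndS (p := 11038) (l := 3) rfl N11038 D14031
theorem N14009 : nd 14009 = n14032 := ndS (p := 11039) (l := 4) rfl N11039 D14032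
theorem N14010 : nd 14010 = n14033 := ndS (p := 11040) (l := 3) rfl N11040 D14033
theorem N14011 : nd 14011 = n14034 := ndS (p := 11040) (l := 5) rfl N11040 D14034
theorem N14012 : nd 14012 = n14035 := ndS (p := 11041) (l := 3) rfl N11041 D14035
theorem N14013 : nd 14013 = n14036 := ndS (p := 11041) (l := 5) rfl N11041 D14036
theorem N14014 : nd 14014 = n14037 := ndS (p := 11042) (l := 2) rfl N11042 D14037
theorem N14015 : nd 14015 = n14038 := ndS (p := 11042) (l := 5) rfl N11042 D14038
theorem N14016 : nd 14016 = n14039 := ndS (p := 11045) (l := 2) rfl N11045 D14039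
theorem N14017 : nd 14017 = n14040 := ndS (p := 11045) (l := 4) rfl N11045 D14040
theorem N14018 : nd 14018 = n14041 := ndS (p := 11046) (l := 5) rfl N11046 D14041
theorem N14019 : nd 14019 = n14042 := ndS (p := 11047) (l := 4) rfl N11047 D14042
theorem N14020 : nd 14020 = n14043 := ndS (p := 11048) (l := 3) rfl N11048 D14043
theorem N14021 : nd 14021 = n14044 := ndS (p := 11048) (l := 5) rfl N11048 D14044
theorem N14022 : nd 14022 = n14045 := ndS (p := 11050) (l := 2) rfl N11050 D14045
theorem N14023 : nd 14023 = n14046 := ndS (p := 11050) (l := 4) rfl N11050 D14046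
theorem N14024 : nd 14024 = n14047 := ndS (p := 11051) (l := 4) rfl N11051 D14047
theorem N14025 : nd 14025 = n14048 := ndS (p := 11052) (l := 3) rfl N11052 D14048
theorem N14026 : nd 14026 = n14049 := ndS (p := 11052) (l := 4) rfl N11052 D14049
theorem N14027 : nd 14027 = n14050 := ndS (p := 11053) (l := 5) rfl N11053 D14050
theorem N14028 : nd 14028 = n14051 := ndS (p := 11054) (l := 3) rfl N11054 D14051
theorem N14029 : nd 14029 = n14052 := ndS (p := 11056) (l := 2) rfl N11056 D14052
theorem N14030 : nd 14030 = n14053 := ndS (p := 11057) (l := 1) rfl N11057 D14053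
theorem N14031 : nd 14031 = n14054 := ndS (p := 11057) (l := 4) rfl N11057 D14054
theorem N14032 : nd 14032 = n14055 := ndS (p := 11057) (l := 5) rfl N11057 D14055
theorem N14033 : nd 14033 = n14056 := ndS (p := 11058) (l := 5) rfl N11058 D14056
theorem N14034 : nd 14034 = n14057 := ndS (p := 11059) (l := 4) rfl N11059 D14057
theorem N14035 : nd 14035 = n14058 := ndS (p := 11060) (l := 3) rfl N11060 D14058
theorem N14036 : nd 14036 = n14059 := ndS (p := 11061) (l := 0) rfl N11061 D14059
theorem N14037 : nd 14037 = n14060 := ndS (p := 11061) (l := 3) rfl N11061 D14060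
theorem N14038 : nd 14038 = n14061 := ndS (p := 11061) (l := 4) rfl N11061 D14061
theorem N14039 : nd 14039 = n14062 := ndS (p := 11062) (l := 4) rfl N11062 D14062
theorem N14040 : nd 14040 = n14063 := ndS (p := 11062) (l := 5) rfl N11062 D14063
theorem N14041 : nd 14041 = n14064 := ndS (p := 11063) (l := 3) rfl N11063 D14064
theorem N14042 : nd 14042 = n14065 := ndS (p := 11063) (l := 5) rfl N11063 D14065
theorem N14043 : nd 14043 = n14066 := ndS (p := 11064) (l := 4) rfl N11064 D14066
theorem N14044 : nd 14044 = n14067 := ndS (p := 11065) (l := 4) rfl N11065 D14067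
theorem N14045 : nd 14045 = n14068 := ndS (p := 11066) (l := 3) rfl N11066 D14068
theorem N14046 : nd 14046 = n14069 := ndS (p := 11067) (l := 2) rfl N11067 D14069
theorem N14047 : nd 14047 = n14070 := ndS (p := 11068) (l := 4) rfl N11068 D14070
theorem N14048 : nd 14048 = n14071 := ndS (p := 11069) (l := 3) rfl N11069 D14071
theorem N14049 : nd 14049 = n14072 := ndS (p := 11069) (l := 5) rfl N11069 D14072
theorem N14050 : nd 14050 = n14073 := ndS (p := 11072) (l := 3) rfl N11072 D14073
theorem N14051 : nd 14051 = n14074 := ndS (p := 11073) (l := 2) rfl N11073 D14074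
theorem N14052 : nd 14052 = n14075 := ndS (p := 11074) (l := 1) rfl N11074 D14075
theorem N14053 : nd 14053 = n14076 := ndS (p := 11075) (l := 3) rfl N11075 D14076
theorem N14054 : nd 14054 = n14077 := ndS (p := 11075) (l := 4) rfl N11075 D14077
theorem N14055 : nd 14055 = n14080 := ndS (p := 11077) (l := 5) rfl N11077 D14080
theorem N14056 : nd 14056 = n14081 := ndS (p := 11079) (l := 2) rfl N11079 D14081
theorem N14057 : nd 14057 = n14082 := ndS (p := 11080) (l := 1) rfl N11080 D14082
theorem N14058 : nd 14058 = n14083 := ndS (p := 11080) (l := 4) rfl N11080 D14083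
theorem N14059 : nd 14059 = n14085 := ndS (p := 11081) (l := 5) rfl N11081 D14085
theorem N14060 : nd 14060 = n14087 := ndS (p := 11082) (l := 5) rfl N11082 D14087
theorem N14061 : nd 14061 = n14088 := ndS (p := 11084) (l := 3) rfl N11084 D14088
theorem N14062 : nd 14062 = n14089 := ndS (p := 11085) (l := 1) rfl N11085 D14089
theorem N14063 : nd 14063 = n14090 := ndS (p := 11085) (l := 3) rfl N11085 D14090
theorem N14064 : nd 14064 = n14091 := ndS (p := 11086) (l := 2) rfl N11086 D14091
theorem N14065 : nd 14065 = n14092 := ndS (p := 11086) (l := 4) rfl N11086 D14092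
theorem N14066 : nd 14066 = n14093 := ndS (p := 11087) (l := 3) rfl N11087 D14093
theorem N14067 : nd 14067 = n14094 := ndS (p := 11087) (l := 5) rfl N11087 D14094
theorem N14068 : nd 14068 = n14095 := ndS (p := 11089) (l := 2) rfl N11089 D14095
theorem N14069 : nd 14069 = n14096 := ndS (p := 11090) (l := 0) rfl N11090 D14096
theorem N14070 : nd 14070 = n14097 := ndS (p := 11090) (l := 5) rfl N11090 D14097
theorem N14071 : nd 14071 = n14098 := ndS (p := 11091) (l := 4) rfl N11091 D14098
theorem N14072 : nd 14072 = n14099 := ndS (p := 11093) (l := 3) rfl N11093 D14099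
theorem N14073 : nd 14073 = n14100 := ndS (p := 11093) (l := 4) rfl N11093 D14100
theorem N14074 : nd 14074 = n14101 := ndS (p := 11094) (l := 2) rfl N11094 D14101
theorem N14075 : nd 14075 = n14102 := ndS (p := 11094) (l := 4) rfl N11094 D14102
theorem N14076 : nd 14076 = n14103 := ndS (p := 11095) (l := 3) rfl N11095 D14103
theorem N14077 : nd 14077 = n14104 := ndS (p := 11095) (l := 5) rfl N11095 D14104
theorem N14078 : nd 14078 = n14105 := ndS (p := 11096) (l := 3) rfl N11096 D14105
theorem N14079 : nd 14079 = n14106 := ndS (p := 11096) (l := 5) rfl N11096 D14106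
theorem N14080 : nd 14080 = n14107 := ndS (p := 11097) (l := 4) rfl N11097 D14107
theorem N14081 : nd 14081 = n14108 := ndS (p := 11099) (l := 4) rfl N11099 D14108
theorem N14082 : nd 14082 = n14109 := ndS (p := 11100) (l := 3) rfl N11100 D14109
theorem N14083 : nd 14083 = n14110 := ndS (p := 11102) (l := 3) rfl N11102 D14110
theorem N14084 : nd 14084 = n14111 := ndS (p := 11102) (l := 5) rfl N11102 D14111
theorem N14085 : nd 14085 = n14112 := ndS (p := 11103) (l := 2) rfl N11103 D14112
theorem N14086 : nd 14086 = n14113 := ndS (p := 11103) (l := 5) rfl N11103 D14113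
theorem N14087 : nd 14087 = n14114 := ndS (p := 11105) (l := 1) rfl N11105 D14114
theorem N14088 : nd 14088 = n14115 := ndS (p := 11106) (l := 4) rfl N11106 D14115
theorem N14089 : nd 14089 = n14116 := ndS (p := 11108) (l := 1) rfl N11108 D14116
theorem N14090 : nd 14090 = n14117 := ndS (p := 11109) (l := 0) rfl N11109 D14117
theorem N14091 : nd 14091 = n14118 := ndS (p := 11110) (l := 2) rfl N11110 D14118
theorem N14092 : nd 14092 = n14119 := ndS (p := 11110) (l := 4) rfl N11110 D14119
theorem N14093 : nd 14093 = n14120 := ndS (p := 11111) (l := 5) rfl N11111 D14120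
theorem N14094 : nd 14094 = n14121 := ndS (p := 11112) (l := 0) rfl N11112 D14121
theorem N14095 : nd 14095 = n14122 := ndS (p := 11112) (l := 4) rfl N11112 D14122
theorem N14096 : nd 14096 = n14123 := ndS (p := 11113) (l := 3) rfl N11113 D14123
theorem N14097 : nd 14097 = n14124 := ndS (p := 11113) (l := 5) rfl N11113 D14124
theorem N14098 : nd 14098 = n14125 := ndS (p := 11115) (l := 1) rfl N11115 D14125
theorem N14099 : nd 14099 = n14126 := ndS (p := 11115) (l := 3) rfl N11115 D14126
theorem N14100 : nd 14100 = n14127 := ndS (p := 11116) (l := 0) rfl N11116 D14127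
theorem N14101 : nd 14101 = n14128 := ndS (p := 11117) (l := 0) rfl N11117 D14128
theorem N14102 : nd 14102 = n14129 := ndS (p := 11117) (l := 3) rfl N11117 D14129
theorem N14103 : nd 14103 = n14130 := ndS (p := 11118) (l := 4) rfl N11118 D14130
theorem N14104 : nd 14104 = n14131 := ndS (p := 11119) (l := 4) rfl N11119 D14131
theorem N14105 : nd 14105 = n14132 := ndS (p := 11121) (l := 4) rfl N11121 D14132
theorem N14106 : nd 14106 = n14133 := ndS (p := 11122) (l := 3) rfl N11122 D14133
theorem N14107 : nd 14107 = n14134 := ndS (p := 11122) (l := 5) rfl N11122 D14134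
theorem N14108 : nd 14108 = n14135 := ndS (p := 11123) (l := 1) rfl N11123 D14135
theorem N14109 : nd 14109 = n14136 := ndS (p := 11123) (l := 4) rfl N11123 D14136
theorem N14110 : nd 14110 = n14137 := ndS (p := 11124) (l := 3) rfl N11124 D14137
theorem N14111 : nd 14111 = n14138 := ndS (p := 11124) (l := 5) rfl N11124 D14138
theorem N14112 : nd 14112 = n14139 := ndS (p := 11128) (l := 1) rfl N11128 D14139
theorem N14113 : nd 14113 = n14140 := ndS (p := 11130) (l := 0) rfl N11130 D14140
theorem N14114 : nd 14114 = n14141 := ndS (p := 11131) (l := 1) rfl N11131 D14141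
theorem N14115 : nd 14115 = n14142 := ndS (p := 11131) (l := 3) rfl N11131 D14142
theorem N14116 : nd 14116 = n14143 := ndS (p := 11131) (l := 5) rfl N11131 D14143
theorem N14117 : nd 14117 = n14144 := ndS (p := 11132) (l := 4) rfl N11132 D14144
theorem N14118 : nd 14118 = n14145 := ndS (p := 11133) (l := 0) rfl N11133 D14145
theorem N14119 : nd 14119 = n14146 := ndS (p := 11133) (l := 3) rfl N11133 D14146
theorem N14120 : nd 14120 = n14147 := ndS (p := 11133) (l := 5) rfl N11133 D14147
theorem N14121 : nd 14121 = n14148 := ndS (p := 11137) (l := 1) rfl N11137 D14148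
theorem N14122 : nd 14122 = n14149 := ndS (p := 11138) (l := 0) rfl N11138 D14149
theorem N14123 : nd 14123 = n14150 := ndS (p := 11138) (l := 3) rfl N11138 D14150
theorem N14124 : nd 14124 = n14151 := ndS (p := 11141) (l := 3) rfl N11141 D14151
theorem N14125 : nd 14125 = n14152 := ndS (p := 11142) (l := 4) rfl N11142 D14152
theorem N14126 : nd 14126 = n14153 := ndS (p := 11143) (l := 4) rfl N11143 D14153
theorem N14127 : nd 14127 = n14154 := ndS (p := 11144) (l := 5) rfl N11144 D14154
theorem N14128 : nd 14128 = n14155 := ndS (p := 11145) (l := 3) rfl N11145 D14155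
theorem N14129 : nd 14129 = n14156 := ndS (p := 11146) (l := 4) rfl N11146 D14156
theorem N14130 : nd 14130 = n14157 := ndS (p := 11147) (l := 1) rfl N11147 D14157
theorem N14131 : nd 14131 = n14158 := ndS (p := 11147) (l := 4) rfl N11147 D14158
theorem N14132 : nd 14132 = n14159 := ndS (p := 11148) (l := 5) rfl N11148 D14159
theorem N14133 : nd 14133 = n14160 := ndS (p := 11149) (l := 4) rfl N11149 D14160
theorem N14134 : nd 14134 = n14161 := ndS (p := 11150) (l := 3) rfl N11150 D14161
theorem N14135 : nd 14135 = n14162 := ndS (p := 11150) (l := 5) rfl N11150 D14162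
theorem N14136 : nd 14136 = n14163 := ndS (p := 11151) (l := 4) rfl N11151 D14163
theorem N14137 : nd 14137 = n14164 := ndS (p := 11152) (l := 3) rfl N11152 D14164
theorem N14138 : nd 14138 = n14165 := ndS (p := 11153) (l := 2) rfl N11153 D14165
theorem N14139 : nd 14139 = n14166 := ndS (p := 11154) (l := 1) rfl N11154 D14166
theorem N14140 : nd 14140 = n14167 := ndS (p := 11154) (l := 3) rfl N11154 D14167
theorem N14141 : nd 14141 = n14168 := ndS (p := 11155) (l := 2) rfl N11155 D14168
theorem N14142 : nd 14142 = n14169 := ndS (p := 11155) (l := 4) rfl N11155 D14169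
theorem N14143 : nd 14143 = n14170 := ndS (p := 11158) (l := 4) rfl N11158 D14170
theorem N14144 : nd 14144 = n14171 := ndS (p := 11159) (l := 3) rfl N11159 D14171
theorem N14145 : nd 14145 = n14172 := ndS (p := 11159) (l := 5) rfl N11159 D14172
theorem N14146 : nd 14146 = n14173 := ndS (p := 11160) (l := 3) rfl N11160 D14173
theorem N14147 : nd 14147 = n14174 := ndS (p := 11160) (l := 5) rfl N11160 D14174
theorem N14148 : nd 14148 = n14175 := ndS (p := 11161) (l := 2) rfl N11161 D14175
theorem N14149 : nd 14149 = n14176 := ndS (p := 11161) (l := 5) rfl N11161 D14176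
theorem N14150 : nd 14150 = n14177 := ndS (p := 11163) (l := 1) rfl N11163 D14177
theorem N14151 : nd 14151 = n14178 := ndS (p := 11164) (l := 4) rfl N11164 D14178
theorem N14152 : nd 14152 = n14179 := ndS (p := 11165) (l := 3) rfl N11165 D14179
theorem N14153 : nd 14153 = n14180 := ndS (p := 11165) (l := 5) rfl N11165 D14180
theorem N14154 : nd 14154 = n14181 := ndS (p := 11166) (l := 2) rfl N11166 D14181
theorem N14155 : nd 14155 = n14182 := ndS (p := 11166) (l := 5) rfl N11166 D14182
theorem N14156 : nd 14156 = n14183 := ndS (p := 11168) (l := 1) rfl N11168 D14183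
theorem N14157 : nd 14157 = n14184 := ndS (p := 11168) (l := 3) rfl N11168 D14184
theorem N14158 : nd 14158 = n14185 := ndS (p := 11168) (l := 5) rfl N11168 D14185
theorem N14159 : nd 14159 = n14186 := ndS (p := 11169) (l := 4) rfl N11169 D14186
theorem N14160 : nd 14160 = n14187 := ndS (p := 11171) (l := 2) rfl N11171 D14187
theorem N14161 : nd 14161 = n14188 := ndS (p := 11171) (l := 5) rfl N11171 D14188
theorem N14162 : nd 14162 = n14189 := ndS (p := 11173) (l := 1) rfl N11173 D14189
theorem N14163 : nd 14163 = n14190 := ndS (p := 11174) (l := 4) rfl N11174 D14190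
theorem N14164 : nd 14164 = n14191 := ndS (p := 11175) (l := 0) rfl N11175 D14191
theorem N14165 : nd 14165 = n14192 := ndS (p := 11175) (l := 3) rfl N11175 D14192
theorem N14166 : nd 14166 = n14193 := ndS (p := 11176) (l := 4) rfl N11176 D14193
theorem N14167 : nd 14167 = n14194 := ndS (p := 11177) (l := 1) rfl N11177 D14194
theorem N14168 : nd 14168 = n14195 := ndS (p := 11177) (l := 3) rfl N11177 D14195
theorem N14169 : nd 14169 = n14196 := ndS (p := 11177) (l := 5) rfl N11177 D14196
theorem N14170 : nd 14170 = n14197 := ndS (p := 11178) (l := 4) rfl N11178 D14197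
theorem N14171 : nd 14171 = n14198 := ndS (p := 11179) (l := 0) rfl N11179 D14198
theorem N14172 : nd 14172 = n14199 := ndS (p := 11179) (l := 3) rfl N11179 D14199
theorem N14173 : nd 14173 = n14200 := ndS (p := 11179) (l := 5) rfl N11179 D14200
theorem N14174 : nd 14174 = n14201 := ndS (p := 11180) (l := 4) rfl N11180 D14201
theorem N14175 : nd 14175 = n14202 := ndS (p := 11181) (l := 4) rfl N11181 D14202
theorem N14176 : nd 14176 = n14203 := ndS (p := 11183) (l := 3) rfl N11183 D14203
theorem N14177 : nd 14177 = n14204 := ndS (p := 11184) (l := 2) rfl N11184 D14204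
theorem N14178 : nd 14178 = n14205 := ndS (p := 11184) (l := 4) rfl N11184 D14205
theorem N14179 : nd 14179 = n14206 := ndS (p := 11185) (l := 1) rfl N11185 D14206
theorem N14180 : nd 14180 = n14207 := ndS (p := 11185) (l := 4) rfl N11185 D14207
theorem N14181 : nd 14181 = n14208 := ndS (p := 11186) (l := 5) rfl N11186 D14208
theorem N14182 : nd 14182 = n14209 := ndS (p := 11187) (l := 0) rfl N11187 D14209
theorem N14183 : nd 14183 = n14210 := ndS (p := 11187) (l := 4) rfl N11187 D14210
theorem N14184 : nd 14184 = n14211 := ndS (p := 11188) (l := 3) rfl N11188 D14211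
theorem N14185 : nd 14185 = n14212 := ndS (p := 11188) (l := 5) rfl N11188 D14212
theorem N14186 : nd 14186 = n14213 := ndS (p := 11189) (l := 4) rfl N11189 D14213
theorem N14187 : nd 14187 = n14214 := ndS (p := 11190) (l := 4) rfl N11190 D14214
theorem N14188 : nd 14188 = n14215 := ndS (p := 11192) (l := 4) rfl N11192 D14215
theorem N14189 : nd 14189 = n14216 := ndS (p := 11193) (l := 3) rfl N11193 D14216
theorem N14190 : nd 14190 = n14217 := ndS (p := 11193) (l := 5) rfl N11193 D14217
theorem N14191 : nd 14191 = n14218 := ndS (p := 11194) (l := 3) rfl N11194 D14218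
theorem N14192 : nd 14192 = n14219 := ndS (p := 11194) (l := 5) rfl N11194 D14219
theorem N14193 : nd 14193 = n14220 := ndS (p := 11197) (l := 3) rfl N11197 D14220
theorem N14194 : nd 14194 = n14221 := ndS (p := 11198) (l := 2) rfl N11198 D14221
theorem N14195 : nd 14195 = n14222 := ndS (p := 11199) (l := 1) rfl N11199 D14222
theorem N14196 : nd 14196 = n14223 := ndS (p := 11199) (l := 3) rfl N11199 D14223
theorem N14197 : nd 14197 = n14224 := ndS (p := 11200) (l := 1) rfl N11200 D14224
theorem N14198 : nd 14198 = n14225 := ndS (p := 11202) (l := 0) rfl N11202 D14225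
theorem N14199 : nd 14199 = n14226 := ndS (p := 11203) (l := 4) rfl N11203 D14226
theorem N14200 : nd 14200 = n14227 := ndS (p := 11204) (l := 3) rfl N11204 D14227
theorem N14201 : nd 14201 = n14228 := ndS (p := 11204) (l := 5) rfl N11204 D14228
theorem N14202 : nd 14202 = n14229 := ndS (p := 11205) (l := 3) rfl N11205 D14229
theorem N14203 : nd 14203 = n14230 := ndS (p := 11205) (l := 5) rfl N11205 D14230
theorem N14204 : nd 14204 = n14231 := ndS (p := 11208) (l := 1) rfl N11208 D14231
theorem N14205 : nd 14205 = n14232 := ndS (p := 11208) (l := 3) rfl N11208 D14232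
theorem N14206 : nd 14206 = n14233 := ndS (p := 11209) (l := 4) rfl N11209 D14233
theorem N14207 : nd 14207 = n14234 := ndS (p := 11210) (l := 3) rfl N11210 D14234
theorem N14208 : nd 14208 = n14235 := ndS (p := 11210) (l := 5) rfl N11210 D14235
theorem N14209 : nd 14209 = n14236 := ndS (p := 11211) (l := 2) rfl N11211 D14236
theorem N14210 : nd 14210 = n14237 := ndS (p := 11211) (l := 5) rfl N11211 D14237
theorem N14211 : nd 14211 = n14238 := ndS (p := 11213) (l := 1) rfl N11213 D14238
theorem N14212 : nd 14212 = n14239 := ndS (p := 11214) (l := 4) rfl N11214 D14239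
theorem N14213 : nd 14213 = n14240 := ndS (p := 11215) (l := 4) rfl N11215 D14240
theorem N14214 : nd 14214 = n14241 := ndS (p := 11216) (l := 3) rfl N11216 D14241
theorem N14215 : nd 14215 = n14242 := ndS (p := 11217) (l := 3) rfl N11217 D14242
theorem N14216 : nd 14216 = n14243 := ndS (p := 11217) (l := 5) rfl N11217 D14243
theorem N14217 : nd 14217 = n14244 := ndS (p := 11218) (l := 2) rfl N11218 D14244
theorem N14218 : nd 14218 = n14245 := ndS (p := 11218) (l := 5) rfl N11218 D14245
theorem N14219 : nd 14219 = n14246 := ndS (p := 11219) (l := 4) rfl N11219 D14246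
theorem N14220 : nd 14220 = n14247 := ndS (p := 11220) (l := 3) rfl N11220 D14247
theorem N14221 : nd 14221 = n14248 := ndS (p := 11221) (l := 2) rfl N11221 D14248
theorem N14222 : nd 14222 = n14249 := ndS (p := 11221) (l := 5) rfl N11221 D14249
theorem N14223 : nd 14223 = n14250 := ndS (p := 11224) (l := 4) rfl N11224 D14250
theorem N14224 : nd 14224 = n14251 := ndS (p := 11225) (l := 3) rfl N11225 D14251
theorem N14225 : nd 14225 = n14252 := ndS (p := 11226) (l := 2) rfl N11226 D14252
theorem N14226 : nd 14226 = n14253 := ndS (p := 11227) (l := 1) rfl N11227 D14253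
theorem N14227 : nd 14227 = n14254 := ndS (p := 11227) (l := 3) rfl N11227 D14254
theorem N14228 : nd 14228 = n14255 := ndS (p := 11228) (l := 0) rfl N11228 D14255
theorem N14229 : nd 14229 = n14256 := ndS (p := 11230) (l := 2) rfl N11230 D14256
theorem N14230 : nd 14230 = n14257 := ndS (p := 11230) (l := 5) rfl N11230 D14257
theorem N14231 : nd 14231 = n14258 := ndS (p := 11232) (l := 1) rfl N11232 D14258
theorem N14232 : nd 14232 = n14259 := ndS (p := 11233) (l := 3) rfl N11233 D14259
theorem N14233 : nd 14233 = n14260 := ndS (p := 11233) (l := 5) rfl N11233 D14260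
theorem N14234 : nd 14234 = n14261 := ndS (p := 11234) (l := 2) rfl N11234 D14261
theorem N14235 : nd 14235 = n14262 := ndS (p := 11234) (l := 5) rfl N11234 D14262
theorem N14236 : nd 14236 = n14263 := ndS (p := 11236) (l := 1) rfl N11236 D14263
theorem N14237 : nd 14237 = n14264 := ndS (p := 11236) (l := 3) rfl N11236 D14264
theorem N14238 : nd 14238 = n14265 := ndS (p := 11236) (l := 5) rfl N11236 D14265
theorem N14239 : nd 14239 = n14266 := ndS (p := 11237) (l := 4) rfl N11237 D14266
theorem N14240 : nd 14240 = n14267 := ndS (p := 11238) (l := 3) rfl N11238 D14267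
theorem N14241 : nd 14241 = n14268 := ndS (p := 11239) (l := 2) rfl N11239 D14268
theorem N14242 : nd 14242 = n14269 := ndS (p := 11240) (l := 0) rfl N11240 D14269
theorem N14243 : nd 14243 = n14270 := ndS (p := 11240) (l := 3) rfl N11240 D14270
theorem N14244 : nd 14244 = n14271 := ndS (p := 11240) (l := 5) rfl N11240 D14271
theorem N14245 : nd 14245 = n14272 := ndS (p := 11241) (l := 4) rfl N11241 D14272
theorem N14246 : nd 14246 = n14273 := ndS (p := 11242) (l := 4) rfl N11242 D14273
theorem N14247 : nd 14247 = n14274 := ndS (p := 11243) (l := 3) rfl N11243 D14274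
theorem N14248 : nd 14248 = n14275 := ndS (p := 11244) (l := 2) rfl N11244 D14275
theorem N14249 : nd 14249 = n14276 := ndS (p := 11245) (l := 1) rfl N11245 D14276
theorem N14250 : nd 14250 = n14277 := ndS (p := 11245) (l := 3) rfl N11245 D14277
theorem N14251 : nd 14251 = n14278 := ndS (p := 11246) (l := 2) rfl N11246 D14278
theorem N14252 : nd 14252 = n14279 := ndS (p := 11246) (l := 4) rfl N11246 D14279
theorem N14253 : nd 14253 = n14280 := ndS (p := 11247) (l := 3) rfl N11247 D14280
theorem N14254 : nd 14254 = n14281 := ndS (p := 11248) (l := 2) rfl N11248 D14281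
theorem N14255 : nd 14255 = n14282 := ndS (p := 11248) (l := 4) rfl N11248 D14282
theorem N14256 : nd 14256 = n14283 := ndS (p := 11249) (l := 5) rfl N11249 D14283
theorem N14257 : nd 14257 = n14284 := ndS (p := 11250) (l := 1) rfl N11250 D14284
theorem N14258 : nd 14258 = n14285 := ndS (p := 11250) (l := 3) rfl N11250 D14285
theorem N14259 : nd 14259 = n14286 := ndS (p := 11250) (l := 5) rfl N11250 D14286
theorem N14260 : nd 14260 = n14287 := ndS (p := 11251) (l := 4) rfl N11251 D14287
theorem N14261 : nd 14261 = n14288 := ndS (p := 11252) (l := 0) rfl N11252 D14288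
theorem N14262 : nd 14262 = n14289 := ndS (p := 11254) (l := 3) rfl N11254 D14289
theorem N14263 : nd 14263 = n14290 := ndS (p := 11255) (l := 2) rfl N11255 D14290
theorem N14264 : nd 14264 = n14291 := ndS (p := 11255) (l := 4) rfl N11255 D14291
theorem N14265 : nd 14265 = n14292 := ndS (p := 11256) (l := 5) rfl N11256 D14292
theorem N14266 : nd 14266 = n14293 := ndS (p := 11257) (l := 1) rfl N11257 D14293
theorem N14267 : nd 14267 = n14294 := ndS (p := 11257) (l := 3) rfl N11257 D14294
theorem N14268 : nd 14268 = n14295 := ndS (p := 11257) (l := 5) rfl N11257 D14295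
theorem N14269 : nd 14269 = n14296 := ndS (p := 11258) (l := 4) rfl N11258 D14296
theorem N14270 : nd 14270 = n14297 := ndS (p := 11259) (l := 0) rfl N11259 D14297
theorem N14271 : nd 14271 = n14298 := ndS (p := 11259) (l := 3) rfl N11259 D14298
theorem N14272 : nd 14272 = n14299 := ndS (p := 11259) (l := 5) rfl N11259 D14299
theorem N14273 : nd 14273 = n14300 := ndS (p := 11260) (l := 2) rfl N11260 D14300
theorem N14274 : nd 14274 = n14301 := ndS (p := 11260) (l := 4) rfl N11260 D14301
theorem N14275 : nd 14275 = n14302 := ndS (p := 11260) (l := 5) rfl N11260 D14302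
theorem N14276 : nd 14276 = n14303 := ndS (p := 11261) (l := 4) rfl N11261 D14303
theorem N14277 : nd 14277 = n14304 := ndS (p := 11264) (l := 4) rfl N11264 D14304
theorem N14278 : nd 14278 = n14305 := ndS (p := 11265) (l := 5) rfl N11265 D14305
theorem N14279 : nd 14279 = n14306 := ndS (p := 11266) (l := 3) rfl N11266 D14306
theorem N14280 : nd 14280 = n14307 := ndS (p := 11267) (l := 2) rfl N11267 D14307
theorem N14281 : nd 14281 = n14308 := ndS (p := 11267) (l := 4) rfl N11267 D14308
theorem N14282 : nd 14282 = n14309 := ndS (p := 11268) (l := 1) rfl N11268 D14309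
theorem N14283 : nd 14283 = n14310 := ndS (p := 11268) (l := 3) rfl N11268 D14310
theorem N14284 : nd 14284 = n14311 := ndS (p := 11268) (l := 4) rfl N11268 D14311
theorem N14285 : nd 14285 = n14312 := ndS (p := 11269) (l := 5) rfl N11269 D14312
theorem N14286 : nd 14286 = n14313 := ndS (p := 11270) (l := 0) rfl N11270 D14313
theorem N14287 : nd 14287 = n14314 := ndS (p := 11270) (l := 4) rfl N11270 D14314
theorem N14288 : nd 14288 = n14315 := ndS (p := 11271) (l := 5) rfl N11271 D14315
theorem N14289 : nd 14289 = n14316 := ndS (p := 11273) (l := 1) rfl N11273 D14316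
theorem N14290 : nd 14290 = n14317 := ndS (p := 11273) (l := 3) rfl N11273 D14317
theorem N14291 : nd 14291 = n14318 := ndS (p := 11274) (l := 2) rfl N11274 D14318
theorem N14292 : nd 14292 = n14319 := ndS (p := 11274) (l := 4) rfl N11274 D14319
theorem N14293 : nd 14293 = n14320 := ndS (p := 11275) (l := 5) rfl N11275 D14320
theorem N14294 : nd 14294 = n14321 := ndS (p := 11277) (l := 3) rfl N11277 D14321
theorem N14295 : nd 14295 = n14322 := ndS (p := 11277) (l := 5) rfl N11277 D14322
theorem N14296 : nd 14296 = n14323 := ndS (p := 11278) (l := 4) rfl N11278 D14323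
theorem N14297 : nd 14297 = n14324 := ndS (p := 11278) (l := 5) rfl N11278 D14324
theorem N14298 : nd 14298 = n14325 := ndS (p := 11279) (l := 4) rfl N11279 D14325
theorem N14299 : nd 14299 = n14326 := ndS (p := 11281) (l := 3) rfl N11281 D14326
theorem N14300 : nd 14300 = n14327 := ndS (p := 11281) (l := 5) rfl N11281 D14327
theorem N14301 : nd 14301 = n14328 := ndS (p := 11282) (l := 2) rfl N11282 D14328
theorem N14302 : nd 14302 = n14329 := ndS (p := 11284) (l := 3) rfl N11284 D14329
theorem N14303 : nd 14303 = n14330 := ndS (p := 11285) (l := 4) rfl N11285 D14330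
theorem N14304 : nd 14304 = n14331 := ndS (p := 11286) (l := 1) rfl N11286 D14331
theorem N14305 : nd 14305 = n14332 := ndS (p := 11286) (l := 4) rfl N11286 D14332
theorem N14306 : nd 14306 = n14333 := ndS (p := 11287) (l := 5) rfl N11287 D14333
theorem N14307 : nd 14307 = n14334 := ndS (p := 11288) (l := 0) rfl N11288 D14334
theorem N14308 : nd 14308 = n14335 := ndS (p := 11288) (l := 3) rfl N11288 D14335
theorem N14309 : nd 14309 = n14336 := ndS (p := 11289) (l := 4) rfl N11289 D14336
theorem N14310 : nd 14310 = n14337 := ndS (p := 11290) (l := 4) rfl N11290 D14337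
theorem N14311 : nd 14311 = n14338 := ndS (p := 11293) (l := 3) rfl N11293 D14338
theorem N14312 : nd 14312 = n14339 := ndS (p := 11293) (l := 5) rfl N11293 D14339
theorem N14313 : nd 14313 = n14340 := ndS (p := 11294) (l := 2) rfl N11294 D14340
theorem N14314 : nd 14314 = n14341 := ndS (p := 11296) (l := 2) rfl N11296 D14341
theorem N14315 : nd 14315 = n14342 := ndS (p := 11296) (l := 4) rfl N11296 D14342
theorem N14316 : nd 14316 = n14343 := ndS (p := 11297) (l := 4) rfl N11297 D14343
theorem N14317 : nd 14317 = n14344 := ndS (p := 11298) (l := 3) rfl N11298 D14344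
theorem N14318 : nd 14318 = n14345 := ndS (p := 11301) (l := 4) rfl N11301 D14345
theorem N14319 : nd 14319 = n14346 := ndS (p := 11302) (l := 4) rfl N11302 D14346
theorem N14320 : nd 14320 = n14347 := ndS (p := 11303) (l := 5) rfl N11303 D14347
theorem N14321 : nd 14321 = n14348 := ndS (p := 11304) (l := 3) rfl N11304 D14348
theorem N14322 : nd 14322 = n14349 := ndS (p := 11304) (l := 5) rfl N11304 D14349
theorem N14323 : nd 14323 = n14350 := ndS (p := 11305) (l := 5) rfl N11305 D14350
theorem N14324 : nd 14324 = n14351 := ndS (p := 11306) (l := 4) rfl N11306 D14351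
theorem N14325 : nd 14325 = n14352 := ndS (p := 11307) (l := 3) rfl N11307 D14352
theorem N14326 : nd 14326 = n14353 := ndS (p := 11309) (l := 3) rfl N11309 D14353
theorem N14327 : nd 14327 = n14354 := ndS (p := 11309) (l := 5) rfl N11309 D14354
theorem N14328 : nd 14328 = n14355 := ndS (p := 11310) (l := 2) rfl N11310 D14355
theorem N14329 : nd 14329 = n14356 := ndS (p := 11310) (l := 5) rfl N11310 D14356
theorem N14330 : nd 14330 = n14357 := ndS (p := 11312) (l := 4) rfl N11312 D14357
theorem N14331 : nd 14331 = n14358 := ndS (p := 11313) (l := 3) rfl N11313 D14358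
theorem N14332 : nd 14332 = n14359 := ndS (p := 11313) (l := 5) rfl N11313 D14359
theorem N14333 : nd 14333 = n14360 := ndS (p := 11314) (l := 2) rfl N11314 D14360
theorem N14334 : nd 14334 = n14361 := ndS (p := 11314) (l := 5) rfl N11314 D14361
theorem N14335 : nd 14335 = n14362 := ndS (p := 11316) (l := 1) rfl N11316 D14362
theorem N14336 : nd 14336 = n14363 := ndS (p := 11317) (l := 4) rfl N11317 D14363
theorem N14337 : nd 14337 = n14364 := ndS (p := 11318) (l := 2) rfl N11318 D14364
theorem N14338 : nd 14338 = n14365 := ndS (p := 11318) (l := 5) rfl N11318 D14365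
theorem N14339 : nd 14339 = n14366 := ndS (p := 11320) (l := 5) rfl N11320 D14366
theorem N14340 : nd 14340 = n14367 := ndS (p := 11321) (l := 4) rfl N11321 D14367
theorem N14341 : nd 14341 = n14368 := ndS (p := 11323) (l := 4) rfl N11323 D14368
theorem N14342 : nd 14342 = n14369 := ndS (p := 11324) (l := 4) rfl N11324 D14369
theorem N14343 : nd 14343 = n14370 := ndS (p := 11329) (l := 2) rfl N11329 D14370
theorem N14344 : nd 14344 = n14371 := ndS (p := 11331) (l := 3) rfl N11331 D14371
theorem N14345 : nd 14345 = n14372 := ndS (p := 11334) (l := 0) rfl N11334 D14372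
theorem N14346 : nd 14346 = n14373 := ndS (p := 11335) (l := 3) rfl N11335 D14373
theorem N14347 : nd 14347 = n14374 := ndS (p := 11337) (l := 4) rfl N11337 D14374
theorem N14348 : nd 14348 = n14375 := ndS (p := 11338) (l := 5) rfl N11338 D14375
theorem N14349 : nd 14349 = n14376 := ndS (p := 11339) (l := 3) rfl N11339 D14376
theorem N14350 : nd 14350 = n14377 := ndS (p := 11342) (l := 5) rfl N11342 D14377
theorem N14351 : nd 14351 = n14378 := ndS (p := 11343) (l := 4) rfl N11343 D14378
theorem N14352 : nd 14352 = n14379 := ndS (p := 11344) (l := 3) rfl N11344 D14379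
theorem N14353 : nd 14353 = n14380 := ndS (p := 11344) (l := 5) rfl N11344 D14380
theorem N14354 : nd 14354 = n14381 := ndS (p := 11346) (l := 5) rfl N11346 D14381
theorem N14355 : nd 14355 = n14382 := ndS (p := 11347) (l := 5) rfl N11347 D14382
theorem N14356 : nd 14356 = n14383 := ndS (p := 11349) (l := 3) rfl N11349 D14383
theorem N14357 : nd 14357 = n14384 := ndS (p := 11350) (l := 2) rfl N11350 D14384
theorem N14358 : nd 14358 = n14385 := ndS (p := 11351) (l := 1) rfl N11351 D14385
theorem N14359 : nd 14359 = n14386 := ndS (p := 11352) (l := 0) rfl N11352 D14386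
theorem N14360 : nd 14360 = n14387 := ndS (p := 11352) (l := 3) rfl N11352 D14387
theorem N14361 : nd 14361 = n14388 := ndS (p := 11353) (l := 2) rfl N11353 D14388
theorem N14362 : nd 14362 = n14389 := ndS (p := 11353) (l := 4) rfl N11353 D14389
theorem N14363 : nd 14363 = n14390 := ndS (p := 11353) (l := 5) rfl N11353 D14390
theorem N14364 : nd 14364 = n14391 := ndS (p := 11354) (l := 4) rfl N11354 D14391
theorem N14365 : nd 14365 = n14392 := ndS (p := 11356) (l := 0) rfl N11356 D14392
theorem N14366 : nd 14366 = n14393 := ndS (p := 11356) (l := 3) rfl N11356 D14393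
theorem N14367 : nd 14367 = n14394 := ndS (p := 11356) (l := 5) rfl N11356 D14394
theorem N14368 : nd 14368 = n14395 := ndS (p := 11357) (l := 2) rfl N11357 D14395
theorem N14369 : nd 14369 = n14396 := ndS (p := 11357) (l := 5) rfl N11357 D14396
theorem N14370 : nd 14370 = n14397 := ndS (p := 11361) (l := 0) rfl N11361 D14397
theorem N14371 : nd 14371 = n14398 := ndS (p := 11361) (l := 3) rfl N11361 D14398
theorem N14372 : nd 14372 = n14399 := ndS (p := 11361) (l := 5) rfl N11361 D14399
theorem N14373 : nd 14373 = n14400 := ndS (p := 11362) (l := 4) rfl N11362 D14400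
theorem N14374 : nd 14374 = n14401 := ndS (p := 11363) (l := 4) rfl N11363 D14401
theorem N14375 : nd 14375 = n14402 := ndS (p := 11365) (l := 3) rfl N11365 D14402
theorem N14376 : nd 14376 = n14403 := ndS (p := 11365) (l := 5) rfl N11365 D14403
theorem N14377 : nd 14377 = n14404 := ndS (p := 11366) (l := 2) rfl N11366 D14404
theorem N14378 : nd 14378 = n14405 := ndS (p := 11366) (l := 4) rfl N11366 D14405
theorem N14379 : nd 14379 = n14406 := ndS (p := 11366) (l := 5) rfl N11366 D14406
theorem N14380 : nd 14380 = n14407 := ndS (p := 11368) (l := 1) rfl N11368 D14407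
theorem N14381 : nd 14381 = n14408 := ndS (p := 11368) (l := 4) rfl N11368 D14408
theorem N14382 : nd 14382 = n14409 := ndS (p := 11369) (l := 5) rfl N11369 D14409
theorem N14383 : nd 14383 = n14410 := ndS (p := 11370) (l := 4) rfl N11370 D14410
theorem N14384 : nd 14384 = n14411 := ndS (p := 11371) (l := 3) rfl N11371 D14411
theorem N14385 : nd 14385 = n14412 := ndS (p := 11372) (l := 2) rfl N11372 D14412
theorem N14386 : nd 14386 = n14413 := ndS (p := 11372) (l := 4) rfl N11372 D14413
theorem N14387 : nd 14387 = n14414 := ndS (p := 11373) (l := 4) rfl N11373 D14414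
theorem N14388 : nd 14388 = n14415 := ndS (p := 11374) (l := 3) rfl N11374 D14415
theorem N14389 : nd 14389 = n14416 := ndS (p := 11374) (l := 4) rfl N11374 D14416
theorem N14390 : nd 14390 = n14417 := ndS (p := 11375) (l := 5) rfl N11375 D14417
theorem N14391 : nd 14391 = n14418 := ndS (p := 11376) (l := 3) rfl N11376 D14418
theorem N14392 : nd 14392 = n14419 := ndS (p := 11378) (l := 2) rfl N11378 D14419
theorem N14393 : nd 14393 = n14420 := ndS (p := 11385) (l := 5) rfl N11385 D14420
theorem N14394 : nd 14394 = n14421 := ndS (p := 11388) (l := 2) rfl N11388 D14421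
theorem N14395 : nd 14395 = n14422 := ndS (p := 11388) (l := 5) rfl N11388 D14422
theorem N14396 : nd 14396 = n14423 := ndS (p := 11390) (l := 1) rfl N11390 D14423
theorem N14397 : nd 14397 = n14424 := ndS (p := 11392) (l := 1) rfl N11392 D14424
theorem N14398 : nd 14398 = n14425 := ndS (p := 11393) (l := 0) rfl N11393 D14425
theorem N14399 : nd 14399 = n14426 := ndS (p := 11393) (l := 3) rfl N11393 D14426
theorem N14400 : nd 14400 = n14427 := ndS (p := 11395) (l := 0) rfl N11395 D14427
theorem N14401 : nd 14401 = n14428 := ndS (p := 11397) (l := 3) rfl N11397 D14428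
theorem N14402 : nd 14402 = n14429 := ndS (p := 11397) (l := 5) rfl N11397 D14429
theorem N14403 : nd 14403 = n14430 := ndS (p := 11402) (l := 3) rfl N11402 D14430
theorem N14404 : nd 14404 = n14431 := ndS (p := 11403) (l := 4) rfl N11403 D14431
theorem N14405 : nd 14405 = n14432 := ndS (p := 11406) (l := 1) rfl N11406 D14432
theorem N14406 : nd 14406 = n14433 := ndS (p := 11407) (l := 4) rfl N11407 D14433
theorem N14407 : nd 14407 = n14434 := ndS (p := 11410) (l := 5) rfl N11410 D14434
theorem N14408 : nd 14408 = n14435 := ndS (p := 11411) (l := 2) rfl N11411 D14435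
theorem N14409 : nd 14409 = n14436 := ndS (p := 11411) (l := 5) rfl N11411 D14436
theorem N14410 : nd 14410 = n14437 := ndS (p := 11413) (l := 2) rfl N11413 D14437
theorem N14411 : nd 14411 = n14438 := ndS (p := 11413) (l := 5) rfl N11413 D14438
theorem N14412 : nd 14412 = n14439 := ndS (p := 11415) (l := 1) rfl N11415 D14439
theorem N14413 : nd 14413 = n14440 := ndS (p := 11415) (l := 3) rfl N11415 D14440
theorem N14414 : nd 14414 = n14441 := ndS (p := 11415) (l := 5) rfl N11415 D14441
theorem N14415 : nd 14415 = n14442 := ndS (p := 11416) (l := 4) rfl N11416 D14442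
theorem N14416 : nd 14416 = n14443 := ndS (p := 11417) (l := 3) rfl N11417 D14443
theorem N14417 : nd 14417 = n14444 := ndS (p := 11418) (l := 2) rfl N11418 D14444
theorem N14418 : nd 14418 = n14445 := ndS (p := 11419) (l := 1) rfl N11419 D14445
theorem N14419 : nd 14419 = n14446 := ndS (p := 11419) (l := 3) rfl N11419 D14446
theorem N14420 : nd 14420 = n14447 := ndS (p := 11419) (l := 5) rfl N11419 D14447
theorem N14421 : nd 14421 = n14448 := ndS (p := 11420) (l := 4) rfl N11420 D14448
theorem N14422 : nd 14422 = n14449 := ndS (p := 11421) (l := 0) rfl N11421 D14449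
theorem N14423 : nd 14423 = n14450 := ndS (p := 11422) (l := 3) rfl N11422 D14450
theorem N14424 : nd 14424 = n14451 := ndS (p := 11423) (l := 2) rfl N11423 D14451
theorem N14425 : nd 14425 = n14452 := ndS (p := 11424) (l := 1) rfl N11424 D14452
theorem N14426 : nd 14426 = n14453 := ndS (p := 11425) (l := 3) rfl N11425 D14453
theorem N14427 : nd 14427 = n14454 := ndS (p := 11426) (l := 2) rfl N11426 D14454
theorem N14428 : nd 14428 = n14455 := ndS (p := 11428) (l := 1) rfl N11428 D14455
theorem N14429 : nd 14429 = n14456 := ndS (p := 11428) (l := 5) rfl N11428 D14456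
theorem N14430 : nd 14430 = n14457 := ndS (p := 11431) (l := 3) rfl N11431 D14457
theorem N14431 : nd 14431 = n14458 := ndS (p := 11434) (l := 2) rfl N11434 D14458
theorem N14432 : nd 14432 = n14459 := ndS (p := 11434) (l := 5) rfl N11434 D14459
theorem N14433 : nd 14433 = n14460 := ndS (p := 11436) (l := 1) rfl N11436 D14460
theorem N14434 : nd 14434 = n14461 := ndS (p := 11436) (l := 3) rfl N11436 D14461
theorem N14435 : nd 14435 = n14462 := ndS (p := 11436) (l := 5) rfl N11436 D14462
theorem N14436 : nd 14436 = n14463 := ndS (p := 11437) (l := 4) rfl N11437 D14463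
theorem N14437 : nd 14437 = n14464 := ndS (p := 11438) (l := 3) rfl N11438 D14464
theorem N14438 : nd 14438 = n14465 := ndS (p := 11439) (l := 2) rfl N11439 D14465
theorem N14439 : nd 14439 = n14466 := ndS (p := 11439) (l := 4) rfl N11439 D14466
theorem N14440 : nd 14440 = n14467 := ndS (p := 11440) (l := 2) rfl N11440 D14467
theorem N14441 : nd 14441 = n14468 := ndS (p := 11441) (l := 1) rfl N11441 D14468
theorem N14442 : nd 14442 = n14469 := ndS (p := 11441) (l := 3) rfl N11441 D14469
theorem N14443 : nd 14443 = n14470 := ndS (p := 11442) (l := 3) rfl N11442 D14470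
theorem N14444 : nd 14444 = n14471 := ndS (p := 11443) (l := 2) rfl N11443 D14471
theorem N14445 : nd 14445 = n14472 := ndS (p := 11443) (l := 4) rfl N11443 D14472
theorem N14446 : nd 14446 = n14473 := ndS (p := 11445) (l := 5) rfl N11445 D14473
theorem N14447 : nd 14447 = n14474 := ndS (p := 11446) (l := 2) rfl N11446 D14474
theorem N14448 : nd 14448 = n14475 := ndS (p := 11447) (l := 1) rfl N11447 D14475
theorem N14449 : nd 14449 = n14476 := ndS (p := 11448) (l := 0) rfl N11448 D14476
theorem N14450 : nd 14450 = n14477 := ndS (p := 11448) (l := 3) rfl N11448 D14477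
theorem N14451 : nd 14451 = n14478 := ndS (p := 11449) (l := 4) rfl N11449 D14478
theorem N14452 : nd 14452 = n14479 := ndS (p := 11450) (l := 1) rfl N11450 D14479
theorem N14453 : nd 14453 = n14480 := ndS (p := 11450) (l := 4) rfl N11450 D14480
theorem N14454 : nd 14454 = n14481 := ndS (p := 11451) (l := 5) rfl N11451 D14481
theorem N14455 : nd 14455 = n14482 := ndS (p := 11452) (l := 2) rfl N11452 D14482
theorem N14456 : nd 14456 = n14483 := ndS (p := 11452) (l := 4) rfl N11452 D14483
theorem N14457 : nd 14457 = n14484 := ndS (p := 11453) (l := 3) rfl N11453 D14484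
theorem N14458 : nd 14458 = n14485 := ndS (p := 11453) (l := 4) rfl N11453 D14485
theorem N14459 : nd 14459 = n14486 := ndS (p := 11454) (l := 5) rfl N11454 D14486
theorem N14460 : nd 14460 = n14487 := ndS (p := 11459) (l := 1) rfl N11459 D14487
theorem N14461 : nd 14461 = n14488 := ndS (p := 11459) (l := 3) rfl N11459 D14488
theorem N14462 : nd 14462 = n14489 := ndS (p := 11459) (l := 5) rfl N11459 D14489
theorem N14463 : nd 14463 = n14490 := ndS (p := 11460) (l := 4) rfl N11460 D14490
theorem N14464 : nd 14464 = n14491 := ndS (p := 11461) (l := 0) rfl N11461 D14491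
theorem N14465 : nd 14465 = n14492 := ndS (p := 11461) (l := 3) rfl N11461 D14492
theorem N14466 : nd 14466 = n14493 := ndS (p := 11462) (l := 4) rfl N11462 D14493
theorem N14467 : nd 14467 = n14494 := ndS (p := 11463) (l := 4) rfl N11463 D14494
theorem N14468 : nd 14468 = n14495 := ndS (p := 11465) (l := 5) rfl N11465 D14495
theorem N14469 : nd 14469 = n14496 := ndS (p := 11469) (l := 4) rfl N11469 D14496
theorem N14470 : nd 14470 = n14497 := ndS (p := 11470) (l := 5) rfl N11470 D14497
theorem N14471 : nd 14471 = n14498 := ndS (p := 11472) (l := 1) rfl N11472 D14498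
theorem N14472 : nd 14472 = n14499 := ndS (p := 11472) (l := 3) rfl N11472 D14499
theorem N14473 : nd 14473 = n14500 := ndS (p := 11472) (l := 5) rfl N11472 D14500
theorem N14474 : nd 14474 = n14501 := ndS (p := 11473) (l := 4) rfl N11473 D14501
theorem N14475 : nd 14475 = n14502 := ndS (p := 11474) (l := 0) rfl N11474 D14502
theorem N14476 : nd 14476 = n14503 := ndS (p := 11475) (l := 4) rfl N11475 D14503
theorem N14477 : nd 14477 = n14504 := ndS (p := 11476) (l := 4) rfl N11476 D14504
theorem N14478 : nd 14478 = n14505 := ndS (p := 11478) (l := 5) rfl N11478 D14505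
theorem N14479 : nd 14479 = n14506 := ndS (p := 11479) (l := 4) rfl N11479 D14506
theorem N14480 : nd 14480 = n14507 := ndS (p := 11480) (l := 1) rfl N11480 D14507
theorem N14481 : nd 14481 = n14508 := ndS (p := 11481) (l := 4) rfl N11481 D14508
theorem N14482 : nd 14482 = n14509 := ndS (p := 11482) (l := 3) rfl N11482 D14509
theorem N14483 : nd 14483 = n14510 := ndS (p := 11483) (l := 2) rfl N11483 D14510
theorem N14484 : nd 14484 = n14511 := ndS (p := 11484) (l := 4) rfl N11484 D14511
theorem N14485 : nd 14485 = n14512 := ndS (p := 11486) (l := 3) rfl N11486 D14512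
theorem N14486 : nd 14486 = n14513 := ndS (p := 11487) (l := 2) rfl N11487 D14513
theorem N14487 : nd 14487 = n14514 := ndS (p := 11488) (l := 1) rfl N11488 D14514
theorem N14488 : nd 14488 = n14515 := ndS (p := 11488) (l := 4) rfl N11488 D14515
theorem N14489 : nd 14489 = n14516 := ndS (p := 11489) (l := 5) rfl N11489 D14516
theorem N14490 : nd 14490 = n14517 := ndS (p := 11490) (l := 3) rfl N11490 D14517
theorem N14491 : nd 14491 = n14518 := ndS (p := 11490) (l := 4) rfl N11490 D14518
theorem N14492 : nd 14492 = n14519 := ndS (p := 11491) (l := 4) rfl N11491 D14519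
theorem N14493 : nd 14493 = n14520 := ndS (p := 11492) (l := 3) rfl N11492 D14520
theorem N14494 : nd 14494 = n14521 := ndS (p := 11492) (l := 5) rfl N11492 D14521
theorem N14495 : nd 14495 = n14522 := ndS (p := 11494) (l := 5) rfl N11494 D14522
theorem N14496 : nd 14496 = n14523 := ndS (p := 11495) (l := 2) rfl N11495 D14523
theorem N14497 : nd 14497 = n14524 := ndS (p := 11495) (l := 5) rfl N11495 D14524
theorem N14498 : nd 14498 = n14525 := ndS (p := 11497) (l := 3) rfl N11497 D14525
theorem N14499 : nd 14499 = n14526 := ndS (p := 11498) (l := 4) rfl N11498 D14526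
theorem N14500 : nd 14500 = n14527 := ndS (p := 11499) (l := 4) rfl N11499 D14527
theorem N14501 : nd 14501 = n14528 := ndS (p := 11500) (l := 5) rfl N11500 D14528
theorem N14502 : nd 14502 = n14529 := ndS (p := 11501) (l := 0) rfl N11501 D14529
theorem N14503 : nd 14503 = n14530 := ndS (p := 11501) (l := 3) rfl N11501 D14530
theorem N14504 : nd 14504 = n14531 := ndS (p := 11501) (l := 5) rfl N11501 D14531
theorem N14505 : nd 14505 = n14532 := ndS (p := 11502) (l := 4) rfl N11502 D14532
theorem N14506 : nd 14506 = n14533 := ndS (p := 11503) (l := 4) rfl N11503 D14533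
theorem N14507 : nd 14507 = n14534 := ndS (p := 11505) (l := 3) rfl N11505 D14534
theorem N14508 : nd 14508 = n14535 := ndS (p := 11506) (l := 2) rfl N11506 D14535
theorem N14509 : nd 14509 = n14536 := ndS (p := 11506) (l := 4) rfl N11506 D14536
theorem N14510 : nd 14510 = n14537 := ndS (p := 11507) (l := 1) rfl N11507 D14537
theorem N14511 : nd 14511 = n14538 := ndS (p := 11507) (l := 4) rfl N11507 D14538
theorem N14512 : nd 14512 = n14539 := ndS (p := 11508) (l := 5) rfl N11508 D14539
theorem N14513 : nd 14513 = n14540 := ndS (p := 11509) (l := 4) rfl N11509 D14540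
theorem N14514 : nd 14514 = n14541 := ndS (p := 11510) (l := 3) rfl N11510 D14541
theorem N14515 : nd 14515 = n14542 := ndS (p := 11511) (l := 0) rfl N11511 D14542
theorem N14516 : nd 14516 = n14543 := ndS (p := 11511) (l := 3) rfl N11511 D14543
theorem N14517 : nd 14517 = n14544 := ndS (p := 11511) (l := 5) rfl N11511 D14544
theorem N14518 : nd 14518 = n14545 := ndS (p := 11512) (l := 2) rfl N11512 D14545
theorem N14519 : nd 14519 = n14546 := ndS (p := 11512) (l := 4) rfl N11512 D14546
theorem N14520 : nd 14520 = n14547 := ndS (p := 11512) (l := 5) rfl N11512 D14547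
theorem N14521 : nd 14521 = n14548 := ndS (p := 11513) (l := 4) rfl N11513 D14548
theorem N14522 : nd 14522 = n14549 := ndS (p := 11515) (l := 3) rfl N11515 D14549
theorem N14523 : nd 14523 = n14550 := ndS (p := 11515) (l := 5) rfl N11515 D14550
theorem N14524 : nd 14524 = n14551 := ndS (p := 11516) (l := 2) rfl N11516 D14551
theorem N14525 : nd 14525 = n14552 := ndS (p := 11516) (l := 4) rfl N11516 D14552
theorem N14526 : nd 14526 = n14553 := ndS (p := 11517) (l := 4) rfl N11517 D14553
theorem N14527 : nd 14527 = n14554 := ndS (p := 11518) (l := 5) rfl N11518 D14554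
theorem N14528 : nd 14528 = n14555 := ndS (p := 11519) (l := 3) rfl N11519 D14555
theorem N14529 : nd 14529 = n14556 := ndS (p := 11520) (l := 0) rfl N11520 D14556
theorem N14530 : nd 14530 = n14557 := ndS (p := 11520) (l := 3) rfl N11520 D14557
theorem N14531 : nd 14531 = n14558 := ndS (p := 11524) (l := 3) rfl N11524 D14558
theorem N14532 : nd 14532 = n14559 := ndS (p := 11525) (l := 2) rfl N11525 D14559
theorem N14533 : nd 14533 = n14560 := ndS (p := 11525) (l := 4) rfl N11525 D14560
theorem N14534 : nd 14534 = n14561 := ndS (p := 11526) (l := 1) rfl N11526 D14561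
theorem N14535 : nd 14535 = n14562 := ndS (p := 11526) (l := 4) rfl N11526 D14562
theorem N14536 : nd 14536 = n14563 := ndS (p := 11527) (l := 5) rfl N11527 D14563
theorem N14537 : nd 14537 = n14564 := ndS (p := 11528) (l := 4) rfl N11528 D14564
theorem N14538 : nd 14538 = n14565 := ndS (p := 11529) (l := 3) rfl N11529 D14565
theorem N14539 : nd 14539 = n14566 := ndS (p := 11530) (l := 2) rfl N11530 D14566
theorem N14540 : nd 14540 = n14567 := ndS (p := 11530) (l := 4) rfl N11530 D14567
theorem N14541 : nd 14541 = n14568 := ndS (p := 11530) (l := 5) rfl N11530 D14568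
theorem N14542 : nd 14542 = n14569 := ndS (p := 11531) (l := 4) rfl N11531 D14569
theorem N14543 : nd 14543 = n14570 := ndS (p := 11532) (l := 4) rfl N11532 D14570
theorem N14544 : nd 14544 = n14571 := ndS (p := 11533) (l := 5) rfl N11533 D14571
theorem N14545 : nd 14545 = n14572 := ndS (p := 11534) (l := 4) rfl N11534 D14572
theorem N14546 : nd 14546 = n14573 := ndS (p := 11535) (l := 3) rfl N11535 D14573
theorem N14547 : nd 14547 = n14574 := ndS (p := 11536) (l := 5) rfl N11536 D14574
theorem N14548 : nd 14548 = n14575 := ndS (p := 11537) (l := 4) rfl N11537 D14575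
theorem N14549 : nd 14549 = n14576 := ndS (p := 11538) (l := 3) rfl N11538 D14576
theorem N14550 : nd 14550 = n14577 := ndS (p := 11539) (l := 2) rfl N11539 D14577
theorem N14551 : nd 14551 = n14578 := ndS (p := 11540) (l := 1) rfl N11540 D14578
theorem N14552 : nd 14552 = n14579 := ndS (p := 11540) (l := 3) rfl N11540 D14579
theorem N14553 : nd 14553 = n14580 := ndS (p := 11540) (l := 4) rfl N11540 D14580
theorem N14554 : nd 14554 = n14581 := ndS (p := 11543) (l := 2) rfl N11543 D14581
theorem N14555 : nd 14555 = n14582 := ndS (p := 11543) (l := 4) rfl N11543 D14582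
theorem N14556 : nd 14556 = n14583 := ndS (p := 11544) (l := 3) rfl N11544 D14583
theorem N14557 : nd 14557 = n14584 := ndS (p := 11546) (l := 1) rfl N11546 D14584
theorem N14558 : nd 14558 = n14585 := ndS (p := 11546) (l := 5) rfl N11546 D14585
theorem N14559 : nd 14559 = n14586 := ndS (p := 11547) (l := 4) rfl N11547 D14586
theorem N14560 : nd 14560 = n14587 := ndS (p := 11548) (l := 0) rfl N11548 D14587
theorem N14561 : nd 14561 = n14588 := ndS (p := 11548) (l := 3) rfl N11548 D14588
theorem N14562 : nd 14562 = n14589 := ndS (p := 11548) (l := 4) rfl N11548 D14589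
theorem N14563 : nd 14563 = n14590 := ndS (p := 11549) (l := 4) rfl N11549 D14590
theorem N14564 : nd 14564 = n14591 := ndS (p := 11549) (l := 5) rfl N11549 D14591
theorem N14565 : nd 14565 = n14592 := ndS (p := 11550) (l := 3) rfl N11550 D14592
theorem N14566 : nd 14566 = n14593 := ndS (p := 11550) (l := 5) rfl N11550 D14593
theorem N14567 : nd 14567 = n14594 := ndS (p := 11551) (l := 4) rfl N11551 D14594
theorem N14568 : nd 14568 = n14595 := ndS (p := 11552) (l := 4) rfl N11552 D14595
theorem N14569 : nd 14569 = n14596 := ndS (p := 11554) (l := 4) rfl N11554 D14596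
theorem N14570 : nd 14570 = n14597 := ndS (p := 11555) (l := 3) rfl N11555 D14597
theorem N14571 : nd 14571 = n14598 := ndS (p := 11555) (l := 5) rfl N11555 D14598
theorem N14572 : nd 14572 = n14599 := ndS (p := 11556) (l := 2) rfl N11556 D14599
theorem N14573 : nd 14573 = n14600 := ndS (p := 11556) (l := 5) rfl N11556 D14600
theorem N14574 : nd 14574 = n14601 := ndS (p := 11558) (l := 3) rfl N11558 D14601
theorem N14575 : nd 14575 = n14602 := ndS (p := 11560) (l := 3) rfl N11560 D14602
theorem N14576 : nd 14576 = n14603 := ndS (p := 11561) (l := 4) rfl N11561 D14603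
theorem N14577 : nd 14577 = n14604 := ndS (p := 11562) (l := 1) rfl N11562 D14604
theorem N14578 : nd 14578 = n14605 := ndS (p := 11562) (l := 4) rfl N11562 D14605
theorem N14579 : nd 14579 = n14606 := ndS (p := 11563) (l := 5) rfl N11563 D14606
theorem N14580 : nd 14580 = n14607 := ndS (p := 11564) (l := 0) rfl N11564 D14607
theorem N14581 : nd 14581 = n14608 := ndS (p := 11564) (l := 3) rfl N11564 D14608
theorem N14582 : nd 14582 = n14609 := ndS (p := 11564) (l := 5) rfl N11564 D14609
theorem N14583 : nd 14583 = n14610 := ndS (p := 11565) (l := 4) rfl N11565 D14610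
theorem N14584 : nd 14584 = n14611 := ndS (p := 11566) (l := 4) rfl N11566 D14611
theorem N14585 : nd 14585 = n14612 := ndS (p := 11568) (l := 1) rfl N11568 D14612
theorem N14586 : nd 14586 = n14613 := ndS (p := 11568) (l := 4) rfl N11568 D14613
theorem N14587 : nd 14587 = n14614 := ndS (p := 11569) (l := 5) rfl N11569 D14614
theorem N14588 : nd 14588 = n14615 := ndS (p := 11570) (l := 4) rfl N11570 D14615
theorem N14589 : nd 14589 = n14616 := ndS (p := 11572) (l := 0) rfl N11572 D14616
theorem N14590 : nd 14590 = n14617 := ndS (p := 11572) (l := 3) rfl N11572 D14617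
theorem N14591 : nd 14591 = n14618 := ndS (p := 11572) (l := 5) rfl N11572 D14618
theorem N14592 : nd 14592 = n14619 := ndS (p := 11573) (l := 4) rfl N11573 D14619
theorem N14593 : nd 14593 = n14620 := ndS (p := 11574) (l := 4) rfl N11574 D14620
theorem N14594 : nd 14594 = n14621 := ndS (p := 11576) (l := 3) rfl N11576 D14621
theorem N14595 : nd 14595 = n14622 := ndS (p := 11576) (l := 5) rfl N11576 D14622
theorem N14596 : nd 14596 = n14623 := ndS (p := 11577) (l := 2) rfl N11577 D14623
theorem N14597 : nd 14597 = n14624 := ndS (p := 11577) (l := 4) rfl N11577 D14624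
theorem N14598 : nd 14598 = n14625 := ndS (p := 11577) (l := 5) rfl N11577 D14625
theorem N14599 : nd 14599 = n14626 := ndS (p := 11578) (l := 4) rfl N11578 D14626
theorem N14600 : nd 14600 = n14627 := ndS (p := 11579) (l := 1) rfl N11579 D14627
theorem N14601 : nd 14601 = n14628 := ndS (p := 11579) (l := 4) rfl N11579 D14628
theorem N14602 : nd 14602 = n14629 := ndS (p := 11580) (l := 5) rfl N11580 D14629
theorem N14603 : nd 14603 = n14630 := ndS (p := 11581) (l := 4) rfl N11581 D14630
theorem N14604 : nd 14604 = n14631 := ndS (p := 11582) (l := 3) rfl N11582 D14631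
theorem N14605 : nd 14605 = n14632 := ndS (p := 11583) (l := 2) rfl N11583 D14632
theorem N14606 : nd 14606 = n14633 := ndS (p := 11583) (l := 4) rfl N11583 D14633
theorem N14607 : nd 14607 = n14634 := ndS (p := 11584) (l := 4) rfl N11584 D14634
theorem N14608 : nd 14608 = n14635 := ndS (p := 11585) (l := 3) rfl N11585 D14635
theorem N14609 : nd 14609 = n14636 := ndS (p := 11585) (l := 4) rfl N11585 D14636
theorem N14610 : nd 14610 = n14637 := ndS (p := 11588) (l := 1) rfl N11588 D14637
theorem N14611 : nd 14611 = n14638 := ndS (p := 11588) (l := 3) rfl N11588 D14638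
theorem N14612 : nd 14612 = n14639 := ndS (p := 11588) (l := 5) rfl N11588 D14639
theorem N14613 : nd 14613 = n14640 := ndS (p := 11589) (l := 4) rfl N11589 D14640
theorem N14614 : nd 14614 = n14641 := ndS (p := 11590) (l := 0) rfl N11590 D14641
theorem N14615 : nd 14615 = n14642 := ndS (p := 11590) (l := 3) rfl N11590 D14642
theorem N14616 : nd 14616 = n14643 := ndS (p := 11591) (l := 2) rfl N11591 D14643
theorem N14617 : nd 14617 = n14644 := ndS (p := 11591) (l := 4) rfl N11591 D14644
theorem N14618 : nd 14618 = n14645 := ndS (p := 11591) (l := 5) rfl N11591 D14645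
theorem N14619 : nd 14619 = n14646 := ndS (p := 11592) (l := 4) rfl N11592 D14646
theorem N14620 : nd 14620 = n14647 := ndS (p := 11595) (l := 3) rfl N11595 D14647
theorem N14621 : nd 14621 = n14648 := ndS (p := 11595) (l := 5) rfl N11595 D14648
theorem N14622 : nd 14622 = n14649 := ndS (p := 11596) (l := 3) rfl N11596 D14649
theorem N14623 : nd 14623 = n14650 := ndS (p := 11596) (l := 5) rfl N11596 D14650
theorem N14624 : nd 14624 = n14651 := ndS (p := 11599) (l := 3) rfl N11599 D14651
theorem N14625 : nd 14625 = n14652 := ndS (p := 11599) (l := 5) rfl N11599 D14652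
theorem N14626 : nd 14626 = n14653 := ndS (p := 11600) (l := 2) rfl N11600 D14653
theorem N14627 : nd 14627 = n14654 := ndS (p := 11600) (l := 5) rfl N11600 D14654
theorem N14628 : nd 14628 = n14655 := ndS (p := 11603) (l := 4) rfl N11603 D14655
theorem N14629 : nd 14629 = n14656 := ndS (p := 11604) (l := 0) rfl N11604 D14656
theorem N14630 : nd 14630 = n14657 := ndS (p := 11604) (l := 3) rfl N11604 D14657
theorem N14631 : nd 14631 = n14658 := ndS (p := 11605) (l := 4) rfl N11605 D14658
theorem N14632 : nd 14632 = n14659 := ndS (p := 11607) (l := 3) rfl N11607 D14659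
theorem N14633 : nd 14633 = n14660 := ndS (p := 11608) (l := 2) rfl N11608 D14660
theorem N14634 : nd 14634 = n14661 := ndS (p := 11608) (l := 4) rfl N11608 D14661
theorem N14635 : nd 14635 = n14662 := ndS (p := 11609) (l := 4) rfl N11609 D14662
theorem N14636 : nd 14636 = n14663 := ndS (p := 11610) (l := 5) rfl N11610 D14663
theorem N14637 : nd 14637 = n14664 := ndS (p := 11611) (l := 3) rfl N11611 D14664
theorem N14638 : nd 14638 = n14665 := ndS (p := 11611) (l := 5) rfl N11611 D14665
theorem N14639 : nd 14639 = n14666 := ndS (p := 11612) (l := 3) rfl N11612 D14666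
theorem N14640 : nd 14640 = n14667 := ndS (p := 11612) (l := 5) rfl N11612 D14667
theorem N14641 : nd 14641 = n14668 := ndS (p := 11613) (l := 2) rfl N11613 D14668
theorem N14642 : nd 14642 = n14669 := ndS (p := 11613) (l := 5) rfl N11613 D14669
theorem N14643 : nd 14643 = n14670 := ndS (p := 11614) (l := 4) rfl N11614 D14670
theorem N14644 : nd 14644 = n14671 := ndS (p := 11615) (l := 3) rfl N11615 D14671
theorem N14645 : nd 14645 = n14672 := ndS (p := 11616) (l := 2) rfl N11616 D14672
theorem N14646 : nd 14646 = n14673 := ndS (p := 11616) (l := 5) rfl N11616 D14673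
theorem N14647 : nd 14647 = n14674 := ndS (p := 11618) (l := 1) rfl N11618 D14674
theorem N14648 : nd 14648 = n14675 := ndS (p := 11619) (l := 4) rfl N11619 D14675
theorem N14649 : nd 14649 = n14676 := ndS (p := 11620) (l := 3) rfl N11620 D14676
theorem N14650 : nd 14650 = n14677 := ndS (p := 11621) (l := 2) rfl N11621 D14677
theorem N14651 : nd 14651 = n14678 := ndS (p := 11622) (l := 2) rfl N11622 D14678
theorem N14652 : nd 14652 = n14679 := ndS (p := 11622) (l := 5) rfl N11622 D14679
theorem N14653 : nd 14653 = n14680 := ndS (p := 11624) (l := 2) rfl N11624 D14680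
theorem N14654 : nd 14654 = n14681 := ndS (p := 11624) (l := 5) rfl N11624 D14681
theorem N14655 : nd 14655 = n14682 := ndS (p := 11626) (l := 1) rfl N11626 D14682
theorem N14656 : nd 14656 = n14683 := ndS (p := 11626) (l := 3) rfl N11626 D14683
theorem N14657 : nd 14657 = n14684 := ndS (p := 11626) (l := 5) rfl N11626 D14684
theorem N14658 : nd 14658 = n14685 := ndS (p := 11627) (l := 4) rfl N11627 D14685
theorem N14659 : nd 14659 = n14686 := ndS (p := 11628) (l := 5) rfl N11628 D14686
theorem N14660 : nd 14660 = n14687 := ndS (p := 11630) (l := 1) rfl N11630 D14687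
theorem N14661 : nd 14661 = n14688 := ndS (p := 11630) (l := 3) rfl N11630 D14688
theorem N14662 : nd 14662 = n14689 := ndS (p := 11630) (l := 5) rfl N11630 D14689
theorem N14663 : nd 14663 = n14690 := ndS (p := 11631) (l := 4) rfl N11631 D14690
theorem N14664 : nd 14664 = n14691 := ndS (p := 11632) (l := 3) rfl N11632 D14691
theorem N14665 : nd 14665 = n14692 := ndS (p := 11633) (l := 2) rfl N11633 D14692
theorem N14666 : nd 14666 = n14693 := ndS (p := 11634) (l := 0) rfl N11634 D14693
theorem N14667 : nd 14667 = n14694 := ndS (p := 11635) (l := 3) rfl N11635 D14694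
theorem N14668 : nd 14668 = n14695 := ndS (p := 11636) (l := 2) rfl N11636 D14695
theorem N14669 : nd 14669 = n14696 := ndS (p := 11637) (l := 1) rfl N11637 D14696
theorem N14670 : nd 14670 = n14697 := ndS (p := 11637) (l := 3) rfl N11637 D14697
theorem N14671 : nd 14671 = n14698 := ndS (p := 11638) (l := 1) rfl N11638 D14698
theorem N14672 : nd 14672 = n14699 := ndS (p := 11638) (l := 3) rfl N11638 D14699
theorem N14673 : nd 14673 = n14700 := ndS (p := 11638) (l := 5) rfl N11638 D14700
theorem N14674 : nd 14674 = n14701 := ndS (p := 11640) (l := 0) rfl N11640 D14701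
theorem N14675 : nd 14675 = n14702 := ndS (p := 11640) (l := 3) rfl N11640 D14702
theorem N14676 : nd 14676 = n14703 := ndS (p := 11641) (l := 2) rfl N11641 D14703
theorem N14677 : nd 14677 = n14704 := ndS (p := 11641) (l := 4) rfl N11641 D14704
theorem N14678 : nd 14678 = n14705 := ndS (p := 11641) (l := 5) rfl N11641 D14705
theorem N14679 : nd 14679 = n14706 := ndS (p := 11645) (l := 0) rfl N11645 D14706
theorem N14680 : nd 14680 = n14707 := ndS (p := 11645) (l := 3) rfl N11645 D14707
theorem N14681 : nd 14681 = n14708 := ndS (p := 11645) (l := 5) rfl N11645 D14708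
theorem N14682 : nd 14682 = n14709 := ndS (p := 11646) (l := 4) rfl N11646 D14709
theorem N14683 : nd 14683 = n14710 := ndS (p := 11647) (l := 4) rfl N11647 D14710
theorem N14684 : nd 14684 = n14711 := ndS (p := 11649) (l := 3) rfl N11649 D14711
theorem N14685 : nd 14685 = n14712 := ndS (p := 11649) (l := 5) rfl N11649 D14712
theorem N14686 : nd 14686 = n14713 := ndS (p := 11650) (l := 2) rfl N11650 D14713
theorem N14687 : nd 14687 = n14714 := ndS (p := 11650) (l := 4) rfl N11650 D14714
theorem N14688 : nd 14688 = n14715 := ndS (p := 11651) (l := 4) rfl N11651 D14715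
theorem N14689 : nd 14689 = n14716 := ndS (p := 11652) (l := 5) rfl N11652 D14716
theorem N14690 : nd 14690 = n14717 := ndS (p := 11653) (l := 3) rfl N11653 D14717
theorem N14691 : nd 14691 = n14718 := ndS (p := 11655) (l := 4) rfl N11655 D14718
theorem N14692 : nd 14692 = n14719 := ndS (p := 11657) (l := 1) rfl N11657 D14719
theorem N14693 : nd 14693 = n14720 := ndS (p := 11657) (l := 4) rfl N11657 D14720
theorem N14694 : nd 14694 = n14721 := ndS (p := 11658) (l := 5) rfl N11658 D14721
theorem N14695 : nd 14695 = n14722 := ndS (p := 11660) (l := 3) rfl N11660 D14722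
theorem N14696 : nd 14696 = n14723 := ndS (p := 11665) (l := 1) rfl N11665 D14723
theorem N14697 : nd 14697 = n14724 := ndS (p := 11665) (l := 3) rfl N11665 D14724
theorem N14698 : nd 14698 = n14725 := ndS (p := 11666) (l := 2) rfl N11666 D14725
theorem N14699 : nd 14699 = n14726 := ndS (p := 11666) (l := 4) rfl N11666 D14726
theorem N14700 : nd 14700 = n14727 := ndS (p := 11669) (l := 1) rfl N11669 D14727
theorem N14701 : nd 14701 = n14728 := ndS (p := 11670) (l := 4) rfl N11670 D14728
theorem N14702 : nd 14702 = n14729 := ndS (p := 11671) (l := 1) rfl N11671 D14729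
theorem N14703 : nd 14703 = n14730 := ndS (p := 11671) (l := 3) rfl N11671 D14730
theorem N14704 : nd 14704 = n14731 := ndS (p := 11671) (l := 5) rfl N11671 D14731
theorem N14705 : nd 14705 = n14732 := ndS (p := 11672) (l := 4) rfl N11672 D14732
theorem N14706 : nd 14706 = n14733 := ndS (p := 11673) (l := 0) rfl N11673 D14733
theorem N14707 : nd 14707 = n14734 := ndS (p := 11673) (l := 3) rfl N11673 D14734
theorem N14708 : nd 14708 = n14735 := ndS (p := 11673) (l := 5) rfl N11673 D14735
theorem N14709 : nd 14709 = n14736 := ndS (p := 11674) (l := 4) rfl N11674 D14736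
theorem N14710 : nd 14710 = n14737 := ndS (p := 11675) (l := 4) rfl N11675 D14737
theorem N14711 : nd 14711 = n14738 := ndS (p := 11677) (l := 5) rfl N11677 D14738
theorem N14712 : nd 14712 = n14739 := ndS (p := 11678) (l := 3) rfl N11678 D14739
theorem N14713 : nd 14713 = n14740 := ndS (p := 11678) (l := 5) rfl N11678 D14740
theorem N14714 : nd 14714 = n14741 := ndS (p := 11681) (l := 3) rfl N11681 D14741
theorem N14715 : nd 14715 = n14742 := ndS (p := 11681) (l := 5) rfl N11681 D14742
theorem N14716 : nd 14716 = n14743 := ndS (p := 11682) (l := 2) rfl N11682 D14743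
theorem N14717 : nd 14717 = n14744 := ndS (p := 11682) (l := 5) rfl N11682 D14744
theorem N14718 : nd 14718 = n14745 := ndS (p := 11684) (l := 1) rfl N11684 D14745
theorem N14719 : nd 14719 = n14746 := ndS (p := 11685) (l := 4) rfl N11685 D14746
theorem N14720 : nd 14720 = n14747 := ndS (p := 11686) (l := 1) rfl N11686 D14747
theorem N14721 : nd 14721 = n14748 := ndS (p := 11686) (l := 3) rfl N11686 D14748
theorem N14722 : nd 14722 = n14749 := ndS (p := 11687) (l := 1) rfl N11687 D14749
theorem N14723 : nd 14723 = n14750 := ndS (p := 11687) (l := 3) rfl N11687 D14750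
theorem N14724 : nd 14724 = n14751 := ndS (p := 11687) (l := 5) rfl N11687 D14751
theorem N14725 : nd 14725 = n14752 := ndS (p := 11689) (l := 0) rfl N11689 D14752
theorem N14726 : nd 14726 = n14753 := ndS (p := 11690) (l := 5) rfl N11690 D14753
theorem N14727 : nd 14727 = n14754 := ndS (p := 11691) (l := 4) rfl N11691 D14754
theorem N14728 : nd 14728 = n14755 := ndS (p := 11692) (l := 0) rfl N11692 D14755
theorem N14729 : nd 14729 = n14756 := ndS (p := 11693) (l := 2) rfl N11693 D14756
theorem N14730 : nd 14730 = n14757 := ndS (p := 11696) (l := 1) rfl N11696 D14757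
theorem N14731 : nd 14731 = n14758 := ndS (p := 11696) (l := 3) rfl N11696 D14758
theorem N14732 : nd 14732 = n14759 := ndS (p := 11697) (l := 0) rfl N11697 D14759
theorem N14733 : nd 14733 = n14760 := ndS (p := 11698) (l := 0) rfl N11698 D14760
theorem N14734 : nd 14734 = n14761 := ndS (p := 11698) (l := 3) rfl N11698 D14761
theorem N14735 : nd 14735 = n14762 := ndS (p := 11698) (l := 5) rfl N11698 D14762
theorem N14736 : nd 14736 = n14763 := ndS (p := 11699) (l := 4) rfl N11699 D14763
theorem N14737 : nd 14737 = n14764 := ndS (p := 11701) (l := 3) rfl N11701 D14764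
theorem N14738 : nd 14738 = n14765 := ndS (p := 11702) (l := 2) rfl N11702 D14765
theorem N14739 : nd 14739 = n14766 := ndS (p := 11702) (l := 4) rfl N11702 D14766
theorem N14740 : nd 14740 = n14767 := ndS (p := 11704) (l := 1) rfl N11704 D14767
theorem N14741 : nd 14741 = n14768 := ndS (p := 11704) (l := 3) rfl N11704 D14768
theorem N14742 : nd 14742 = n14769 := ndS (p := 11704) (l := 5) rfl N11704 D14769
theorem N14743 : nd 14743 = n14770 := ndS (p := 11705) (l := 4) rfl N11705 D14770
theorem N14744 : nd 14744 = n14771 := ndS (p := 11706) (l := 0) rfl N11706 D14771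
theorem N14745 : nd 14745 = n14772 := ndS (p := 11706) (l := 3) rfl N11706 D14772
theorem N14746 : nd 14746 = n14773 := ndS (p := 11706) (l := 5) rfl N11706 D14773
theorem N14747 : nd 14747 = n14774 := ndS (p := 11710) (l := 5) rfl N11710 D14774
theorem N14748 : nd 14748 = n14775 := ndS (p := 11712) (l := 4) rfl N11712 D14775
theorem N14749 : nd 14749 = n14776 := ndS (p := 11713) (l := 3) rfl N11713 D14776
theorem N14750 : nd 14750 = n14777 := ndS (p := 11716) (l := 3) rfl N11716 D14777
theorem N14751 : nd 14751 = n14778 := ndS (p := 11717) (l := 2) rfl N11717 D14778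
theorem N14752 : nd 14752 = n14779 := ndS (p := 11718) (l := 3) rfl N11718 D14779
theorem N14753 : nd 14753 = n14780 := ndS (p := 11719) (l := 2) rfl N11719 D14780
theorem N14754 : nd 14754 = n14781 := ndS (p := 11719) (l := 5) rfl N11719 D14781
theorem N14755 : nd 14755 = n14782 := ndS (p := 11721) (l := 2) rfl N11721 D14782
theorem N14756 : nd 14756 = n14783 := ndS (p := 11721) (l := 5) rfl N11721 D14783
theorem N14757 : nd 14757 = n14784 := ndS (p := 11723) (l := 1) rfl N11723 D14784
theorem N14758 : nd 14758 = n14785 := ndS (p := 11723) (l := 3) rfl N11723 D14785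
theorem N14759 : nd 14759 = n14786 := ndS (p := 11723) (l := 5) rfl N11723 D14786
theorem N14760 : nd 14760 = n14787 := ndS (p := 11724) (l := 4) rfl N11724 D14787
theorem N14761 : nd 14761 = n14788 := ndS (p := 11725) (l := 3) rfl N11725 D14788
theorem N14762 : nd 14762 = n14789 := ndS (p := 11726) (l := 5) rfl N11726 D14789
theorem N14763 : nd 14763 = n14790 := ndS (p := 11728) (l := 1) rfl N11728 D14790
theorem N14764 : nd 14764 = n14791 := ndS (p := 11728) (l := 3) rfl N11728 D14791
theorem N14765 : nd 14765 = n14792 := ndS (p := 11728) (l := 5) rfl N11728 D14792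
theorem N14766 : nd 14766 = n14793 := ndS (p := 11729) (l := 4) rfl N11729 D14793
theorem N14767 : nd 14767 = n14794 := ndS (p := 11730) (l := 3) rfl N11730 D14794
theorem N14768 : nd 14768 = n14795 := ndS (p := 11731) (l := 2) rfl N11731 D14795
theorem N14769 : nd 14769 = n14796 := ndS (p := 11732) (l := 0) rfl N11732 D14796
theorem N14770 : nd 14770 = n14797 := ndS (p := 11733) (l := 3) rfl N11733 D14797
theorem N14771 : nd 14771 = n14798 := ndS (p := 11734) (l := 2) rfl N11734 D14798
theorem N14772 : nd 14772 = n14799 := ndS (p := 11735) (l := 1) rfl N11735 D14799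
theorem N14773 : nd 14773 = n14800 := ndS (p := 11735) (l := 3) rfl N11735 D14800
theorem N14774 : nd 14774 = n14801 := ndS (p := 11736) (l := 2) rfl N11736 D14801
theorem N14775 : nd 14775 = n14802 := ndS (p := 11736) (l := 4) rfl N11736 D14802
theorem N14776 : nd 14776 = n14803 := ndS (p := 11737) (l := 5) rfl N11737 D14803
theorem N14777 : nd 14777 = n14804 := ndS (p := 11738) (l := 1) rfl N11738 D14804
theorem N14778 : nd 14778 = n14805 := ndS (p := 11738) (l := 3) rfl N11738 D14805
theorem N14779 : nd 14779 = n14806 := ndS (p := 11739) (l := 2) rfl N11739 D14806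
theorem N14780 : nd 14780 = n14807 := ndS (p := 11739) (l := 4) rfl N11739 D14807
theorem N14781 : nd 14781 = n14808 := ndS (p := 11741) (l := 4) rfl N11741 D14808
theorem N14782 : nd 14782 = n14809 := ndS (p := 11742) (l := 5) rfl N11742 D14809
theorem N14783 : nd 14783 = n14810 := ndS (p := 11743) (l := 4) rfl N11743 D14810
theorem N14784 : nd 14784 = n14811 := ndS (p := 11744) (l := 4) rfl N11744 D14811
theorem N14785 : nd 14785 = n14812 := ndS (p := 11745) (l := 5) rfl N11745 D14812
theorem N14786 : nd 14786 = n14813 := ndS (p := 11746) (l := 4) rfl N11746 D14813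
theorem N14787 : nd 14787 = n14814 := ndS (p := 11747) (l := 3) rfl N11747 D14814
theorem N14788 : nd 14788 = n14815 := ndS (p := 11747) (l := 5) rfl N11747 D14815
theorem N14789 : nd 14789 = n14816 := ndS (p := 11750) (l := 2) rfl N11750 D14816
theorem N14790 : nd 14790 = n14817 := ndS (p := 11752) (l := 1) rfl N11752 D14817
theorem N14791 : nd 14791 = n14818 := ndS (p := 11753) (l := 3) rfl N11753 D14818
theorem N14792 : nd 14792 = n14819 := ndS (p := 11754) (l := 0) rfl N11754 D14819
theorem N14793 : nd 14793 = n14820 := ndS (p := 11754) (l := 3) rfl N11754 D14820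
theorem N14794 : nd 14794 = n14821 := ndS (p := 11755) (l := 4) rfl N11755 D14821
theorem N14795 : nd 14795 = n14822 := ndS (p := 11757) (l := 3) rfl N11757 D14822
theorem N14796 : nd 14796 = n14823 := ndS (p := 11758) (l := 2) rfl N11758 D14823
theorem N14797 : nd 14797 = n14824 := ndS (p := 11758) (l := 5) rfl N11758 D14824
theorem N14798 : nd 14798 = n14825 := ndS (p := 11760) (l := 5) rfl N11760 D14825
theorem N14799 : nd 14799 = n14826 := ndS (p := 11763) (l := 4) rfl N11763 D14826
theorem N14800 : nd 14800 = n14827 := ndS (p := 11764) (l := 0) rfl N11764 D14827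
theorem N14801 : nd 14801 = n14828 := ndS (p := 11764) (l := 3) rfl N11764 D14828
theorem N14802 : nd 14802 = n14829 := ndS (p := 11765) (l := 4) rfl N11765 D14829
theorem N14803 : nd 14803 = n14830 := ndS (p := 11767) (l := 2) rfl N11767 D14830
theorem N14804 : nd 14804 = n14831 := ndS (p := 11769) (l := 5) rfl N11769 D14831
theorem N14805 : nd 14805 = n14832 := ndS (p := 11770) (l := 4) rfl N11770 D14832
theorem N14806 : nd 14806 = n14833 := ndS (p := 11771) (l := 5) rfl N11771 D14833
theorem N14807 : nd 14807 = n14834 := ndS (p := 11773) (l := 4) rfl N11773 D14834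
theorem N14808 : nd 14808 = n14835 := ndS (p := 11775) (l := 3) rfl N11775 D14835
theorem N14809 : nd 14809 = n14836 := ndS (p := 11776) (l := 2) rfl N11776 D14836
theorem N14810 : nd 14810 = n14837 := ndS (p := 11776) (l := 4) rfl N11776 D14837
theorem N14811 : nd 14811 = n14838 := ndS (p := 11777) (l := 1) rfl N11777 D14838
theorem N14812 : nd 14812 = n14839 := ndS (p := 11777) (l := 4) rfl N11777 D14839
theorem N14813 : nd 14813 = n14840 := ndS (p := 11778) (l := 5) rfl N11778 D14840
theorem N14814 : nd 14814 = n14841 := ndS (p := 11779) (l := 3) rfl N11779 D14841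
theorem N14815 : nd 14815 = n14842 := ndS (p := 11779) (l := 5) rfl N11779 D14842
theorem N14816 : nd 14816 = n14843 := ndS (p := 11780) (l := 2) rfl N11780 D14843
theorem N14817 : nd 14817 = n14844 := ndS (p := 11780) (l := 5) rfl N11780 D14844
theorem N14818 : nd 14818 = n14845 := ndS (p := 11782) (l := 2) rfl N11782 D14845
theorem N14819 : nd 14819 = n14846 := ndS (p := 11782) (l := 5) rfl N11782 D14846
theorem N14820 : nd 14820 = n14847 := ndS (p := 11784) (l := 1) rfl N11784 D14847
theorem N14821 : nd 14821 = n14848 := ndS (p := 11784) (l := 3) rfl N11784 D14848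
theorem N14822 : nd 14822 = n14849 := ndS (p := 11784) (l := 5) rfl N11784 D14849
theorem N14823 : nd 14823 = n14850 := ndS (p := 11785) (l := 4) rfl N11785 D14850
theorem N14824 : nd 14824 = n14851 := ndS (p := 11786) (l := 3) rfl N11786 D14851
theorem N14825 : nd 14825 = n14852 := ndS (p := 11787) (l := 2) rfl N11787 D14852
theorem N14826 : nd 14826 = n14853 := ndS (p := 11788) (l := 1) rfl N11788 D14853
theorem N14827 : nd 14827 = n14854 := ndS (p := 11789) (l := 4) rfl N11789 D14854
theorem N14828 : nd 14828 = n14855 := ndS (p := 11790) (l := 0) rfl N11790 D14855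
theorem N14829 : nd 14829 = n14856 := ndS (p := 11791) (l := 3) rfl N11791 D14856
theorem N14830 : nd 14830 = n14857 := ndS (p := 11792) (l := 2) rfl N11792 D14857
theorem N14831 : nd 14831 = n14858 := ndS (p := 11793) (l := 1) rfl N11793 D14858
theorem N14832 : nd 14832 = n14859 := ndS (p := 11793) (l := 3) rfl N11793 D14859
theorem N14833 : nd 14833 = n14860 := ndS (p := 11794) (l := 2) rfl N11794 D14860
theorem N14834 : nd 14834 = n14861 := ndS (p := 11794) (l := 5) rfl N11794 D14861
theorem N14835 : nd 14835 = n14862 := ndS (p := 11796) (l := 1) rfl N11796 D14862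
theorem N14836 : nd 14836 = n14863 := ndS (p := 11796) (l := 3) rfl N11796 D14863
theorem N14837 : nd 14837 = n14864 := ndS (p := 11796) (l := 5) rfl N11796 D14864
theorem N14838 : nd 14838 = n14865 := ndS (p := 11797) (l := 4) rfl N11797 D14865
theorem N14839 : nd 14839 = n14866 := ndS (p := 11798) (l := 3) rfl N11798 D14866
theorem N14840 : nd 14840 = n14867 := ndS (p := 11798) (l := 5) rfl N11798 D14867
theorem N14841 : nd 14841 = n14868 := ndS (p := 11799) (l := 2) rfl N11799 D14868
theorem N14842 : nd 14842 = n14869 := ndS (p := 11799) (l := 5) rfl N11799 D14869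
theorem N14843 : nd 14843 = n14870 := ndS (p := 11801) (l := 1) rfl N11801 D14870
theorem N14844 : nd 14844 = n14871 := ndS (p := 11801) (l := 3) rfl N11801 D14871
theorem N14845 : nd 14845 = n14872 := ndS (p := 11801) (l := 5) rfl N11801 D14872
theorem N14846 : nd 14846 = n14873 := ndS (p := 11802) (l := 4) rfl N11802 D14873
theorem N14847 : nd 14847 = n14874 := ndS (p := 11803) (l := 0) rfl N11803 D14874
theorem N14848 : nd 14848 = n14875 := ndS (p := 11803) (l := 3) rfl N11803 D14875
theorem N14849 : nd 14849 = n14876 := ndS (p := 11803) (l := 5) rfl N11803 D14876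
theorem N14850 : nd 14850 = n14877 := ndS (p := 11804) (l := 2) rfl N11804 D14877
theorem N14851 : nd 14851 = n14878 := ndS (p := 11804) (l := 4) rfl N11804 D14878
theorem N14852 : nd 14852 = n14879 := ndS (p := 11804) (l := 5) rfl N11804 D14879
theorem N14853 : nd 14853 = n14880 := ndS (p := 11805) (l := 4) rfl N11805 D14880
theorem N14854 : nd 14854 = n14881 := ndS (p := 11808) (l := 0) rfl N11808 D14881
theorem N14855 : nd 14855 = n14882 := ndS (p := 11808) (l := 3) rfl N11808 D14882
theorem N14856 : nd 14856 = n14883 := ndS (p := 11808) (l := 5) rfl N11808 D14883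
theorem N14857 : nd 14857 = n14884 := ndS (p := 11811) (l := 3) rfl N11811 D14884
theorem N14858 : nd 14858 = n14885 := ndS (p := 11812) (l := 2) rfl N11812 D14885
theorem N14859 : nd 14859 = n14886 := ndS (p := 11813) (l := 1) rfl N11813 D14886
theorem N14860 : nd 14860 = n14887 := ndS (p := 11813) (l := 3) rfl N11813 D14887
theorem N14861 : nd 14861 = n14888 := ndS (p := 11814) (l := 3) rfl N11814 D14888
theorem N14862 : nd 14862 = n14889 := ndS (p := 11814) (l := 5) rfl N11814 D14889
theorem N14863 : nd 14863 = n14890 := ndS (p := 11815) (l := 4) rfl N11815 D14890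
theorem N14864 : nd 14864 = n14891 := ndS (p := 11816) (l := 4) rfl N11816 D14891
theorem N14865 : nd 14865 = n14892 := ndS (p := 11819) (l := 2) rfl N11819 D14892
theorem N14866 : nd 14866 = n14893 := ndS (p := 11820) (l := 1) rfl N11820 D14893
theorem N14867 : nd 14867 = n14894 := ndS (p := 11821) (l := 0) rfl N11821 D14894
theorem N14868 : nd 14868 = n14895 := ndS (p := 11821) (l := 3) rfl N11821 D14895
theorem N14869 : nd 14869 = n14896 := ndS (p := 11822) (l := 4) rfl N11822 D14896
theorem N14870 : nd 14870 = n14897 := ndS (p := 11823) (l := 4) rfl N11823 D14897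
theorem N14871 : nd 14871 = n14898 := ndS (p := 11825) (l := 0) rfl N11825 D14898
theorem N14872 : nd 14872 = n14899 := ndS (p := 11825) (l := 3) rfl N11825 D14899
theorem N14873 : nd 14873 = n14900 := ndS (p := 11825) (l := 5) rfl N11825 D14900
theorem N14874 : nd 14874 = n14901 := ndS (p := 11826) (l := 4) rfl N11826 D14901
theorem N14875 : nd 14875 = n14902 := ndS (p := 11829) (l := 4) rfl N11829 D14902
theorem N14876 : nd 14876 = n14903 := ndS (p := 11830) (l := 1) rfl N11830 D14903
theorem N14877 : nd 14877 = n14904 := ndS (p := 11830) (l := 4) rfl N11830 D14904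
theorem N14878 : nd 14878 = n14905 := ndS (p := 11831) (l := 5) rfl N11831 D14905
theorem N14879 : nd 14879 = n14906 := ndS (p := 11832) (l := 4) rfl N11832 D14906
theorem N14880 : nd 14880 = n14907 := ndS (p := 11834) (l := 3) rfl N11834 D14907
theorem N14881 : nd 14881 = n14908 := ndS (p := 11835) (l := 4) rfl N11835 D14908
theorem N14882 : nd 14882 = n14909 := ndS (p := 11836) (l := 3) rfl N11836 D14909
theorem N14883 : nd 14883 = n14910 := ndS (p := 11837) (l := 2) rfl N11837 D14910
theorem N14884 : nd 14884 = n14911 := ndS (p := 11838) (l := 1) rfl N11838 D14911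
theorem N14885 : nd 14885 = n14912 := ndS (p := 11839) (l := 0) rfl N11839 D14912
theorem N14886 : nd 14886 = n14913 := ndS (p := 11839) (l := 3) rfl N11839 D14913
theorem N14887 : nd 14887 = n14914 := ndS (p := 11840) (l := 4) rfl N11840 D14914
theorem N14888 : nd 14888 = n14915 := ndS (p := 11841) (l := 4) rfl N11841 D14915
theorem N14889 : nd 14889 = n14916 := ndS (p := 11843) (l := 3) rfl N11843 D14916
theorem N14890 : nd 14890 = n14917 := ndS (p := 11843) (l := 5) rfl N11843 D14917
theorem N14891 : nd 14891 = n14918 := ndS (p := 11844) (l := 2) rfl N11844 D14918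
theorem N14892 : nd 14892 = n14919 := ndS (p := 11844) (l := 4) rfl N11844 D14919
theorem N14893 : nd 14893 = n14920 := ndS (p := 11845) (l := 4) rfl N11845 D14920
theorem N14894 : nd 14894 = n14921 := ndS (p := 11846) (l := 5) rfl N11846 D14921
theorem N14895 : nd 14895 = n14922 := ndS (p := 11847) (l := 3) rfl N11847 D14922
theorem N14896 : nd 14896 = n14923 := ndS (p := 11849) (l := 2) rfl N11849 D14923
theorem N14897 : nd 14897 = n14924 := ndS (p := 11849) (l := 4) rfl N11849 D14924
theorem N14898 : nd 14898 = n14925 := ndS (p := 11850) (l := 4) rfl N11850 D14925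
theorem N14899 : nd 14899 = n14926 := ndS (p := 11851) (l := 3) rfl N11851 D14926
theorem N14900 : nd 14900 = n14927 := ndS (p := 11851) (l := 4) rfl N11851 D14927
theorem N14901 : nd 14901 = n14928 := ndS (p := 11852) (l := 5) rfl N11852 D14928
theorem N14902 : nd 14902 = n14929 := ndS (p := 11853) (l := 3) rfl N11853 D14929
theorem N14903 : nd 14903 = n14930 := ndS (p := 11856) (l := 1) rfl N11856 D14930
theorem N14904 : nd 14904 = n14931 := ndS (p := 11856) (l := 3) rfl N11856 D14931
theorem N14905 : nd 14905 = n14932 := ndS (p := 11857) (l := 0) rfl N11857 D14932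
theorem N14906 : nd 14906 = n14933 := ndS (p := 11858) (l := 3) rfl N11858 D14933
theorem N14907 : nd 14907 = n14934 := ndS (p := 11859) (l := 2) rfl N11859 D14934
theorem N14908 : nd 14908 = n14935 := ndS (p := 11859) (l := 4) rfl N11859 D14935
theorem N14909 : nd 14909 = n14936 := ndS (p := 11860) (l := 5) rfl N11860 D14936
theorem N14910 : nd 14910 = n14937 := ndS (p := 11861) (l := 5) rfl N11861 D14937
theorem N14911 : nd 14911 = n14938 := ndS (p := 11862) (l := 4) rfl N11862 D14938
theorem N14912 : nd 14912 = n14939 := ndS (p := 11863) (l := 1) rfl N11863 D14939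
theorem N14913 : nd 14913 = n14940 := ndS (p := 11863) (l := 4) rfl N11863 D14940
theorem N14914 : nd 14914 = n14941 := ndS (p := 11864) (l := 5) rfl N11864 D14941
theorem N14915 : nd 14915 = n14942 := ndS (p := 11865) (l := 0) rfl N11865 D14942
theorem N14916 : nd 14916 = n14943 := ndS (p := 11865) (l := 4) rfl N11865 D14943
theorem N14917 : nd 14917 = n14944 := ndS (p := 11868) (l := 4) rfl N11868 D14944
theorem N14918 : nd 14918 = n14945 := ndS (p := 11869) (l := 5) rfl N11869 D14945
theorem N14919 : nd 14919 = n14946 := ndS (p := 11870) (l := 3) rfl N11870 D14946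
theorem N14920 : nd 14920 = n14947 := ndS (p := 11870) (l := 5) rfl N11870 D14947
theorem N14921 : nd 14921 = n14948 := ndS (p := 11872) (l := 0) rfl N11872 D14948
theorem N14922 : nd 14922 = n14949 := ndS (p := 11872) (l := 4) rfl N11872 D14949
theorem N14923 : nd 14923 = n14950 := ndS (p := 11873) (l := 3) rfl N11873 D14950
theorem N14924 : nd 14924 = n14951 := ndS (p := 11873) (l := 5) rfl N11873 D14951
theorem N14925 : nd 14925 = n14952 := ndS (p := 11874) (l := 4) rfl N11874 D14952
theorem N14926 : nd 14926 = n14953 := ndS (p := 11876) (l := 4) rfl N11876 D14953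
theorem N14927 : nd 14927 = n14954 := ndS (p := 11877) (l := 4) rfl N11877 D14954
theorem N14928 : nd 14928 = n14955 := ndS (p := 11878) (l := 3) rfl N11878 D14955
theorem N14929 : nd 14929 = n14956 := ndS (p := 11880) (l := 3) rfl N11880 D14956
theorem N14930 : nd 14930 = n14957 := ndS (p := 11880) (l := 5) rfl N11880 D14957
theorem N14931 : nd 14931 = n14958 := ndS (p := 11881) (l := 2) rfl N11881 D14958
theorem N14932 : nd 14932 = n14959 := ndS (p := 11884) (l := 2) rfl N11884 D14959
theorem N14933 : nd 14933 = n14960 := ndS (p := 11885) (l := 1) rfl N11885 D14960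
theorem N14934 : nd 14934 = n14961 := ndS (p := 11886) (l := 0) rfl N11886 D14961
theorem N14935 : nd 14935 = n14962 := ndS (p := 11886) (l := 3) rfl N11886 D14962
theorem N14936 : nd 14936 = n14963 := ndS (p := 11887) (l := 4) rfl N11887 D14963
theorem N14937 : nd 14937 = n14964 := ndS (p := 11888) (l := 3) rfl N11888 D14964
theorem N14938 : nd 14938 = n14965 := ndS (p := 11889) (l := 2) rfl N11889 D14965
theorem N14939 : nd 14939 = n14966 := ndS (p := 11889) (l := 4) rfl N11889 D14966
theorem N14940 : nd 14940 = n14967 := ndS (p := 11890) (l := 5) rfl N11890 D14967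
theorem N14941 : nd 14941 = n14968 := ndS (p := 11891) (l := 1) rfl N11891 D14968
theorem N14942 : nd 14942 = n14969 := ndS (p := 11891) (l := 5) rfl N11891 D14969
theorem N14943 : nd 14943 = n14970 := ndS (p := 11892) (l := 4) rfl N11892 D14970
theorem N14944 : nd 14944 = n14971 := ndS (p := 11893) (l := 0) rfl N11893 D14971
theorem N14945 : nd 14945 = n14972 := ndS (p := 11893) (l := 3) rfl N11893 D14972
theorem N14946 : nd 14946 = n14973 := ndS (p := 11894) (l := 4) rfl N11894 D14973
theorem N14947 : nd 14947 = n14974 := ndS (p := 11894) (l := 5) rfl N11894 D14974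
theorem N14948 : nd 14948 = n14975 := ndS (p := 11895) (l := 4) rfl N11895 D14975
theorem N14949 : nd 14949 = n14976 := ndS (p := 11899) (l := 3) rfl N11899 D14976
theorem N14950 : nd 14950 = n14977 := ndS (p := 11899) (l := 5) rfl N11899 D14977
theorem N14951 : nd 14951 = n14978 := ndS (p := 11901) (l := 2) rfl N11901 D14978
theorem N14952 : nd 14952 = n14979 := ndS (p := 11901) (l := 4) rfl N11901 D14979
theorem N14953 : nd 14953 = n14980 := ndS (p := 11902) (l := 5) rfl N11902 D14980
theorem N14954 : nd 14954 = n14981 := ndS (p := 11903) (l := 3) rfl N11903 D14981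
theorem N14955 : nd 14955 = n14982 := ndS (p := 11903) (l := 5) rfl N11903 D14982
theorem N14956 : nd 14956 = n14983 := ndS (p := 11904) (l := 2) rfl N11904 D14983
theorem N14957 : nd 14957 = n14984 := ndS (p := 11904) (l := 5) rfl N11904 D14984
theorem N14958 : nd 14958 = n14985 := ndS (p := 11906) (l := 1) rfl N11906 D14985
theorem N14959 : nd 14959 = n14986 := ndS (p := 11909) (l := 1) rfl N11909 D14986
theorem N14960 : nd 14960 = n14987 := ndS (p := 11909) (l := 3) rfl N11909 D14987
theorem N14961 : nd 14961 = n14988 := ndS (p := 11910) (l := 2) rfl N11910 D14988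
theorem N14962 : nd 14962 = n14989 := ndS (p := 11910) (l := 5) rfl N11910 D14989
theorem N14963 : nd 14963 = n14990 := ndS (p := 11912) (l := 3) rfl N11912 D14990
theorem N14964 : nd 14964 = n14991 := ndS (p := 11912) (l := 5) rfl N11912 D14991
theorem N14965 : nd 14965 = n14992 := ndS (p := 11915) (l := 0) rfl N11915 D14992
theorem N14966 : nd 14966 = n14993 := ndS (p := 11916) (l := 0) rfl N11916 D14993
theorem N14967 : nd 14967 = n14994 := ndS (p := 11917) (l := 3) rfl N11917 D14994
theorem N14968 : nd 14968 = n14995 := ndS (p := 11918) (l := 2) rfl N11918 D14995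
theorem N14969 : nd 14969 = n14996 := ndS (p := 11918) (l := 4) rfl N11918 D14996
theorem N14970 : nd 14970 = n14997 := ndS (p := 11920) (l := 2) rfl N11920 D14997
theorem N14971 : nd 14971 = n14998 := ndS (p := 11920) (l := 5) rfl N11920 D14998
theorem N14972 : nd 14972 = n14999 := ndS (p := 11922) (l := 1) rfl N11922 D14999
theorem N14973 : nd 14973 = n15000 := ndS (p := 11923) (l := 4) rfl N11923 D15000
theorem N14974 : nd 14974 = n15001 := ndS (p := 11924) (l := 0) rfl N11924 D15001
theorem N14975 : nd 14975 = n15002 := ndS (p := 11924) (l := 3) rfl N11924 D15002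
theorem N14976 : nd 14976 = n15003 := ndS (p := 11924) (l := 5) rfl N11924 D15003
theorem N14977 : nd 14977 = n15004 := ndS (p := 11925) (l := 4) rfl N11925 D15004
theorem N14978 : nd 14978 = n15005 := ndS (p := 11926) (l := 4) rfl N11926 D15005
theorem N14979 : nd 14979 = n15006 := ndS (p := 11928) (l := 3) rfl N11928 D15006
theorem N14980 : nd 14980 = n15007 := ndS (p := 11928) (l := 5) rfl N11928 D15007
theorem N14981 : nd 14981 = n15008 := ndS (p := 11929) (l := 2) rfl N11929 D15008
theorem N14982 : nd 14982 = n15009 := ndS (p := 11929) (l := 5) rfl N11929 D15009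
theorem N14983 : nd 14983 = n15010 := ndS (p := 11931) (l := 1) rfl N11931 D15010
theorem N14984 : nd 14984 = n15011 := ndS (p := 11932) (l := 4) rfl N11932 D15011
theorem N14985 : nd 14985 = n15012 := ndS (p := 11935) (l := 2) rfl N11935 D15012
theorem N14986 : nd 14986 = n15013 := ndS (p := 11935) (l := 5) rfl N11935 D15013
theorem N14987 : nd 14987 = n15014 := ndS (p := 11937) (l := 1) rfl N11937 D15014
theorem N14988 : nd 14988 = n15015 := ndS (p := 11937) (l := 3) rfl N11937 D15015
theorem N14989 : nd 14989 = n15016 := ndS (p := 11938) (l := 1) rfl N11938 D15016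
theorem N14990 : nd 14990 = n15017 := ndS (p := 11938) (l := 3) rfl N11938 D15017
theorem N14991 : nd 14991 = n15018 := ndS (p := 11938) (l := 5) rfl N11938 D15018
theorem N14992 : nd 14992 = n15019 := ndS (p := 11940) (l := 0) rfl N11940 D15019
theorem N14993 : nd 14993 = n15020 := ndS (p := 11941) (l := 2) rfl N11941 D15020
theorem N14994 : nd 14994 = n15021 := ndS (p := 11941) (l := 5) rfl N11941 D15021
theorem N14995 : nd 14995 = n15022 := ndS (p := 11943) (l := 1) rfl N11943 D15022
theorem N14996 : nd 14996 = n15023 := ndS (p := 11943) (l := 3) rfl N11943 D15023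
theorem N14997 : nd 14997 = n15024 := ndS (p := 11943) (l := 5) rfl N11943 D15024
theorem N14998 : nd 14998 = n15025 := ndS (p := 11944) (l := 4) rfl N11944 D15025
theorem N14999 : nd 14999 = n15026 := ndS (p := 11945) (l := 0) rfl N11945 D15026
theorem N15000 : nd 15000 = n15027 := ndS (p := 11945) (l := 3) rfl N11945 D15027
theorem N15001 : nd 15001 = n15028 := ndS (p := 11945) (l := 5) rfl N11945 D15028
theorem N15002 : nd 15002 = n15029 := ndS (p := 11946) (l := 2) rfl N11946 D15029
theorem N15003 : nd 15003 = n15030 := ndS (p := 11946) (l := 5) rfl N11946 D15030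
theorem N15004 : nd 15004 = n15031 := ndS (p := 11949) (l := 1) rfl N11949 D15031
theorem N15005 : nd 15005 = n15032 := ndS (p := 11950) (l := 4) rfl N11950 D15032
theorem N15006 : nd 15006 = n15033 := ndS (p := 11951) (l := 3) rfl N11951 D15033
theorem N15007 : nd 15007 = n15034 := ndS (p := 11951) (l := 5) rfl N11951 D15034
theorem N15008 : nd 15008 = n15035 := ndS (p := 11953) (l := 5) rfl N11953 D15035
theorem N15009 : nd 15009 = n15036 := ndS (p := 11955) (l := 0) rfl N11955 D15036
theorem N15010 : nd 15010 = n15037 := ndS (p := 11955) (l := 3) rfl N11955 D15037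
theorem N15011 : nd 15011 = n15038 := ndS (p := 11956) (l := 2) rfl N11956 D15038
theorem N15012 : nd 15012 = n15039 := ndS (p := 11956) (l := 4) rfl N11956 D15039
theorem N15013 : nd 15013 = n15040 := ndS (p := 11957) (l := 0) rfl N11957 D15040
theorem N15014 : nd 15014 = n15041 := ndS (p := 11957) (l := 3) rfl N11957 D15041
theorem N15015 : nd 15015 = n15042 := ndS (p := 11957) (l := 5) rfl N11957 D15042
theorem N15016 : nd 15016 = n15043 := ndS (p := 11958) (l := 2) rfl N11958 D15043
theorem N15017 : nd 15017 = n15044 := ndS (p := 11958) (l := 5) rfl N11958 D15044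
theorem N15018 : nd 15018 = n15045 := ndS (p := 11962) (l := 4) rfl N11962 D15045
theorem N15019 : nd 15019 = n15046 := ndS (p := 11964) (l := 4) rfl N11964 D15046
theorem N15020 : nd 15020 = n15047 := ndS (p := 11966) (l := 3) rfl N11966 D15047
theorem N15021 : nd 15021 = n15048 := ndS (p := 11966) (l := 5) rfl N11966 D15048
theorem N15022 : nd 15022 = n15049 := ndS (p := 11967) (l := 5) rfl N11967 D15049
theorem N15023 : nd 15023 = n15050 := ndS (p := 11970) (l := 4) rfl N11970 D15050
theorem N15024 : nd 15024 = n15051 := ndS (p := 11971) (l := 0) rfl N11971 D15051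
theorem N15025 : nd 15025 = n15052 := ndS (p := 11971) (l := 3) rfl N11971 D15052
theorem N15026 : nd 15026 = n15053 := ndS (p := 11972) (l := 4) rfl N11972 D15053
theorem N15027 : nd 15027 = n15054 := ndS (p := 11973) (l := 4) rfl N11973 D15054
theorem N15028 : nd 15028 = n15055 := ndS (p := 11977) (l := 2) rfl N11977 D15055
theorem N15029 : nd 15029 = n15056 := ndS (p := 11977) (l := 4) rfl N11977 D15056
theorem N15030 : nd 15030 = n15057 := ndS (p := 11978) (l := 4) rfl N11978 D15057
theorem N15031 : nd 15031 = n15058 := ndS (p := 11979) (l := 3) rfl N11979 D15058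
theorem N15032 : nd 15032 = n15059 := ndS (p := 11979) (l := 4) rfl N11979 D15059
theorem N15033 : nd 15033 = n15060 := ndS (p := 11982) (l := 0) rfl N11982 D15060
theorem N15034 : nd 15034 = n15061 := ndS (p := 11982) (l := 3) rfl N11982 D15061
theorem N15035 : nd 15035 = n15062 := ndS (p := 11983) (l := 4) rfl N11983 D15062
theorem N15036 : nd 15036 = n15063 := ndS (p := 11984) (l := 4) rfl N11984 D15063
theorem N15037 : nd 15037 = n15064 := ndS (p := 11986) (l := 2) rfl N11986 D15064
theorem N15038 : nd 15038 = n15065 := ndS (p := 11987) (l := 1) rfl N11987 D15065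
theorem N15039 : nd 15039 = n15066 := ndS (p := 11988) (l := 4) rfl N11988 D15066
theorem N15040 : nd 15040 = n15067 := ndS (p := 11989) (l := 1) rfl N11989 D15067
theorem N15041 : nd 15041 = n15068 := ndS (p := 11989) (l := 3) rfl N11989 D15068
theorem N15042 : nd 15042 = n15069 := ndS (p := 11990) (l := 2) rfl N11990 D15069
theorem N15043 : nd 15043 = n15070 := ndS (p := 11990) (l := 4) rfl N11990 D15070
theorem N15044 : nd 15044 = n15071 := ndS (p := 11991) (l := 3) rfl N11991 D15071
theorem N15045 : nd 15045 = n15072 := ndS (p := 11993) (l := 0) rfl N11993 D15072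
theorem N15046 : nd 15046 = n15073 := ndS (p := 11993) (l := 3) rfl N11993 D15073
theorem N15047 : nd 15047 = n15074 := ndS (p := 11993) (l := 5) rfl N11993 D15074
theorem N15048 : nd 15048 = n15075 := ndS (p := 11994) (l := 4) rfl N11994 D15075
theorem N15049 : nd 15049 = n15076 := ndS (p := 11995) (l := 4) rfl N11995 D15076
theorem N15050 : nd 15050 = n15077 := ndS (p := 11998) (l := 4) rfl N11998 D15077
theorem N15051 : nd 15051 = n15078 := ndS (p := 11998) (l := 5) rfl N11998 D15078
theorem N15052 : nd 15052 = n15079 := ndS (p := 11999) (l := 4) rfl N11999 D15079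
theorem N15053 : nd 15053 = n15080 := ndS (p := 12000) (l := 4) rfl N12000 D15080
theorem N15054 : nd 15054 = n15081 := ndS (p := 12001) (l := 5) rfl N12001 D15081
theorem N15055 : nd 15055 = n15082 := ndS (p := 12002) (l := 4) rfl N12002 D15082
theorem N15056 : nd 15056 = n15083 := ndS (p := 12003) (l := 3) rfl N12003 D15083
theorem N15057 : nd 15057 = n15084 := ndS (p := 12004) (l := 2) rfl N12004 D15084
theorem N15058 : nd 15058 = n15085 := ndS (p := 12004) (l := 4) rfl N12004 D15085
theorem N15059 : nd 15059 = n15086 := ndS (p := 12005) (l := 4) rfl N12005 D15086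
theorem N15060 : nd 15060 = n15087 := ndS (p := 12006) (l := 3) rfl N12006 D15087
theorem N15061 : nd 15061 = n15088 := ndS (p := 12006) (l := 4) rfl N12006 D15088
theorem N15062 : nd 15062 = n15089 := ndS (p := 12008) (l := 3) rfl N12008 D15089
theorem N15063 : nd 15063 = n15090 := ndS (p := 12010) (l := 2) rfl N12010 D15090
theorem N15064 : nd 15064 = n15091 := ndS (p := 12012) (l := 4) rfl N12012 D15091
theorem N15065 : nd 15065 = n15092 := ndS (p := 12013) (l := 3) rfl N12013 D15092
theorem N15066 : nd 15066 = n15093 := ndS (p := 12014) (l := 2) rfl N12014 D15093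
theorem N15067 : nd 15067 = n15094 := ndS (p := 12014) (l := 5) rfl N12014 D15094
theorem N15068 : nd 15068 = n15095 := ndS (p := 12016) (l := 1) rfl N12016 D15095
theorem N15069 : nd 15069 = n15096 := ndS (p := 12016) (l := 3) rfl N12016 D15096
theorem N15070 : nd 15070 = n15097 := ndS (p := 12016) (l := 5) rfl N12016 D15097
theorem N15071 : nd 15071 = n15098 := ndS (p := 12017) (l := 4) rfl N12017 D15098
theorem N15072 : nd 15072 = n15099 := ndS (p := 12018) (l := 0) rfl N12018 D15099
theorem N15073 : nd 15073 = n15100 := ndS (p := 12018) (l := 4) rfl N12018 D15100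
theorem N15074 : nd 15074 = n15101 := ndS (p := 12019) (l := 3) rfl N12019 D15101
theorem N15075 : nd 15075 = n15102 := ndS (p := 12019) (l := 5) rfl N12019 D15102
theorem N15076 : nd 15076 = n15103 := ndS (p := 12020) (l := 4) rfl N12020 D15103
theorem N15077 : nd 15077 = n15104 := ndS (p := 12021) (l := 3) rfl N12021 D15104
theorem N15078 : nd 15078 = n15105 := ndS (p := 12022) (l := 2) rfl N12022 D15105
theorem N15079 : nd 15079 = n15106 := ndS (p := 12023) (l := 1) rfl N12023 D15106
theorem N15080 : nd 15080 = n15107 := ndS (p := 12023) (l := 3) rfl N12023 D15107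
theorem N15081 : nd 15081 = n15108 := ndS (p := 12024) (l := 2) rfl N12024 D15108
theorem N15082 : nd 15082 = n15109 := ndS (p := 12024) (l := 4) rfl N12024 D15109
theorem N15083 : nd 15083 = n15110 := ndS (p := 12025) (l := 2) rfl N12025 D15110
theorem N15084 : nd 15084 = n15111 := ndS (p := 12025) (l := 4) rfl N12025 D15111
theorem N15085 : nd 15085 = n15112 := ndS (p := 12026) (l := 4) rfl N12026 D15112
theorem N15086 : nd 15086 = n15113 := ndS (p := 12027) (l := 3) rfl N12027 D15113
theorem N15087 : nd 15087 = n15114 := ndS (p := 12027) (l := 4) rfl N12027 D15114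
theorem N15088 : nd 15088 = n15115 := ndS (p := 12028) (l := 5) rfl N12028 D15115
theorem N15089 : nd 15089 = n15116 := ndS (p := 12029) (l := 3) rfl N12029 D15116
theorem N15090 : nd 15090 = n15117 := ndS (p := 12032) (l := 1) rfl N12032 D15117
theorem N15091 : nd 15091 = n15118 := ndS (p := 12032) (l := 4) rfl N12032 D15118
theorem N15092 : nd 15092 = n15119 := ndS (p := 12032) (l := 5) rfl N12032 D15119
theorem N15093 : nd 15093 = n15120 := ndS (p := 12035) (l := 3) rfl N12035 D15120
theorem N15094 : nd 15094 = n15121 := ndS (p := 12036) (l := 3) rfl N12036 D15121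
theorem N15095 : nd 15095 = n15122 := ndS (p := 12037) (l := 4) rfl N12037 D15122
theorem N15096 : nd 15096 = n15123 := ndS (p := 12037) (l := 5) rfl N12037 D15123
theorem N15097 : nd 15097 = n15124 := ndS (p := 12040) (l := 2) rfl N12040 D15124
theorem N15098 : nd 15098 = n15125 := ndS (p := 12041) (l := 3) rfl N12041 D15125
theorem N15099 : nd 15099 = n15127 := ndS (p := 12043) (l := 2) rfl N12043 D15127
theorem N15100 : nd 15100 = n15128 := ndS (p := 12044) (l := 1) rfl N12044 D15128
theorem N15101 : nd 15101 = n15129 := ndS (p := 12045) (l := 3) rfl N12045 D15129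
theorem N15102 : nd 15102 = n15130 := ndS (p := 12045) (l := 4) rfl N12045 D15130
theorem N15103 : nd 15103 = n15131 := ndS (p := 12047) (l := 3) rfl N12047 D15131
theorem N15104 : nd 15104 = n15132 := ndS (p := 12048) (l := 1) rfl N12048 D15132
theorem N15105 : nd 15105 = n15133 := ndS (p := 12049) (l := 5) rfl N12049 D15133
theorem N15106 : nd 15106 = n15134 := ndS (p := 12051) (l := 3) rfl N12051 D15134
theorem N15107 : nd 15107 = n15135 := ndS (p := 12052) (l := 4) rfl N12052 D15135
theorem N15108 : nd 15108 = n15136 := ndS (p := 12053) (l := 1) rfl N12053 D15136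
theorem N15109 : nd 15109 = n15137 := ndS (p := 12053) (l := 4) rfl N12053 D15137
theorem N15110 : nd 15110 = n15138 := ndS (p := 12054) (l := 5) rfl N12054 D15138
theorem N15111 : nd 15111 = n15139 := ndS (p := 12055) (l := 1) rfl N12055 D15139
theorem N15112 : nd 15112 = n15140 := ndS (p := 12055) (l := 3) rfl N12055 D15140
theorem N15113 : nd 15113 = n15141 := ndS (p := 12055) (l := 5) rfl N12055 D15141
theorem N15114 : nd 15114 = n15142 := ndS (p := 12056) (l := 4) rfl N12056 D15142
theorem N15115 : nd 15115 = n15143 := ndS (p := 12057) (l := 0) rfl N12057 D15143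
theorem N15116 : nd 15116 = n15144 := ndS (p := 12059) (l := 0) rfl N12059 D15144
theorem N15117 : nd 15117 = n15145 := ndS (p := 12059) (l := 3) rfl N12059 D15145
theorem N15118 : nd 15118 = n15146 := ndS (p := 12059) (l := 5) rfl N12059 D15146
theorem N15119 : nd 15119 = n15147 := ndS (p := 12060) (l := 4) rfl N12060 D15147
theorem N15120 : nd 15120 = n15148 := ndS (p := 12061) (l := 4) rfl N12061 D15148
theorem N15121 : nd 15121 = n15149 := ndS (p := 12063) (l := 3) rfl N12063 D15149
theorem N15122 : nd 15122 = n15150 := ndS (p := 12063) (l := 5) rfl N12063 D15150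
theorem N15123 : nd 15123 = n15151 := ndS (p := 12064) (l := 2) rfl N12064 D15151
theorem N15124 : nd 15124 = n15152 := ndS (p := 12064) (l := 4) rfl N12064 D15152
theorem N15125 : nd 15125 = n15153 := ndS (p := 12064) (l := 5) rfl N12064 D15153
theorem N15126 : nd 15126 = n15154 := ndS (p := 12065) (l := 4) rfl N12065 D15154
theorem N15127 : nd 15127 = n15155 := ndS (p := 12066) (l := 1) rfl N12066 D15155
theorem N15128 : nd 15128 = n15156 := ndS (p := 12066) (l := 4) rfl N12066 D15156
theorem N15129 : nd 15129 = n15157 := ndS (p := 12067) (l := 5) rfl N12067 D15157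
theorem N15130 : nd 15130 = n15158 := ndS (p := 12068) (l := 4) rfl N12068 D15158
theorem N15131 : nd 15131 = n15159 := ndS (p := 12069) (l := 3) rfl N12069 D15159
theorem N15132 : nd 15132 = n15160 := ndS (p := 12070) (l := 2) rfl N12070 D15160
theorem N15133 : nd 15133 = n15161 := ndS (p := 12070) (l := 4) rfl N12070 D15161
theorem N15134 : nd 15134 = n15162 := ndS (p := 12071) (l := 4) rfl N12071 D15162
theorem N15135 : nd 15135 = n15163 := ndS (p := 12072) (l := 3) rfl N12072 D15163
theorem N15136 : nd 15136 = n15164 := ndS (p := 12072) (l := 4) rfl N12072 D15164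
theorem N15137 : nd 15137 = n15165 := ndS (p := 12075) (l := 2) rfl N12075 D15165
theorem N15138 : nd 15138 = n15166 := ndS (p := 12075) (l := 4) rfl N12075 D15166
theorem N15139 : nd 15139 = n15167 := ndS (p := 12076) (l := 4) rfl N12076 D15167
theorem N15140 : nd 15140 = n15168 := ndS (p := 12077) (l := 3) rfl N12077 D15168
theorem N15141 : nd 15141 = n15169 := ndS (p := 12077) (l := 4) rfl N12077 D15169
theorem N15142 : nd 15142 = n15170 := ndS (p := 12080) (l := 0) rfl N12080 D15170
theorem N15143 : nd 15143 = n15171 := ndS (p := 12080) (l := 3) rfl N12080 D15171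
theorem N15144 : nd 15144 = n15172 := ndS (p := 12081) (l := 2) rfl N12081 D15172
theorem N15145 : nd 15145 = n15173 := ndS (p := 12081) (l := 4) rfl N12081 D15173
theorem N15146 : nd 15146 = n15174 := ndS (p := 12081) (l := 5) rfl N12081 D15174
theorem N15147 : nd 15147 = n15175 := ndS (p := 12082) (l := 4) rfl N12082 D15175
theorem N15148 : nd 15148 = n15176 := ndS (p := 12084) (l := 0) rfl N12084 D15176
theorem N15149 : nd 15149 = n15177 := ndS (p := 12084) (l := 3) rfl N12084 D15177
theorem N15150 : nd 15150 = n15178 := ndS (p := 12084) (l := 5) rfl N12084 D15178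
theorem N15151 : nd 15151 = n15179 := ndS (p := 12085) (l := 2) rfl N12085 D15179
theorem N15152 : nd 15152 = n15180 := ndS (p := 12085) (l := 5) rfl N12085 D15180
theorem N15153 : nd 15153 = n15181 := ndS (p := 12089) (l := 0) rfl N12089 D15181
theorem N15154 : nd 15154 = n15182 := ndS (p := 12089) (l := 3) rfl N12089 D15182
theorem N15155 : nd 15155 = n15183 := ndS (p := 12089) (l := 5) rfl N12089 D15183
theorem N15156 : nd 15156 = n15184 := ndS (p := 12090) (l := 4) rfl N12090 D15184
theorem N15157 : nd 15157 = n15185 := ndS (p := 12091) (l := 4) rfl N12091 D15185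
theorem N15158 : nd 15158 = n15186 := ndS (p := 12093) (l := 3) rfl N12093 D15186
theorem N15159 : nd 15159 = n15187 := ndS (p := 12093) (l := 5) rfl N12093 D15187
theorem N15160 : nd 15160 = n15188 := ndS (p := 12094) (l := 2) rfl N12094 D15188
theorem N15161 : nd 15161 = n15189 := ndS (p := 12094) (l := 4) rfl N12094 D15189
theorem N15162 : nd 15162 = n15190 := ndS (p := 12094) (l := 5) rfl N12094 D15190
theorem N15163 : nd 15163 = n15191 := ndS (p := 12095) (l := 4) rfl N12095 D15191
theorem N15164 : nd 15164 = n15192 := ndS (p := 12096) (l := 1) rfl N12096 D15192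
theorem N15165 : nd 15165 = n15193 := ndS (p := 12096) (l := 4) rfl N12096 D15193
theorem N15166 : nd 15166 = n15194 := ndS (p := 12097) (l := 5) rfl N12097 D15194
theorem N15167 : nd 15167 = n15195 := ndS (p := 12098) (l := 4) rfl N12098 D15195
theorem N15168 : nd 15168 = n15196 := ndS (p := 12099) (l := 3) rfl N12099 D15196
theorem N15169 : nd 15169 = n15197 := ndS (p := 12100) (l := 2) rfl N12100 D15197
theorem N15170 : nd 15170 = n15198 := ndS (p := 12100) (l := 4) rfl N12100 D15198
theorem N15171 : nd 15171 = n15199 := ndS (p := 12101) (l := 4) rfl N12101 D15199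
theorem N15172 : nd 15172 = n15200 := ndS (p := 12102) (l := 3) rfl N12102 D15200
theorem N15173 : nd 15173 = n15201 := ndS (p := 12102) (l := 4) rfl N12102 D15201
theorem N15174 : nd 15174 = n15202 := ndS (p := 12103) (l := 5) rfl N12103 D15202
theorem N15175 : nd 15175 = n15203 := ndS (p := 12104) (l := 3) rfl N12104 D15203
theorem N15176 : nd 15176 = n15204 := ndS (p := 12106) (l := 2) rfl N12106 D15204
theorem N15177 : nd 15177 = n15205 := ndS (p := 12107) (l := 0) rfl N12107 D15205
theorem N15178 : nd 15178 = n15206 := ndS (p := 12107) (l := 3) rfl N12107 D15206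
theorem N15179 : nd 15179 = n15207 := ndS (p := 12108) (l := 4) rfl N12108 D15207
theorem N15180 : nd 15180 = n15208 := ndS (p := 12109) (l := 4) rfl N12109 D15208
theorem N15181 : nd 15181 = n15209 := ndS (p := 12112) (l := 3) rfl N12112 D15209
theorem N15182 : nd 15182 = n15210 := ndS (p := 12112) (l := 5) rfl N12112 D15210
theorem N15183 : nd 15183 = n15211 := ndS (p := 12113) (l := 2) rfl N12113 D15211
theorem N15184 : nd 15184 = n15212 := ndS (p := 12113) (l := 4) rfl N12113 D15212
theorem N15185 : nd 15185 = n15213 := ndS (p := 12114) (l := 4) rfl N12114 D15213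
theorem N15186 : nd 15186 = n15214 := ndS (p := 12116) (l := 3) rfl N12116 D15214
theorem N15187 : nd 15187 = n15215 := ndS (p := 12117) (l := 2) rfl N12117 D15215
theorem N15188 : nd 15188 = n15216 := ndS (p := 12117) (l := 4) rfl N12117 D15216
theorem N15189 : nd 15189 = n15217 := ndS (p := 12118) (l := 4) rfl N12118 D15217
theorem N15190 : nd 15190 = n15218 := ndS (p := 12119) (l := 3) rfl N12119 D15218
theorem N15191 : nd 15191 = n15219 := ndS (p := 12119) (l := 4) rfl N12119 D15219
theorem N15192 : nd 15192 = n15220 := ndS (p := 12120) (l := 5) rfl N12120 D15220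
theorem N15193 : nd 15193 = n15221 := ndS (p := 12121) (l := 3) rfl N12121 D15221
theorem N15194 : nd 15194 = n15222 := ndS (p := 12123) (l := 2) rfl N12123 D15222
theorem N15195 : nd 15195 = n15223 := ndS (p := 12125) (l := 4) rfl N12125 D15223
theorem N15196 : nd 15196 = n15224 := ndS (p := 12126) (l := 4) rfl N12126 D15224
theorem N15197 : nd 15197 = n15225 := ndS (p := 12128) (l := 4) rfl N12128 D15225
theorem N15198 : nd 15198 = n15226 := ndS (p := 12129) (l := 4) rfl N12129 D15226
theorem N15199 : nd 15199 = n15227 := ndS (p := 12131) (l := 4) rfl N12131 D15227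
theorem N15200 : nd 15200 = n15228 := ndS (p := 12132) (l := 5) rfl N12132 D15228
theorem N15201 : nd 15201 = n15229 := ndS (p := 12133) (l := 3) rfl N12133 D15229
theorem N15202 : nd 15202 = n15230 := ndS (p := 12134) (l := 3) rfl N12134 D15230
theorem N15203 : nd 15203 = n15231 := ndS (p := 12135) (l := 4) rfl N12135 D15231
theorem N15204 : nd 15204 = n15232 := ndS (p := 12136) (l := 4) rfl N12136 D15232
theorem N15205 : nd 15205 = n15233 := ndS (p := 12137) (l := 5) rfl N12137 D15233
theorem N15206 : nd 15206 = n15234 := ndS (p := 12138) (l := 3) rfl N12138 D15234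
theorem N15207 : nd 15207 = n15235 := ndS (p := 12139) (l := 3) rfl N12139 D15235
theorem N15208 : nd 15208 = n15236 := ndS (p := 12139) (l := 5) rfl N12139 D15236
theorem N15209 : nd 15209 = n15237 := ndS (p := 12140) (l := 2) rfl N12140 D15237
theorem N15210 : nd 15210 = n15238 := ndS (p := 12140) (l := 4) rfl N12140 D15238
theorem N15211 : nd 15211 = n15239 := ndS (p := 12141) (l := 4) rfl N12141 D15239
theorem N15212 : nd 15212 = n15240 := ndS (p := 12142) (l := 5) rfl N12142 D15240
theorem N15213 : nd 15213 = n15241 := ndS (p := 12143) (l := 3) rfl N12143 D15241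
theorem N15214 : nd 15214 = n15242 := ndS (p := 12144) (l := 2) rfl N12144 D15242
theorem N15215 : nd 15215 = n15243 := ndS (p := 12144) (l := 4) rfl N12144 D15243
theorem N15216 : nd 15216 = n15244 := ndS (p := 12144) (l := 5) rfl N12144 D15244
theorem N15217 : nd 15217 = n15245 := ndS (p := 12145) (l := 4) rfl N12145 D15245
theorem N15218 : nd 15218 = n15246 := ndS (p := 12146) (l := 1) rfl N12146 D15246
theorem N15219 : nd 15219 = n15247 := ndS (p := 12146) (l := 4) rfl N12146 D15247
theorem N15220 : nd 15220 = n15248 := ndS (p := 12146) (l := 5) rfl N12146 D15248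
theorem N15221 : nd 15221 = n15249 := ndS (p := 12147) (l := 5) rfl N12147 D15249
theorem N15222 : nd 15222 = n15250 := ndS (p := 12148) (l := 4) rfl N12148 D15250
theorem N15223 : nd 15223 = n15251 := ndS (p := 12149) (l := 3) rfl N12149 D15251
theorem N15224 : nd 15224 = n15252 := ndS (p := 12150) (l := 4) rfl N12150 D15252
theorem N15225 : nd 15225 = n15253 := ndS (p := 12151) (l := 5) rfl N12151 D15253
theorem N15226 : nd 15226 = n15254 := ndS (p := 12152) (l := 4) rfl N12152 D15254
theorem N15227 : nd 15227 = n15255 := ndS (p := 12153) (l := 3) rfl N12153 D15255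
theorem N15228 : nd 15228 = n15256 := ndS (p := 12154) (l := 2) rfl N12154 D15256
theorem N15229 : nd 15229 = n15257 := ndS (p := 12155) (l := 0) rfl N12155 D15257
theorem N15230 : nd 15230 = n15258 := ndS (p := 12155) (l := 3) rfl N12155 D15258
theorem N15231 : nd 15231 = n15259 := ndS (p := 12155) (l := 5) rfl N12155 D15259
theorem N15232 : nd 15232 = n15260 := ndS (p := 12156) (l := 4) rfl N12156 D15260
theorem N15233 : nd 15233 = n15261 := ndS (p := 12157) (l := 4) rfl N12157 D15261
theorem N15234 : nd 15234 = n15262 := ndS (p := 12159) (l := 3) rfl N12159 D15262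
theorem N15235 : nd 15235 = n15263 := ndS (p := 12159) (l := 5) rfl N12159 D15263
theorem N15236 : nd 15236 = n15264 := ndS (p := 12160) (l := 4) rfl N12160 D15264
theorem N15237 : nd 15237 = n15265 := ndS (p := 12161) (l := 4) rfl N12161 D15265
theorem N15238 : nd 15238 = n15266 := ndS (p := 12164) (l := 4) rfl N12164 D15266
theorem N15239 : nd 15239 = n15267 := ndS (p := 12165) (l := 1) rfl N12165 D15267
theorem N15240 : nd 15240 = n15268 := ndS (p := 12165) (l := 3) rfl N12165 D15268
theorem N15241 : nd 15241 = n15269 := ndS (p := 12165) (l := 5) rfl N12165 D15269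
theorem N15242 : nd 15242 = n15270 := ndS (p := 12166) (l := 4) rfl N12166 D15270
theorem N15243 : nd 15243 = n15271 := ndS (p := 12167) (l := 3) rfl N12167 D15271
theorem N15244 : nd 15244 = n15272 := ndS (p := 12168) (l := 0) rfl N12168 D15272
theorem N15245 : nd 15245 = n15273 := ndS (p := 12172) (l := 2) rfl N12172 D15273
theorem N15246 : nd 15246 = n15274 := ndS (p := 12173) (l := 4) rfl N12173 D15274
theorem N15247 : nd 15247 = n15275 := ndS (p := 12174) (l := 5) rfl N12174 D15275
theorem N15248 : nd 15248 = n15276 := ndS (p := 12176) (l := 4) rfl N12176 D15276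
theorem N15249 : nd 15249 = n15277 := ndS (p := 12177) (l := 3) rfl N12177 D15277
theorem N15250 : nd 15250 = n15278 := ndS (p := 12177) (l := 5) rfl N12177 D15278
theorem N15251 : nd 15251 = n15279 := ndS (p := 12178) (l := 2) rfl N12178 D15279
theorem N15252 : nd 15252 = n15280 := ndS (p := 12178) (l := 5) rfl N12178 D15280
theorem N15253 : nd 15253 = n15281 := ndS (p := 12182) (l := 2) rfl N12182 D15281
theorem N15254 : nd 15254 = n15282 := ndS (p := 12182) (l := 4) rfl N12182 D15282
theorem N15255 : nd 15255 = n15283 := ndS (p := 12183) (l := 4) rfl N12183 D15283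
theorem N15256 : nd 15256 = n15284 := ndS (p := 12184) (l := 5) rfl N12184 D15284
theorem N15257 : nd 15257 = n15285 := ndS (p := 12186) (l := 4) rfl N12186 D15285
theorem N15258 : nd 15258 = n15286 := ndS (p := 12187) (l := 3) rfl N12187 D15286
theorem N15259 : nd 15259 = n15287 := ndS (p := 12187) (l := 5) rfl N12187 D15287
theorem N15260 : nd 15260 = n15288 := ndS (p := 12191) (l := 2) rfl N12191 D15288
theorem N15261 : nd 15261 = n15289 := ndS (p := 12191) (l := 5) rfl N12191 D15289
theorem N15262 : nd 15262 = n15290 := ndS (p := 12193) (l := 0) rfl N12193 D15290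
theorem N15263 : nd 15263 = n15291 := ndS (p := 12193) (l := 3) rfl N12193 D15291
theorem N15264 : nd 15264 = n15292 := ndS (p := 12194) (l := 2) rfl N12194 D15292
theorem N15265 : nd 15265 = n15293 := ndS (p := 12194) (l := 4) rfl N12194 D15293
theorem N15266 : nd 15266 = n15294 := ndS (p := 12194) (l := 5) rfl N12194 D15294
theorem N15267 : nd 15267 = n15295 := ndS (p := 12195) (l := 4) rfl N12195 D15295
theorem N15268 : nd 15268 = n15296 := ndS (p := 12197) (l := 0) rfl N12197 D15296
theorem N15269 : nd 15269 = n15297 := ndS (p := 12197) (l := 3) rfl N12197 D15297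
theorem N15270 : nd 15270 = n15298 := ndS (p := 12197) (l := 5) rfl N12197 D15298
theorem N15271 : nd 15271 = n15299 := ndS (p := 12198) (l := 2) rfl N12198 D15299
theorem N15272 : nd 15272 = n15300 := ndS (p := 12198) (l := 5) rfl N12198 D15300
theorem N15273 : nd 15273 = n15301 := ndS (p := 12202) (l := 2) rfl N12202 D15301
theorem N15274 : nd 15274 = n15302 := ndS (p := 12202) (l := 4) rfl N12202 D15302
theorem N15275 : nd 15275 = n15303 := ndS (p := 12203) (l := 4) rfl N12203 D15303
theorem N15276 : nd 15276 = n15304 := ndS (p := 12204) (l := 5) rfl N12204 D15304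
theorem N15277 : nd 15277 = n15305 := ndS (p := 12206) (l := 0) rfl N12206 D15305
theorem N15278 : nd 15278 = n15306 := ndS (p := 12206) (l := 3) rfl N12206 D15306
theorem N15279 : nd 15279 = n15307 := ndS (p := 12206) (l := 5) rfl N12206 D15307
theorem N15280 : nd 15280 = n15308 := ndS (p := 12207) (l := 4) rfl N12207 D15308
theorem N15281 : nd 15281 = n15309 := ndS (p := 12208) (l := 4) rfl N12208 D15309
theorem N15282 : nd 15282 = n15310 := ndS (p := 12210) (l := 3) rfl N12210 D15310
theorem N15283 : nd 15283 = n15311 := ndS (p := 12211) (l := 2) rfl N12211 D15311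
theorem N15284 : nd 15284 = n15312 := ndS (p := 12211) (l := 4) rfl N12211 D15312
theorem N15285 : nd 15285 = n15313 := ndS (p := 12212) (l := 1) rfl N12212 D15313
theorem N15286 : nd 15286 = n15314 := ndS (p := 12212) (l := 4) rfl N12212 D15314
theorem N15287 : nd 15287 = n15315 := ndS (p := 12213) (l := 5) rfl N12213 D15315
theorem N15288 : nd 15288 = n15316 := ndS (p := 12214) (l := 4) rfl N12214 D15316
theorem N15289 : nd 15289 = n15317 := ndS (p := 12215) (l := 3) rfl N12215 D15317
theorem N15290 : nd 15290 = n15318 := ndS (p := 12216) (l := 2) rfl N12216 D15318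
theorem N15291 : nd 15291 = n15319 := ndS (p := 12216) (l := 4) rfl N12216 D15319
theorem N15292 : nd 15292 = n15320 := ndS (p := 12217) (l := 4) rfl N12217 D15320
theorem N15293 : nd 15293 = n15321 := ndS (p := 12218) (l := 3) rfl N12218 D15321
theorem N15294 : nd 15294 = n15322 := ndS (p := 12220) (l := 3) rfl N12220 D15322
theorem N15295 : nd 15295 = n15323 := ndS (p := 12222) (l := 2) rfl N12222 D15323
theorem N15296 : nd 15296 = n15324 := ndS (p := 12223) (l := 5) rfl N12223 D15324
theorem N15297 : nd 15297 = n15325 := ndS (p := 12224) (l := 3) rfl N12224 D15325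
theorem N15298 : nd 15298 = n15326 := ndS (p := 12224) (l := 5) rfl N12224 D15326
theorem N15299 : nd 15299 = n15327 := ndS (p := 12226) (l := 0) rfl N12226 D15327
theorem N15300 : nd 15300 = n15328 := ndS (p := 12226) (l := 3) rfl N12226 D15328
theorem N15301 : nd 15301 = n15329 := ndS (p := 12226) (l := 5) rfl N12226 D15329
theorem N15302 : nd 15302 = n15330 := ndS (p := 12227) (l := 4) rfl N12227 D15330
theorem N15303 : nd 15303 = n15331 := ndS (p := 12228) (l := 4) rfl N12228 D15331
theorem N15304 : nd 15304 = n15332 := ndS (p := 12230) (l := 3) rfl N12230 D15332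
theorem N15305 : nd 15305 = n15333 := ndS (p := 12231) (l := 2) rfl N12231 D15333
theorem N15306 : nd 15306 = n15335 := ndS (p := 12232) (l := 1) rfl N12232 D15335
theorem N15307 : nd 15307 = n15337 := ndS (p := 12233) (l := 5) rfl N12233 D15337
theorem N15308 : nd 15308 = n15338 := ndS (p := 12234) (l := 4) rfl N12234 D15338
theorem N15309 : nd 15309 = n15339 := ndS (p := 12235) (l := 3) rfl N12235 D15339
theorem N15310 : nd 15310 = n15340 := ndS (p := 12236) (l := 2) rfl N12236 D15340
theorem N15311 : nd 15311 = n15341 := ndS (p := 12237) (l := 1) rfl N12237 D15341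
theorem N15312 : nd 15312 = n15342 := ndS (p := 12238) (l := 0) rfl N12238 D15342
theorem N15313 : nd 15313 = n15343 := ndS (p := 12238) (l := 3) rfl N12238 D15343
theorem N15314 : nd 15314 = n15344 := ndS (p := 12239) (l := 4) rfl N12239 D15344
theorem N15315 : nd 15315 = n15345 := ndS (p := 12240) (l := 1) rfl N12240 D15345
theorem N15316 : nd 15316 = n15346 := ndS (p := 12241) (l := 0) rfl N12241 D15346
theorem N15317 : nd 15317 = n15347 := ndS (p := 12242) (l := 3) rfl N12242 D15347
theorem N15318 : nd 15318 = n15348 := ndS (p := 12243) (l := 4) rfl N12243 D15348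
theorem N15319 : nd 15319 = n15349 := ndS (p := 12245) (l := 2) rfl N12245 D15349
theorem N15320 : nd 15320 = n15350 := ndS (p := 12245) (l := 4) rfl N12245 D15350
theorem N15321 : nd 15321 = n15351 := ndS (p := 12247) (l := 2) rfl N12247 D15351
theorem N15322 : nd 15322 = n15352 := ndS (p := 12248) (l := 1) rfl N12248 D15352
theorem N15323 : nd 15323 = n15353 := ndS (p := 12248) (l := 3) rfl N12248 D15353
theorem N15324 : nd 15324 = n15354 := ndS (p := 12249) (l := 0) rfl N12249 D15354
theorem N15325 : nd 15325 = n15355 := ndS (p := 12250) (l := 5) rfl N12250 D15355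
theorem N15326 : nd 15326 = n15356 := ndS (p := 12251) (l := 4) rfl N12251 D15356
theorem N15327 : nd 15327 = n15357 := ndS (p := 12253) (l := 3) rfl N12253 D15357
theorem N15328 : nd 15328 = n15358 := ndS (p := 12253) (l := 5) rfl N12253 D15358
theorem N15329 : nd 15329 = n15359 := ndS (p := 12254) (l := 2) rfl N12254 D15359
theorem N15330 : nd 15330 = n15360 := ndS (p := 12254) (l := 4) rfl N12254 D15360
theorem N15331 : nd 15331 = n15361 := ndS (p := 12257) (l := 2) rfl N12257 D15361
theorem N15332 : nd 15332 = n15362 := ndS (p := 12257) (l := 4) rfl N12257 D15362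
theorem N15333 : nd 15333 = n15363 := ndS (p := 12257) (l := 5) rfl N12257 D15363
theorem N15334 : nd 15334 = n15364 := ndS (p := 12258) (l := 4) rfl N12258 D15364
theorem N15335 : nd 15335 = n15365 := ndS (p := 12259) (l := 3) rfl N12259 D15365
theorem N15336 : nd 15336 = n15366 := ndS (p := 12259) (l := 4) rfl N12259 D15366
theorem N15337 : nd 15337 = n15367 := ndS (p := 12259) (l := 5) rfl N12259 D15367
theorem N15338 : nd 15338 = n15368 := ndS (p := 12260) (l := 5) rfl N12260 D15368
theorem N15339 : nd 15339 = n15369 := ndS (p := 12264) (l := 2) rfl N12264 D15369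
theorem N15340 : nd 15340 = n15370 := ndS (p := 12264) (l := 4) rfl N12264 D15370
theorem N15341 : nd 15341 = n15371 := ndS (p := 12265) (l := 4) rfl N12265 D15371
theorem N15342 : nd 15342 = n15372 := ndS (p := 12266) (l := 3) rfl N12266 D15372
theorem N15343 : nd 15343 = n15373 := ndS (p := 12266) (l := 4) rfl N12266 D15373
theorem N15344 : nd 15344 = n15374 := ndS (p := 12269) (l := 1) rfl N12269 D15374
theorem N15345 : nd 15345 = n15375 := ndS (p := 12270) (l := 0) rfl N12270 D15375
theorem N15346 : nd 15346 = n15376 := ndS (p := 12271) (l := 3) rfl N12271 D15376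
theorem N15347 : nd 15347 = n15377 := ndS (p := 12272) (l := 2) rfl N12272 D15377
theorem N15348 : nd 15348 = n15378 := ndS (p := 12272) (l := 4) rfl N12272 D15378
theorem N15349 : nd 15349 = n15379 := ndS (p := 12274) (l := 1) rfl N12274 D15379
theorem N15350 : nd 15350 = n15380 := ndS (p := 12274) (l := 3) rfl N12274 D15380
theorem N15351 : nd 15351 = n15381 := ndS (p := 12274) (l := 4) rfl N12274 D15381
theorem N15352 : nd 15352 = n15382 := ndS (p := 12277) (l := 2) rfl N12277 D15382
theorem N15353 : nd 15353 = n15383 := ndS (p := 12277) (l := 4) rfl N12277 D15383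
theorem N15354 : nd 15354 = n15384 := ndS (p := 12278) (l := 3) rfl N12278 D15384
theorem N15355 : nd 15355 = n15385 := ndS (p := 12279) (l := 0) rfl N12279 D15385
theorem N15356 : nd 15356 = n15386 := ndS (p := 12279) (l := 3) rfl N12279 D15386
theorem N15357 : nd 15357 = n15387 := ndS (p := 12282) (l := 4) rfl N12282 D15387
theorem N15358 : nd 15358 = n15388 := ndS (p := 12283) (l := 4) rfl N12283 D15388
theorem N15359 : nd 15359 = n15389 := ndS (p := 12284) (l := 5) rfl N12284 D15389
theorem N15360 : nd 15360 = n15390 := ndS (p := 12287) (l := 5) rfl N12287 D15390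
theorem N15361 : nd 15361 = n15391 := ndS (p := 12288) (l := 0) rfl N12288 D15391
theorem N15362 : nd 15362 = n15392 := ndS (p := 12288) (l := 4) rfl N12288 D15392
theorem N15363 : nd 15363 = n15393 := ndS (p := 12289) (l := 5) rfl N12289 D15393
theorem N15364 : nd 15364 = n15394 := ndS (p := 12291) (l := 4) rfl N12291 D15394
theorem N15365 : nd 15365 = n15395 := ndS (p := 12293) (l := 4) rfl N12293 D15395
theorem N15366 : nd 15366 = n15396 := ndS (p := 12294) (l := 3) rfl N12294 D15396
theorem N15367 : nd 15367 = n15397 := ndS (p := 12294) (l := 5) rfl N12294 D15397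
theorem N15368 : nd 15368 = n15398 := ndS (p := 12296) (l := 2) rfl N12296 D15398
theorem N15369 : nd 15369 = n15399 := ndS (p := 12296) (l := 5) rfl N12296 D15399
theorem N15370 : nd 15370 = n15400 := ndS (p := 12298) (l := 3) rfl N12298 D15400
theorem N15371 : nd 15371 = n15401 := ndS (p := 12299) (l := 4) rfl N12299 D15401
theorem N15372 : nd 15372 = n15402 := ndS (p := 12301) (l := 2) rfl N12301 D15402
theorem N15373 : nd 15373 = n15403 := ndS (p := 12301) (l := 4) rfl N12301 D15403
theorem N15374 : nd 15374 = n15404 := ndS (p := 12303) (l := 4) rfl N12303 D15404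
theorem N15375 : nd 15375 = n15405 := ndS (p := 12304) (l := 3) rfl N12304 D15405
theorem N15376 : nd 15376 = n15406 := ndS (p := 12304) (l := 5) rfl N12304 D15406
theorem N15377 : nd 15377 = n15407 := ndS (p := 12306) (l := 0) rfl N12306 D15407
theorem N15378 : nd 15378 = n15408 := ndS (p := 12306) (l := 3) rfl N12306 D15408
theorem N15379 : nd 15379 = n15409 := ndS (p := 12306) (l := 5) rfl N12306 D15409
theorem N15380 : nd 15380 = n15410 := ndS (p := 12307) (l := 4) rfl N12307 D15410
theorem N15381 : nd 15381 = n15411 := ndS (p := 12308) (l := 4) rfl N12308 D15411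
theorem N15382 : nd 15382 = n15412 := ndS (p := 12313) (l := 1) rfl N12313 D15412
theorem N15383 : nd 15383 = n15413 := ndS (p := 12313) (l := 4) rfl N12313 D15413
theorem N15384 : nd 15384 = n15414 := ndS (p := 12314) (l := 5) rfl N12314 D15414
theorem N15385 : nd 15385 = n15415 := ndS (p := 12316) (l := 3) rfl N12316 D15415
theorem N15386 : nd 15386 = n15416 := ndS (p := 12317) (l := 5) rfl N12317 D15416
theorem N15387 : nd 15387 = n15417 := ndS (p := 12319) (l := 2) rfl N12319 D15417
theorem N15388 : nd 15388 = n15418 := ndS (p := 12321) (l := 4) rfl N12321 D15418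
theorem N15389 : nd 15389 = n15419 := ndS (p := 12322) (l := 0) rfl N12322 D15419
theorem N15390 : nd 15390 = n15420 := ndS (p := 12324) (l := 4) rfl N12324 D15420
theorem N15391 : nd 15391 = n15421 := ndS (p := 12325) (l := 4) rfl N12325 D15421
theorem N15392 : nd 15392 = n15422 := ndS (p := 12326) (l := 3) rfl N12326 D15422
theorem N15393 : nd 15393 = n15423 := ndS (p := 12326) (l := 5) rfl N12326 D15423
theorem N15394 : nd 15394 = n15424 := ndS (p := 12328) (l := 3) rfl N12328 D15424
theorem N15395 : nd 15395 = n15425 := ndS (p := 12328) (l := 5) rfl N12328 D15425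
theorem N15396 : nd 15396 = n15426 := ndS (p := 12329) (l := 2) rfl N12329 D15426
theorem N15397 : nd 15397 = n15427 := ndS (p := 12329) (l := 5) rfl N12329 D15427
theorem N15398 : nd 15398 = n15428 := ndS (p := 12331) (l := 0) rfl N12331 D15428
theorem N15399 : nd 15399 = n15429 := ndS (p := 12331) (l := 3) rfl N12331 D15429
theorem N15400 : nd 15400 = n15430 := ndS (p := 12331) (l := 5) rfl N12331 D15430
theorem N15401 : nd 15401 = n15431 := ndS (p := 12332) (l := 4) rfl N12332 D15431
theorem N15402 : nd 15402 = n15432 := ndS (p := 12333) (l := 4) rfl N12333 D15432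
theorem N15403 : nd 15403 = n15433 := ndS (p := 12337) (l := 4) rfl N12337 D15433
theorem N15404 : nd 15404 = n15434 := ndS (p := 12341) (l := 3) rfl N12341 D15434
theorem N15405 : nd 15405 = n15435 := ndS (p := 12342) (l := 2) rfl N12342 D15435
theorem N15406 : nd 15406 = n15436 := ndS (p := 12342) (l := 4) rfl N12342 D15436
theorem N15407 : nd 15407 = n15437 := ndS (p := 12343) (l := 4) rfl N12343 D15437
theorem N15408 : nd 15408 = n15438 := ndS (p := 12344) (l := 4) rfl N12344 D15438
theorem N15409 : nd 15409 = n15439 := ndS (p := 12345) (l := 5) rfl N12345 D15439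
theorem N15410 : nd 15410 = n15440 := ndS (p := 12346) (l := 3) rfl N12346 D15440
theorem N15411 : nd 15411 = n15441 := ndS (p := 12349) (l := 5) rfl N12349 D15441
theorem N15412 : nd 15412 = n15442 := ndS (p := 12350) (l := 4) rfl N12350 D15442
theorem N15413 : nd 15413 = n15443 := ndS (p := 12351) (l := 3) rfl N12351 D15443
theorem N15414 : nd 15414 = n15444 := ndS (p := 12352) (l := 0) rfl N12352 D15444
theorem N15415 : nd 15415 = n15445 := ndS (p := 12352) (l := 3) rfl N12352 D15445
theorem N15416 : nd 15416 = n15446 := ndS (p := 12352) (l := 4) rfl N12352 D15446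
theorem N15417 : nd 15417 = n15447 := ndS (p := 12353) (l := 4) rfl N12353 D15447
theorem N15418 : nd 15418 = n15448 := ndS (p := 12353) (l := 5) rfl N12353 D15448
theorem N15419 : nd 15419 = n15449 := ndS (p := 12354) (l := 3) rfl N12354 D15449
theorem N15420 : nd 15420 = n15450 := ndS (p := 12354) (l := 5) rfl N12354 D15450
theorem N15421 : nd 15421 = n15451 := ndS (p := 12355) (l := 4) rfl N12355 D15451
theorem N15422 : nd 15422 = n15452 := ndS (p := 12356) (l := 4) rfl N12356 D15452
theorem N15423 : nd 15423 = n15453 := ndS (p := 12357) (l := 3) rfl N12357 D15453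
theorem N15424 : nd 15424 = n15454 := ndS (p := 12358) (l := 2) rfl N12358 D15454
theorem N15425 : nd 15425 = n15455 := ndS (p := 12359) (l := 4) rfl N12359 D15455
theorem N15426 : nd 15426 = n15456 := ndS (p := 12363) (l := 1) rfl N12363 D15456
theorem N15427 : nd 15427 = n15457 := ndS (p := 12364) (l := 4) rfl N12364 D15457
theorem N15428 : nd 15428 = n15458 := ndS (p := 12365) (l := 3) rfl N12365 D15458
theorem N15429 : nd 15429 = n15459 := ndS (p := 12367) (l := 2) rfl N12367 D15459
theorem N15430 : nd 15430 = n15460 := ndS (p := 12368) (l := 4) rfl N12368 D15460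
theorem N15431 : nd 15431 = n15461 := ndS (p := 12369) (l := 3) rfl N12369 D15461
theorem N15432 : nd 15432 = n15462 := ndS (p := 12369) (l := 5) rfl N12369 D15462
theorem N15433 : nd 15433 = n15463 := ndS (p := 12370) (l := 2) rfl N12370 D15463
theorem N15434 : nd 15434 = n15464 := ndS (p := 12371) (l := 1) rfl N12371 D15464
theorem N15435 : nd 15435 = n15465 := ndS (p := 12371) (l := 3) rfl N12371 D15465
theorem N15436 : nd 15436 = n15466 := ndS (p := 12372) (l := 0) rfl N12372 D15466
theorem N15437 : nd 15437 = n15467 := ndS (p := 12372) (l := 3) rfl N12372 D15467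
theorem N15438 : nd 15438 = n15468 := ndS (p := 12374) (l := 4) rfl N12374 D15468
theorem N15439 : nd 15439 = n15469 := ndS (p := 12375) (l := 5) rfl N12375 D15469
theorem N15440 : nd 15440 = n15470 := ndS (p := 12378) (l := 3) rfl N12378 D15470
theorem N15441 : nd 15441 = n15471 := ndS (p := 12378) (l := 5) rfl N12378 D15471
theorem N15442 : nd 15442 = n15472 := ndS (p := 12383) (l := 1) rfl N12383 D15472
theorem N15443 : nd 15443 = n15473 := ndS (p := 12383) (l := 3) rfl N12383 D15473
theorem N15444 : nd 15444 = n15474 := ndS (p := 12383) (l := 5) rfl N12383 D15474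
theorem N15445 : nd 15445 = n15475 := ndS (p := 12384) (l := 4) rfl N12384 D15475
theorem N15446 : nd 15446 = n15476 := ndS (p := 12385) (l := 0) rfl N12385 D15476
theorem N15447 : nd 15447 = n15477 := ndS (p := 12385) (l := 3) rfl N12385 D15477
theorem N15448 : nd 15448 = n15478 := ndS (p := 12385) (l := 5) rfl N12385 D15478
theorem N15449 : nd 15449 = n15479 := ndS (p := 12389) (l := 3) rfl N12389 D15479
theorem N15450 : nd 15450 = n15480 := ndS (p := 12389) (l := 4) rfl N12389 D15480
theorem N15451 : nd 15451 = n15481 := ndS (p := 12391) (l := 4) rfl N12391 D15481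
theorem N15452 : nd 15452 = n15482 := ndS (p := 12392) (l := 3) rfl N12392 D15482
theorem N15453 : nd 15453 = n15483 := ndS (p := 12394) (l := 4) rfl N12394 D15483
theorem N15454 : nd 15454 = n15484 := ndS (p := 12395) (l := 3) rfl N12395 D15484
theorem N15455 : nd 15455 = n15485 := ndS (p := 12395) (l := 5) rfl N12395 D15485
theorem N15456 : nd 15456 = n15486 := ndS (p := 12397) (l := 3) rfl N12397 D15486
theorem N15457 : nd 15457 = n15487 := ndS (p := 12397) (l := 5) rfl N12397 D15487
theorem N15458 : nd 15458 = n15488 := ndS (p := 12398) (l := 2) rfl N12398 D15488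
theorem N15459 : nd 15459 = n15489 := ndS (p := 12398) (l := 5) rfl N12398 D15489
theorem N15460 : nd 15460 = n15490 := ndS (p := 12400) (l := 1) rfl N12400 D15490
theorem N15461 : nd 15461 = n15491 := ndS (p := 12400) (l := 3) rfl N12400 D15491
theorem N15462 : nd 15462 = n15492 := ndS (p := 12400) (l := 5) rfl N12400 D15492
theorem N15463 : nd 15463 = n15493 := ndS (p := 12401) (l := 4) rfl N12401 D15493
theorem N15464 : nd 15464 = n15494 := ndS (p := 12402) (l := 5) rfl N12402 D15494
theorem N15465 : nd 15465 = n15495 := ndS (p := 12404) (l := 4) rfl N12404 D15495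
theorem N15466 : nd 15466 = n15496 := ndS (p := 12407) (l := 2) rfl N12407 D15496
theorem N15467 : nd 15467 = n15497 := ndS (p := 12408) (l := 4) rfl N12408 D15497
theorem N15468 : nd 15468 = n15498 := ndS (p := 12409) (l := 5) rfl N12409 D15498
theorem N15469 : nd 15469 = n15499 := ndS (p := 12410) (l := 4) rfl N12410 D15499
theorem N15470 : nd 15470 = n15500 := ndS (p := 12411) (l := 3) rfl N12411 D15500
theorem N15471 : nd 15471 = n15501 := ndS (p := 12412) (l := 3) rfl N12412 D15501
theorem N15472 : nd 15472 = n15502 := ndS (p := 12412) (l := 5) rfl N12412 D15502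
theorem N15473 : nd 15473 = n15503 := ndS (p := 12416) (l := 4) rfl N12416 D15503
theorem N15474 : nd 15474 = n15504 := ndS (p := 12419) (l := 5) rfl N12419 D15504
theorem N15475 : nd 15475 = n15505 := ndS (p := 12420) (l := 3) rfl N12420 D15505
theorem N15476 : nd 15476 = n15506 := ndS (p := 12421) (l := 2) rfl N12421 D15506
theorem N15477 : nd 15477 = n15507 := ndS (p := 12421) (l := 4) rfl N12421 D15507
theorem N15478 : nd 15478 = n15508 := ndS (p := 12421) (l := 5) rfl N12421 D15508
theorem N15479 : nd 15479 = n15509 := ndS (p := 12422) (l := 4) rfl N12422 D15509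
theorem N15480 : nd 15480 = n15510 := ndS (p := 12423) (l := 1) rfl N12423 D15510
theorem N15481 : nd 15481 = n15511 := ndS (p := 12423) (l := 3) rfl N12423 D15511
theorem N15482 : nd 15482 = n15512 := ndS (p := 12423) (l := 4) rfl N12423 D15512
theorem N15483 : nd 15483 = n15513 := ndS (p := 12423) (l := 5) rfl N12423 D15513
theorem N15484 : nd 15484 = n15514 := ndS (p := 12424) (l := 5) rfl N12424 D15514
theorem N15485 : nd 15485 = n15515 := ndS (p := 12425) (l := 4) rfl N12425 D15515
theorem N15486 : nd 15486 = n15516 := ndS (p := 12426) (l := 3) rfl N12426 D15516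
theorem N15487 : nd 15487 = n15517 := ndS (p := 12427) (l := 4) rfl N12427 D15517
theorem N15488 : nd 15488 = n15518 := ndS (p := 12428) (l := 5) rfl N12428 D15518
theorem N15489 : nd 15489 = n15519 := ndS (p := 12429) (l := 4) rfl N12429 D15519
theorem N15490 : nd 15490 = n15520 := ndS (p := 12430) (l := 3) rfl N12430 D15520
theorem N15491 : nd 15491 = n15521 := ndS (p := 12431) (l := 2) rfl N12431 D15521
theorem N15492 : nd 15492 = n15522 := ndS (p := 12433) (l := 5) rfl N12433 D15522
theorem N15493 : nd 15493 = n15523 := ndS (p := 12434) (l := 3) rfl N12434 D15523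
theorem N15494 : nd 15494 = n15524 := ndS (p := 12435) (l := 2) rfl N12435 D15524
theorem N15495 : nd 15495 = n15525 := ndS (p := 12436) (l := 5) rfl N12436 D15525
theorem N15496 : nd 15496 = n15526 := ndS (p := 12438) (l := 2) rfl N12438 D15526
theorem N15497 : nd 15497 = n15527 := ndS (p := 12439) (l := 1) rfl N12439 D15527
theorem N15498 : nd 15498 = n15528 := ndS (p := 12439) (l := 3) rfl N12439 D15528
theorem N15499 : nd 15499 = n15529 := ndS (p := 12440) (l := 3) rfl N12440 D15529
theorem N15500 : nd 15500 = n15530 := ndS (p := 12441) (l := 2) rfl N12441 D15530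
theorem N15501 : nd 15501 = n15531 := ndS (p := 12441) (l := 4) rfl N12441 D15531
theorem N15502 : nd 15502 = n15532 := ndS (p := 12442) (l := 5) rfl N12442 D15532
theorem N15503 : nd 15503 = n15533 := ndS (p := 12443) (l := 3) rfl N12443 D15533
theorem N15504 : nd 15504 = n15534 := ndS (p := 12444) (l := 2) rfl N12444 D15534
theorem N15505 : nd 15505 = n15535 := ndS (p := 12444) (l := 4) rfl N12444 D15535
theorem N15506 : nd 15506 = n15536 := ndS (p := 12445) (l := 4) rfl N12445 D15536
theorem N15507 : nd 15507 = n15537 := ndS (p := 12446) (l := 3) rfl N12446 D15537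
theorem N15508 : nd 15508 = n15538 := ndS (p := 12446) (l := 4) rfl N12446 D15538
theorem N15509 : nd 15509 = n15539 := ndS (p := 12454) (l := 3) rfl N12454 D15539
theorem N15510 : nd 15510 = n15540 := ndS (p := 12455) (l := 3) rfl N12455 D15540
theorem N15511 : nd 15511 = n15541 := ndS (p := 12455) (l := 5) rfl N12455 D15541
theorem N15512 : nd 15512 = n15542 := ndS (p := 12456) (l := 4) rfl N12456 D15542
theorem N15513 : nd 15513 = n15543 := ndS (p := 12457) (l := 3) rfl N12457 D15543
theorem N15514 : nd 15514 = n15544 := ndS (p := 12458) (l := 2) rfl N12458 D15544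
theorem N15515 : nd 15515 = n15545 := ndS (p := 12459) (l := 2) rfl N12459 D15545
theorem N15516 : nd 15516 = n15546 := ndS (p := 12459) (l := 5) rfl N12459 D15546
theorem N15517 : nd 15517 = n15547 := ndS (p := 12461) (l := 1) rfl N12461 D15547
theorem N15518 : nd 15518 = n15548 := ndS (p := 12463) (l := 3) rfl N12463 D15548
theorem N15519 : nd 15519 = n15549 := ndS (p := 12464) (l := 2) rfl N12464 D15549
theorem N15520 : nd 15520 = n15550 := ndS (p := 12465) (l := 3) rfl N12465 D15550
theorem N15521 : nd 15521 = n15551 := ndS (p := 12465) (l := 5) rfl N12465 D15551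
theorem N15522 : nd 15522 = n15552 := ndS (p := 12466) (l := 2) rfl N12466 D15552
theorem N15523 : nd 15523 = n15553 := ndS (p := 12468) (l := 2) rfl N12468 D15553
theorem N15524 : nd 15524 = n15554 := ndS (p := 12468) (l := 4) rfl N12468 D15554
theorem N15525 : nd 15525 = n15555 := ndS (p := 12468) (l := 5) rfl N12468 D15555
theorem N15526 : nd 15526 = n15556 := ndS (p := 12469) (l := 4) rfl N12469 D15556
theorem N15527 : nd 15527 = n15557 := ndS (p := 12470) (l := 1) rfl N12470 D15557
theorem N15528 : nd 15528 = n15558 := ndS (p := 12470) (l := 3) rfl N12470 D15558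
theorem N15529 : nd 15529 = n15559 := ndS (p := 12470) (l := 4) rfl N12470 D15559
theorem N15530 : nd 15530 = n15560 := ndS (p := 12470) (l := 5) rfl N12470 D15560
theorem N15531 : nd 15531 = n15561 := ndS (p := 12471) (l := 5) rfl N12471 D15561
theorem N15532 : nd 15532 = n15562 := ndS (p := 12474) (l := 0) rfl N12474 D15562
theorem N15533 : nd 15533 = n15563 := ndS (p := 12474) (l := 4) rfl N12474 D15563
theorem N15534 : nd 15534 = n15564 := ndS (p := 12475) (l := 3) rfl N12475 D15564
theorem N15535 : nd 15535 = n15565 := ndS (p := 12475) (l := 5) rfl N12475 D15565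
theorem N15536 : nd 15536 = n15566 := ndS (p := 12476) (l := 4) rfl N12476 D15566
theorem N15537 : nd 15537 = n15567 := ndS (p := 12479) (l := 5) rfl N12479 D15567
theorem N15538 : nd 15538 = n15568 := ndS (p := 12480) (l := 3) rfl N12480 D15568
theorem N15539 : nd 15539 = n15569 := ndS (p := 12481) (l := 3) rfl N12481 D15569
theorem N15540 : nd 15540 = n15570 := ndS (p := 12481) (l := 5) rfl N12481 D15570
theorem N15541 : nd 15541 = n15571 := ndS (p := 12482) (l := 4) rfl N12482 D15571
theorem N15542 : nd 15542 = n15572 := ndS (p := 12483) (l := 3) rfl N12483 D15572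
theorem N15543 : nd 15543 = n15573 := ndS (p := 12485) (l := 3) rfl N12485 D15573
theorem N15544 : nd 15544 = n15574 := ndS (p := 12486) (l := 2) rfl N12486 D15574
theorem N15545 : nd 15545 = n15575 := ndS (p := 12488) (l := 1) rfl N12488 D15575
theorem N15546 : nd 15546 = n15576 := ndS (p := 12488) (l := 3) rfl N12488 D15576
theorem N15547 : nd 15547 = n15577 := ndS (p := 12488) (l := 4) rfl N12488 D15577
theorem N15548 : nd 15548 = n15578 := ndS (p := 12491) (l := 2) rfl N12491 D15578
theorem N15549 : nd 15549 = n15579 := ndS (p := 12491) (l := 4) rfl N12491 D15579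
theorem N15550 : nd 15550 = n15580 := ndS (p := 12492) (l := 3) rfl N12492 D15580
theorem N15551 : nd 15551 = n15581 := ndS (p := 12493) (l := 3) rfl N12493 D15581
theorem N15552 : nd 15552 = n15582 := ndS (p := 12494) (l := 2) rfl N12494 D15582
theorem N15553 : nd 15553 = n15583 := ndS (p := 12496) (l := 4) rfl N12496 D15583
theorem N15554 : nd 15554 = n15584 := ndS (p := 12497) (l := 5) rfl N12497 D15584
theorem N15555 : nd 15555 = n15585 := ndS (p := 12499) (l := 1) rfl N12499 D15585
theorem N15556 : nd 15556 = n15586 := ndS (p := 12500) (l := 1) rfl N12500 D15586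
theorem N15557 : nd 15557 = n15587 := ndS (p := 12500) (l := 4) rfl N12500 D15587
theorem N15558 : nd 15558 = n15588 := ndS (p := 12501) (l := 5) rfl N12501 D15588
theorem N15559 : nd 15559 = n15589 := ndS (p := 12503) (l := 4) rfl N12503 D15589
theorem N15560 : nd 15560 = n15590 := ndS (p := 12504) (l := 3) rfl N12504 D15590
theorem N15561 : nd 15561 = n15591 := ndS (p := 12504) (l := 5) rfl N12504 D15591
theorem N15562 : nd 15562 = n15592 := ndS (p := 12506) (l := 4) rfl N12506 D15592
theorem N15563 : nd 15563 = n15593 := ndS (p := 12507) (l := 4) rfl N12507 D15593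
theorem N15564 : nd 15564 = n15594 := ndS (p := 12508) (l := 3) rfl N12508 D15594
theorem N15565 : nd 15565 = n15595 := ndS (p := 12509) (l := 4) rfl N12509 D15595
theorem N15566 : nd 15566 = n15596 := ndS (p := 12510) (l := 3) rfl N12510 D15596
theorem N15567 : nd 15567 = n15597 := ndS (p := 12510) (l := 5) rfl N12510 D15597
theorem N15568 : nd 15568 = n15598 := ndS (p := 12511) (l := 2) rfl N12511 D15598
theorem N15569 : nd 15569 = n15599 := ndS (p := 12512) (l := 2) rfl N12512 D15599
theorem N15570 : nd 15570 = n15600 := ndS (p := 12512) (l := 5) rfl N12512 D15600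
theorem N15571 : nd 15571 = n15601 := ndS (p := 12514) (l := 1) rfl N12514 D15601
theorem N15572 : nd 15572 = n15602 := ndS (p := 12514) (l := 3) rfl N12514 D15602
theorem N15573 : nd 15573 = n15603 := ndS (p := 12515) (l := 1) rfl N12515 D15603
theorem N15574 : nd 15574 = n15605 := ndS (p := 12515) (l := 5) rfl N12515 D15605
theorem N15575 : nd 15575 = n15606 := ndS (p := 12516) (l := 4) rfl N12516 D15606
theorem N15576 : nd 15576 = n15607 := ndS (p := 12517) (l := 2) rfl N12517 D15607
theorem N15577 : nd 15577 = n15608 := ndS (p := 12517) (l := 4) rfl N12517 D15608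
theorem N15578 : nd 15578 = n15609 := ndS (p := 12522) (l := 4) rfl N12522 D15609
theorem N15579 : nd 15579 = n15610 := ndS (p := 12523) (l := 3) rfl N12523 D15610
theorem N15580 : nd 15580 = n15611 := ndS (p := 12524) (l := 3) rfl N12524 D15611
theorem N15581 : nd 15581 = n15612 := ndS (p := 12524) (l := 5) rfl N12524 D15612
theorem N15582 : nd 15582 = n15613 := ndS (p := 12525) (l := 2) rfl N12525 D15613
theorem N15583 : nd 15583 = n15614 := ndS (p := 12525) (l := 5) rfl N12525 D15614
theorem N15584 : nd 15584 = n15615 := ndS (p := 12527) (l := 1) rfl N12527 D15615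
theorem N15585 : nd 15585 = n15616 := ndS (p := 12529) (l := 3) rfl N12529 D15616
theorem N15586 : nd 15586 = n15617 := ndS (p := 12529) (l := 5) rfl N12529 D15617
theorem N15587 : nd 15587 = n15618 := ndS (p := 12530) (l := 2) rfl N12530 D15618
theorem N15588 : nd 15588 = n15619 := ndS (p := 12531) (l := 4) rfl N12531 D15619
theorem N15589 : nd 15589 = n15620 := ndS (p := 12532) (l := 3) rfl N12532 D15620
theorem N15590 : nd 15590 = n15621 := ndS (p := 12533) (l := 2) rfl N12533 D15621
theorem N15591 : nd 15591 = n15622 := ndS (p := 12533) (l := 5) rfl N12533 D15622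
theorem N15592 : nd 15592 = n15623 := ndS (p := 12534) (l := 4) rfl N12534 D15623
theorem N15593 : nd 15593 = n15624 := ndS (p := 12535) (l := 1) rfl N12535 D15624
theorem N15594 : nd 15594 = n15625 := ndS (p := 12535) (l := 3) rfl N12535 D15625
theorem N15595 : nd 15595 = n15626 := ndS (p := 12535) (l := 5) rfl N12535 D15626
theorem N15596 : nd 15596 = n15627 := ndS (p := 12538) (l := 0) rfl N12538 D15627
theorem N15597 : nd 15597 = n15628 := ndS (p := 12538) (l := 4) rfl N12538 D15628
theorem N15598 : nd 15598 = n15629 := ndS (p := 12542) (l := 3) rfl N12542 D15629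
theorem N15599 : nd 15599 = n15630 := ndS (p := 12547) (l := 4) rfl N12547 D15630
theorem N15600 : nd 15600 = n15631 := ndS (p := 12548) (l := 1) rfl N12548 D15631
theorem N15601 : nd 15601 = n15632 := ndS (p := 12548) (l := 4) rfl N12548 D15632
theorem N15602 : nd 15602 = n15633 := ndS (p := 12549) (l := 5) rfl N12549 D15633
theorem N15603 : nd 15603 = n15634 := ndS (p := 12550) (l := 0) rfl N12550 D15634
theorem N15604 : nd 15604 = n15635 := ndS (p := 12550) (l := 4) rfl N12550 D15635
theorem N15605 : nd 15605 = n15636 := ndS (p := 12551) (l := 3) rfl N12551 D15636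
theorem N15606 : nd 15606 = n15637 := ndS (p := 12551) (l := 5) rfl N12551 D15637
theorem N15607 : nd 15607 = n15638 := ndS (p := 12555) (l := 1) rfl N12555 D15638
theorem N15608 : nd 15608 = n15639 := ndS (p := 12556) (l := 0) rfl N12556 D15639
theorem N15609 : nd 15609 = n15640 := ndS (p := 12557) (l := 3) rfl N12557 D15640
theorem N15610 : nd 15610 = n15641 := ndS (p := 12558) (l := 4) rfl N12558 D15641
theorem N15611 : nd 15611 = n15642 := ndS (p := 12560) (l := 0) rfl N12560 D15642
theorem N15612 : nd 15612 = n15643 := ndS (p := 12562) (l := 2) rfl N12562 D15643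
theorem N15613 : nd 15613 = n15644 := ndS (p := 12562) (l := 4) rfl N12562 D15644
theorem N15614 : nd 15614 = n15645 := ndS (p := 12565) (l := 2) rfl N12565 D15645
theorem N15615 : nd 15615 = n15646 := ndS (p := 12565) (l := 4) rfl N12565 D15646
theorem N15616 : nd 15616 = n15647 := ndS (p := 12566) (l := 3) rfl N12566 D15647
theorem N15617 : nd 15617 = n15648 := ndS (p := 12566) (l := 4) rfl N12566 D15648
theorem N15618 : nd 15618 = n15649 := ndS (p := 12568) (l := 1) rfl N12568 D15649
theorem N15619 : nd 15619 = n15650 := ndS (p := 12568) (l := 3) rfl N12568 D15650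
theorem N15620 : nd 15620 = n15651 := ndS (p := 12569) (l := 0) rfl N12569 D15651
theorem N15621 : nd 15621 = n15652 := ndS (p := 12569) (l := 3) rfl N12569 D15652
theorem N15622 : nd 15622 = n15653 := ndS (p := 12570) (l := 2) rfl N12570 D15653
theorem N15623 : nd 15623 = n15654 := ndS (p := 12570) (l := 4) rfl N12570 D15654
theorem N15624 : nd 15624 = n15655 := ndS (p := 12573) (l := 5) rfl N12573 D15655
theorem N15625 : nd 15625 = n15656 := ndS (p := 12574) (l := 4) rfl N12574 D15656
theorem N15626 : nd 15626 = n15657 := ndS (p := 12575) (l := 4) rfl N12575 D15657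
theorem N15627 : nd 15627 = n15658 := ndS (p := 12576) (l := 5) rfl N12576 D15658
theorem N15628 : nd 15628 = n15659 := ndS (p := 12578) (l := 3) rfl N12578 D15659
theorem N15629 : nd 15629 = n15660 := ndS (p := 12581) (l := 3) rfl N12581 D15660
theorem N15630 : nd 15630 = n15661 := ndS (p := 12583) (l := 2) rfl N12583 D15661
theorem N15631 : nd 15631 = n15662 := ndS (p := 12584) (l := 3) rfl N12584 D15662
theorem N15632 : nd 15632 = n15663 := ndS (p := 12585) (l := 2) rfl N12585 D15663
theorem N15633 : nd 15633 = n15664 := ndS (p := 12587) (l := 1) rfl N12587 D15664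
theorem N15634 : nd 15634 = n15665 := ndS (p := 12588) (l := 5) rfl N12588 D15665
theorem N15635 : nd 15635 = n15666 := ndS (p := 12589) (l := 0) rfl N12589 D15666
theorem N15636 : nd 15636 = n15667 := ndS (p := 12589) (l := 4) rfl N12589 D15667
theorem N15637 : nd 15637 = n15668 := ndS (p := 12590) (l := 3) rfl N12590 D15668
theorem N15638 : nd 15638 = n15669 := ndS (p := 12590) (l := 5) rfl N12590 D15669
theorem N15639 : nd 15639 = n15670 := ndS (p := 12591) (l := 4) rfl N12591 D15670
theorem N15640 : nd 15640 = n15671 := ndS (p := 12592) (l := 3) rfl N12592 D15671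
theorem N15641 : nd 15641 = n15672 := ndS (p := 12594) (l := 5) rfl N12594 D15672
theorem N15642 : nd 15642 = n15673 := ndS (p := 12595) (l := 4) rfl N12595 D15673
theorem N15643 : nd 15643 = n15674 := ndS (p := 12596) (l := 3) rfl N12596 D15674
theorem N15644 : nd 15644 = n15675 := ndS (p := 12596) (l := 5) rfl N12596 D15675
theorem N15645 : nd 15645 = n15676 := ndS (p := 12598) (l := 3) rfl N12598 D15676
theorem N15646 : nd 15646 = n15677 := ndS (p := 12598) (l := 5) rfl N12598 D15677
theorem N15647 : nd 15647 = n15678 := ndS (p := 12599) (l := 5) rfl N12599 D15678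
theorem N15648 : nd 15648 = n15679 := ndS (p := 12601) (l := 3) rfl N12601 D15679
theorem N15649 : nd 15649 = n15680 := ndS (p := 12603) (l := 1) rfl N12603 D15680
theorem N15650 : nd 15650 = n15681 := ndS (p := 12605) (l := 1) rfl N12605 D15681
theorem N15651 : nd 15651 = n15682 := ndS (p := 12605) (l := 3) rfl N12605 D15682
theorem N15652 : nd 15652 = n15683 := ndS (p := 12605) (l := 4) rfl N12605 D15683
theorem N15653 : nd 15653 = n15684 := ndS (p := 12607) (l := 2) rfl N12607 D15684
theorem N15654 : nd 15654 = n15685 := ndS (p := 12607) (l := 4) rfl N12607 D15685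
theorem N15655 : nd 15655 = n15686 := ndS (p := 12609) (l := 5) rfl N12609 D15686
theorem N15656 : nd 15656 = n15687 := ndS (p := 12610) (l := 5) rfl N12610 D15687
theorem N15657 : nd 15657 = n15688 := ndS (p := 12612) (l := 0) rfl N12612 D15688
theorem N15658 : nd 15658 = n15689 := ndS (p := 12612) (l := 4) rfl N12612 D15689
theorem N15659 : nd 15659 = n15690 := ndS (p := 12613) (l := 3) rfl N12613 D15690
theorem N15660 : nd 15660 = n15691 := ndS (p := 12613) (l := 5) rfl N12613 D15691
theorem N15661 : nd 15661 = n15692 := ndS (p := 12615) (l := 3) rfl N12615 D15692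
theorem N15662 : nd 15662 = n15693 := ndS (p := 12615) (l := 4) rfl N12615 D15693
theorem N15663 : nd 15663 = n15694 := ndS (p := 12616) (l := 2) rfl N12616 D15694
theorem N15664 : nd 15664 = n15695 := ndS (p := 12617) (l := 3) rfl N12617 D15695
theorem N15665 : nd 15665 = n15696 := ndS (p := 12618) (l := 3) rfl N12618 D15696
theorem N15666 : nd 15666 = n15697 := ndS (p := 12619) (l := 2) rfl N12619 D15697
theorem N15667 : nd 15667 = n15698 := ndS (p := 12619) (l := 5) rfl N12619 D15698
theorem N15668 : nd 15668 = n15699 := ndS (p := 12622) (l := 2) rfl N12622 D15699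
theorem N15669 : nd 15669 = n15700 := ndS (p := 12622) (l := 5) rfl N12622 D15700
theorem N15670 : nd 15670 = n15701 := ndS (p := 12624) (l := 2) rfl N12624 D15701
theorem N15671 : nd 15671 = n15702 := ndS (p := 12624) (l := 5) rfl N12624 D15702
theorem N15672 : nd 15672 = n15703 := ndS (p := 12626) (l := 1) rfl N12626 D15703
theorem N15673 : nd 15673 = n15704 := ndS (p := 12626) (l := 3) rfl N12626 D15704
theorem N15674 : nd 15674 = n15705 := ndS (p := 12626) (l := 5) rfl N12626 D15705
theorem N15675 : nd 15675 = n15706 := ndS (p := 12627) (l := 4) rfl N12627 D15706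
theorem N15676 : nd 15676 = n15707 := ndS (p := 12628) (l := 4) rfl N12628 D15707
theorem N15677 : nd 15677 = n15708 := ndS (p := 12629) (l := 5) rfl N12629 D15708
theorem N15678 : nd 15678 = n15709 := ndS (p := 12630) (l := 2) rfl N12630 D15709
theorem N15679 : nd 15679 = n15710 := ndS (p := 12630) (l := 4) rfl N12630 D15710
theorem N15680 : nd 15680 = n15711 := ndS (p := 12631) (l := 3) rfl N12631 D15711
theorem N15681 : nd 15681 = n15712 := ndS (p := 12631) (l := 5) rfl N12631 D15712
theorem N15682 : nd 15682 = n15713 := ndS (p := 12633) (l := 2) rfl N12633 D15713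
theorem N15683 : nd 15683 = n15714 := ndS (p := 12635) (l := 4) rfl N12635 D15714
theorem N15684 : nd 15684 = n15715 := ndS (p := 12636) (l := 3) rfl N12636 D15715
theorem N15685 : nd 15685 = n15716 := ndS (p := 12637) (l := 2) rfl N12637 D15716
theorem N15686 : nd 15686 = n15717 := ndS (p := 12637) (l := 5) rfl N12637 D15717
theorem N15687 : nd 15687 = n15718 := ndS (p := 12639) (l := 3) rfl N12639 D15718
theorem N15688 : nd 15688 = n15719 := ndS (p := 12639) (l := 5) rfl N12639 D15719
theorem N15689 : nd 15689 = n15720 := ndS (p := 12640) (l := 5) rfl N12640 D15720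
theorem N15690 : nd 15690 = n15721 := ndS (p := 12643) (l := 2) rfl N12643 D15721
theorem N15691 : nd 15691 = n15722 := ndS (p := 12644) (l := 1) rfl N12644 D15722
theorem N15692 : nd 15692 = n15723 := ndS (p := 12645) (l := 0) rfl N12645 D15723
theorem N15693 : nd 15693 = n15724 := ndS (p := 12646) (l := 3) rfl N12646 D15724
theorem N15694 : nd 15694 = n15725 := ndS (p := 12646) (l := 5) rfl N12646 D15725
theorem N15695 : nd 15695 = n15726 := ndS (p := 12647) (l := 4) rfl N12647 D15726
theorem N15696 : nd 15696 = n15727 := ndS (p := 12648) (l := 4) rfl N12648 D15727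
theorem N15697 : nd 15697 = n15728 := ndS (p := 12649) (l := 5) rfl N12649 D15728
theorem N15698 : nd 15698 = n15729 := ndS (p := 12650) (l := 3) rfl N12650 D15729
theorem N15699 : nd 15699 = n15730 := ndS (p := 12651) (l := 3) rfl N12651 D15730
theorem N15700 : nd 15700 = n15731 := ndS (p := 12651) (l := 5) rfl N12651 D15731
theorem N15701 : nd 15701 = n15732 := ndS (p := 12652) (l := 2) rfl N12652 D15732
theorem N15702 : nd 15702 = n15733 := ndS (p := 12652) (l := 4) rfl N12652 D15733
theorem N15703 : nd 15703 = n15734 := ndS (p := 12653) (l := 4) rfl N12653 D15734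
theorem N15704 : nd 15704 = n15735 := ndS (p := 12654) (l := 5) rfl N12654 D15735
theorem N15705 : nd 15705 = n15736 := ndS (p := 12655) (l := 3) rfl N12655 D15736
theorem N15706 : nd 15706 = n15737 := ndS (p := 12658) (l := 1) rfl N12658 D15737
theorem N15707 : nd 15707 = n15738 := ndS (p := 12658) (l := 4) rfl N12658 D15738
theorem N15708 : nd 15708 = n15739 := ndS (p := 12662) (l := 0) rfl N12662 D15739
theorem N15709 : nd 15709 = n15740 := ndS (p := 12662) (l := 4) rfl N12662 D15740
theorem N15710 : nd 15710 = n15741 := ndS (p := 12663) (l := 3) rfl N12663 D15741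
theorem N15711 : nd 15711 = n15742 := ndS (p := 12668) (l := 0) rfl N12668 D15742
theorem N15712 : nd 15712 = n15743 := ndS (p := 12668) (l := 3) rfl N12668 D15743
theorem N15713 : nd 15713 = n15744 := ndS (p := 12668) (l := 5) rfl N12668 D15744
theorem N15714 : nd 15714 = n15745 := ndS (p := 12669) (l := 2) rfl N12669 D15745
theorem N15715 : nd 15715 = n15746 := ndS (p := 12669) (l := 4) rfl N12669 D15746
theorem N15716 : nd 15716 = n15747 := ndS (p := 12669) (l := 5) rfl N12669 D15747
theorem N15717 : nd 15717 = n15748 := ndS (p := 12670) (l := 4) rfl N12670 D15748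
theorem N15718 : nd 15718 = n15749 := ndS (p := 12672) (l := 3) rfl N12672 D15749
theorem N15719 : nd 15719 = n15750 := ndS (p := 12672) (l := 5) rfl N12672 D15750
theorem N15720 : nd 15720 = n15751 := ndS (p := 12673) (l := 2) rfl N12673 D15751
theorem N15721 : nd 15721 = n15752 := ndS (p := 12673) (l := 4) rfl N12673 D15752
theorem N15722 : nd 15722 = n15753 := ndS (p := 12674) (l := 4) rfl N12674 D15753
theorem N15723 : nd 15723 = n15754 := ndS (p := 12675) (l := 5) rfl N12675 D15754
theorem N15724 : nd 15724 = n15755 := ndS (p := 12676) (l := 3) rfl N12676 D15755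
theorem N15725 : nd 15725 = n15756 := ndS (p := 12677) (l := 0) rfl N12677 D15756
theorem N15726 : nd 15726 = n15757 := ndS (p := 12677) (l := 4) rfl N12677 D15757
theorem N15727 : nd 15727 = n15758 := ndS (p := 12678) (l := 3) rfl N12678 D15758
theorem N15728 : nd 15728 = n15759 := ndS (p := 12678) (l := 5) rfl N12678 D15759
theorem N15729 : nd 15729 = n15760 := ndS (p := 12679) (l := 4) rfl N12679 D15760
theorem N15730 : nd 15730 = n15761 := ndS (p := 12681) (l := 3) rfl N12681 D15761
theorem N15731 : nd 15731 = n15762 := ndS (p := 12681) (l := 5) rfl N12681 D15762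
theorem N15732 : nd 15732 = n15763 := ndS (p := 12682) (l := 2) rfl N12682 D15763
theorem N15733 : nd 15733 = n15764 := ndS (p := 12682) (l := 4) rfl N12682 D15764
theorem N15734 : nd 15734 = n15765 := ndS (p := 12684) (l := 5) rfl N12684 D15765
theorem N15735 : nd 15735 = n15766 := ndS (p := 12685) (l := 3) rfl N12685 D15766
theorem N15736 : nd 15736 = n15767 := ndS (p := 12690) (l := 0) rfl N12690 D15767
theorem N15737 : nd 15737 = n15768 := ndS (p := 12690) (l := 4) rfl N12690 D15768
theorem N15738 : nd 15738 = n15769 := ndS (p := 12691) (l := 3) rfl N12691 D15769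
theorem N15739 : nd 15739 = n15770 := ndS (p := 12691) (l := 5) rfl N12691 D15770
theorem N15740 : nd 15740 = n15771 := ndS (p := 12694) (l := 1) rfl N12694 D15771
theorem N15741 : nd 15741 = n15772 := ndS (p := 12699) (l := 0) rfl N12699 D15772
theorem N15742 : nd 15742 = n15773 := ndS (p := 12699) (l := 3) rfl N12699 D15773
theorem N15743 : nd 15743 = n15774 := ndS (p := 12699) (l := 5) rfl N12699 D15774
theorem N15744 : nd 15744 = n15775 := ndS (p := 12700) (l := 4) rfl N12700 D15775
theorem N15745 : nd 15745 = n15776 := ndS (p := 12701) (l := 4) rfl N12701 D15776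
theorem N15746 : nd 15746 = n15777 := ndS (p := 12703) (l := 3) rfl N12703 D15777
theorem N15747 : nd 15747 = n15778 := ndS (p := 12704) (l := 2) rfl N12704 D15778
theorem N15748 : nd 15748 = n15779 := ndS (p := 12704) (l := 4) rfl N12704 D15779
theorem N15749 : nd 15749 = n15780 := ndS (p := 12705) (l := 1) rfl N12705 D15780
theorem N15750 : nd 15750 = n15781 := ndS (p := 12705) (l := 4) rfl N12705 D15781
theorem N15751 : nd 15751 = n15782 := ndS (p := 12706) (l := 5) rfl N12706 D15782
theorem N15752 : nd 15752 = n15783 := ndS (p := 12707) (l := 4) rfl N12707 D15783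
theorem N15753 : nd 15753 = n15784 := ndS (p := 12709) (l := 0) rfl N12709 D15784
theorem N15754 : nd 15754 = n15785 := ndS (p := 12709) (l := 3) rfl N12709 D15785
theorem N15755 : nd 15755 = n15786 := ndS (p := 12710) (l := 4) rfl N12710 D15786
theorem N15756 : nd 15756 = n15787 := ndS (p := 12714) (l := 4) rfl N12714 D15787
theorem N15757 : nd 15757 = n15788 := ndS (p := 12715) (l := 1) rfl N12715 D15788
theorem N15758 : nd 15758 = n15789 := ndS (p := 12715) (l := 4) rfl N12715 D15789
theorem N15759 : nd 15759 = n15790 := ndS (p := 12716) (l := 5) rfl N12716 D15790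
theorem N15760 : nd 15760 = n15791 := ndS (p := 12717) (l := 4) rfl N12717 D15791
theorem N15761 : nd 15761 = n15792 := ndS (p := 12723) (l := 2) rfl N12723 D15792
theorem N15762 : nd 15762 = n15793 := ndS (p := 12724) (l := 1) rfl N12724 D15793
theorem N15763 : nd 15763 = n15794 := ndS (p := 12725) (l := 5) rfl N12725 D15794
theorem N15764 : nd 15764 = n15795 := ndS (p := 12726) (l := 5) rfl N12726 D15795
theorem N15765 : nd 15765 = n15796 := ndS (p := 12728) (l := 3) rfl N12728 D15796
theorem N15766 : nd 15766 = n15797 := ndS (p := 12732) (l := 2) rfl N12732 D15797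
theorem N15767 : nd 15767 = n15798 := ndS (p := 12736) (l := 4) rfl N12736 D15798
theorem N15768 : nd 15768 = n15799 := ndS (p := 12738) (l := 4) rfl N12738 D15799
theorem N15769 : nd 15769 = n15800 := ndS (p := 12739) (l := 3) rfl N12739 D15800
theorem N15770 : nd 15770 = n15801 := ndS (p := 12739) (l := 5) rfl N12739 D15801
theorem N15771 : nd 15771 = n15802 := ndS (p := 12741) (l := 2) rfl N12741 D15802
theorem N15772 : nd 15772 = n15803 := ndS (p := 12741) (l := 5) rfl N12741 D15803
theorem N15773 : nd 15773 = n15804 := ndS (p := 12742) (l := 4) rfl N12742 D15804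
theorem N15774 : nd 15774 = n15805 := ndS (p := 12743) (l := 3) rfl N12743 D15805
theorem N15775 : nd 15775 = n15806 := ndS (p := 12744) (l := 1) rfl N12744 D15806
theorem N15776 : nd 15776 = n15807 := ndS (p := 12744) (l := 3) rfl N12744 D15807
theorem N15777 : nd 15777 = n15808 := ndS (p := 12744) (l := 5) rfl N12744 D15808
theorem N15778 : nd 15778 = n15809 := ndS (p := 12748) (l := 2) rfl N12748 D15809
theorem N15779 : nd 15779 = n15810 := ndS (p := 12748) (l := 5) rfl N12748 D15810
theorem N15780 : nd 15780 = n15811 := ndS (p := 12750) (l := 1) rfl N12750 D15811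
theorem N15781 : nd 15781 = n15812 := ndS (p := 12751) (l := 4) rfl N12751 D15812
theorem N15782 : nd 15782 = n15813 := ndS (p := 12752) (l := 1) rfl N12752 D15813
theorem N15783 : nd 15783 = n15814 := ndS (p := 12753) (l := 4) rfl N12753 D15814
theorem N15784 : nd 15784 = n15815 := ndS (p := 12754) (l := 0) rfl N12754 D15815
theorem N15785 : nd 15785 = n15816 := ndS (p := 12754) (l := 5) rfl N12754 D15816
theorem N15786 : nd 15786 = n15817 := ndS (p := 12756) (l := 4) rfl N12756 D15817
theorem N15787 : nd 15787 = n15818 := ndS (p := 12758) (l := 5) rfl N12758 D15818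
theorem N15788 : nd 15788 = n15819 := ndS (p := 12759) (l := 2) rfl N12759 D15819
theorem N15789 : nd 15789 = n15820 := ndS (p := 12759) (l := 5) rfl N12759 D15820
theorem N15790 : nd 15790 = n15821 := ndS (p := 12760) (l := 4) rfl N12760 D15821
theorem N15791 : nd 15791 = n15822 := ndS (p := 12761) (l := 3) rfl N12761 D15822
theorem N15792 : nd 15792 = n15823 := ndS (p := 12763) (l := 2) rfl N12763 D15823
theorem N15793 : nd 15793 = n15824 := ndS (p := 12764) (l := 1) rfl N12764 D15824
theorem N15794 : nd 15794 = n15825 := ndS (p := 12765) (l := 5) rfl N12765 D15825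
theorem N15795 : nd 15795 = n15826 := ndS (p := 12766) (l := 2) rfl N12766 D15826
theorem N15796 : nd 15796 = n15827 := ndS (p := 12766) (l := 5) rfl N12766 D15827
theorem N15797 : nd 15797 = n15828 := ndS (p := 12768) (l := 2) rfl N12768 D15828
theorem N15798 : nd 15798 = n15829 := ndS (p := 12768) (l := 5) rfl N12768 D15829
theorem N15799 : nd 15799 = n15830 := ndS (p := 12769) (l := 4) rfl N12769 D15830
theorem N15800 : nd 15800 = n15831 := ndS (p := 12770) (l := 3) rfl N12770 D15831
theorem N15801 : nd 15801 = n15832 := ndS (p := 12771) (l := 1) rfl N12771 D15832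
theorem N15802 : nd 15802 = n15833 := ndS (p := 12771) (l := 3) rfl N12771 D15833
theorem N15803 : nd 15803 = n15834 := ndS (p := 12771) (l := 5) rfl N12771 D15834
theorem N15804 : nd 15804 = n15835 := ndS (p := 12772) (l := 4) rfl N12772 D15835
theorem N15805 : nd 15805 = n15836 := ndS (p := 12773) (l := 3) rfl N12773 D15836
theorem N15806 : nd 15806 = n15837 := ndS (p := 12774) (l := 2) rfl N12774 D15837
theorem N15807 : nd 15807 = n15838 := ndS (p := 12775) (l := 1) rfl N12775 D15838
theorem N15808 : nd 15808 = n15839 := ndS (p := 12775) (l := 3) rfl N12775 D15839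
theorem N15809 : nd 15809 = n15840 := ndS (p := 12776) (l := 0) rfl N12776 D15840
theorem N15810 : nd 15810 = n15841 := ndS (p := 12776) (l := 3) rfl N12776 D15841
theorem N15811 : nd 15811 = n15842 := ndS (p := 12777) (l := 4) rfl N12777 D15842
theorem N15812 : nd 15812 = n15843 := ndS (p := 12778) (l := 2) rfl N12778 D15843
theorem N15813 : nd 15813 = n15844 := ndS (p := 12780) (l := 3) rfl N12780 D15844
theorem N15814 : nd 15814 = n15845 := ndS (p := 12781) (l := 0) rfl N12781 D15845
theorem N15815 : nd 15815 = n15846 := ndS (p := 12783) (l := 2) rfl N12783 D15846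
theorem N15816 : nd 15816 = n15847 := ndS (p := 12784) (l := 2) rfl N12784 D15847
theorem N15817 : nd 15817 = n15848 := ndS (p := 12784) (l := 5) rfl N12784 D15848
theorem N15818 : nd 15818 = n15849 := ndS (p := 12786) (l := 1) rfl N12786 D15849
theorem N15819 : nd 15819 = n15850 := ndS (p := 12788) (l := 0) rfl N12788 D15850
theorem N15820 : nd 15820 = n15851 := ndS (p := 12788) (l := 3) rfl N12788 D15851
theorem N15821 : nd 15821 = n15852 := ndS (p := 12789) (l := 4) rfl N12789 D15852
theorem N15822 : nd 15822 = n15853 := ndS (p := 12790) (l := 2) rfl N12790 D15853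
theorem N15823 : nd 15823 = n15854 := ndS (p := 12790) (l := 5) rfl N12790 D15854
theorem N15824 : nd 15824 = n15855 := ndS (p := 12792) (l := 1) rfl N12792 D15855
theorem N15825 : nd 15825 = n15856 := ndS (p := 12792) (l := 3) rfl N12792 D15856
theorem N15826 : nd 15826 = n15857 := ndS (p := 12792) (l := 5) rfl N12792 D15857
theorem N15827 : nd 15827 = n15858 := ndS (p := 12794) (l := 0) rfl N12794 D15858
theorem N15828 : nd 15828 = n15859 := ndS (p := 12794) (l := 3) rfl N12794 D15859
theorem N15829 : nd 15829 = n15860 := ndS (p := 12794) (l := 5) rfl N12794 D15860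
theorem N15830 : nd 15830 = n15861 := ndS (p := 12795) (l := 4) rfl N12795 D15861
theorem N15831 : nd 15831 = n15862 := ndS (p := 12797) (l := 3) rfl N12797 D15862
theorem N15832 : nd 15832 = n15863 := ndS (p := 12798) (l := 2) rfl N12798 D15863
theorem N15833 : nd 15833 = n15864 := ndS (p := 12798) (l := 4) rfl N12798 D15864
theorem N15834 : nd 15834 = n15865 := ndS (p := 12799) (l := 1) rfl N12799 D15865
theorem N15835 : nd 15835 = n15866 := ndS (p := 12799) (l := 4) rfl N12799 D15866
theorem N15836 : nd 15836 = n15867 := ndS (p := 12800) (l := 5) rfl N12800 D15867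
theorem N15837 : nd 15837 = n15868 := ndS (p := 12801) (l := 5) rfl N12801 D15868
theorem N15838 : nd 15838 = n15869 := ndS (p := 12802) (l := 4) rfl N12802 D15869
theorem N15839 : nd 15839 = n15870 := ndS (p := 12805) (l := 4) rfl N12805 D15870
theorem N15840 : nd 15840 = n15871 := ndS (p := 12806) (l := 5) rfl N12806 D15871
theorem N15841 : nd 15841 = n15872 := ndS (p := 12807) (l := 4) rfl N12807 D15872
theorem N15842 : nd 15842 = n15873 := ndS (p := 12808) (l := 3) rfl N12808 D15873
theorem N15843 : nd 15843 = n15874 := ndS (p := 12809) (l := 1) rfl N12809 D15874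
theorem N15844 : nd 15844 = n15875 := ndS (p := 12809) (l := 4) rfl N12809 D15875
theorem N15845 : nd 15845 = n15876 := ndS (p := 12812) (l := 4) rfl N12812 D15876
theorem N15846 : nd 15846 = n15877 := ndS (p := 12813) (l := 3) rfl N12813 D15877
theorem N15847 : nd 15847 = n15878 := ndS (p := 12814) (l := 3) rfl N12814 D15878
theorem N15848 : nd 15848 = n15879 := ndS (p := 12814) (l := 5) rfl N12814 D15879
theorem N15849 : nd 15849 = n15880 := ndS (p := 12816) (l := 2) rfl N12816 D15880
theorem N15850 : nd 15850 = n15881 := ndS (p := 12816) (l := 5) rfl N12816 D15881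
theorem N15851 : nd 15851 = n15882 := ndS (p := 12818) (l := 2) rfl N12818 D15882
theorem N15852 : nd 15852 = n15883 := ndS (p := 12818) (l := 5) rfl N12818 D15883
theorem N15853 : nd 15853 = n15884 := ndS (p := 12820) (l := 1) rfl N12820 D15884
theorem N15854 : nd 15854 = n15885 := ndS (p := 12821) (l := 4) rfl N12821 D15885
theorem N15855 : nd 15855 = n15886 := ndS (p := 12823) (l := 2) rfl N12823 D15886
theorem N15856 : nd 15856 = n15887 := ndS (p := 12823) (l := 5) rfl N12823 D15887
theorem N15857 : nd 15857 = n15888 := ndS (p := 12825) (l := 1) rfl N12825 D15888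
theorem N15858 : nd 15858 = n15889 := ndS (p := 12825) (l := 3) rfl N12825 D15889
theorem N15859 : nd 15859 = n15890 := ndS (p := 12825) (l := 5) rfl N12825 D15890
theorem N15860 : nd 15860 = n15891 := ndS (p := 12826) (l := 4) rfl N12826 D15891
theorem N15861 : nd 15861 = n15892 := ndS (p := 12827) (l := 0) rfl N12827 D15892
theorem N15862 : nd 15862 = n15893 := ndS (p := 12827) (l := 3) rfl N12827 D15893
theorem N15863 : nd 15863 = n15894 := ndS (p := 12827) (l := 5) rfl N12827 D15894
theorem N15864 : nd 15864 = n15895 := ndS (p := 12828) (l := 4) rfl N12828 D15895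
theorem N15865 : nd 15865 = n15896 := ndS (p := 12829) (l := 4) rfl N12829 D15896
theorem N15866 : nd 15866 = n15897 := ndS (p := 12831) (l := 5) rfl N12831 D15897
theorem N15867 : nd 15867 = n15898 := ndS (p := 12832) (l := 2) rfl N12832 D15898
theorem N15868 : nd 15868 = n15899 := ndS (p := 12832) (l := 5) rfl N12832 D15899
theorem N15869 : nd 15869 = n15900 := ndS (p := 12834) (l := 1) rfl N12834 D15900
theorem N15870 : nd 15870 = n15901 := ndS (p := 12834) (l := 3) rfl N12834 D15901
theorem N15871 : nd 15871 = n15902 := ndS (p := 12834) (l := 5) rfl N12834 D15902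
theorem N15872 : nd 15872 = n15903 := ndS (p := 12835) (l := 4) rfl N12835 D15903
theorem N15873 : nd 15873 = n15904 := ndS (p := 12836) (l := 3) rfl N12836 D15904
theorem N15874 : nd 15874 = n15905 := ndS (p := 12837) (l := 2) rfl N12837 D15905
theorem N15875 : nd 15875 = n15906 := ndS (p := 12838) (l := 0) rfl N12838 D15906
theorem N15876 : nd 15876 = n15907 := ndS (p := 12839) (l := 3) rfl N12839 D15907
theorem N15877 : nd 15877 = n15908 := ndS (p := 12840) (l := 2) rfl N12840 D15908
theorem N15878 : nd 15878 = n15909 := ndS (p := 12846) (l := 5) rfl N12846 D15909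
theorem N15879 : nd 15879 = n15910 := ndS (p := 12847) (l := 4) rfl N12847 D15910
theorem N15880 : nd 15880 = n15911 := ndS (p := 12848) (l := 5) rfl N12848 D15911
theorem N15881 : nd 15881 = n15912 := ndS (p := 12849) (l := 4) rfl N12849 D15912
theorem N15882 : nd 15882 = n15913 := ndS (p := 12850) (l := 5) rfl N12850 D15913
theorem N15883 : nd 15883 = n15914 := ndS (p := 12852) (l := 4) rfl N12852 D15914
theorem N15884 : nd 15884 = n15915 := ndS (p := 12855) (l := 3) rfl N12855 D15915
theorem N15885 : nd 15885 = n15916 := ndS (p := 12856) (l := 2) rfl N12856 D15916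
theorem N15886 : nd 15886 = n15917 := ndS (p := 12858) (l := 3) rfl N12858 D15917
theorem N15887 : nd 15887 = n15918 := ndS (p := 12858) (l := 5) rfl N12858 D15918
theorem N15888 : nd 15888 = n15919 := ndS (p := 12859) (l := 2) rfl N12859 D15919
theorem N15889 : nd 15889 = n15920 := ndS (p := 12859) (l := 4) rfl N12859 D15920
theorem N15890 : nd 15890 = n15921 := ndS (p := 12860) (l := 4) rfl N12860 D15921
theorem N15891 : nd 15891 = n15922 := ndS (p := 12863) (l := 2) rfl N12863 D15922
theorem N15892 : nd 15892 = n15923 := ndS (p := 12873) (l := 2) rfl N12873 D15923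
theorem N15893 : nd 15893 = n15924 := ndS (p := 12882) (l := 2) rfl N12882 D15924
theorem N15894 : nd 15894 = n15925 := ndS (p := 12882) (l := 5) rfl N12882 D15925
theorem N15895 : nd 15895 = n15926 := ndS (p := 12885) (l := 4) rfl N12885 D15926
theorem N15896 : nd 15896 = n15927 := ndS (p := 12886) (l := 4) rfl N12886 D15927
theorem N15897 : nd 15897 = n15928 := ndS (p := 12892) (l := 4) rfl N12892 D15928
theorem N15898 : nd 15898 = n15929 := ndS (p := 12893) (l := 1) rfl N12893 D15929
theorem N15899 : nd 15899 = n15930 := ndS (p := 12893) (l := 3) rfl N12893 D15930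
theorem N15900 : nd 15900 = n15931 := ndS (p := 12893) (l := 5) rfl N12893 D15931
theorem N15901 : nd 15901 = n15932 := ndS (p := 12894) (l := 4) rfl N12894 D15932
theorem N15902 : nd 15902 = n15933 := ndS (p := 12895) (l := 0) rfl N12895 D15933
theorem N15903 : nd 15903 = n15934 := ndS (p := 12897) (l := 3) rfl N12897 D15934
theorem N15904 : nd 15904 = n15935 := ndS (p := 12897) (l := 5) rfl N12897 D15935
theorem N15905 : nd 15905 = n15936 := ndS (p := 12898) (l := 2) rfl N12898 D15936
theorem N15906 : nd 15906 = n15937 := ndS (p := 12898) (l := 4) rfl N12898 D15937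
theorem N15907 : nd 15907 = n15938 := ndS (p := 12898) (l := 5) rfl N12898 D15938
theorem N15908 : nd 15908 = n15939 := ndS (p := 12900) (l := 3) rfl N12900 D15939
theorem N15909 : nd 15909 = n15940 := ndS (p := 12900) (l := 5) rfl N12900 D15940
theorem N15910 : nd 15910 = n15941 := ndS (p := 12903) (l := 0) rfl N12903 D15941
theorem N15911 : nd 15911 = n15942 := ndS (p := 12904) (l := 3) rfl N12904 D15942
theorem N15912 : nd 15912 = n15943 := ndS (p := 12905) (l := 2) rfl N12905 D15943
theorem N15913 : nd 15913 = n15944 := ndS (p := 12906) (l := 5) rfl N12906 D15944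
theorem N15914 : nd 15914 = n15945 := ndS (p := 12908) (l := 2) rfl N12908 D15945
theorem N15915 : nd 15915 = n15946 := ndS (p := 12909) (l := 1) rfl N12909 D15946
theorem N15916 : nd 15916 = n15947 := ndS (p := 12910) (l := 1) rfl N12910 D15947
theorem N15917 : nd 15917 = n15948 := ndS (p := 12910) (l := 3) rfl N12910 D15948
theorem N15918 : nd 15918 = n15949 := ndS (p := 12910) (l := 4) rfl N12910 D15949
theorem N15919 : nd 15919 = n15950 := ndS (p := 12910) (l := 5) rfl N12910 D15950
theorem N15920 : nd 15920 = n15951 := ndS (p := 12911) (l := 5) rfl N12911 D15951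
theorem N15921 : nd 15921 = n15952 := ndS (p := 12912) (l := 4) rfl N12912 D15952
theorem N15922 : nd 15922 = n15953 := ndS (p := 12913) (l := 3) rfl N12913 D15953
theorem N15923 : nd 15923 = n15954 := ndS (p := 12913) (l := 4) rfl N12913 D15954
theorem N15924 : nd 15924 = n15955 := ndS (p := 12914) (l := 2) rfl N12914 D15955
theorem N15925 : nd 15925 = n15956 := ndS (p := 12914) (l := 4) rfl N12914 D15956
theorem N15926 : nd 15926 = n15957 := ndS (p := 12915) (l := 3) rfl N12915 D15957
theorem N15927 : nd 15927 = n15958 := ndS (p := 12915) (l := 5) rfl N12915 D15958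
theorem N15928 : nd 15928 = n15959 := ndS (p := 12916) (l := 4) rfl N12916 D15959
theorem N15929 : nd 15929 = n15960 := ndS (p := 12918) (l := 2) rfl N12918 D15960
theorem N15930 : nd 15930 = n15961 := ndS (p := 12918) (l := 5) rfl N12918 D15961
theorem N15931 : nd 15931 = n15962 := ndS (p := 12920) (l := 1) rfl N12920 D15962
theorem N15932 : nd 15932 = n15963 := ndS (p := 12922) (l := 3) rfl N12922 D15963
theorem N15933 : nd 15933 = n15964 := ndS (p := 12922) (l := 5) rfl N12922 D15964
theorem N15934 : nd 15934 = n15965 := ndS (p := 12923) (l := 2) rfl N12923 D15965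
theorem N15935 : nd 15935 = n15966 := ndS (p := 12923) (l := 5) rfl N12923 D15966
theorem N15936 : nd 15936 = n15967 := ndS (p := 12925) (l := 2) rfl N12925 D15967
theorem N15937 : nd 15937 = n15968 := ndS (p := 12925) (l := 5) rfl N12925 D15968
theorem N15938 : nd 15938 = n15969 := ndS (p := 12927) (l := 5) rfl N12927 D15969
theorem N15939 : nd 15939 = n15970 := ndS (p := 12929) (l := 2) rfl N12929 D15970
theorem N15940 : nd 15940 = n15971 := ndS (p := 12930) (l := 1) rfl N12930 D15971
theorem N15941 : nd 15941 = n15972 := ndS (p := 12930) (l := 3) rfl N12930 D15972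
theorem N15942 : nd 15942 = n15973 := ndS (p := 12931) (l := 0) rfl N12931 D15973
theorem N15943 : nd 15943 = n15974 := ndS (p := 12932) (l := 0) rfl N12932 D15974
theorem N15944 : nd 15944 = n15975 := ndS (p := 12932) (l := 3) rfl N12932 D15975
theorem N15945 : nd 15945 = n15976 := ndS (p := 12932) (l := 5) rfl N12932 D15976
theorem N15946 : nd 15946 = n15977 := ndS (p := 12933) (l := 4) rfl N12933 D15977
theorem N15947 : nd 15947 = n15978 := ndS (p := 12935) (l := 3) rfl N12935 D15978
theorem N15948 : nd 15948 = n15979 := ndS (p := 12936) (l := 2) rfl N12936 D15979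
theorem N15949 : nd 15949 = n15980 := ndS (p := 12936) (l := 4) rfl N12936 D15980
theorem N15950 : nd 15950 = n15981 := ndS (p := 12937) (l := 1) rfl N12937 D15981
theorem N15951 : nd 15951 = n15982 := ndS (p := 12937) (l := 4) rfl N12937 D15982
theorem N15952 : nd 15952 = n15983 := ndS (p := 12938) (l := 5) rfl N12938 D15983
theorem N15953 : nd 15953 = n15984 := ndS (p := 12939) (l := 4) rfl N12939 D15984
theorem N15954 : nd 15954 = n15985 := ndS (p := 12940) (l := 3) rfl N12940 D15985
theorem N15955 : nd 15955 = n15986 := ndS (p := 12940) (l := 5) rfl N12940 D15986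
theorem N15956 : nd 15956 = n15987 := ndS (p := 12941) (l := 2) rfl N12941 D15987
theorem N15957 : nd 15957 = n15988 := ndS (p := 12942) (l := 3) rfl N12942 D15988
theorem N15958 : nd 15958 = n15989 := ndS (p := 12942) (l := 5) rfl N12942 D15989
theorem N15959 : nd 15959 = n15990 := ndS (p := 12944) (l := 3) rfl N12944 D15990
theorem N15960 : nd 15960 = n15991 := ndS (p := 12944) (l := 4) rfl N12944 D15991
theorem N15961 : nd 15961 = n15992 := ndS (p := 12945) (l := 4) rfl N12945 D15992
theorem N15962 : nd 15962 = n15993 := ndS (p := 12946) (l := 3) rfl N12946 D15993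
theorem N15963 : nd 15963 = n15994 := ndS (p := 12947) (l := 1) rfl N12947 D15994
theorem N15964 : nd 15964 = n15995 := ndS (p := 12947) (l := 4) rfl N12947 D15995
theorem N15965 : nd 15965 = n15996 := ndS (p := 12948) (l := 3) rfl N12948 D15996
theorem N15966 : nd 15966 = n15997 := ndS (p := 12948) (l := 5) rfl N12948 D15997
theorem N15967 : nd 15967 = n15998 := ndS (p := 12949) (l := 2) rfl N12949 D15998
theorem N15968 : nd 15968 = n15999 := ndS (p := 12950) (l := 2) rfl N12950 D15999
theorem N15969 : nd 15969 = n16000 := ndS (p := 12950) (l := 5) rfl N12950 D16000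
theorem N15970 : nd 15970 = n16001 := ndS (p := 12953) (l := 2) rfl N12953 D16001
theorem N15971 : nd 15971 = n16002 := ndS (p := 12953) (l := 5) rfl N12953 D16002
theorem N15972 : nd 15972 = n16003 := ndS (p := 12955) (l := 1) rfl N12955 D16003
theorem N15973 : nd 15973 = n16004 := ndS (p := 12955) (l := 3) rfl N12955 D16004
theorem N15974 : nd 15974 = n16005 := ndS (p := 12955) (l := 5) rfl N12955 D16005
theorem N15975 : nd 15975 = n16006 := ndS (p := 12956) (l := 4) rfl N12956 D16006
theorem N15976 : nd 15976 = n16007 := ndS (p := 12957) (l := 4) rfl N12957 D16007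
theorem N15977 : nd 15977 = n16008 := ndS (p := 12958) (l := 1) rfl N12958 D16008
theorem N15978 : nd 15978 = n16009 := ndS (p := 12958) (l := 5) rfl N12958 D16009
theorem N15979 : nd 15979 = n16010 := ndS (p := 12959) (l := 4) rfl N12959 D16010
theorem N15980 : nd 15980 = n16011 := ndS (p := 12960) (l := 3) rfl N12960 D16011
theorem N15981 : nd 15981 = n16012 := ndS (p := 12960) (l := 4) rfl N12960 D16012
theorem N15982 : nd 15982 = n16013 := ndS (p := 12961) (l := 4) rfl N12961 D16013
theorem N15983 : nd 15983 = n16014 := ndS (p := 12962) (l := 3) rfl N12962 D16014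
theorem N15984 : nd 15984 = n16015 := ndS (p := 12962) (l := 5) rfl N12962 D16015
theorem N15985 : nd 15985 = n16016 := ndS (p := 12963) (l := 4) rfl N12963 D16016
theorem N15986 : nd 15986 = n16017 := ndS (p := 12964) (l := 3) rfl N12964 D16017
theorem N15987 : nd 15987 = n16018 := ndS (p := 12965) (l := 2) rfl N12965 D16018
theorem N15988 : nd 15988 = n16019 := ndS (p := 12966) (l := 2) rfl N12966 D16019
theorem N15989 : nd 15989 = n16020 := ndS (p := 12968) (l := 1) rfl N12968 D16020
theorem N15990 : nd 15990 = n16021 := ndS (p := 12969) (l := 3) rfl N12969 D16021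
theorem N15991 : nd 15991 = n16022 := ndS (p := 12970) (l := 4) rfl N12970 D16022
theorem N15992 : nd 15992 = n16023 := ndS (p := 12971) (l := 2) rfl N12971 D16023
theorem N15993 : nd 15993 = n16024 := ndS (p := 12972) (l := 1) rfl N12972 D16024
theorem N15994 : nd 15994 = n16025 := ndS (p := 12972) (l := 4) rfl N12972 D16025
theorem N15995 : nd 15995 = n16026 := ndS (p := 12973) (l := 5) rfl N12973 D16026
theorem N15996 : nd 15996 = n16027 := ndS (p := 12974) (l := 3) rfl N12974 D16027
theorem N15997 : nd 15997 = n16028 := ndS (p := 12975) (l := 4) rfl N12975 D16028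
theorem N15998 : nd 15998 = n16029 := ndS (p := 12976) (l := 4) rfl N12976 D16029
theorem N15999 : nd 15999 = n16030 := ndS (p := 12977) (l := 3) rfl N12977 D16030
theorem N16000 : nd 16000 = n16031 := ndS (p := 12978) (l := 4) rfl N12978 D16031
theorem N16001 : nd 16001 = n16032 := ndS (p := 12979) (l := 3) rfl N12979 D16032
theorem N16002 : nd 16002 = n16033 := ndS (p := 12979) (l := 5) rfl N12979 D16033
theorem N16003 : nd 16003 = n16034 := ndS (p := 12981) (l := 3) rfl N12981 D16034
theorem N16004 : nd 16004 = n16035 := ndS (p := 12982) (l := 3) rfl N12982 D16035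
theorem N16005 : nd 16005 = n16036 := ndS (p := 12983) (l := 3) rfl N12983 D16036
theorem N16006 : nd 16006 = n16037 := ndS (p := 12983) (l := 5) rfl N12983 D16037
theorem N16007 : nd 16007 = n16038 := ndS (p := 12984) (l := 2) rfl N12984 D16038
theorem N16008 : nd 16008 = n16039 := ndS (p := 12985) (l := 4) rfl N12985 D16039
theorem N16009 : nd 16009 = n16040 := ndS (p := 12986) (l := 3) rfl N12986 D16040
theorem N16010 : nd 16010 = n16041 := ndS (p := 12986) (l := 5) rfl N12986 D16041
theorem N16011 : nd 16011 = n16042 := ndS (p := 12987) (l := 2) rfl N12987 D16042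
theorem N16012 : nd 16012 = n16043 := ndS (p := 12987) (l := 5) rfl N12987 D16043
theorem N16013 : nd 16013 = n16044 := ndS (p := 12988) (l := 4) rfl N12988 D16044
theorem N16014 : nd 16014 = n16045 := ndS (p := 12989) (l := 3) rfl N12989 D16045
theorem N16015 : nd 16015 = n16046 := ndS (p := 12990) (l := 1) rfl N12990 D16046
theorem N16016 : nd 16016 = n16047 := ndS (p := 12991) (l := 2) rfl N12991 D16047
theorem N16017 : nd 16017 = n16048 := ndS (p := 12992) (l := 2) rfl N12992 D16048
theorem N16018 : nd 16018 = n16049 := ndS (p := 12993) (l := 3) rfl N12993 D16049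
theorem N16019 : nd 16019 = n16050 := ndS (p := 12994) (l := 1) rfl N12994 D16050
theorem N16020 : nd 16020 = n16051 := ndS (p := 12995) (l := 0) rfl N12995 D16051
theorem N16021 : nd 16021 = n16052 := ndS (p := 12995) (l := 3) rfl N12995 D16052
theorem N16022 : nd 16022 = n16053 := ndS (p := 12996) (l := 4) rfl N12996 D16053
theorem N16023 : nd 16023 = n16054 := ndS (p := 12998) (l := 1) rfl N12998 D16054
theorem N16024 : nd 16024 = n16055 := ndS (p := 12999) (l := 0) rfl N12999 D16055
theorem N16025 : nd 16025 = n16056 := ndS (p := 12999) (l := 3) rfl N12999 D16056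
theorem N16026 : nd 16026 = n16057 := ndS (p := 12999) (l := 5) rfl N12999 D16057
theorem N16027 : nd 16027 = n16058 := ndS (p := 13003) (l := 0) rfl N13003 D16058
theorem N16028 : nd 16028 = n16059 := ndS (p := 13005) (l := 3) rfl N13005 D16059
theorem N16029 : nd 16029 = n16060 := ndS (p := 13005) (l := 5) rfl N13005 D16060
theorem N16030 : nd 16030 = n16061 := ndS (p := 13006) (l := 2) rfl N13006 D16061
theorem N16031 : nd 16031 = n16062 := ndS (p := 13006) (l := 4) rfl N13006 D16062
theorem N16032 : nd 16032 = n16063 := ndS (p := 13007) (l := 4) rfl N13007 D16063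
theorem N16033 : nd 16033 = n16064 := ndS (p := 13010) (l := 1) rfl N13010 D16064
theorem N16034 : nd 16034 = n16065 := ndS (p := 13010) (l := 3) rfl N13010 D16065
theorem N16035 : nd 16035 = n16066 := ndS (p := 13010) (l := 5) rfl N13010 D16066
theorem N16036 : nd 16036 = n16067 := ndS (p := 13011) (l := 4) rfl N13011 D16067
theorem N16037 : nd 16037 = n16068 := ndS (p := 13013) (l := 1) rfl N13013 D16068
theorem N16038 : nd 16038 = n16069 := ndS (p := 13014) (l := 0) rfl N13014 D16069
theorem N16039 : nd 16039 = n16070 := ndS (p := 13014) (l := 3) rfl N13014 D16070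
theorem N16040 : nd 16040 = n16071 := ndS (p := 13015) (l := 4) rfl N13015 D16071
theorem N16041 : nd 16041 = n16072 := ndS (p := 13017) (l := 3) rfl N13017 D16072
theorem N16042 : nd 16042 = n16073 := ndS (p := 13017) (l := 5) rfl N13017 D16073
theorem N16043 : nd 16043 = n16074 := ndS (p := 13018) (l := 3) rfl N13018 D16074
theorem N16044 : nd 16044 = n16075 := ndS (p := 13019) (l := 2) rfl N13019 D16075
theorem N16045 : nd 16045 = n16076 := ndS (p := 13019) (l := 5) rfl N13019 D16076
theorem N16046 : nd 16046 = n16077 := ndS (p := 13021) (l := 3) rfl N13021 D16077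
theorem N16047 : nd 16047 = n16078 := ndS (p := 13022) (l := 2) rfl N13022 D16078
theorem N16048 : nd 16048 = n16079 := ndS (p := 13022) (l := 5) rfl N13022 D16079
theorem N16049 : nd 16049 = n16080 := ndS (p := 13024) (l := 1) rfl N13024 D16080
theorem N16050 : nd 16050 = n16081 := ndS (p := 13024) (l := 3) rfl N13024 D16081
theorem N16051 : nd 16051 = n16082 := ndS (p := 13024) (l := 5) rfl N13024 D16082
theorem N16052 : nd 16052 = n16083 := ndS (p := 13025) (l := 4) rfl N13025 D16083
theorem N16053 : nd 16053 = n16084 := ndS (p := 13026) (l := 3) rfl N13026 D16084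
theorem N16054 : nd 16054 = n16085 := ndS (p := 13026) (l := 5) rfl N13026 D16085
theorem N16055 : nd 16055 = n16086 := ndS (p := 13027) (l := 2) rfl N13027 D16086
theorem N16056 : nd 16056 = n16087 := ndS (p := 13027) (l := 5) rfl N13027 D16087
theorem N16057 : nd 16057 = n16088 := ndS (p := 13029) (l := 2) rfl N13029 D16088
theorem N16058 : nd 16058 = n16089 := ndS (p := 13029) (l := 5) rfl N13029 D16089
theorem N16059 : nd 16059 = n16090 := ndS (p := 13031) (l := 1) rfl N13031 D16090
theorem N16060 : nd 16060 = n16091 := ndS (p := 13031) (l := 3) rfl N13031 D16091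
theorem N16061 : nd 16061 = n16092 := ndS (p := 13031) (l := 5) rfl N13031 D16092
theorem N16062 : nd 16062 = n16093 := ndS (p := 13032) (l := 4) rfl N13032 D16093
theorem N16063 : nd 16063 = n16094 := ndS (p := 13033) (l := 3) rfl N13033 D16094
theorem N16064 : nd 16064 = n16095 := ndS (p := 13033) (l := 5) rfl N13033 D16095
theorem N16065 : nd 16065 = n16096 := ndS (p := 13034) (l := 3) rfl N13034 D16096
theorem N16066 : nd 16066 = n16097 := ndS (p := 13034) (l := 5) rfl N13034 D16097
theorem N16067 : nd 16067 = n16098 := ndS (p := 13035) (l := 2) rfl N13035 D16098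
theorem N16068 : nd 16068 = n16099 := ndS (p := 13037) (l := 5) rfl N13037 D16099
theorem N16069 : nd 16069 = n16100 := ndS (p := 13039) (l := 2) rfl N13039 D16100
theorem N16070 : nd 16070 = n16101 := ndS (p := 13039) (l := 5) rfl N13039 D16101
theorem N16071 : nd 16071 = n16102 := ndS (p := 13041) (l := 2) rfl N13041 D16102
theorem N16072 : nd 16072 = n16103 := ndS (p := 13041) (l := 5) rfl N13041 D16103
theorem N16073 : nd 16073 = n16104 := ndS (p := 13043) (l := 1) rfl N13043 D16104
theorem N16074 : nd 16074 = n16105 := ndS (p := 13043) (l := 3) rfl N13043 D16105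
theorem N16075 : nd 16075 = n16106 := ndS (p := 13043) (l := 5) rfl N13043 D16106
theorem N16076 : nd 16076 = n16107 := ndS (p := 13044) (l := 4) rfl N13044 D16107
theorem N16077 : nd 16077 = n16108 := ndS (p := 13045) (l := 3) rfl N13045 D16108
theorem N16078 : nd 16078 = n16109 := ndS (p := 13045) (l := 5) rfl N13045 D16109
theorem N16079 : nd 16079 = n16110 := ndS (p := 13046) (l := 2) rfl N13046 D16110
theorem N16080 : nd 16080 = n16111 := ndS (p := 13046) (l := 5) rfl N13046 D16111
theorem N16081 : nd 16081 = n16112 := ndS (p := 13048) (l := 1) rfl N13048 D16112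
theorem N16082 : nd 16082 = n16113 := ndS (p := 13048) (l := 3) rfl N13048 D16113
theorem N16083 : nd 16083 = n16114 := ndS (p := 13048) (l := 5) rfl N13048 D16114
theorem N16084 : nd 16084 = n16115 := ndS (p := 13049) (l := 4) rfl N13049 D16115
theorem N16085 : nd 16085 = n16116 := ndS (p := 13050) (l := 0) rfl N13050 D16116
theorem N16086 : nd 16086 = n16117 := ndS (p := 13052) (l := 1) rfl N13052 D16117
theorem N16087 : nd 16087 = n16118 := ndS (p := 13052) (l := 3) rfl N13052 D16118
theorem N16088 : nd 16088 = n16119 := ndS (p := 13052) (l := 5) rfl N13052 D16119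
theorem N16089 : nd 16089 = n16120 := ndS (p := 13054) (l := 0) rfl N13054 D16120
theorem N16090 : nd 16090 = n16121 := ndS (p := 13054) (l := 3) rfl N13054 D16121
theorem N16091 : nd 16091 = n16122 := ndS (p := 13055) (l := 2) rfl N13055 D16122
theorem N16092 : nd 16092 = n16123 := ndS (p := 13055) (l := 4) rfl N13055 D16123
theorem N16093 : nd 16093 = n16124 := ndS (p := 13055) (l := 5) rfl N13055 D16124
theorem N16094 : nd 16094 = n16125 := ndS (p := 13058) (l := 3) rfl N13058 D16125
theorem N16095 : nd 16095 = n16126 := ndS (p := 13058) (l := 5) rfl N13058 D16126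
theorem N16096 : nd 16096 = n16127 := ndS (p := 13059) (l := 2) rfl N13059 D16127
theorem N16097 : nd 16097 = n16128 := ndS (p := 13059) (l := 5) rfl N13059 D16128
theorem N16098 : nd 16098 = n16129 := ndS (p := 13061) (l := 1) rfl N13061 D16129
theorem N16099 : nd 16099 = n16130 := ndS (p := 13062) (l := 2) rfl N13062 D16130
theorem N16100 : nd 16100 = n16131 := ndS (p := 13062) (l := 5) rfl N13062 D16131
theorem N16101 : nd 16101 = n16132 := ndS (p := 13064) (l := 1) rfl N13064 D16132
theorem N16102 : nd 16102 = n16133 := ndS (p := 13064) (l := 3) rfl N13064 D16133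
theorem N16103 : nd 16103 = n16134 := ndS (p := 13064) (l := 5) rfl N13064 D16134
theorem N16104 : nd 16104 = n16135 := ndS (p := 13065) (l := 4) rfl N13065 D16135
theorem N16105 : nd 16105 = n16136 := ndS (p := 13066) (l := 4) rfl N13066 D16136
theorem N16106 : nd 16106 = n16137 := ndS (p := 13067) (l := 5) rfl N13067 D16137
theorem N16107 : nd 16107 = n16138 := ndS (p := 13070) (l := 4) rfl N13070 D16138
theorem N16108 : nd 16108 = n16139 := ndS (p := 13071) (l := 0) rfl N13071 D16139
theorem N16109 : nd 16109 = n16140 := ndS (p := 13071) (l := 3) rfl N13071 D16140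
theorem N16110 : nd 16110 = n16141 := ndS (p := 13072) (l := 4) rfl N13072 D16141
theorem N16111 : nd 16111 = n16142 := ndS (p := 13073) (l := 1) rfl N13073 D16142
theorem N16112 : nd 16112 = n16143 := ndS (p := 13073) (l := 3) rfl N13073 D16143
theorem N16113 : nd 16113 = n16144 := ndS (p := 13073) (l := 5) rfl N13073 D16144
theorem N16114 : nd 16114 = n16145 := ndS (p := 13074) (l := 4) rfl N13074 D16145
theorem N16115 : nd 16115 = n16146 := ndS (p := 13075) (l := 3) rfl N13075 D16146
theorem N16116 : nd 16116 = n16147 := ndS (p := 13075) (l := 5) rfl N13075 D16147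
theorem N16117 : nd 16117 = n16148 := ndS (p := 13076) (l := 4) rfl N13076 D16148
theorem N16118 : nd 16118 = n16149 := ndS (p := 13077) (l := 4) rfl N13077 D16149
theorem N16119 : nd 16119 = n16150 := ndS (p := 13079) (l := 3) rfl N13079 D16150
theorem N16120 : nd 16120 = n16151 := ndS (p := 13080) (l := 2) rfl N13080 D16151
theorem N16121 : nd 16121 = n16152 := ndS (p := 13080) (l := 4) rfl N13080 D16152
theorem N16122 : nd 16122 = n16153 := ndS (p := 13081) (l := 1) rfl N13081 D16153
theorem N16123 : nd 16123 = n16154 := ndS (p := 13081) (l := 4) rfl N13081 D16154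
theorem N16124 : nd 16124 = n16155 := ndS (p := 13082) (l := 5) rfl N13082 D16155
theorem N16125 : nd 16125 = n16156 := ndS (p := 13083) (l := 2) rfl N13083 D16156
theorem N16126 : nd 16126 = n16157 := ndS (p := 13083) (l := 5) rfl N13083 D16157
theorem N16127 : nd 16127 = n16158 := ndS (p := 13085) (l := 2) rfl N13085 D16158
theorem N16128 : nd 16128 = n16159 := ndS (p := 13085) (l := 5) rfl N13085 D16159
theorem N16129 : nd 16129 = n16160 := ndS (p := 13087) (l := 1) rfl N13087 D16160
theorem N16130 : nd 16130 = n16161 := ndS (p := 13088) (l := 4) rfl N13088 D16161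
theorem N16131 : nd 16131 = n16162 := ndS (p := 13089) (l := 0) rfl N13089 D16162
theorem N16132 : nd 16132 = n16163 := ndS (p := 13090) (l := 2) rfl N13090 D16163
theorem N16133 : nd 16133 = n16164 := ndS (p := 13090) (l := 5) rfl N13090 D16164
theorem N16134 : nd 16134 = n16165 := ndS (p := 13092) (l := 1) rfl N13092 D16165
theorem N16135 : nd 16135 = n16166 := ndS (p := 13092) (l := 3) rfl N13092 D16166
theorem N16136 : nd 16136 = n16167 := ndS (p := 13092) (l := 5) rfl N13092 D16167
theorem N16137 : nd 16137 = n16168 := ndS (p := 13093) (l := 4) rfl N13093 D16168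
theorem N16138 : nd 16138 = n16169 := ndS (p := 13094) (l := 0) rfl N13094 D16169
theorem N16139 : nd 16139 = n16170 := ndS (p := 13094) (l := 3) rfl N13094 D16170
theorem N16140 : nd 16140 = n16171 := ndS (p := 13094) (l := 5) rfl N13094 D16171
theorem N16141 : nd 16141 = n16172 := ndS (p := 13095) (l := 4) rfl N13095 D16172
theorem N16142 : nd 16142 = n16173 := ndS (p := 13096) (l := 4) rfl N13096 D16173
theorem N16143 : nd 16143 = n16174 := ndS (p := 13098) (l := 3) rfl N13098 D16174
theorem N16144 : nd 16144 = n16175 := ndS (p := 13099) (l := 2) rfl N13099 D16175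
theorem N16145 : nd 16145 = n16176 := ndS (p := 13099) (l := 4) rfl N13099 D16176
theorem N16146 : nd 16146 = n16177 := ndS (p := 13100) (l := 5) rfl N13100 D16177
theorem N16147 : nd 16147 = n16178 := ndS (p := 13101) (l := 2) rfl N13101 D16178
theorem N16148 : nd 16148 = n16179 := ndS (p := 13101) (l := 5) rfl N13101 D16179
theorem N16149 : nd 16149 = n16180 := ndS (p := 13103) (l := 1) rfl N13103 D16180
theorem N16150 : nd 16150 = n16181 := ndS (p := 13103) (l := 3) rfl N13103 D16181
theorem N16151 : nd 16151 = n16182 := ndS (p := 13103) (l := 5) rfl N13103 D16182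
theorem N16152 : nd 16152 = n16183 := ndS (p := 13104) (l := 4) rfl N13104 D16183
theorem N16153 : nd 16153 = n16184 := ndS (p := 13105) (l := 5) rfl N13105 D16184
theorem N16154 : nd 16154 = n16185 := ndS (p := 13106) (l := 4) rfl N13106 D16185
theorem N16155 : nd 16155 = n16186 := ndS (p := 13107) (l := 0) rfl N13107 D16186
theorem N16156 : nd 16156 = n16187 := ndS (p := 13109) (l := 3) rfl N13109 D16187
theorem N16157 : nd 16157 = n16188 := ndS (p := 13110) (l := 2) rfl N13110 D16188
theorem N16158 : nd 16158 = n16189 := ndS (p := 13110) (l := 4) rfl N13110 D16189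
theorem N16159 : nd 16159 = n16190 := ndS (p := 13111) (l := 5) rfl N13111 D16190
theorem N16160 : nd 16160 = n16191 := ndS (p := 13112) (l := 2) rfl N13112 D16191
theorem N16161 : nd 16161 = n16192 := ndS (p := 13112) (l := 5) rfl N13112 D16192
theorem N16162 : nd 16162 = n16193 := ndS (p := 13114) (l := 1) rfl N13114 D16193
theorem N16163 : nd 16163 = n16194 := ndS (p := 13114) (l := 3) rfl N13114 D16194
theorem N16164 : nd 16164 = n16195 := ndS (p := 13114) (l := 5) rfl N13114 D16195
theorem N16165 : nd 16165 = n16196 := ndS (p := 13115) (l := 4) rfl N13115 D16196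
theorem N16166 : nd 16166 = n16197 := ndS (p := 13116) (l := 0) rfl N13116 D16197
theorem N16167 : nd 16167 = n16198 := ndS (p := 13116) (l := 3) rfl N13116 D16198
theorem N16168 : nd 16168 = n16199 := ndS (p := 13116) (l := 5) rfl N13116 D16199
theorem N16169 : nd 16169 = n16200 := ndS (p := 13117) (l := 2) rfl N13117 D16200
theorem N16170 : nd 16170 = n16201 := ndS (p := 13117) (l := 4) rfl N13117 D16201
theorem N16171 : nd 16171 = n16202 := ndS (p := 13117) (l := 5) rfl N13117 D16202
theorem N16172 : nd 16172 = n16203 := ndS (p := 13118) (l := 4) rfl N13118 D16203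
theorem N16173 : nd 16173 = n16204 := ndS (p := 13120) (l := 3) rfl N13120 D16204
theorem N16174 : nd 16174 = n16205 := ndS (p := 13120) (l := 5) rfl N13120 D16205
theorem N16175 : nd 16175 = n16206 := ndS (p := 13121) (l := 2) rfl N13121 D16206
theorem N16176 : nd 16176 = n16207 := ndS (p := 13121) (l := 4) rfl N13121 D16207
theorem N16177 : nd 16177 = n16208 := ndS (p := 13122) (l := 4) rfl N13122 D16208
theorem N16178 : nd 16178 = n16209 := ndS (p := 13123) (l := 5) rfl N13123 D16209
theorem N16179 : nd 16179 = n16210 := ndS (p := 13124) (l := 3) rfl N13124 D16210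
theorem N16180 : nd 16180 = n16211 := ndS (p := 13125) (l := 2) rfl N13125 D16211
theorem N16181 : nd 16181 = n16212 := ndS (p := 13125) (l := 4) rfl N13125 D16212
theorem N16182 : nd 16182 = n16213 := ndS (p := 13126) (l := 1) rfl N13126 D16213
theorem N16183 : nd 16183 = n16214 := ndS (p := 13126) (l := 3) rfl N13126 D16214
theorem N16184 : nd 16184 = n16215 := ndS (p := 13126) (l := 4) rfl N13126 D16215
theorem N16185 : nd 16185 = n16216 := ndS (p := 13127) (l := 5) rfl N13127 D16216
theorem N16186 : nd 16186 = n16217 := ndS (p := 13128) (l := 0) rfl N13128 D16217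
theorem N16187 : nd 16187 = n16218 := ndS (p := 13128) (l := 4) rfl N13128 D16218
theorem N16188 : nd 16188 = n16219 := ndS (p := 13129) (l := 3) rfl N13129 D16219
theorem N16189 : nd 16189 = n16220 := ndS (p := 13129) (l := 5) rfl N13129 D16220
theorem N16190 : nd 16190 = n16221 := ndS (p := 13131) (l := 1) rfl N13131 D16221
theorem N16191 : nd 16191 = n16222 := ndS (p := 13131) (l := 3) rfl N13131 D16222
theorem N16192 : nd 16192 = n16223 := ndS (p := 13132) (l := 2) rfl N13132 D16223
theorem N16193 : nd 16193 = n16224 := ndS (p := 13132) (l := 4) rfl N13132 D16224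
theorem N16194 : nd 16194 = n16225 := ndS (p := 13136) (l := 4) rfl N13136 D16225
theorem N16195 : nd 16195 = n16226 := ndS (p := 13137) (l := 1) rfl N13137 D16226
theorem N16196 : nd 16196 = n16227 := ndS (p := 13138) (l := 4) rfl N13138 D16227
theorem N16197 : nd 16197 = n16228 := ndS (p := 13139) (l := 0) rfl N13139 D16228
theorem N16198 : nd 16198 = n16229 := ndS (p := 13139) (l := 3) rfl N13139 D16229
theorem N16199 : nd 16199 = n16230 := ndS (p := 13139) (l := 5) rfl N13139 D16230
theorem N16200 : nd 16200 = n16231 := ndS (p := 13140) (l := 4) rfl N13140 D16231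
theorem N16201 : nd 16201 = n16232 := ndS (p := 13141) (l := 4) rfl N13141 D16232
theorem N16202 : nd 16202 = n16233 := ndS (p := 13143) (l := 5) rfl N13143 D16233
theorem N16203 : nd 16203 = n16234 := ndS (p := 13145) (l := 1) rfl N13145 D16234
theorem N16204 : nd 16204 = n16235 := ndS (p := 13145) (l := 3) rfl N13145 D16235
theorem N16205 : nd 16205 = n16236 := ndS (p := 13145) (l := 5) rfl N13145 D16236
theorem N16206 : nd 16206 = n16237 := ndS (p := 13147) (l := 0) rfl N13147 D16237
theorem N16207 : nd 16207 = n16238 := ndS (p := 13149) (l := 2) rfl N13149 D16238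
theorem N16208 : nd 16208 = n16239 := ndS (p := 13150) (l := 1) rfl N13150 D16239
theorem N16209 : nd 16209 = n16240 := ndS (p := 13150) (l := 3) rfl N13150 D16240
theorem N16210 : nd 16210 = n16241 := ndS (p := 13150) (l := 5) rfl N13150 D16241
theorem N16211 : nd 16211 = n16242 := ndS (p := 13151) (l := 4) rfl N13151 D16242
theorem N16212 : nd 16212 = n16243 := ndS (p := 13152) (l := 1) rfl N13152 D16243
theorem N16213 : nd 16213 = n16244 := ndS (p := 13152) (l := 3) rfl N13152 D16244
theorem N16214 : nd 16214 = n16245 := ndS (p := 13152) (l := 5) rfl N13152 D16245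
theorem N16215 : nd 16215 = n16246 := ndS (p := 13153) (l := 4) rfl N13153 D16246
theorem N16216 : nd 16216 = n16247 := ndS (p := 13154) (l := 0) rfl N13154 D16247
theorem N16217 : nd 16217 = n16248 := ndS (p := 13154) (l := 3) rfl N13154 D16248
theorem N16218 : nd 16218 = n16249 := ndS (p := 13154) (l := 5) rfl N13154 D16249
theorem N16219 : nd 16219 = n16250 := ndS (p := 13155) (l := 2) rfl N13155 D16250
theorem N16220 : nd 16220 = n16251 := ndS (p := 13155) (l := 4) rfl N13155 D16251
theorem N16221 : nd 16221 = n16252 := ndS (p := 13155) (l := 5) rfl N13155 D16252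
theorem N16222 : nd 16222 = n16253 := ndS (p := 13156) (l := 4) rfl N13156 D16253
theorem N16223 : nd 16223 = n16254 := ndS (p := 13158) (l := 0) rfl N13158 D16254
theorem N16224 : nd 16224 = n16255 := ndS (p := 13160) (l := 3) rfl N13160 D16255
theorem N16225 : nd 16225 = n16256 := ndS (p := 13160) (l := 5) rfl N13160 D16256
theorem N16226 : nd 16226 = n16257 := ndS (p := 13161) (l := 2) rfl N13161 D16257
theorem N16227 : nd 16227 = n16258 := ndS (p := 13161) (l := 4) rfl N13161 D16258
theorem N16228 : nd 16228 = n16259 := ndS (p := 13162) (l := 4) rfl N13162 D16259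
theorem N16229 : nd 16229 = n16260 := ndS (p := 13165) (l := 0) rfl N13165 D16260
theorem N16230 : nd 16230 = n16261 := ndS (p := 13165) (l := 3) rfl N13165 D16261
theorem N16231 : nd 16231 = n16262 := ndS (p := 13165) (l := 5) rfl N13165 D16262
theorem N16232 : nd 16232 = n16263 := ndS (p := 13166) (l := 4) rfl N13166 D16263
theorem N16233 : nd 16233 = n16264 := ndS (p := 13167) (l := 4) rfl N13167 D16264
theorem N16234 : nd 16234 = n16265 := ndS (p := 13170) (l := 4) rfl N13170 D16265
theorem N16235 : nd 16235 = n16266 := ndS (p := 13171) (l := 1) rfl N13171 D16266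
theorem N16236 : nd 16236 = n16267 := ndS (p := 13171) (l := 4) rfl N13171 D16267
theorem N16237 : nd 16237 = n16268 := ndS (p := 13172) (l := 5) rfl N13172 D16268
theorem N16238 : nd 16238 = n16269 := ndS (p := 13173) (l := 4) rfl N13173 D16269
theorem N16239 : nd 16239 = n16270 := ndS (p := 13174) (l := 3) rfl N13174 D16270
theorem N16240 : nd 16240 = n16271 := ndS (p := 13175) (l := 0) rfl N13175 D16271
theorem N16241 : nd 16241 = n16272 := ndS (p := 13175) (l := 3) rfl N13175 D16272
theorem N16242 : nd 16242 = n16273 := ndS (p := 13176) (l := 4) rfl N13176 D16273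
theorem N16243 : nd 16243 = n16274 := ndS (p := 13177) (l := 4) rfl N13177 D16274
theorem N16244 : nd 16244 = n16275 := ndS (p := 13180) (l := 3) rfl N13180 D16275
theorem N16245 : nd 16245 = n16276 := ndS (p := 13180) (l := 5) rfl N13180 D16276
theorem N16246 : nd 16246 = n16277 := ndS (p := 13181) (l := 4) rfl N13181 D16277
theorem N16247 : nd 16247 = n16278 := ndS (p := 13182) (l := 4) rfl N13182 D16278
theorem N16248 : nd 16248 = n16279 := ndS (p := 13183) (l := 5) rfl N13183 D16279
theorem N16249 : nd 16249 = n16280 := ndS (p := 13184) (l := 3) rfl N13184 D16280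
theorem N16250 : nd 16250 = n16281 := ndS (p := 13186) (l := 4) rfl N13186 D16281
theorem N16251 : nd 16251 = n16282 := ndS (p := 13188) (l := 5) rfl N13188 D16282
theorem N16252 : nd 16252 = n16283 := ndS (p := 13189) (l := 3) rfl N13189 D16283
theorem N16253 : nd 16253 = n16284 := ndS (p := 13192) (l := 1) rfl N13192 D16284
theorem N16254 : nd 16254 = n16285 := ndS (p := 13192) (l := 3) rfl N13192 D16285
theorem N16255 : nd 16255 = n16286 := ndS (p := 13192) (l := 4) rfl N13192 D16286
theorem N16256 : nd 16256 = n16287 := ndS (p := 13192) (l := 5) rfl N13192 D16287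
theorem N16257 : nd 16257 = n16288 := ndS (p := 13193) (l := 5) rfl N13193 D16288
theorem N16258 : nd 16258 = n16289 := ndS (p := 13194) (l := 4) rfl N13194 D16289
theorem N16259 : nd 16259 = n16290 := ndS (p := 13195) (l := 0) rfl N13195 D16290
theorem N16260 : nd 16260 = n16291 := ndS (p := 13195) (l := 4) rfl N13195 D16291
theorem N16261 : nd 16261 = n16292 := ndS (p := 13196) (l := 3) rfl N13196 D16292
theorem N16262 : nd 16262 = n16293 := ndS (p := 13196) (l := 5) rfl N13196 D16293
theorem N16263 : nd 16263 = n16294 := ndS (p := 13197) (l := 4) rfl N13197 D16294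
theorem N16264 : nd 16264 = n16295 := ndS (p := 13199) (l := 1) rfl N13199 D16295
theorem N16265 : nd 16265 = n16296 := ndS (p := 13199) (l := 3) rfl N13199 D16296
theorem N16266 : nd 16266 = n16297 := ndS (p := 13200) (l := 2) rfl N13200 D16297
theorem N16267 : nd 16267 = n16298 := ndS (p := 13200) (l := 4) rfl N13200 D16298
theorem N16268 : nd 16268 = n16299 := ndS (p := 13201) (l := 2) rfl N13201 D16299
theorem N16269 : nd 16269 = n16300 := ndS (p := 13202) (l := 2) rfl N13202 D16300
theorem N16270 : nd 16270 = n16301 := ndS (p := 13208) (l := 1) rfl N13208 D16301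
theorem N16271 : nd 16271 = n16302 := ndS (p := 13208) (l := 3) rfl N13208 D16302
theorem N16272 : nd 16272 = n16303 := ndS (p := 13209) (l := 0) rfl N13209 D16303
theorem N16273 : nd 16273 = n16304 := ndS (p := 13210) (l := 0) rfl N13210 D16304
theorem N16274 : nd 16274 = n16305 := ndS (p := 13210) (l := 3) rfl N13210 D16305
theorem N16275 : nd 16275 = n16306 := ndS (p := 13212) (l := 4) rfl N13212 D16306
theorem N16276 : nd 16276 = n16307 := ndS (p := 13215) (l := 5) rfl N13215 D16307
theorem N16277 : nd 16277 = n16308 := ndS (p := 13216) (l := 1) rfl N13216 D16308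
theorem N16278 : nd 16278 = n16309 := ndS (p := 13216) (l := 4) rfl N13216 D16309
theorem N16279 : nd 16279 = n16310 := ndS (p := 13221) (l := 1) rfl N13221 D16310
theorem N16280 : nd 16280 = n16311 := ndS (p := 13223) (l := 0) rfl N13223 D16311
theorem N16281 : nd 16281 = n16312 := ndS (p := 13224) (l := 1) rfl N13224 D16312
theorem N16282 : nd 16282 = n16313 := ndS (p := 13224) (l := 3) rfl N13224 D16313
theorem N16283 : nd 16283 = n16314 := ndS (p := 13224) (l := 5) rfl N13224 D16314
theorem N16284 : nd 16284 = n16315 := ndS (p := 13226) (l := 0) rfl N13226 D16315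
theorem N16285 : nd 16285 = n16316 := ndS (p := 13226) (l := 3) rfl N13226 D16316
theorem N16286 : nd 16286 = n16317 := ndS (p := 13226) (l := 5) rfl N13226 D16317
theorem N16287 : nd 16287 = n16318 := ndS (p := 13229) (l := 1) rfl N13229 D16318
theorem N16288 : nd 16288 = n16319 := ndS (p := 13230) (l := 0) rfl N13230 D16319
theorem N16289 : nd 16289 = n16320 := ndS (p := 13230) (l := 3) rfl N13230 D16320
theorem N16290 : nd 16290 = n16321 := ndS (p := 13233) (l := 3) rfl N13233 D16321
theorem N16291 : nd 16291 = n16322 := ndS (p := 13235) (l := 4) rfl N13235 D16322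
theorem N16292 : nd 16292 = n16323 := ndS (p := 13236) (l := 3) rfl N13236 D16323
theorem N16293 : nd 16293 = n16324 := ndS (p := 13239) (l := 3) rfl N13239 D16324
theorem N16294 : nd 16294 = n16325 := ndS (p := 13240) (l := 2) rfl N13240 D16325
theorem N16295 : nd 16295 = n16326 := ndS (p := 13241) (l := 1) rfl N13241 D16326
theorem N16296 : nd 16296 = n16327 := ndS (p := 13241) (l := 3) rfl N13241 D16327
theorem N16297 : nd 16297 = n16328 := ndS (p := 13242) (l := 2) rfl N13242 D16328
theorem N16298 : nd 16298 = n16329 := ndS (p := 13242) (l := 4) rfl N13242 D16329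
theorem N16299 : nd 16299 = n16330 := ndS (p := 13244) (l := 4) rfl N13244 D16330
theorem N16300 : nd 16300 = n16331 := ndS (p := 13245) (l := 3) rfl N13245 D16331
theorem N16301 : nd 16301 = n16332 := ndS (p := 13245) (l := 5) rfl N13245 D16332
theorem N16302 : nd 16302 = n16333 := ndS (p := 13246) (l := 3) rfl N13246 D16333
theorem N16303 : nd 16303 = n16334 := ndS (p := 13246) (l := 5) rfl N13246 D16334
theorem N16304 : nd 16304 = n16335 := ndS (p := 13247) (l := 2) rfl N13247 D16335
theorem N16305 : nd 16305 = n16336 := ndS (p := 13247) (l := 5) rfl N13247 D16336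
theorem N16306 : nd 16306 = n16337 := ndS (p := 13249) (l := 1) rfl N13249 D16337
theorem N16307 : nd 16307 = n16338 := ndS (p := 13250) (l := 4) rfl N13250 D16338
theorem N16308 : nd 16308 = n16339 := ndS (p := 13251) (l := 3) rfl N13251 D16339
theorem N16309 : nd 16309 = n16340 := ndS (p := 13251) (l := 5) rfl N13251 D16340
theorem N16310 : nd 16310 = n16341 := ndS (p := 13252) (l := 2) rfl N13252 D16341
theorem N16311 : nd 16311 = n16342 := ndS (p := 13252) (l := 5) rfl N13252 D16342
theorem N16312 : nd 16312 = n16343 := ndS (p := 13254) (l := 1) rfl N13254 D16343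
theorem N16313 : nd 16313 = n16344 := ndS (p := 13254) (l := 3) rfl N13254 D16344
theorem N16314 : nd 16314 = n16345 := ndS (p := 13254) (l := 5) rfl N13254 D16345
theorem N16315 : nd 16315 = n16346 := ndS (p := 13255) (l := 4) rfl N13255 D16346
theorem N16316 : nd 16316 = n16347 := ndS (p := 13256) (l := 4) rfl N13256 D16347
theorem N16317 : nd 16317 = n16348 := ndS (p := 13257) (l := 1) rfl N13257 D16348
theorem N16318 : nd 16318 = n16349 := ndS (p := 13258) (l := 4) rfl N13258 D16349
theorem N16319 : nd 16319 = n16350 := ndS (p := 13259) (l := 0) rfl N13259 D16350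
theorem N16320 : nd 16320 = n16351 := ndS (p := 13259) (l := 3) rfl N13259 D16351
theorem N16321 : nd 16321 = n16352 := ndS (p := 13260) (l := 4) rfl N13260 D16352
theorem N16322 : nd 16322 = n16353 := ndS (p := 13261) (l := 1) rfl N13261 D16353
theorem N16323 : nd 16323 = n16354 := ndS (p := 13262) (l := 4) rfl N13262 D16354
theorem N16324 : nd 16324 = n16355 := ndS (p := 13263) (l := 0) rfl N13263 D16355
theorem N16325 : nd 16325 = n16356 := ndS (p := 13263) (l := 3) rfl N13263 D16356
theorem N16326 : nd 16326 = n16357 := ndS (p := 13264) (l := 4) rfl N13264 D16357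
theorem N16327 : nd 16327 = n16358 := ndS (p := 13265) (l := 4) rfl N13265 D16358
theorem N16328 : nd 16328 = n16359 := ndS (p := 13267) (l := 3) rfl N13267 D16359
theorem N16329 : nd 16329 = n16360 := ndS (p := 13268) (l := 2) rfl N13268 D16360
theorem N16330 : nd 16330 = n16361 := ndS (p := 13268) (l := 4) rfl N13268 D16361
theorem N16331 : nd 16331 = n16362 := ndS (p := 13269) (l := 1) rfl N13269 D16362
theorem N16332 : nd 16332 = n16363 := ndS (p := 13269) (l := 4) rfl N13269 D16363
theorem N16333 : nd 16333 = n16364 := ndS (p := 13270) (l := 5) rfl N13270 D16364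
theorem N16334 : nd 16334 = n16365 := ndS (p := 13272) (l := 5) rfl N13272 D16365
theorem N16335 : nd 16335 = n16366 := ndS (p := 13274) (l := 4) rfl N13274 D16366
theorem N16336 : nd 16336 = n16367 := ndS (p := 13277) (l := 5) rfl N13277 D16367
theorem N16337 : nd 16337 = n16368 := ndS (p := 13279) (l := 5) rfl N13279 D16368
theorem N16338 : nd 16338 = n16369 := ndS (p := 13288) (l := 3) rfl N13288 D16369
theorem N16339 : nd 16339 = n16370 := ndS (p := 13290) (l := 4) rfl N13290 D16370
theorem N16340 : nd 16340 = n16371 := ndS (p := 13292) (l := 3) rfl N13292 D16371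
theorem N16341 : nd 16341 = n16372 := ndS (p := 13292) (l := 5) rfl N13292 D16372
theorem N16342 : nd 16342 = n16373 := ndS (p := 13293) (l := 5) rfl N13293 D16373
theorem N16343 : nd 16343 = n16374 := ndS (p := 13294) (l := 4) rfl N13294 D16374
theorem N16344 : nd 16344 = n16375 := ndS (p := 13295) (l := 3) rfl N13295 D16375
theorem N16345 : nd 16345 = n16376 := ndS (p := 13296) (l := 5) rfl N13296 D16376
theorem N16346 : nd 16346 = n16377 := ndS (p := 13298) (l := 4) rfl N13298 D16377
theorem N16347 : nd 16347 = n16378 := ndS (p := 13299) (l := 3) rfl N13299 D16378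
theorem N16348 : nd 16348 = n16379 := ndS (p := 13300) (l := 2) rfl N13300 D16379
theorem N16349 : nd 16349 = n16380 := ndS (p := 13301) (l := 1) rfl N13301 D16380
theorem N16350 : nd 16350 = n16381 := ndS (p := 13301) (l := 3) rfl N13301 D16381
theorem N16351 : nd 16351 = n16382 := ndS (p := 13302) (l := 0) rfl N13302 D16382
theorem N16352 : nd 16352 = n16383 := ndS (p := 13304) (l := 2) rfl N13304 D16383
theorem N16353 : nd 16353 = n16384 := ndS (p := 13304) (l := 5) rfl N13304 D16384
theorem N16354 : nd 16354 = n16385 := ndS (p := 13306) (l := 1) rfl N13306 D16385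
theorem N16355 : nd 16355 = n16386 := ndS (p := 13307) (l := 3) rfl N13307 D16386
theorem N16356 : nd 16356 = n16387 := ndS (p := 13307) (l := 5) rfl N13307 D16387
theorem N16357 : nd 16357 = n16388 := ndS (p := 13308) (l := 2) rfl N13308 D16388
theorem N16358 : nd 16358 = n16389 := ndS (p := 13308) (l := 5) rfl N13308 D16389
theorem N16359 : nd 16359 = n16390 := ndS (p := 13310) (l := 1) rfl N13310 D16390
theorem N16360 : nd 16360 = n16391 := ndS (p := 13310) (l := 3) rfl N13310 D16391
theorem N16361 : nd 16361 = n16392 := ndS (p := 13310) (l := 5) rfl N13310 D16392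
theorem N16362 : nd 16362 = n16393 := ndS (p := 13311) (l := 4) rfl N13311 D16393
theorem N16363 : nd 16363 = n16394 := ndS (p := 13312) (l := 3) rfl N13312 D16394
theorem N16364 : nd 16364 = n16395 := ndS (p := 13313) (l := 2) rfl N13313 D16395
theorem N16365 : nd 16365 = n16396 := ndS (p := 13314) (l := 0) rfl N13314 D16396
theorem N16366 : nd 16366 = n16397 := ndS (p := 13314) (l := 5) rfl N13314 D16397
theorem N16367 : nd 16367 = n16398 := ndS (p := 13315) (l := 4) rfl N13315 D16398
theorem N16368 : nd 16368 = n16399 := ndS (p := 13316) (l := 3) rfl N13316 D16399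
theorem N16369 : nd 16369 = n16400 := ndS (p := 13317) (l := 2) rfl N13317 D16400
theorem N16370 : nd 16370 = n16401 := ndS (p := 13318) (l := 1) rfl N13318 D16401
theorem N16371 : nd 16371 = n16402 := ndS (p := 13318) (l := 3) rfl N13318 D16402
theorem N16372 : nd 16372 = n16403 := ndS (p := 13319) (l := 2) rfl N13319 D16403
theorem N16373 : nd 16373 = n16404 := ndS (p := 13319) (l := 4) rfl N13319 D16404
theorem N16374 : nd 16374 = n16405 := ndS (p := 13320) (l := 3) rfl N13320 D16405
theorem N16375 : nd 16375 = n16406 := ndS (p := 13321) (l := 2) rfl N13321 D16406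
theorem N16376 : nd 16376 = n16407 := ndS (p := 13321) (l := 4) rfl N13321 D16407
theorem N16377 : nd 16377 = n16408 := ndS (p := 13322) (l := 5) rfl N13322 D16408
theorem N16378 : nd 16378 = n16409 := ndS (p := 13323) (l := 5) rfl N13323 D16409
theorem N16379 : nd 16379 = n16410 := ndS (p := 13325) (l := 0) rfl N13325 D16410
theorem N16380 : nd 16380 = n16411 := ndS (p := 13326) (l := 3) rfl N13326 D16411
theorem N16381 : nd 16381 = n16412 := ndS (p := 13327) (l := 2) rfl N13327 D16412
theorem N16382 : nd 16382 = n16413 := ndS (p := 13327) (l := 4) rfl N13327 D16413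
theorem N16383 : nd 16383 = n16414 := ndS (p := 13328) (l := 5) rfl N13328 D16414
theorem N16384 : nd 16384 = n16415 := ndS (p := 13329) (l := 1) rfl N13329 D16415
theorem N16385 : nd 16385 = n16416 := ndS (p := 13329) (l := 3) rfl N13329 D16416
theorem N16386 : nd 16386 = n16417 := ndS (p := 13329) (l := 5) rfl N13329 D16417
theorem N16387 : nd 16387 = n16418 := ndS (p := 13330) (l := 4) rfl N13330 D16418
theorem N16388 : nd 16388 = n16419 := ndS (p := 13331) (l := 0) rfl N13331 D16419
theorem N16389 : nd 16389 = n16420 := ndS (p := 13331) (l := 3) rfl N13331 D16420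
theorem N16390 : nd 16390 = n16421 := ndS (p := 13331) (l := 5) rfl N13331 D16421
theorem N16391 : nd 16391 = n16422 := ndS (p := 13332) (l := 2) rfl N13332 D16422
theorem N16392 : nd 16392 = n16423 := ndS (p := 13332) (l := 4) rfl N13332 D16423
theorem N16393 : nd 16393 = n16424 := ndS (p := 13332) (l := 5) rfl N13332 D16424
theorem N16394 : nd 16394 = n16425 := ndS (p := 13335) (l := 4) rfl N13335 D16425
theorem N16395 : nd 16395 = n16426 := ndS (p := 13336) (l := 5) rfl N13336 D16426
theorem N16396 : nd 16396 = n16427 := ndS (p := 13337) (l := 2) rfl N13337 D16427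
theorem N16397 : nd 16397 = n16428 := ndS (p := 13338) (l := 1) rfl N13338 D16428
theorem N16398 : nd 16398 = n16429 := ndS (p := 13338) (l := 3) rfl N13338 D16429
theorem N16399 : nd 16399 = n16430 := ndS (p := 13338) (l := 4) rfl N13338 D16430
theorem N16400 : nd 16400 = n16431 := ndS (p := 13339) (l := 5) rfl N13339 D16431
theorem N16401 : nd 16401 = n16432 := ndS (p := 13340) (l := 0) rfl N13340 D16432
theorem N16402 : nd 16402 = n16433 := ndS (p := 13340) (l := 4) rfl N13340 D16433
theorem N16403 : nd 16403 = n16434 := ndS (p := 13341) (l := 3) rfl N13341 D16434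
theorem N16404 : nd 16404 = n16435 := ndS (p := 13341) (l := 5) rfl N13341 D16435
theorem N16405 : nd 16405 = n16436 := ndS (p := 13343) (l := 1) rfl N13343 D16436
theorem N16406 : nd 16406 = n16437 := ndS (p := 13343) (l := 3) rfl N13343 D16437
theorem N16407 : nd 16407 = n16438 := ndS (p := 13344) (l := 2) rfl N13344 D16438
theorem N16408 : nd 16408 = n16439 := ndS (p := 13344) (l := 4) rfl N13344 D16439
theorem N16409 : nd 16409 = n16440 := ndS (p := 13345) (l := 3) rfl N13345 D16440
theorem N16410 : nd 16410 = n16441 := ndS (p := 13346) (l := 4) rfl N13346 D16441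
theorem N16411 : nd 16411 = n16442 := ndS (p := 13347) (l := 1) rfl N13347 D16442
theorem N16412 : nd 16412 = n16443 := ndS (p := 13347) (l := 4) rfl N13347 D16443
theorem N16413 : nd 16413 = n16444 := ndS (p := 13348) (l := 5) rfl N13348 D16444
theorem N16414 : nd 16414 = n16445 := ndS (p := 13349) (l := 1) rfl N13349 D16445
theorem N16415 : nd 16415 = n16446 := ndS (p := 13349) (l := 3) rfl N13349 D16446
theorem N16416 : nd 16416 = n16447 := ndS (p := 13349) (l := 5) rfl N13349 D16447
theorem N16417 : nd 16417 = n16448 := ndS (p := 13350) (l := 4) rfl N13350 D16448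
theorem N16418 : nd 16418 = n16449 := ndS (p := 13351) (l := 0) rfl N13351 D16449
theorem N16419 : nd 16419 = n16450 := ndS (p := 13351) (l := 3) rfl N13351 D16450
theorem N16420 : nd 16420 = n16451 := ndS (p := 13351) (l := 5) rfl N13351 D16451
theorem N16421 : nd 16421 = n16452 := ndS (p := 13352) (l := 4) rfl N13352 D16452
theorem N16422 : nd 16422 = n16453 := ndS (p := 13353) (l := 4) rfl N13353 D16453
theorem N16423 : nd 16423 = n16454 := ndS (p := 13355) (l := 1) rfl N13355 D16454
theorem N16424 : nd 16424 = n16455 := ndS (p := 13355) (l := 3) rfl N13355 D16455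
theorem N16425 : nd 16425 = n16456 := ndS (p := 13355) (l := 5) rfl N13355 D16456
theorem N16426 : nd 16426 = n16457 := ndS (p := 13357) (l := 0) rfl N13357 D16457
theorem N16427 : nd 16427 = n16458 := ndS (p := 13357) (l := 3) rfl N13357 D16458
theorem N16428 : nd 16428 = n16459 := ndS (p := 13358) (l := 2) rfl N13358 D16459
theorem N16429 : nd 16429 = n16460 := ndS (p := 13358) (l := 4) rfl N13358 D16460
theorem N16430 : nd 16430 = n16461 := ndS (p := 13358) (l := 5) rfl N13358 D16461
theorem N16431 : nd 16431 = n16462 := ndS (p := 13361) (l := 0) rfl N13361 D16462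
theorem N16432 : nd 16432 = n16463 := ndS (p := 13362) (l := 3) rfl N13362 D16463
theorem N16433 : nd 16433 = n16464 := ndS (p := 13363) (l := 2) rfl N13363 D16464
theorem N16434 : nd 16434 = n16465 := ndS (p := 13364) (l := 5) rfl N13364 D16465
theorem N16435 : nd 16435 = n16466 := ndS (p := 13365) (l := 3) rfl N13365 D16466
theorem N16436 : nd 16436 = n16467 := ndS (p := 13369) (l := 3) rfl N13369 D16467
theorem N16437 : nd 16437 = n16468 := ndS (p := 13369) (l := 5) rfl N13369 D16468
theorem N16438 : nd 16438 = n16469 := ndS (p := 13370) (l := 2) rfl N13370 D16469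
theorem N16439 : nd 16439 = n16470 := ndS (p := 13370) (l := 5) rfl N13370 D16470
theorem N16440 : nd 16440 = n16471 := ndS (p := 13372) (l := 3) rfl N13372 D16471
theorem N16441 : nd 16441 = n16472 := ndS (p := 13373) (l := 2) rfl N13373 D16472
theorem N16442 : nd 16442 = n16473 := ndS (p := 13374) (l := 1) rfl N13374 D16473
theorem N16443 : nd 16443 = n16474 := ndS (p := 13376) (l := 3) rfl N13376 D16474
theorem N16444 : nd 16444 = n16475 := ndS (p := 13376) (l := 5) rfl N13376 D16475
theorem N16445 : nd 16445 = n16476 := ndS (p := 13377) (l := 2) rfl N13377 D16476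
theorem N16446 : nd 16446 = n16477 := ndS (p := 13377) (l := 4) rfl N13377 D16477
theorem N16447 : nd 16447 = n16478 := ndS (p := 13378) (l := 4) rfl N13378 D16478
theorem N16448 : nd 16448 = n16479 := ndS (p := 13379) (l := 5) rfl N13379 D16479
theorem N16449 : nd 16449 = n16480 := ndS (p := 13380) (l := 3) rfl N13380 D16480
theorem N16450 : nd 16450 = n16481 := ndS (p := 13381) (l := 4) rfl N13381 D16481
theorem N16451 : nd 16451 = n16482 := ndS (p := 13382) (l := 4) rfl N13382 D16482
theorem N16452 : nd 16452 = n16483 := ndS (p := 13384) (l := 3) rfl N13384 D16483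
theorem N16453 : nd 16453 = n16484 := ndS (p := 13386) (l := 2) rfl N13386 D16484
theorem N16454 : nd 16454 = n16485 := ndS (p := 13387) (l := 3) rfl N13387 D16485
theorem N16455 : nd 16455 = n16486 := ndS (p := 13387) (l := 5) rfl N13387 D16486
theorem N16456 : nd 16456 = n16487 := ndS (p := 13388) (l := 2) rfl N13388 D16487
theorem N16457 : nd 16457 = n16488 := ndS (p := 13388) (l := 5) rfl N13388 D16488
theorem N16458 : nd 16458 = n16489 := ndS (p := 13390) (l := 2) rfl N13390 D16489
theorem N16459 : nd 16459 = n16490 := ndS (p := 13390) (l := 5) rfl N13390 D16490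
theorem N16460 : nd 16460 = n16491 := ndS (p := 13392) (l := 1) rfl N13392 D16491
theorem N16461 : nd 16461 = n16492 := ndS (p := 13393) (l := 4) rfl N13393 D16492
theorem N16462 : nd 16462 = n16493 := ndS (p := 13394) (l := 3) rfl N13394 D16493
theorem N16463 : nd 16463 = n16494 := ndS (p := 13395) (l := 4) rfl N13395 D16494
theorem N16464 : nd 16464 = n16495 := ndS (p := 13396) (l := 5) rfl N13396 D16495
theorem N16465 : nd 16465 = n16496 := ndS (p := 13398) (l := 1) rfl N13398 D16496
theorem N16466 : nd 16466 = n16497 := ndS (p := 13398) (l := 3) rfl N13398 D16497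
theorem N16467 : nd 16467 = n16498 := ndS (p := 13398) (l := 5) rfl N13398 D16498
theorem N16468 : nd 16468 = n16499 := ndS (p := 13399) (l := 4) rfl N13399 D16499
theorem N16469 : nd 16469 = n16500 := ndS (p := 13400) (l := 5) rfl N13400 D16500
theorem N16470 : nd 16470 = n16501 := ndS (p := 13402) (l := 4) rfl N13402 D16501
theorem N16471 : nd 16471 = n16502 := ndS (p := 13404) (l := 1) rfl N13404 D16502
theorem N16472 : nd 16472 = n16503 := ndS (p := 13404) (l := 4) rfl N13404 D16503
theorem N16473 : nd 16473 = n16504 := ndS (p := 13405) (l := 5) rfl N13405 D16504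
theorem N16474 : nd 16474 = n16505 := ndS (p := 13406) (l := 2) rfl N13406 D16505
theorem N16475 : nd 16475 = n16506 := ndS (p := 13406) (l := 5) rfl N13406 D16506
theorem N16476 : nd 16476 = n16507 := ndS (p := 13408) (l := 1) rfl N13408 D16507
theorem N16477 : nd 16477 = n16508 := ndS (p := 13408) (l := 3) rfl N13408 D16508
theorem N16478 : nd 16478 = n16509 := ndS (p := 13408) (l := 5) rfl N13408 D16509
theorem N16479 : nd 16479 = n16510 := ndS (p := 13409) (l := 4) rfl N13409 D16510
theorem N16480 : nd 16480 = n16511 := ndS (p := 13410) (l := 3) rfl N13410 D16511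
theorem N16481 : nd 16481 = n16512 := ndS (p := 13411) (l := 2) rfl N13411 D16512
theorem N16482 : nd 16482 = n16513 := ndS (p := 13412) (l := 0) rfl N13412 D16513
theorem N16483 : nd 16483 = n16514 := ndS (p := 13413) (l := 3) rfl N13413 D16514
theorem N16484 : nd 16484 = n16515 := ndS (p := 13414) (l := 2) rfl N13414 D16515
theorem N16485 : nd 16485 = n16516 := ndS (p := 13415) (l := 1) rfl N13415 D16516
theorem N16486 : nd 16486 = n16517 := ndS (p := 13417) (l := 2) rfl N13417 D16517
theorem N16487 : nd 16487 = n16518 := ndS (p := 13419) (l := 1) rfl N13419 D16518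
theorem N16488 : nd 16488 = n16519 := ndS (p := 13419) (l := 5) rfl N13419 D16519
theorem N16489 : nd 16489 = n16520 := ndS (p := 13420) (l := 4) rfl N13420 D16520
theorem N16490 : nd 16490 = n16521 := ndS (p := 13421) (l := 1) rfl N13421 D16521
theorem N16491 : nd 16491 = n16522 := ndS (p := 13421) (l := 3) rfl N13421 D16522
theorem N16492 : nd 16492 = n16523 := ndS (p := 13421) (l := 5) rfl N13421 D16523
theorem N16493 : nd 16493 = n16524 := ndS (p := 13422) (l := 4) rfl N13422 D16524
theorem N16494 : nd 16494 = n16525 := ndS (p := 13423) (l := 0) rfl N13423 D16525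
theorem N16495 : nd 16495 = n16526 := ndS (p := 13423) (l := 3) rfl N13423 D16526
theorem N16496 : nd 16496 = n16527 := ndS (p := 13423) (l := 5) rfl N13423 D16527
theorem N16497 : nd 16497 = n16528 := ndS (p := 13424) (l := 4) rfl N13424 D16528
theorem N16498 : nd 16498 = n16529 := ndS (p := 13424) (l := 5) rfl N13424 D16529
theorem N16499 : nd 16499 = n16530 := ndS (p := 13425) (l := 4) rfl N13425 D16530
theorem N16500 : nd 16500 = n16531 := ndS (p := 13427) (l := 0) rfl N13427 D16531
theorem N16501 : nd 16501 = n16532 := ndS (p := 13427) (l := 3) rfl N13427 D16532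
theorem N16502 : nd 16502 = n16533 := ndS (p := 13427) (l := 5) rfl N13427 D16533
theorem N16503 : nd 16503 = n16534 := ndS (p := 13428) (l := 4) rfl N13428 D16534
theorem N16504 : nd 16504 = n16535 := ndS (p := 13429) (l := 4) rfl N13429 D16535
theorem N16505 : nd 16505 = n16536 := ndS (p := 13430) (l := 3) rfl N13430 D16536
theorem N16506 : nd 16506 = n16537 := ndS (p := 13431) (l := 2) rfl N13431 D16537
theorem N16507 : nd 16507 = n16538 := ndS (p := 13432) (l := 1) rfl N13432 D16538
theorem N16508 : nd 16508 = n16539 := ndS (p := 13432) (l := 3) rfl N13432 D16539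
theorem N16509 : nd 16509 = n16540 := ndS (p := 13433) (l := 3) rfl N13433 D16540
theorem N16510 : nd 16510 = n16541 := ndS (p := 13433) (l := 5) rfl N13433 D16541
theorem N16511 : nd 16511 = n16542 := ndS (p := 13434) (l := 2) rfl N13434 D16542
theorem N16512 : nd 16512 = n16543 := ndS (p := 13434) (l := 4) rfl N13434 D16543
theorem N16513 : nd 16513 = n16544 := ndS (p := 13435) (l := 4) rfl N13435 D16544
theorem N16514 : nd 16514 = n16545 := ndS (p := 13438) (l := 2) rfl N13438 D16545
theorem N16515 : nd 16515 = n16546 := ndS (p := 13439) (l := 1) rfl N13439 D16546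
theorem N16516 : nd 16516 = n16547 := ndS (p := 13442) (l := 1) rfl N13442 D16547
theorem N16517 : nd 16517 = n16548 := ndS (p := 13445) (l := 4) rfl N13445 D16548
theorem N16518 : nd 16518 = n16549 := ndS (p := 13446) (l := 5) rfl N13446 D16549
theorem N16519 : nd 16519 = n16550 := ndS (p := 13447) (l := 1) rfl N13447 D16550
theorem N16520 : nd 16520 = n16551 := ndS (p := 13447) (l := 3) rfl N13447 D16551
theorem N16521 : nd 16521 = n16552 := ndS (p := 13447) (l := 5) rfl N13447 D16552
theorem N16522 : nd 16522 = n16553 := ndS (p := 13448) (l := 4) rfl N13448 D16553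
theorem N16523 : nd 16523 = n16554 := ndS (p := 13449) (l := 0) rfl N13449 D16554
theorem N16524 : nd 16524 = n16555 := ndS (p := 13449) (l := 3) rfl N13449 D16555
theorem N16525 : nd 16525 = n16556 := ndS (p := 13450) (l := 4) rfl N13450 D16556
theorem N16526 : nd 16526 = n16557 := ndS (p := 13451) (l := 4) rfl N13451 D16557
theorem N16527 : nd 16527 = n16558 := ndS (p := 13453) (l := 0) rfl N13453 D16558
theorem N16528 : nd 16528 = n16559 := ndS (p := 13456) (l := 3) rfl N13456 D16559
theorem N16529 : nd 16529 = n16560 := ndS (p := 13456) (l := 5) rfl N13456 D16560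
theorem N16530 : nd 16530 = n16561 := ndS (p := 13457) (l := 2) rfl N13457 D16561
theorem N16531 : nd 16531 = n16562 := ndS (p := 13457) (l := 4) rfl N13457 D16562
theorem N16532 : nd 16532 = n16563 := ndS (p := 13458) (l := 4) rfl N13458 D16563
theorem N16533 : nd 16533 = n16564 := ndS (p := 13461) (l := 2) rfl N13461 D16564
theorem N16534 : nd 16534 = n16565 := ndS (p := 13461) (l := 4) rfl N13461 D16565
theorem N16535 : nd 16535 = n16566 := ndS (p := 13462) (l := 4) rfl N13462 D16566
theorem N16536 : nd 16536 = n16567 := ndS (p := 13463) (l := 4) rfl N13463 D16567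
theorem N16537 : nd 16537 = n16568 := ndS (p := 13466) (l := 4) rfl N13466 D16568
theorem N16538 : nd 16538 = n16569 := ndS (p := 13467) (l := 4) rfl N13467 D16569
theorem N16539 : nd 16539 = n16570 := ndS (p := 13468) (l := 5) rfl N13468 D16570
theorem N16540 : nd 16540 = n16571 := ndS (p := 13469) (l := 3) rfl N13469 D16571
theorem N16541 : nd 16541 = n16572 := ndS (p := 13470) (l := 2) rfl N13470 D16572
theorem N16542 : nd 16542 = n16573 := ndS (p := 13470) (l := 4) rfl N13470 D16573
theorem N16543 : nd 16543 = n16574 := ndS (p := 13471) (l := 4) rfl N13471 D16574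
theorem N16544 : nd 16544 = n16575 := ndS (p := 13472) (l := 5) rfl N13472 D16575
theorem N16545 : nd 16545 = n16576 := ndS (p := 13473) (l := 3) rfl N13473 D16576
theorem N16546 : nd 16546 = n16577 := ndS (p := 13474) (l := 4) rfl N13474 D16577
theorem N16547 : nd 16547 = n16578 := ndS (p := 13475) (l := 1) rfl N13475 D16578
theorem N16548 : nd 16548 = n16579 := ndS (p := 13475) (l := 4) rfl N13475 D16579
theorem N16549 : nd 16549 = n16580 := ndS (p := 13476) (l := 5) rfl N13476 D16580
theorem N16550 : nd 16550 = n16581 := ndS (p := 13477) (l := 4) rfl N13477 D16581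
theorem N16551 : nd 16551 = n16582 := ndS (p := 13478) (l := 3) rfl N13478 D16582
theorem N16552 : nd 16552 = n16583 := ndS (p := 13478) (l := 5) rfl N13478 D16583
theorem N16553 : nd 16553 = n16584 := ndS (p := 13479) (l := 4) rfl N13479 D16584
theorem N16554 : nd 16554 = n16585 := ndS (p := 13480) (l := 3) rfl N13480 D16585
theorem N16555 : nd 16555 = n16586 := ndS (p := 13481) (l := 2) rfl N13481 D16586
theorem N16556 : nd 16556 = n16587 := ndS (p := 13482) (l := 3) rfl N13482 D16587
theorem N16557 : nd 16557 = n16588 := ndS (p := 13483) (l := 3) rfl N13483 D16588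
theorem N16558 : nd 16558 = n16589 := ndS (p := 13486) (l := 1) rfl N13486 D16589
theorem N16559 : nd 16559 = n16590 := ndS (p := 13486) (l := 5) rfl N13486 D16590
theorem N16560 : nd 16560 = n16591 := ndS (p := 13487) (l := 4) rfl N13487 D16591
theorem N16561 : nd 16561 = n16592 := ndS (p := 13488) (l := 0) rfl N13488 D16592
theorem N16562 : nd 16562 = n16593 := ndS (p := 13488) (l := 3) rfl N13488 D16593
theorem N16563 : nd 16563 = n16594 := ndS (p := 13488) (l := 4) rfl N13488 D16594
theorem N16564 : nd 16564 = n16595 := ndS (p := 13489) (l := 4) rfl N13489 D16595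
theorem N16565 : nd 16565 = n16596 := ndS (p := 13489) (l := 5) rfl N13489 D16596
theorem N16566 : nd 16566 = n16597 := ndS (p := 13490) (l := 3) rfl N13490 D16597
theorem N16567 : nd 16567 = n16598 := ndS (p := 13490) (l := 5) rfl N13490 D16598
theorem N16568 : nd 16568 = n16599 := ndS (p := 13491) (l := 4) rfl N13491 D16599
theorem N16569 : nd 16569 = n16600 := ndS (p := 13492) (l := 4) rfl N13492 D16600
theorem N16570 : nd 16570 = n16601 := ndS (p := 13494) (l := 4) rfl N13494 D16601
theorem N16571 : nd 16571 = n16602 := ndS (p := 13495) (l := 3) rfl N13495 D16602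
theorem N16572 : nd 16572 = n16603 := ndS (p := 13495) (l := 5) rfl N13495 D16603
theorem N16573 : nd 16573 = n16604 := ndS (p := 13496) (l := 2) rfl N13496 D16604
theorem N16574 : nd 16574 = n16605 := ndS (p := 13496) (l := 5) rfl N13496 D16605
theorem N16575 : nd 16575 = n16606 := ndS (p := 13498) (l := 3) rfl N13498 D16606
theorem N16576 : nd 16576 = n16607 := ndS (p := 13499) (l := 2) rfl N13499 D16607
theorem N16577 : nd 16577 = n16608 := ndS (p := 13500) (l := 1) rfl N13500 D16608
theorem N16578 : nd 16578 = n16609 := ndS (p := 13501) (l := 3) rfl N13501 D16609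
theorem N16579 : nd 16579 = n16610 := ndS (p := 13502) (l := 4) rfl N13502 D16610
theorem N16580 : nd 16580 = n16611 := ndS (p := 13503) (l := 1) rfl N13503 D16611
theorem N16581 : nd 16581 = n16612 := ndS (p := 13503) (l := 4) rfl N13503 D16612
theorem N16582 : nd 16582 = n16613 := ndS (p := 13504) (l := 5) rfl N13504 D16613
theorem N16583 : nd 16583 = n16614 := ndS (p := 13505) (l := 3) rfl N13505 D16614
theorem N16584 : nd 16584 = n16615 := ndS (p := 13506) (l := 2) rfl N13506 D16615
theorem N16585 : nd 16585 = n16616 := ndS (p := 13506) (l := 4) rfl N13506 D16616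
theorem N16586 : nd 16586 = n16617 := ndS (p := 13507) (l := 5) rfl N13507 D16617
theorem N16587 : nd 16587 = n16618 := ndS (p := 13514) (l := 3) rfl N13514 D16618
theorem N16588 : nd 16588 = n16619 := ndS (p := 13514) (l := 5) rfl N13514 D16619
theorem N16589 : nd 16589 = n16620 := ndS (p := 13522) (l := 1) rfl N13522 D16620
theorem N16590 : nd 16590 = n16621 := ndS (p := 13522) (l := 4) rfl N13522 D16621
theorem N16591 : nd 16591 = n16622 := ndS (p := 13525) (l := 2) rfl N13525 D16622
theorem N16592 : nd 16592 = n16623 := ndS (p := 13529) (l := 2) rfl N13529 D16623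
theorem N16593 : nd 16593 = n16624 := ndS (p := 13530) (l := 3) rfl N13530 D16624
theorem N16594 : nd 16594 = n16625 := ndS (p := 13531) (l := 1) rfl N13531 D16625
theorem N16595 : nd 16595 = n16626 := ndS (p := 13531) (l := 3) rfl N13531 D16626
theorem N16596 : nd 16596 = n16627 := ndS (p := 13531) (l := 4) rfl N13531 D16627
theorem N16597 : nd 16597 = n16628 := ndS (p := 13533) (l := 2) rfl N13533 D16628
theorem N16598 : nd 16598 = n16629 := ndS (p := 13533) (l := 4) rfl N13533 D16629
theorem N16599 : nd 16599 = n16630 := ndS (p := 13534) (l := 3) rfl N13534 D16630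
theorem N16600 : nd 16600 = n16631 := ndS (p := 13535) (l := 0) rfl N13535 D16631
theorem N16601 : nd 16601 = n16632 := ndS (p := 13536) (l := 3) rfl N13536 D16632
theorem N16602 : nd 16602 = n16633 := ndS (p := 13537) (l := 2) rfl N13537 D16633
theorem N16603 : nd 16603 = n16634 := ndS (p := 13537) (l := 4) rfl N13537 D16634
theorem N16604 : nd 16604 = n16635 := ndS (p := 13538) (l := 5) rfl N13538 D16635
theorem N16605 : nd 16605 = n16636 := ndS (p := 13539) (l := 5) rfl N13539 D16636
theorem N16606 : nd 16606 = n16637 := ndS (p := 13541) (l := 4) rfl N13541 D16637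
theorem N16607 : nd 16607 = n16638 := ndS (p := 13543) (l := 5) rfl N13543 D16638
theorem N16608 : nd 16608 = n16639 := ndS (p := 13545) (l := 2) rfl N13545 D16639
theorem N16609 : nd 16609 = n16640 := ndS (p := 13548) (l := 2) rfl N13548 D16640
theorem N16610 : nd 16610 = n16641 := ndS (p := 13551) (l := 2) rfl N13551 D16641
theorem N16611 : nd 16611 = n16642 := ndS (p := 13552) (l := 1) rfl N13552 D16642
theorem N16612 : nd 16612 = n16643 := ndS (p := 13553) (l := 0) rfl N13553 D16643
theorem N16613 : nd 16613 = n16644 := ndS (p := 13554) (l := 2) rfl N13554 D16644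
theorem N16614 : nd 16614 = n16645 := ndS (p := 13554) (l := 4) rfl N13554 D16645
theorem N16615 : nd 16615 = n16646 := ndS (p := 13555) (l := 5) rfl N13555 D16646
theorem N16616 : nd 16616 = n16647 := ndS (p := 13556) (l := 0) rfl N13556 D16647
theorem N16617 : nd 16617 = n16648 := ndS (p := 13556) (l := 4) rfl N13556 D16648
theorem N16618 : nd 16618 = n16649 := ndS (p := 13557) (l := 5) rfl N13557 D16649
theorem N16619 : nd 16619 = n16650 := ndS (p := 13559) (l := 1) rfl N13559 D16650
theorem N16620 : nd 16620 = n16651 := ndS (p := 13559) (l := 3) rfl N13559 D16651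
theorem N16621 : nd 16621 = n16652 := ndS (p := 13559) (l := 5) rfl N13559 D16652
theorem N16622 : nd 16622 = n16653 := ndS (p := 13561) (l := 0) rfl N13561 D16653
theorem N16623 : nd 16623 = n16654 := ndS (p := 13561) (l := 3) rfl N13561 D16654
theorem N16624 : nd 16624 = n16655 := ndS (p := 13561) (l := 5) rfl N13561 D16655
theorem N16625 : nd 16625 = n16656 := ndS (p := 13564) (l := 3) rfl N13564 D16656
theorem N16626 : nd 16626 = n16657 := ndS (p := 13565) (l := 2) rfl N13565 D16657
theorem N16627 : nd 16627 = n16658 := ndS (p := 13565) (l := 4) rfl N13565 D16658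
theorem N16628 : nd 16628 = n16659 := ndS (p := 13566) (l := 5) rfl N13566 D16659
theorem N16629 : nd 16629 = n16660 := ndS (p := 13567) (l := 4) rfl N13567 D16660
theorem N16630 : nd 16630 = n16661 := ndS (p := 13568) (l := 1) rfl N13568 D16661
theorem N16631 : nd 16631 = n16662 := ndS (p := 13568) (l := 4) rfl N13568 D16662
theorem N16632 : nd 16632 = n16663 := ndS (p := 13569) (l := 5) rfl N13569 D16663
theorem N16633 : nd 16633 = n16664 := ndS (p := 13570) (l := 0) rfl N13570 D16664
theorem N16634 : nd 16634 = n16665 := ndS (p := 13570) (l := 4) rfl N13570 D16665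
theorem N16635 : nd 16635 = n16666 := ndS (p := 13571) (l := 5) rfl N13571 D16666
theorem N16636 : nd 16636 = n16667 := ndS (p := 13573) (l := 2) rfl N13573 D16667
theorem N16637 : nd 16637 = n16668 := ndS (p := 13573) (l := 5) rfl N13573 D16668
theorem N16638 : nd 16638 = n16669 := ndS (p := 13577) (l := 3) rfl N13577 D16669
theorem N16639 : nd 16639 = n16670 := ndS (p := 13581) (l := 2) rfl N13581 D16670
theorem N16640 : nd 16640 = n16671 := ndS (p := 13581) (l := 5) rfl N13581 D16671
theorem N16641 : nd 16641 = n16672 := ndS (p := 13583) (l := 1) rfl N13583 D16672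
theorem N16642 : nd 16642 = n16673 := ndS (p := 13583) (l := 3) rfl N13583 D16673
theorem N16643 : nd 16643 = n16674 := ndS (p := 13583) (l := 5) rfl N13583 D16674
theorem N16644 : nd 16644 = n16675 := ndS (p := 13584) (l := 4) rfl N13584 D16675
theorem N16645 : nd 16645 = n16676 := ndS (p := 13585) (l := 0) rfl N13585 D16676
theorem N16646 : nd 16646 = n16677 := ndS (p := 13585) (l := 3) rfl N13585 D16677
theorem N16647 : nd 16647 = n16678 := ndS (p := 13585) (l := 5) rfl N13585 D16678
theorem N16648 : nd 16648 = n16679 := ndS (p := 13586) (l := 2) rfl N13586 D16679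
theorem N16649 : nd 16649 = n16680 := ndS (p := 13586) (l := 4) rfl N13586 D16680
theorem N16650 : nd 16650 = n16681 := ndS (p := 13586) (l := 5) rfl N13586 D16681
theorem N16651 : nd 16651 = n16682 := ndS (p := 13588) (l := 3) rfl N13588 D16682
theorem N16652 : nd 16652 = n16683 := ndS (p := 13589) (l := 2) rfl N13589 D16683
theorem N16653 : nd 16653 = n16684 := ndS (p := 13589) (l := 4) rfl N13589 D16684
theorem N16654 : nd 16654 = n16685 := ndS (p := 13592) (l := 2) rfl N13592 D16685
theorem N16655 : nd 16655 = n16686 := ndS (p := 13593) (l := 3) rfl N13593 D16686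
theorem N16656 : nd 16656 = n16687 := ndS (p := 13594) (l := 0) rfl N13594 D16687
theorem N16657 : nd 16657 = n16688 := ndS (p := 13594) (l := 3) rfl N13594 D16688
theorem N16658 : nd 16658 = n16689 := ndS (p := 13595) (l := 4) rfl N13595 D16689
theorem N16659 : nd 16659 = n16690 := ndS (p := 13596) (l := 4) rfl N13596 D16690
theorem N16660 : nd 16660 = n16691 := ndS (p := 13599) (l := 2) rfl N13599 D16691
theorem N16661 : nd 16661 = n16692 := ndS (p := 13600) (l := 1) rfl N13600 D16692
theorem N16662 : nd 16662 = n16693 := ndS (p := 13601) (l := 0) rfl N13601 D16693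
theorem N16663 : nd 16663 = n16694 := ndS (p := 13601) (l := 3) rfl N13601 D16694
theorem N16664 : nd 16664 = n16695 := ndS (p := 13603) (l := 3) rfl N13603 D16695
theorem N16665 : nd 16665 = n16696 := ndS (p := 13605) (l := 3) rfl N13605 D16696
theorem N16666 : nd 16666 = n16697 := ndS (p := 13606) (l := 2) rfl N13606 D16697
theorem N16667 : nd 16667 = n16698 := ndS (p := 13606) (l := 4) rfl N13606 D16698
theorem N16668 : nd 16668 = n16699 := ndS (p := 13607) (l := 1) rfl N13607 D16699
theorem N16669 : nd 16669 = n16700 := ndS (p := 13607) (l := 4) rfl N13607 D16700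
theorem N16670 : nd 16670 = n16701 := ndS (p := 13609) (l := 2) rfl N13609 D16701
theorem N16671 : nd 16671 = n16702 := ndS (p := 13609) (l := 4) rfl N13609 D16702
theorem N16672 : nd 16672 = n16703 := ndS (p := 13610) (l := 3) rfl N13610 D16703
theorem N16673 : nd 16673 = n16704 := ndS (p := 13610) (l := 4) rfl N13610 D16704
theorem N16674 : nd 16674 = n16705 := ndS (p := 13612) (l := 4) rfl N13612 D16705
theorem N16675 : nd 16675 = n16706 := ndS (p := 13613) (l := 4) rfl N13613 D16706
theorem N16676 : nd 16676 = n16707 := ndS (p := 13615) (l := 3) rfl N13615 D16707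
theorem N16677 : nd 16677 = n16708 := ndS (p := 13615) (l := 5) rfl N13615 D16708
theorem N16678 : nd 16678 = n16709 := ndS (p := 13616) (l := 4) rfl N13616 D16709
theorem N16679 : nd 16679 = n16710 := ndS (p := 13617) (l := 4) rfl N13617 D16710
theorem N16680 : nd 16680 = n16711 := ndS (p := 13618) (l := 5) rfl N13618 D16711
theorem N16681 : nd 16681 = n16712 := ndS (p := 13619) (l := 3) rfl N13619 D16712
theorem N16682 : nd 16682 = n16713 := ndS (p := 13620) (l := 2) rfl N13620 D16713
theorem N16683 : nd 16683 = n16714 := ndS (p := 13621) (l := 1) rfl N13621 D16714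
theorem N16684 : nd 16684 = n16715 := ndS (p := 13622) (l := 0) rfl N13622 D16715
theorem N16685 : nd 16685 = n16716 := ndS (p := 13623) (l := 4) rfl N13623 D16716
theorem N16686 : nd 16686 = n16717 := ndS (p := 13624) (l := 3) rfl N13624 D16717
theorem N16687 : nd 16687 = n16718 := ndS (p := 13625) (l := 2) rfl N13625 D16718
theorem N16688 : nd 16688 = n16719 := ndS (p := 13626) (l := 1) rfl N13626 D16719
theorem N16689 : nd 16689 = n16720 := ndS (p := 13626) (l := 3) rfl N13626 D16720
theorem N16690 : nd 16690 = n16721 := ndS (p := 13627) (l := 0) rfl N13627 D16721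
theorem N16691 : nd 16691 = n16722 := ndS (p := 13628) (l := 3) rfl N13628 D16722
theorem N16692 : nd 16692 = n16723 := ndS (p := 13629) (l := 2) rfl N13629 D16723
theorem N16693 : nd 16693 = n16724 := ndS (p := 13629) (l := 4) rfl N13629 D16724
theorem N16694 : nd 16694 = n16725 := ndS (p := 13632) (l := 4) rfl N13632 D16725
theorem N16695 : nd 16695 = n16726 := ndS (p := 13633) (l := 1) rfl N13633 D16726
theorem N16696 : nd 16696 = n16727 := ndS (p := 13633) (l := 4) rfl N13633 D16727
theorem N16697 : nd 16697 = n16728 := ndS (p := 13635) (l := 0) rfl N13635 D16728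
theorem N16698 : nd 16698 = n16729 := ndS (p := 13635) (l := 4) rfl N13635 D16729
theorem N16699 : nd 16699 = n16730 := ndS (p := 13636) (l := 3) rfl N13636 D16730
theorem N16700 : nd 16700 = n16731 := ndS (p := 13637) (l := 1) rfl N13637 D16731
theorem N16701 : nd 16701 = n16732 := ndS (p := 13637) (l := 4) rfl N13637 D16732
theorem N16702 : nd 16702 = n16733 := ndS (p := 13640) (l := 3) rfl N13640 D16733
theorem N16703 : nd 16703 = n16734 := ndS (p := 13641) (l := 0) rfl N13641 D16734
theorem N16704 : nd 16704 = n16735 := ndS (p := 13641) (l := 4) rfl N13641 D16735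
theorem N16705 : nd 16705 = n16736 := ndS (p := 13642) (l := 3) rfl N13642 D16736
theorem N16706 : nd 16706 = n16737 := ndS (p := 13642) (l := 5) rfl N13642 D16737
theorem N16707 : nd 16707 = n16738 := ndS (p := 13644) (l := 3) rfl N13644 D16738
theorem N16708 : nd 16708 = n16739 := ndS (p := 13645) (l := 4) rfl N13645 D16739
theorem N16709 : nd 16709 = n16740 := ndS (p := 13646) (l := 1) rfl N13646 D16740
theorem N16710 : nd 16710 = n16741 := ndS (p := 13646) (l := 4) rfl N13646 D16741
theorem N16711 : nd 16711 = n16742 := ndS (p := 13647) (l := 5) rfl N13647 D16742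
theorem N16712 : nd 16712 = n16743 := ndS (p := 13655) (l := 2) rfl N13655 D16743
theorem N16713 : nd 16713 = n16744 := ndS (p := 13656) (l := 1) rfl N13656 D16744
theorem N16714 : nd 16714 = n16745 := ndS (p := 13656) (l := 3) rfl N13656 D16745
theorem N16715 : nd 16715 = n16746 := ndS (p := 13657) (l := 0) rfl N13657 D16746
theorem N16716 : nd 16716 = n16747 := ndS (p := 13662) (l := 3) rfl N13662 D16747
theorem N16717 : nd 16717 = n16748 := ndS (p := 13662) (l := 5) rfl N13662 D16748
theorem N16718 : nd 16718 = n16749 := ndS (p := 13664) (l := 3) rfl N13664 D16749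
theorem N16719 : nd 16719 = n16750 := ndS (p := 13665) (l := 4) rfl N13665 D16750
theorem N16720 : nd 16720 = n16751 := ndS (p := 13669) (l := 0) rfl N13669 D16751
theorem N16721 : nd 16721 = n16752 := ndS (p := 13671) (l := 3) rfl N13671 D16752
theorem N16722 : nd 16722 = n16753 := ndS (p := 13672) (l := 2) rfl N13672 D16753
theorem N16723 : nd 16723 = n16754 := ndS (p := 13675) (l := 5) rfl N13675 D16754
theorem N16724 : nd 16724 = n16755 := ndS (p := 13677) (l := 3) rfl N13677 D16755
theorem N16725 : nd 16725 = n16756 := ndS (p := 13677) (l := 5) rfl N13677 D16756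
theorem N16726 : nd 16726 = n16757 := ndS (p := 13680) (l := 4) rfl N13680 D16757
theorem N16727 : nd 16727 = n16758 := ndS (p := 13681) (l := 0) rfl N13681 D16758
theorem N16728 : nd 16728 = n16759 := ndS (p := 13683) (l := 2) rfl N13683 D16759
theorem N16729 : nd 16729 = n16760 := ndS (p := 13683) (l := 4) rfl N13683 D16760
theorem N16730 : nd 16730 = n16761 := ndS (p := 13684) (l := 5) rfl N13684 D16761
theorem N16731 : nd 16731 = n16762 := ndS (p := 13685) (l := 0) rfl N13685 D16762
theorem N16732 : nd 16732 = n16763 := ndS (p := 13685) (l := 3) rfl N13685 D16763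
theorem N16733 : nd 16733 = n16764 := ndS (p := 13685) (l := 5) rfl N13685 D16764
theorem N16734 : nd 16734 = n16765 := ndS (p := 13687) (l := 4) rfl N13687 D16765
theorem N16735 : nd 16735 = n16766 := ndS (p := 13689) (l := 3) rfl N13689 D16766
theorem N16736 : nd 16736 = n16767 := ndS (p := 13689) (l := 5) rfl N13689 D16767
theorem N16737 : nd 16737 = n16768 := ndS (p := 13690) (l := 2) rfl N13690 D16768
theorem N16738 : nd 16738 = n16769 := ndS (p := 13690) (l := 4) rfl N13690 D16769
theorem N16739 : nd 16739 = n16770 := ndS (p := 13691) (l := 4) rfl N13691 D16770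
theorem N16740 : nd 16740 = n16771 := ndS (p := 13692) (l := 5) rfl N13692 D16771
theorem N16741 : nd 16741 = n16772 := ndS (p := 13693) (l := 3) rfl N13693 D16772
theorem N16742 : nd 16742 = n16773 := ndS (p := 13694) (l := 0) rfl N13694 D16773
theorem N16743 : nd 16743 = n16774 := ndS (p := 13694) (l := 4) rfl N13694 D16774
theorem N16744 : nd 16744 = n16775 := ndS (p := 13695) (l := 3) rfl N13695 D16775
theorem N16745 : nd 16745 = n16776 := ndS (p := 13695) (l := 5) rfl N13695 D16776
theorem N16746 : nd 16746 = n16777 := ndS (p := 13698) (l := 3) rfl N13698 D16777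
theorem N16747 : nd 16747 = n16778 := ndS (p := 13698) (l := 5) rfl N13698 D16778
theorem N16748 : nd 16748 = n16779 := ndS (p := 13699) (l := 4) rfl N13699 D16779
theorem N16749 : nd 16749 = n16780 := ndS (p := 13700) (l := 3) rfl N13700 D16780
theorem N16750 : nd 16750 = n16781 := ndS (p := 13701) (l := 2) rfl N13701 D16781
theorem N16751 : nd 16751 = n16782 := ndS (p := 13702) (l := 1) rfl N13702 D16782
theorem N16752 : nd 16752 = n16783 := ndS (p := 13702) (l := 3) rfl N13702 D16783
theorem N16753 : nd 16753 = n16784 := ndS (p := 13704) (l := 2) rfl N13704 D16784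
theorem N16754 : nd 16754 = n16785 := ndS (p := 13705) (l := 1) rfl N13705 D16785
theorem N16755 : nd 16755 = n16786 := ndS (p := 13706) (l := 0) rfl N13706 D16786
theorem N16756 : nd 16756 = n16787 := ndS (p := 13709) (l := 1) rfl N13709 D16787
theorem N16757 : nd 16757 = n16788 := ndS (p := 13709) (l := 3) rfl N13709 D16788
theorem N16758 : nd 16758 = n16789 := ndS (p := 13711) (l := 2) rfl N13711 D16789
theorem N16759 : nd 16759 = n16790 := ndS (p := 13712) (l := 1) rfl N13712 D16790
theorem N16760 : nd 16760 = n16791 := ndS (p := 13713) (l := 0) rfl N13713 D16791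
theorem N16761 : nd 16761 = n16792 := ndS (p := 13714) (l := 1) rfl N13714 D16792
theorem N16762 : nd 16762 = n16793 := ndS (p := 13714) (l := 3) rfl N13714 D16793
theorem N16763 : nd 16763 = n16794 := ndS (p := 13715) (l := 0) rfl N13715 D16794
theorem N16764 : nd 16764 = n16795 := ndS (p := 13717) (l := 0) rfl N13717 D16795
theorem N16765 : nd 16765 = n16796 := ndS (p := 13717) (l := 4) rfl N13717 D16796
theorem N16766 : nd 16766 = n16797 := ndS (p := 13718) (l := 3) rfl N13718 D16797
theorem N16767 : nd 16767 = n16798 := ndS (p := 13719) (l := 1) rfl N13719 D16798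
theorem N16768 : nd 16768 = n16799 := ndS (p := 13719) (l := 4) rfl N13719 D16799
theorem N16769 : nd 16769 = n16800 := ndS (p := 13721) (l := 4) rfl N13721 D16800
theorem N16770 : nd 16770 = n16801 := ndS (p := 13722) (l := 3) rfl N13722 D16801
theorem N16771 : nd 16771 = n16802 := ndS (p := 13724) (l := 2) rfl N13724 D16802
theorem N16772 : nd 16772 = n16803 := ndS (p := 13724) (l := 5) rfl N13724 D16803
theorem N16773 : nd 16773 = n16804 := ndS (p := 13726) (l := 1) rfl N13726 D16804
theorem N16774 : nd 16774 = n16805 := ndS (p := 13726) (l := 3) rfl N13726 D16805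
theorem N16775 : nd 16775 = n16806 := ndS (p := 13726) (l := 5) rfl N13726 D16806
theorem N16776 : nd 16776 = n16807 := ndS (p := 13727) (l := 4) rfl N13727 D16807
theorem N16777 : nd 16777 = n16808 := ndS (p := 13728) (l := 1) rfl N13728 D16808
theorem N16778 : nd 16778 = n16809 := ndS (p := 13728) (l := 3) rfl N13728 D16809
theorem N16779 : nd 16779 = n16810 := ndS (p := 13728) (l := 5) rfl N13728 D16810
theorem N16780 : nd 16780 = n16811 := ndS (p := 13729) (l := 4) rfl N13729 D16811
theorem N16781 : nd 16781 = n16812 := ndS (p := 13730) (l := 0) rfl N13730 D16812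
theorem N16782 : nd 16782 = n16813 := ndS (p := 13732) (l := 2) rfl N13732 D16813
theorem N16783 : nd 16783 = n16814 := ndS (p := 13732) (l := 5) rfl N13732 D16814
theorem N16784 : nd 16784 = n16815 := ndS (p := 13734) (l := 1) rfl N13734 D16815
theorem N16785 : nd 16785 = n16816 := ndS (p := 13734) (l := 3) rfl N13734 D16816
theorem N16786 : nd 16786 = n16817 := ndS (p := 13734) (l := 5) rfl N13734 D16817
theorem N16787 : nd 16787 = n16818 := ndS (p := 13735) (l := 4) rfl N13735 D16818
theorem N16788 : nd 16788 = n16819 := ndS (p := 13736) (l := 0) rfl N13736 D16819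
theorem N16789 : nd 16789 = n16820 := ndS (p := 13736) (l := 3) rfl N13736 D16820
theorem N16790 : nd 16790 = n16821 := ndS (p := 13736) (l := 5) rfl N13736 D16821
theorem N16791 : nd 16791 = n16822 := ndS (p := 13737) (l := 2) rfl N13737 D16822
theorem N16792 : nd 16792 = n16823 := ndS (p := 13737) (l := 4) rfl N13737 D16823
theorem N16793 : nd 16793 = n16824 := ndS (p := 13737) (l := 5) rfl N13737 D16824
theorem N16794 : nd 16794 = n16825 := ndS (p := 13738) (l := 4) rfl N13738 D16825
theorem N16795 : nd 16795 = n16826 := ndS (p := 13740) (l := 3) rfl N13740 D16826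
theorem N16796 : nd 16796 = n16827 := ndS (p := 13740) (l := 5) rfl N13740 D16827
theorem N16797 : nd 16797 = n16828 := ndS (p := 13741) (l := 2) rfl N13741 D16828
theorem N16798 : nd 16798 = n16829 := ndS (p := 13741) (l := 4) rfl N13741 D16829
theorem N16799 : nd 16799 = n16830 := ndS (p := 13742) (l := 4) rfl N13742 D16830
theorem N16800 : nd 16800 = n16831 := ndS (p := 13743) (l := 5) rfl N13743 D16831
theorem N16801 : nd 16801 = n16832 := ndS (p := 13744) (l := 3) rfl N13744 D16832
theorem N16802 : nd 16802 = n16833 := ndS (p := 13746) (l := 0) rfl N13746 D16833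
theorem N16803 : nd 16803 = n16834 := ndS (p := 13747) (l := 3) rfl N13747 D16834
theorem N16804 : nd 16804 = n16835 := ndS (p := 13748) (l := 2) rfl N13748 D16835
theorem N16805 : nd 16805 = n16836 := ndS (p := 13748) (l := 4) rfl N13748 D16836
theorem N16806 : nd 16806 = n16837 := ndS (p := 13749) (l := 5) rfl N13749 D16837
theorem N16807 : nd 16807 = n16838 := ndS (p := 13750) (l := 2) rfl N13750 D16838
theorem N16808 : nd 16808 = n16839 := ndS (p := 13750) (l := 4) rfl N13750 D16839
theorem N16809 : nd 16809 = n16840 := ndS (p := 13751) (l := 5) rfl N13751 D16840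
theorem N16810 : nd 16810 = n16841 := ndS (p := 13752) (l := 0) rfl N13752 D16841
theorem N16811 : nd 16811 = n16842 := ndS (p := 13752) (l := 4) rfl N13752 D16842
theorem N16812 : nd 16812 = n16843 := ndS (p := 13753) (l := 3) rfl N13753 D16843
theorem N16813 : nd 16813 = n16844 := ndS (p := 13753) (l := 5) rfl N13753 D16844
theorem N16814 : nd 16814 = n16845 := ndS (p := 13755) (l := 2) rfl N13755 D16845
theorem N16815 : nd 16815 = n16846 := ndS (p := 13755) (l := 4) rfl N13755 D16846
theorem N16816 : nd 16816 = n16847 := ndS (p := 13756) (l := 3) rfl N13756 D16847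
theorem N16817 : nd 16817 = n16848 := ndS (p := 13756) (l := 4) rfl N13756 D16848
theorem N16818 : nd 16818 = n16849 := ndS (p := 13757) (l := 5) rfl N13757 D16849
theorem N16819 : nd 16819 = n16850 := ndS (p := 13760) (l := 0) rfl N13760 D16850
theorem N16820 : nd 16820 = n16851 := ndS (p := 13760) (l := 4) rfl N13760 D16851
theorem N16821 : nd 16821 = n16852 := ndS (p := 13761) (l := 5) rfl N13761 D16852
theorem N16822 : nd 16822 = n16853 := ndS (p := 13763) (l := 4) rfl N13763 D16853
theorem N16823 : nd 16823 = n16854 := ndS (p := 13764) (l := 3) rfl N13764 D16854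
theorem N16824 : nd 16824 = n16855 := ndS (p := 13764) (l := 5) rfl N13764 D16855
theorem N16825 : nd 16825 = n16856 := ndS (p := 13765) (l := 2) rfl N13765 D16856
theorem N16826 : nd 16826 = n16857 := ndS (p := 13765) (l := 5) rfl N13765 D16857
theorem N16827 : nd 16827 = n16858 := ndS (p := 13767) (l := 1) rfl N13767 D16858
theorem N16828 : nd 16828 = n16859 := ndS (p := 13767) (l := 3) rfl N13767 D16859
theorem N16829 : nd 16829 = n16860 := ndS (p := 13767) (l := 5) rfl N13767 D16860
theorem N16830 : nd 16830 = n16861 := ndS (p := 13768) (l := 4) rfl N13768 D16861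
theorem N16831 : nd 16831 = n16862 := ndS (p := 13769) (l := 0) rfl N13769 D16862
theorem N16832 : nd 16832 = n16863 := ndS (p := 13769) (l := 3) rfl N13769 D16863
theorem N16833 : nd 16833 = n16864 := ndS (p := 13770) (l := 4) rfl N13770 D16864
theorem N16834 : nd 16834 = n16865 := ndS (p := 13771) (l := 4) rfl N13771 D16865
theorem N16835 : nd 16835 = n16866 := ndS (p := 13773) (l := 0) rfl N13773 D16866
theorem N16836 : nd 16836 = n16867 := ndS (p := 13773) (l := 3) rfl N13773 D16867
theorem N16837 : nd 16837 = n16868 := ndS (p := 13773) (l := 5) rfl N13773 D16868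
theorem N16838 : nd 16838 = n16869 := ndS (p := 13774) (l := 2) rfl N13774 D16869
theorem N16839 : nd 16839 = n16870 := ndS (p := 13774) (l := 5) rfl N13774 D16870
theorem N16840 : nd 16840 = n16871 := ndS (p := 13778) (l := 0) rfl N13778 D16871
theorem N16841 : nd 16841 = n16872 := ndS (p := 13778) (l := 3) rfl N13778 D16872
theorem N16842 : nd 16842 = n16873 := ndS (p := 13778) (l := 5) rfl N13778 D16873
theorem N16843 : nd 16843 = n16874 := ndS (p := 13779) (l := 4) rfl N13779 D16874
theorem N16844 : nd 16844 = n16875 := ndS (p := 13780) (l := 4) rfl N13780 D16875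
theorem N16845 : nd 16845 = n16876 := ndS (p := 13782) (l := 3) rfl N13782 D16876
theorem N16846 : nd 16846 = n16877 := ndS (p := 13782) (l := 5) rfl N13782 D16877
theorem N16847 : nd 16847 = n16878 := ndS (p := 13783) (l := 2) rfl N13783 D16878
theorem N16848 : nd 16848 = n16879 := ndS (p := 13783) (l := 4) rfl N13783 D16879
theorem N16849 : nd 16849 = n16880 := ndS (p := 13783) (l := 5) rfl N13783 D16880
theorem N16850 : nd 16850 = n16881 := ndS (p := 13784) (l := 4) rfl N13784 D16881
theorem N16851 : nd 16851 = n16882 := ndS (p := 13785) (l := 1) rfl N13785 D16882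
theorem N16852 : nd 16852 = n16883 := ndS (p := 13785) (l := 4) rfl N13785 D16883
theorem N16853 : nd 16853 = n16884 := ndS (p := 13786) (l := 5) rfl N13786 D16884
theorem N16854 : nd 16854 = n16885 := ndS (p := 13787) (l := 4) rfl N13787 D16885
theorem N16855 : nd 16855 = n16886 := ndS (p := 13788) (l := 3) rfl N13788 D16886
theorem N16856 : nd 16856 = n16887 := ndS (p := 13789) (l := 2) rfl N13789 D16887
theorem N16857 : nd 16857 = n16888 := ndS (p := 13789) (l := 4) rfl N13789 D16888
theorem N16858 : nd 16858 = n16889 := ndS (p := 13790) (l := 4) rfl N13790 D16889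
theorem N16859 : nd 16859 = n16890 := ndS (p := 13791) (l := 3) rfl N13791 D16890
theorem N16860 : nd 16860 = n16891 := ndS (p := 13791) (l := 4) rfl N13791 D16891
theorem N16861 : nd 16861 = n16892 := ndS (p := 13792) (l := 5) rfl N13792 D16892
theorem N16862 : nd 16862 = n16893 := ndS (p := 13793) (l := 3) rfl N13793 D16893
theorem N16863 : nd 16863 = n16894 := ndS (p := 13795) (l := 2) rfl N13795 D16894
theorem N16864 : nd 16864 = n16895 := ndS (p := 13796) (l := 4) rfl N13796 D16895
theorem N16865 : nd 16865 = n16896 := ndS (p := 13797) (l := 5) rfl N13797 D16896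
theorem N16866 : nd 16866 = n16897 := ndS (p := 13800) (l := 0) rfl N13800 D16897
theorem N16867 : nd 16867 = n16898 := ndS (p := 13800) (l := 3) rfl N13800 D16898
theorem N16868 : nd 16868 = n16899 := ndS (p := 13805) (l := 3) rfl N13805 D16899
theorem N16869 : nd 16869 = n16900 := ndS (p := 13805) (l := 5) rfl N13805 D16900
theorem N16870 : nd 16870 = n16901 := ndS (p := 13806) (l := 2) rfl N13806 D16901
theorem N16871 : nd 16871 = n16902 := ndS (p := 13806) (l := 4) rfl N13806 D16902
theorem N16872 : nd 16872 = n16903 := ndS (p := 13806) (l := 5) rfl N13806 D16903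
theorem N16873 : nd 16873 = n16904 := ndS (p := 13807) (l := 4) rfl N13807 D16904
theorem N16874 : nd 16874 = n16905 := ndS (p := 13808) (l := 4) rfl N13808 D16905
theorem N16875 : nd 16875 = n16906 := ndS (p := 13809) (l := 5) rfl N13809 D16906
theorem N16876 : nd 16876 = n16907 := ndS (p := 13810) (l := 4) rfl N13810 D16907
theorem N16877 : nd 16877 = n16908 := ndS (p := 13811) (l := 3) rfl N13811 D16908
theorem N16878 : nd 16878 = n16909 := ndS (p := 13812) (l := 2) rfl N13812 D16909
theorem N16879 : nd 16879 = n16910 := ndS (p := 13812) (l := 4) rfl N13812 D16910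
theorem N16880 : nd 16880 = n16911 := ndS (p := 13813) (l := 4) rfl N13813 D16911
theorem N16881 : nd 16881 = n16912 := ndS (p := 13814) (l := 3) rfl N13814 D16912
theorem N16882 : nd 16882 = n16913 := ndS (p := 13814) (l := 4) rfl N13814 D16913
theorem N16883 : nd 16883 = n16914 := ndS (p := 13815) (l := 5) rfl N13815 D16914
theorem N16884 : nd 16884 = n16915 := ndS (p := 13816) (l := 3) rfl N13816 D16915
theorem N16885 : nd 16885 = n16916 := ndS (p := 13818) (l := 2) rfl N13818 D16916
theorem N16886 : nd 16886 = n16917 := ndS (p := 13824) (l := 2) rfl N13824 D16917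
theorem N16887 : nd 16887 = n16918 := ndS (p := 13824) (l := 4) rfl N13824 D16918
theorem N16888 : nd 16888 = n16919 := ndS (p := 13826) (l := 1) rfl N13826 D16919
theorem N16889 : nd 16889 = n16920 := ndS (p := 13826) (l := 3) rfl N13826 D16920
theorem N16890 : nd 16890 = n16921 := ndS (p := 13826) (l := 4) rfl N13826 D16921
theorem N16891 : nd 16891 = n16922 := ndS (p := 13826) (l := 5) rfl N13826 D16922
theorem N16892 : nd 16892 = n16923 := ndS (p := 13827) (l := 5) rfl N13827 D16923
theorem N16893 : nd 16893 = n16924 := ndS (p := 13829) (l := 4) rfl N13829 D16924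
theorem N16894 : nd 16894 = n16925 := ndS (p := 13830) (l := 3) rfl N13830 D16925
theorem N16895 : nd 16895 = n16926 := ndS (p := 13830) (l := 5) rfl N13830 D16926
theorem N16896 : nd 16896 = n16927 := ndS (p := 13834) (l := 1) rfl N13834 D16927
theorem N16897 : nd 16897 = n16928 := ndS (p := 13834) (l := 3) rfl N13834 D16928
theorem N16898 : nd 16898 = n16929 := ndS (p := 13835) (l := 2) rfl N13835 D16929
theorem N16899 : nd 16899 = n16930 := ndS (p := 13835) (l := 4) rfl N13835 D16930
theorem N16900 : nd 16900 = n16931 := ndS (p := 13836) (l := 2) rfl N13836 D16931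
theorem N16901 : nd 16901 = n16932 := ndS (p := 13836) (l := 4) rfl N13836 D16932
theorem N16902 : nd 16902 = n16933 := ndS (p := 13837) (l := 3) rfl N13837 D16933
theorem N16903 : nd 16903 = n16934 := ndS (p := 13837) (l := 4) rfl N13837 D16934
theorem N16904 : nd 16904 = n16935 := ndS (p := 13838) (l := 5) rfl N13838 D16935
theorem N16905 : nd 16905 = n16936 := ndS (p := 13839) (l := 3) rfl N13839 D16936
theorem N16906 : nd 16906 = n16937 := ndS (p := 13842) (l := 5) rfl N13842 D16937
theorem N16907 : nd 16907 = n16938 := ndS (p := 13844) (l := 3) rfl N13844 D16938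
theorem N16908 : nd 16908 = n16939 := ndS (p := 13845) (l := 2) rfl N13845 D16939
theorem N16909 : nd 16909 = n16940 := ndS (p := 13846) (l := 1) rfl N13846 D16940
theorem N16910 : nd 16910 = n16941 := ndS (p := 13848) (l := 2) rfl N13848 D16941
theorem N16911 : nd 16911 = n16942 := ndS (p := 13849) (l := 1) rfl N13849 D16942
theorem N16912 : nd 16912 = n16943 := ndS (p := 13850) (l := 4) rfl N13850 D16943
theorem N16913 : nd 16913 = n16944 := ndS (p := 13851) (l := 4) rfl N13851 D16944
theorem N16914 : nd 16914 = n16945 := ndS (p := 13852) (l := 3) rfl N13852 D16945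
theorem N16915 : nd 16915 = n16946 := ndS (p := 13852) (l := 5) rfl N13852 D16946
theorem N16916 : nd 16916 = n16947 := ndS (p := 13854) (l := 2) rfl N13854 D16947
theorem N16917 : nd 16917 = n16948 := ndS (p := 13855) (l := 4) rfl N13855 D16948
theorem N16918 : nd 16918 = n16949 := ndS (p := 13856) (l := 3) rfl N13856 D16949
theorem N16919 : nd 16919 = n16950 := ndS (p := 13856) (l := 5) rfl N13856 D16950
theorem N16920 : nd 16920 = n16951 := ndS (p := 13857) (l := 2) rfl N13857 D16951
theorem N16921 : nd 16921 = n16952 := ndS (p := 13857) (l := 5) rfl N13857 D16952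
theorem N16922 : nd 16922 = n16953 := ndS (p := 13859) (l := 1) rfl N13859 D16953
theorem N16923 : nd 16923 = n16954 := ndS (p := 13860) (l := 0) rfl N13860 D16954
theorem N16924 : nd 16924 = n16955 := ndS (p := 13860) (l := 3) rfl N13860 D16955
theorem N16925 : nd 16925 = n16956 := ndS (p := 13863) (l := 5) rfl N13863 D16956
theorem N16926 : nd 16926 = n16957 := ndS (p := 13865) (l := 3) rfl N13865 D16957
theorem N16927 : nd 16927 = n16958 := ndS (p := 13865) (l := 5) rfl N13865 D16958
theorem N16928 : nd 16928 = n16959 := ndS (p := 13866) (l := 2) rfl N13866 D16959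
theorem N16929 : nd 16929 = n16960 := ndS (p := 13866) (l := 4) rfl N13866 D16960
theorem N16930 : nd 16930 = n16961 := ndS (p := 13867) (l := 4) rfl N13867 D16961
theorem N16931 : nd 16931 = n16962 := ndS (p := 13868) (l := 5) rfl N13868 D16962
theorem N16932 : nd 16932 = n16963 := ndS (p := 13869) (l := 3) rfl N13869 D16963
theorem N16933 : nd 16933 = n16964 := ndS (p := 13870) (l := 2) rfl N13870 D16964
theorem N16934 : nd 16934 = n16965 := ndS (p := 13870) (l := 4) rfl N13870 D16965
theorem N16935 : nd 16935 = n16966 := ndS (p := 13871) (l := 4) rfl N13871 D16966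
theorem N16936 : nd 16936 = n16967 := ndS (p := 13872) (l := 3) rfl N13872 D16967
theorem N16937 : nd 16937 = n16968 := ndS (p := 13872) (l := 4) rfl N13872 D16968
theorem N16938 : nd 16938 = n16969 := ndS (p := 13873) (l := 5) rfl N13873 D16969
theorem N16939 : nd 16939 = n16970 := ndS (p := 13874) (l := 3) rfl N13874 D16970
theorem N16940 : nd 16940 = n16971 := ndS (p := 13876) (l := 2) rfl N13876 D16971
theorem N16941 : nd 16941 = n16972 := ndS (p := 13879) (l := 1) rfl N13879 D16972
theorem N16942 : nd 16942 = n16973 := ndS (p := 13880) (l := 4) rfl N13880 D16973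
theorem N16943 : nd 16943 = n16974 := ndS (p := 13881) (l := 1) rfl N13881 D16974
theorem N16944 : nd 16944 = n16975 := ndS (p := 13881) (l := 3) rfl N13881 D16975
theorem N16945 : nd 16945 = n16976 := ndS (p := 13882) (l := 0) rfl N13882 D16976
theorem N16946 : nd 16946 = n16977 := ndS (p := 13884) (l := 1) rfl N13884 D16977
theorem N16947 : nd 16947 = n16978 := ndS (p := 13884) (l := 3) rfl N13884 D16978
theorem N16948 : nd 16948 = n16979 := ndS (p := 13885) (l := 0) rfl N13885 D16979
theorem N16949 : nd 16949 = n16980 := ndS (p := 13886) (l := 5) rfl N13886 D16980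
theorem N16950 : nd 16950 = n16981 := ndS (p := 13887) (l := 4) rfl N13887 D16981
theorem N16951 : nd 16951 = n16982 := ndS (p := 13888) (l := 3) rfl N13888 D16982
theorem N16952 : nd 16952 = n16983 := ndS (p := 13889) (l := 3) rfl N13889 D16983
theorem N16953 : nd 16953 = n16984 := ndS (p := 13889) (l := 5) rfl N13889 D16984
theorem N16954 : nd 16954 = n16985 := ndS (p := 13890) (l := 4) rfl N13890 D16985
theorem N16955 : nd 16955 = n16986 := ndS (p := 13891) (l := 4) rfl N13891 D16986
theorem N16956 : nd 16956 = n16987 := ndS (p := 13892) (l := 5) rfl N13892 D16987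
theorem N16957 : nd 16957 = n16988 := ndS (p := 13893) (l := 3) rfl N13893 D16988
theorem N16958 : nd 16958 = n16989 := ndS (p := 13894) (l := 2) rfl N13894 D16989
theorem N16959 : nd 16959 = n16990 := ndS (p := 13894) (l := 4) rfl N13894 D16990
theorem N16960 : nd 16960 = n16991 := ndS (p := 13894) (l := 5) rfl N13894 D16991
theorem N16961 : nd 16961 = n16992 := ndS (p := 13895) (l := 4) rfl N13895 D16992
theorem N16962 : nd 16962 = n16993 := ndS (p := 13896) (l := 3) rfl N13896 D16993
theorem N16963 : nd 16963 = n16994 := ndS (p := 13896) (l := 4) rfl N13896 D16994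
theorem N16964 : nd 16964 = n16995 := ndS (p := 13896) (l := 5) rfl N13896 D16995
theorem N16965 : nd 16965 = n16996 := ndS (p := 13897) (l := 5) rfl N13897 D16996
theorem N16966 : nd 16966 = n16997 := ndS (p := 13899) (l := 3) rfl N13899 D16997
theorem N16967 : nd 16967 = n16998 := ndS (p := 13901) (l := 2) rfl N13901 D16998
theorem N16968 : nd 16968 = n16999 := ndS (p := 13902) (l := 2) rfl N13902 D16999
theorem N16969 : nd 16969 = n17000 := ndS (p := 13902) (l := 4) rfl N13902 D17000
theorem N16970 : nd 16970 = n17001 := ndS (p := 13903) (l := 4) rfl N13903 D17001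
theorem N16971 : nd 16971 = n17002 := ndS (p := 13904) (l := 3) rfl N13904 D17002
theorem N16972 : nd 16972 = n17003 := ndS (p := 13904) (l := 4) rfl N13904 D17003
theorem N16973 : nd 16973 = n17004 := ndS (p := 13905) (l := 5) rfl N13905 D17004
theorem N16974 : nd 16974 = n17005 := ndS (p := 13906) (l := 3) rfl N13906 D17005
theorem N16975 : nd 16975 = n17006 := ndS (p := 13908) (l := 2) rfl N13908 D17006
theorem N16976 : nd 16976 = n17007 := ndS (p := 13909) (l := 1) rfl N13909 D17007
theorem N16977 : nd 16977 = n17008 := ndS (p := 13909) (l := 3) rfl N13909 D17008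
theorem N16978 : nd 16978 = n17009 := ndS (p := 13910) (l := 0) rfl N13910 D17009
theorem N16979 : nd 16979 = n17010 := ndS (p := 13911) (l := 3) rfl N13911 D17010
theorem N16980 : nd 16980 = n17011 := ndS (p := 13912) (l := 2) rfl N13912 D17011
theorem N16981 : nd 16981 = n17012 := ndS (p := 13912) (l := 4) rfl N13912 D17012
theorem N16982 : nd 16982 = n17013 := ndS (p := 13913) (l := 5) rfl N13913 D17013
theorem N16983 : nd 16983 = n17014 := ndS (p := 13914) (l := 4) rfl N13914 D17014
theorem N16984 : nd 16984 = n17015 := ndS (p := 13915) (l := 5) rfl N13915 D17015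
theorem N16985 : nd 16985 = n17016 := ndS (p := 13916) (l := 3) rfl N13916 D17016
theorem N16986 : nd 16986 = n17017 := ndS (p := 13917) (l := 3) rfl N13917 D17017
theorem N16987 : nd 16987 = n17018 := ndS (p := 13917) (l := 5) rfl N13917 D17018
theorem N16988 : nd 16988 = n17019 := ndS (p := 13919) (l := 2) rfl N13919 D17019
theorem N16989 : nd 16989 = n17020 := ndS (p := 13920) (l := 1) rfl N13920 D17020
theorem N16990 : nd 16990 = n17021 := ndS (p := 13920) (l := 3) rfl N13920 D17021
theorem N16991 : nd 16991 = n17022 := ndS (p := 13921) (l := 0) rfl N13921 D17022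
theorem N16992 : nd 16992 = n17023 := ndS (p := 13921) (l := 3) rfl N13921 D17023
theorem N16993 : nd 16993 = n17024 := ndS (p := 13922) (l := 2) rfl N13922 D17024
theorem N16994 : nd 16994 = n17025 := ndS (p := 13924) (l := 2) rfl N13924 D17025
theorem N16995 : nd 16995 = n17026 := ndS (p := 13924) (l := 4) rfl N13924 D17026
theorem N16996 : nd 16996 = n17027 := ndS (p := 13925) (l := 3) rfl N13925 D17027
theorem N16997 : nd 16997 = n17028 := ndS (p := 13925) (l := 4) rfl N13925 D17028
theorem N16998 : nd 16998 = n17029 := ndS (p := 13926) (l := 5) rfl N13926 D17029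
theorem N16999 : nd 16999 = n17030 := ndS (p := 13928) (l := 4) rfl N13928 D17030
theorem N17000 : nd 17000 = n17031 := ndS (p := 13929) (l := 3) rfl N13929 D17031
theorem N17001 : nd 17001 = n17032 := ndS (p := 13929) (l := 5) rfl N13929 D17032
theorem N17002 : nd 17002 = n17033 := ndS (p := 13932) (l := 4) rfl N13932 D17033
theorem N17003 : nd 17003 = n17034 := ndS (p := 13933) (l := 3) rfl N13933 D17034
theorem N17004 : nd 17004 = n17035 := ndS (p := 13933) (l := 5) rfl N13933 D17035
theorem N17005 : nd 17005 = n17036 := ndS (p := 13935) (l := 3) rfl N13935 D17036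
theorem N17006 : nd 17006 = n17037 := ndS (p := 13935) (l := 5) rfl N13935 D17037
theorem N17007 : nd 17007 = n17038 := ndS (p := 13936) (l := 2) rfl N13936 D17038
theorem N17008 : nd 17008 = n17039 := ndS (p := 13936) (l := 5) rfl N13936 D17039
theorem N17009 : nd 17009 = n17040 := ndS (p := 13938) (l := 3) rfl N13938 D17040
theorem N17010 : nd 17010 = n17041 := ndS (p := 13939) (l := 4) rfl N13939 D17041
theorem N17011 : nd 17011 = n17042 := ndS (p := 13940) (l := 3) rfl N13940 D17042
theorem N17012 : nd 17012 = n17043 := ndS (p := 13940) (l := 5) rfl N13940 D17043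
theorem N17013 : nd 17013 = n17044 := ndS (p := 13944) (l := 2) rfl N13944 D17044
theorem N17014 : nd 17014 = n17045 := ndS (p := 13944) (l := 4) rfl N13944 D17045
theorem N17015 : nd 17015 = n17046 := ndS (p := 13946) (l := 1) rfl N13946 D17046
theorem N17016 : nd 17016 = n17047 := ndS (p := 13946) (l := 4) rfl N13946 D17047
theorem N17017 : nd 17017 = n17048 := ndS (p := 13947) (l := 5) rfl N13947 D17048
theorem N17018 : nd 17018 = n17049 := ndS (p := 13949) (l := 3) rfl N13949 D17049
theorem N17019 : nd 17019 = n17050 := ndS (p := 13950) (l := 4) rfl N13950 D17050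
theorem N17020 : nd 17020 = n17051 := ndS (p := 13951) (l := 4) rfl N13951 D17051
theorem N17021 : nd 17021 = n17052 := ndS (p := 13952) (l := 5) rfl N13952 D17052
theorem N17022 : nd 17022 = n17053 := ndS (p := 13955) (l := 2) rfl N13955 D17053
theorem N17023 : nd 17023 = n17054 := ndS (p := 13955) (l := 5) rfl N13955 D17054
theorem N17024 : nd 17024 = n17055 := ndS (p := 13957) (l := 1) rfl N13957 D17055
theorem N17025 : nd 17025 = n17056 := ndS (p := 13957) (l := 3) rfl N13957 D17056
theorem N17026 : nd 17026 = n17057 := ndS (p := 13957) (l := 5) rfl N13957 D17057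
theorem N17027 : nd 17027 = n17058 := ndS (p := 13958) (l := 4) rfl N13958 D17058
theorem N17028 : nd 17028 = n17059 := ndS (p := 13959) (l := 0) rfl N13959 D17059
theorem N17029 : nd 17029 = n17060 := ndS (p := 13963) (l := 2) rfl N13963 D17060
theorem N17030 : nd 17030 = n17061 := ndS (p := 13963) (l := 5) rfl N13963 D17061
theorem N17031 : nd 17031 = n17062 := ndS (p := 13965) (l := 1) rfl N13965 D17062
theorem N17032 : nd 17032 = n17063 := ndS (p := 13965) (l := 4) rfl N13965 D17063
theorem N17033 : nd 17033 = n17064 := ndS (p := 13966) (l := 5) rfl N13966 D17064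
theorem N17034 : nd 17034 = n17065 := ndS (p := 13967) (l := 4) rfl N13967 D17065
theorem N17035 : nd 17035 = n17066 := ndS (p := 13968) (l := 3) rfl N13968 D17066
theorem N17036 : nd 17036 = n17067 := ndS (p := 13969) (l := 2) rfl N13969 D17067
theorem N17037 : nd 17037 = n17068 := ndS (p := 13969) (l := 4) rfl N13969 D17068
theorem N17038 : nd 17038 = n17069 := ndS (p := 13971) (l := 3) rfl N13971 D17069
theorem N17039 : nd 17039 = n17070 := ndS (p := 13971) (l := 4) rfl N13971 D17070
theorem N17040 : nd 17040 = n17071 := ndS (p := 13972) (l := 5) rfl N13972 D17071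
theorem N17041 : nd 17041 = n17072 := ndS (p := 13973) (l := 3) rfl N13973 D17072
theorem N17042 : nd 17042 = n17073 := ndS (p := 13976) (l := 1) rfl N13976 D17073
theorem N17043 : nd 17043 = n17074 := ndS (p := 13976) (l := 3) rfl N13976 D17074
theorem N17044 : nd 17044 = n17075 := ndS (p := 13976) (l := 4) rfl N13976 D17075
theorem N17045 : nd 17045 = n17076 := ndS (p := 13976) (l := 5) rfl N13976 D17076
theorem N17046 : nd 17046 = n17077 := ndS (p := 13977) (l := 5) rfl N13977 D17077
theorem N17047 : nd 17047 = n17078 := ndS (p := 13978) (l := 4) rfl N13978 D17078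
theorem N17048 : nd 17048 = n17079 := ndS (p := 13979) (l := 3) rfl N13979 D17079
theorem N17049 : nd 17049 = n17080 := ndS (p := 13980) (l := 0) rfl N13980 D17080
theorem N17050 : nd 17050 = n17081 := ndS (p := 13980) (l := 3) rfl N13980 D17081
theorem N17051 : nd 17051 = n17082 := ndS (p := 13980) (l := 4) rfl N13980 D17082
theorem N17052 : nd 17052 = n17083 := ndS (p := 13981) (l := 2) rfl N13981 D17083
theorem N17053 : nd 17053 = n17084 := ndS (p := 13981) (l := 4) rfl N13981 D17084
theorem N17054 : nd 17054 = n17085 := ndS (p := 13981) (l := 5) rfl N13981 D17085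
theorem N17055 : nd 17055 = n17086 := ndS (p := 13982) (l := 3) rfl N13982 D17086
theorem N17056 : nd 17056 = n17087 := ndS (p := 13982) (l := 5) rfl N13982 D17087
theorem N17057 : nd 17057 = n17088 := ndS (p := 13983) (l := 4) rfl N13983 D17088
theorem N17058 : nd 17058 = n17089 := ndS (p := 13984) (l := 4) rfl N13984 D17089
theorem N17059 : nd 17059 = n17090 := ndS (p := 13985) (l := 3) rfl N13985 D17090
theorem N17060 : nd 17060 = n17091 := ndS (p := 13986) (l := 2) rfl N13986 D17091
theorem N17061 : nd 17061 = n17092 := ndS (p := 13987) (l := 4) rfl N13987 D17092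
theorem N17062 : nd 17062 = n17093 := ndS (p := 13988) (l := 3) rfl N13988 D17093
theorem N17063 : nd 17063 = n17094 := ndS (p := 13988) (l := 5) rfl N13988 D17094
theorem N17064 : nd 17064 = n17095 := ndS (p := 13993) (l := 1) rfl N13993 D17095
theorem N17065 : nd 17065 = n17096 := ndS (p := 13994) (l := 3) rfl N13994 D17096
theorem N17066 : nd 17066 = n17097 := ndS (p := 13994) (l := 4) rfl N13994 D17097
theorem N17067 : nd 17067 = n17098 := ndS (p := 13995) (l := 4) rfl N13995 D17098
theorem N17068 : nd 17068 = n17099 := ndS (p := 13996) (l := 3) rfl N13996 D17099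
theorem N17069 : nd 17069 = n17100 := ndS (p := 13999) (l := 1) rfl N13999 D17100
theorem N17070 : nd 17070 = n17101 := ndS (p := 13999) (l := 4) rfl N13999 D17101
theorem N17071 : nd 17071 = n17102 := ndS (p := 14000) (l := 3) rfl N14000 D17102
theorem N17072 : nd 17072 = n17103 := ndS (p := 14000) (l := 5) rfl N14000 D17103
theorem N17073 : nd 17073 = n17104 := ndS (p := 14001) (l := 2) rfl N14001 D17104
theorem N17074 : nd 17074 = n17105 := ndS (p := 14002) (l := 1) rfl N14002 D17105
theorem N17075 : nd 17075 = n17106 := ndS (p := 14003) (l := 0) rfl N14003 D17106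
theorem N17076 : nd 17076 = n17107 := ndS (p := 14003) (l := 3) rfl N14003 D17107
theorem N17077 : nd 17077 = n17108 := ndS (p := 14005) (l := 3) rfl N14005 D17108
theorem N17078 : nd 17078 = n17109 := ndS (p := 14005) (l := 5) rfl N14005 D17109
theorem N17079 : nd 17079 = n17110 := ndS (p := 14006) (l := 2) rfl N14006 D17110
theorem N17080 : nd 17080 = n17111 := ndS (p := 14006) (l := 5) rfl N14006 D17111
theorem N17081 : nd 17081 = n17112 := ndS (p := 14008) (l := 4) rfl N14008 D17112
theorem N17082 : nd 17082 = n17113 := ndS (p := 14009) (l := 3) rfl N14009 D17113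
theorem N17083 : nd 17083 = n17114 := ndS (p := 14009) (l := 5) rfl N14009 D17114
theorem N17084 : nd 17084 = n17115 := ndS (p := 14010) (l := 5) rfl N14010 D17115
theorem N17085 : nd 17085 = n17116 := ndS (p := 14012) (l := 2) rfl N14012 D17116
theorem N17086 : nd 17086 = n17117 := ndS (p := 14012) (l := 5) rfl N14012 D17117
theorem N17087 : nd 17087 = n17118 := ndS (p := 14015) (l := 4) rfl N14015 D17118
theorem N17088 : nd 17088 = n17119 := ndS (p := 14016) (l := 4) rfl N14016 D17119
theorem N17089 : nd 17089 = n17120 := ndS (p := 14017) (l := 5) rfl N14017 D17120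
theorem N17090 : nd 17090 = n17121 := ndS (p := 14019) (l := 3) rfl N14019 D17121
theorem N17091 : nd 17091 = n17122 := ndS (p := 14019) (l := 5) rfl N14019 D17122
theorem N17092 : nd 17092 = n17123 := ndS (p := 14020) (l := 2) rfl N14020 D17123
theorem N17093 : nd 17093 = n17124 := ndS (p := 14020) (l := 5) rfl N14020 D17124
theorem N17094 : nd 17094 = n17125 := ndS (p := 14022) (l := 1) rfl N14022 D17125
theorem N17095 : nd 17095 = n17126 := ndS (p := 14022) (l := 3) rfl N14022 D17126
theorem N17096 : nd 17096 = n17127 := ndS (p := 14022) (l := 4) rfl N14022 D17127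
theorem N17097 : nd 17097 = n17128 := ndS (p := 14023) (l := 5) rfl N14023 D17128
theorem N17098 : nd 17098 = n17129 := ndS (p := 14024) (l := 3) rfl N14024 D17129
theorem N17099 : nd 17099 = n17130 := ndS (p := 14025) (l := 2) rfl N14025 D17130
theorem N17100 : nd 17100 = n17131 := ndS (p := 14025) (l := 4) rfl N14025 D17131
theorem N17101 : nd 17101 = n17132 := ndS (p := 14026) (l := 3) rfl N14026 D17132
theorem N17102 : nd 17102 = n17133 := ndS (p := 14026) (l := 5) rfl N14026 D17133
theorem N17103 : nd 17103 = n17134 := ndS (p := 14028) (l := 2) rfl N14028 D17134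
theorem N17104 : nd 17104 = n17135 := ndS (p := 14029) (l := 1) rfl N14029 D17135
theorem N17105 : nd 17105 = n17136 := ndS (p := 14030) (l := 0) rfl N14030 D17136
theorem N17106 : nd 17106 = n17137 := ndS (p := 14030) (l := 4) rfl N14030 D17137
theorem N17107 : nd 17107 = n17138 := ndS (p := 14030) (l := 5) rfl N14030 D17138
theorem N17108 : nd 17108 = n17139 := ndS (p := 14031) (l := 3) rfl N14031 D17139
theorem N17109 : nd 17109 = n17140 := ndS (p := 14031) (l := 5) rfl N14031 D17140
theorem N17110 : nd 17110 = n17141 := ndS (p := 14032) (l := 4) rfl N14032 D17141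
theorem N17111 : nd 17111 = n17142 := ndS (p := 14033) (l := 4) rfl N14033 D17142
theorem N17112 : nd 17112 = n17143 := ndS (p := 14034) (l := 3) rfl N14034 D17143
theorem N17113 : nd 17113 = n17144 := ndS (p := 14035) (l := 2) rfl N14035 D17144
theorem N17114 : nd 17114 = n17145 := ndS (p := 14036) (l := 4) rfl N14036 D17145
theorem N17115 : nd 17115 = n17146 := ndS (p := 14037) (l := 4) rfl N14037 D17146
theorem N17116 : nd 17116 = n17147 := ndS (p := 14038) (l := 3) rfl N14038 D17147
theorem N17117 : nd 17117 = n17148 := ndS (p := 14038) (l := 5) rfl N14038 D17148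
theorem N17118 : nd 17118 = n17149 := ndS (p := 14039) (l := 3) rfl N14039 D17149
theorem N17119 : nd 17119 = n17150 := ndS (p := 14039) (l := 5) rfl N14039 D17150
theorem N17120 : nd 17120 = n17151 := ndS (p := 14041) (l := 2) rfl N14041 D17151
theorem N17121 : nd 17121 = n17152 := ndS (p := 14041) (l := 5) rfl N14041 D17152
theorem N17122 : nd 17122 = n17153 := ndS (p := 14042) (l := 4) rfl N14042 D17153
theorem N17123 : nd 17123 = n17154 := ndS (p := 14043) (l := 3) rfl N14043 D17154
theorem N17124 : nd 17124 = n17155 := ndS (p := 14044) (l := 3) rfl N14044 D17155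
theorem N17125 : nd 17125 = n17156 := ndS (p := 14045) (l := 2) rfl N14045 D17156
theorem N17126 : nd 17126 = n17157 := ndS (p := 14046) (l := 1) rfl N14046 D17157
theorem N17127 : nd 17127 = n17158 := ndS (p := 14046) (l := 3) rfl N14046 D17158
theorem N17128 : nd 17128 = n17159 := ndS (p := 14048) (l := 2) rfl N14048 D17159
theorem N17129 : nd 17129 = n17160 := ndS (p := 14051) (l := 1) rfl N14051 D17160
theorem N17130 : nd 17130 = n17161 := ndS (p := 14052) (l := 0) rfl N14052 D17161
theorem N17131 : nd 17131 = n17162 := ndS (p := 14056) (l := 1) rfl N14056 D17162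
theorem N17132 : nd 17132 = n17163 := ndS (p := 14056) (l := 3) rfl N14056 D17163
theorem N17133 : nd 17133 = n17164 := ndS (p := 14061) (l := 2) rfl N14061 D17164
theorem N17134 : nd 17134 = n17165 := ndS (p := 14061) (l := 4) rfl N14061 D17165
theorem N17135 : nd 17135 = n17166 := ndS (p := 14065) (l := 5) rfl N14065 D17166
theorem N17136 : nd 17136 = n17167 := ndS (p := 14066) (l := 5) rfl N14066 D17167
theorem N17137 : nd 17137 = n17168 := ndS (p := 14068) (l := 3) rfl N14068 D17168
theorem N17138 : nd 17138 = n17169 := ndS (p := 14070) (l := 4) rfl N14070 D17169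
theorem N17139 : nd 17139 = n17170 := ndS (p := 14071) (l := 3) rfl N14071 D17170
theorem N17140 : nd 17140 = n17171 := ndS (p := 14072) (l := 4) rfl N14072 D17171
theorem N17141 : nd 17141 = n17172 := ndS (p := 14073) (l := 3) rfl N14073 D17172
theorem N17142 : nd 17142 = n17173 := ndS (p := 14073) (l := 5) rfl N14073 D17173
theorem N17143 : nd 17143 = n17174 := ndS (p := 14074) (l := 4) rfl N14074 D17174
theorem N17144 : nd 17144 = n17175 := ndS (p := 14075) (l := 3) rfl N14075 D17175
theorem N17145 : nd 17145 = n17176 := ndS (p := 14075) (l := 5) rfl N14075 D17176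
theorem N17146 : nd 17146 = n17177 := ndS (p := 14076) (l := 2) rfl N14076 D17177
theorem N17147 : nd 17147 = n17178 := ndS (p := 14078) (l := 5) rfl N14078 D17178
theorem N17148 : nd 17148 = n17179 := ndS (p := 14079) (l := 4) rfl N14079 D17179
theorem N17149 : nd 17149 = n17180 := ndS (p := 14080) (l := 3) rfl N14080 D17180
theorem N17150 : nd 17150 = n17181 := ndS (p := 14081) (l := 3) rfl N14081 D17181
theorem N17151 : nd 17151 = n17182 := ndS (p := 14082) (l := 2) rfl N14082 D17182
theorem N17152 : nd 17152 = n17183 := ndS (p := 14083) (l := 2) rfl N14083 D17183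
theorem N17153 : nd 17153 = n17184 := ndS (p := 14083) (l := 5) rfl N14083 D17184
theorem N17154 : nd 17154 = n17185 := ndS (p := 14085) (l := 1) rfl N14085 D17185
theorem N17155 : nd 17155 = n17186 := ndS (p := 14085) (l := 3) rfl N14085 D17186
theorem N17156 : nd 17156 = n17187 := ndS (p := 14085) (l := 5) rfl N14085 D17187
theorem N17157 : nd 17157 = n17188 := ndS (p := 14086) (l := 4) rfl N14086 D17188
theorem N17158 : nd 17158 = n17189 := ndS (p := 14087) (l := 0) rfl N14087 D17189
theorem N17159 : nd 17159 = n17190 := ndS (p := 14089) (l := 0) rfl N14089 D17190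
theorem N17160 : nd 17160 = n17191 := ndS (p := 14091) (l := 4) rfl N14091 D17191
theorem N17161 : nd 17161 = n17192 := ndS (p := 14092) (l := 5) rfl N14092 D17192
theorem N17162 : nd 17162 = n17193 := ndS (p := 14094) (l := 4) rfl N14094 D17193
theorem N17163 : nd 17163 = n17194 := ndS (p := 14095) (l := 3) rfl N14095 D17194
theorem N17164 : nd 17164 = n17195 := ndS (p := 14095) (l := 5) rfl N14095 D17195
theorem N17165 : nd 17165 = n17196 := ndS (p := 14096) (l := 2) rfl N14096 D17196
theorem N17166 : nd 17166 = n17197 := ndS (p := 14096) (l := 5) rfl N14096 D17197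
theorem N17167 : nd 17167 = n17198 := ndS (p := 14098) (l := 0) rfl N14098 D17198
theorem N17168 : nd 17168 = n17199 := ndS (p := 14098) (l := 3) rfl N14098 D17199
theorem N17169 : nd 17169 = n17200 := ndS (p := 14099) (l := 4) rfl N14099 D17200
theorem N17170 : nd 17170 = n17201 := ndS (p := 14102) (l := 4) rfl N14102 D17201
theorem N17171 : nd 17171 = n17202 := ndS (p := 14103) (l := 5) rfl N14103 D17202
theorem N17172 : nd 17172 = n17203 := ndS (p := 14104) (l := 3) rfl N14104 D17203
theorem N17173 : nd 17173 = n17204 := ndS (p := 14105) (l := 3) rfl N14105 D17204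
theorem N17174 : nd 17174 = n17205 := ndS (p := 14105) (l := 5) rfl N14105 D17205
theorem N17175 : nd 17175 = n17206 := ndS (p := 14106) (l := 2) rfl N14106 D17206
theorem N17176 : nd 17176 = n17207 := ndS (p := 14108) (l := 4) rfl N14108 D17207
theorem N17177 : nd 17177 = n17208 := ndS (p := 14109) (l := 3) rfl N14109 D17208
theorem N17178 : nd 17178 = n17209 := ndS (p := 14109) (l := 5) rfl N14109 D17209
theorem N17179 : nd 17179 = n17210 := ndS (p := 14110) (l := 5) rfl N14110 D17210
theorem N17180 : nd 17180 = n17211 := ndS (p := 14112) (l := 0) rfl N14112 D17211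
theorem N17181 : nd 17181 = n17212 := ndS (p := 14114) (l := 0) rfl N14114 D17212
theorem N17182 : nd 17182 = n17213 := ndS (p := 14114) (l := 3) rfl N14114 D17213
theorem N17183 : nd 17183 = n17214 := ndS (p := 14114) (l := 5) rfl N14114 D17214
theorem N17184 : nd 17184 = n17215 := ndS (p := 14115) (l := 2) rfl N14115 D17215
theorem N17185 : nd 17185 = n17216 := ndS (p := 14115) (l := 4) rfl N14115 D17216
theorem N17186 : nd 17186 = n17217 := ndS (p := 14115) (l := 5) rfl N14115 D17217
theorem N17187 : nd 17187 = n17218 := ndS (p := 14116) (l := 4) rfl N14116 D17218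
theorem N17188 : nd 17188 = n17219 := ndS (p := 14118) (l := 3) rfl N14118 D17219
theorem N17189 : nd 17189 = n17220 := ndS (p := 14118) (l := 5) rfl N14118 D17220
theorem N17190 : nd 17190 = n17221 := ndS (p := 14119) (l := 2) rfl N14119 D17221
theorem N17191 : nd 17191 = n17222 := ndS (p := 14121) (l := 0) rfl N14121 D17222
theorem N17192 : nd 17192 = n17223 := ndS (p := 14122) (l := 3) rfl N14122 D17223
theorem N17193 : nd 17193 = n17224 := ndS (p := 14124) (l := 4) rfl N14124 D17224
theorem N17194 : nd 17194 = n17225 := ndS (p := 14125) (l := 5) rfl N14125 D17225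
theorem N17195 : nd 17195 = n17226 := ndS (p := 14126) (l := 3) rfl N14126 D17226
theorem N17196 : nd 17196 = n17227 := ndS (p := 14129) (l := 5) rfl N14129 D17227
theorem N17197 : nd 17197 = n17228 := ndS (p := 14130) (l := 4) rfl N14130 D17228
theorem N17198 : nd 17198 = n17229 := ndS (p := 14131) (l := 3) rfl N14131 D17229
theorem N17199 : nd 17199 = n17230 := ndS (p := 14131) (l := 5) rfl N14131 D17230
theorem N17200 : nd 17200 = n17231 := ndS (p := 14133) (l := 3) rfl N14133 D17231
theorem N17201 : nd 17201 = n17232 := ndS (p := 14133) (l := 5) rfl N14133 D17232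
theorem N17202 : nd 17202 = n17233 := ndS (p := 14134) (l := 2) rfl N14134 D17233
theorem N17203 : nd 17203 = n17234 := ndS (p := 14134) (l := 5) rfl N14134 D17234
theorem N17204 : nd 17204 = n17235 := ndS (p := 14136) (l := 3) rfl N14136 D17235
theorem N17205 : nd 17205 = n17236 := ndS (p := 14137) (l := 2) rfl N14137 D17236
theorem N17206 : nd 17206 = n17237 := ndS (p := 14138) (l := 1) rfl N14138 D17237
theorem N17207 : nd 17207 = n17238 := ndS (p := 14139) (l := 3) rfl N14139 D17238
theorem N17208 : nd 17208 = n17239 := ndS (p := 14140) (l := 4) rfl N14140 D17239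
theorem N17209 : nd 17209 = n17240 := ndS (p := 14141) (l := 1) rfl N14141 D17240
theorem N17210 : nd 17210 = n17241 := ndS (p := 14141) (l := 4) rfl N14141 D17241
theorem N17211 : nd 17211 = n17242 := ndS (p := 14142) (l := 5) rfl N14142 D17242
theorem N17212 : nd 17212 = n17243 := ndS (p := 14143) (l := 3) rfl N14143 D17243
theorem N17213 : nd 17213 = n17244 := ndS (p := 14143) (l := 5) rfl N14143 D17244
theorem N17214 : nd 17214 = n17245 := ndS (p := 14144) (l := 2) rfl N14144 D17245
theorem N17215 : nd 17215 = n17246 := ndS (p := 14144) (l := 5) rfl N14144 D17246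
theorem N17216 : nd 17216 = n17247 := ndS (p := 14146) (l := 2) rfl N14146 D17247
theorem N17217 : nd 17217 = n17248 := ndS (p := 14146) (l := 5) rfl N14146 D17248
theorem N17218 : nd 17218 = n17249 := ndS (p := 14148) (l := 1) rfl N14148 D17249
theorem N17219 : nd 17219 = n17250 := ndS (p := 14149) (l := 4) rfl N14149 D17250
theorem N17220 : nd 17220 = n17251 := ndS (p := 14151) (l := 3) rfl N14151 D17251
theorem N17221 : nd 17221 = n17252 := ndS (p := 14151) (l := 5) rfl N14151 D17252
theorem N17222 : nd 17222 = n17253 := ndS (p := 14152) (l := 2) rfl N14152 D17253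
theorem N17223 : nd 17223 = n17254 := ndS (p := 14152) (l := 5) rfl N14152 D17254
theorem N17224 : nd 17224 = n17255 := ndS (p := 14154) (l := 1) rfl N14154 D17255
theorem N17225 : nd 17225 = n17256 := ndS (p := 14154) (l := 3) rfl N14154 D17256
theorem N17226 : nd 17226 = n17257 := ndS (p := 14154) (l := 5) rfl N14154 D17257
theorem N17227 : nd 17227 = n17258 := ndS (p := 14155) (l := 4) rfl N14155 D17258
theorem N17228 : nd 17228 = n17259 := ndS (p := 14156) (l := 0) rfl N14156 D17259
theorem N17229 : nd 17229 = n17260 := ndS (p := 14156) (l := 3) rfl N14156 D17260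
theorem N17230 : nd 17230 = n17261 := ndS (p := 14156) (l := 5) rfl N14156 D17261
theorem N17231 : nd 17231 = n17262 := ndS (p := 14157) (l := 4) rfl N14157 D17262
theorem N17232 : nd 17232 = n17263 := ndS (p := 14158) (l := 4) rfl N14158 D17263
theorem N17233 : nd 17233 = n17264 := ndS (p := 14160) (l := 5) rfl N14160 D17264
theorem N17234 : nd 17234 = n17265 := ndS (p := 14161) (l := 4) rfl N14161 D17265
theorem N17235 : nd 17235 = n17266 := ndS (p := 14164) (l := 3) rfl N14164 D17266
theorem N17236 : nd 17236 = n17267 := ndS (p := 14165) (l := 2) rfl N14165 D17267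
theorem N17237 : nd 17237 = n17268 := ndS (p := 14165) (l := 4) rfl N14165 D17268
theorem N17238 : nd 17238 = n17269 := ndS (p := 14166) (l := 5) rfl N14166 D17269
theorem N17239 : nd 17239 = n17270 := ndS (p := 14167) (l := 3) rfl N14167 D17270
theorem N17240 : nd 17240 = n17271 := ndS (p := 14167) (l := 5) rfl N14167 D17271
theorem N17241 : nd 17241 = n17272 := ndS (p := 14168) (l := 4) rfl N14168 D17272
theorem N17242 : nd 17242 = n17273 := ndS (p := 14169) (l := 4) rfl N14169 D17273
theorem N17243 : nd 17243 = n17274 := ndS (p := 14171) (l := 3) rfl N14171 D17274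
theorem N17244 : nd 17244 = n17275 := ndS (p := 14171) (l := 5) rfl N14171 D17275
theorem N17245 : nd 17245 = n17276 := ndS (p := 14172) (l := 2) rfl N14172 D17276
theorem N17246 : nd 17246 = n17277 := ndS (p := 14172) (l := 4) rfl N14172 D17277
theorem N17247 : nd 17247 = n17278 := ndS (p := 14173) (l := 4) rfl N14173 D17278
theorem N17248 : nd 17248 = n17279 := ndS (p := 14174) (l := 5) rfl N14174 D17279
theorem N17249 : nd 17249 = n17280 := ndS (p := 14175) (l := 3) rfl N14175 D17280
theorem N17250 : nd 17250 = n17281 := ndS (p := 14177) (l := 1) rfl N14177 D17281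
theorem N17251 : nd 17251 = n17282 := ndS (p := 14179) (l := 0) rfl N14179 D17282
theorem N17252 : nd 17252 = n17283 := ndS (p := 14179) (l := 4) rfl N14179 D17283
theorem N17253 : nd 17253 = n17284 := ndS (p := 14180) (l := 3) rfl N14180 D17284
theorem N17254 : nd 17254 = n17285 := ndS (p := 14180) (l := 5) rfl N14180 D17285
theorem N17255 : nd 17255 = n17286 := ndS (p := 14182) (l := 4) rfl N14182 D17286
theorem N17256 : nd 17256 = n17287 := ndS (p := 14183) (l := 3) rfl N14183 D17287
theorem N17257 : nd 17257 = n17288 := ndS (p := 14183) (l := 5) rfl N14183 D17288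
theorem N17258 : nd 17258 = n17289 := ndS (p := 14185) (l := 4) rfl N14185 D17289
theorem N17259 : nd 17259 = n17290 := ndS (p := 14186) (l := 3) rfl N14186 D17290
theorem N17260 : nd 17260 = n17291 := ndS (p := 14188) (l := 3) rfl N14188 D17291
theorem N17261 : nd 17261 = n17292 := ndS (p := 14188) (l := 5) rfl N14188 D17292
theorem N17262 : nd 17262 = n17293 := ndS (p := 14191) (l := 5) rfl N14191 D17293
theorem N17263 : nd 17263 = n17294 := ndS (p := 14193) (l := 2) rfl N14193 D17294
theorem N17264 : nd 17264 = n17295 := ndS (p := 14194) (l := 1) rfl N14194 D17295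
theorem N17265 : nd 17265 = n17296 := ndS (p := 14194) (l := 3) rfl N14194 D17296
theorem N17266 : nd 17266 = n17297 := ndS (p := 14195) (l := 0) rfl N14195 D17297
theorem N17267 : nd 17267 = n17298 := ndS (p := 14195) (l := 3) rfl N14195 D17298
theorem N17268 : nd 17268 = n17299 := ndS (p := 14196) (l := 4) rfl N14196 D17299
theorem N17269 : nd 17269 = n17300 := ndS (p := 14197) (l := 0) rfl N14197 D17300
theorem N17270 : nd 17270 = n17301 := ndS (p := 14199) (l := 3) rfl N14199 D17301
theorem N17271 : nd 17271 = n17302 := ndS (p := 14199) (l := 5) rfl N14199 D17302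
theorem N17272 : nd 17272 = n17303 := ndS (p := 14200) (l := 2) rfl N14200 D17303
theorem N17273 : nd 17273 = n17304 := ndS (p := 14202) (l := 5) rfl N14202 D17304
theorem N17274 : nd 17274 = n17305 := ndS (p := 14204) (l := 3) rfl N14204 D17305
theorem N17275 : nd 17275 = n17306 := ndS (p := 14205) (l := 4) rfl N14205 D17306
theorem N17276 : nd 17276 = n17307 := ndS (p := 14206) (l := 3) rfl N14206 D17307
theorem N17277 : nd 17277 = n17308 := ndS (p := 14206) (l := 5) rfl N14206 D17308
theorem N17278 : nd 17278 = n17309 := ndS (p := 14207) (l := 2) rfl N14207 D17309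
theorem N17279 : nd 17279 = n17310 := ndS (p := 14207) (l := 5) rfl N14207 D17310
theorem N17280 : nd 17280 = n17311 := ndS (p := 14209) (l := 5) rfl N14209 D17311
theorem N17281 : nd 17281 = n17312 := ndS (p := 14210) (l := 4) rfl N14210 D17312
theorem N17282 : nd 17282 = n17313 := ndS (p := 14211) (l := 0) rfl N14211 D17313
theorem N17283 : nd 17283 = n17314 := ndS (p := 14213) (l := 5) rfl N14213 D17314
theorem N17284 : nd 17284 = n17315 := ndS (p := 14215) (l := 2) rfl N14215 D17315
theorem N17285 : nd 17285 = n17316 := ndS (p := 14215) (l := 5) rfl N14215 D17316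
theorem N17286 : nd 17286 = n17317 := ndS (p := 14218) (l := 4) rfl N14218 D17317
theorem N17287 : nd 17287 = n17318 := ndS (p := 14219) (l := 3) rfl N14219 D17318
theorem N17288 : nd 17288 = n17319 := ndS (p := 14220) (l := 2) rfl N14220 D17319
theorem N17289 : nd 17289 = n17320 := ndS (p := 14221) (l := 3) rfl N14221 D17320
theorem N17290 : nd 17290 = n17321 := ndS (p := 14221) (l := 5) rfl N14221 D17321
theorem N17291 : nd 17291 = n17322 := ndS (p := 14222) (l := 4) rfl N14222 D17322
theorem N17292 : nd 17292 = n17323 := ndS (p := 14223) (l := 3) rfl N14223 D17323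
theorem N17293 : nd 17293 = n17324 := ndS (p := 14224) (l := 2) rfl N14224 D17324
theorem N17294 : nd 17294 = n17325 := ndS (p := 14225) (l := 1) rfl N14225 D17325
theorem N17295 : nd 17295 = n17326 := ndS (p := 14227) (l := 2) rfl N14227 D17326
theorem N17296 : nd 17296 = n17327 := ndS (p := 14229) (l := 1) rfl N14229 D17327
theorem N17297 : nd 17297 = n17328 := ndS (p := 14229) (l := 3) rfl N14229 D17328
theorem N17298 : nd 17298 = n17329 := ndS (p := 14229) (l := 5) rfl N14229 D17329
theorem N17299 : nd 17299 = n17330 := ndS (p := 14232) (l := 5) rfl N14232 D17330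
theorem N17300 : nd 17300 = n17331 := ndS (p := 14234) (l := 3) rfl N14234 D17331
theorem N17301 : nd 17301 = n17332 := ndS (p := 14234) (l := 5) rfl N14234 D17332
theorem N17302 : nd 17302 = n17333 := ndS (p := 14235) (l := 4) rfl N14235 D17333
theorem N17303 : nd 17303 = n17334 := ndS (p := 14236) (l := 0) rfl N14236 D17334
theorem N17304 : nd 17304 = n17335 := ndS (p := 14236) (l := 3) rfl N14236 D17335
theorem N17305 : nd 17305 = n17336 := ndS (p := 14236) (l := 5) rfl N14236 D17336
theorem N17306 : nd 17306 = n17337 := ndS (p := 14237) (l := 2) rfl N14237 D17337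
theorem N17307 : nd 17307 = n17338 := ndS (p := 14237) (l := 4) rfl N14237 D17338
theorem N17308 : nd 17308 = n17339 := ndS (p := 14237) (l := 5) rfl N14237 D17339
theorem N17309 : nd 17309 = n17340 := ndS (p := 14238) (l := 4) rfl N14238 D17340
theorem N17310 : nd 17310 = n17341 := ndS (p := 14239) (l := 3) rfl N14239 D17341
theorem N17311 : nd 17311 = n17342 := ndS (p := 14240) (l := 2) rfl N14240 D17342
theorem N17312 : nd 17312 = n17343 := ndS (p := 14241) (l := 1) rfl N14241 D17343
theorem N17313 : nd 17313 = n17345 := ndS (p := 14243) (l := 4) rfl N14243 D17345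
theorem N17314 : nd 17314 = n17346 := ndS (p := 14244) (l := 4) rfl N14244 D17346
theorem N17315 : nd 17315 = n17347 := ndS (p := 14245) (l := 5) rfl N14245 D17347
theorem N17316 : nd 17316 = n17348 := ndS (p := 14246) (l := 3) rfl N14246 D17348
theorem N17317 : nd 17317 = n17349 := ndS (p := 14247) (l := 2) rfl N14247 D17349
theorem N17318 : nd 17318 = n17350 := ndS (p := 14248) (l := 1) rfl N14248 D17350
theorem N17319 : nd 17319 = n17351 := ndS (p := 14249) (l := 0) rfl N14249 D17351
theorem N17320 : nd 17320 = n17352 := ndS (p := 14249) (l := 3) rfl N14249 D17352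
theorem N17321 : nd 17321 = n17353 := ndS (p := 14251) (l := 4) rfl N14251 D17353
theorem N17322 : nd 17322 = n17354 := ndS (p := 14252) (l := 5) rfl N14252 D17354
theorem N17323 : nd 17323 = n17355 := ndS (p := 14253) (l := 2) rfl N14253 D17355
theorem N17324 : nd 17324 = n17356 := ndS (p := 14254) (l := 3) rfl N14254 D17356
theorem N17325 : nd 17325 = n17357 := ndS (p := 14254) (l := 4) rfl N14254 D17357
theorem N17326 : nd 17326 = n17358 := ndS (p := 14255) (l := 5) rfl N14255 D17358
theorem N17327 : nd 17327 = n17359 := ndS (p := 14257) (l := 0) rfl N14257 D17359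
theorem N17328 : nd 17328 = n17360 := ndS (p := 14257) (l := 3) rfl N14257 D17360
theorem N17329 : nd 17329 = n17361 := ndS (p := 14257) (l := 5) rfl N14257 D17361
theorem N17330 : nd 17330 = n17362 := ndS (p := 14258) (l := 2) rfl N14258 D17362
theorem N17331 : nd 17331 = n17363 := ndS (p := 14258) (l := 5) rfl N14258 D17363
theorem N17332 : nd 17332 = n17364 := ndS (p := 14262) (l := 2) rfl N14262 D17364
theorem N17333 : nd 17333 = n17365 := ndS (p := 14262) (l := 4) rfl N14262 D17365
theorem N17334 : nd 17334 = n17366 := ndS (p := 14263) (l := 3) rfl N14263 D17366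
theorem N17335 : nd 17335 = n17367 := ndS (p := 14266) (l := 0) rfl N14266 D17367
theorem N17336 : nd 17336 = n17368 := ndS (p := 14266) (l := 3) rfl N14266 D17368
theorem N17337 : nd 17337 = n17369 := ndS (p := 14266) (l := 5) rfl N14266 D17369
theorem N17338 : nd 17338 = n17370 := ndS (p := 14267) (l := 4) rfl N14267 D17370
theorem N17339 : nd 17339 = n17371 := ndS (p := 14268) (l := 4) rfl N14268 D17371
theorem N17340 : nd 17340 = n17372 := ndS (p := 14270) (l := 3) rfl N14270 D17372
theorem N17341 : nd 17341 = n17373 := ndS (p := 14270) (l := 5) rfl N14270 D17373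
theorem N17342 : nd 17342 = n17374 := ndS (p := 14271) (l := 2) rfl N14271 D17374
theorem N17343 : nd 17343 = n17375 := ndS (p := 14271) (l := 4) rfl N14271 D17375
theorem N17344 : nd 17344 = n17376 := ndS (p := 14271) (l := 5) rfl N14271 D17376
theorem N17345 : nd 17345 = n17377 := ndS (p := 14273) (l := 1) rfl N14273 D17377
theorem N17346 : nd 17346 = n17378 := ndS (p := 14273) (l := 4) rfl N14273 D17378
theorem N17347 : nd 17347 = n17379 := ndS (p := 14274) (l := 5) rfl N14274 D17379
theorem N17348 : nd 17348 = n17380 := ndS (p := 14275) (l := 4) rfl N14275 D17380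
theorem N17349 : nd 17349 = n17381 := ndS (p := 14276) (l := 3) rfl N14276 D17381
theorem N17350 : nd 17350 = n17382 := ndS (p := 14277) (l := 5) rfl N14277 D17382
theorem N17351 : nd 17351 = n17383 := ndS (p := 14279) (l := 2) rfl N14279 D17383
theorem N17352 : nd 17352 = n17384 := ndS (p := 14280) (l := 1) rfl N14280 D17384
theorem N17353 : nd 17353 = n17385 := ndS (p := 14280) (l := 4) rfl N14280 D17385
theorem N17354 : nd 17354 = n17386 := ndS (p := 14281) (l := 5) rfl N14281 D17386
theorem N17355 : nd 17355 = n17387 := ndS (p := 14282) (l := 0) rfl N14282 D17387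
theorem N17356 : nd 17356 = n17388 := ndS (p := 14282) (l := 3) rfl N14282 D17388
theorem N17357 : nd 17357 = n17389 := ndS (p := 14282) (l := 4) rfl N14282 D17389
theorem N17358 : nd 17358 = n17390 := ndS (p := 14283) (l := 4) rfl N14283 D17390
theorem N17359 : nd 17359 = n17391 := ndS (p := 14284) (l := 3) rfl N14284 D17391
theorem N17360 : nd 17360 = n17392 := ndS (p := 14284) (l := 5) rfl N14284 D17392
theorem N17361 : nd 17361 = n17393 := ndS (p := 14289) (l := 3) rfl N14289 D17393
theorem N17362 : nd 17362 = n17394 := ndS (p := 14290) (l := 4) rfl N14290 D17394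
theorem N17363 : nd 17363 = n17395 := ndS (p := 14291) (l := 1) rfl N14291 D17395
theorem N17364 : nd 17364 = n17396 := ndS (p := 14291) (l := 4) rfl N14291 D17396
theorem N17365 : nd 17365 = n17397 := ndS (p := 14292) (l := 5) rfl N14292 D17397
theorem N17366 : nd 17366 = n17398 := ndS (p := 14294) (l := 2) rfl N14294 D17398
theorem N17367 : nd 17367 = n17399 := ndS (p := 14294) (l := 5) rfl N14294 D17399
theorem N17368 : nd 17368 = n17400 := ndS (p := 14297) (l := 4) rfl N14297 D17400
theorem N17369 : nd 17369 = n17401 := ndS (p := 14299) (l := 2) rfl N14299 D17401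
theorem N17370 : nd 17370 = n17402 := ndS (p := 14302) (l := 2) rfl N14302 D17402
theorem N17371 : nd 17371 = n17403 := ndS (p := 14302) (l := 4) rfl N14302 D17403
theorem N17372 : nd 17372 = n17404 := ndS (p := 14303) (l := 5) rfl N14303 D17404
theorem N17373 : nd 17373 = n17405 := ndS (p := 14305) (l := 3) rfl N14305 D17405
theorem N17374 : nd 17374 = n17406 := ndS (p := 14307) (l := 3) rfl N14307 D17406
theorem N17375 : nd 17375 = n17407 := ndS (p := 14308) (l := 2) rfl N14308 D17407
theorem N17376 : nd 17376 = n17408 := ndS (p := 14308) (l := 4) rfl N14308 D17408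
theorem N17377 : nd 17377 = n17409 := ndS (p := 14309) (l := 5) rfl N14309 D17409
theorem N17378 : nd 17378 = n17410 := ndS (p := 14310) (l := 3) rfl N14310 D17410
theorem N17379 : nd 17379 = n17411 := ndS (p := 14311) (l := 2) rfl N14311 D17411
theorem N17380 : nd 17380 = n17412 := ndS (p := 14313) (l := 3) rfl N14313 D17412
theorem N17381 : nd 17381 = n17413 := ndS (p := 14317) (l := 4) rfl N14317 D17413
theorem N17382 : nd 17382 = n17414 := ndS (p := 14321) (l := 5) rfl N14321 D17414
theorem N17383 : nd 17383 = n17415 := ndS (p := 14323) (l := 4) rfl N14323 D17415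
theorem N17384 : nd 17384 = n17416 := ndS (p := 14324) (l := 3) rfl N14324 D17416
theorem N17385 : nd 17385 = n17417 := ndS (p := 14326) (l := 5) rfl N14326 D17417
theorem N17386 : nd 17386 = n17418 := ndS (p := 14328) (l := 1) rfl N14328 D17418
theorem N17387 : nd 17387 = n17419 := ndS (p := 14328) (l := 3) rfl N14328 D17419
theorem N17388 : nd 17388 = n17420 := ndS (p := 14328) (l := 5) rfl N14328 D17420
theorem N17389 : nd 17389 = n17421 := ndS (p := 14329) (l := 4) rfl N14329 D17421
theorem N17390 : nd 17390 = n17422 := ndS (p := 14330) (l := 3) rfl N14330 D17422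
theorem N17391 : nd 17391 = n17423 := ndS (p := 14330) (l := 5) rfl N14330 D17423
theorem N17392 : nd 17392 = n17424 := ndS (p := 14331) (l := 5) rfl N14331 D17424
theorem N17393 : nd 17393 = n17425 := ndS (p := 14333) (l := 3) rfl N14333 D17425
theorem N17394 : nd 17394 = n17426 := ndS (p := 14333) (l := 5) rfl N14333 D17426
theorem N17395 : nd 17395 = n17427 := ndS (p := 14334) (l := 4) rfl N14334 D17427
theorem N17396 : nd 17396 = n17428 := ndS (p := 14337) (l := 5) rfl N14337 D17428
theorem N17397 : nd 17397 = n17429 := ndS (p := 14338) (l := 4) rfl N14338 D17429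
theorem N17398 : nd 17398 = n17430 := ndS (p := 14339) (l := 4) rfl N14339 D17430
theorem N17399 : nd 17399 = n17431 := ndS (p := 14341) (l := 5) rfl N14341 D17431
theorem N17400 : nd 17400 = n17432 := ndS (p := 14342) (l := 3) rfl N14342 D17432
theorem N17401 : nd 17401 = n17433 := ndS (p := 14347) (l := 5) rfl N14347 D17433
theorem N17402 : nd 17402 = n17434 := ndS (p := 14355) (l := 4) rfl N14355 D17434
theorem N17403 : nd 17403 = n17435 := ndS (p := 14356) (l := 2) rfl N14356 D17435
theorem N17404 : nd 17404 = n17436 := ndS (p := 14357) (l := 1) rfl N14357 D17436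
theorem N17405 : nd 17405 = n17437 := ndS (p := 14359) (l := 3) rfl N14359 D17437
theorem N17406 : nd 17406 = n17438 := ndS (p := 14360) (l := 2) rfl N14360 D17438
theorem N17407 : nd 17407 = n17439 := ndS (p := 14360) (l := 4) rfl N14360 D17439
theorem N17408 : nd 17408 = n17440 := ndS (p := 14361) (l := 1) rfl N14361 D17440
theorem N17409 : nd 17409 = n17441 := ndS (p := 14361) (l := 4) rfl N14361 D17441
theorem N17410 : nd 17410 = n17442 := ndS (p := 14362) (l := 5) rfl N14362 D17442
theorem N17411 : nd 17411 = n17443 := ndS (p := 14363) (l := 4) rfl N14363 D17443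
theorem N17412 : nd 17412 = n17444 := ndS (p := 14364) (l := 3) rfl N14364 D17444
theorem N17413 : nd 17413 = n17445 := ndS (p := 14365) (l := 3) rfl N14365 D17445
theorem N17414 : nd 17414 = n17446 := ndS (p := 14365) (l := 5) rfl N14365 D17446
theorem N17415 : nd 17415 = n17447 := ndS (p := 14366) (l := 2) rfl N14366 D17447
theorem N17416 : nd 17416 = n17448 := ndS (p := 14366) (l := 5) rfl N14366 D17448
theorem N17417 : nd 17417 = n17449 := ndS (p := 14368) (l := 1) rfl N14368 D17449
theorem N17418 : nd 17418 = n17450 := ndS (p := 14369) (l := 4) rfl N14369 D17450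
theorem N17419 : nd 17419 = n17451 := ndS (p := 14370) (l := 3) rfl N14370 D17451
theorem N17420 : nd 17420 = n17452 := ndS (p := 14370) (l := 5) rfl N14370 D17452
theorem N17421 : nd 17421 = n17453 := ndS (p := 14371) (l := 2) rfl N14371 D17453
theorem N17422 : nd 17422 = n17454 := ndS (p := 14371) (l := 4) rfl N14371 D17454
theorem N17423 : nd 17423 = n17455 := ndS (p := 14372) (l := 4) rfl N14372 D17455
theorem N17424 : nd 17424 = n17456 := ndS (p := 14373) (l := 5) rfl N14373 D17456
theorem N17425 : nd 17425 = n17457 := ndS (p := 14374) (l := 3) rfl N14374 D17457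
theorem N17426 : nd 17426 = n17458 := ndS (p := 14375) (l := 2) rfl N14375 D17458
theorem N17427 : nd 17427 = n17459 := ndS (p := 14375) (l := 4) rfl N14375 D17459
theorem N17428 : nd 17428 = n17460 := ndS (p := 14375) (l := 5) rfl N14375 D17460
theorem N17429 : nd 17429 = n17461 := ndS (p := 14377) (l := 1) rfl N14377 D17461
theorem N17430 : nd 17430 = n17462 := ndS (p := 14377) (l := 3) rfl N14377 D17462
theorem N17431 : nd 17431 = n17463 := ndS (p := 14377) (l := 4) rfl N14377 D17463
theorem N17432 : nd 17432 = n17464 := ndS (p := 14377) (l := 5) rfl N14377 D17464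
theorem N17433 : nd 17433 = n17465 := ndS (p := 14378) (l := 5) rfl N14378 D17465
theorem N17434 : nd 17434 = n17466 := ndS (p := 14379) (l := 4) rfl N14379 D17466
theorem N17435 : nd 17435 = n17467 := ndS (p := 14380) (l := 0) rfl N14380 D17467
theorem N17436 : nd 17436 = n17468 := ndS (p := 14380) (l := 4) rfl N14380 D17468
theorem N17437 : nd 17437 = n17469 := ndS (p := 14381) (l := 3) rfl N14381 D17469
theorem N17438 : nd 17438 = n17470 := ndS (p := 14381) (l := 5) rfl N14381 D17470
theorem N17439 : nd 17439 = n17471 := ndS (p := 14382) (l := 4) rfl N14382 D17471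
theorem N17440 : nd 17440 = n17472 := ndS (p := 14383) (l := 3) rfl N14383 D17472
theorem N17441 : nd 17441 = n17473 := ndS (p := 14384) (l := 2) rfl N14384 D17473
theorem N17442 : nd 17442 = n17474 := ndS (p := 14385) (l := 4) rfl N14385 D17474
theorem N17443 : nd 17443 = n17475 := ndS (p := 14386) (l := 5) rfl N14386 D17475
theorem N17444 : nd 17444 = n17476 := ndS (p := 14387) (l := 3) rfl N14387 D17476
theorem N17445 : nd 17445 = n17477 := ndS (p := 14389) (l := 3) rfl N14389 D17477
theorem N17446 : nd 17446 = n17478 := ndS (p := 14391) (l := 2) rfl N14391 D17478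
theorem N17447 : nd 17447 = n17479 := ndS (p := 14392) (l := 1) rfl N14392 D17479
theorem N17448 : nd 17448 = n17480 := ndS (p := 14392) (l := 3) rfl N14392 D17480
theorem N17449 : nd 17449 = n17481 := ndS (p := 14397) (l := 0) rfl N14397 D17481
theorem N17450 : nd 17450 = n17482 := ndS (p := 14398) (l := 3) rfl N14398 D17482
theorem N17451 : nd 17451 = n17483 := ndS (p := 14399) (l := 2) rfl N14399 D17483
theorem N17452 : nd 17452 = n17484 := ndS (p := 14403) (l := 2) rfl N14403 D17484
theorem N17453 : nd 17453 = n17485 := ndS (p := 14403) (l := 4) rfl N14403 D17485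
theorem N17454 : nd 17454 = n17486 := ndS (p := 14404) (l := 5) rfl N14404 D17486
theorem N17455 : nd 17455 = n17487 := ndS (p := 14408) (l := 1) rfl N14408 D17487
theorem N17456 : nd 17456 = n17488 := ndS (p := 14408) (l := 5) rfl N14408 D17488
theorem N17457 : nd 17457 = n17489 := ndS (p := 14410) (l := 1) rfl N14410 D17489
theorem N17458 : nd 17458 = n17490 := ndS (p := 14410) (l := 3) rfl N14410 D17490
theorem N17459 : nd 17459 = n17491 := ndS (p := 14410) (l := 5) rfl N14410 D17491
theorem N17460 : nd 17460 = n17492 := ndS (p := 14411) (l := 4) rfl N14411 D17492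
theorem N17461 : nd 17461 = n17493 := ndS (p := 14412) (l := 0) rfl N14412 D17493
theorem N17462 : nd 17462 = n17494 := ndS (p := 14413) (l := 5) rfl N14413 D17494
theorem N17463 : nd 17463 = n17495 := ndS (p := 14418) (l := 0) rfl N14418 D17495
theorem N17464 : nd 17464 = n17496 := ndS (p := 14418) (l := 3) rfl N14418 D17496
theorem N17465 : nd 17465 = n17497 := ndS (p := 14419) (l := 2) rfl N14419 D17497
theorem N17466 : nd 17466 = n17498 := ndS (p := 14419) (l := 5) rfl N14419 D17498
theorem N17467 : nd 17467 = n17499 := ndS (p := 14426) (l := 2) rfl N14426 D17499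
theorem N17468 : nd 17468 = n17500 := ndS (p := 14427) (l := 1) rfl N14427 D17500
theorem N17469 : nd 17469 = n17501 := ndS (p := 14430) (l := 2) rfl N14430 D17501
theorem N17470 : nd 17470 = n17502 := ndS (p := 14431) (l := 1) rfl N14431 D17502
theorem N17471 : nd 17471 = n17503 := ndS (p := 14431) (l := 3) rfl N14431 D17503
theorem N17472 : nd 17472 = n17504 := ndS (p := 14431) (l := 5) rfl N14431 D17504
theorem N17473 : nd 17473 = n17505 := ndS (p := 14432) (l := 4) rfl N14432 D17505
theorem N17474 : nd 17474 = n17506 := ndS (p := 14433) (l := 3) rfl N14433 D17506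
theorem N17475 : nd 17475 = n17507 := ndS (p := 14433) (l := 5) rfl N14433 D17507
theorem N17476 : nd 17476 = n17508 := ndS (p := 14435) (l := 4) rfl N14435 D17508
theorem N17477 : nd 17477 = n17509 := ndS (p := 14437) (l := 4) rfl N14437 D17509
theorem N17478 : nd 17478 = n17510 := ndS (p := 14438) (l := 1) rfl N14438 D17510
theorem N17479 : nd 17479 = n17511 := ndS (p := 14438) (l := 4) rfl N14438 D17511
theorem N17480 : nd 17480 = n17512 := ndS (p := 14439) (l := 5) rfl N14439 D17512
theorem N17481 : nd 17481 = n17513 := ndS (p := 14440) (l := 1) rfl N14440 D17513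
theorem N17482 : nd 17482 = n17514 := ndS (p := 14441) (l := 0) rfl N14441 D17514
theorem N17483 : nd 17483 = n17515 := ndS (p := 14441) (l := 3) rfl N14441 D17515
theorem N17484 : nd 17484 = n17516 := ndS (p := 14442) (l := 4) rfl N14442 D17516
theorem N17485 : nd 17485 = n17517 := ndS (p := 14443) (l := 2) rfl N14443 D17517
theorem N17486 : nd 17486 = n17518 := ndS (p := 14443) (l := 4) rfl N14443 D17518
theorem N17487 : nd 17487 = n17519 := ndS (p := 14444) (l := 4) rfl N14444 D17519
theorem N17488 : nd 17488 = n17520 := ndS (p := 14445) (l := 5) rfl N14445 D17520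
theorem N17489 : nd 17489 = n17521 := ndS (p := 14447) (l := 3) rfl N14447 D17521
theorem N17490 : nd 17490 = n17522 := ndS (p := 14449) (l := 3) rfl N14449 D17522
theorem N17491 : nd 17491 = n17523 := ndS (p := 14450) (l := 2) rfl N14450 D17523
theorem N17492 : nd 17492 = n17524 := ndS (p := 14450) (l := 4) rfl N14450 D17524
theorem N17493 : nd 17493 = n17525 := ndS (p := 14451) (l := 5) rfl N14451 D17525
theorem N17494 : nd 17494 = n17526 := ndS (p := 14452) (l := 4) rfl N14452 D17526
theorem N17495 : nd 17495 = n17527 := ndS (p := 14453) (l := 3) rfl N14453 D17527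
theorem N17496 : nd 17496 = n17528 := ndS (p := 14453) (l := 5) rfl N14453 D17528
theorem N17497 : nd 17497 = n17529 := ndS (p := 14455) (l := 4) rfl N14455 D17529
theorem N17498 : nd 17498 = n17530 := ndS (p := 14456) (l := 5) rfl N14456 D17530
theorem N17499 : nd 17499 = n17531 := ndS (p := 14457) (l := 4) rfl N14457 D17531
theorem N17500 : nd 17500 = n17532 := ndS (p := 14458) (l := 3) rfl N14458 D17532
theorem N17501 : nd 17501 = n17533 := ndS (p := 14458) (l := 5) rfl N14458 D17533
theorem N17502 : nd 17502 = n17534 := ndS (p := 14461) (l := 2) rfl N14461 D17534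
theorem N17503 : nd 17503 = n17535 := ndS (p := 14461) (l := 4) rfl N14461 D17535
theorem N17504 : nd 17504 = n17536 := ndS (p := 14462) (l := 4) rfl N14462 D17536
theorem N17505 : nd 17505 = n17537 := ndS (p := 14464) (l := 3) rfl N14464 D17537
theorem N17506 : nd 17506 = n17538 := ndS (p := 14465) (l := 4) rfl N14465 D17538
theorem N17507 : nd 17507 = n17539 := ndS (p := 14466) (l := 5) rfl N14466 D17539
theorem N17508 : nd 17508 = n17540 := ndS (p := 14467) (l := 3) rfl N14467 D17540
theorem N17509 : nd 17509 = n17541 := ndS (p := 14469) (l := 5) rfl N14469 D17541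
theorem N17510 : nd 17510 = n17542 := ndS (p := 14472) (l := 5) rfl N14472 D17542
theorem N17511 : nd 17511 = n17543 := ndS (p := 14473) (l := 4) rfl N14473 D17543
theorem N17512 : nd 17512 = n17544 := ndS (p := 14478) (l := 4) rfl N14478 D17544
theorem N17513 : nd 17513 = n17545 := ndS (p := 14479) (l := 3) rfl N14479 D17545
theorem N17514 : nd 17514 = n17546 := ndS (p := 14481) (l := 3) rfl N14481 D17546
theorem N17515 : nd 17515 = n17547 := ndS (p := 14482) (l := 2) rfl N14482 D17547
theorem N17516 : nd 17516 = n17548 := ndS (p := 14484) (l := 3) rfl N14484 D17548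
theorem N17517 : nd 17517 = n17549 := ndS (p := 14485) (l := 2) rfl N14485 D17549
theorem N17518 : nd 17518 = n17550 := ndS (p := 14486) (l := 1) rfl N14486 D17550
theorem N17519 : nd 17519 = n17551 := ndS (p := 14486) (l := 3) rfl N14486 D17551
theorem N17520 : nd 17520 = n17552 := ndS (p := 14487) (l := 4) rfl N14487 D17552
theorem N17521 : nd 17521 = n17553 := ndS (p := 14488) (l := 3) rfl N14488 D17553
theorem N17522 : nd 17522 = n17554 := ndS (p := 14488) (l := 5) rfl N14488 D17554
theorem N17523 : nd 17523 = n17555 := ndS (p := 14490) (l := 2) rfl N14490 D17555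
theorem N17524 : nd 17524 = n17556 := ndS (p := 14491) (l := 5) rfl N14491 D17556
theorem N17525 : nd 17525 = n17557 := ndS (p := 14493) (l := 5) rfl N14493 D17557
theorem N17526 : nd 17526 = n17558 := ndS (p := 14496) (l := 1) rfl N14496 D17558
theorem N17527 : nd 17527 = n17559 := ndS (p := 14496) (l := 3) rfl N14496 D17559
theorem N17528 : nd 17528 = n17560 := ndS (p := 14496) (l := 5) rfl N14496 D17560
theorem N17529 : nd 17529 = n17561 := ndS (p := 14498) (l := 2) rfl N14498 D17561
theorem N17530 : nd 17530 = n17562 := ndS (p := 14498) (l := 4) rfl N14498 D17562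
theorem N17531 : nd 17531 = n17563 := ndS (p := 14499) (l := 5) rfl N14499 D17563
theorem N17532 : nd 17532 = n17564 := ndS (p := 14500) (l := 3) rfl N14500 D17564
theorem N17533 : nd 17533 = n17565 := ndS (p := 14500) (l := 5) rfl N14500 D17565
theorem N17534 : nd 17534 = n17566 := ndS (p := 14502) (l := 3) rfl N14502 D17566
theorem N17535 : nd 17535 = n17567 := ndS (p := 14503) (l := 2) rfl N14503 D17567
theorem N17536 : nd 17536 = n17568 := ndS (p := 14503) (l := 4) rfl N14503 D17568
theorem N17537 : nd 17537 = n17569 := ndS (p := 14504) (l := 4) rfl N14504 D17569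
theorem N17538 : nd 17538 = n17570 := ndS (p := 14505) (l := 5) rfl N14505 D17570
theorem N17539 : nd 17539 = n17571 := ndS (p := 14506) (l := 3) rfl N14506 D17571
theorem N17540 : nd 17540 = n17572 := ndS (p := 14507) (l := 4) rfl N14507 D17572
theorem N17541 : nd 17541 = n17573 := ndS (p := 14508) (l := 1) rfl N14508 D17573
theorem N17542 : nd 17542 = n17574 := ndS (p := 14508) (l := 4) rfl N14508 D17574
theorem N17543 : nd 17543 = n17575 := ndS (p := 14509) (l := 5) rfl N14509 D17575
theorem N17544 : nd 17544 = n17576 := ndS (p := 14510) (l := 0) rfl N14510 D17576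
theorem N17545 : nd 17545 = n17577 := ndS (p := 14510) (l := 4) rfl N14510 D17577
theorem N17546 : nd 17546 = n17578 := ndS (p := 14511) (l := 3) rfl N14511 D17578
theorem N17547 : nd 17547 = n17579 := ndS (p := 14511) (l := 5) rfl N14511 D17579
theorem N17548 : nd 17548 = n17580 := ndS (p := 14512) (l := 4) rfl N14512 D17580
theorem N17549 : nd 17549 = n17581 := ndS (p := 14513) (l := 3) rfl N14513 D17581
theorem N17550 : nd 17550 = n17582 := ndS (p := 14514) (l := 2) rfl N14514 D17582
theorem N17551 : nd 17551 = n17583 := ndS (p := 14515) (l := 3) rfl N14515 D17583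
theorem N17552 : nd 17552 = n17584 := ndS (p := 14516) (l := 2) rfl N14516 D17584
theorem N17553 : nd 17553 = n17585 := ndS (p := 14516) (l := 4) rfl N14516 D17585
theorem N17554 : nd 17554 = n17586 := ndS (p := 14516) (l := 5) rfl N14516 D17586
theorem N17555 : nd 17555 = n17587 := ndS (p := 14517) (l := 4) rfl N14517 D17587
theorem N17556 : nd 17556 = n17588 := ndS (p := 14518) (l := 4) rfl N14518 D17588
theorem N17557 : nd 17557 = n17589 := ndS (p := 14519) (l := 5) rfl N14519 D17589
theorem N17558 : nd 17558 = n17590 := ndS (p := 14521) (l := 3) rfl N14521 D17590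
theorem N17559 : nd 17559 = n17591 := ndS (p := 14522) (l := 2) rfl N14522 D17591
theorem N17560 : nd 17560 = n17592 := ndS (p := 14522) (l := 4) rfl N14522 D17592
theorem N17561 : nd 17561 = n17593 := ndS (p := 14523) (l := 4) rfl N14523 D17593
theorem N17562 : nd 17562 = n17594 := ndS (p := 14524) (l := 3) rfl N14524 D17594
theorem N17563 : nd 17563 = n17595 := ndS (p := 14524) (l := 4) rfl N14524 D17595
theorem N17564 : nd 17564 = n17596 := ndS (p := 14525) (l := 5) rfl N14525 D17596
theorem N17565 : nd 17565 = n17597 := ndS (p := 14526) (l := 3) rfl N14526 D17597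
theorem N17566 : nd 17566 = n17598 := ndS (p := 14528) (l := 2) rfl N14528 D17598
theorem N17567 : nd 17567 = n17599 := ndS (p := 14529) (l := 3) rfl N14529 D17599
theorem N17568 : nd 17568 = n17600 := ndS (p := 14530) (l := 2) rfl N14530 D17600
theorem N17569 : nd 17569 = n17601 := ndS (p := 14531) (l := 4) rfl N14531 D17601
theorem N17570 : nd 17570 = n17602 := ndS (p := 14532) (l := 1) rfl N14532 D17602
theorem N17571 : nd 17571 = n17603 := ndS (p := 14532) (l := 4) rfl N14532 D17603
theorem N17572 : nd 17572 = n17604 := ndS (p := 14533) (l := 5) rfl N14533 D17604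
theorem N17573 : nd 17573 = n17605 := ndS (p := 14534) (l := 0) rfl N14534 D17605
theorem N17574 : nd 17574 = n17606 := ndS (p := 14534) (l := 4) rfl N14534 D17606
theorem N17575 : nd 17575 = n17607 := ndS (p := 14535) (l := 3) rfl N14535 D17607
theorem N17576 : nd 17576 = n17608 := ndS (p := 14535) (l := 5) rfl N14535 D17608
theorem N17577 : nd 17577 = n17609 := ndS (p := 14536) (l := 4) rfl N14536 D17609
theorem N17578 : nd 17578 = n17610 := ndS (p := 14537) (l := 3) rfl N14537 D17610
theorem N17579 : nd 17579 = n17611 := ndS (p := 14538) (l := 2) rfl N14538 D17611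
theorem N17580 : nd 17580 = n17612 := ndS (p := 14539) (l := 1) rfl N14539 D17612
theorem N17581 : nd 17581 = n17613 := ndS (p := 14539) (l := 4) rfl N14539 D17613
theorem N17582 : nd 17582 = n17614 := ndS (p := 14540) (l := 5) rfl N14540 D17614
theorem N17583 : nd 17583 = n17615 := ndS (p := 14541) (l := 4) rfl N14541 D17615
theorem N17584 : nd 17584 = n17616 := ndS (p := 14542) (l := 3) rfl N14542 D17616
theorem N17585 : nd 17585 = n17617 := ndS (p := 14545) (l := 3) rfl N14545 D17617
theorem N17586 : nd 17586 = n17618 := ndS (p := 14546) (l := 2) rfl N14546 D17618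
theorem N17587 : nd 17587 = n17619 := ndS (p := 14548) (l := 3) rfl N14548 D17619
theorem N17588 : nd 17588 = n17620 := ndS (p := 14549) (l := 2) rfl N14549 D17620
theorem N17589 : nd 17589 = n17621 := ndS (p := 14550) (l := 1) rfl N14550 D17621
theorem N17590 : nd 17590 = n17622 := ndS (p := 14550) (l := 3) rfl N14550 D17622
theorem N17591 : nd 17591 = n17623 := ndS (p := 14551) (l := 4) rfl N14551 D17623
theorem N17592 : nd 17592 = n17624 := ndS (p := 14552) (l := 4) rfl N14552 D17624
theorem N17593 : nd 17593 = n17625 := ndS (p := 14553) (l := 3) rfl N14553 D17625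
theorem N17594 : nd 17594 = n17626 := ndS (p := 14554) (l := 4) rfl N14554 D17626
theorem N17595 : nd 17595 = n17627 := ndS (p := 14555) (l := 3) rfl N14555 D17627
theorem N17596 : nd 17596 = n17628 := ndS (p := 14555) (l := 5) rfl N14555 D17628
theorem N17597 : nd 17597 = n17629 := ndS (p := 14556) (l := 2) rfl N14556 D17629
theorem N17598 : nd 17598 = n17630 := ndS (p := 14557) (l := 0) rfl N14557 D17630
theorem N17599 : nd 17599 = n17631 := ndS (p := 14557) (l := 5) rfl N14557 D17631
theorem N17600 : nd 17600 = n17632 := ndS (p := 14558) (l := 4) rfl N14558 D17632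
theorem N17601 : nd 17601 = n17633 := ndS (p := 14560) (l := 3) rfl N14560 D17633
theorem N17602 : nd 17602 = n17634 := ndS (p := 14560) (l := 4) rfl N14560 D17634
theorem N17603 : nd 17603 = n17635 := ndS (p := 14561) (l := 2) rfl N14561 D17635
theorem N17604 : nd 17604 = n17636 := ndS (p := 14561) (l := 4) rfl N14561 D17636
theorem N17605 : nd 17605 = n17637 := ndS (p := 14562) (l := 3) rfl N14562 D17637
theorem N17606 : nd 17606 = n17638 := ndS (p := 14562) (l := 5) rfl N14562 D17638
theorem N17607 : nd 17607 = n17639 := ndS (p := 14563) (l := 3) rfl N14563 D17639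
theorem N17608 : nd 17608 = n17640 := ndS (p := 14563) (l := 5) rfl N14563 D17640
theorem N17609 : nd 17609 = n17641 := ndS (p := 14564) (l := 4) rfl N14564 D17641
theorem N17610 : nd 17610 = n17642 := ndS (p := 14566) (l := 4) rfl N14566 D17642
theorem N17611 : nd 17611 = n17643 := ndS (p := 14567) (l := 3) rfl N14567 D17643
theorem N17612 : nd 17612 = n17644 := ndS (p := 14569) (l := 3) rfl N14569 D17644
theorem N17613 : nd 17613 = n17645 := ndS (p := 14569) (l := 5) rfl N14569 D17645
theorem N17614 : nd 17614 = n17646 := ndS (p := 14570) (l := 2) rfl N14570 D17646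
theorem N17615 : nd 17615 = n17647 := ndS (p := 14570) (l := 5) rfl N14570 D17647
theorem N17616 : nd 17616 = n17648 := ndS (p := 14572) (l := 1) rfl N14572 D17648
theorem N17617 : nd 17617 = n17649 := ndS (p := 14573) (l := 4) rfl N14573 D17649
theorem N17618 : nd 17618 = n17650 := ndS (p := 14575) (l := 2) rfl N14575 D17650
theorem N17619 : nd 17619 = n17651 := ndS (p := 14575) (l := 4) rfl N14575 D17651
theorem N17620 : nd 17620 = n17652 := ndS (p := 14576) (l := 5) rfl N14576 D17652
theorem N17621 : nd 17621 = n17653 := ndS (p := 14577) (l := 0) rfl N14577 D17653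
theorem N17622 : nd 17622 = n17654 := ndS (p := 14577) (l := 4) rfl N14577 D17654
theorem N17623 : nd 17623 = n17655 := ndS (p := 14578) (l := 3) rfl N14578 D17655
theorem N17624 : nd 17624 = n17656 := ndS (p := 14578) (l := 5) rfl N14578 D17656
theorem N17625 : nd 17625 = n17657 := ndS (p := 14580) (l := 3) rfl N14580 D17657
theorem N17626 : nd 17626 = n17658 := ndS (p := 14580) (l := 5) rfl N14580 D17658
theorem N17627 : nd 17627 = n17659 := ndS (p := 14581) (l := 2) rfl N14581 D17659
theorem N17628 : nd 17628 = n17660 := ndS (p := 14581) (l := 4) rfl N14581 D17660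
theorem N17629 : nd 17629 = n17661 := ndS (p := 14582) (l := 4) rfl N14582 D17661
theorem N17630 : nd 17630 = n17662 := ndS (p := 14583) (l := 5) rfl N14583 D17662
theorem N17631 : nd 17631 = n17663 := ndS (p := 14584) (l := 3) rfl N14584 D17663
theorem N17632 : nd 17632 = n17664 := ndS (p := 14585) (l := 0) rfl N14585 D17664
theorem N17633 : nd 17633 = n17665 := ndS (p := 14585) (l := 4) rfl N14585 D17665
theorem N17634 : nd 17634 = n17666 := ndS (p := 14586) (l := 3) rfl N14586 D17666
theorem N17635 : nd 17635 = n17667 := ndS (p := 14586) (l := 5) rfl N14586 D17667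
theorem N17636 : nd 17636 = n17668 := ndS (p := 14587) (l := 4) rfl N14587 D17668
theorem N17637 : nd 17637 = n17669 := ndS (p := 14589) (l := 3) rfl N14589 D17669
theorem N17638 : nd 17638 = n17670 := ndS (p := 14589) (l := 5) rfl N14589 D17670
theorem N17639 : nd 17639 = n17671 := ndS (p := 14590) (l := 2) rfl N14590 D17671
theorem N17640 : nd 17640 = n17672 := ndS (p := 14590) (l := 4) rfl N14590 D17672
theorem N17641 : nd 17641 = n17673 := ndS (p := 14591) (l := 4) rfl N14591 D17673
theorem N17642 : nd 17642 = n17674 := ndS (p := 14592) (l := 5) rfl N14592 D17674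
theorem N17643 : nd 17643 = n17675 := ndS (p := 14593) (l := 3) rfl N14593 D17675
theorem N17644 : nd 17644 = n17676 := ndS (p := 14594) (l := 2) rfl N14594 D17676
theorem N17645 : nd 17645 = n17677 := ndS (p := 14594) (l := 4) rfl N14594 D17677
theorem N17646 : nd 17646 = n17678 := ndS (p := 14594) (l := 5) rfl N14594 D17678
theorem N17647 : nd 17647 = n17679 := ndS (p := 14596) (l := 1) rfl N14596 D17679
theorem N17648 : nd 17648 = n17680 := ndS (p := 14596) (l := 3) rfl N14596 D17680
theorem N17649 : nd 17649 = n17681 := ndS (p := 14596) (l := 4) rfl N14596 D17681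
theorem N17650 : nd 17650 = n17682 := ndS (p := 14596) (l := 5) rfl N14596 D17682
theorem N17651 : nd 17651 = n17683 := ndS (p := 14597) (l := 5) rfl N14597 D17683
theorem N17652 : nd 17652 = n17684 := ndS (p := 14600) (l := 0) rfl N14600 D17684
theorem N17653 : nd 17653 = n17685 := ndS (p := 14600) (l := 4) rfl N14600 D17685
theorem N17654 : nd 17654 = n17686 := ndS (p := 14601) (l := 3) rfl N14601 D17686
theorem N17655 : nd 17655 = n17687 := ndS (p := 14601) (l := 5) rfl N14601 D17687
theorem N17656 : nd 17656 = n17688 := ndS (p := 14602) (l := 4) rfl N14602 D17688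
theorem N17657 : nd 17657 = n17689 := ndS (p := 14604) (l := 2) rfl N14604 D17689
theorem N17658 : nd 17658 = n17690 := ndS (p := 14610) (l := 0) rfl N14610 D17690
theorem N17659 : nd 17659 = n17691 := ndS (p := 14610) (l := 3) rfl N14610 D17691
theorem N17660 : nd 17660 = n17692 := ndS (p := 14611) (l := 4) rfl N14611 D17692
theorem N17661 : nd 17661 = n17693 := ndS (p := 14614) (l := 3) rfl N14614 D17693
theorem N17662 : nd 17662 = n17694 := ndS (p := 14615) (l := 2) rfl N14615 D17694
theorem N17663 : nd 17663 = n17695 := ndS (p := 14615) (l := 4) rfl N14615 D17695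
theorem N17664 : nd 17664 = n17696 := ndS (p := 14616) (l := 1) rfl N14616 D17696
theorem N17665 : nd 17665 = n17697 := ndS (p := 14616) (l := 4) rfl N14616 D17697
theorem N17666 : nd 17666 = n17698 := ndS (p := 14617) (l := 5) rfl N14617 D17698
theorem N17667 : nd 17667 = n17699 := ndS (p := 14618) (l := 4) rfl N14618 D17699
theorem N17668 : nd 17668 = n17700 := ndS (p := 14619) (l := 3) rfl N14619 D17700
theorem N17669 : nd 17669 = n17701 := ndS (p := 14620) (l := 2) rfl N14620 D17701
theorem N17670 : nd 17670 = n17702 := ndS (p := 14622) (l := 5) rfl N14622 D17702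
theorem N17671 : nd 17671 = n17703 := ndS (p := 14624) (l := 2) rfl N14624 D17703
theorem N17672 : nd 17672 = n17704 := ndS (p := 14624) (l := 5) rfl N14624 D17704
theorem N17673 : nd 17673 = n17705 := ndS (p := 14627) (l := 4) rfl N14627 D17705
theorem N17674 : nd 17674 = n17706 := ndS (p := 14635) (l := 3) rfl N14635 D17706
theorem N17675 : nd 17675 = n17707 := ndS (p := 14635) (l := 5) rfl N14635 D17707
theorem N17676 : nd 17676 = n17708 := ndS (p := 14637) (l := 2) rfl N14637 D17708
theorem N17677 : nd 17677 = n17709 := ndS (p := 14637) (l := 5) rfl N14637 D17709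
theorem N17678 : nd 17678 = n17710 := ndS (p := 14639) (l := 2) rfl N14639 D17710
theorem N17679 : nd 17679 = n17711 := ndS (p := 14639) (l := 5) rfl N14639 D17711
theorem N17680 : nd 17680 = n17712 := ndS (p := 14641) (l := 1) rfl N14641 D17712
theorem N17681 : nd 17681 = n17713 := ndS (p := 14641) (l := 3) rfl N14641 D17713
theorem N17682 : nd 17682 = n17714 := ndS (p := 14641) (l := 5) rfl N14641 D17714
theorem N17683 : nd 17683 = n17715 := ndS (p := 14642) (l := 4) rfl N14642 D17715
theorem N17684 : nd 17684 = n17716 := ndS (p := 14643) (l := 3) rfl N14643 D17716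
theorem N17685 : nd 17685 = n17717 := ndS (p := 14644) (l := 2) rfl N14644 D17717
theorem N17686 : nd 17686 = n17718 := ndS (p := 14645) (l := 1) rfl N14645 D17718
theorem N17687 : nd 17687 = n17719 := ndS (p := 14646) (l := 4) rfl N14646 D17719
theorem N17688 : nd 17688 = n17720 := ndS (p := 14647) (l := 0) rfl N14647 D17720
theorem N17689 : nd 17689 = n17721 := ndS (p := 14648) (l := 3) rfl N14648 D17721
theorem N17690 : nd 17690 = n17722 := ndS (p := 14650) (l := 1) rfl N14650 D17722
theorem N17691 : nd 17691 = n17723 := ndS (p := 14651) (l := 1) rfl N14651 D17723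
theorem N17692 : nd 17692 = n17724 := ndS (p := 14651) (l := 3) rfl N14651 D17724
theorem N17693 : nd 17693 = n17725 := ndS (p := 14651) (l := 5) rfl N14651 D17725
theorem N17694 : nd 17694 = n17726 := ndS (p := 14652) (l := 4) rfl N14652 D17726
theorem N17695 : nd 17695 = n17727 := ndS (p := 14653) (l := 1) rfl N14653 D17727
theorem N17696 : nd 17696 = n17728 := ndS (p := 14653) (l := 3) rfl N14653 D17728
theorem N17697 : nd 17697 = n17729 := ndS (p := 14653) (l := 5) rfl N14653 D17729
theorem N17698 : nd 17698 = n17730 := ndS (p := 14654) (l := 4) rfl N14654 D17730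
theorem N17699 : nd 17699 = n17731 := ndS (p := 14655) (l := 0) rfl N14655 D17731
theorem N17700 : nd 17700 = n17732 := ndS (p := 14655) (l := 3) rfl N14655 D17732
theorem N17701 : nd 17701 = n17733 := ndS (p := 14656) (l := 2) rfl N14656 D17733
theorem N17702 : nd 17702 = n17734 := ndS (p := 14656) (l := 4) rfl N14656 D17734
theorem N17703 : nd 17703 = n17735 := ndS (p := 14656) (l := 5) rfl N14656 D17735
theorem N17704 : nd 17704 = n17736 := ndS (p := 14657) (l := 4) rfl N14657 D17736
theorem N17705 : nd 17705 = n17737 := ndS (p := 14660) (l := 0) rfl N14660 D17737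
theorem N17706 : nd 17706 = n17738 := ndS (p := 14660) (l := 3) rfl N14660 D17738
theorem N17707 : nd 17707 = n17739 := ndS (p := 14660) (l := 5) rfl N14660 D17739
theorem N17708 : nd 17708 = n17740 := ndS (p := 14665) (l := 1) rfl N14665 D17740
theorem N17709 : nd 17709 = n17741 := ndS (p := 14668) (l := 1) rfl N14668 D17741
theorem N17710 : nd 17710 = n17742 := ndS (p := 14669) (l := 0) rfl N14669 D17742
theorem N17711 : nd 17711 = n17743 := ndS (p := 14669) (l := 3) rfl N14669 D17743
theorem N17712 : nd 17712 = n17744 := ndS (p := 14675) (l := 4) rfl N14675 D17744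
theorem N17713 : nd 17713 = n17745 := ndS (p := 14676) (l := 1) rfl N14676 D17745
theorem N17714 : nd 17714 = n17746 := ndS (p := 14676) (l := 4) rfl N14676 D17746
theorem N17715 : nd 17715 = n17747 := ndS (p := 14677) (l := 5) rfl N14677 D17747
theorem N17716 : nd 17716 = n17748 := ndS (p := 14678) (l := 4) rfl N14678 D17748
theorem N17717 : nd 17717 = n17749 := ndS (p := 14679) (l := 5) rfl N14679 D17749
theorem N17718 : nd 17718 = n17750 := ndS (p := 14681) (l := 4) rfl N14681 D17750
theorem N17719 : nd 17719 = n17751 := ndS (p := 14682) (l := 5) rfl N14682 D17751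
theorem N17720 : nd 17720 = n17752 := ndS (p := 14683) (l := 3) rfl N14683 D17752
theorem N17721 : nd 17721 = n17753 := ndS (p := 14684) (l := 2) rfl N14684 D17753
theorem N17722 : nd 17722 = n17754 := ndS (p := 14684) (l := 4) rfl N14684 D17754
theorem N17723 : nd 17723 = n17755 := ndS (p := 14685) (l := 4) rfl N14685 D17755
theorem N17724 : nd 17724 = n17756 := ndS (p := 14686) (l := 3) rfl N14686 D17756
theorem N17725 : nd 17725 = n17757 := ndS (p := 14686) (l := 4) rfl N14686 D17757
theorem N17726 : nd 17726 = n17758 := ndS (p := 14687) (l := 5) rfl N14687 D17758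
theorem N17727 : nd 17727 = n17759 := ndS (p := 14688) (l := 3) rfl N14688 D17759
theorem N17728 : nd 17728 = n17760 := ndS (p := 14692) (l := 0) rfl N14692 D17760
theorem N17729 : nd 17729 = n17761 := ndS (p := 14692) (l := 4) rfl N14692 D17761
theorem N17730 : nd 17730 = n17762 := ndS (p := 14693) (l := 3) rfl N14693 D17762
theorem N17731 : nd 17731 = n17763 := ndS (p := 14693) (l := 5) rfl N14693 D17763
theorem N17732 : nd 17732 = n17764 := ndS (p := 14697) (l := 4) rfl N14697 D17764
theorem N17733 : nd 17733 = n17765 := ndS (p := 14698) (l := 4) rfl N14698 D17765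
theorem N17734 : nd 17734 = n17766 := ndS (p := 14699) (l := 5) rfl N14699 D17766
theorem N17735 : nd 17735 = n17767 := ndS (p := 14700) (l := 0) rfl N14700 D17767
theorem N17736 : nd 17736 = n17768 := ndS (p := 14702) (l := 0) rfl N14702 D17768
theorem N17737 : nd 17737 = n17769 := ndS (p := 14702) (l := 3) rfl N14702 D17769
theorem N17738 : nd 17738 = n17770 := ndS (p := 14702) (l := 5) rfl N14702 D17770
theorem N17739 : nd 17739 = n17771 := ndS (p := 14703) (l := 4) rfl N14703 D17771
theorem N17740 : nd 17740 = n17772 := ndS (p := 14704) (l := 4) rfl N14704 D17772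
theorem N17741 : nd 17741 = n17773 := ndS (p := 14706) (l := 3) rfl N14706 D17773
theorem N17742 : nd 17742 = n17774 := ndS (p := 14706) (l := 5) rfl N14706 D17774
theorem N17743 : nd 17743 = n17775 := ndS (p := 14707) (l := 2) rfl N14707 D17775
theorem N17744 : nd 17744 = n17776 := ndS (p := 14707) (l := 4) rfl N14707 D17776
theorem N17745 : nd 17745 = n17777 := ndS (p := 14708) (l := 4) rfl N14708 D17777
theorem N17746 : nd 17746 = n17778 := ndS (p := 14712) (l := 2) rfl N14712 D17778
theorem N17747 : nd 17747 = n17779 := ndS (p := 14712) (l := 5) rfl N14712 D17779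
theorem N17748 : nd 17748 = n17780 := ndS (p := 14714) (l := 2) rfl N14714 D17780
theorem N17749 : nd 17749 = n17781 := ndS (p := 14714) (l := 5) rfl N14714 D17781
theorem N17750 : nd 17750 = n17782 := ndS (p := 14716) (l := 1) rfl N14716 D17782
theorem N17751 : nd 17751 = n17783 := ndS (p := 14716) (l := 3) rfl N14716 D17783
theorem N17752 : nd 17752 = n17784 := ndS (p := 14716) (l := 5) rfl N14716 D17784
theorem N17753 : nd 17753 = n17785 := ndS (p := 14717) (l := 4) rfl N14717 D17785
theorem N17754 : nd 17754 = n17786 := ndS (p := 14718) (l := 0) rfl N14718 D17786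
theorem N17755 : nd 17755 = n17787 := ndS (p := 14720) (l := 0) rfl N14720 D17787
theorem N17756 : nd 17756 = n17788 := ndS (p := 14720) (l := 3) rfl N14720 D17788
theorem N17757 : nd 17757 = n17789 := ndS (p := 14721) (l := 4) rfl N14721 D17789
theorem N17758 : nd 17758 = n17790 := ndS (p := 14726) (l := 4) rfl N14726 D17790
theorem N17759 : nd 17759 = n17791 := ndS (p := 14730) (l := 0) rfl N14730 D17791
theorem N17760 : nd 17760 = n17792 := ndS (p := 14733) (l := 3) rfl N14733 D17792
theorem N17761 : nd 17761 = n17793 := ndS (p := 14733) (l := 5) rfl N14733 D17793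
theorem N17762 : nd 17762 = n17794 := ndS (p := 14734) (l := 2) rfl N14734 D17794
theorem N17763 : nd 17763 = n17795 := ndS (p := 14734) (l := 4) rfl N14734 D17795
theorem N17764 : nd 17764 = n17796 := ndS (p := 14737) (l := 2) rfl N14737 D17796
theorem N17765 : nd 17765 = n17797 := ndS (p := 14737) (l := 4) rfl N14737 D17797
theorem N17766 : nd 17766 = n17798 := ndS (p := 14738) (l := 3) rfl N14738 D17798
theorem N17767 : nd 17767 = n17799 := ndS (p := 14738) (l := 4) rfl N14738 D17799
theorem N17768 : nd 17768 = n17800 := ndS (p := 14740) (l := 0) rfl N14740 D17800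
theorem N17769 : nd 17769 = n17801 := ndS (p := 14740) (l := 3) rfl N14740 D17801
theorem N17770 : nd 17770 = n17802 := ndS (p := 14740) (l := 5) rfl N14740 D17802
theorem N17771 : nd 17771 = n17803 := ndS (p := 14741) (l := 4) rfl N14741 D17803
theorem N17772 : nd 17772 = n17804 := ndS (p := 14742) (l := 4) rfl N14742 D17804
theorem N17773 : nd 17773 = n17805 := ndS (p := 14744) (l := 3) rfl N14744 D17805
theorem N17774 : nd 17774 = n17806 := ndS (p := 14744) (l := 5) rfl N14744 D17806
theorem N17775 : nd 17775 = n17807 := ndS (p := 14748) (l := 3) rfl N14748 D17807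
theorem N17776 : nd 17776 = n17808 := ndS (p := 14749) (l := 2) rfl N14749 D17808
theorem N17777 : nd 17777 = n17809 := ndS (p := 14750) (l := 2) rfl N14750 D17809
theorem N17778 : nd 17778 = n17810 := ndS (p := 14751) (l := 1) rfl N14751 D17810
theorem N17779 : nd 17779 = n17811 := ndS (p := 14752) (l := 2) rfl N14752 D17811
theorem N17780 : nd 17780 = n17812 := ndS (p := 14753) (l := 1) rfl N14753 D17812
theorem N17781 : nd 17781 = n17813 := ndS (p := 14753) (l := 5) rfl N14753 D17813
theorem N17782 : nd 17782 = n17814 := ndS (p := 14754) (l := 4) rfl N14754 D17814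
theorem N17783 : nd 17783 = n17815 := ndS (p := 14755) (l := 1) rfl N14755 D17815
theorem N17784 : nd 17784 = n17816 := ndS (p := 14755) (l := 5) rfl N14755 D17816
theorem N17785 : nd 17785 = n17817 := ndS (p := 14756) (l := 4) rfl N14756 D17817
theorem N17786 : nd 17786 = n17818 := ndS (p := 14757) (l := 0) rfl N14757 D17818
theorem N17787 : nd 17787 = n17819 := ndS (p := 14757) (l := 3) rfl N14757 D17819
theorem N17788 : nd 17788 = n17820 := ndS (p := 14758) (l := 4) rfl N14758 D17820
theorem N17789 : nd 17789 = n17821 := ndS (p := 14758) (l := 5) rfl N14758 D17821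
theorem N17790 : nd 17790 = n17822 := ndS (p := 14759) (l := 4) rfl N14759 D17822
theorem N17791 : nd 17791 = n17823 := ndS (p := 14762) (l := 4) rfl N14762 D17823
theorem N17792 : nd 17792 = n17824 := ndS (p := 14766) (l := 3) rfl N14766 D17824
theorem N17793 : nd 17793 = n17825 := ndS (p := 14767) (l := 2) rfl N14767 D17825
theorem N17794 : nd 17794 = n17826 := ndS (p := 14770) (l := 2) rfl N14770 D17826
theorem N17795 : nd 17795 = n17827 := ndS (p := 14771) (l := 1) rfl N14771 D17827
theorem N17796 : nd 17796 = n17828 := ndS (p := 14772) (l := 3) rfl N14772 D17828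
theorem N17797 : nd 17797 = n17829 := ndS (p := 14773) (l := 4) rfl N14773 D17829
theorem N17798 : nd 17798 = n17830 := ndS (p := 14774) (l := 1) rfl N14774 D17830
theorem N17799 : nd 17799 = n17831 := ndS (p := 14774) (l := 4) rfl N14774 D17831
theorem N17800 : nd 17800 = n17832 := ndS (p := 14775) (l := 5) rfl N14775 D17832
theorem N17801 : nd 17801 = n17833 := ndS (p := 14777) (l := 3) rfl N14777 D17833
theorem N17802 : nd 17802 = n17834 := ndS (p := 14778) (l := 4) rfl N14778 D17834
theorem N17803 : nd 17803 = n17835 := ndS (p := 14779) (l := 1) rfl N14779 D17835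
theorem N17804 : nd 17804 = n17836 := ndS (p := 14779) (l := 4) rfl N14779 D17836
theorem N17805 : nd 17805 = n17837 := ndS (p := 14780) (l := 5) rfl N14780 D17837
theorem N17806 : nd 17806 = n17838 := ndS (p := 14781) (l := 5) rfl N14781 D17838
theorem N17807 : nd 17807 = n17839 := ndS (p := 14783) (l := 5) rfl N14783 D17839
theorem N17808 : nd 17808 = n17840 := ndS (p := 14784) (l := 5) rfl N14784 D17840
theorem N17809 : nd 17809 = n17841 := ndS (p := 14786) (l := 3) rfl N14786 D17841
theorem N17810 : nd 17810 = n17842 := ndS (p := 14786) (l := 5) rfl N14786 D17842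
theorem N17811 : nd 17811 = n17843 := ndS (p := 14789) (l := 1) rfl N14789 D17843
theorem N17812 : nd 17812 = n17844 := ndS (p := 14791) (l := 4) rfl N14791 D17844
theorem N17813 : nd 17813 = n17845 := ndS (p := 14792) (l := 3) rfl N14792 D17845
theorem N17814 : nd 17814 = n17846 := ndS (p := 14793) (l := 2) rfl N14793 D17846
theorem N17815 : nd 17815 = n17847 := ndS (p := 14793) (l := 4) rfl N14793 D17847
theorem N17816 : nd 17816 = n17848 := ndS (p := 14794) (l := 5) rfl N14794 D17848
theorem N17817 : nd 17817 = n17849 := ndS (p := 14796) (l := 3) rfl N14796 D17849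
theorem N17818 : nd 17818 = n17850 := ndS (p := 14796) (l := 5) rfl N14796 D17850
theorem N17819 : nd 17819 = n17851 := ndS (p := 14797) (l := 4) rfl N14797 D17851
theorem N17820 : nd 17820 = n17852 := ndS (p := 14798) (l := 4) rfl N14798 D17852
theorem N17821 : nd 17821 = n17853 := ndS (p := 14800) (l := 3) rfl N14800 D17853
theorem N17822 : nd 17822 = n17854 := ndS (p := 14801) (l := 2) rfl N14801 D17854
theorem N17823 : nd 17823 = n17855 := ndS (p := 14801) (l := 4) rfl N14801 D17855
theorem N17824 : nd 17824 = n17856 := ndS (p := 14802) (l := 5) rfl N14802 D17856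
theorem N17825 : nd 17825 = n17857 := ndS (p := 14804) (l := 4) rfl N14804 D17857
theorem N17826 : nd 17826 = n17858 := ndS (p := 14806) (l := 4) rfl N14806 D17858
theorem N17827 : nd 17827 = n17859 := ndS (p := 14808) (l := 2) rfl N14808 D17859
theorem N17828 : nd 17828 = n17860 := ndS (p := 14808) (l := 4) rfl N14808 D17860
theorem N17829 : nd 17829 = n17861 := ndS (p := 14809) (l := 1) rfl N14809 D17861
theorem N17830 : nd 17830 = n17862 := ndS (p := 14809) (l := 3) rfl N14809 D17862
theorem N17831 : nd 17831 = n17863 := ndS (p := 14809) (l := 4) rfl N14809 D17863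
theorem N17832 : nd 17832 = n17864 := ndS (p := 14810) (l := 5) rfl N14810 D17864
theorem N17833 : nd 17833 = n17865 := ndS (p := 14811) (l := 0) rfl N14811 D17865
theorem N17834 : nd 17834 = n17866 := ndS (p := 14811) (l := 4) rfl N14811 D17866
theorem N17835 : nd 17835 = n17867 := ndS (p := 14812) (l := 3) rfl N14812 D17867
theorem N17836 : nd 17836 = n17868 := ndS (p := 14812) (l := 5) rfl N14812 D17868
theorem N17837 : nd 17837 = n17869 := ndS (p := 14814) (l := 2) rfl N14814 D17869
theorem N17838 : nd 17838 = n17870 := ndS (p := 14814) (l := 5) rfl N14814 D17870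
theorem N17839 : nd 17839 = n17871 := ndS (p := 14816) (l := 1) rfl N14816 D17871
theorem N17840 : nd 17840 = n17872 := ndS (p := 14816) (l := 3) rfl N14816 D17872
theorem N17841 : nd 17841 = n17873 := ndS (p := 14816) (l := 5) rfl N14816 D17873
theorem N17842 : nd 17842 = n17874 := ndS (p := 14817) (l := 4) rfl N14817 D17874
theorem N17843 : nd 17843 = n17875 := ndS (p := 14818) (l := 1) rfl N14818 D17875
theorem N17844 : nd 17844 = n17876 := ndS (p := 14818) (l := 3) rfl N14818 D17876
theorem N17845 : nd 17845 = n17877 := ndS (p := 14818) (l := 5) rfl N14818 D17877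
theorem N17846 : nd 17846 = n17878 := ndS (p := 14819) (l := 4) rfl N14819 D17878
theorem N17847 : nd 17847 = n17879 := ndS (p := 14820) (l := 0) rfl N14820 D17879
theorem N17848 : nd 17848 = n17880 := ndS (p := 14820) (l := 3) rfl N14820 D17880
theorem N17849 : nd 17849 = n17881 := ndS (p := 14821) (l := 2) rfl N14821 D17881
theorem N17850 : nd 17850 = n17882 := ndS (p := 14821) (l := 4) rfl N14821 D17882
theorem N17851 : nd 17851 = n17883 := ndS (p := 14823) (l := 3) rfl N14823 D17883
theorem N17852 : nd 17852 = n17884 := ndS (p := 14824) (l := 2) rfl N14824 D17884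
theorem N17853 : nd 17853 = n17885 := ndS (p := 14825) (l := 1) rfl N14825 D17885
theorem N17854 : nd 17854 = n17886 := ndS (p := 14826) (l := 0) rfl N14826 D17886
theorem N17855 : nd 17855 = n17887 := ndS (p := 14831) (l := 0) rfl N14831 D17887
theorem N17856 : nd 17856 = n17888 := ndS (p := 14833) (l := 1) rfl N14833 D17888
theorem N17857 : nd 17857 = n17889 := ndS (p := 14833) (l := 3) rfl N14833 D17889
theorem N17858 : nd 17858 = n17890 := ndS (p := 14833) (l := 5) rfl N14833 D17890
theorem N17859 : nd 17859 = n17891 := ndS (p := 14834) (l := 4) rfl N14834 D17891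
theorem N17860 : nd 17860 = n17892 := ndS (p := 14835) (l := 0) rfl N14835 D17892
theorem N17861 : nd 17861 = n17893 := ndS (p := 14835) (l := 3) rfl N14835 D17893
theorem N17862 : nd 17862 = n17894 := ndS (p := 14835) (l := 5) rfl N14835 D17894
theorem N17863 : nd 17863 = n17895 := ndS (p := 14836) (l := 4) rfl N14836 D17895
theorem N17864 : nd 17864 = n17896 := ndS (p := 14837) (l := 4) rfl N14837 D17896
theorem N17865 : nd 17865 = n17897 := ndS (p := 14839) (l := 2) rfl N14839 D17897
theorem N17866 : nd 17866 = n17898 := ndS (p := 14839) (l := 5) rfl N14839 D17898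
theorem N17867 : nd 17867 = n17899 := ndS (p := 14841) (l := 1) rfl N14841 D17899
theorem N17868 : nd 17868 = n17900 := ndS (p := 14841) (l := 3) rfl N14841 D17900
theorem N17869 : nd 17869 = n17901 := ndS (p := 14841) (l := 5) rfl N14841 D17901
theorem N17870 : nd 17870 = n17902 := ndS (p := 14842) (l := 4) rfl N14842 D17902
theorem N17871 : nd 17871 = n17903 := ndS (p := 14843) (l := 0) rfl N14843 D17903
theorem N17872 : nd 17872 = n17904 := ndS (p := 14843) (l := 3) rfl N14843 D17904
theorem N17873 : nd 17873 = n17905 := ndS (p := 14843) (l := 5) rfl N14843 D17905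
theorem N17874 : nd 17874 = n17906 := ndS (p := 14844) (l := 2) rfl N14844 D17906
theorem N17875 : nd 17875 = n17907 := ndS (p := 14844) (l := 4) rfl N14844 D17907
theorem N17876 : nd 17876 = n17908 := ndS (p := 14844) (l := 5) rfl N14844 D17908
theorem N17877 : nd 17877 = n17909 := ndS (p := 14845) (l := 4) rfl N14845 D17909
theorem N17878 : nd 17878 = n17910 := ndS (p := 14847) (l := 3) rfl N14847 D17910
theorem N17879 : nd 17879 = n17911 := ndS (p := 14847) (l := 5) rfl N14847 D17911
theorem N17880 : nd 17880 = n17912 := ndS (p := 14848) (l := 2) rfl N14848 D17912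
theorem N17881 : nd 17881 = n17913 := ndS (p := 14848) (l := 4) rfl N14848 D17913
theorem N17882 : nd 17882 = n17914 := ndS (p := 14848) (l := 5) rfl N14848 D17914
theorem N17883 : nd 17883 = n17915 := ndS (p := 14849) (l := 4) rfl N14849 D17915
theorem N17884 : nd 17884 = n17916 := ndS (p := 14850) (l := 1) rfl N14850 D17916
theorem N17885 : nd 17885 = n17917 := ndS (p := 14850) (l := 4) rfl N14850 D17917
theorem N17886 : nd 17886 = n17918 := ndS (p := 14851) (l := 5) rfl N14851 D17918
theorem N17887 : nd 17887 = n17919 := ndS (p := 14852) (l := 4) rfl N14852 D17919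
theorem N17888 : nd 17888 = n17920 := ndS (p := 14853) (l := 3) rfl N14853 D17920
theorem N17889 : nd 17889 = n17921 := ndS (p := 14854) (l := 3) rfl N14854 D17921
theorem N17890 : nd 17890 = n17922 := ndS (p := 14854) (l := 5) rfl N14854 D17922
theorem N17891 : nd 17891 = n17923 := ndS (p := 14855) (l := 2) rfl N14855 D17923
theorem N17892 : nd 17892 = n17924 := ndS (p := 14858) (l := 1) rfl N14858 D17924
theorem N17893 : nd 17893 = n17925 := ndS (p := 14859) (l := 0) rfl N14859 D17925
theorem N17894 : nd 17894 = n17926 := ndS (p := 14859) (l := 3) rfl N14859 D17926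
theorem N17895 : nd 17895 = n17927 := ndS (p := 14861) (l := 4) rfl N14861 D17927
theorem N17896 : nd 17896 = n17928 := ndS (p := 14862) (l := 4) rfl N14862 D17928
theorem N17897 : nd 17897 = n17929 := ndS (p := 14865) (l := 1) rfl N14865 D17929
theorem N17898 : nd 17898 = n17930 := ndS (p := 14866) (l := 0) rfl N14866 D17930
theorem N17899 : nd 17899 = n17931 := ndS (p := 14867) (l := 3) rfl N14867 D17931
theorem N17900 : nd 17900 = n17932 := ndS (p := 14868) (l := 2) rfl N14868 D17932
theorem N17901 : nd 17901 = n17933 := ndS (p := 14868) (l := 4) rfl N14868 D17933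
theorem N17902 : nd 17902 = n17934 := ndS (p := 14872) (l := 2) rfl N14872 D17934
theorem N17903 : nd 17903 = n17935 := ndS (p := 14872) (l := 4) rfl N14872 D17935
theorem N17904 : nd 17904 = n17936 := ndS (p := 14874) (l := 5) rfl N14874 D17936
theorem N17905 : nd 17905 = n17937 := ndS (p := 14875) (l := 5) rfl N14875 D17937
theorem N17906 : nd 17906 = n17938 := ndS (p := 14876) (l := 0) rfl N14876 D17938
theorem N17907 : nd 17907 = n17939 := ndS (p := 14876) (l := 4) rfl N14876 D17939
theorem N17908 : nd 17908 = n17940 := ndS (p := 14877) (l := 3) rfl N14877 D17940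
theorem N17909 : nd 17909 = n17941 := ndS (p := 14877) (l := 5) rfl N14877 D17941
theorem N17910 : nd 17910 = n17942 := ndS (p := 14878) (l := 4) rfl N14878 D17942
theorem N17911 : nd 17911 = n17943 := ndS (p := 14880) (l := 2) rfl N14880 D17943
theorem N17912 : nd 17912 = n17944 := ndS (p := 14880) (l := 4) rfl N14880 D17944
theorem N17913 : nd 17913 = n17945 := ndS (p := 14882) (l := 2) rfl N14882 D17945
theorem N17914 : nd 17914 = n17946 := ndS (p := 14883) (l := 1) rfl N14883 D17946
theorem N17915 : nd 17915 = n17947 := ndS (p := 14883) (l := 3) rfl N14883 D17947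
theorem N17916 : nd 17916 = n17948 := ndS (p := 14884) (l := 0) rfl N14884 D17948
theorem N17917 : nd 17917 = n17949 := ndS (p := 14885) (l := 3) rfl N14885 D17949
theorem N17918 : nd 17918 = n17950 := ndS (p := 14886) (l := 2) rfl N14886 D17950
theorem N17919 : nd 17919 = n17951 := ndS (p := 14886) (l := 4) rfl N14886 D17951
theorem N17920 : nd 17920 = n17952 := ndS (p := 14887) (l := 5) rfl N14887 D17952
theorem N17921 : nd 17921 = n17953 := ndS (p := 14888) (l := 3) rfl N14888 D17953
theorem N17922 : nd 17922 = n17954 := ndS (p := 14889) (l := 2) rfl N14889 D17954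
theorem N17923 : nd 17923 = n17955 := ndS (p := 14889) (l := 4) rfl N14889 D17955
theorem N17924 : nd 17924 = n17956 := ndS (p := 14890) (l := 4) rfl N14890 D17956
theorem N17925 : nd 17925 = n17957 := ndS (p := 14891) (l := 3) rfl N14891 D17957
theorem N17926 : nd 17926 = n17958 := ndS (p := 14891) (l := 4) rfl N14891 D17958
theorem N17927 : nd 17927 = n17959 := ndS (p := 14892) (l := 5) rfl N14892 D17959
theorem N17928 : nd 17928 = n17960 := ndS (p := 14893) (l := 3) rfl N14893 D17960
theorem N17929 : nd 17929 = n17961 := ndS (p := 14895) (l := 2) rfl N14895 D17961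
theorem N17930 : nd 17930 = n17962 := ndS (p := 14896) (l := 1) rfl N14896 D17962
theorem N17931 : nd 17931 = n17963 := ndS (p := 14896) (l := 3) rfl N14896 D17963
theorem N17932 : nd 17932 = n17964 := ndS (p := 14897) (l := 5) rfl N14897 D17964
theorem N17933 : nd 17933 = n17965 := ndS (p := 14898) (l := 3) rfl N14898 D17965
theorem N17934 : nd 17934 = n17966 := ndS (p := 14899) (l := 2) rfl N14899 D17966
theorem N17935 : nd 17935 = n17967 := ndS (p := 14900) (l := 5) rfl N14900 D17967
theorem N17936 : nd 17936 = n17968 := ndS (p := 14902) (l := 2) rfl N14902 D17968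
theorem N17937 : nd 17937 = n17969 := ndS (p := 14903) (l := 0) rfl N14903 D17969
theorem N17938 : nd 17938 = n17970 := ndS (p := 14903) (l := 3) rfl N14903 D17970
theorem N17939 : nd 17939 = n17971 := ndS (p := 14906) (l := 2) rfl N14906 D17971
theorem N17940 : nd 17940 = n17972 := ndS (p := 14906) (l := 4) rfl N14906 D17972
theorem N17941 : nd 17941 = n17973 := ndS (p := 14907) (l := 3) rfl N14907 D17973
theorem N17942 : nd 17942 = n17974 := ndS (p := 14907) (l := 4) rfl N14907 D17974
theorem N17943 : nd 17943 = n17975 := ndS (p := 14908) (l := 5) rfl N14908 D17975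
theorem N17944 : nd 17944 = n17976 := ndS (p := 14911) (l := 5) rfl N14911 D17976
theorem N17945 : nd 17945 = n17977 := ndS (p := 14912) (l := 0) rfl N14912 D17977
theorem N17946 : nd 17946 = n17978 := ndS (p := 14912) (l := 4) rfl N14912 D17978
theorem N17947 : nd 17947 = n17979 := ndS (p := 14913) (l := 3) rfl N14913 D17979
theorem N17948 : nd 17948 = n17980 := ndS (p := 14913) (l := 5) rfl N14913 D17980
theorem N17949 : nd 17949 = n17981 := ndS (p := 14915) (l := 4) rfl N14915 D17981
theorem N17950 : nd 17950 = n17982 := ndS (p := 14917) (l := 3) rfl N14917 D17982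
theorem N17951 : nd 17951 = n17983 := ndS (p := 14917) (l := 5) rfl N14917 D17983
theorem N17952 : nd 17952 = n17984 := ndS (p := 14919) (l := 2) rfl N14919 D17984
theorem N17953 : nd 17953 = n17985 := ndS (p := 14919) (l := 5) rfl N14919 D17985
theorem N17954 : nd 17954 = n17986 := ndS (p := 14921) (l := 4) rfl N14921 D17986
theorem N17955 : nd 17955 = n17987 := ndS (p := 14922) (l := 3) rfl N14922 D17987
theorem N17956 : nd 17956 = n17988 := ndS (p := 14922) (l := 5) rfl N14922 D17988
theorem N17957 : nd 17957 = n17989 := ndS (p := 14926) (l := 3) rfl N14926 D17989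
theorem N17958 : nd 17958 = n17990 := ndS (p := 14931) (l := 1) rfl N14931 D17990
theorem N17959 : nd 17959 = n17991 := ndS (p := 14932) (l := 1) rfl N14932 D17991
theorem N17960 : nd 17960 = n17992 := ndS (p := 14933) (l := 0) rfl N14933 D17992
theorem N17961 : nd 17961 = n17993 := ndS (p := 14934) (l := 3) rfl N14934 D17993
theorem N17962 : nd 17962 = n17994 := ndS (p := 14935) (l := 2) rfl N14935 D17994
theorem N17963 : nd 17963 = n17995 := ndS (p := 14935) (l := 4) rfl N14935 D17995
theorem N17964 : nd 17964 = n17996 := ndS (p := 14937) (l := 2) rfl N14937 D17996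
theorem N17965 : nd 17965 = n17997 := ndS (p := 14937) (l := 4) rfl N14937 D17997
theorem N17966 : nd 17966 = n17998 := ndS (p := 14938) (l := 4) rfl N14938 D17998
theorem N17967 : nd 17967 = n17999 := ndS (p := 14939) (l := 5) rfl N14939 D17999
theorem N17968 : nd 17968 = n18000 := ndS (p := 14942) (l := 4) rfl N14942 D18000
theorem N17969 : nd 17969 = n18001 := ndS (p := 14945) (l := 4) rfl N14945 D18001
theorem N17970 : nd 17970 = n18002 := ndS (p := 14946) (l := 5) rfl N14946 D18002
theorem N17971 : nd 17971 = n18003 := ndS (p := 14947) (l := 4) rfl N14947 D18003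
theorem N17972 : nd 17972 = n18004 := ndS (p := 14948) (l := 3) rfl N14948 D18004
theorem N17973 : nd 17973 = n18005 := ndS (p := 14949) (l := 2) rfl N14949 D18005
theorem N17974 : nd 17974 = n18006 := ndS (p := 14949) (l := 5) rfl N14949 D18006
theorem N17975 : nd 17975 = n18007 := ndS (p := 14951) (l := 3) rfl N14951 D18007
theorem N17976 : nd 17976 = n18008 := ndS (p := 14951) (l := 4) rfl N14951 D18008
theorem N17977 : nd 17977 = n18009 := ndS (p := 14952) (l := 5) rfl N14952 D18009
theorem N17978 : nd 17978 = n18010 := ndS (p := 14954) (l := 2) rfl N14954 D18010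
theorem N17979 : nd 17979 = n18011 := ndS (p := 14954) (l := 5) rfl N14954 D18011
theorem N17980 : nd 17980 = n18012 := ndS (p := 14956) (l := 1) rfl N14956 D18012
theorem N17981 : nd 17981 = n18013 := ndS (p := 14956) (l := 3) rfl N14956 D18013
theorem N17982 : nd 17982 = n18014 := ndS (p := 14956) (l := 5) rfl N14956 D18014
theorem N17983 : nd 17983 = n18015 := ndS (p := 14958) (l := 0) rfl N14958 D18015
theorem N17984 : nd 17984 = n18016 := ndS (p := 14961) (l := 1) rfl N14961 D18016
theorem N17985 : nd 17985 = n18017 := ndS (p := 14961) (l := 3) rfl N14961 D18017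
theorem N17986 : nd 17986 = n18018 := ndS (p := 14961) (l := 5) rfl N14961 D18018
theorem N17987 : nd 17987 = n18019 := ndS (p := 14962) (l := 4) rfl N14962 D18019
theorem N17988 : nd 17988 = n18020 := ndS (p := 14963) (l := 2) rfl N14963 D18020
theorem N17989 : nd 17989 = n18021 := ndS (p := 14963) (l := 5) rfl N14963 D18021
theorem N17990 : nd 17990 = n18022 := ndS (p := 14967) (l := 4) rfl N14967 D18022
theorem N17991 : nd 17991 = n18023 := ndS (p := 14968) (l := 4) rfl N14968 D18023
theorem N17992 : nd 17992 = n18024 := ndS (p := 14970) (l := 1) rfl N14970 D18024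
theorem N17993 : nd 17993 = n18025 := ndS (p := 14971) (l := 4) rfl N14971 D18025
theorem N17994 : nd 17994 = n18026 := ndS (p := 14972) (l := 0) rfl N14972 D18026
theorem N17995 : nd 17995 = n18027 := ndS (p := 14974) (l := 3) rfl N14974 D18027
theorem N17996 : nd 17996 = n18028 := ndS (p := 14974) (l := 5) rfl N14974 D18028
theorem N17997 : nd 17997 = n18029 := ndS (p := 14975) (l := 4) rfl N14975 D18029
theorem N17998 : nd 17998 = n18030 := ndS (p := 14976) (l := 4) rfl N14976 D18030
theorem N17999 : nd 17999 = n18031 := ndS (p := 14979) (l := 2) rfl N14979 D18031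
theorem N18000 : nd 18000 = n18032 := ndS (p := 14979) (l := 5) rfl N14979 D18032
theorem N18001 : nd 18001 = n18033 := ndS (p := 14981) (l := 1) rfl N14981 D18033
theorem N18002 : nd 18002 = n18034 := ndS (p := 14981) (l := 3) rfl N14981 D18034
theorem N18003 : nd 18003 = n18035 := ndS (p := 14981) (l := 5) rfl N14981 D18035
theorem N18004 : nd 18004 = n18036 := ndS (p := 14982) (l := 4) rfl N14982 D18036
theorem N18005 : nd 18005 = n18037 := ndS (p := 14983) (l := 0) rfl N14983 D18037
theorem N18006 : nd 18006 = n18038 := ndS (p := 14985) (l := 1) rfl N14985 D18038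
theorem N18007 : nd 18007 = n18039 := ndS (p := 14985) (l := 3) rfl N14985 D18039
theorem N18008 : nd 18008 = n18040 := ndS (p := 14985) (l := 5) rfl N14985 D18040
theorem N18009 : nd 18009 = n18041 := ndS (p := 14987) (l := 0) rfl N14987 D18041
theorem N18010 : nd 18010 = n18042 := ndS (p := 14987) (l := 3) rfl N14987 D18042
theorem N18011 : nd 18011 = n18043 := ndS (p := 14988) (l := 4) rfl N14988 D18043
theorem N18012 : nd 18012 = n18044 := ndS (p := 14989) (l := 0) rfl N14989 D18044
theorem N18013 : nd 18013 = n18045 := ndS (p := 14989) (l := 3) rfl N14989 D18045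
theorem N18014 : nd 18014 = n18046 := ndS (p := 14989) (l := 5) rfl N14989 D18046
theorem N18015 : nd 18015 = n18047 := ndS (p := 14990) (l := 2) rfl N14990 D18047
theorem N18016 : nd 18016 = n18048 := ndS (p := 14990) (l := 5) rfl N14990 D18048
theorem N18017 : nd 18017 = n18049 := ndS (p := 14993) (l := 1) rfl N14993 D18049
theorem N18018 : nd 18018 = n18050 := ndS (p := 14993) (l := 3) rfl N14993 D18050
theorem N18019 : nd 18019 = n18051 := ndS (p := 14993) (l := 5) rfl N14993 D18051
theorem N18020 : nd 18020 = n18052 := ndS (p := 14994) (l := 4) rfl N14994 D18052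
theorem N18021 : nd 18021 = n18053 := ndS (p := 14995) (l := 0) rfl N14995 D18053
theorem N18022 : nd 18022 = n18055 := ndS (p := 14995) (l := 5) rfl N14995 D18055
theorem N18023 : nd 18023 = n18057 := ndS (p := 14997) (l := 4) rfl N14997 D18057
theorem N18024 : nd 18024 = n18058 := ndS (p := 14999) (l := 3) rfl N14999 D18058
theorem N18025 : nd 18025 = n18059 := ndS (p := 14999) (l := 5) rfl N14999 D18059
theorem N18026 : nd 18026 = n18060 := ndS (p := 15002) (l := 1) rfl N15002 D18060
theorem N18027 : nd 18027 = n18061 := ndS (p := 15005) (l := 3) rfl N15005 D18061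
theorem N18028 : nd 18028 = n18062 := ndS (p := 15024) (l := 3) rfl N15024 D18062
theorem N18029 : nd 18029 = n18063 := ndS (p := 15025) (l := 4) rfl N15025 D18063
theorem N18030 : nd 18030 = n18064 := ndS (p := 15026) (l := 5) rfl N15026 D18064
theorem N18031 : nd 18031 = n18065 := ndS (p := 15034) (l := 4) rfl N15034 D18065
theorem N18032 : nd 18032 = n18066 := ndS (p := 15042) (l := 4) rfl N15042 D18066
theorem N18033 : nd 18033 = n18067 := ndS (p := 15046) (l := 4) rfl N15046 D18067
theorem N18034 : nd 18034 = n18068 := ndS (p := 15047) (l := 4) rfl N15047 D18068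
theorem N18035 : nd 18035 = n18069 := ndS (p := 15048) (l := 5) rfl N15048 D18069
theorem N18036 : nd 18036 = n18070 := ndS (p := 15049) (l := 3) rfl N15049 D18070
theorem N18037 : nd 18037 = n18071 := ndS (p := 15050) (l := 5) rfl N15050 D18071
theorem N18038 : nd 18038 = n18072 := ndS (p := 15051) (l := 4) rfl N15051 D18072
theorem N18039 : nd 18039 = n18073 := ndS (p := 15052) (l := 3) rfl N15052 D18073
theorem N18040 : nd 18040 = n18074 := ndS (p := 15053) (l := 3) rfl N15053 D18074
theorem N18041 : nd 18041 = n18075 := ndS (p := 15053) (l := 5) rfl N15053 D18075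
theorem N18042 : nd 18042 = n18076 := ndS (p := 15054) (l := 4) rfl N15054 D18076
theorem N18043 : nd 18043 = n18077 := ndS (p := 15055) (l := 3) rfl N15055 D18077
theorem N18044 : nd 18044 = n18078 := ndS (p := 15056) (l := 2) rfl N15056 D18078
theorem N18045 : nd 18045 = n18079 := ndS (p := 15057) (l := 3) rfl N15057 D18079
theorem N18046 : nd 18046 = n18080 := ndS (p := 15057) (l := 4) rfl N15057 D18080
theorem N18047 : nd 18047 = n18081 := ndS (p := 15059) (l := 3) rfl N15059 D18081
theorem N18048 : nd 18048 = n18082 := ndS (p := 15060) (l := 2) rfl N15060 D18082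
theorem N18049 : nd 18049 = n18083 := ndS (p := 15060) (l := 4) rfl N15060 D18083
theorem N18050 : nd 18050 = n18084 := ndS (p := 15062) (l := 2) rfl N15062 D18084
theorem N18051 : nd 18051 = n18085 := ndS (p := 15063) (l := 1) rfl N15063 D18085
theorem N18052 : nd 18052 = n18086 := ndS (p := 15063) (l := 3) rfl N15063 D18086
theorem N18053 : nd 18053 = n18087 := ndS (p := 15064) (l := 3) rfl N15064 D18087
theorem N18054 : nd 18054 = n18088 := ndS (p := 15066) (l := 1) rfl N15066 D18088
theorem N18055 : nd 18055 = n18089 := ndS (p := 15066) (l := 5) rfl N15066 D18089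
theorem N18056 : nd 18056 = n18090 := ndS (p := 15067) (l := 4) rfl N15067 D18090
theorem N18057 : nd 18057 = n18091 := ndS (p := 15068) (l := 0) rfl N15068 D18091
theorem N18058 : nd 18058 = n18092 := ndS (p := 15068) (l := 3) rfl N15068 D18092
theorem N18059 : nd 18059 = n18093 := ndS (p := 15069) (l := 4) rfl N15069 D18093
theorem N18060 : nd 18060 = n18094 := ndS (p := 15069) (l := 5) rfl N15069 D18094
theorem N18061 : nd 18061 = n18095 := ndS (p := 15070) (l := 4) rfl N15070 D18095
theorem N18062 : nd 18062 = n18096 := ndS (p := 15072) (l := 4) rfl N15072 D18096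
theorem N18063 : nd 18063 = n18097 := ndS (p := 15073) (l := 3) rfl N15073 D18097
theorem N18064 : nd 18064 = n18098 := ndS (p := 15073) (l := 5) rfl N15073 D18098
theorem N18065 : nd 18065 = n18099 := ndS (p := 15074) (l := 5) rfl N15074 D18099
theorem N18066 : nd 18066 = n18100 := ndS (p := 15076) (l := 3) rfl N15076 D18100
theorem N18067 : nd 18067 = n18101 := ndS (p := 15079) (l := 3) rfl N15079 D18101
theorem N18068 : nd 18068 = n18102 := ndS (p := 15080) (l := 4) rfl N15080 D18102
theorem N18069 : nd 18069 = n18103 := ndS (p := 15081) (l := 4) rfl N15081 D18103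
theorem N18070 : nd 18070 = n18104 := ndS (p := 15082) (l := 5) rfl N15082 D18104
theorem N18071 : nd 18071 = n18105 := ndS (p := 15083) (l := 1) rfl N15083 D18105
theorem N18072 : nd 18072 = n18106 := ndS (p := 15083) (l := 3) rfl N15083 D18106
theorem N18073 : nd 18073 = n18107 := ndS (p := 15083) (l := 4) rfl N15083 D18107
theorem N18074 : nd 18074 = n18108 := ndS (p := 15084) (l := 5) rfl N15084 D18108
theorem N18075 : nd 18075 = n18109 := ndS (p := 15085) (l := 3) rfl N15085 D18109
theorem N18076 : nd 18076 = n18110 := ndS (p := 15086) (l := 2) rfl N15086 D18110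
theorem N18077 : nd 18077 = n18111 := ndS (p := 15086) (l := 4) rfl N15086 D18111
theorem N18078 : nd 18078 = n18112 := ndS (p := 15087) (l := 3) rfl N15087 D18112
theorem N18079 : nd 18079 = n18113 := ndS (p := 15087) (l := 5) rfl N15087 D18113
theorem N18080 : nd 18080 = n18114 := ndS (p := 15089) (l := 2) rfl N15089 D18114
theorem N18081 : nd 18081 = n18115 := ndS (p := 15094) (l := 2) rfl N15094 D18115
theorem N18082 : nd 18082 = n18116 := ndS (p := 15097) (l := 1) rfl N15097 D18116
theorem N18083 : nd 18083 = n18117 := ndS (p := 15099) (l := 1) rfl N15099 D18117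
theorem N18084 : nd 18084 = n18118 := ndS (p := 15099) (l := 3) rfl N15099 D18118
theorem N18085 : nd 18085 = n18119 := ndS (p := 15100) (l := 0) rfl N15100 D18119
theorem N18086 : nd 18086 = n18120 := ndS (p := 15102) (l := 3) rfl N15102 D18120
theorem N18087 : nd 18087 = n18121 := ndS (p := 15106) (l := 2) rfl N15106 D18121
theorem N18088 : nd 18088 = n18122 := ndS (p := 15106) (l := 4) rfl N15106 D18122
theorem N18089 : nd 18089 = n18123 := ndS (p := 15107) (l := 5) rfl N15107 D18123
theorem N18090 : nd 18090 = n18124 := ndS (p := 15108) (l := 0) rfl N15108 D18124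
theorem N18091 : nd 18091 = n18125 := ndS (p := 15108) (l := 4) rfl N15108 D18125
theorem N18092 : nd 18092 = n18126 := ndS (p := 15109) (l := 3) rfl N15109 D18126
theorem N18093 : nd 18093 = n18127 := ndS (p := 15109) (l := 5) rfl N15109 D18127
theorem N18094 : nd 18094 = n18128 := ndS (p := 15111) (l := 3) rfl N15111 D18128
theorem N18095 : nd 18095 = n18129 := ndS (p := 15111) (l := 5) rfl N15111 D18129
theorem N18096 : nd 18096 = n18130 := ndS (p := 15112) (l := 2) rfl N15112 D18130
theorem N18097 : nd 18097 = n18131 := ndS (p := 15112) (l := 5) rfl N15112 D18131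
theorem N18098 : nd 18098 = n18132 := ndS (p := 15116) (l := 3) rfl N15116 D18132
theorem N18099 : nd 18099 = n18133 := ndS (p := 15117) (l := 4) rfl N15117 D18133
theorem N18100 : nd 18100 = n18134 := ndS (p := 15119) (l := 5) rfl N15119 D18134
theorem N18101 : nd 18101 = n18135 := ndS (p := 15121) (l := 2) rfl N15121 D18135
theorem N18102 : nd 18102 = n18136 := ndS (p := 15121) (l := 4) rfl N15121 D18136
theorem N18103 : nd 18103 = n18137 := ndS (p := 15121) (l := 5) rfl N15121 D18137
theorem N18104 : nd 18104 = n18138 := ndS (p := 15123) (l := 1) rfl N15123 D18138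
theorem N18105 : nd 18105 = n18139 := ndS (p := 15123) (l := 3) rfl N15123 D18139
theorem N18106 : nd 18106 = n18140 := ndS (p := 15123) (l := 4) rfl N15123 D18140
theorem N18107 : nd 18107 = n18141 := ndS (p := 15123) (l := 5) rfl N15123 D18141
theorem N18108 : nd 18108 = n18142 := ndS (p := 15124) (l := 5) rfl N15124 D18142
theorem N18109 : nd 18109 = n18143 := ndS (p := 15125) (l := 4) rfl N15125 D18143
theorem N18110 : nd 18110 = n18144 := ndS (p := 15126) (l := 3) rfl N15126 D18144
theorem N18111 : nd 18111 = n18145 := ndS (p := 15127) (l := 4) rfl N15127 D18145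
theorem N18112 : nd 18112 = n18146 := ndS (p := 15128) (l := 5) rfl N15128 D18146
theorem N18113 : nd 18113 = n18147 := ndS (p := 15129) (l := 4) rfl N15129 D18147
theorem N18114 : nd 18114 = n18148 := ndS (p := 15130) (l := 3) rfl N15130 D18148
theorem N18115 : nd 18115 = n18149 := ndS (p := 15132) (l := 1) rfl N15132 D18149
theorem N18116 : nd 18116 = n18150 := ndS (p := 15132) (l := 3) rfl N15132 D18150
theorem N18117 : nd 18117 = n18151 := ndS (p := 15132) (l := 4) rfl N15132 D18151
theorem N18118 : nd 18118 = n18152 := ndS (p := 15135) (l := 2) rfl N15135 D18152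
theorem N18119 : nd 18119 = n18153 := ndS (p := 15135) (l := 4) rfl N15135 D18153
theorem N18120 : nd 18120 = n18154 := ndS (p := 15136) (l := 3) rfl N15136 D18154
theorem N18121 : nd 18121 = n18155 := ndS (p := 15137) (l := 1) rfl N15137 D18155
theorem N18122 : nd 18122 = n18156 := ndS (p := 15137) (l := 3) rfl N15137 D18156
theorem N18123 : nd 18123 = n18157 := ndS (p := 15137) (l := 4) rfl N15137 D18157
theorem N18124 : nd 18124 = n18158 := ndS (p := 15140) (l := 2) rfl N15140 D18158
theorem N18125 : nd 18125 = n18159 := ndS (p := 15140) (l := 4) rfl N15140 D18159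
theorem N18126 : nd 18126 = n18160 := ndS (p := 15141) (l := 3) rfl N15141 D18160
theorem N18127 : nd 18127 = n18161 := ndS (p := 15143) (l := 2) rfl N15143 D18161
theorem N18128 : nd 18128 = n18162 := ndS (p := 15143) (l := 4) rfl N15143 D18162
theorem N18129 : nd 18129 = n18163 := ndS (p := 15144) (l := 4) rfl N15144 D18163
theorem N18130 : nd 18130 = n18164 := ndS (p := 15145) (l := 5) rfl N15145 D18164
theorem N18131 : nd 18131 = n18165 := ndS (p := 15148) (l := 3) rfl N15148 D18165
theorem N18132 : nd 18132 = n18166 := ndS (p := 15148) (l := 5) rfl N15148 D18166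
theorem N18133 : nd 18133 = n18167 := ndS (p := 15149) (l := 2) rfl N15149 D18167
theorem N18134 : nd 18134 = n18168 := ndS (p := 15149) (l := 5) rfl N15149 D18168
theorem N18135 : nd 18135 = n18169 := ndS (p := 15151) (l := 1) rfl N15151 D18169
theorem N18136 : nd 18136 = n18170 := ndS (p := 15152) (l := 4) rfl N15152 D18170
theorem N18137 : nd 18137 = n18171 := ndS (p := 15153) (l := 3) rfl N15153 D18171
theorem N18138 : nd 18138 = n18172 := ndS (p := 15153) (l := 5) rfl N15153 D18172
theorem N18139 : nd 18139 = n18173 := ndS (p := 15154) (l := 2) rfl N15154 D18173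
theorem N18140 : nd 18140 = n18174 := ndS (p := 15154) (l := 4) rfl N15154 D18174
theorem N18141 : nd 18141 = n18175 := ndS (p := 15155) (l := 4) rfl N15155 D18175
theorem N18142 : nd 18142 = n18176 := ndS (p := 15156) (l := 5) rfl N15156 D18176
theorem N18143 : nd 18143 = n18177 := ndS (p := 15157) (l := 3) rfl N15157 D18177
theorem N18144 : nd 18144 = n18178 := ndS (p := 15158) (l := 2) rfl N15158 D18178
theorem N18145 : nd 18145 = n18179 := ndS (p := 15158) (l := 4) rfl N15158 D18179
theorem N18146 : nd 18146 = n18180 := ndS (p := 15158) (l := 5) rfl N15158 D18180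
theorem N18147 : nd 18147 = n18181 := ndS (p := 15159) (l := 4) rfl N15159 D18181
theorem N18148 : nd 18148 = n18182 := ndS (p := 15160) (l := 1) rfl N15160 D18182
theorem N18149 : nd 18149 = n18183 := ndS (p := 15160) (l := 3) rfl N15160 D18183
theorem N18150 : nd 18150 = n18184 := ndS (p := 15160) (l := 4) rfl N15160 D18184
theorem N18151 : nd 18151 = n18185 := ndS (p := 15160) (l := 5) rfl N15160 D18185
theorem N18152 : nd 18152 = n18186 := ndS (p := 15161) (l := 5) rfl N15161 D18186
theorem N18153 : nd 18153 = n18187 := ndS (p := 15162) (l := 4) rfl N15162 D18187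
theorem N18154 : nd 18154 = n18188 := ndS (p := 15163) (l := 3) rfl N15163 D18188
theorem N18155 : nd 18155 = n18189 := ndS (p := 15164) (l := 0) rfl N15164 D18189
theorem N18156 : nd 18156 = n18190 := ndS (p := 15164) (l := 4) rfl N15164 D18190
theorem N18157 : nd 18157 = n18191 := ndS (p := 15165) (l := 3) rfl N15165 D18191
theorem N18158 : nd 18158 = n18192 := ndS (p := 15165) (l := 5) rfl N15165 D18192
theorem N18159 : nd 18159 = n18193 := ndS (p := 15166) (l := 4) rfl N15166 D18193
theorem N18160 : nd 18160 = n18194 := ndS (p := 15167) (l := 3) rfl N15167 D18194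
theorem N18161 : nd 18161 = n18195 := ndS (p := 15168) (l := 2) rfl N15168 D18195
theorem N18162 : nd 18162 = n18196 := ndS (p := 15169) (l := 4) rfl N15169 D18196
theorem N18163 : nd 18163 = n18197 := ndS (p := 15170) (l := 5) rfl N15170 D18197
theorem N18164 : nd 18164 = n18198 := ndS (p := 15171) (l := 3) rfl N15171 D18198
theorem N18165 : nd 18165 = n18199 := ndS (p := 15172) (l := 4) rfl N15172 D18199
theorem N18166 : nd 18166 = n18200 := ndS (p := 15173) (l := 3) rfl N15173 D18200
theorem N18167 : nd 18167 = n18201 := ndS (p := 15173) (l := 5) rfl N15173 D18201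
theorem N18168 : nd 18168 = n18202 := ndS (p := 15176) (l := 3) rfl N15176 D18202
theorem N18169 : nd 18169 = n18203 := ndS (p := 15180) (l := 3) rfl N15180 D18203
theorem N18170 : nd 18170 = n18204 := ndS (p := 15181) (l := 2) rfl N15181 D18204
theorem N18171 : nd 18171 = n18205 := ndS (p := 15181) (l := 4) rfl N15181 D18205
theorem N18172 : nd 18172 = n18206 := ndS (p := 15182) (l := 4) rfl N15182 D18206
theorem N18173 : nd 18173 = n18207 := ndS (p := 15183) (l := 3) rfl N15183 D18207
theorem N18174 : nd 18174 = n18208 := ndS (p := 15183) (l := 4) rfl N15183 D18208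
theorem N18175 : nd 18175 = n18209 := ndS (p := 15185) (l := 3) rfl N15185 D18209
theorem N18176 : nd 18176 = n18210 := ndS (p := 15187) (l := 4) rfl N15187 D18210
theorem N18177 : nd 18177 = n18211 := ndS (p := 15188) (l := 5) rfl N15188 D18211
theorem N18178 : nd 18178 = n18212 := ndS (p := 15189) (l := 3) rfl N15189 D18212
theorem N18179 : nd 18179 = n18213 := ndS (p := 15190) (l := 4) rfl N15190 D18213
theorem N18180 : nd 18180 = n18214 := ndS (p := 15191) (l := 3) rfl N15191 D18214
theorem N18181 : nd 18181 = n18215 := ndS (p := 15191) (l := 5) rfl N15191 D18215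
theorem N18182 : nd 18182 = n18216 := ndS (p := 15193) (l := 2) rfl N15193 D18216
theorem N18183 : nd 18183 = n18217 := ndS (p := 15194) (l := 1) rfl N15194 D18217
theorem N18184 : nd 18184 = n18218 := ndS (p := 15195) (l := 5) rfl N15195 D18218
theorem N18185 : nd 18185 = n18219 := ndS (p := 15196) (l := 3) rfl N15196 D18219
theorem N18186 : nd 18186 = n18220 := ndS (p := 15197) (l := 5) rfl N15197 D18220
theorem N18187 : nd 18187 = n18221 := ndS (p := 15198) (l := 3) rfl N15198 D18221
theorem N18188 : nd 18188 = n18222 := ndS (p := 15199) (l := 3) rfl N15199 D18222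
theorem N18189 : nd 18189 = n18223 := ndS (p := 15201) (l := 2) rfl N15201 D18223
theorem N18190 : nd 18190 = n18224 := ndS (p := 15202) (l := 4) rfl N15202 D18224
theorem N18191 : nd 18191 = n18225 := ndS (p := 15203) (l := 5) rfl N15203 D18225
theorem N18192 : nd 18192 = n18226 := ndS (p := 15204) (l := 3) rfl N15204 D18226
theorem N18193 : nd 18193 = n18227 := ndS (p := 15206) (l := 2) rfl N15206 D18227
theorem N18194 : nd 18194 = n18228 := ndS (p := 15207) (l := 2) rfl N15207 D18228
theorem N18195 : nd 18195 = n18229 := ndS (p := 15207) (l := 4) rfl N15207 D18229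
theorem N18196 : nd 18196 = n18230 := ndS (p := 15208) (l := 4) rfl N15208 D18230
theorem N18197 : nd 18197 = n18231 := ndS (p := 15209) (l := 3) rfl N15209 D18231
theorem N18198 : nd 18198 = n18232 := ndS (p := 15209) (l := 4) rfl N15209 D18232
theorem N18199 : nd 18199 = n18233 := ndS (p := 15210) (l := 5) rfl N15210 D18233
theorem N18200 : nd 18200 = n18234 := ndS (p := 15211) (l := 3) rfl N15211 D18234
theorem N18201 : nd 18201 = n18235 := ndS (p := 15214) (l := 4) rfl N15214 D18235
theorem N18202 : nd 18202 = n18236 := ndS (p := 15215) (l := 5) rfl N15215 D18236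
theorem N18203 : nd 18203 = n18237 := ndS (p := 15216) (l := 4) rfl N15216 D18237
theorem N18204 : nd 18204 = n18238 := ndS (p := 15217) (l := 3) rfl N15217 D18238
theorem N18205 : nd 18205 = n18239 := ndS (p := 15218) (l := 4) rfl N15218 D18239
theorem N18206 : nd 18206 = n18240 := ndS (p := 15219) (l := 3) rfl N15219 D18240
theorem N18207 : nd 18207 = n18241 := ndS (p := 15219) (l := 5) rfl N15219 D18241
theorem N18208 : nd 18208 = n18242 := ndS (p := 15220) (l := 4) rfl N15220 D18242
theorem N18209 : nd 18209 = n18243 := ndS (p := 15221) (l := 4) rfl N15221 D18243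
theorem N18210 : nd 18210 = n18244 := ndS (p := 15222) (l := 3) rfl N15222 D18244
theorem N18211 : nd 18211 = n18245 := ndS (p := 15223) (l := 2) rfl N15223 D18245
theorem N18212 : nd 18212 = n18246 := ndS (p := 15224) (l := 5) rfl N15224 D18246
theorem N18213 : nd 18213 = n18247 := ndS (p := 15226) (l := 3) rfl N15226 D18247
theorem N18214 : nd 18214 = n18248 := ndS (p := 15227) (l := 2) rfl N15227 D18248
theorem N18215 : nd 18215 = n18249 := ndS (p := 15228) (l := 1) rfl N15228 D18249
theorem N18216 : nd 18216 = n18250 := ndS (p := 15229) (l := 3) rfl N15229 D18250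
theorem N18217 : nd 18217 = n18251 := ndS (p := 15229) (l := 5) rfl N15229 D18251
theorem N18218 : nd 18218 = n18252 := ndS (p := 15231) (l := 4) rfl N15231 D18252
theorem N18219 : nd 18219 = n18253 := ndS (p := 15233) (l := 3) rfl N15233 D18253
theorem N18220 : nd 18220 = n18254 := ndS (p := 15234) (l := 4) rfl N15234 D18254
theorem N18221 : nd 18221 = n18255 := ndS (p := 15235) (l := 4) rfl N15235 D18255
theorem N18222 : nd 18222 = n18256 := ndS (p := 15239) (l := 3) rfl N15239 D18256
theorem N18223 : nd 18223 = n18257 := ndS (p := 15240) (l := 2) rfl N15240 D18257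
theorem N18224 : nd 18224 = n18258 := ndS (p := 15240) (l := 4) rfl N15240 D18258
theorem N18225 : nd 18225 = n18259 := ndS (p := 15240) (l := 5) rfl N15240 D18259
theorem N18226 : nd 18226 = n18260 := ndS (p := 15241) (l := 4) rfl N15241 D18260
theorem N18227 : nd 18227 = n18261 := ndS (p := 15243) (l := 2) rfl N15243 D18261
theorem N18228 : nd 18228 = n18262 := ndS (p := 15245) (l := 3) rfl N15245 D18262
theorem N18229 : nd 18229 = n18263 := ndS (p := 15246) (l := 3) rfl N15246 D18263
theorem N18230 : nd 18230 = n18264 := ndS (p := 15246) (l := 5) rfl N15246 D18264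
theorem N18231 : nd 18231 = n18265 := ndS (p := 15248) (l := 3) rfl N15248 D18265
theorem N18232 : nd 18232 = n18266 := ndS (p := 15248) (l := 5) rfl N15248 D18266
theorem N18233 : nd 18233 = n18267 := ndS (p := 15249) (l := 2) rfl N15249 D18267
theorem N18234 : nd 18234 = n18268 := ndS (p := 15249) (l := 5) rfl N15249 D18268
theorem N18235 : nd 18235 = n18269 := ndS (p := 15251) (l := 1) rfl N15251 D18269
theorem N18236 : nd 18236 = n18270 := ndS (p := 15252) (l := 4) rfl N15252 D18270
theorem N18237 : nd 18237 = n18271 := ndS (p := 15253) (l := 4) rfl N15253 D18271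
theorem N18238 : nd 18238 = n18272 := ndS (p := 15254) (l := 5) rfl N15254 D18272
theorem N18239 : nd 18239 = n18273 := ndS (p := 15255) (l := 3) rfl N15255 D18273
theorem N18240 : nd 18240 = n18274 := ndS (p := 15255) (l := 5) rfl N15255 D18274
theorem N18241 : nd 18241 = n18275 := ndS (p := 15257) (l := 3) rfl N15257 D18275
theorem N18242 : nd 18242 = n18276 := ndS (p := 15257) (l := 5) rfl N15257 D18276
theorem N18243 : nd 18243 = n18277 := ndS (p := 15258) (l := 2) rfl N15258 D18277
theorem N18244 : nd 18244 = n18278 := ndS (p := 15260) (l := 1) rfl N15260 D18278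
theorem N18245 : nd 18245 = n18279 := ndS (p := 15262) (l := 3) rfl N15262 D18279
theorem N18246 : nd 18246 = n18280 := ndS (p := 15263) (l := 2) rfl N15263 D18280
theorem N18247 : nd 18247 = n18281 := ndS (p := 15263) (l := 4) rfl N15263 D18281
theorem N18248 : nd 18248 = n18282 := ndS (p := 15264) (l := 1) rfl N15264 D18282
theorem N18249 : nd 18249 = n18283 := ndS (p := 15264) (l := 4) rfl N15264 D18283
theorem N18250 : nd 18250 = n18284 := ndS (p := 15265) (l := 5) rfl N15265 D18284
theorem N18251 : nd 18251 = n18285 := ndS (p := 15266) (l := 4) rfl N15266 D18285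
theorem N18252 : nd 18252 = n18286 := ndS (p := 15267) (l := 3) rfl N15267 D18286
theorem N18253 : nd 18253 = n18287 := ndS (p := 15268) (l := 3) rfl N15268 D18287
theorem N18254 : nd 18254 = n18288 := ndS (p := 15269) (l := 2) rfl N15269 D18288
theorem N18255 : nd 18255 = n18289 := ndS (p := 15269) (l := 5) rfl N15269 D18289
theorem N18256 : nd 18256 = n18290 := ndS (p := 15271) (l := 1) rfl N15271 D18290
theorem N18257 : nd 18257 = n18291 := ndS (p := 15272) (l := 4) rfl N15272 D18291
theorem N18258 : nd 18258 = n18292 := ndS (p := 15273) (l := 4) rfl N15273 D18292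
theorem N18259 : nd 18259 = n18293 := ndS (p := 15274) (l := 5) rfl N15274 D18293
theorem N18260 : nd 18260 = n18294 := ndS (p := 15275) (l := 3) rfl N15275 D18294
theorem N18261 : nd 18261 = n18295 := ndS (p := 15275) (l := 5) rfl N15275 D18295
theorem N18262 : nd 18262 = n18296 := ndS (p := 15277) (l := 3) rfl N15277 D18296
theorem N18263 : nd 18263 = n18297 := ndS (p := 15277) (l := 5) rfl N15277 D18297
theorem N18264 : nd 18264 = n18298 := ndS (p := 15278) (l := 2) rfl N15278 D18298
theorem N18265 : nd 18265 = n18299 := ndS (p := 15278) (l := 4) rfl N15278 D18299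
theorem N18266 : nd 18266 = n18300 := ndS (p := 15279) (l := 4) rfl N15279 D18300
theorem N18267 : nd 18267 = n18301 := ndS (p := 15280) (l := 5) rfl N15280 D18301
theorem N18268 : nd 18268 = n18302 := ndS (p := 15281) (l := 3) rfl N15281 D18302
theorem N18269 : nd 18269 = n18303 := ndS (p := 15282) (l := 4) rfl N15282 D18303
theorem N18270 : nd 18270 = n18304 := ndS (p := 15283) (l := 1) rfl N15283 D18304
theorem N18271 : nd 18271 = n18305 := ndS (p := 15283) (l := 4) rfl N15283 D18305
theorem N18272 : nd 18272 = n18306 := ndS (p := 15285) (l := 0) rfl N15285 D18306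
theorem N18273 : nd 18273 = n18307 := ndS (p := 15285) (l := 4) rfl N15285 D18307
theorem N18274 : nd 18274 = n18308 := ndS (p := 15286) (l := 3) rfl N15286 D18308
theorem N18275 : nd 18275 = n18309 := ndS (p := 15286) (l := 5) rfl N15286 D18309
theorem N18276 : nd 18276 = n18310 := ndS (p := 15287) (l := 4) rfl N15287 D18310
theorem N18277 : nd 18277 = n18311 := ndS (p := 15288) (l := 3) rfl N15288 D18311
theorem N18278 : nd 18278 = n18312 := ndS (p := 15289) (l := 2) rfl N15289 D18312
theorem N18279 : nd 18279 = n18313 := ndS (p := 15290) (l := 3) rfl N15290 D18313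
theorem N18280 : nd 18280 = n18314 := ndS (p := 15292) (l := 3) rfl N15292 D18314
theorem N18281 : nd 18281 = n18315 := ndS (p := 15293) (l := 2) rfl N15293 D18315
theorem N18282 : nd 18282 = n18316 := ndS (p := 15293) (l := 4) rfl N15293 D18316
theorem N18283 : nd 18283 = n18317 := ndS (p := 15294) (l := 2) rfl N15294 D18317
theorem N18284 : nd 18284 = n18318 := ndS (p := 15295) (l := 1) rfl N15295 D18318
theorem N18285 : nd 18285 = n18319 := ndS (p := 15295) (l := 3) rfl N15295 D18319
theorem N18286 : nd 18286 = n18320 := ndS (p := 15297) (l := 2) rfl N15297 D18320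
theorem N18287 : nd 18287 = n18321 := ndS (p := 15297) (l := 5) rfl N15297 D18321
theorem N18288 : nd 18288 = n18322 := ndS (p := 15299) (l := 3) rfl N15299 D18322
theorem N18289 : nd 18289 = n18323 := ndS (p := 15300) (l := 2) rfl N15300 D18323
theorem N18290 : nd 18290 = n18324 := ndS (p := 15301) (l := 4) rfl N15301 D18324
theorem N18291 : nd 18291 = n18325 := ndS (p := 15302) (l := 5) rfl N15302 D18325
theorem N18292 : nd 18292 = n18326 := ndS (p := 15303) (l := 3) rfl N15303 D18326
theorem N18293 : nd 18293 = n18327 := ndS (p := 15307) (l := 4) rfl N15307 D18327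
theorem N18294 : nd 18294 = n18328 := ndS (p := 15308) (l := 3) rfl N15308 D18328
theorem N18295 : nd 18295 = n18329 := ndS (p := 15309) (l := 2) rfl N15309 D18329
theorem N18296 : nd 18296 = n18330 := ndS (p := 15310) (l := 1) rfl N15310 D18330
theorem N18297 : nd 18297 = n18331 := ndS (p := 15310) (l := 3) rfl N15310 D18331
theorem N18298 : nd 18298 = n18332 := ndS (p := 15315) (l := 0) rfl N15315 D18332
theorem N18299 : nd 18299 = n18333 := ndS (p := 15317) (l := 4) rfl N15317 D18333
theorem N18300 : nd 18300 = n18334 := ndS (p := 15319) (l := 4) rfl N15319 D18334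
theorem N18301 : nd 18301 = n18335 := ndS (p := 15323) (l := 4) rfl N15323 D18335
theorem N18302 : nd 18302 = n18336 := ndS (p := 15325) (l := 4) rfl N15325 D18336
theorem N18303 : nd 18303 = n18337 := ndS (p := 15327) (l := 4) rfl N15327 D18337
theorem N18304 : nd 18304 = n18338 := ndS (p := 15329) (l := 3) rfl N15329 D18338
theorem N18305 : nd 18305 = n18339 := ndS (p := 15329) (l := 4) rfl N15329 D18339
theorem N18306 : nd 18306 = n18340 := ndS (p := 15331) (l := 1) rfl N15331 D18340
theorem N18307 : nd 18307 = n18341 := ndS (p := 15331) (l := 4) rfl N15331 D18341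
theorem N18308 : nd 18308 = n18342 := ndS (p := 15331) (l := 5) rfl N15331 D18342
theorem N18309 : nd 18309 = n18343 := ndS (p := 15332) (l := 5) rfl N15332 D18343
theorem N18310 : nd 18310 = n18344 := ndS (p := 15335) (l := 4) rfl N15335 D18344
theorem N18311 : nd 18311 = n18345 := ndS (p := 15335) (l := 5) rfl N15335 D18345
theorem N18312 : nd 18312 = n18346 := ndS (p := 15336) (l := 3) rfl N15336 D18346
theorem N18313 : nd 18313 = n18347 := ndS (p := 15336) (l := 5) rfl N15336 D18347
theorem N18314 : nd 18314 = n18348 := ndS (p := 15339) (l := 1) rfl N15339 D18348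
theorem N18315 : nd 18315 = n18349 := ndS (p := 15339) (l := 3) rfl N15339 D18349
theorem N18316 : nd 18316 = n18350 := ndS (p := 15339) (l := 4) rfl N15339 D18350
theorem N18317 : nd 18317 = n18351 := ndS (p := 15342) (l := 4) rfl N15342 D18351
theorem N18318 : nd 18318 = n18352 := ndS (p := 15343) (l := 3) rfl N15343 D18352
theorem N18319 : nd 18319 = n18353 := ndS (p := 15344) (l := 0) rfl N15344 D18353
theorem N18320 : nd 18320 = n18354 := ndS (p := 15346) (l := 2) rfl N15346 D18354
theorem N18321 : nd 18321 = n18355 := ndS (p := 15346) (l := 4) rfl N15346 D18355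
theorem N18322 : nd 18322 = n18356 := ndS (p := 15347) (l := 3) rfl N15347 D18356
theorem N18323 : nd 18323 = n18357 := ndS (p := 15347) (l := 4) rfl N15347 D18357
theorem N18324 : nd 18324 = n18358 := ndS (p := 15349) (l := 3) rfl N15349 D18358
theorem N18325 : nd 18325 = n18359 := ndS (p := 15349) (l := 4) rfl N15349 D18359
theorem N18326 : nd 18326 = n18360 := ndS (p := 15350) (l := 4) rfl N15350 D18360
theorem N18327 : nd 18327 = n18361 := ndS (p := 15351) (l := 3) rfl N15351 D18361
theorem N18328 : nd 18328 = n18362 := ndS (p := 15352) (l := 4) rfl N15352 D18362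
theorem N18329 : nd 18329 = n18363 := ndS (p := 15353) (l := 3) rfl N15353 D18363
theorem N18330 : nd 18330 = n18364 := ndS (p := 15353) (l := 5) rfl N15353 D18364
theorem N18331 : nd 18331 = n18365 := ndS (p := 15354) (l := 2) rfl N15354 D18365
theorem N18332 : nd 18332 = n18366 := ndS (p := 15355) (l := 3) rfl N15355 D18366
theorem N18333 : nd 18333 = n18367 := ndS (p := 15356) (l := 2) rfl N15356 D18367
theorem N18334 : nd 18334 = n18368 := ndS (p := 15357) (l := 5) rfl N15357 D18368
theorem N18335 : nd 18335 = n18369 := ndS (p := 15358) (l := 5) rfl N15358 D18369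
theorem N18336 : nd 18336 = n18370 := ndS (p := 15361) (l := 4) rfl N15361 D18370
theorem N18337 : nd 18337 = n18371 := ndS (p := 15365) (l := 3) rfl N15365 D18371
theorem N18338 : nd 18338 = n18372 := ndS (p := 15365) (l := 5) rfl N15365 D18372
theorem N18339 : nd 18339 = n18373 := ndS (p := 15366) (l := 5) rfl N15366 D18373
theorem N18340 : nd 18340 = n18374 := ndS (p := 15370) (l := 2) rfl N15370 D18374
theorem N18341 : nd 18341 = n18375 := ndS (p := 15370) (l := 4) rfl N15370 D18375
theorem N18342 : nd 18342 = n18376 := ndS (p := 15372) (l := 4) rfl N15372 D18376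
theorem N18343 : nd 18343 = n18377 := ndS (p := 15374) (l := 3) rfl N15374 D18377
theorem N18344 : nd 18344 = n18378 := ndS (p := 15374) (l := 5) rfl N15374 D18378
theorem N18345 : nd 18345 = n18379 := ndS (p := 15375) (l := 2) rfl N15375 D18379
theorem N18346 : nd 18346 = n18380 := ndS (p := 15375) (l := 5) rfl N15375 D18380
theorem N18347 : nd 18347 = n18381 := ndS (p := 15379) (l := 4) rfl N15379 D18381
theorem N18348 : nd 18348 = n18382 := ndS (p := 15381) (l := 3) rfl N15381 D18382
theorem N18349 : nd 18349 = n18383 := ndS (p := 15383) (l := 3) rfl N15383 D18383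
theorem N18350 : nd 18350 = n18384 := ndS (p := 15390) (l := 3) rfl N15390 D18384
theorem N18351 : nd 18351 = n18385 := ndS (p := 15390) (l := 5) rfl N15390 D18385
theorem N18352 : nd 18352 = n18386 := ndS (p := 15391) (l := 3) rfl N15391 D18386
theorem N18353 : nd 18353 = n18387 := ndS (p := 15391) (l := 5) rfl N15391 D18387
theorem N18354 : nd 18354 = n18388 := ndS (p := 15392) (l := 2) rfl N15392 D18388
theorem N18355 : nd 18355 = n18389 := ndS (p := 15392) (l := 5) rfl N15392 D18389
theorem N18356 : nd 18356 = n18390 := ndS (p := 15394) (l := 2) rfl N15394 D18390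
theorem N18357 : nd 18357 = n18391 := ndS (p := 15394) (l := 5) rfl N15394 D18391
theorem N18358 : nd 18358 = n18392 := ndS (p := 15396) (l := 1) rfl N15396 D18392
theorem N18359 : nd 18359 = n18393 := ndS (p := 15396) (l := 3) rfl N15396 D18393
theorem N18360 : nd 18360 = n18394 := ndS (p := 15396) (l := 5) rfl N15396 D18394
theorem N18361 : nd 18361 = n18395 := ndS (p := 15397) (l := 4) rfl N15397 D18395
theorem N18362 : nd 18362 = n18396 := ndS (p := 15402) (l := 3) rfl N15402 D18396
theorem N18363 : nd 18363 = n18397 := ndS (p := 15404) (l := 2) rfl N15404 D18397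
theorem N18364 : nd 18364 = n18398 := ndS (p := 15406) (l := 5) rfl N15406 D18398
theorem N18365 : nd 18365 = n18399 := ndS (p := 15407) (l := 3) rfl N15407 D18399
theorem N18366 : nd 18366 = n18400 := ndS (p := 15410) (l := 2) rfl N15410 D18400
theorem N18367 : nd 18367 = n18401 := ndS (p := 15411) (l := 4) rfl N15411 D18401
theorem N18368 : nd 18368 = n18402 := ndS (p := 15412) (l := 3) rfl N15412 D18402
theorem N18369 : nd 18369 = n18403 := ndS (p := 15413) (l := 2) rfl N15413 D18403
theorem N18370 : nd 18370 = n18404 := ndS (p := 15414) (l := 3) rfl N15414 D18404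
theorem N18371 : nd 18371 = n18405 := ndS (p := 15415) (l := 2) rfl N15415 D18405
theorem N18372 : nd 18372 = n18406 := ndS (p := 15415) (l := 4) rfl N15415 D18406
theorem N18373 : nd 18373 = n18407 := ndS (p := 15417) (l := 5) rfl N15417 D18407
theorem N18374 : nd 18374 = n18408 := ndS (p := 15418) (l := 4) rfl N15418 D18408
theorem N18375 : nd 18375 = n18409 := ndS (p := 15419) (l := 5) rfl N15419 D18409
theorem N18376 : nd 18376 = n18410 := ndS (p := 15420) (l := 4) rfl N15420 D18410
theorem N18377 : nd 18377 = n18411 := ndS (p := 15421) (l := 3) rfl N15421 D18411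
theorem N18378 : nd 18378 = n18412 := ndS (p := 15423) (l := 2) rfl N15423 D18412
theorem N18379 : nd 18379 = n18413 := ndS (p := 15424) (l := 1) rfl N15424 D18413
theorem N18380 : nd 18380 = n18414 := ndS (p := 15424) (l := 3) rfl N15424 D18414
theorem N18381 : nd 18381 = n18415 := ndS (p := 15426) (l := 0) rfl N15426 D18415
theorem N18382 : nd 18382 = n18416 := ndS (p := 15427) (l := 5) rfl N15427 D18416
theorem N18383 : nd 18383 = n18417 := ndS (p := 15429) (l := 1) rfl N15429 D18417
theorem N18384 : nd 18384 = n18418 := ndS (p := 15430) (l := 5) rfl N15430 D18418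
theorem N18385 : nd 18385 = n18419 := ndS (p := 15431) (l := 5) rfl N15431 D18419
theorem N18386 : nd 18386 = n18420 := ndS (p := 15433) (l := 1) rfl N15433 D18420
theorem N18387 : nd 18387 = n18421 := ndS (p := 15434) (l := 0) rfl N15434 D18421
theorem N18388 : nd 18388 = n18422 := ndS (p := 15434) (l := 3) rfl N15434 D18422
theorem N18389 : nd 18389 = n18423 := ndS (p := 15435) (l := 4) rfl N15435 D18423
theorem N18390 : nd 18390 = n18424 := ndS (p := 15436) (l := 3) rfl N15436 D18424
theorem N18391 : nd 18391 = n18425 := ndS (p := 15437) (l := 2) rfl N15437 D18425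
theorem N18392 : nd 18392 = n18426 := ndS (p := 15438) (l := 5) rfl N15438 D18426
theorem N18393 : nd 18393 = n18427 := ndS (p := 15442) (l := 3) rfl N15442 D18427
theorem N18394 : nd 18394 = n18428 := ndS (p := 15442) (l := 5) rfl N15442 D18428
theorem N18395 : nd 18395 = n18429 := ndS (p := 15443) (l := 5) rfl N15443 D18429
theorem N18396 : nd 18396 = n18430 := ndS (p := 15444) (l := 4) rfl N15444 D18430
theorem N18397 : nd 18397 = n18431 := ndS (p := 15446) (l := 3) rfl N15446 D18431
theorem N18398 : nd 18398 = n18432 := ndS (p := 15446) (l := 5) rfl N15446 D18432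
theorem N18399 : nd 18399 = n18433 := ndS (p := 15447) (l := 2) rfl N15447 D18433
theorem N18400 : nd 18400 = n18434 := ndS (p := 15449) (l := 4) rfl N15449 D18434
theorem N18401 : nd 18401 = n18435 := ndS (p := 15450) (l := 3) rfl N15450 D18435
theorem N18402 : nd 18402 = n18436 := ndS (p := 15451) (l := 3) rfl N15451 D18436
theorem N18403 : nd 18403 = n18437 := ndS (p := 15453) (l := 3) rfl N15453 D18437
theorem N18404 : nd 18404 = n18438 := ndS (p := 15453) (l := 5) rfl N15453 D18438
theorem N18405 : nd 18405 = n18439 := ndS (p := 15454) (l := 2) rfl N15454 D18439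
theorem N18406 : nd 18406 = n18440 := ndS (p := 15454) (l := 5) rfl N15454 D18440
theorem N18407 : nd 18407 = n18441 := ndS (p := 15456) (l := 2) rfl N15456 D18441
theorem N18408 : nd 18408 = n18442 := ndS (p := 15456) (l := 5) rfl N15456 D18442
theorem N18409 : nd 18409 = n18443 := ndS (p := 15458) (l := 1) rfl N15458 D18443
theorem N18410 : nd 18410 = n18444 := ndS (p := 15458) (l := 3) rfl N15458 D18444
theorem N18411 : nd 18411 = n18445 := ndS (p := 15458) (l := 5) rfl N15458 D18445
theorem N18412 : nd 18412 = n18446 := ndS (p := 15459) (l := 4) rfl N15459 D18446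
theorem N18413 : nd 18413 = n18447 := ndS (p := 15460) (l := 0) rfl N15460 D18447
theorem N18414 : nd 18414 = n18448 := ndS (p := 15460) (l := 3) rfl N15460 D18448
theorem N18415 : nd 18415 = n18449 := ndS (p := 15460) (l := 5) rfl N15460 D18449
theorem N18416 : nd 18416 = n18450 := ndS (p := 15465) (l := 3) rfl N15465 D18450
theorem N18417 : nd 18417 = n18451 := ndS (p := 15468) (l := 4) rfl N15468 D18451
theorem N18418 : nd 18418 = n18452 := ndS (p := 15469) (l := 3) rfl N15469 D18452
theorem N18419 : nd 18419 = n18453 := ndS (p := 15470) (l := 2) rfl N15470 D18453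
theorem N18420 : nd 18420 = n18454 := ndS (p := 15476) (l := 1) rfl N15476 D18454
theorem N18421 : nd 18421 = n18455 := ndS (p := 15476) (l := 3) rfl N15476 D18455
theorem N18422 : nd 18422 = n18456 := ndS (p := 15476) (l := 4) rfl N15476 D18456
theorem N18423 : nd 18423 = n18457 := ndS (p := 15476) (l := 5) rfl N15476 D18457
theorem N18424 : nd 18424 = n18458 := ndS (p := 15477) (l := 5) rfl N15477 D18458
theorem N18425 : nd 18425 = n18459 := ndS (p := 15478) (l := 4) rfl N15478 D18459
theorem N18426 : nd 18426 = n18460 := ndS (p := 15479) (l := 3) rfl N15479 D18460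
theorem N18427 : nd 18427 = n18461 := ndS (p := 15481) (l := 2) rfl N15481 D18461
theorem N18428 : nd 18428 = n18462 := ndS (p := 15481) (l := 5) rfl N15481 D18462
theorem N18429 : nd 18429 = n18463 := ndS (p := 15483) (l := 4) rfl N15483 D18463
theorem N18430 : nd 18430 = n18464 := ndS (p := 15484) (l := 4) rfl N15484 D18464
theorem N18431 : nd 18431 = n18465 := ndS (p := 15485) (l := 3) rfl N15485 D18465
theorem N18432 : nd 18432 = n18466 := ndS (p := 15486) (l := 2) rfl N15486 D18466
theorem N18433 : nd 18433 = n18467 := ndS (p := 15491) (l := 1) rfl N15491 D18467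
theorem N18434 : nd 18434 = n18468 := ndS (p := 15493) (l := 2) rfl N15493 D18468
theorem N18435 : nd 18435 = n18469 := ndS (p := 15496) (l := 1) rfl N15496 D18469
theorem N18436 : nd 18436 = n18470 := ndS (p := 15496) (l := 3) rfl N15496 D18470
theorem N18437 : nd 18437 = n18471 := ndS (p := 15497) (l := 0) rfl N15497 D18471
theorem N18438 : nd 18438 = n18472 := ndS (p := 15497) (l := 3) rfl N15497 D18472
theorem N18439 : nd 18439 = n18473 := ndS (p := 15500) (l := 4) rfl N15500 D18473
theorem N18440 : nd 18440 = n18474 := ndS (p := 15504) (l := 1) rfl N15504 D18474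
theorem N18441 : nd 18441 = n18475 := ndS (p := 15504) (l := 3) rfl N15504 D18475
theorem N18442 : nd 18442 = n18476 := ndS (p := 15504) (l := 4) rfl N15504 D18476
theorem N18443 : nd 18443 = n18477 := ndS (p := 15507) (l := 2) rfl N15507 D18477
theorem N18444 : nd 18444 = n18478 := ndS (p := 15507) (l := 4) rfl N15507 D18478
theorem N18445 : nd 18445 = n18479 := ndS (p := 15508) (l := 3) rfl N15508 D18479
theorem N18446 : nd 18446 = n18480 := ndS (p := 15509) (l := 2) rfl N15509 D18480
theorem N18447 : nd 18447 = n18481 := ndS (p := 15510) (l := 2) rfl N15510 D18481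
theorem N18448 : nd 18448 = n18482 := ndS (p := 15510) (l := 5) rfl N15510 D18482
theorem N18449 : nd 18449 = n18483 := ndS (p := 15512) (l := 3) rfl N15512 D18483
theorem N18450 : nd 18450 = n18484 := ndS (p := 15513) (l := 2) rfl N15513 D18484
theorem N18451 : nd 18451 = n18485 := ndS (p := 15515) (l := 1) rfl N15515 D18485
theorem N18452 : nd 18452 = n18486 := ndS (p := 15515) (l := 3) rfl N15515 D18486
theorem N18453 : nd 18453 = n18487 := ndS (p := 15515) (l := 5) rfl N15515 D18487
theorem N18454 : nd 18454 = n18488 := ndS (p := 15517) (l := 0) rfl N15517 D18488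
theorem N18455 : nd 18455 = n18489 := ndS (p := 15522) (l := 3) rfl N15522 D18489
theorem N18456 : nd 18456 = n18490 := ndS (p := 15523) (l := 1) rfl N15523 D18490
theorem N18457 : nd 18457 = n18491 := ndS (p := 15523) (l := 4) rfl N15523 D18491
theorem N18458 : nd 18458 = n18492 := ndS (p := 15523) (l := 5) rfl N15523 D18492
theorem N18459 : nd 18459 = n18493 := ndS (p := 15524) (l := 5) rfl N15524 D18493
theorem N18460 : nd 18460 = n18494 := ndS (p := 15527) (l := 0) rfl N15527 D18494
theorem N18461 : nd 18461 = n18495 := ndS (p := 15527) (l := 3) rfl N15527 D18495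
theorem N18462 : nd 18462 = n18496 := ndS (p := 15527) (l := 4) rfl N15527 D18496
theorem N18463 : nd 18463 = n18497 := ndS (p := 15528) (l := 4) rfl N15528 D18497
theorem N18464 : nd 18464 = n18498 := ndS (p := 15528) (l := 5) rfl N15528 D18498
theorem N18465 : nd 18465 = n18499 := ndS (p := 15529) (l := 3) rfl N15529 D18499
theorem N18466 : nd 18466 = n18500 := ndS (p := 15529) (l := 5) rfl N15529 D18500
theorem N18467 : nd 18467 = n18501 := ndS (p := 15532) (l := 4) rfl N15532 D18501
theorem N18468 : nd 18468 = n18502 := ndS (p := 15533) (l := 3) rfl N15533 D18502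
theorem N18469 : nd 18469 = n18503 := ndS (p := 15533) (l := 5) rfl N15533 D18503
theorem N18470 : nd 18470 = n18504 := ndS (p := 15539) (l := 2) rfl N15539 D18504
theorem N18471 : nd 18471 = n18505 := ndS (p := 15539) (l := 5) rfl N15539 D18505
theorem N18472 : nd 18472 = n18506 := ndS (p := 15545) (l := 4) rfl N15545 D18506
theorem N18473 : nd 18473 = n18507 := ndS (p := 15546) (l := 4) rfl N15546 D18507
theorem N18474 : nd 18474 = n18508 := ndS (p := 15547) (l := 3) rfl N15547 D18508
theorem N18475 : nd 18475 = n18509 := ndS (p := 15548) (l := 4) rfl N15548 D18509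
theorem N18476 : nd 18476 = n18510 := ndS (p := 15549) (l := 3) rfl N15549 D18510
theorem N18477 : nd 18477 = n18511 := ndS (p := 15549) (l := 5) rfl N15549 D18511
theorem N18478 : nd 18478 = n18512 := ndS (p := 15550) (l := 2) rfl N15550 D18512
theorem N18479 : nd 18479 = n18513 := ndS (p := 15551) (l := 2) rfl N15551 D18513
theorem N18480 : nd 18480 = n18514 := ndS (p := 15552) (l := 1) rfl N15552 D18514
theorem N18481 : nd 18481 = n18515 := ndS (p := 15552) (l := 3) rfl N15552 D18515
theorem N18482 : nd 18482 = n18516 := ndS (p := 15555) (l := 0) rfl N15555 D18516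
theorem N18483 : nd 18483 = n18517 := ndS (p := 15556) (l := 4) rfl N15556 D18517
theorem N18484 : nd 18484 = n18518 := ndS (p := 15557) (l := 5) rfl N15557 D18518
theorem N18485 : nd 18485 = n18519 := ndS (p := 15559) (l := 3) rfl N15559 D18519
theorem N18486 : nd 18486 = n18520 := ndS (p := 15559) (l := 5) rfl N15559 D18520
theorem N18487 : nd 18487 = n18521 := ndS (p := 15560) (l := 5) rfl N15560 D18521
theorem N18488 : nd 18488 = n18522 := ndS (p := 15563) (l := 3) rfl N15563 D18522
theorem N18489 : nd 18489 = n18523 := ndS (p := 15563) (l := 5) rfl N15563 D18523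
theorem N18490 : nd 18490 = n18524 := ndS (p := 15564) (l := 2) rfl N15564 D18524
theorem N18491 : nd 18491 = n18525 := ndS (p := 15565) (l := 3) rfl N15565 D18525
theorem N18492 : nd 18492 = n18526 := ndS (p := 15565) (l := 5) rfl N15565 D18526
theorem N18493 : nd 18493 = n18527 := ndS (p := 15566) (l := 2) rfl N15566 D18527
theorem N18494 : nd 18494 = n18528 := ndS (p := 15566) (l := 5) rfl N15566 D18528
theorem N18495 : nd 18495 = n18529 := ndS (p := 15568) (l := 1) rfl N15568 D18529
theorem N18496 : nd 18496 = n18530 := ndS (p := 15568) (l := 3) rfl N15568 D18530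
theorem N18497 : nd 18497 = n18531 := ndS (p := 15569) (l := 1) rfl N15569 D18531
theorem N18498 : nd 18498 = n18532 := ndS (p := 15570) (l := 4) rfl N15570 D18532
theorem N18499 : nd 18499 = n18533 := ndS (p := 15571) (l := 3) rfl N15571 D18533
theorem N18500 : nd 18500 = n18534 := ndS (p := 15572) (l := 4) rfl N15572 D18534
theorem N18501 : nd 18501 = n18535 := ndS (p := 15574) (l := 4) rfl N15574 D18535
theorem N18502 : nd 18502 = n18536 := ndS (p := 15576) (l := 1) rfl N15576 D18536
theorem N18503 : nd 18503 = n18537 := ndS (p := 15576) (l := 4) rfl N15576 D18537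
theorem N18504 : nd 18504 = n18538 := ndS (p := 15577) (l := 5) rfl N15577 D18538
theorem N18505 : nd 18505 = n18539 := ndS (p := 15578) (l := 3) rfl N15578 D18539
theorem N18506 : nd 18506 = n18540 := ndS (p := 15579) (l := 2) rfl N15579 D18540
theorem N18507 : nd 18507 = n18541 := ndS (p := 15580) (l := 2) rfl N15580 D18541
theorem N18508 : nd 18508 = n18542 := ndS (p := 15580) (l := 5) rfl N15580 D18542
theorem N18509 : nd 18509 = n18543 := ndS (p := 15582) (l := 1) rfl N15582 D18543
theorem N18510 : nd 18510 = n18544 := ndS (p := 15584) (l := 0) rfl N15584 D18544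
theorem N18511 : nd 18511 = n18545 := ndS (p := 15585) (l := 2) rfl N15585 D18545
theorem N18512 : nd 18512 = n18546 := ndS (p := 15586) (l := 4) rfl N15586 D18546
theorem N18513 : nd 18513 = n18547 := ndS (p := 15588) (l := 3) rfl N15588 D18547
theorem N18514 : nd 18514 = n18548 := ndS (p := 15590) (l := 1) rfl N15590 D18548
theorem N18515 : nd 18515 = n18549 := ndS (p := 15590) (l := 5) rfl N15590 D18549
theorem N18516 : nd 18516 = n18550 := ndS (p := 15593) (l := 0) rfl N15593 D18550
theorem N18517 : nd 18517 = n18551 := ndS (p := 15593) (l := 3) rfl N15593 D18551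
theorem N18518 : nd 18518 = n18552 := ndS (p := 15594) (l := 5) rfl N15594 D18552
theorem N18519 : nd 18519 = n18553 := ndS (p := 15596) (l := 4) rfl N15596 D18553
theorem N18520 : nd 18520 = n18554 := ndS (p := 15600) (l := 4) rfl N15600 D18554
theorem N18521 : nd 18521 = n18555 := ndS (p := 15601) (l := 3) rfl N15601 D18555
theorem N18522 : nd 18522 = n18556 := ndS (p := 15605) (l := 2) rfl N15605 D18556
theorem N18523 : nd 18523 = n18557 := ndS (p := 15614) (l := 4) rfl N15614 D18557
theorem N18524 : nd 18524 = n18558 := ndS (p := 15616) (l := 4) rfl N15616 D18558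
theorem N18525 : nd 18525 = n18559 := ndS (p := 15618) (l := 0) rfl N15618 D18559
theorem N18526 : nd 18526 = n18560 := ndS (p := 15618) (l := 3) rfl N15618 D18560
theorem N18527 : nd 18527 = n18561 := ndS (p := 15619) (l := 4) rfl N15619 D18561
theorem N18528 : nd 18528 = n18562 := ndS (p := 15621) (l := 4) rfl N15621 D18562
theorem N18529 : nd 18529 = n18563 := ndS (p := 15622) (l := 1) rfl N15622 D18563
theorem N18530 : nd 18530 = n18564 := ndS (p := 15622) (l := 4) rfl N15622 D18564
theorem N18531 : nd 18531 = n18565 := ndS (p := 15623) (l := 5) rfl N15623 D18565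
theorem N18532 : nd 18532 = n18566 := ndS (p := 15630) (l := 1) rfl N15630 D18566
theorem N18533 : nd 18533 = n18567 := ndS (p := 15636) (l := 3) rfl N15636 D18567
theorem N18534 : nd 18534 = n18568 := ndS (p := 15636) (l := 5) rfl N15636 D18568
theorem N18535 : nd 18535 = n18569 := ndS (p := 15642) (l := 3) rfl N15642 D18569
theorem N18536 : nd 18536 = n18570 := ndS (p := 15642) (l := 5) rfl N15642 D18570
theorem N18537 : nd 18537 = n18571 := ndS (p := 15643) (l := 5) rfl N15643 D18571
theorem N18538 : nd 18538 = n18572 := ndS (p := 15645) (l := 2) rfl N15645 D18572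
theorem N18539 : nd 18539 = n18573 := ndS (p := 15645) (l := 5) rfl N15645 D18573
theorem N18540 : nd 18540 = n18574 := ndS (p := 15649) (l := 0) rfl N15649 D18574
theorem N18541 : nd 18541 = n18575 := ndS (p := 15650) (l := 3) rfl N15650 D18575
theorem N18542 : nd 18542 = n18576 := ndS (p := 15650) (l := 4) rfl N15650 D18576
theorem N18543 : nd 18543 = n18577 := ndS (p := 15654) (l := 5) rfl N15654 D18577
theorem N18544 : nd 18544 = n18578 := ndS (p := 15657) (l := 4) rfl N15657 D18578
theorem N18545 : nd 18545 = n18579 := ndS (p := 15658) (l := 3) rfl N15658 D18579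
theorem N18546 : nd 18546 = n18580 := ndS (p := 15658) (l := 5) rfl N15658 D18580
theorem N18547 : nd 18547 = n18581 := ndS (p := 15659) (l := 2) rfl N15659 D18581
theorem N18548 : nd 18548 = n18582 := ndS (p := 15659) (l := 5) rfl N15659 D18582
theorem N18549 : nd 18549 = n18583 := ndS (p := 15665) (l := 2) rfl N15665 D18583
theorem N18550 : nd 18550 = n18584 := ndS (p := 15666) (l := 1) rfl N15666 D18584
theorem N18551 : nd 18551 = n18585 := ndS (p := 15666) (l := 3) rfl N15666 D18585
theorem N18552 : nd 18552 = n18586 := ndS (p := 15666) (l := 5) rfl N15666 D18586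
theorem N18553 : nd 18553 = n18587 := ndS (p := 15668) (l := 1) rfl N15668 D18587
theorem N18554 : nd 18554 = n18588 := ndS (p := 15669) (l := 4) rfl N15669 D18588
theorem N18555 : nd 18555 = n18589 := ndS (p := 15670) (l := 1) rfl N15670 D18589
theorem N18556 : nd 18556 = n18590 := ndS (p := 15670) (l := 3) rfl N15670 D18590
theorem N18557 : nd 18557 = n18591 := ndS (p := 15670) (l := 5) rfl N15670 D18591
theorem N18558 : nd 18558 = n18592 := ndS (p := 15671) (l := 4) rfl N15671 D18592
theorem N18559 : nd 18559 = n18593 := ndS (p := 15672) (l := 0) rfl N15672 D18593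
theorem N18560 : nd 18560 = n18594 := ndS (p := 15672) (l := 3) rfl N15672 D18594
theorem N18561 : nd 18561 = n18595 := ndS (p := 15673) (l := 4) rfl N15673 D18595
theorem N18562 : nd 18562 = n18596 := ndS (p := 15674) (l := 4) rfl N15674 D18596
theorem N18563 : nd 18563 = n18597 := ndS (p := 15676) (l := 3) rfl N15676 D18597
theorem N18564 : nd 18564 = n18598 := ndS (p := 15676) (l := 5) rfl N15676 D18598
theorem N18565 : nd 18565 = n18599 := ndS (p := 15679) (l := 3) rfl N15679 D18599
theorem N18566 : nd 18566 = n18600 := ndS (p := 15679) (l := 5) rfl N15679 D18600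
theorem N18567 : nd 18567 = n18601 := ndS (p := 15680) (l := 2) rfl N15680 D18601
theorem N18568 : nd 18568 = n18602 := ndS (p := 15680) (l := 5) rfl N15680 D18602
theorem N18569 : nd 18569 = n18603 := ndS (p := 15685) (l := 1) rfl N15685 D18603
theorem N18570 : nd 18570 = n18604 := ndS (p := 15685) (l := 3) rfl N15685 D18604
theorem N18571 : nd 18571 = n18605 := ndS (p := 15685) (l := 5) rfl N15685 D18605
theorem N18572 : nd 18572 = n18606 := ndS (p := 15687) (l := 5) rfl N15687 D18606
theorem N18573 : nd 18573 = n18607 := ndS (p := 15690) (l := 1) rfl N15690 D18607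
theorem N18574 : nd 18574 = n18608 := ndS (p := 15691) (l := 0) rfl N15691 D18608
theorem N18575 : nd 18575 = n18609 := ndS (p := 15693) (l := 4) rfl N15693 D18609
theorem N18576 : nd 18576 = n18610 := ndS (p := 15694) (l := 4) rfl N15694 D18610
theorem N18577 : nd 18577 = n18611 := ndS (p := 15695) (l := 5) rfl N15695 D18611
theorem N18578 : nd 18578 = n18612 := ndS (p := 15696) (l := 3) rfl N15696 D18612
theorem N18579 : nd 18579 = n18613 := ndS (p := 15698) (l := 2) rfl N15698 D18613
theorem N18580 : nd 18580 = n18614 := ndS (p := 15699) (l := 2) rfl N15699 D18614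
theorem N18581 : nd 18581 = n18615 := ndS (p := 15699) (l := 4) rfl N15699 D18615
theorem N18582 : nd 18582 = n18616 := ndS (p := 15700) (l := 4) rfl N15700 D18616
theorem N18583 : nd 18583 = n18617 := ndS (p := 15701) (l := 3) rfl N15701 D18617
theorem N18584 : nd 18584 = n18618 := ndS (p := 15701) (l := 4) rfl N15701 D18618
theorem N18585 : nd 18585 = n18619 := ndS (p := 15706) (l := 0) rfl N15706 D18619
theorem N18586 : nd 18586 = n18620 := ndS (p := 15706) (l := 4) rfl N15706 D18620
theorem N18587 : nd 18587 = n18621 := ndS (p := 15707) (l := 3) rfl N15707 D18621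
theorem N18588 : nd 18588 = n18622 := ndS (p := 15708) (l := 4) rfl N15708 D18622
theorem N18589 : nd 18589 = n18623 := ndS (p := 15709) (l := 3) rfl N15709 D18623
theorem N18590 : nd 18590 = n18624 := ndS (p := 15710) (l := 2) rfl N15710 D18624
theorem N18591 : nd 18591 = n18625 := ndS (p := 15711) (l := 3) rfl N15711 D18625
theorem N18592 : nd 18592 = n18626 := ndS (p := 15712) (l := 2) rfl N15712 D18626
theorem N18593 : nd 18593 = n18627 := ndS (p := 15712) (l := 4) rfl N15712 D18627
theorem N18594 : nd 18594 = n18628 := ndS (p := 15712) (l := 5) rfl N15712 D18628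
theorem N18595 : nd 18595 = n18629 := ndS (p := 15713) (l := 4) rfl N15713 D18629
theorem N18596 : nd 18596 = n18630 := ndS (p := 15714) (l := 4) rfl N15714 D18630
theorem N18597 : nd 18597 = n18631 := ndS (p := 15715) (l := 5) rfl N15715 D18631
theorem N18598 : nd 18598 = n18632 := ndS (p := 15717) (l := 3) rfl N15717 D18632
theorem N18599 : nd 18599 = n18633 := ndS (p := 15718) (l := 2) rfl N15718 D18633
theorem N18600 : nd 18600 = n18634 := ndS (p := 15718) (l := 4) rfl N15718 D18634
theorem N18601 : nd 18601 = n18635 := ndS (p := 15719) (l := 4) rfl N15719 D18635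
theorem N18602 : nd 18602 = n18636 := ndS (p := 15720) (l := 3) rfl N15720 D18636
theorem N18603 : nd 18603 = n18637 := ndS (p := 15720) (l := 4) rfl N15720 D18637
theorem N18604 : nd 18604 = n18638 := ndS (p := 15721) (l := 5) rfl N15721 D18638
theorem N18605 : nd 18605 = n18639 := ndS (p := 15722) (l := 3) rfl N15722 D18639
theorem N18606 : nd 18606 = n18640 := ndS (p := 15725) (l := 4) rfl N15725 D18640
theorem N18607 : nd 18607 = n18641 := ndS (p := 15726) (l := 3) rfl N15726 D18641
theorem N18608 : nd 18608 = n18642 := ndS (p := 15726) (l := 5) rfl N15726 D18642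
theorem N18609 : nd 18609 = n18643 := ndS (p := 15730) (l := 2) rfl N15730 D18643
theorem N18610 : nd 18610 = n18644 := ndS (p := 15732) (l := 3) rfl N15732 D18644
theorem N18611 : nd 18611 = n18645 := ndS (p := 15732) (l := 4) rfl N15732 D18645
theorem N18612 : nd 18612 = n18646 := ndS (p := 15736) (l := 4) rfl N15736 D18646
theorem N18613 : nd 18613 = n18647 := ndS (p := 15737) (l := 3) rfl N15737 D18647
theorem N18614 : nd 18614 = n18648 := ndS (p := 15738) (l := 2) rfl N15738 D18648
theorem N18615 : nd 18615 = n18649 := ndS (p := 15738) (l := 5) rfl N15738 D18649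
theorem N18616 : nd 18616 = n18650 := ndS (p := 15741) (l := 3) rfl N15741 D18650
theorem N18617 : nd 18617 = n18651 := ndS (p := 15742) (l := 4) rfl N15742 D18651
theorem N18618 : nd 18618 = n18652 := ndS (p := 15743) (l := 4) rfl N15743 D18652
theorem N18619 : nd 18619 = n18653 := ndS (p := 15744) (l := 5) rfl N15744 D18653
theorem N18620 : nd 18620 = n18654 := ndS (p := 15746) (l := 4) rfl N15746 D18654
theorem N18621 : nd 18621 = n18655 := ndS (p := 15747) (l := 1) rfl N15747 D18655
theorem N18622 : nd 18622 = n18656 := ndS (p := 15747) (l := 4) rfl N15747 D18656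
theorem N18623 : nd 18623 = n18657 := ndS (p := 15748) (l := 5) rfl N15748 D18657
theorem N18624 : nd 18624 = n18658 := ndS (p := 15749) (l := 4) rfl N15749 D18658
theorem N18625 : nd 18625 = n18659 := ndS (p := 15750) (l := 3) rfl N15750 D18659
theorem N18626 : nd 18626 = n18660 := ndS (p := 15750) (l := 5) rfl N15750 D18660
theorem N18627 : nd 18627 = n18661 := ndS (p := 15751) (l := 4) rfl N15751 D18661
theorem N18628 : nd 18628 = n18662 := ndS (p := 15754) (l := 4) rfl N15754 D18662
theorem N18629 : nd 18629 = n18663 := ndS (p := 15755) (l := 5) rfl N15755 D18663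
theorem N18630 : nd 18630 = n18664 := ndS (p := 15756) (l := 5) rfl N15756 D18664
theorem N18631 : nd 18631 = n18665 := ndS (p := 15757) (l := 4) rfl N15757 D18665
theorem N18632 : nd 18632 = n18666 := ndS (p := 15758) (l := 3) rfl N15758 D18666
theorem N18633 : nd 18633 = n18667 := ndS (p := 15758) (l := 5) rfl N15758 D18667
theorem N18634 : nd 18634 = n18668 := ndS (p := 15759) (l := 4) rfl N15759 D18668
theorem N18635 : nd 18635 = n18669 := ndS (p := 15761) (l := 1) rfl N15761 D18669
theorem N18636 : nd 18636 = n18670 := ndS (p := 15761) (l := 3) rfl N15761 D18670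
theorem N18637 : nd 18637 = n18671 := ndS (p := 15764) (l := 4) rfl N15764 D18671
theorem N18638 : nd 18638 = n18672 := ndS (p := 15765) (l := 2) rfl N15765 D18672
theorem N18639 : nd 18639 = n18673 := ndS (p := 15765) (l := 4) rfl N15765 D18673
theorem N18640 : nd 18640 = n18674 := ndS (p := 15768) (l := 5) rfl N15768 D18674
theorem N18641 : nd 18641 = n18675 := ndS (p := 15771) (l := 3) rfl N15771 D18675
theorem N18642 : nd 18642 = n18676 := ndS (p := 15775) (l := 3) rfl N15775 D18676
theorem N18643 : nd 18643 = n18677 := ndS (p := 15776) (l := 4) rfl N15776 D18677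
theorem N18644 : nd 18644 = n18678 := ndS (p := 15778) (l := 1) rfl N15778 D18678
theorem N18645 : nd 18645 = n18679 := ndS (p := 15778) (l := 3) rfl N15778 D18679
theorem N18646 : nd 18646 = n18680 := ndS (p := 15778) (l := 5) rfl N15778 D18680
theorem N18647 : nd 18647 = n18681 := ndS (p := 15779) (l := 4) rfl N15779 D18681
theorem N18648 : nd 18648 = n18682 := ndS (p := 15784) (l := 5) rfl N15784 D18682
theorem N18649 : nd 18649 = n18683 := ndS (p := 15785) (l := 4) rfl N15785 D18683
theorem N18650 : nd 18650 = n18684 := ndS (p := 15786) (l := 3) rfl N15786 D18684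
theorem N18651 : nd 18651 = n18685 := ndS (p := 15789) (l := 4) rfl N15789 D18685
theorem N18652 : nd 18652 = n18686 := ndS (p := 15790) (l := 3) rfl N15790 D18686
theorem N18653 : nd 18653 = n18687 := ndS (p := 15791) (l := 2) rfl N15791 D18687
theorem N18654 : nd 18654 = n18688 := ndS (p := 15792) (l := 1) rfl N15792 D18688
theorem N18655 : nd 18655 = n18689 := ndS (p := 15792) (l := 3) rfl N15792 D18689
theorem N18656 : nd 18656 = n18690 := ndS (p := 15793) (l := 0) rfl N15793 D18690
theorem N18657 : nd 18657 = n18691 := ndS (p := 15795) (l := 1) rfl N15795 D18691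
theorem N18658 : nd 18658 = n18692 := ndS (p := 15795) (l := 3) rfl N15795 D18692
theorem N18659 : nd 18659 = n18693 := ndS (p := 15795) (l := 5) rfl N15795 D18693
theorem N18660 : nd 18660 = n18694 := ndS (p := 15796) (l := 4) rfl N15796 D18694
theorem N18661 : nd 18661 = n18695 := ndS (p := 15797) (l := 1) rfl N15797 D18695
theorem N18662 : nd 18662 = n18696 := ndS (p := 15797) (l := 3) rfl N15797 D18696
theorem N18663 : nd 18663 = n18697 := ndS (p := 15797) (l := 5) rfl N15797 D18697
theorem N18664 : nd 18664 = n18698 := ndS (p := 15798) (l := 4) rfl N15798 D18698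
theorem N18665 : nd 18665 = n18699 := ndS (p := 15799) (l := 3) rfl N15799 D18699
theorem N18666 : nd 18666 = n18700 := ndS (p := 15800) (l := 2) rfl N15800 D18700
theorem N18667 : nd 18667 = n18701 := ndS (p := 15801) (l := 0) rfl N15801 D18701
theorem N18668 : nd 18668 = n18702 := ndS (p := 15801) (l := 3) rfl N15801 D18702
theorem N18669 : nd 18669 = n18703 := ndS (p := 15801) (l := 5) rfl N15801 D18703
theorem N18670 : nd 18670 = n18704 := ndS (p := 15803) (l := 4) rfl N15803 D18704
theorem N18671 : nd 18671 = n18705 := ndS (p := 15804) (l := 3) rfl N15804 D18705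
theorem N18672 : nd 18672 = n18706 := ndS (p := 15805) (l := 2) rfl N15805 D18706
theorem N18673 : nd 18673 = n18707 := ndS (p := 15806) (l := 1) rfl N15806 D18707
theorem N18674 : nd 18674 = n18708 := ndS (p := 15806) (l := 3) rfl N15806 D18708
theorem N18675 : nd 18675 = n18709 := ndS (p := 15807) (l := 0) rfl N15807 D18709
theorem N18676 : nd 18676 = n18710 := ndS (p := 15807) (l := 3) rfl N15807 D18710
theorem N18677 : nd 18677 = n18711 := ndS (p := 15808) (l := 2) rfl N15808 D18711
theorem N18678 : nd 18678 = n18712 := ndS (p := 15808) (l := 4) rfl N15808 D18712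
theorem N18679 : nd 18679 = n18713 := ndS (p := 15809) (l := 3) rfl N15809 D18713
theorem N18680 : nd 18680 = n18714 := ndS (p := 15810) (l := 2) rfl N15810 D18714
theorem N18681 : nd 18681 = n18715 := ndS (p := 15810) (l := 4) rfl N15810 D18715
theorem N18682 : nd 18682 = n18716 := ndS (p := 15811) (l := 5) rfl N15811 D18716
theorem N18683 : nd 18683 = n18717 := ndS (p := 15812) (l := 1) rfl N15812 D18717
theorem N18684 : nd 18684 = n18718 := ndS (p := 15812) (l := 3) rfl N15812 D18718
theorem N18685 : nd 18685 = n18719 := ndS (p := 15813) (l := 2) rfl N15813 D18719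
theorem N18686 : nd 18686 = n18720 := ndS (p := 15813) (l := 4) rfl N15813 D18720
theorem N18687 : nd 18687 = n18721 := ndS (p := 15815) (l := 1) rfl N15815 D18721
theorem N18688 : nd 18688 = n18722 := ndS (p := 15816) (l := 1) rfl N15816 D18722
theorem N18689 : nd 18689 = n18723 := ndS (p := 15816) (l := 3) rfl N15816 D18723
theorem N18690 : nd 18690 = n18724 := ndS (p := 15816) (l := 5) rfl N15816 D18724
theorem N18691 : nd 18691 = n18725 := ndS (p := 15818) (l := 0) rfl N15818 D18725
theorem N18692 : nd 18692 = n18726 := ndS (p := 15819) (l := 3) rfl N15819 D18726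
theorem N18693 : nd 18693 = n18727 := ndS (p := 15820) (l := 2) rfl N15820 D18727
theorem N18694 : nd 18694 = n18728 := ndS (p := 15820) (l := 4) rfl N15820 D18728
theorem N18695 : nd 18695 = n18729 := ndS (p := 15821) (l := 5) rfl N15821 D18729
theorem N18696 : nd 18696 = n18730 := ndS (p := 15822) (l := 1) rfl N15822 D18730
theorem N18697 : nd 18697 = n18731 := ndS (p := 15822) (l := 3) rfl N15822 D18731
theorem N18698 : nd 18698 = n18732 := ndS (p := 15822) (l := 5) rfl N15822 D18732
theorem N18699 : nd 18699 = n18733 := ndS (p := 15823) (l := 4) rfl N15823 D18733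
theorem N18700 : nd 18700 = n18734 := ndS (p := 15824) (l := 0) rfl N15824 D18734
theorem N18701 : nd 18701 = n18735 := ndS (p := 15824) (l := 3) rfl N15824 D18735
theorem N18702 : nd 18702 = n18736 := ndS (p := 15825) (l := 2) rfl N15825 D18736
theorem N18703 : nd 18703 = n18737 := ndS (p := 15825) (l := 4) rfl N15825 D18737
theorem N18704 : nd 18704 = n18738 := ndS (p := 15825) (l := 5) rfl N15825 D18738
theorem N18705 : nd 18705 = n18739 := ndS (p := 15827) (l := 3) rfl N15827 D18739
theorem N18706 : nd 18706 = n18740 := ndS (p := 15827) (l := 5) rfl N15827 D18740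
theorem N18707 : nd 18707 = n18741 := ndS (p := 15828) (l := 4) rfl N15828 D18741
theorem N18708 : nd 18708 = n18742 := ndS (p := 15830) (l := 5) rfl N15830 D18742
theorem N18709 : nd 18709 = n18743 := ndS (p := 15831) (l := 2) rfl N15831 D18743
theorem N18710 : nd 18710 = n18744 := ndS (p := 15831) (l := 4) rfl N15831 D18744
theorem N18711 : nd 18711 = n18745 := ndS (p := 15832) (l := 1) rfl N15832 D18745
theorem N18712 : nd 18712 = n18746 := ndS (p := 15832) (l := 4) rfl N15832 D18746
theorem N18713 : nd 18713 = n18747 := ndS (p := 15833) (l := 5) rfl N15833 D18747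
theorem N18714 : nd 18714 = n18748 := ndS (p := 15834) (l := 0) rfl N15834 D18748
theorem N18715 : nd 18715 = n18749 := ndS (p := 15834) (l := 4) rfl N15834 D18749
theorem N18716 : nd 18716 = n18750 := ndS (p := 15835) (l := 5) rfl N15835 D18750
theorem N18717 : nd 18717 = n18751 := ndS (p := 15837) (l := 4) rfl N15837 D18751
theorem N18718 : nd 18718 = n18752 := ndS (p := 15838) (l := 3) rfl N15838 D18752
theorem N18719 : nd 18719 = n18753 := ndS (p := 15839) (l := 5) rfl N15839 D18753
theorem N18720 : nd 18720 = n18754 := ndS (p := 15841) (l := 3) rfl N15841 D18754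
theorem N18721 : nd 18721 = n18755 := ndS (p := 15843) (l := 4) rfl N15843 D18755
theorem N18722 : nd 18722 = n18756 := ndS (p := 15844) (l := 3) rfl N15844 D18756
theorem N18723 : nd 18723 = n18757 := ndS (p := 15845) (l := 3) rfl N15845 D18757
theorem N18724 : nd 18724 = n18758 := ndS (p := 15845) (l := 5) rfl N15845 D18758
theorem N18725 : nd 18725 = n18759 := ndS (p := 15846) (l := 2) rfl N15846 D18759
theorem N18726 : nd 18726 = n18760 := ndS (p := 15847) (l := 2) rfl N15847 D18760
theorem N18727 : nd 18727 = n18761 := ndS (p := 15847) (l := 4) rfl N15847 D18761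
theorem N18728 : nd 18728 = n18762 := ndS (p := 15847) (l := 5) rfl N15847 D18762
theorem N18729 : nd 18729 = n18763 := ndS (p := 15849) (l := 1) rfl N15849 D18763
theorem N18730 : nd 18730 = n18764 := ndS (p := 15849) (l := 3) rfl N15849 D18764
theorem N18731 : nd 18731 = n18765 := ndS (p := 15849) (l := 5) rfl N15849 D18765
theorem N18732 : nd 18732 = n18766 := ndS (p := 15850) (l := 4) rfl N15850 D18766
theorem N18733 : nd 18733 = n18767 := ndS (p := 15851) (l := 1) rfl N15851 D18767
theorem N18734 : nd 18734 = n18768 := ndS (p := 15851) (l := 3) rfl N15851 D18768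
theorem N18735 : nd 18735 = n18769 := ndS (p := 15851) (l := 5) rfl N15851 D18769
theorem N18736 : nd 18736 = n18770 := ndS (p := 15852) (l := 4) rfl N15852 D18770
theorem N18737 : nd 18737 = n18771 := ndS (p := 15853) (l := 0) rfl N15853 D18771
theorem N18738 : nd 18738 = n18772 := ndS (p := 15855) (l := 1) rfl N15855 D18772
theorem N18739 : nd 18739 = n18773 := ndS (p := 15855) (l := 3) rfl N15855 D18773
theorem N18740 : nd 18740 = n18774 := ndS (p := 15855) (l := 5) rfl N15855 D18774
theorem N18741 : nd 18741 = n18775 := ndS (p := 15856) (l := 4) rfl N15856 D18775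
theorem N18742 : nd 18742 = n18776 := ndS (p := 15857) (l := 0) rfl N15857 D18776
theorem N18743 : nd 18743 = n18777 := ndS (p := 15857) (l := 3) rfl N15857 D18777
theorem N18744 : nd 18744 = n18778 := ndS (p := 15858) (l := 2) rfl N15858 D18778
theorem N18745 : nd 18745 = n18779 := ndS (p := 15858) (l := 4) rfl N15858 D18779
theorem N18746 : nd 18746 = n18780 := ndS (p := 15858) (l := 5) rfl N15858 D18780
theorem N18747 : nd 18747 = n18781 := ndS (p := 15859) (l := 4) rfl N15859 D18781
theorem N18748 : nd 18748 = n18782 := ndS (p := 15861) (l := 3) rfl N15861 D18782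
theorem N18749 : nd 18749 = n18783 := ndS (p := 15861) (l := 5) rfl N15861 D18783
theorem N18750 : nd 18750 = n18784 := ndS (p := 15862) (l := 4) rfl N15862 D18784
theorem N18751 : nd 18751 = n18785 := ndS (p := 15863) (l := 4) rfl N15863 D18785
theorem N18752 : nd 18752 = n18786 := ndS (p := 15867) (l := 3) rfl N15867 D18786
theorem N18753 : nd 18753 = n18787 := ndS (p := 15867) (l := 5) rfl N15867 D18787
theorem N18754 : nd 18754 = n18788 := ndS (p := 15868) (l := 4) rfl N15868 D18788
theorem N18755 : nd 18755 = n18789 := ndS (p := 15869) (l := 3) rfl N15869 D18789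
theorem N18756 : nd 18756 = n18790 := ndS (p := 15870) (l := 2) rfl N15870 D18790
theorem N18757 : nd 18757 = n18791 := ndS (p := 15870) (l := 4) rfl N15870 D18791
theorem N18758 : nd 18758 = n18792 := ndS (p := 15870) (l := 5) rfl N15870 D18792
theorem N18759 : nd 18759 = n18793 := ndS (p := 15871) (l := 4) rfl N15871 D18793
theorem N18760 : nd 18760 = n18794 := ndS (p := 15872) (l := 3) rfl N15872 D18794
theorem N18761 : nd 18761 = n18795 := ndS (p := 15873) (l := 2) rfl N15873 D18795
theorem N18762 : nd 18762 = n18796 := ndS (p := 15874) (l := 3) rfl N15874 D18796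
theorem N18763 : nd 18763 = n18797 := ndS (p := 15876) (l := 2) rfl N15876 D18797
theorem N18764 : nd 18764 = n18798 := ndS (p := 15878) (l := 4) rfl N15878 D18798
theorem N18765 : nd 18765 = n18799 := ndS (p := 15880) (l := 4) rfl N15880 D18799
theorem N18766 : nd 18766 = n18800 := ndS (p := 15882) (l := 4) rfl N15882 D18800
theorem N18767 : nd 18767 = n18801 := ndS (p := 15883) (l := 3) rfl N15883 D18801
theorem N18768 : nd 18768 = n18802 := ndS (p := 15884) (l := 2) rfl N15884 D18802
theorem N18769 : nd 18769 = n18803 := ndS (p := 15886) (l := 2) rfl N15886 D18803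
theorem N18770 : nd 18770 = n18804 := ndS (p := 15886) (l := 4) rfl N15886 D18804
theorem N18771 : nd 18771 = n18805 := ndS (p := 15887) (l := 4) rfl N15887 D18805
theorem N18772 : nd 18772 = n18806 := ndS (p := 15888) (l := 3) rfl N15888 D18806
theorem N18773 : nd 18773 = n18807 := ndS (p := 15892) (l := 1) rfl N15892 D18807
theorem N18774 : nd 18774 = n18808 := ndS (p := 15894) (l := 4) rfl N15894 D18808
theorem N18775 : nd 18775 = n18809 := ndS (p := 15898) (l := 0) rfl N15898 D18809
theorem N18776 : nd 18776 = n18810 := ndS (p := 15898) (l := 3) rfl N15898 D18810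
theorem N18777 : nd 18777 = n18811 := ndS (p := 15899) (l := 4) rfl N15899 D18811
theorem N18778 : nd 18778 = n18812 := ndS (p := 15900) (l := 4) rfl N15900 D18812
theorem N18779 : nd 18779 = n18813 := ndS (p := 15903) (l := 2) rfl N15903 D18813
theorem N18780 : nd 18780 = n18814 := ndS (p := 15903) (l := 5) rfl N15903 D18814
theorem N18781 : nd 18781 = n18815 := ndS (p := 15905) (l := 1) rfl N15905 D18815
theorem N18782 : nd 18782 = n18816 := ndS (p := 15905) (l := 4) rfl N15905 D18816
theorem N18783 : nd 18783 = n18817 := ndS (p := 15906) (l := 5) rfl N15906 D18817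
theorem N18784 : nd 18784 = n18818 := ndS (p := 15907) (l := 4) rfl N15907 D18818
theorem N18785 : nd 18785 = n18819 := ndS (p := 15916) (l := 0) rfl N15916 D18819
theorem N18786 : nd 18786 = n18820 := ndS (p := 15916) (l := 3) rfl N15916 D18820
theorem N18787 : nd 18787 = n18821 := ndS (p := 15917) (l := 4) rfl N15917 D18821
theorem N18788 : nd 18788 = n18822 := ndS (p := 15918) (l := 5) rfl N15918 D18822
theorem N18789 : nd 18789 = n18823 := ndS (p := 15919) (l := 4) rfl N15919 D18823
theorem N18790 : nd 18790 = n18824 := ndS (p := 15920) (l := 4) rfl N15920 D18824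
theorem N18791 : nd 18791 = n18825 := ndS (p := 15922) (l := 4) rfl N15922 D18825
theorem N18792 : nd 18792 = n18826 := ndS (p := 15923) (l := 3) rfl N15923 D18826
theorem N18793 : nd 18793 = n18827 := ndS (p := 15923) (l := 5) rfl N15923 D18827
theorem N18794 : nd 18794 = n18828 := ndS (p := 15924) (l := 1) rfl N15924 D18828
theorem N18795 : nd 18795 = n18829 := ndS (p := 15924) (l := 4) rfl N15924 D18829
theorem N18796 : nd 18796 = n18830 := ndS (p := 15925) (l := 3) rfl N15925 D18830
theorem N18797 : nd 18797 = n18831 := ndS (p := 15925) (l := 5) rfl N15925 D18831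
theorem N18798 : nd 18798 = n18832 := ndS (p := 15926) (l := 2) rfl N15926 D18832
theorem N18799 : nd 18799 = n18833 := ndS (p := 15926) (l := 5) rfl N15926 D18833
theorem N18800 : nd 18800 = n18834 := ndS (p := 15929) (l := 1) rfl N15929 D18834
theorem N18801 : nd 18801 = n18835 := ndS (p := 15931) (l := 0) rfl N15931 D18835
theorem N18802 : nd 18802 = n18836 := ndS (p := 15932) (l := 5) rfl N15932 D18836
theorem N18803 : nd 18803 = n18837 := ndS (p := 15934) (l := 3) rfl N15934 D18837
theorem N18804 : nd 18804 = n18838 := ndS (p := 15934) (l := 5) rfl N15934 D18838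
theorem N18805 : nd 18805 = n18839 := ndS (p := 15935) (l := 4) rfl N15935 D18839
theorem N18806 : nd 18806 = n18840 := ndS (p := 15940) (l := 3) rfl N15940 D18840
theorem N18807 : nd 18807 = n18841 := ndS (p := 15943) (l := 3) rfl N15943 D18841
theorem N18808 : nd 18808 = n18842 := ndS (p := 15944) (l := 4) rfl N15944 D18842
theorem N18809 : nd 18809 = n18843 := ndS (p := 15946) (l := 5) rfl N15946 D18843
theorem N18810 : nd 18810 = n18844 := ndS (p := 15947) (l := 4) rfl N15947 D18844
theorem N18811 : nd 18811 = n18845 := ndS (p := 15948) (l := 1) rfl N15948 D18845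
theorem N18812 : nd 18812 = n18846 := ndS (p := 15948) (l := 4) rfl N15948 D18846
theorem N18813 : nd 18813 = n18847 := ndS (p := 15949) (l := 5) rfl N15949 D18847
theorem N18814 : nd 18814 = n18848 := ndS (p := 15951) (l := 5) rfl N15951 D18848
theorem N18815 : nd 18815 = n18849 := ndS (p := 15952) (l := 4) rfl N15952 D18849
theorem N18816 : nd 18816 = n18850 := ndS (p := 15954) (l := 2) rfl N15954 D18850
theorem N18817 : nd 18817 = n18851 := ndS (p := 15954) (l := 5) rfl N15954 D18851
theorem N18818 : nd 18818 = n18852 := ndS (p := 15956) (l := 1) rfl N15956 D18852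
theorem N18819 : nd 18819 = n18853 := ndS (p := 15956) (l := 3) rfl N15956 D18853
theorem N18820 : nd 18820 = n18854 := ndS (p := 15957) (l := 2) rfl N15957 D18854
theorem N18821 : nd 18821 = n18855 := ndS (p := 15957) (l := 5) rfl N15957 D18855
theorem N18822 : nd 18822 = n18856 := ndS (p := 15959) (l := 4) rfl N15959 D18856
theorem N18823 : nd 18823 = n18857 := ndS (p := 15960) (l := 3) rfl N15960 D18857
theorem N18824 : nd 18824 = n18858 := ndS (p := 15961) (l := 3) rfl N15961 D18858
theorem N18825 : nd 18825 = n18859 := ndS (p := 15961) (l := 5) rfl N15961 D18859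
theorem N18826 : nd 18826 = n18860 := ndS (p := 15962) (l := 2) rfl N15962 D18860
theorem N18827 : nd 18827 = n18861 := ndS (p := 15963) (l := 4) rfl N15963 D18861
theorem N18828 : nd 18828 = n18862 := ndS (p := 15964) (l := 3) rfl N15964 D18862
theorem N18829 : nd 18829 = n18863 := ndS (p := 15964) (l := 5) rfl N15964 D18863
theorem N18830 : nd 18830 = n18864 := ndS (p := 15965) (l := 2) rfl N15965 D18864
theorem N18831 : nd 18831 = n18865 := ndS (p := 15965) (l := 5) rfl N15965 D18865
theorem N18832 : nd 18832 = n18866 := ndS (p := 15967) (l := 1) rfl N15967 D18866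
theorem N18833 : nd 18833 = n18867 := ndS (p := 15967) (l := 3) rfl N15967 D18867
theorem N18834 : nd 18834 = n18868 := ndS (p := 15968) (l := 1) rfl N15968 D18868
theorem N18835 : nd 18835 = n18869 := ndS (p := 15969) (l := 4) rfl N15969 D18869
theorem N18836 : nd 18836 = n18870 := ndS (p := 15971) (l := 4) rfl N15971 D18870
theorem N18837 : nd 18837 = n18871 := ndS (p := 15972) (l := 5) rfl N15972 D18871
theorem N18838 : nd 18838 = n18872 := ndS (p := 15974) (l := 4) rfl N15974 D18872
theorem N18839 : nd 18839 = n18873 := ndS (p := 15980) (l := 4) rfl N15980 D18873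
theorem N18840 : nd 18840 = n18874 := ndS (p := 15982) (l := 3) rfl N15982 D18874
theorem N18841 : nd 18841 = n18875 := ndS (p := 15982) (l := 5) rfl N15982 D18875
theorem N18842 : nd 18842 = n18876 := ndS (p := 15986) (l := 2) rfl N15986 D18876
theorem N18843 : nd 18843 = n18877 := ndS (p := 15987) (l := 1) rfl N15987 D18877
theorem N18844 : nd 18844 = n18878 := ndS (p := 15987) (l := 3) rfl N15987 D18878
theorem N18845 : nd 18845 = n18879 := ndS (p := 15988) (l := 1) rfl N15988 D18879
theorem N18846 : nd 18846 = n18880 := ndS (p := 15989) (l := 0) rfl N15989 D18880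
theorem N18847 : nd 18847 = n18881 := ndS (p := 15990) (l := 4) rfl N15990 D18881
theorem N18848 : nd 18848 = n18882 := ndS (p := 15991) (l := 5) rfl N15991 D18882
theorem N18849 : nd 18849 = n18883 := ndS (p := 15992) (l := 1) rfl N15992 D18883
theorem N18850 : nd 18850 = n18884 := ndS (p := 15992) (l := 3) rfl N15992 D18884
theorem N18851 : nd 18851 = n18885 := ndS (p := 15996) (l := 4) rfl N15996 D18885
theorem N18852 : nd 18852 = n18886 := ndS (p := 15997) (l := 3) rfl N15997 D18886
theorem N18853 : nd 18853 = n18887 := ndS (p := 15998) (l := 3) rfl N15998 D18887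
theorem N18854 : nd 18854 = n18888 := ndS (p := 15998) (l := 5) rfl N15998 D18888
theorem N18855 : nd 18855 = n18889 := ndS (p := 15999) (l := 2) rfl N15999 D18889
theorem N18856 : nd 18856 = n18890 := ndS (p := 16000) (l := 3) rfl N16000 D18890
theorem N18857 : nd 18857 = n18891 := ndS (p := 16001) (l := 5) rfl N16001 D18891
theorem N18858 : nd 18858 = n18892 := ndS (p := 16004) (l := 2) rfl N16004 D18892
theorem N18859 : nd 18859 = n18893 := ndS (p := 16005) (l := 2) rfl N16005 D18893
theorem N18860 : nd 18860 = n18894 := ndS (p := 16005) (l := 5) rfl N16005 D18894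
theorem N18861 : nd 18861 = n18895 := ndS (p := 16007) (l := 1) rfl N16007 D18895
theorem N18862 : nd 18862 = n18896 := ndS (p := 16007) (l := 3) rfl N16007 D18896
theorem N18863 : nd 18863 = n18897 := ndS (p := 16008) (l := 5) rfl N16008 D18897
theorem N18864 : nd 18864 = n18898 := ndS (p := 16009) (l := 5) rfl N16009 D18898
theorem N18865 : nd 18865 = n18899 := ndS (p := 16011) (l := 5) rfl N16011 D18899
theorem N18866 : nd 18866 = n18900 := ndS (p := 16013) (l := 3) rfl N16013 D18900
theorem N18867 : nd 18867 = n18901 := ndS (p := 16014) (l := 2) rfl N16014 D18901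
theorem N18868 : nd 18868 = n18902 := ndS (p := 16016) (l := 1) rfl N16016 D18902
theorem N18869 : nd 18869 = n18903 := ndS (p := 16017) (l := 1) rfl N16017 D18903
theorem N18870 : nd 18870 = n18904 := ndS (p := 16017) (l := 3) rfl N16017 D18904
theorem N18871 : nd 18871 = n18905 := ndS (p := 16018) (l := 2) rfl N16018 D18905
theorem N18872 : nd 18872 = n18906 := ndS (p := 16018) (l := 4) rfl N16018 D18906
theorem N18873 : nd 18873 = n18907 := ndS (p := 16020) (l := 3) rfl N16020 D18907
theorem N18874 : nd 18874 = n18908 := ndS (p := 16021) (l := 2) rfl N16021 D18908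
theorem N18875 : nd 18875 = n18909 := ndS (p := 16021) (l := 4) rfl N16021 D18909
theorem N18876 : nd 18876 = n18910 := ndS (p := 16022) (l := 5) rfl N16022 D18910
theorem N18877 : nd 18877 = n18911 := ndS (p := 16023) (l := 0) rfl N16023 D18911
theorem N18878 : nd 18878 = n18912 := ndS (p := 16024) (l := 3) rfl N16024 D18912
theorem N18879 : nd 18879 = n18913 := ndS (p := 16024) (l := 5) rfl N16024 D18913
theorem N18880 : nd 18880 = n18914 := ndS (p := 16028) (l := 4) rfl N16028 D18914
theorem N18881 : nd 18881 = n18915 := ndS (p := 16029) (l := 4) rfl N16029 D18915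
theorem N18882 : nd 18882 = n18916 := ndS (p := 16033) (l := 0) rfl N16033 D18916
theorem N18883 : nd 18883 = n18917 := ndS (p := 16033) (l := 3) rfl N16033 D18917
theorem N18884 : nd 18884 = n18918 := ndS (p := 16033) (l := 5) rfl N16033 D18918
theorem N18885 : nd 18885 = n18919 := ndS (p := 16035) (l := 4) rfl N16035 D18919
theorem N18886 : nd 18886 = n18920 := ndS (p := 16037) (l := 0) rfl N16037 D18920
theorem N18887 : nd 18887 = n18921 := ndS (p := 16038) (l := 3) rfl N16038 D18921
theorem N18888 : nd 18888 = n18922 := ndS (p := 16039) (l := 2) rfl N16039 D18922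
theorem N18889 : nd 18889 = n18923 := ndS (p := 16039) (l := 4) rfl N16039 D18923
theorem N18890 : nd 18890 = n18924 := ndS (p := 16040) (l := 5) rfl N16040 D18924
theorem N18891 : nd 18891 = n18925 := ndS (p := 16043) (l := 2) rfl N16043 D18925
theorem N18892 : nd 18892 = n18926 := ndS (p := 16046) (l := 2) rfl N16046 D18926
theorem N18893 : nd 18893 = n18927 := ndS (p := 16047) (l := 1) rfl N16047 D18927
theorem N18894 : nd 18894 = n18928 := ndS (p := 16047) (l := 3) rfl N16047 D18928
theorem N18895 : nd 18895 = n18929 := ndS (p := 16047) (l := 5) rfl N16047 D18929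
theorem N18896 : nd 18896 = n18930 := ndS (p := 16048) (l := 4) rfl N16048 D18930
theorem N18897 : nd 18897 = n18931 := ndS (p := 16049) (l := 3) rfl N16049 D18931
theorem N18898 : nd 18898 = n18932 := ndS (p := 16050) (l := 4) rfl N16050 D18932
theorem N18899 : nd 18899 = n18933 := ndS (p := 16053) (l := 5) rfl N16053 D18933
theorem N18900 : nd 18900 = n18934 := ndS (p := 16057) (l := 1) rfl N16057 D18934
theorem N18901 : nd 18901 = n18935 := ndS (p := 16057) (l := 3) rfl N16057 D18935
theorem N18902 : nd 18902 = n18936 := ndS (p := 16057) (l := 5) rfl N16057 D18936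
theorem N18903 : nd 18903 = n18937 := ndS (p := 16058) (l := 4) rfl N16058 D18937
theorem N18904 : nd 18904 = n18938 := ndS (p := 16059) (l := 3) rfl N16059 D18938
theorem N18905 : nd 18905 = n18939 := ndS (p := 16059) (l := 5) rfl N16059 D18939
theorem N18906 : nd 18906 = n18940 := ndS (p := 16060) (l := 4) rfl N16060 D18940
theorem N18907 : nd 18907 = n18941 := ndS (p := 16061) (l := 4) rfl N16061 D18941
theorem N18908 : nd 18908 = n18942 := ndS (p := 16063) (l := 2) rfl N16063 D18942
theorem N18909 : nd 18909 = n18943 := ndS (p := 16065) (l := 5) rfl N16065 D18943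
theorem N18910 : nd 18910 = n18944 := ndS (p := 16069) (l := 1) rfl N16069 D18944
theorem N18911 : nd 18911 = n18945 := ndS (p := 16069) (l := 3) rfl N16069 D18945
theorem N18912 : nd 18912 = n18946 := ndS (p := 16069) (l := 5) rfl N16069 D18946
theorem N18913 : nd 18913 = n18947 := ndS (p := 16070) (l := 4) rfl N16070 D18947
theorem N18914 : nd 18914 = n18948 := ndS (p := 16071) (l := 1) rfl N16071 D18948
theorem N18915 : nd 18915 = n18949 := ndS (p := 16071) (l := 3) rfl N16071 D18949
theorem N18916 : nd 18916 = n18950 := ndS (p := 16071) (l := 5) rfl N16071 D18950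
theorem N18917 : nd 18917 = n18951 := ndS (p := 16072) (l := 4) rfl N16072 D18951
theorem N18918 : nd 18918 = n18952 := ndS (p := 16073) (l := 0) rfl N16073 D18952
theorem N18919 : nd 18919 = n18953 := ndS (p := 16073) (l := 3) rfl N16073 D18953
theorem N18920 : nd 18920 = n18954 := ndS (p := 16074) (l := 2) rfl N16074 D18954
theorem N18921 : nd 18921 = n18955 := ndS (p := 16074) (l := 4) rfl N16074 D18955
theorem N18922 : nd 18922 = n18956 := ndS (p := 16074) (l := 5) rfl N16074 D18956
theorem N18923 : nd 18923 = n18957 := ndS (p := 16075) (l := 4) rfl N16075 D18957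
theorem N18924 : nd 18924 = n18958 := ndS (p := 16077) (l := 5) rfl N16077 D18958
theorem N18925 : nd 18925 = n18959 := ndS (p := 16079) (l := 5) rfl N16079 D18959
theorem N18926 : nd 18926 = n18960 := ndS (p := 16080) (l := 4) rfl N16080 D18960
theorem N18927 : nd 18927 = n18961 := ndS (p := 16081) (l := 3) rfl N16081 D18961
theorem N18928 : nd 18928 = n18962 := ndS (p := 16081) (l := 5) rfl N16081 D18962
theorem N18929 : nd 18929 = n18963 := ndS (p := 16082) (l := 2) rfl N16082 D18963
theorem N18930 : nd 18930 = n18964 := ndS (p := 16082) (l := 5) rfl N16082 D18964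
theorem N18931 : nd 18931 = n18965 := ndS (p := 16086) (l := 0) rfl N16086 D18965
theorem N18932 : nd 18932 = n18966 := ndS (p := 16086) (l := 3) rfl N16086 D18966
theorem N18933 : nd 18933 = n18967 := ndS (p := 16086) (l := 5) rfl N16086 D18967
theorem N18934 : nd 18934 = n18968 := ndS (p := 16087) (l := 4) rfl N16087 D18968
theorem N18935 : nd 18935 = n18969 := ndS (p := 16089) (l := 3) rfl N16089 D18969
theorem N18936 : nd 18936 = n18970 := ndS (p := 16090) (l := 4) rfl N16090 D18970
theorem N18937 : nd 18937 = n18971 := ndS (p := 16091) (l := 1) rfl N16091 D18971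
theorem N18938 : nd 18938 = n18972 := ndS (p := 16091) (l := 4) rfl N16091 D18972
theorem N18939 : nd 18939 = n18973 := ndS (p := 16092) (l := 5) rfl N16092 D18973
theorem N18940 : nd 18940 = n18974 := ndS (p := 16093) (l := 4) rfl N16093 D18974
theorem N18941 : nd 18941 = n18975 := ndS (p := 16094) (l := 2) rfl N16094 D18975
theorem N18942 : nd 18942 = n18976 := ndS (p := 16094) (l := 5) rfl N16094 D18976
theorem N18943 : nd 18943 = n18977 := ndS (p := 16096) (l := 1) rfl N16096 D18977
theorem N18944 : nd 18944 = n18978 := ndS (p := 16097) (l := 4) rfl N16097 D18978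
theorem N18945 : nd 18945 = n18979 := ndS (p := 16099) (l := 1) rfl N16099 D18979
theorem N18946 : nd 18946 = n18980 := ndS (p := 16099) (l := 3) rfl N16099 D18980
theorem N18947 : nd 18947 = n18981 := ndS (p := 16099) (l := 5) rfl N16099 D18981
theorem N18948 : nd 18948 = n18982 := ndS (p := 16100) (l := 4) rfl N16100 D18982
theorem N18949 : nd 18949 = n18983 := ndS (p := 16102) (l := 4) rfl N16102 D18983
theorem N18950 : nd 18950 = n18984 := ndS (p := 16103) (l := 4) rfl N16103 D18984
theorem N18951 : nd 18951 = n18985 := ndS (p := 16105) (l := 5) rfl N16105 D18985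
theorem N18952 : nd 18952 = n18986 := ndS (p := 16106) (l := 4) rfl N16106 D18986
theorem N18953 : nd 18953 = n18987 := ndS (p := 16108) (l := 3) rfl N16108 D18987
theorem N18954 : nd 18954 = n18988 := ndS (p := 16109) (l := 2) rfl N16109 D18988
theorem N18955 : nd 18955 = n18989 := ndS (p := 16109) (l := 4) rfl N16109 D18989
theorem N18956 : nd 18956 = n18990 := ndS (p := 16110) (l := 5) rfl N16110 D18990
theorem N18957 : nd 18957 = n18991 := ndS (p := 16111) (l := 3) rfl N16111 D18991
theorem N18958 : nd 18958 = n18992 := ndS (p := 16111) (l := 5) rfl N16111 D18992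
theorem N18959 : nd 18959 = n18993 := ndS (p := 16112) (l := 4) rfl N16112 D18993
theorem N18960 : nd 18960 = n18994 := ndS (p := 16113) (l := 4) rfl N16113 D18994
theorem N18961 : nd 18961 = n18995 := ndS (p := 16115) (l := 2) rfl N16115 D18995
theorem N18962 : nd 18962 = n18996 := ndS (p := 16115) (l := 4) rfl N16115 D18996
theorem N18963 : nd 18963 = n18997 := ndS (p := 16116) (l := 4) rfl N16116 D18997
theorem N18964 : nd 18964 = n18998 := ndS (p := 16117) (l := 5) rfl N16117 D18998
theorem N18965 : nd 18965 = n18999 := ndS (p := 16118) (l := 3) rfl N16118 D18999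
theorem N18966 : nd 18966 = n19000 := ndS (p := 16119) (l := 4) rfl N16119 D19000
theorem N18967 : nd 18967 = n19001 := ndS (p := 16120) (l := 1) rfl N16120 D19001
theorem N18968 : nd 18968 = n19002 := ndS (p := 16120) (l := 4) rfl N16120 D19002
theorem N18969 : nd 18969 = n19003 := ndS (p := 16121) (l := 5) rfl N16121 D19003
theorem N18970 : nd 18970 = n19004 := ndS (p := 16122) (l := 0) rfl N16122 D19004
theorem N18971 : nd 18971 = n19005 := ndS (p := 16122) (l := 4) rfl N16122 D19005
theorem N18972 : nd 18972 = n19006 := ndS (p := 16123) (l := 5) rfl N16123 D19006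
theorem N18973 : nd 18973 = n19007 := ndS (p := 16125) (l := 1) rfl N16125 D19007
theorem N18974 : nd 18974 = n19008 := ndS (p := 16125) (l := 3) rfl N16125 D19008
theorem N18975 : nd 18975 = n19009 := ndS (p := 16125) (l := 5) rfl N16125 D19009
theorem N18976 : nd 18976 = n19010 := ndS (p := 16126) (l := 4) rfl N16126 D19010
theorem N18977 : nd 18977 = n19011 := ndS (p := 16127) (l := 1) rfl N16127 D19011
theorem N18978 : nd 18978 = n19012 := ndS (p := 16127) (l := 3) rfl N16127 D19012
theorem N18979 : nd 18979 = n19013 := ndS (p := 16127) (l := 5) rfl N16127 D19013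
theorem N18980 : nd 18980 = n19014 := ndS (p := 16128) (l := 4) rfl N16128 D19014
theorem N18981 : nd 18981 = n19015 := ndS (p := 16129) (l := 0) rfl N16129 D19015
theorem N18982 : nd 18982 = n19016 := ndS (p := 16132) (l := 1) rfl N16132 D19016
theorem N18983 : nd 18983 = n19017 := ndS (p := 16132) (l := 3) rfl N16132 D19017
theorem N18984 : nd 18984 = n19018 := ndS (p := 16132) (l := 5) rfl N16132 D19018
theorem N18985 : nd 18985 = n19019 := ndS (p := 16133) (l := 4) rfl N16133 D19019
theorem N18986 : nd 18986 = n19020 := ndS (p := 16134) (l := 0) rfl N16134 D19020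
theorem N18987 : nd 18987 = n19021 := ndS (p := 16134) (l := 3) rfl N16134 D19021
theorem N18988 : nd 18988 = n19022 := ndS (p := 16134) (l := 5) rfl N16134 D19022
theorem N18989 : nd 18989 = n19023 := ndS (p := 16135) (l := 2) rfl N16135 D19023
theorem N18990 : nd 18990 = n19024 := ndS (p := 16135) (l := 4) rfl N16135 D19024
theorem N18991 : nd 18991 = n19025 := ndS (p := 16135) (l := 5) rfl N16135 D19025
theorem N18992 : nd 18992 = n19026 := ndS (p := 16136) (l := 4) rfl N16136 D19026
theorem N18993 : nd 18993 = n19027 := ndS (p := 16138) (l := 3) rfl N16138 D19027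
theorem N18994 : nd 18994 = n19028 := ndS (p := 16138) (l := 5) rfl N16138 D19028
theorem N18995 : nd 18995 = n19029 := ndS (p := 16139) (l := 2) rfl N16139 D19029
theorem N18996 : nd 18996 = n19030 := ndS (p := 16139) (l := 4) rfl N16139 D19030
theorem N18997 : nd 18997 = n19031 := ndS (p := 16141) (l := 5) rfl N16141 D19031
theorem N18998 : nd 18998 = n19032 := ndS (p := 16143) (l := 2) rfl N16143 D19032
theorem N18999 : nd 18999 = n19033 := ndS (p := 16144) (l := 3) rfl N16144 D19033
theorem N19000 : nd 19000 = n19034 := ndS (p := 16144) (l := 4) rfl N16144 D19034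
theorem N19001 : nd 19001 = n19035 := ndS (p := 16145) (l := 5) rfl N16145 D19035
theorem N19002 : nd 19002 = n19036 := ndS (p := 16156) (l := 2) rfl N16156 D19036
theorem N19003 : nd 19003 = n19037 := ndS (p := 16156) (l := 4) rfl N16156 D19037
theorem N19004 : nd 19004 = n19038 := ndS (p := 16157) (l := 3) rfl N16157 D19038
theorem N19005 : nd 19005 = n19039 := ndS (p := 16157) (l := 4) rfl N16157 D19039
theorem N19006 : nd 19006 = n19040 := ndS (p := 16158) (l := 5) rfl N16158 D19040
theorem N19007 : nd 19007 = n19041 := ndS (p := 16161) (l := 4) rfl N16161 D19041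
theorem N19008 : nd 19008 = n19042 := ndS (p := 16163) (l := 4) rfl N16163 D19042
theorem N19009 : nd 19009 = n19043 := ndS (p := 16164) (l := 4) rfl N16164 D19043
theorem N19010 : nd 19010 = n19044 := ndS (p := 16167) (l := 2) rfl N16167 D19044
theorem N19011 : nd 19011 = n19045 := ndS (p := 16167) (l := 4) rfl N16167 D19045
theorem N19012 : nd 19012 = n19046 := ndS (p := 16167) (l := 5) rfl N16167 D19046
theorem N19013 : nd 19013 = n19047 := ndS (p := 16168) (l := 4) rfl N16168 D19047
theorem N19014 : nd 19014 = n19048 := ndS (p := 16169) (l := 1) rfl N16169 D19048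
theorem N19015 : nd 19015 = n19049 := ndS (p := 16169) (l := 4) rfl N16169 D19049
theorem N19016 : nd 19016 = n19050 := ndS (p := 16170) (l := 5) rfl N16170 D19050
theorem N19017 : nd 19017 = n19051 := ndS (p := 16171) (l := 4) rfl N16171 D19051
theorem N19018 : nd 19018 = n19052 := ndS (p := 16172) (l := 3) rfl N16172 D19052
theorem N19019 : nd 19019 = n19053 := ndS (p := 16173) (l := 2) rfl N16173 D19053
theorem N19020 : nd 19020 = n19054 := ndS (p := 16173) (l := 4) rfl N16173 D19054
theorem N19021 : nd 19021 = n19055 := ndS (p := 16174) (l := 4) rfl N16174 D19055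
theorem N19022 : nd 19022 = n19056 := ndS (p := 16175) (l := 4) rfl N16175 D19056
theorem N19023 : nd 19023 = n19057 := ndS (p := 16176) (l := 5) rfl N16176 D19057
theorem N19024 : nd 19024 = n19058 := ndS (p := 16177) (l := 3) rfl N16177 D19058
theorem N19025 : nd 19025 = n19059 := ndS (p := 16179) (l := 2) rfl N16179 D19059
theorem N19026 : nd 19026 = n19060 := ndS (p := 16180) (l := 1) rfl N16180 D19060
theorem N19027 : nd 19027 = n19061 := ndS (p := 16180) (l := 4) rfl N16180 D19061
theorem N19028 : nd 19028 = n19062 := ndS (p := 16181) (l := 5) rfl N16181 D19062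
theorem N19029 : nd 19029 = n19063 := ndS (p := 16182) (l := 0) rfl N16182 D19063
theorem N19030 : nd 19030 = n19064 := ndS (p := 16182) (l := 3) rfl N16182 D19064
theorem N19031 : nd 19031 = n19065 := ndS (p := 16182) (l := 4) rfl N16182 D19065
theorem N19032 : nd 19032 = n19066 := ndS (p := 16183) (l := 4) rfl N16183 D19066
theorem N19033 : nd 19033 = n19067 := ndS (p := 16184) (l := 3) rfl N16184 D19067
theorem N19034 : nd 19034 = n19068 := ndS (p := 16184) (l := 5) rfl N16184 D19068
theorem N19035 : nd 19035 = n19069 := ndS (p := 16186) (l := 4) rfl N16186 D19069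
theorem N19036 : nd 19036 = n19070 := ndS (p := 16187) (l := 3) rfl N16187 D19070
theorem N19037 : nd 19037 = n19071 := ndS (p := 16187) (l := 5) rfl N16187 D19071
theorem N19038 : nd 19038 = n19072 := ndS (p := 16188) (l := 2) rfl N16188 D19072
theorem N19039 : nd 19039 = n19073 := ndS (p := 16188) (l := 5) rfl N16188 D19073
theorem N19040 : nd 19040 = n19074 := ndS (p := 16190) (l := 3) rfl N16190 D19074
theorem N19041 : nd 19041 = n19075 := ndS (p := 16191) (l := 4) rfl N16191 D19075
theorem N19042 : nd 19042 = n19076 := ndS (p := 16192) (l := 1) rfl N16192 D19076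
theorem N19043 : nd 19043 = n19077 := ndS (p := 16192) (l := 4) rfl N16192 D19077
theorem N19044 : nd 19044 = n19078 := ndS (p := 16193) (l := 5) rfl N16193 D19078
theorem N19045 : nd 19045 = n19079 := ndS (p := 16204) (l := 2) rfl N16204 D19079
theorem N19046 : nd 19046 = n19080 := ndS (p := 16207) (l := 3) rfl N16207 D19080
theorem N19047 : nd 19047 = n19081 := ndS (p := 16208) (l := 0) rfl N16208 D19081
theorem N19048 : nd 19048 = n19082 := ndS (p := 16208) (l := 3) rfl N16208 D19082
theorem N19049 : nd 19049 = n19083 := ndS (p := 16209) (l := 4) rfl N16209 D19083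
theorem N19050 : nd 19050 = n19084 := ndS (p := 16212) (l := 0) rfl N16212 D19084
theorem N19051 : nd 19051 = n19085 := ndS (p := 16213) (l := 2) rfl N16213 D19085
theorem N19052 : nd 19052 = n19086 := ndS (p := 16213) (l := 4) rfl N16213 D19086
theorem N19053 : nd 19053 = n19087 := ndS (p := 16216) (l := 3) rfl N16216 D19087
theorem N19054 : nd 19054 = n19088 := ndS (p := 16216) (l := 5) rfl N16216 D19088
theorem N19055 : nd 19055 = n19089 := ndS (p := 16217) (l := 2) rfl N16217 D19089
theorem N19056 : nd 19056 = n19090 := ndS (p := 16217) (l := 4) rfl N16217 D19090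
theorem N19057 : nd 19057 = n19091 := ndS (p := 16217) (l := 5) rfl N16217 D19091
theorem N19058 : nd 19058 = n19092 := ndS (p := 16219) (l := 1) rfl N16219 D19092
theorem N19059 : nd 19059 = n19093 := ndS (p := 16219) (l := 4) rfl N16219 D19093
theorem N19060 : nd 19060 = n19094 := ndS (p := 16220) (l := 5) rfl N16220 D19094
theorem N19061 : nd 19061 = n19095 := ndS (p := 16221) (l := 4) rfl N16221 D19095
theorem N19062 : nd 19062 = n19096 := ndS (p := 16224) (l := 2) rfl N16224 D19096
theorem N19063 : nd 19063 = n19097 := ndS (p := 16224) (l := 4) rfl N16224 D19097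
theorem N19064 : nd 19064 = n19098 := ndS (p := 16226) (l := 4) rfl N16226 D19098
theorem N19065 : nd 19065 = n19099 := ndS (p := 16230) (l := 2) rfl N16230 D19099
theorem N19066 : nd 19066 = n19100 := ndS (p := 16230) (l := 4) rfl N16230 D19100
theorem N19067 : nd 19067 = n19101 := ndS (p := 16231) (l := 4) rfl N16231 D19101
theorem N19068 : nd 19068 = n19102 := ndS (p := 16232) (l := 5) rfl N16232 D19102
theorem N19069 : nd 19069 = n19103 := ndS (p := 16233) (l := 3) rfl N16233 D19103
theorem N19070 : nd 19070 = n19104 := ndS (p := 16234) (l := 5) rfl N16234 D19104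
theorem N19071 : nd 19071 = n19105 := ndS (p := 16235) (l := 0) rfl N16235 D19105
theorem N19072 : nd 19072 = n19106 := ndS (p := 16235) (l := 4) rfl N16235 D19106
theorem N19073 : nd 19073 = n19107 := ndS (p := 16236) (l := 3) rfl N16236 D19107
theorem N19074 : nd 19074 = n19108 := ndS (p := 16236) (l := 5) rfl N16236 D19108
theorem N19075 : nd 19075 = n19109 := ndS (p := 16237) (l := 4) rfl N16237 D19109
theorem N19076 : nd 19076 = n19110 := ndS (p := 16238) (l := 3) rfl N16238 D19110
theorem N19077 : nd 19077 = n19111 := ndS (p := 16239) (l := 2) rfl N16239 D19111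
theorem N19078 : nd 19078 = n19112 := ndS (p := 16240) (l := 3) rfl N16240 D19112
theorem N19079 : nd 19079 = n19113 := ndS (p := 16241) (l := 2) rfl N16241 D19113
theorem N19080 : nd 19080 = n19114 := ndS (p := 16241) (l := 4) rfl N16241 D19114
theorem N19081 : nd 19081 = n19115 := ndS (p := 16242) (l := 5) rfl N16242 D19115
theorem N19082 : nd 19082 = n19116 := ndS (p := 16243) (l := 3) rfl N16243 D19116
theorem N19083 : nd 19083 = n19117 := ndS (p := 16244) (l := 4) rfl N16244 D19117
theorem N19084 : nd 19084 = n19118 := ndS (p := 16245) (l := 4) rfl N16245 D19118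
theorem N19085 : nd 19085 = n19119 := ndS (p := 16246) (l := 5) rfl N16246 D19119
theorem N19086 : nd 19086 = n19120 := ndS (p := 16247) (l := 3) rfl N16247 D19120
theorem N19087 : nd 19087 = n19121 := ndS (p := 16249) (l := 2) rfl N16249 D19121
theorem N19088 : nd 19088 = n19122 := ndS (p := 16250) (l := 3) rfl N16250 D19122
theorem N19089 : nd 19089 = n19123 := ndS (p := 16253) (l := 0) rfl N16253 D19123
theorem N19090 : nd 19090 = n19124 := ndS (p := 16253) (l := 3) rfl N16253 D19124
theorem N19091 : nd 19091 = n19125 := ndS (p := 16253) (l := 4) rfl N16253 D19125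
theorem N19092 : nd 19092 = n19126 := ndS (p := 16254) (l := 4) rfl N16254 D19126
theorem N19093 : nd 19093 = n19127 := ndS (p := 16254) (l := 5) rfl N16254 D19127
theorem N19094 : nd 19094 = n19128 := ndS (p := 16255) (l := 3) rfl N16255 D19128
theorem N19095 : nd 19095 = n19129 := ndS (p := 16255) (l := 5) rfl N16255 D19129
theorem N19096 : nd 19096 = n19130 := ndS (p := 16256) (l := 4) rfl N16256 D19130
theorem N19097 : nd 19097 = n19131 := ndS (p := 16257) (l := 4) rfl N16257 D19131
theorem N19098 : nd 19098 = n19132 := ndS (p := 16259) (l := 4) rfl N16259 D19132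
theorem N19099 : nd 19099 = n19133 := ndS (p := 16260) (l := 3) rfl N16260 D19133
theorem N19100 : nd 19100 = n19134 := ndS (p := 16260) (l := 5) rfl N16260 D19134
theorem N19101 : nd 19101 = n19135 := ndS (p := 16261) (l := 2) rfl N16261 D19135
theorem N19102 : nd 19102 = n19136 := ndS (p := 16261) (l := 5) rfl N16261 D19136
theorem N19103 : nd 19103 = n19137 := ndS (p := 16264) (l := 3) rfl N16264 D19137
theorem N19104 : nd 19104 = n19138 := ndS (p := 16265) (l := 4) rfl N16265 D19138
theorem N19105 : nd 19105 = n19139 := ndS (p := 16266) (l := 1) rfl N16266 D19139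
theorem N19106 : nd 19106 = n19140 := ndS (p := 16266) (l := 4) rfl N16266 D19140
theorem N19107 : nd 19107 = n19141 := ndS (p := 16267) (l := 5) rfl N16267 D19141
theorem N19108 : nd 19108 = n19142 := ndS (p := 16268) (l := 1) rfl N16268 D19142
theorem N19109 : nd 19109 = n19143 := ndS (p := 16270) (l := 0) rfl N16270 D19143
theorem N19110 : nd 19110 = n19144 := ndS (p := 16270) (l := 3) rfl N16270 D19144
theorem N19111 : nd 19111 = n19145 := ndS (p := 16271) (l := 4) rfl N16271 D19145
theorem N19112 : nd 19112 = n19146 := ndS (p := 16279) (l := 0) rfl N16279 D19146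
theorem N19113 : nd 19113 = n19147 := ndS (p := 16282) (l := 2) rfl N16282 D19147
theorem N19114 : nd 19114 = n19148 := ndS (p := 16282) (l := 4) rfl N16282 D19148
theorem N19115 : nd 19115 = n19149 := ndS (p := 16284) (l := 3) rfl N16284 D19149
theorem N19116 : nd 19116 = n19150 := ndS (p := 16287) (l := 0) rfl N16287 D19150
theorem N19117 : nd 19117 = n19151 := ndS (p := 16288) (l := 3) rfl N16288 D19151
theorem N19118 : nd 19118 = n19152 := ndS (p := 16295) (l := 3) rfl N16295 D19152
theorem N19119 : nd 19119 = n19153 := ndS (p := 16296) (l := 4) rfl N16296 D19153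
theorem N19120 : nd 19120 = n19154 := ndS (p := 16297) (l := 1) rfl N16297 D19154
theorem N19121 : nd 19121 = n19155 := ndS (p := 16297) (l := 4) rfl N16297 D19155
theorem N19122 : nd 19122 = n19156 := ndS (p := 16298) (l := 5) rfl N16298 D19156
theorem N19123 : nd 19123 = n19157 := ndS (p := 16299) (l := 3) rfl N16299 D19157
theorem N19124 : nd 19124 = n19158 := ndS (p := 16299) (l := 5) rfl N16299 D19158
theorem N19125 : nd 19125 = n19159 := ndS (p := 16300) (l := 2) rfl N16300 D19159
theorem N19126 : nd 19126 = n19160 := ndS (p := 16300) (l := 5) rfl N16300 D19160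
theorem N19127 : nd 19127 = n19161 := ndS (p := 16302) (l := 2) rfl N16302 D19161
theorem N19128 : nd 19128 = n19162 := ndS (p := 16302) (l := 5) rfl N16302 D19162
theorem N19129 : nd 19129 = n19163 := ndS (p := 16305) (l := 4) rfl N16305 D19163
theorem N19130 : nd 19130 = n19164 := ndS (p := 16307) (l := 3) rfl N16307 D19164
theorem N19131 : nd 19131 = n19165 := ndS (p := 16307) (l := 5) rfl N16307 D19165
theorem N19132 : nd 19132 = n19166 := ndS (p := 16308) (l := 2) rfl N16308 D19166
theorem N19133 : nd 19133 = n19167 := ndS (p := 16308) (l := 5) rfl N16308 D19167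
theorem N19134 : nd 19134 = n19168 := ndS (p := 16310) (l := 1) rfl N16310 D19168
theorem N19135 : nd 19135 = n19169 := ndS (p := 16310) (l := 3) rfl N16310 D19169
theorem N19136 : nd 19136 = n19170 := ndS (p := 16310) (l := 5) rfl N16310 D19170
theorem N19137 : nd 19137 = n19171 := ndS (p := 16311) (l := 4) rfl N16311 D19171
theorem N19138 : nd 19138 = n19172 := ndS (p := 16312) (l := 0) rfl N16312 D19172
theorem N19139 : nd 19139 = n19173 := ndS (p := 16312) (l := 3) rfl N16312 D19173
theorem N19140 : nd 19140 = n19174 := ndS (p := 16312) (l := 5) rfl N16312 D19174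
theorem N19141 : nd 19141 = n19175 := ndS (p := 16313) (l := 4) rfl N16313 D19175
theorem N19142 : nd 19142 = n19176 := ndS (p := 16314) (l := 4) rfl N16314 D19176
theorem N19143 : nd 19143 = n19177 := ndS (p := 16316) (l := 5) rfl N16316 D19177
theorem N19144 : nd 19144 = n19178 := ndS (p := 16317) (l := 0) rfl N16317 D19178
theorem N19145 : nd 19145 = n19179 := ndS (p := 16319) (l := 3) rfl N16319 D19179
theorem N19146 : nd 19146 = n19180 := ndS (p := 16320) (l := 2) rfl N16320 D19180
theorem N19147 : nd 19147 = n19181 := ndS (p := 16320) (l := 4) rfl N16320 D19181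
theorem N19148 : nd 19148 = n19182 := ndS (p := 16321) (l := 5) rfl N16321 D19182
theorem N19149 : nd 19149 = n19183 := ndS (p := 16322) (l := 0) rfl N16322 D19183
theorem N19150 : nd 19150 = n19184 := ndS (p := 16324) (l := 3) rfl N16324 D19184
theorem N19151 : nd 19151 = n19185 := ndS (p := 16325) (l := 2) rfl N16325 D19185
theorem N19152 : nd 19152 = n19186 := ndS (p := 16325) (l := 4) rfl N16325 D19186
theorem N19153 : nd 19153 = n19187 := ndS (p := 16326) (l := 5) rfl N16326 D19187
theorem N19154 : nd 19154 = n19188 := ndS (p := 16327) (l := 3) rfl N16327 D19188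
theorem N19155 : nd 19155 = n19189 := ndS (p := 16328) (l := 4) rfl N16328 D19189
theorem N19156 : nd 19156 = n19190 := ndS (p := 16329) (l := 1) rfl N16329 D19190
theorem N19157 : nd 19157 = n19191 := ndS (p := 16329) (l := 4) rfl N16329 D19191
theorem N19158 : nd 19158 = n19192 := ndS (p := 16330) (l := 5) rfl N16330 D19192
theorem N19159 : nd 19159 = n19193 := ndS (p := 16331) (l := 0) rfl N16331 D19193
theorem N19160 : nd 19160 = n19194 := ndS (p := 16331) (l := 4) rfl N16331 D19194
theorem N19161 : nd 19161 = n19195 := ndS (p := 16332) (l := 3) rfl N16332 D19195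
theorem N19162 : nd 19162 = n19196 := ndS (p := 16332) (l := 5) rfl N16332 D19196
theorem N19163 : nd 19163 = n19197 := ndS (p := 16340) (l := 5) rfl N16340 D19197
theorem N19164 : nd 19164 = n19198 := ndS (p := 16342) (l := 4) rfl N16342 D19198
theorem N19165 : nd 19165 = n19199 := ndS (p := 16345) (l := 4) rfl N16345 D19199
theorem N19166 : nd 19166 = n19200 := ndS (p := 16346) (l := 3) rfl N16346 D19200
theorem N19167 : nd 19167 = n19201 := ndS (p := 16349) (l := 3) rfl N16349 D19201
theorem N19168 : nd 19168 = n19202 := ndS (p := 16350) (l := 2) rfl N16350 D19202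
theorem N19169 : nd 19169 = n19203 := ndS (p := 16355) (l := 2) rfl N16355 D19203
theorem N19170 : nd 19170 = n19204 := ndS (p := 16355) (l := 5) rfl N16355 D19204
theorem N19171 : nd 19171 = n19205 := ndS (p := 16357) (l := 1) rfl N16357 D19205
theorem N19172 : nd 19172 = n19206 := ndS (p := 16357) (l := 3) rfl N16357 D19206
theorem N19173 : nd 19173 = n19207 := ndS (p := 16357) (l := 5) rfl N16357 D19207
theorem N19174 : nd 19174 = n19208 := ndS (p := 16358) (l := 4) rfl N16358 D19208
theorem N19175 : nd 19175 = n19209 := ndS (p := 16360) (l := 2) rfl N16360 D19209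
theorem N19176 : nd 19176 = n19210 := ndS (p := 16360) (l := 5) rfl N16360 D19210
theorem N19177 : nd 19177 = n19211 := ndS (p := 16362) (l := 3) rfl N16362 D19211
theorem N19178 : nd 19178 = n19212 := ndS (p := 16363) (l := 2) rfl N16363 D19212
theorem N19179 : nd 19179 = n19213 := ndS (p := 16364) (l := 1) rfl N16364 D19213
theorem N19180 : nd 19180 = n19214 := ndS (p := 16364) (l := 3) rfl N16364 D19214
theorem N19181 : nd 19181 = n19215 := ndS (p := 16368) (l := 2) rfl N16368 D19215
theorem N19182 : nd 19182 = n19216 := ndS (p := 16369) (l := 1) rfl N16369 D19216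
theorem N19183 : nd 19183 = n19217 := ndS (p := 16370) (l := 0) rfl N16370 D19217
theorem N19184 : nd 19184 = n19218 := ndS (p := 16370) (l := 3) rfl N16370 D19218
theorem N19185 : nd 19185 = n19219 := ndS (p := 16372) (l := 4) rfl N16372 D19219
theorem N19186 : nd 19186 = n19220 := ndS (p := 16373) (l := 5) rfl N16373 D19220
theorem N19187 : nd 19187 = n19221 := ndS (p := 16374) (l := 2) rfl N16374 D19221
theorem N19188 : nd 19188 = n19222 := ndS (p := 16374) (l := 4) rfl N16374 D19222
theorem N19189 : nd 19189 = n19223 := ndS (p := 16375) (l := 3) rfl N16375 D19223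
theorem N19190 : nd 19190 = n19224 := ndS (p := 16375) (l := 4) rfl N16375 D19224
theorem N19191 : nd 19191 = n19225 := ndS (p := 16376) (l := 5) rfl N16376 D19225
theorem N19192 : nd 19192 = n19226 := ndS (p := 16380) (l := 2) rfl N16380 D19226
theorem N19193 : nd 19193 = n19227 := ndS (p := 16381) (l := 3) rfl N16381 D19227
theorem N19194 : nd 19194 = n19228 := ndS (p := 16381) (l := 4) rfl N16381 D19228
theorem N19195 : nd 19195 = n19229 := ndS (p := 16382) (l := 5) rfl N16382 D19229
theorem N19196 : nd 19196 = n19230 := ndS (p := 16385) (l := 4) rfl N16385 D19230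
theorem N19197 : nd 19197 = n19231 := ndS (p := 16386) (l := 4) rfl N16386 D19231
theorem N19198 : nd 19198 = n19232 := ndS (p := 16389) (l := 2) rfl N16389 D19232
theorem N19199 : nd 19199 = n19233 := ndS (p := 16389) (l := 5) rfl N16389 D19233
theorem N19200 : nd 19200 = n19234 := ndS (p := 16391) (l := 1) rfl N16391 D19234
theorem N19201 : nd 19201 = n19235 := ndS (p := 16391) (l := 4) rfl N16391 D19235
theorem N19202 : nd 19202 = n19236 := ndS (p := 16392) (l := 5) rfl N16392 D19236
theorem N19203 : nd 19203 = n19237 := ndS (p := 16393) (l := 4) rfl N16393 D19237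
theorem N19204 : nd 19204 = n19238 := ndS (p := 16394) (l := 5) rfl N16394 D19238
theorem N19205 : nd 19205 = n19239 := ndS (p := 16396) (l := 1) rfl N16396 D19239
theorem N19206 : nd 19206 = n19240 := ndS (p := 16397) (l := 0) rfl N16397 D19240
theorem N19207 : nd 19207 = n19241 := ndS (p := 16397) (l := 3) rfl N16397 D19241
theorem N19208 : nd 19208 = n19242 := ndS (p := 16397) (l := 4) rfl N16397 D19242
theorem N19209 : nd 19209 = n19243 := ndS (p := 16398) (l := 4) rfl N16398 D19243
theorem N19210 : nd 19210 = n19244 := ndS (p := 16399) (l := 3) rfl N16399 D19244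
theorem N19211 : nd 19211 = n19245 := ndS (p := 16399) (l := 5) rfl N16399 D19245
theorem N19212 : nd 19212 = n19246 := ndS (p := 16402) (l := 5) rfl N16402 D19246
theorem N19213 : nd 19213 = n19247 := ndS (p := 16403) (l := 2) rfl N16403 D19247
theorem N19214 : nd 19214 = n19248 := ndS (p := 16403) (l := 5) rfl N16403 D19248
theorem N19215 : nd 19215 = n19249 := ndS (p := 16405) (l := 3) rfl N16405 D19249
theorem N19216 : nd 19216 = n19250 := ndS (p := 16406) (l := 4) rfl N16406 D19250
theorem N19217 : nd 19217 = n19251 := ndS (p := 16407) (l := 1) rfl N16407 D19251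
theorem N19218 : nd 19218 = n19252 := ndS (p := 16407) (l := 4) rfl N16407 D19252
theorem N19219 : nd 19219 = n19253 := ndS (p := 16408) (l := 5) rfl N16408 D19253
theorem N19220 : nd 19220 = n19254 := ndS (p := 16409) (l := 2) rfl N16409 D19254
theorem N19221 : nd 19221 = n19255 := ndS (p := 16409) (l := 4) rfl N16409 D19255
theorem N19222 : nd 19222 = n19256 := ndS (p := 16410) (l := 5) rfl N16410 D19256
theorem N19223 : nd 19223 = n19257 := ndS (p := 16412) (l := 5) rfl N16412 D19257
theorem N19224 : nd 19224 = n19258 := ndS (p := 16414) (l := 0) rfl N16414 D19258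
theorem N19225 : nd 19225 = n19259 := ndS (p := 16414) (l := 3) rfl N16414 D19259
theorem N19226 : nd 19226 = n19260 := ndS (p := 16414) (l := 5) rfl N16414 D19260
theorem N19227 : nd 19227 = n19261 := ndS (p := 16415) (l := 2) rfl N16415 D19261
theorem N19228 : nd 19228 = n19262 := ndS (p := 16415) (l := 4) rfl N16415 D19262
theorem N19229 : nd 19229 = n19263 := ndS (p := 16415) (l := 5) rfl N16415 D19263
theorem N19230 : nd 19230 = n19264 := ndS (p := 16416) (l := 4) rfl N16416 D19264
theorem N19231 : nd 19231 = n19265 := ndS (p := 16418) (l := 3) rfl N16418 D19265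
theorem N19232 : nd 19232 = n19266 := ndS (p := 16418) (l := 5) rfl N16418 D19266
theorem N19233 : nd 19233 = n19267 := ndS (p := 16419) (l := 2) rfl N16419 D19267
theorem N19234 : nd 19234 = n19268 := ndS (p := 16419) (l := 4) rfl N16419 D19268
theorem N19235 : nd 19235 = n19269 := ndS (p := 16420) (l := 4) rfl N16420 D19269
theorem N19236 : nd 19236 = n19270 := ndS (p := 16421) (l := 5) rfl N16421 D19270
theorem N19237 : nd 19237 = n19271 := ndS (p := 16422) (l := 3) rfl N16422 D19271
theorem N19238 : nd 19238 = n19272 := ndS (p := 16423) (l := 0) rfl N16423 D19272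
theorem N19239 : nd 19239 = n19273 := ndS (p := 16423) (l := 3) rfl N16423 D19273
theorem N19240 : nd 19240 = n19274 := ndS (p := 16423) (l := 5) rfl N16423 D19274
theorem N19241 : nd 19241 = n19275 := ndS (p := 16428) (l := 1) rfl N16428 D19275
theorem N19242 : nd 19242 = n19276 := ndS (p := 16428) (l := 4) rfl N16428 D19276
theorem N19243 : nd 19243 = n19277 := ndS (p := 16432) (l := 2) rfl N16432 D19277
theorem N19244 : nd 19244 = n19278 := ndS (p := 16433) (l := 3) rfl N16433 D19278
theorem N19245 : nd 19245 = n19279 := ndS (p := 16435) (l := 2) rfl N16435 D19279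
theorem N19246 : nd 19246 = n19280 := ndS (p := 16436) (l := 2) rfl N16436 D19280
theorem N19247 : nd 19247 = n19281 := ndS (p := 16436) (l := 5) rfl N16436 D19281
theorem N19248 : nd 19248 = n19282 := ndS (p := 16438) (l := 1) rfl N16438 D19282
theorem N19249 : nd 19249 = n19283 := ndS (p := 16438) (l := 3) rfl N16438 D19283
theorem N19250 : nd 19250 = n19284 := ndS (p := 16438) (l := 5) rfl N16438 D19284
theorem N19251 : nd 19251 = n19285 := ndS (p := 16439) (l := 4) rfl N16439 D19285
theorem N19252 : nd 19252 = n19286 := ndS (p := 16440) (l := 2) rfl N16440 D19286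
theorem N19253 : nd 19253 = n19287 := ndS (p := 16441) (l := 1) rfl N16441 D19287
theorem N19254 : nd 19254 = n19288 := ndS (p := 16441) (l := 3) rfl N16441 D19288
theorem N19255 : nd 19255 = n19289 := ndS (p := 16443) (l := 2) rfl N16443 D19289
theorem N19256 : nd 19256 = n19290 := ndS (p := 16443) (l := 4) rfl N16443 D19290
theorem N19257 : nd 19257 = n19291 := ndS (p := 16444) (l := 4) rfl N16444 D19291
theorem N19258 : nd 19258 = n19292 := ndS (p := 16445) (l := 3) rfl N16445 D19292
theorem N19259 : nd 19259 = n19293 := ndS (p := 16445) (l := 4) rfl N16445 D19293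
theorem N19260 : nd 19260 = n19294 := ndS (p := 16447) (l := 3) rfl N16447 D19294
theorem N19261 : nd 19261 = n19295 := ndS (p := 16449) (l := 2) rfl N16449 D19295
theorem N19262 : nd 19262 = n19296 := ndS (p := 16451) (l := 3) rfl N16451 D19296
theorem N19263 : nd 19263 = n19297 := ndS (p := 16452) (l := 2) rfl N16452 D19297
theorem N19264 : nd 19264 = n19298 := ndS (p := 16453) (l := 1) rfl N16453 D19298
theorem N19265 : nd 19265 = n19299 := ndS (p := 16453) (l := 3) rfl N16453 D19299
theorem N19266 : nd 19266 = n19300 := ndS (p := 16454) (l := 2) rfl N16454 D19300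
theorem N19267 : nd 19267 = n19301 := ndS (p := 16454) (l := 5) rfl N16454 D19301
theorem N19268 : nd 19268 = n19302 := ndS (p := 16456) (l := 1) rfl N16456 D19302
theorem N19269 : nd 19269 = n19303 := ndS (p := 16456) (l := 3) rfl N16456 D19303
theorem N19270 : nd 19270 = n19304 := ndS (p := 16456) (l := 5) rfl N16456 D19304
theorem N19271 : nd 19271 = n19305 := ndS (p := 16457) (l := 4) rfl N16457 D19305
theorem N19272 : nd 19272 = n19306 := ndS (p := 16458) (l := 1) rfl N16458 D19306
theorem N19273 : nd 19273 = n19307 := ndS (p := 16458) (l := 3) rfl N16458 D19307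
theorem N19274 : nd 19274 = n19308 := ndS (p := 16458) (l := 5) rfl N16458 D19308
theorem N19275 : nd 19275 = n19309 := ndS (p := 16459) (l := 4) rfl N16459 D19309
theorem N19276 : nd 19276 = n19310 := ndS (p := 16462) (l := 2) rfl N16462 D19310
theorem N19277 : nd 19277 = n19311 := ndS (p := 16462) (l := 4) rfl N16462 D19311
theorem N19278 : nd 19278 = n19312 := ndS (p := 16463) (l := 5) rfl N16463 D19312
theorem N19279 : nd 19279 = n19313 := ndS (p := 16465) (l := 5) rfl N16465 D19313
theorem N19280 : nd 19280 = n19314 := ndS (p := 16467) (l := 4) rfl N16467 D19314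
theorem N19281 : nd 19281 = n19315 := ndS (p := 16469) (l := 4) rfl N16469 D19315
theorem N19282 : nd 19282 = n19316 := ndS (p := 16470) (l := 3) rfl N16470 D19316
theorem N19283 : nd 19283 = n19317 := ndS (p := 16471) (l := 0) rfl N16471 D19317
theorem N19284 : nd 19284 = n19318 := ndS (p := 16471) (l := 4) rfl N16471 D19318
theorem N19285 : nd 19285 = n19319 := ndS (p := 16472) (l := 3) rfl N16472 D19319
theorem N19286 : nd 19286 = n19320 := ndS (p := 16472) (l := 5) rfl N16472 D19320
theorem N19287 : nd 19287 = n19321 := ndS (p := 16474) (l := 1) rfl N16474 D19321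
theorem N19288 : nd 19288 = n19322 := ndS (p := 16474) (l := 5) rfl N16474 D19322
theorem N19289 : nd 19289 = n19323 := ndS (p := 16475) (l := 4) rfl N16475 D19323
theorem N19290 : nd 19290 = n19324 := ndS (p := 16476) (l := 0) rfl N16476 D19324
theorem N19291 : nd 19291 = n19325 := ndS (p := 16477) (l := 2) rfl N16477 D19325
theorem N19292 : nd 19292 = n19326 := ndS (p := 16477) (l := 4) rfl N16477 D19326
theorem N19293 : nd 19293 = n19327 := ndS (p := 16477) (l := 5) rfl N16477 D19327
theorem N19294 : nd 19294 = n19328 := ndS (p := 16478) (l := 4) rfl N16478 D19328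
theorem N19295 : nd 19295 = n19329 := ndS (p := 16479) (l := 3) rfl N16479 D19329
theorem N19296 : nd 19296 = n19330 := ndS (p := 16480) (l := 2) rfl N16480 D19330
theorem N19297 : nd 19297 = n19331 := ndS (p := 16481) (l := 1) rfl N16481 D19331
theorem N19298 : nd 19298 = n19332 := ndS (p := 16481) (l := 3) rfl N16481 D19332
theorem N19299 : nd 19299 = n19333 := ndS (p := 16483) (l := 2) rfl N16483 D19333
theorem N19300 : nd 19300 = n19334 := ndS (p := 16484) (l := 1) rfl N16484 D19334
theorem N19301 : nd 19301 = n19335 := ndS (p := 16488) (l := 4) rfl N16488 D19335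
theorem N19302 : nd 19302 = n19336 := ndS (p := 16490) (l := 0) rfl N16490 D19336
theorem N19303 : nd 19303 = n19337 := ndS (p := 16490) (l := 3) rfl N16490 D19337
theorem N19304 : nd 19304 = n19338 := ndS (p := 16490) (l := 5) rfl N16490 D19338
theorem N19305 : nd 19305 = n19339 := ndS (p := 16491) (l := 4) rfl N16491 D19339
theorem N19306 : nd 19306 = n19340 := ndS (p := 16492) (l := 4) rfl N16492 D19340
theorem N19307 : nd 19307 = n19341 := ndS (p := 16494) (l := 3) rfl N16494 D19341
theorem N19308 : nd 19308 = n19342 := ndS (p := 16494) (l := 5) rfl N16494 D19342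
theorem N19309 : nd 19309 = n19343 := ndS (p := 16495) (l := 2) rfl N16495 D19343
theorem N19310 : nd 19310 = n19344 := ndS (p := 16495) (l := 4) rfl N16495 D19344
theorem N19311 : nd 19311 = n19345 := ndS (p := 16495) (l := 5) rfl N16495 D19345
theorem N19312 : nd 19312 = n19346 := ndS (p := 16496) (l := 4) rfl N16496 D19346
theorem N19313 : nd 19313 = n19347 := ndS (p := 16497) (l := 5) rfl N16497 D19347
theorem N19314 : nd 19314 = n19348 := ndS (p := 16499) (l := 3) rfl N16499 D19348
theorem N19315 : nd 19315 = n19349 := ndS (p := 16500) (l := 3) rfl N16500 D19349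
theorem N19316 : nd 19316 = n19350 := ndS (p := 16500) (l := 5) rfl N16500 D19350
theorem N19317 : nd 19317 = n19351 := ndS (p := 16501) (l := 2) rfl N16501 D19351
theorem N19318 : nd 19318 = n19352 := ndS (p := 16501) (l := 4) rfl N16501 D19352
theorem N19319 : nd 19319 = n19353 := ndS (p := 16502) (l := 4) rfl N16502 D19353
theorem N19320 : nd 19320 = n19354 := ndS (p := 16505) (l := 2) rfl N16505 D19354
theorem N19321 : nd 19321 = n19355 := ndS (p := 16506) (l := 1) rfl N16506 D19355
theorem N19322 : nd 19322 = n19356 := ndS (p := 16509) (l := 2) rfl N16509 D19356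
theorem N19323 : nd 19323 = n19357 := ndS (p := 16509) (l := 4) rfl N16509 D19357
theorem N19324 : nd 19324 = n19358 := ndS (p := 16510) (l := 4) rfl N16510 D19358
theorem N19325 : nd 19325 = n19359 := ndS (p := 16511) (l := 4) rfl N16511 D19359
theorem N19326 : nd 19326 = n19360 := ndS (p := 16514) (l := 1) rfl N16514 D19360
theorem N19327 : nd 19327 = n19361 := ndS (p := 16517) (l := 3) rfl N16517 D19361
theorem N19328 : nd 19328 = n19362 := ndS (p := 16517) (l := 5) rfl N16517 D19362
theorem N19329 : nd 19329 = n19363 := ndS (p := 16519) (l := 0) rfl N16519 D19363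
theorem N19330 : nd 19330 = n19364 := ndS (p := 16519) (l := 3) rfl N16519 D19364
theorem N19331 : nd 19331 = n19365 := ndS (p := 16520) (l := 2) rfl N16520 D19365
theorem N19332 : nd 19332 = n19366 := ndS (p := 16520) (l := 4) rfl N16520 D19366
theorem N19333 : nd 19333 = n19367 := ndS (p := 16520) (l := 5) rfl N16520 D19367
theorem N19334 : nd 19334 = n19368 := ndS (p := 16521) (l := 4) rfl N16521 D19368
theorem N19335 : nd 19335 = n19369 := ndS (p := 16523) (l := 3) rfl N16523 D19369
theorem N19336 : nd 19336 = n19370 := ndS (p := 16524) (l := 4) rfl N16524 D19370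
theorem N19337 : nd 19337 = n19371 := ndS (p := 16525) (l := 5) rfl N16525 D19371
theorem N19338 : nd 19338 = n19372 := ndS (p := 16526) (l := 3) rfl N16526 D19372
theorem N19339 : nd 19339 = n19373 := ndS (p := 16528) (l := 2) rfl N16528 D19373
theorem N19340 : nd 19340 = n19374 := ndS (p := 16528) (l := 4) rfl N16528 D19374
theorem N19341 : nd 19341 = n19375 := ndS (p := 16529) (l := 4) rfl N16529 D19375
theorem N19342 : nd 19342 = n19376 := ndS (p := 16530) (l := 3) rfl N16530 D19376
theorem N19343 : nd 19343 = n19377 := ndS (p := 16530) (l := 4) rfl N16530 D19377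
theorem N19344 : nd 19344 = n19378 := ndS (p := 16533) (l := 4) rfl N16533 D19378
theorem N19345 : nd 19345 = n19379 := ndS (p := 16536) (l := 3) rfl N16536 D19379
theorem N19346 : nd 19346 = n19380 := ndS (p := 16538) (l := 5) rfl N16538 D19380
theorem N19347 : nd 19347 = n19381 := ndS (p := 16540) (l := 2) rfl N16540 D19381
theorem N19348 : nd 19348 = n19382 := ndS (p := 16540) (l := 4) rfl N16540 D19382
theorem N19349 : nd 19349 = n19383 := ndS (p := 16541) (l := 3) rfl N16541 D19383
theorem N19350 : nd 19350 = n19384 := ndS (p := 16541) (l := 4) rfl N16541 D19384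
theorem N19351 : nd 19351 = n19385 := ndS (p := 16542) (l := 5) rfl N16542 D19385
theorem N19352 : nd 19352 = n19386 := ndS (p := 16543) (l := 3) rfl N16543 D19386
theorem N19353 : nd 19353 = n19387 := ndS (p := 16545) (l := 2) rfl N16545 D19387
theorem N19354 : nd 19354 = n19388 := ndS (p := 16546) (l := 5) rfl N16546 D19388
theorem N19355 : nd 19355 = n19389 := ndS (p := 16548) (l := 3) rfl N16548 D19389
theorem N19356 : nd 19356 = n19390 := ndS (p := 16550) (l := 3) rfl N16550 D19390
theorem N19357 : nd 19357 = n19391 := ndS (p := 16551) (l := 5) rfl N16551 D19391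
theorem N19358 : nd 19358 = n19392 := ndS (p := 16553) (l := 3) rfl N16553 D19392
theorem N19359 : nd 19359 = n19393 := ndS (p := 16554) (l := 2) rfl N16554 D19393
theorem N19360 : nd 19360 = n19394 := ndS (p := 16555) (l := 1) rfl N16555 D19394
theorem N19361 : nd 19361 = n19395 := ndS (p := 16555) (l := 3) rfl N16555 D19395
theorem N19362 : nd 19362 = n19396 := ndS (p := 16556) (l := 2) rfl N16556 D19396
theorem N19363 : nd 19363 = n19397 := ndS (p := 16557) (l := 2) rfl N16557 D19397
theorem N19364 : nd 19364 = n19398 := ndS (p := 16558) (l := 0) rfl N16558 D19398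
theorem N19365 : nd 19365 = n19399 := ndS (p := 16558) (l := 5) rfl N16558 D19399
theorem N19366 : nd 19366 = n19400 := ndS (p := 16559) (l := 4) rfl N16559 D19400
theorem N19367 : nd 19367 = n19401 := ndS (p := 16561) (l := 3) rfl N16561 D19401
theorem N19368 : nd 19368 = n19402 := ndS (p := 16561) (l := 4) rfl N16561 D19402
theorem N19369 : nd 19369 = n19403 := ndS (p := 16562) (l := 2) rfl N16562 D19403
theorem N19370 : nd 19370 = n19404 := ndS (p := 16562) (l := 4) rfl N16562 D19404
theorem N19371 : nd 19371 = n19405 := ndS (p := 16563) (l := 3) rfl N16563 D19405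
theorem N19372 : nd 19372 = n19406 := ndS (p := 16563) (l := 5) rfl N16563 D19406
theorem N19373 : nd 19373 = n19407 := ndS (p := 16564) (l := 3) rfl N16564 D19407
theorem N19374 : nd 19374 = n19408 := ndS (p := 16564) (l := 5) rfl N16564 D19408
theorem N19375 : nd 19375 = n19409 := ndS (p := 16565) (l := 4) rfl N16565 D19409
theorem N19376 : nd 19376 = n19410 := ndS (p := 16567) (l := 4) rfl N16567 D19410
theorem N19377 : nd 19377 = n19411 := ndS (p := 16568) (l := 3) rfl N16568 D19411
theorem N19378 : nd 19378 = n19412 := ndS (p := 16570) (l := 3) rfl N16570 D19412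
theorem N19379 : nd 19379 = n19413 := ndS (p := 16570) (l := 5) rfl N16570 D19413
theorem N19380 : nd 19380 = n19415 := ndS (p := 16571) (l := 5) rfl N16571 D19415
theorem N19381 : nd 19381 = n19417 := ndS (p := 16573) (l := 3) rfl N16573 D19417
theorem N19382 : nd 19382 = n19418 := ndS (p := 16573) (l := 5) rfl N16573 D19418
theorem N19383 : nd 19383 = n19419 := ndS (p := 16574) (l := 4) rfl N16574 D19419
theorem N19384 : nd 19384 = n19420 := ndS (p := 16575) (l := 2) rfl N16575 D19420
theorem N19385 : nd 19385 = n19421 := ndS (p := 16576) (l := 1) rfl N16576 D19421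
theorem N19386 : nd 19386 = n19422 := ndS (p := 16578) (l := 2) rfl N16578 D19422
theorem N19387 : nd 19387 = n19423 := ndS (p := 16578) (l := 4) rfl N16578 D19423
theorem N19388 : nd 19388 = n19424 := ndS (p := 16579) (l := 5) rfl N16579 D19424
theorem N19389 : nd 19389 = n19425 := ndS (p := 16580) (l := 0) rfl N16580 D19425
theorem N19390 : nd 19390 = n19426 := ndS (p := 16580) (l := 4) rfl N16580 D19426
theorem N19391 : nd 19391 = n19427 := ndS (p := 16581) (l := 3) rfl N16581 D19427
theorem N19392 : nd 19392 = n19428 := ndS (p := 16581) (l := 5) rfl N16581 D19428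
theorem N19393 : nd 19393 = n19429 := ndS (p := 16583) (l := 2) rfl N16583 D19429
theorem N19394 : nd 19394 = n19430 := ndS (p := 16583) (l := 4) rfl N16583 D19430
theorem N19395 : nd 19395 = n19431 := ndS (p := 16584) (l := 3) rfl N16584 D19431
theorem N19396 : nd 19396 = n19432 := ndS (p := 16584) (l := 4) rfl N16584 D19432
theorem N19397 : nd 19397 = n19433 := ndS (p := 16591) (l := 1) rfl N16591 D19433
theorem N19398 : nd 19398 = n19434 := ndS (p := 16592) (l := 3) rfl N16592 D19434
theorem N19399 : nd 19399 = n19435 := ndS (p := 16593) (l := 2) rfl N16593 D19435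
theorem N19400 : nd 19400 = n19436 := ndS (p := 16593) (l := 4) rfl N16593 D19436
theorem N19401 : nd 19401 = n19437 := ndS (p := 16594) (l := 4) rfl N16594 D19437
theorem N19402 : nd 19402 = n19438 := ndS (p := 16596) (l := 3) rfl N16596 D19438
theorem N19403 : nd 19403 = n19439 := ndS (p := 16598) (l := 3) rfl N16598 D19439
theorem N19404 : nd 19404 = n19440 := ndS (p := 16598) (l := 5) rfl N16598 D19440
theorem N19405 : nd 19405 = n19441 := ndS (p := 16599) (l := 2) rfl N16599 D19441
theorem N19406 : nd 19406 = n19442 := ndS (p := 16601) (l := 4) rfl N16601 D19442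
theorem N19407 : nd 19407 = n19443 := ndS (p := 16602) (l := 4) rfl N16602 D19443
theorem N19408 : nd 19408 = n19444 := ndS (p := 16605) (l := 4) rfl N16605 D19444
theorem N19409 : nd 19409 = n19445 := ndS (p := 16606) (l := 3) rfl N16606 D19445
theorem N19410 : nd 19410 = n19446 := ndS (p := 16608) (l := 3) rfl N16608 D19446
theorem N19411 : nd 19411 = n19447 := ndS (p := 16609) (l := 3) rfl N16609 D19447
theorem N19412 : nd 19412 = n19448 := ndS (p := 16610) (l := 1) rfl N16610 D19448
theorem N19413 : nd 19413 = n19449 := ndS (p := 16611) (l := 0) rfl N16611 D19449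
theorem N19414 : nd 19414 = n19450 := ndS (p := 16613) (l := 3) rfl N16613 D19450
theorem N19415 : nd 19415 = n19451 := ndS (p := 16613) (l := 4) rfl N16613 D19451
theorem N19416 : nd 19416 = n19452 := ndS (p := 16614) (l := 5) rfl N16614 D19452
theorem N19417 : nd 19417 = n19453 := ndS (p := 16616) (l := 4) rfl N16616 D19453
theorem N19418 : nd 19418 = n19454 := ndS (p := 16617) (l := 5) rfl N16617 D19454
theorem N19419 : nd 19419 = n19455 := ndS (p := 16619) (l := 5) rfl N16619 D19455
theorem N19420 : nd 19420 = n19456 := ndS (p := 16622) (l := 3) rfl N16622 D19456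
theorem N19421 : nd 19421 = n19457 := ndS (p := 16622) (l := 5) rfl N16622 D19457
theorem N19422 : nd 19422 = n19458 := ndS (p := 16623) (l := 2) rfl N16623 D19458
theorem N19423 : nd 19423 = n19459 := ndS (p := 16625) (l := 2) rfl N16625 D19459
theorem N19424 : nd 19424 = n19460 := ndS (p := 16625) (l := 4) rfl N16625 D19460
theorem N19425 : nd 19425 = n19461 := ndS (p := 16626) (l := 3) rfl N16626 D19461
theorem N19426 : nd 19426 = n19462 := ndS (p := 16626) (l := 4) rfl N16626 D19462
theorem N19427 : nd 19427 = n19463 := ndS (p := 16627) (l := 5) rfl N16627 D19463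
theorem N19428 : nd 19428 = n19464 := ndS (p := 16630) (l := 0) rfl N16630 D19464
theorem N19429 : nd 19429 = n19465 := ndS (p := 16630) (l := 4) rfl N16630 D19465
theorem N19430 : nd 19430 = n19466 := ndS (p := 16633) (l := 4) rfl N16633 D19466
theorem N19431 : nd 19431 = n19467 := ndS (p := 16634) (l := 5) rfl N16634 D19467
theorem N19432 : nd 19432 = n19468 := ndS (p := 16636) (l := 3) rfl N16636 D19468
theorem N19433 : nd 19433 = n19469 := ndS (p := 16638) (l := 2) rfl N16638 D19469
theorem N19434 : nd 19434 = n19470 := ndS (p := 16639) (l := 1) rfl N16639 D19470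
theorem N19435 : nd 19435 = n19471 := ndS (p := 16639) (l := 3) rfl N16639 D19471
theorem N19436 : nd 19436 = n19472 := ndS (p := 16639) (l := 5) rfl N16639 D19472
theorem N19437 : nd 19437 = n19473 := ndS (p := 16640) (l := 4) rfl N16640 D19473
theorem N19438 : nd 19438 = n19474 := ndS (p := 16641) (l := 0) rfl N16641 D19474
theorem N19439 : nd 19439 = n19475 := ndS (p := 16641) (l := 3) rfl N16641 D19475
theorem N19440 : nd 19440 = n19476 := ndS (p := 16641) (l := 5) rfl N16641 D19476
theorem N19441 : nd 19441 = n19477 := ndS (p := 16643) (l := 4) rfl N16643 D19477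
theorem N19442 : nd 19442 = n19478 := ndS (p := 16645) (l := 3) rfl N16645 D19478
theorem N19443 : nd 19443 = n19479 := ndS (p := 16646) (l := 2) rfl N16646 D19479
theorem N19444 : nd 19444 = n19480 := ndS (p := 16646) (l := 4) rfl N16646 D19480
theorem N19445 : nd 19445 = n19481 := ndS (p := 16646) (l := 5) rfl N16646 D19481
theorem N19446 : nd 19446 = n19482 := ndS (p := 16648) (l := 1) rfl N16648 D19482
theorem N19447 : nd 19447 = n19483 := ndS (p := 16648) (l := 4) rfl N16648 D19483
theorem N19448 : nd 19448 = n19484 := ndS (p := 16651) (l := 2) rfl N16651 D19484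
theorem N19449 : nd 19449 = n19485 := ndS (p := 16651) (l := 4) rfl N16651 D19485
theorem N19450 : nd 19450 = n19486 := ndS (p := 16652) (l := 4) rfl N16652 D19486
theorem N19451 : nd 19451 = n19487 := ndS (p := 16655) (l := 4) rfl N16655 D19487
theorem N19452 : nd 19452 = n19488 := ndS (p := 16656) (l := 3) rfl N16656 D19488
theorem N19453 : nd 19453 = n19489 := ndS (p := 16657) (l := 2) rfl N16657 D19489
theorem N19454 : nd 19454 = n19490 := ndS (p := 16657) (l := 4) rfl N16657 D19490
theorem N19455 : nd 19455 = n19491 := ndS (p := 16658) (l := 5) rfl N16658 D19491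
theorem N19456 : nd 19456 = n19492 := ndS (p := 16659) (l := 3) rfl N16659 D19492
theorem N19457 : nd 19457 = n19493 := ndS (p := 16660) (l := 1) rfl N16660 D19493
theorem N19458 : nd 19458 = n19494 := ndS (p := 16660) (l := 3) rfl N16660 D19494
theorem N19459 : nd 19459 = n19495 := ndS (p := 16661) (l := 0) rfl N16661 D19495
theorem N19460 : nd 19460 = n19496 := ndS (p := 16662) (l := 3) rfl N16662 D19496
theorem N19461 : nd 19461 = n19497 := ndS (p := 16664) (l := 2) rfl N16664 D19497
theorem N19462 : nd 19462 = n19498 := ndS (p := 16665) (l := 2) rfl N16665 D19498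
theorem N19463 : nd 19463 = n19499 := ndS (p := 16665) (l := 4) rfl N16665 D19499
theorem N19464 : nd 19464 = n19500 := ndS (p := 16666) (l := 1) rfl N16666 D19500
theorem N19465 : nd 19465 = n19501 := ndS (p := 16666) (l := 3) rfl N16666 D19501
theorem N19466 : nd 19466 = n19502 := ndS (p := 16666) (l := 4) rfl N16666 D19502
theorem N19467 : nd 19467 = n19503 := ndS (p := 16668) (l := 0) rfl N16668 D19503
theorem N19468 : nd 19468 = n19504 := ndS (p := 16668) (l := 4) rfl N16668 D19504
theorem N19469 : nd 19469 = n19505 := ndS (p := 16669) (l := 3) rfl N16669 D19505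
theorem N19470 : nd 19470 = n19506 := ndS (p := 16670) (l := 1) rfl N16670 D19506
theorem N19471 : nd 19471 = n19507 := ndS (p := 16670) (l := 3) rfl N16670 D19507
theorem N19472 : nd 19472 = n19508 := ndS (p := 16670) (l := 4) rfl N16670 D19508
theorem N19473 : nd 19473 = n19509 := ndS (p := 16672) (l := 2) rfl N16672 D19509
theorem N19474 : nd 19474 = n19510 := ndS (p := 16672) (l := 4) rfl N16672 D19510
theorem N19475 : nd 19475 = n19511 := ndS (p := 16673) (l := 3) rfl N16673 D19511
theorem N19476 : nd 19476 = n19512 := ndS (p := 16674) (l := 5) rfl N16674 D19512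
theorem N19477 : nd 19477 = n19513 := ndS (p := 16675) (l := 3) rfl N16675 D19513
theorem N19478 : nd 19478 = n19514 := ndS (p := 16676) (l := 4) rfl N16676 D19514
theorem N19479 : nd 19479 = n19515 := ndS (p := 16677) (l := 4) rfl N16677 D19515
theorem N19480 : nd 19480 = n19516 := ndS (p := 16678) (l := 5) rfl N16678 D19516
theorem N19481 : nd 19481 = n19517 := ndS (p := 16679) (l := 3) rfl N16679 D19517
theorem N19482 : nd 19482 = n19518 := ndS (p := 16681) (l := 2) rfl N16681 D19518
theorem N19483 : nd 19483 = n19519 := ndS (p := 16682) (l := 1) rfl N16682 D19519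
theorem N19484 : nd 19484 = n19520 := ndS (p := 16682) (l := 3) rfl N16682 D19520
theorem N19485 : nd 19485 = n19521 := ndS (p := 16683) (l := 0) rfl N16683 D19521
theorem N19486 : nd 19486 = n19522 := ndS (p := 16685) (l := 3) rfl N16685 D19522
theorem N19487 : nd 19487 = n19523 := ndS (p := 16686) (l := 2) rfl N16686 D19523
theorem N19488 : nd 19488 = n19524 := ndS (p := 16687) (l := 1) rfl N16687 D19524
theorem N19489 : nd 19489 = n19525 := ndS (p := 16687) (l := 3) rfl N16687 D19525
theorem N19490 : nd 19490 = n19526 := ndS (p := 16688) (l := 0) rfl N16688 D19526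
theorem N19491 : nd 19491 = n19527 := ndS (p := 16688) (l := 3) rfl N16688 D19527
theorem N19492 : nd 19492 = n19528 := ndS (p := 16691) (l := 2) rfl N16691 D19528
theorem N19493 : nd 19493 = n19529 := ndS (p := 16691) (l := 4) rfl N16691 D19529
theorem N19494 : nd 19494 = n19530 := ndS (p := 16692) (l := 3) rfl N16692 D19530
theorem N19495 : nd 19495 = n19531 := ndS (p := 16692) (l := 4) rfl N16692 D19531
theorem N19496 : nd 19496 = n19532 := ndS (p := 16695) (l := 0) rfl N16695 D19532
theorem N19497 : nd 19497 = n19533 := ndS (p := 16695) (l := 4) rfl N16695 D19533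
theorem N19498 : nd 19498 = n19534 := ndS (p := 16697) (l := 4) rfl N16697 D19534
theorem N19499 : nd 19499 = n19535 := ndS (p := 16698) (l := 3) rfl N16698 D19535
theorem N19500 : nd 19500 = n19536 := ndS (p := 16700) (l := 4) rfl N16700 D19536
theorem N19501 : nd 19501 = n19537 := ndS (p := 16701) (l := 3) rfl N16701 D19537
theorem N19502 : nd 19502 = n19538 := ndS (p := 16702) (l := 2) rfl N16702 D19538
theorem N19503 : nd 19503 = n19539 := ndS (p := 16704) (l := 3) rfl N16704 D19539
theorem N19504 : nd 19504 = n19540 := ndS (p := 16704) (l := 5) rfl N16704 D19540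
theorem N19505 : nd 19505 = n19541 := ndS (p := 16707) (l := 4) rfl N16707 D19541
theorem N19506 : nd 19506 = n19542 := ndS (p := 16709) (l := 4) rfl N16709 D19542
theorem N19507 : nd 19507 = n19543 := ndS (p := 16710) (l := 5) rfl N16710 D19543
theorem N19508 : nd 19508 = n19544 := ndS (p := 16712) (l := 1) rfl N16712 D19544
theorem N19509 : nd 19509 = n19545 := ndS (p := 16713) (l := 0) rfl N16713 D19545
theorem N19510 : nd 19510 = n19546 := ndS (p := 16713) (l := 3) rfl N16713 D19546
theorem N19511 : nd 19511 = n19547 := ndS (p := 16716) (l := 4) rfl N16716 D19547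
theorem N19512 : nd 19512 = n19548 := ndS (p := 16718) (l := 2) rfl N16718 D19548
theorem N19513 : nd 19513 = n19549 := ndS (p := 16718) (l := 4) rfl N16718 D19549
theorem N19514 : nd 19514 = n19550 := ndS (p := 16724) (l := 2) rfl N16724 D19550
theorem N19515 : nd 19515 = n19551 := ndS (p := 16724) (l := 5) rfl N16724 D19551
theorem N19516 : nd 19516 = n19552 := ndS (p := 16728) (l := 3) rfl N16728 D19552
theorem N19517 : nd 19517 = n19553 := ndS (p := 16728) (l := 4) rfl N16728 D19553
theorem N19518 : nd 19518 = n19554 := ndS (p := 16729) (l := 5) rfl N16729 D19554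
theorem N19519 : nd 19519 = n19555 := ndS (p := 16733) (l := 4) rfl N16733 D19555
theorem N19520 : nd 19520 = n19556 := ndS (p := 16735) (l := 4) rfl N16735 D19556
theorem N19521 : nd 19521 = n19557 := ndS (p := 16736) (l := 4) rfl N16736 D19557
theorem N19522 : nd 19522 = n19558 := ndS (p := 16737) (l := 3) rfl N16737 D19558
theorem N19523 : nd 19523 = n19559 := ndS (p := 16737) (l := 4) rfl N16737 D19559
theorem N19524 : nd 19524 = n19560 := ndS (p := 16738) (l := 5) rfl N16738 D19560
theorem N19525 : nd 19525 = n19561 := ndS (p := 16739) (l := 3) rfl N16739 D19561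
theorem N19526 : nd 19526 = n19562 := ndS (p := 16741) (l := 2) rfl N16741 D19562
theorem N19527 : nd 19527 = n19563 := ndS (p := 16742) (l := 4) rfl N16742 D19563
theorem N19528 : nd 19528 = n19564 := ndS (p := 16743) (l := 3) rfl N16743 D19564
theorem N19529 : nd 19529 = n19565 := ndS (p := 16743) (l := 5) rfl N16743 D19565
theorem N19530 : nd 19530 = n19566 := ndS (p := 16744) (l := 2) rfl N16744 D19566
theorem N19531 : nd 19531 = n19567 := ndS (p := 16749) (l := 2) rfl N16749 D19567
theorem N19532 : nd 19532 = n19568 := ndS (p := 16750) (l := 1) rfl N16750 D19568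
theorem N19533 : nd 19533 = n19569 := ndS (p := 16751) (l := 0) rfl N16751 D19569
theorem N19534 : nd 19534 = n19570 := ndS (p := 16751) (l := 3) rfl N16751 D19570
theorem N19535 : nd 19535 = n19571 := ndS (p := 16752) (l := 4) rfl N16752 D19571
theorem N19536 : nd 19536 = n19572 := ndS (p := 16753) (l := 1) rfl N16753 D19572
theorem N19537 : nd 19537 = n19573 := ndS (p := 16753) (l := 3) rfl N16753 D19573
theorem N19538 : nd 19538 = n19574 := ndS (p := 16754) (l := 0) rfl N16754 D19574
theorem N19539 : nd 19539 = n19575 := ndS (p := 16756) (l := 3) rfl N16756 D19575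
theorem N19540 : nd 19540 = n19576 := ndS (p := 16758) (l := 1) rfl N16758 D19576
theorem N19541 : nd 19541 = n19577 := ndS (p := 16758) (l := 3) rfl N16758 D19577
theorem N19542 : nd 19542 = n19578 := ndS (p := 16759) (l := 0) rfl N16759 D19578
theorem N19543 : nd 19543 = n19579 := ndS (p := 16761) (l := 0) rfl N16761 D19579
theorem N19544 : nd 19544 = n19580 := ndS (p := 16761) (l := 3) rfl N16761 D19580
theorem N19545 : nd 19545 = n19581 := ndS (p := 16764) (l := 4) rfl N16764 D19581
theorem N19546 : nd 19546 = n19582 := ndS (p := 16765) (l := 3) rfl N16765 D19582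
theorem N19547 : nd 19547 = n19583 := ndS (p := 16767) (l := 4) rfl N16767 D19583
theorem N19548 : nd 19548 = n19584 := ndS (p := 16768) (l := 3) rfl N16768 D19584
theorem N19549 : nd 19549 = n19585 := ndS (p := 16769) (l := 3) rfl N16769 D19585
theorem N19550 : nd 19550 = n19586 := ndS (p := 16769) (l := 5) rfl N16769 D19586
theorem N19551 : nd 19551 = n19587 := ndS (p := 16770) (l := 2) rfl N16770 D19587
theorem N19552 : nd 19552 = n19588 := ndS (p := 16771) (l := 1) rfl N16771 D19588
theorem N19553 : nd 19553 = n19589 := ndS (p := 16771) (l := 3) rfl N16771 D19589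
theorem N19554 : nd 19554 = n19590 := ndS (p := 16771) (l := 5) rfl N16771 D19590
theorem N19555 : nd 19555 = n19591 := ndS (p := 16772) (l := 4) rfl N16772 D19591
theorem N19556 : nd 19556 = n19592 := ndS (p := 16773) (l := 0) rfl N16773 D19592
theorem N19557 : nd 19557 = n19593 := ndS (p := 16773) (l := 3) rfl N16773 D19593
theorem N19558 : nd 19558 = n19594 := ndS (p := 16774) (l := 4) rfl N16774 D19594
theorem N19559 : nd 19559 = n19595 := ndS (p := 16774) (l := 5) rfl N16774 D19595
theorem N19560 : nd 19560 = n19596 := ndS (p := 16775) (l := 4) rfl N16775 D19596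
theorem N19561 : nd 19561 = n19597 := ndS (p := 16777) (l := 0) rfl N16777 D19597
theorem N19562 : nd 19562 = n19598 := ndS (p := 16777) (l := 3) rfl N16777 D19598
theorem N19563 : nd 19563 = n19599 := ndS (p := 16777) (l := 5) rfl N16777 D19599
theorem N19564 : nd 19564 = n19600 := ndS (p := 16778) (l := 2) rfl N16778 D19600
theorem N19565 : nd 19565 = n19601 := ndS (p := 16778) (l := 5) rfl N16778 D19601
theorem N19566 : nd 19566 = n19602 := ndS (p := 16783) (l := 4) rfl N16783 D19602
theorem N19567 : nd 19567 = n19603 := ndS (p := 16784) (l := 0) rfl N16784 D19603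
theorem N19568 : nd 19568 = n19604 := ndS (p := 16784) (l := 3) rfl N16784 D19604
theorem N19569 : nd 19569 = n19605 := ndS (p := 16785) (l := 4) rfl N16785 D19605
theorem N19570 : nd 19570 = n19606 := ndS (p := 16786) (l := 4) rfl N16786 D19606
theorem N19571 : nd 19571 = n19607 := ndS (p := 16788) (l := 3) rfl N16788 D19607
theorem N19572 : nd 19572 = n19608 := ndS (p := 16788) (l := 5) rfl N16788 D19608
theorem N19573 : nd 19573 = n19609 := ndS (p := 16789) (l := 2) rfl N16789 D19609
theorem N19574 : nd 19574 = n19610 := ndS (p := 16789) (l := 4) rfl N16789 D19610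
theorem N19575 : nd 19575 = n19611 := ndS (p := 16789) (l := 5) rfl N16789 D19611
theorem N19576 : nd 19576 = n19612 := ndS (p := 16790) (l := 4) rfl N16790 D19612
theorem N19577 : nd 19577 = n19613 := ndS (p := 16791) (l := 1) rfl N16791 D19613
theorem N19578 : nd 19578 = n19614 := ndS (p := 16791) (l := 4) rfl N16791 D19614
theorem N19579 : nd 19579 = n19615 := ndS (p := 16792) (l := 5) rfl N16792 D19615
theorem N19580 : nd 19580 = n19616 := ndS (p := 16793) (l := 4) rfl N16793 D19616
theorem N19581 : nd 19581 = n19617 := ndS (p := 16794) (l := 3) rfl N16794 D19617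
theorem N19582 : nd 19582 = n19618 := ndS (p := 16795) (l := 4) rfl N16795 D19618
theorem N19583 : nd 19583 = n19619 := ndS (p := 16796) (l := 4) rfl N16796 D19619
theorem N19584 : nd 19584 = n19620 := ndS (p := 16797) (l := 4) rfl N16797 D19620
theorem N19585 : nd 19585 = n19621 := ndS (p := 16798) (l := 5) rfl N16798 D19621
theorem N19586 : nd 19586 = n19622 := ndS (p := 16799) (l := 3) rfl N16799 D19622
theorem N19587 : nd 19587 = n19623 := ndS (p := 16801) (l := 2) rfl N16801 D19623
theorem N19588 : nd 19588 = n19624 := ndS (p := 16803) (l := 4) rfl N16803 D19624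
theorem N19589 : nd 19589 = n19625 := ndS (p := 16804) (l := 4) rfl N16804 D19625
theorem N19590 : nd 19590 = n19626 := ndS (p := 16805) (l := 5) rfl N16805 D19626
theorem N19591 : nd 19591 = n19627 := ndS (p := 16807) (l := 3) rfl N16807 D19627
theorem N19592 : nd 19592 = n19628 := ndS (p := 16807) (l := 4) rfl N16807 D19628
theorem N19593 : nd 19593 = n19629 := ndS (p := 16808) (l := 5) rfl N16808 D19629
theorem N19594 : nd 19594 = n19630 := ndS (p := 16810) (l := 4) rfl N16810 D19630
theorem N19595 : nd 19595 = n19631 := ndS (p := 16811) (l := 3) rfl N16811 D19631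
theorem N19596 : nd 19596 = n19632 := ndS (p := 16811) (l := 5) rfl N16811 D19632
theorem N19597 : nd 19597 = n19633 := ndS (p := 16812) (l := 2) rfl N16812 D19633
theorem N19598 : nd 19598 = n19634 := ndS (p := 16814) (l := 3) rfl N16814 D19634
theorem N19599 : nd 19599 = n19635 := ndS (p := 16814) (l := 4) rfl N16814 D19635
theorem N19600 : nd 19600 = n19636 := ndS (p := 16816) (l := 4) rfl N16816 D19636
theorem N19601 : nd 19601 = n19637 := ndS (p := 16817) (l := 3) rfl N16817 D19637
theorem N19602 : nd 19602 = n19638 := ndS (p := 16817) (l := 5) rfl N16817 D19638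
theorem N19603 : nd 19603 = n19639 := ndS (p := 16819) (l := 4) rfl N16819 D19639
theorem N19604 : nd 19604 = n19640 := ndS (p := 16820) (l := 5) rfl N16820 D19640
theorem N19605 : nd 19605 = n19641 := ndS (p := 16822) (l := 5) rfl N16822 D19641
theorem N19606 : nd 19606 = n19642 := ndS (p := 16823) (l := 2) rfl N16823 D19642
theorem N19607 : nd 19607 = n19643 := ndS (p := 16823) (l := 5) rfl N16823 D19643
theorem N19608 : nd 19608 = n19644 := ndS (p := 16825) (l := 1) rfl N16825 D19644
theorem N19609 : nd 19609 = n19645 := ndS (p := 16825) (l := 3) rfl N16825 D19645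
theorem N19610 : nd 19610 = n19646 := ndS (p := 16825) (l := 5) rfl N16825 D19646
theorem N19611 : nd 19611 = n19647 := ndS (p := 16826) (l := 4) rfl N16826 D19647
theorem N19612 : nd 19612 = n19648 := ndS (p := 16827) (l := 0) rfl N16827 D19648
theorem N19613 : nd 19613 = n19649 := ndS (p := 16827) (l := 3) rfl N16827 D19649
theorem N19614 : nd 19614 = n19650 := ndS (p := 16827) (l := 5) rfl N16827 D19650
theorem N19615 : nd 19615 = n19651 := ndS (p := 16828) (l := 4) rfl N16828 D19651
theorem N19616 : nd 19616 = n19652 := ndS (p := 16829) (l := 4) rfl N16829 D19652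
theorem N19617 : nd 19617 = n19653 := ndS (p := 16832) (l := 4) rfl N16832 D19653
theorem N19618 : nd 19618 = n19654 := ndS (p := 16833) (l := 5) rfl N16833 D19654
theorem N19619 : nd 19619 = n19655 := ndS (p := 16834) (l := 3) rfl N16834 D19655
theorem N19620 : nd 19620 = n19656 := ndS (p := 16835) (l := 3) rfl N16835 D19656
theorem N19621 : nd 19621 = n19657 := ndS (p := 16835) (l := 5) rfl N16835 D19657
theorem N19622 : nd 19622 = n19658 := ndS (p := 16836) (l := 2) rfl N16836 D19658
theorem N19623 : nd 19623 = n19659 := ndS (p := 16836) (l := 5) rfl N16836 D19659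
theorem N19624 : nd 19624 = n19660 := ndS (p := 16838) (l := 1) rfl N16838 D19660
theorem N19625 : nd 19625 = n19661 := ndS (p := 16839) (l := 4) rfl N16839 D19661
theorem N19626 : nd 19626 = n19662 := ndS (p := 16840) (l := 3) rfl N16840 D19662
theorem N19627 : nd 19627 = n19663 := ndS (p := 16840) (l := 5) rfl N16840 D19663
theorem N19628 : nd 19628 = n19664 := ndS (p := 16841) (l := 2) rfl N16841 D19664
theorem N19629 : nd 19629 = n19665 := ndS (p := 16841) (l := 4) rfl N16841 D19665
theorem N19630 : nd 19630 = n19666 := ndS (p := 16843) (l := 5) rfl N16843 D19666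
theorem N19631 : nd 19631 = n19667 := ndS (p := 16844) (l := 3) rfl N16844 D19667
theorem N19632 : nd 19632 = n19668 := ndS (p := 16845) (l := 2) rfl N16845 D19668
theorem N19633 : nd 19633 = n19669 := ndS (p := 16845) (l := 4) rfl N16845 D19669
theorem N19634 : nd 19634 = n19670 := ndS (p := 16845) (l := 5) rfl N16845 D19670
theorem N19635 : nd 19635 = n19671 := ndS (p := 16846) (l := 4) rfl N16846 D19671
theorem N19636 : nd 19636 = n19672 := ndS (p := 16847) (l := 1) rfl N16847 D19672
theorem N19637 : nd 19637 = n19673 := ndS (p := 16847) (l := 3) rfl N16847 D19673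
theorem N19638 : nd 19638 = n19674 := ndS (p := 16847) (l := 4) rfl N16847 D19674
theorem N19639 : nd 19639 = n19675 := ndS (p := 16847) (l := 5) rfl N16847 D19675
theorem N19640 : nd 19640 = n19676 := ndS (p := 16848) (l := 5) rfl N16848 D19676
theorem N19641 : nd 19641 = n19677 := ndS (p := 16849) (l := 4) rfl N16849 D19677
theorem N19642 : nd 19642 = n19678 := ndS (p := 16850) (l := 3) rfl N16850 D19678
theorem N19643 : nd 19643 = n19679 := ndS (p := 16851) (l := 4) rfl N16851 D19679
theorem N19644 : nd 19644 = n19680 := ndS (p := 16852) (l := 5) rfl N16852 D19680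
theorem N19645 : nd 19645 = n19681 := ndS (p := 16853) (l := 4) rfl N16853 D19681
theorem N19646 : nd 19646 = n19682 := ndS (p := 16854) (l := 3) rfl N16854 D19682
theorem N19647 : nd 19647 = n19683 := ndS (p := 16855) (l := 2) rfl N16855 D19683
theorem N19648 : nd 19648 = n19684 := ndS (p := 16856) (l := 1) rfl N16856 D19684
theorem N19649 : nd 19649 = n19685 := ndS (p := 16856) (l := 4) rfl N16856 D19685
theorem N19650 : nd 19650 = n19686 := ndS (p := 16857) (l := 5) rfl N16857 D19686
theorem N19651 : nd 19651 = n19687 := ndS (p := 16858) (l := 3) rfl N16858 D19687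
theorem N19652 : nd 19652 = n19688 := ndS (p := 16860) (l := 5) rfl N16860 D19688
theorem N19653 : nd 19653 = n19689 := ndS (p := 16862) (l := 2) rfl N16862 D19689
theorem N19654 : nd 19654 = n19690 := ndS (p := 16863) (l := 1) rfl N16863 D19690
theorem N19655 : nd 19655 = n19691 := ndS (p := 16863) (l := 3) rfl N16863 D19691
theorem N19656 : nd 19656 = n19692 := ndS (p := 16864) (l := 3) rfl N16864 D19692
theorem N19657 : nd 19657 = n19693 := ndS (p := 16864) (l := 5) rfl N16864 D19693
theorem N19658 : nd 19658 = n19694 := ndS (p := 16868) (l := 4) rfl N16868 D19694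
theorem N19659 : nd 19659 = n19695 := ndS (p := 16868) (l := 5) rfl N16868 D19695
theorem N19660 : nd 19660 = n19696 := ndS (p := 16869) (l := 4) rfl N16869 D19696
theorem N19661 : nd 19661 = n19697 := ndS (p := 16870) (l := 4) rfl N16870 D19697
theorem N19662 : nd 19662 = n19698 := ndS (p := 16870) (l := 5) rfl N16870 D19698
theorem N19663 : nd 19663 = n19699 := ndS (p := 16871) (l := 5) rfl N16871 D19699
theorem N19664 : nd 19664 = n19700 := ndS (p := 16872) (l := 4) rfl N16872 D19700
theorem N19665 : nd 19665 = n19701 := ndS (p := 16873) (l := 3) rfl N16873 D19701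
theorem N19666 : nd 19666 = n19702 := ndS (p := 16875) (l := 4) rfl N16875 D19702
theorem N19667 : nd 19667 = n19703 := ndS (p := 16876) (l := 3) rfl N16876 D19703
theorem N19668 : nd 19668 = n19704 := ndS (p := 16877) (l := 2) rfl N16877 D19704
theorem N19669 : nd 19669 = n19705 := ndS (p := 16878) (l := 3) rfl N16878 D19705
theorem N19670 : nd 19670 = n19706 := ndS (p := 16880) (l := 3) rfl N16880 D19706
theorem N19671 : nd 19671 = n19707 := ndS (p := 16881) (l := 2) rfl N16881 D19707
theorem N19672 : nd 19672 = n19708 := ndS (p := 16881) (l := 4) rfl N16881 D19708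
theorem N19673 : nd 19673 = n19709 := ndS (p := 16882) (l := 3) rfl N16882 D19709
theorem N19674 : nd 19674 = n19710 := ndS (p := 16884) (l := 2) rfl N16884 D19710
theorem N19675 : nd 19675 = n19711 := ndS (p := 16885) (l := 1) rfl N16885 D19711
theorem N19676 : nd 19676 = n19712 := ndS (p := 16885) (l := 3) rfl N16885 D19712
theorem N19677 : nd 19677 = n19713 := ndS (p := 16886) (l := 4) rfl N16886 D19713
theorem N19678 : nd 19678 = n19714 := ndS (p := 16888) (l := 3) rfl N16888 D19714
theorem N19679 : nd 19679 = n19715 := ndS (p := 16888) (l := 4) rfl N16888 D19715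
theorem N19680 : nd 19680 = n19716 := ndS (p := 16889) (l := 4) rfl N16889 D19716
theorem N19681 : nd 19681 = n19717 := ndS (p := 16889) (l := 5) rfl N16889 D19717
theorem N19682 : nd 19682 = n19718 := ndS (p := 16890) (l := 3) rfl N16890 D19718
theorem N19683 : nd 19683 = n19719 := ndS (p := 16890) (l := 5) rfl N16890 D19719
theorem N19684 : nd 19684 = n19720 := ndS (p := 16893) (l := 3) rfl N16893 D19720
theorem N19685 : nd 19685 = n19721 := ndS (p := 16893) (l := 5) rfl N16893 D19721
theorem N19686 : nd 19686 = n19722 := ndS (p := 16894) (l := 5) rfl N16894 D19722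
theorem N19687 : nd 19687 = n19723 := ndS (p := 16896) (l := 3) rfl N16896 D19723
theorem N19688 : nd 19688 = n19724 := ndS (p := 16897) (l := 4) rfl N16897 D19724
theorem N19689 : nd 19689 = n19725 := ndS (p := 16898) (l := 4) rfl N16898 D19725
theorem N19690 : nd 19690 = n19726 := ndS (p := 16899) (l := 5) rfl N16899 D19726
theorem N19691 : nd 19691 = n19727 := ndS (p := 16900) (l := 3) rfl N16900 D19727
theorem N19692 : nd 19692 = n19728 := ndS (p := 16901) (l := 5) rfl N16901 D19728
theorem N19693 : nd 19693 = n19729 := ndS (p := 16902) (l := 2) rfl N16902 D19729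
theorem N19694 : nd 19694 = n19730 := ndS (p := 16902) (l := 4) rfl N16902 D19730
theorem N19695 : nd 19695 = n19731 := ndS (p := 16903) (l := 3) rfl N16903 D19731
theorem N19696 : nd 19696 = n19732 := ndS (p := 16903) (l := 5) rfl N16903 D19732
theorem N19697 : nd 19697 = n19733 := ndS (p := 16905) (l := 2) rfl N16905 D19733
theorem N19698 : nd 19698 = n19734 := ndS (p := 16907) (l := 2) rfl N16907 D19734
theorem N19699 : nd 19699 = n19735 := ndS (p := 16910) (l := 1) rfl N16910 D19735
theorem N19700 : nd 19700 = n19736 := ndS (p := 16911) (l := 0) rfl N16911 D19736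
theorem N19701 : nd 19701 = n19737 := ndS (p := 16914) (l := 2) rfl N16914 D19737
theorem N19702 : nd 19702 = n19738 := ndS (p := 16916) (l := 1) rfl N16916 D19738
theorem N19703 : nd 19703 = n19739 := ndS (p := 16917) (l := 3) rfl N16917 D19739
theorem N19704 : nd 19704 = n19740 := ndS (p := 16918) (l := 2) rfl N16918 D19740
theorem N19705 : nd 19705 = n19741 := ndS (p := 16920) (l := 1) rfl N16920 D19741
theorem N19706 : nd 19706 = n19742 := ndS (p := 16920) (l := 3) rfl N16920 D19742
theorem N19707 : nd 19707 = n19743 := ndS (p := 16920) (l := 5) rfl N16920 D19743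
theorem N19708 : nd 19708 = n19744 := ndS (p := 16922) (l := 0) rfl N16922 D19744
theorem N19709 : nd 19709 = n19745 := ndS (p := 16923) (l := 3) rfl N16923 D19745
theorem N19710 : nd 19710 = n19746 := ndS (p := 16924) (l := 2) rfl N16924 D19746
theorem N19711 : nd 19711 = n19747 := ndS (p := 16926) (l := 4) rfl N16926 D19747
theorem N19712 : nd 19712 = n19748 := ndS (p := 16927) (l := 4) rfl N16927 D19748
theorem N19713 : nd 19713 = n19749 := ndS (p := 16928) (l := 4) rfl N16928 D19749
theorem N19714 : nd 19714 = n19750 := ndS (p := 16929) (l := 5) rfl N16929 D19750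
theorem N19715 : nd 19715 = n19751 := ndS (p := 16930) (l := 3) rfl N16930 D19751
theorem N19716 : nd 19716 = n19752 := ndS (p := 16932) (l := 2) rfl N16932 D19752
theorem N19717 : nd 19717 = n19753 := ndS (p := 16933) (l := 3) rfl N16933 D19753
theorem N19718 : nd 19718 = n19754 := ndS (p := 16933) (l := 4) rfl N16933 D19754
theorem N19719 : nd 19719 = n19755 := ndS (p := 16934) (l := 5) rfl N16934 D19755
theorem N19720 : nd 19720 = n19756 := ndS (p := 16935) (l := 3) rfl N16935 D19756
theorem N19721 : nd 19721 = n19757 := ndS (p := 16936) (l := 2) rfl N16936 D19757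
theorem N19722 : nd 19722 = n19758 := ndS (p := 16939) (l := 2) rfl N16939 D19758
theorem N19723 : nd 19723 = n19759 := ndS (p := 16940) (l := 1) rfl N16940 D19759
theorem N19724 : nd 19724 = n19760 := ndS (p := 16940) (l := 3) rfl N16940 D19760
theorem N19725 : nd 19725 = n19761 := ndS (p := 16943) (l := 0) rfl N16943 D19761
theorem N19726 : nd 19726 = n19762 := ndS (p := 16943) (l := 3) rfl N16943 D19762
theorem N19727 : nd 19727 = n19763 := ndS (p := 16946) (l := 0) rfl N16946 D19763
theorem N19728 : nd 19728 = n19764 := ndS (p := 16946) (l := 3) rfl N16946 D19764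
theorem N19729 : nd 19729 = n19765 := ndS (p := 16947) (l := 4) rfl N16947 D19765
theorem N19730 : nd 19730 = n19766 := ndS (p := 16949) (l := 4) rfl N16949 D19766
theorem N19731 : nd 19731 = n19767 := ndS (p := 16950) (l := 3) rfl N16950 D19767
theorem N19732 : nd 19732 = n19768 := ndS (p := 16952) (l := 4) rfl N16952 D19768
theorem N19733 : nd 19733 = n19769 := ndS (p := 16953) (l := 4) rfl N16953 D19769
theorem N19734 : nd 19734 = n19770 := ndS (p := 16954) (l := 5) rfl N16954 D19770
theorem N19735 : nd 19735 = n19771 := ndS (p := 16955) (l := 3) rfl N16955 D19771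
theorem N19736 : nd 19736 = n19772 := ndS (p := 16958) (l := 4) rfl N16958 D19772
theorem N19737 : nd 19737 = n19773 := ndS (p := 16959) (l := 5) rfl N16959 D19773
theorem N19738 : nd 19738 = n19774 := ndS (p := 16961) (l := 3) rfl N16961 D19774
theorem N19739 : nd 19739 = n19775 := ndS (p := 16962) (l := 4) rfl N16962 D19775
theorem N19740 : nd 19740 = n19776 := ndS (p := 16963) (l := 3) rfl N16963 D19776
theorem N19741 : nd 19741 = n19777 := ndS (p := 16963) (l := 5) rfl N16963 D19777
theorem N19742 : nd 19742 = n19778 := ndS (p := 16966) (l := 2) rfl N16966 D19778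
theorem N19743 : nd 19743 = n19779 := ndS (p := 16968) (l := 4) rfl N16968 D19779
theorem N19744 : nd 19744 = n19780 := ndS (p := 16969) (l := 5) rfl N16969 D19780
theorem N19745 : nd 19745 = n19781 := ndS (p := 16970) (l := 3) rfl N16970 D19781
theorem N19746 : nd 19746 = n19782 := ndS (p := 16972) (l := 3) rfl N16972 D19782
theorem N19747 : nd 19747 = n19783 := ndS (p := 16972) (l := 5) rfl N16972 D19783
theorem N19748 : nd 19748 = n19784 := ndS (p := 16974) (l := 2) rfl N16974 D19784
theorem N19749 : nd 19749 = n19785 := ndS (p := 16975) (l := 1) rfl N16975 D19785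
theorem N19750 : nd 19750 = n19786 := ndS (p := 16976) (l := 0) rfl N16976 D19786
theorem N19751 : nd 19751 = n19787 := ndS (p := 16976) (l := 3) rfl N16976 D19787
theorem N19752 : nd 19752 = n19788 := ndS (p := 16979) (l := 2) rfl N16979 D19788
theorem N19753 : nd 19753 = n19789 := ndS (p := 16979) (l := 4) rfl N16979 D19789
theorem N19754 : nd 19754 = n19790 := ndS (p := 16980) (l := 3) rfl N16980 D19790
theorem N19755 : nd 19755 = n19791 := ndS (p := 16980) (l := 4) rfl N16980 D19791
theorem N19756 : nd 19756 = n19792 := ndS (p := 16981) (l := 5) rfl N16981 D19792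
theorem N19757 : nd 19757 = n19793 := ndS (p := 16985) (l := 2) rfl N16985 D19793
theorem N19758 : nd 19758 = n19794 := ndS (p := 16986) (l := 2) rfl N16986 D19794
theorem N19759 : nd 19759 = n19795 := ndS (p := 16988) (l := 1) rfl N16988 D19795
theorem N19760 : nd 19760 = n19796 := ndS (p := 16988) (l := 3) rfl N16988 D19796
theorem N19761 : nd 19761 = n19797 := ndS (p := 16989) (l := 0) rfl N16989 D19797
theorem N19762 : nd 19762 = n19798 := ndS (p := 16989) (l := 3) rfl N16989 D19798
theorem N19763 : nd 19763 = n19799 := ndS (p := 16991) (l := 3) rfl N16991 D19799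
theorem N19764 : nd 19764 = n19800 := ndS (p := 16992) (l := 2) rfl N16992 D19800
theorem N19765 : nd 19765 = n19801 := ndS (p := 16993) (l := 1) rfl N16993 D19801
theorem N19766 : nd 19766 = n19802 := ndS (p := 16995) (l := 5) rfl N16995 D19802
theorem N19767 : nd 19767 = n19803 := ndS (p := 16997) (l := 5) rfl N16997 D19803
theorem N19768 : nd 19768 = n19804 := ndS (p := 16999) (l := 3) rfl N16999 D19804
theorem N19769 : nd 19769 = n19805 := ndS (p := 16999) (l := 5) rfl N16999 D19805
theorem N19770 : nd 19770 = n19806 := ndS (p := 17000) (l := 2) rfl N17000 D19806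
theorem N19771 : nd 19771 = n19807 := ndS (p := 17002) (l := 3) rfl N17002 D19807
theorem N19772 : nd 19772 = n19808 := ndS (p := 17002) (l := 5) rfl N17002 D19808
theorem N19773 : nd 19773 = n19809 := ndS (p := 17003) (l := 2) rfl N17003 D19809
theorem N19774 : nd 19774 = n19810 := ndS (p := 17003) (l := 5) rfl N17003 D19810
theorem N19775 : nd 19775 = n19811 := ndS (p := 17005) (l := 2) rfl N17005 D19811
theorem N19776 : nd 19776 = n19812 := ndS (p := 17005) (l := 5) rfl N17005 D19812
theorem N19777 : nd 19777 = n19813 := ndS (p := 17007) (l := 1) rfl N17007 D19813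
theorem N19778 : nd 19778 = n19814 := ndS (p := 17007) (l := 5) rfl N17007 D19814
theorem N19779 : nd 19779 = n19815 := ndS (p := 17008) (l := 4) rfl N17008 D19815
theorem N19780 : nd 19780 = n19816 := ndS (p := 17010) (l := 3) rfl N17010 D19816
theorem N19781 : nd 19781 = n19817 := ndS (p := 17010) (l := 5) rfl N17010 D19817
theorem N19782 : nd 19782 = n19818 := ndS (p := 17011) (l := 2) rfl N17011 D19818
theorem N19783 : nd 19783 = n19819 := ndS (p := 17013) (l := 3) rfl N17013 D19819
theorem N19784 : nd 19784 = n19820 := ndS (p := 17015) (l := 4) rfl N17015 D19820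
theorem N19785 : nd 19785 = n19821 := ndS (p := 17016) (l := 3) rfl N17016 D19821
theorem N19786 : nd 19786 = n19822 := ndS (p := 17016) (l := 5) rfl N17016 D19822
theorem N19787 : nd 19787 = n19823 := ndS (p := 17020) (l := 3) rfl N17020 D19823
theorem N19788 : nd 19788 = n19824 := ndS (p := 17020) (l := 5) rfl N17020 D19824
theorem N19789 : nd 19789 = n19825 := ndS (p := 17022) (l := 1) rfl N17022 D19825
theorem N19790 : nd 19790 = n19826 := ndS (p := 17022) (l := 3) rfl N17022 D19826
theorem N19791 : nd 19791 = n19827 := ndS (p := 17022) (l := 5) rfl N17022 D19827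
theorem N19792 : nd 19792 = n19828 := ndS (p := 17023) (l := 4) rfl N17023 D19828
theorem N19793 : nd 19793 = n19829 := ndS (p := 17024) (l := 0) rfl N17024 D19829
theorem N19794 : nd 19794 = n19830 := ndS (p := 17024) (l := 3) rfl N17024 D19830
theorem N19795 : nd 19795 = n19831 := ndS (p := 17025) (l := 5) rfl N17025 D19831
theorem N19796 : nd 19796 = n19832 := ndS (p := 17026) (l := 4) rfl N17026 D19832
theorem N19797 : nd 19797 = n19833 := ndS (p := 17029) (l := 1) rfl N17029 D19833
theorem N19798 : nd 19798 = n19834 := ndS (p := 17029) (l := 3) rfl N17029 D19834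
theorem N19799 : nd 19799 = n19835 := ndS (p := 17031) (l := 4) rfl N17031 D19835
theorem N19800 : nd 19800 = n19836 := ndS (p := 17032) (l := 5) rfl N17032 D19836
theorem N19801 : nd 19801 = n19837 := ndS (p := 17034) (l := 3) rfl N17034 D19837
theorem N19802 : nd 19802 = n19838 := ndS (p := 17035) (l := 2) rfl N17035 D19838
theorem N19803 : nd 19803 = n19839 := ndS (p := 17036) (l := 1) rfl N17036 D19839
theorem N19804 : nd 19804 = n19840 := ndS (p := 17036) (l := 3) rfl N17036 D19840
theorem N19805 : nd 19805 = n19841 := ndS (p := 17036) (l := 4) rfl N17036 D19841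
theorem N19806 : nd 19806 = n19842 := ndS (p := 17037) (l := 5) rfl N17037 D19842
theorem N19807 : nd 19807 = n19843 := ndS (p := 17039) (l := 3) rfl N17039 D19843
theorem N19808 : nd 19808 = n19844 := ndS (p := 17039) (l := 5) rfl N17039 D19844
theorem N19809 : nd 19809 = n19845 := ndS (p := 17041) (l := 2) rfl N17041 D19845
theorem N19810 : nd 19810 = n19846 := ndS (p := 17042) (l := 0) rfl N17042 D19846
theorem N19811 : nd 19811 = n19847 := ndS (p := 17042) (l := 3) rfl N17042 D19847
theorem N19812 : nd 19812 = n19848 := ndS (p := 17042) (l := 4) rfl N17042 D19848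
theorem N19813 : nd 19813 = n19849 := ndS (p := 17042) (l := 5) rfl N17042 D19849
theorem N19814 : nd 19814 = n19850 := ndS (p := 17043) (l := 4) rfl N17043 D19850
theorem N19815 : nd 19815 = n19851 := ndS (p := 17044) (l := 3) rfl N17044 D19851
theorem N19816 : nd 19816 = n19852 := ndS (p := 17044) (l := 5) rfl N17044 D19852
theorem N19817 : nd 19817 = n19853 := ndS (p := 17045) (l := 4) rfl N17045 D19853
theorem N19818 : nd 19818 = n19854 := ndS (p := 17046) (l := 4) rfl N17046 D19854
theorem N19819 : nd 19819 = n19855 := ndS (p := 17047) (l := 3) rfl N17047 D19855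
theorem N19820 : nd 19820 = n19856 := ndS (p := 17049) (l := 4) rfl N17049 D19856
theorem N19821 : nd 19821 = n19857 := ndS (p := 17050) (l := 4) rfl N17050 D19857
theorem N19822 : nd 19822 = n19858 := ndS (p := 17051) (l := 3) rfl N17051 D19858
theorem N19823 : nd 19823 = n19859 := ndS (p := 17051) (l := 5) rfl N17051 D19859
theorem N19824 : nd 19824 = n19860 := ndS (p := 17052) (l := 4) rfl N17052 D19860
theorem N19825 : nd 19825 = n19861 := ndS (p := 17053) (l := 3) rfl N17053 D19861
theorem N19826 : nd 19826 = n19862 := ndS (p := 17053) (l := 5) rfl N17053 D19862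
theorem N19827 : nd 19827 = n19863 := ndS (p := 17054) (l := 4) rfl N17054 D19863
theorem N19828 : nd 19828 = n19864 := ndS (p := 17055) (l := 2) rfl N17055 D19864
theorem N19829 : nd 19829 = n19865 := ndS (p := 17055) (l := 5) rfl N17055 D19865
theorem N19830 : nd 19830 = n19866 := ndS (p := 17056) (l := 4) rfl N17056 D19866
theorem N19831 : nd 19831 = n19867 := ndS (p := 17057) (l := 3) rfl N17057 D19867
theorem N19832 : nd 19832 = n19868 := ndS (p := 17059) (l := 2) rfl N17059 D19868
theorem N19833 : nd 19833 = n19869 := ndS (p := 17060) (l := 1) rfl N17060 D19869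
theorem N19834 : nd 19834 = n19870 := ndS (p := 17061) (l := 3) rfl N17061 D19870
theorem N19835 : nd 19835 = n19871 := ndS (p := 17061) (l := 5) rfl N17061 D19871
theorem N19836 : nd 19836 = n19872 := ndS (p := 17062) (l := 2) rfl N17062 D19872
theorem N19837 : nd 19837 = n19873 := ndS (p := 17065) (l := 4) rfl N17065 D19873
theorem N19838 : nd 19838 = n19874 := ndS (p := 17066) (l := 3) rfl N17066 D19874
theorem N19839 : nd 19839 = n19875 := ndS (p := 17067) (l := 3) rfl N17067 D19875
theorem N19840 : nd 19840 = n19876 := ndS (p := 17067) (l := 5) rfl N17067 D19876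
theorem N19841 : nd 19841 = n19877 := ndS (p := 17068) (l := 2) rfl N17068 D19877
theorem N19842 : nd 19842 = n19878 := ndS (p := 17069) (l := 4) rfl N17069 D19878
theorem N19843 : nd 19843 = n19879 := ndS (p := 17070) (l := 3) rfl N17070 D19879
theorem N19844 : nd 19844 = n19880 := ndS (p := 17070) (l := 5) rfl N17070 D19880
theorem N19845 : nd 19845 = n19881 := ndS (p := 17071) (l := 2) rfl N17071 D19881
theorem N19846 : nd 19846 = n19882 := ndS (p := 17073) (l := 1) rfl N17073 D19882
theorem N19847 : nd 19847 = n19883 := ndS (p := 17073) (l := 3) rfl N17073 D19883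
theorem N19848 : nd 19848 = n19884 := ndS (p := 17074) (l := 0) rfl N17074 D19884
theorem N19849 : nd 19849 = n19885 := ndS (p := 17077) (l := 5) rfl N17077 D19885
theorem N19850 : nd 19850 = n19886 := ndS (p := 17080) (l := 4) rfl N17080 D19886
theorem N19851 : nd 19851 = n19887 := ndS (p := 17081) (l := 5) rfl N17081 D19887
theorem N19852 : nd 19852 = n19888 := ndS (p := 17082) (l := 5) rfl N17082 D19888
theorem N19853 : nd 19853 = n19889 := ndS (p := 17084) (l := 4) rfl N17084 D19889
theorem N19854 : nd 19854 = n19890 := ndS (p := 17086) (l := 4) rfl N17086 D19890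
theorem N19855 : nd 19855 = n19891 := ndS (p := 17088) (l := 3) rfl N17088 D19891
theorem N19856 : nd 19856 = n19892 := ndS (p := 17088) (l := 5) rfl N17088 D19892
theorem N19857 : nd 19857 = n19893 := ndS (p := 17090) (l := 2) rfl N17090 D19893
theorem N19858 : nd 19858 = n19894 := ndS (p := 17090) (l := 5) rfl N17090 D19894
theorem N19859 : nd 19859 = n19895 := ndS (p := 17092) (l := 1) rfl N17092 D19895
theorem N19860 : nd 19860 = n19896 := ndS (p := 17092) (l := 5) rfl N17092 D19896
theorem N19861 : nd 19861 = n19897 := ndS (p := 17093) (l := 4) rfl N17093 D19897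
theorem N19862 : nd 19862 = n19898 := ndS (p := 17094) (l := 4) rfl N17094 D19898
theorem N19863 : nd 19863 = n19899 := ndS (p := 17095) (l := 4) rfl N17095 D19899
theorem N19864 : nd 19864 = n19900 := ndS (p := 17096) (l := 3) rfl N17096 D19900
theorem N19865 : nd 19865 = n19901 := ndS (p := 17096) (l := 5) rfl N17096 D19901
theorem N19866 : nd 19866 = n19902 := ndS (p := 17098) (l := 2) rfl N17098 D19902
theorem N19867 : nd 19867 = n19903 := ndS (p := 17099) (l := 4) rfl N17099 D19903
theorem N19868 : nd 19868 = n19904 := ndS (p := 17100) (l := 3) rfl N17100 D19904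
theorem N19869 : nd 19869 = n19905 := ndS (p := 17100) (l := 5) rfl N17100 D19905
theorem N19870 : nd 19870 = n19906 := ndS (p := 17101) (l := 2) rfl N17101 D19906
theorem N19871 : nd 19871 = n19907 := ndS (p := 17101) (l := 5) rfl N17101 D19907
theorem N19872 : nd 19872 = n19908 := ndS (p := 17103) (l := 1) rfl N17103 D19908
theorem N19873 : nd 19873 = n19909 := ndS (p := 17103) (l := 3) rfl N17103 D19909
theorem N19874 : nd 19874 = n19910 := ndS (p := 17104) (l := 0) rfl N17104 D19910
theorem N19875 : nd 19875 = n19911 := ndS (p := 17105) (l := 4) rfl N17105 D19911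
theorem N19876 : nd 19876 = n19912 := ndS (p := 17106) (l := 3) rfl N17106 D19912
theorem N19877 : nd 19877 = n19913 := ndS (p := 17106) (l := 5) rfl N17106 D19913
theorem N19878 : nd 19878 = n19914 := ndS (p := 17108) (l := 2) rfl N17108 D19914
theorem N19879 : nd 19879 = n19915 := ndS (p := 17108) (l := 5) rfl N17108 D19915
theorem N19880 : nd 19880 = n19916 := ndS (p := 17109) (l := 4) rfl N17109 D19916
theorem N19881 : nd 19881 = n19917 := ndS (p := 17111) (l := 3) rfl N17111 D19917
theorem N19882 : nd 19882 = n19918 := ndS (p := 17112) (l := 2) rfl N17112 D19918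
theorem N19883 : nd 19883 = n19919 := ndS (p := 17113) (l := 1) rfl N17113 D19919
theorem N19884 : nd 19884 = n19920 := ndS (p := 17114) (l := 3) rfl N17114 D19920
theorem N19885 : nd 19885 = n19921 := ndS (p := 17115) (l := 3) rfl N17115 D19921
theorem N19886 : nd 19886 = n19922 := ndS (p := 17115) (l := 5) rfl N17115 D19922
theorem N19887 : nd 19887 = n19923 := ndS (p := 17116) (l := 2) rfl N17116 D19923
theorem N19888 : nd 19888 = n19924 := ndS (p := 17116) (l := 5) rfl N17116 D19924
theorem N19889 : nd 19889 = n19925 := ndS (p := 17118) (l := 2) rfl N17118 D19925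
theorem N19890 : nd 19890 = n19926 := ndS (p := 17118) (l := 5) rfl N17118 D19926
theorem N19891 : nd 19891 = n19927 := ndS (p := 17120) (l := 1) rfl N17120 D19927
theorem N19892 : nd 19892 = n19928 := ndS (p := 17120) (l := 3) rfl N17120 D19928
theorem N19893 : nd 19893 = n19929 := ndS (p := 17120) (l := 5) rfl N17120 D19929
theorem N19894 : nd 19894 = n19930 := ndS (p := 17121) (l := 4) rfl N17121 D19930
theorem N19895 : nd 19895 = n19931 := ndS (p := 17122) (l := 3) rfl N17122 D19931
theorem N19896 : nd 19896 = n19932 := ndS (p := 17124) (l := 2) rfl N17124 D19932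
theorem N19897 : nd 19897 = n19933 := ndS (p := 17125) (l := 1) rfl N17125 D19933
theorem N19898 : nd 19898 = n19934 := ndS (p := 17126) (l := 0) rfl N17126 D19934
theorem N19899 : nd 19899 = n19935 := ndS (p := 17126) (l := 3) rfl N17126 D19935
theorem N19900 : nd 19900 = n19936 := ndS (p := 17128) (l := 3) rfl N17128 D19936
theorem N19901 : nd 19901 = n19937 := ndS (p := 17129) (l := 0) rfl N17129 D19937
theorem N19902 : nd 19902 = n19938 := ndS (p := 17131) (l := 3) rfl N17131 D19938
theorem N19903 : nd 19903 = n19939 := ndS (p := 17132) (l := 4) rfl N17132 D19939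
theorem N19904 : nd 19904 = n19940 := ndS (p := 17133) (l := 1) rfl N17133 D19940
theorem N19905 : nd 19905 = n19941 := ndS (p := 17133) (l := 4) rfl N17133 D19941
theorem N19906 : nd 19906 = n19942 := ndS (p := 17134) (l := 5) rfl N17134 D19942
theorem N19907 : nd 19907 = n19943 := ndS (p := 17136) (l := 4) rfl N17136 D19943
theorem N19908 : nd 19908 = n19944 := ndS (p := 17137) (l := 4) rfl N17137 D19944
theorem N19909 : nd 19909 = n19945 := ndS (p := 17139) (l := 2) rfl N17139 D19945
theorem N19910 : nd 19910 = n19946 := ndS (p := 17140) (l := 5) rfl N17140 D19946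
theorem N19911 : nd 19911 = n19947 := ndS (p := 17143) (l := 3) rfl N17143 D19947
theorem N19912 : nd 19912 = n19948 := ndS (p := 17143) (l := 5) rfl N17143 D19948
theorem N19913 : nd 19913 = n19949 := ndS (p := 17144) (l := 5) rfl N17144 D19949
theorem N19914 : nd 19914 = n19950 := ndS (p := 17146) (l := 3) rfl N17146 D19950
theorem N19915 : nd 19915 = n19951 := ndS (p := 17148) (l := 3) rfl N17148 D19951
theorem N19916 : nd 19916 = n19952 := ndS (p := 17149) (l := 2) rfl N17149 D19952
theorem N19917 : nd 19917 = n19953 := ndS (p := 17150) (l := 2) rfl N17150 D19953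
theorem N19918 : nd 19918 = n19954 := ndS (p := 17151) (l := 1) rfl N17151 D19954
theorem N19919 : nd 19919 = n19955 := ndS (p := 17151) (l := 3) rfl N17151 D19955
theorem N19920 : nd 19920 = n19956 := ndS (p := 17152) (l := 1) rfl N17152 D19956
theorem N19921 : nd 19921 = n19957 := ndS (p := 17152) (l := 3) rfl N17152 D19957
theorem N19922 : nd 19922 = n19958 := ndS (p := 17152) (l := 5) rfl N17152 D19958
theorem N19923 : nd 19923 = n19959 := ndS (p := 17153) (l := 4) rfl N17153 D19959
theorem N19924 : nd 19924 = n19960 := ndS (p := 17154) (l := 0) rfl N17154 D19960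
theorem N19925 : nd 19925 = n19961 := ndS (p := 17155) (l := 5) rfl N17155 D19961
theorem N19926 : nd 19926 = n19962 := ndS (p := 17156) (l := 4) rfl N17156 D19962
theorem N19927 : nd 19927 = n19963 := ndS (p := 17160) (l := 3) rfl N17160 D19963
theorem N19928 : nd 19928 = n19964 := ndS (p := 17160) (l := 5) rfl N17160 D19964
theorem N19929 : nd 19929 = n19965 := ndS (p := 17162) (l := 3) rfl N17162 D19965
theorem N19930 : nd 19930 = n19966 := ndS (p := 17162) (l := 5) rfl N17162 D19966
theorem N19931 : nd 19931 = n19967 := ndS (p := 17167) (l := 3) rfl N17167 D19967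
theorem N19932 : nd 19932 = n19968 := ndS (p := 17168) (l := 2) rfl N17168 D19968
theorem N19933 : nd 19933 = n19969 := ndS (p := 17168) (l := 4) rfl N17168 D19969
theorem N19934 : nd 19934 = n19970 := ndS (p := 17169) (l := 5) rfl N17169 D19970
theorem N19935 : nd 19935 = n19971 := ndS (p := 17170) (l := 5) rfl N17170 D19971
theorem N19936 : nd 19936 = n19972 := ndS (p := 17172) (l := 2) rfl N17172 D19972
theorem N19937 : nd 19937 = n19973 := ndS (p := 17173) (l := 2) rfl N17173 D19973
theorem N19938 : nd 19938 = n19974 := ndS (p := 17173) (l := 5) rfl N17173 D19974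
theorem N19939 : nd 19939 = n19975 := ndS (p := 17175) (l := 3) rfl N17175 D19975
theorem N19940 : nd 19940 = n19976 := ndS (p := 17176) (l := 3) rfl N17176 D19976
theorem N19941 : nd 19941 = n19977 := ndS (p := 17176) (l := 5) rfl N17176 D19977
theorem N19942 : nd 19942 = n19978 := ndS (p := 17181) (l := 3) rfl N17181 D19978
theorem N19943 : nd 19943 = n19979 := ndS (p := 17181) (l := 5) rfl N17181 D19979
theorem N19944 : nd 19944 = n19980 := ndS (p := 17182) (l := 2) rfl N17182 D19980
theorem N19945 : nd 19945 = n19981 := ndS (p := 17182) (l := 4) rfl N17182 D19981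
theorem N19946 : nd 19946 = n19982 := ndS (p := 17182) (l := 5) rfl N17182 D19982
theorem N19947 : nd 19947 = n19983 := ndS (p := 17184) (l := 1) rfl N17184 D19983
theorem N19948 : nd 19948 = n19984 := ndS (p := 17184) (l := 4) rfl N17184 D19984
theorem N19949 : nd 19949 = n19985 := ndS (p := 17185) (l := 5) rfl N17185 D19985
theorem N19950 : nd 19950 = n19986 := ndS (p := 17186) (l := 4) rfl N17186 D19986
theorem N19951 : nd 19951 = n19987 := ndS (p := 17193) (l := 5) rfl N17193 D19987
theorem N19952 : nd 19952 = n19988 := ndS (p := 17195) (l := 2) rfl N17195 D19988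
theorem N19953 : nd 19953 = n19989 := ndS (p := 17197) (l := 3) rfl N17197 D19989
theorem N19954 : nd 19954 = n19990 := ndS (p := 17197) (l := 5) rfl N17197 D19990
theorem N19955 : nd 19955 = n19991 := ndS (p := 17198) (l := 5) rfl N17198 D19991
theorem N19956 : nd 19956 = n19992 := ndS (p := 17200) (l := 2) rfl N17200 D19992
theorem N19957 : nd 19957 = n19993 := ndS (p := 17200) (l := 5) rfl N17200 D19993
theorem N19958 : nd 19958 = n19994 := ndS (p := 17203) (l := 4) rfl N17203 D19994
theorem N19959 : nd 19959 = n19995 := ndS (p := 17204) (l := 2) rfl N17204 D19995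
theorem N19960 : nd 19960 = n19996 := ndS (p := 17206) (l := 0) rfl N17206 D19996
theorem N19961 : nd 19961 = n19997 := ndS (p := 17207) (l := 2) rfl N17207 D19997
theorem N19962 : nd 19962 = n19998 := ndS (p := 17207) (l := 4) rfl N17207 D19998
theorem N19963 : nd 19963 = n19999 := ndS (p := 17208) (l := 5) rfl N17208 D19999
theorem N19964 : nd 19964 = n20000 := ndS (p := 17209) (l := 0) rfl N17209 D20000
theorem N19965 : nd 19965 = n20001 := ndS (p := 17212) (l := 2) rfl N17212 D20001
theorem N19966 : nd 19966 = n20002 := ndS (p := 17212) (l := 5) rfl N17212 D20002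
theorem N19967 : nd 19967 = n20003 := ndS (p := 17214) (l := 1) rfl N17214 D20003
theorem N19968 : nd 19968 = n20004 := ndS (p := 17214) (l := 3) rfl N17214 D20004
theorem N19969 : nd 19969 = n20005 := ndS (p := 17214) (l := 5) rfl N17214 D20005
theorem N19970 : nd 19970 = n20006 := ndS (p := 17215) (l := 4) rfl N17215 D20006
theorem N19971 : nd 19971 = n20007 := ndS (p := 17216) (l := 1) rfl N17216 D20007
theorem N19972 : nd 19972 = n20008 := ndS (p := 17216) (l := 3) rfl N17216 D20008
theorem N19973 : nd 19973 = n20009 := ndS (p := 17216) (l := 5) rfl N17216 D20009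
theorem N19974 : nd 19974 = n20010 := ndS (p := 17217) (l := 4) rfl N17217 D20010
theorem N19975 : nd 19975 = n20011 := ndS (p := 17218) (l := 0) rfl N17218 D20011
theorem N19976 : nd 19976 = n20012 := ndS (p := 17220) (l := 2) rfl N17220 D20012
theorem N19977 : nd 19977 = n20013 := ndS (p := 17220) (l := 5) rfl N17220 D20013
theorem N19978 : nd 19978 = n20014 := ndS (p := 17222) (l := 1) rfl N17222 D20014
theorem N19979 : nd 19979 = n20015 := ndS (p := 17222) (l := 3) rfl N17222 D20015
theorem N19980 : nd 19980 = n20016 := ndS (p := 17222) (l := 5) rfl N17222 D20016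
theorem N19981 : nd 19981 = n20017 := ndS (p := 17223) (l := 4) rfl N17223 D20017
theorem N19982 : nd 19982 = n20018 := ndS (p := 17224) (l := 0) rfl N17224 D20018
theorem N19983 : nd 19983 = n20019 := ndS (p := 17225) (l := 2) rfl N17225 D20019
theorem N19984 : nd 19984 = n20020 := ndS (p := 17225) (l := 4) rfl N17225 D20020
theorem N19985 : nd 19985 = n20021 := ndS (p := 17226) (l := 4) rfl N17226 D20021
theorem N19986 : nd 19986 = n20022 := ndS (p := 17233) (l := 4) rfl N17233 D20022
theorem N19987 : nd 19987 = n20023 := ndS (p := 17235) (l := 2) rfl N17235 D20023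
theorem N19988 : nd 19988 = n20024 := ndS (p := 17236) (l := 3) rfl N17236 D20024
theorem N19989 : nd 19989 = n20025 := ndS (p := 17236) (l := 4) rfl N17236 D20025
theorem N19990 : nd 19990 = n20026 := ndS (p := 17239) (l := 2) rfl N17239 D20026
theorem N19991 : nd 19991 = n20027 := ndS (p := 17239) (l := 4) rfl N17239 D20027
theorem N19992 : nd 19992 = n20028 := ndS (p := 17240) (l := 4) rfl N17240 D20028
theorem N19993 : nd 19993 = n20029 := ndS (p := 17241) (l := 5) rfl N17241 D20029
theorem N19994 : nd 19994 = n20030 := ndS (p := 17242) (l := 3) rfl N17242 D20030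
theorem N19995 : nd 19995 = n20031 := ndS (p := 17243) (l := 2) rfl N17243 D20031
theorem N19996 : nd 19996 = n20032 := ndS (p := 17243) (l := 4) rfl N17243 D20032
theorem N19997 : nd 19997 = n20033 := ndS (p := 17244) (l := 4) rfl N17244 D20033
theorem N19998 : nd 19998 = n20034 := ndS (p := 17245) (l := 3) rfl N17245 D20034
theorem N19999 : nd 19999 = n20035 := ndS (p := 17245) (l := 4) rfl N17245 D20035
theorem N20000 : nd 20000 = n20036 := ndS (p := 17246) (l := 5) rfl N17246 D20036

end Cfsg.Agent.Helper17.ONS1TC
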