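import Cfsg.Agent.Helper17.ONS1TC.Fin2

set_option autoImplicit false
set_option linter.all false
set_option maxRecDepth 100000

noncomputable section

namespace Cfsg.Agent.Helper17.ONS1TC

theorem N20001 : nd 20001 = n20037 := ndS (p := 17247) (l := 3) rfl N17247 D20037
theorem N20002 : nd 20002 = n20038 := ndS (p := 17249) (l := 2) rfl N17249 D20038
theorem N20003 : nd 20003 = n20039 := ndS (p := 17253) (l := 2) rfl N17253 D20039
theorem N20004 : nd 20004 = n20040 := ndS (p := 17253) (l := 5) rfl N17253 D20040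
theorem N20005 : nd 20005 = n20041 := ndS (p := 17255) (l := 3) rfl N17255 D20041
theorem N20006 : nd 20006 = n20042 := ndS (p := 17255) (l := 5) rfl N17255 D20042
theorem N20007 : nd 20007 = n20043 := ndS (p := 17256) (l := 2) rfl N17256 D20043
theorem N20008 : nd 20008 = n20044 := ndS (p := 17266) (l := 3) rfl N17266 D20044
theorem N20009 : nd 20009 = n20045 := ndS (p := 17267) (l := 2) rfl N17267 D20045
theorem N20010 : nd 20010 = n20046 := ndS (p := 17267) (l := 4) rfl N17267 D20046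
theorem N20011 : nd 20011 = n20047 := ndS (p := 17270) (l := 2) rfl N17270 D20047
theorem N20012 : nd 20012 = n20048 := ndS (p := 17270) (l := 5) rfl N17270 D20048
theorem N20013 : nd 20013 = n20049 := ndS (p := 17272) (l := 3) rfl N17272 D20049
theorem N20014 : nd 20014 = n20050 := ndS (p := 17274) (l := 2) rfl N17274 D20050
theorem N20015 : nd 20015 = n20051 := ndS (p := 17274) (l := 4) rfl N17274 D20051
theorem N20016 : nd 20016 = n20052 := ndS (p := 17275) (l := 5) rfl N17275 D20052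
theorem N20017 : nd 20017 = n20053 := ndS (p := 17276) (l := 2) rfl N17276 D20053
theorem N20018 : nd 20018 = n20054 := ndS (p := 17276) (l := 5) rfl N17276 D20054
theorem N20019 : nd 20019 = n20055 := ndS (p := 17279) (l := 4) rfl N17279 D20055
theorem N20020 : nd 20020 = n20056 := ndS (p := 17284) (l := 5) rfl N17284 D20056
theorem N20021 : nd 20021 = n20057 := ndS (p := 17285) (l := 4) rfl N17285 D20057
theorem N20022 : nd 20022 = n20058 := ndS (p := 17286) (l := 3) rfl N17286 D20058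
theorem N20023 : nd 20023 = n20059 := ndS (p := 17287) (l := 2) rfl N17287 D20059
theorem N20024 : nd 20024 = n20060 := ndS (p := 17288) (l := 1) rfl N17288 D20060
theorem N20025 : nd 20025 = n20061 := ndS (p := 17288) (l := 3) rfl N17288 D20061
theorem N20026 : nd 20026 = n20062 := ndS (p := 17289) (l := 2) rfl N17289 D20062
theorem N20027 : nd 20027 = n20063 := ndS (p := 17289) (l := 5) rfl N17289 D20063
theorem N20028 : nd 20028 = n20064 := ndS (p := 17292) (l := 2) rfl N17292 D20064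
theorem N20029 : nd 20029 = n20065 := ndS (p := 17294) (l := 0) rfl N17294 D20065
theorem N20030 : nd 20030 = n20066 := ndS (p := 17295) (l := 1) rfl N17295 D20066
theorem N20031 : nd 20031 = n20067 := ndS (p := 17296) (l := 3) rfl N17296 D20067
theorem N20032 : nd 20032 = n20068 := ndS (p := 17296) (l := 5) rfl N17296 D20068
theorem N20033 : nd 20033 = n20069 := ndS (p := 17299) (l := 4) rfl N17299 D20069
theorem N20034 : nd 20034 = n20070 := ndS (p := 17301) (l := 4) rfl N17301 D20070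
theorem N20035 : nd 20035 = n20071 := ndS (p := 17303) (l := 3) rfl N17303 D20071
theorem N20036 : nd 20036 = n20072 := ndS (p := 17303) (l := 5) rfl N17303 D20072
theorem N20037 : nd 20037 = n20073 := ndS (p := 17304) (l := 2) rfl N17304 D20073
theorem N20038 : nd 20038 = n20074 := ndS (p := 17304) (l := 4) rfl N17304 D20074
theorem N20039 : nd 20039 = n20075 := ndS (p := 17304) (l := 5) rfl N17304 D20075
theorem N20040 : nd 20040 = n20076 := ndS (p := 17305) (l := 4) rfl N17305 D20076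
theorem N20041 : nd 20041 = n20077 := ndS (p := 17306) (l := 1) rfl N17306 D20077
theorem N20042 : nd 20042 = n20078 := ndS (p := 17306) (l := 4) rfl N17306 D20078
theorem N20043 : nd 20043 = n20079 := ndS (p := 17307) (l := 5) rfl N17307 D20079
theorem N20044 : nd 20044 = n20080 := ndS (p := 17308) (l := 4) rfl N17308 D20080
theorem N20045 : nd 20045 = n20081 := ndS (p := 17309) (l := 3) rfl N17309 D20081
theorem N20046 : nd 20046 = n20082 := ndS (p := 17310) (l := 2) rfl N17310 D20082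
theorem N20047 : nd 20047 = n20083 := ndS (p := 17313) (l := 5) rfl N17313 D20083
theorem N20048 : nd 20048 = n20084 := ndS (p := 17314) (l := 3) rfl N17314 D20084
theorem N20049 : nd 20049 = n20085 := ndS (p := 17316) (l := 2) rfl N17316 D20085
theorem N20050 : nd 20050 = n20086 := ndS (p := 17317) (l := 1) rfl N17317 D20086
theorem N20051 : nd 20051 = n20087 := ndS (p := 17317) (l := 3) rfl N17317 D20087
theorem N20052 : nd 20052 = n20088 := ndS (p := 17318) (l := 0) rfl N17318 D20088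
theorem N20053 : nd 20053 = n20089 := ndS (p := 17321) (l := 3) rfl N17321 D20089
theorem N20054 : nd 20054 = n20090 := ndS (p := 17321) (l := 5) rfl N17321 D20090
theorem N20055 : nd 20055 = n20091 := ndS (p := 17324) (l := 4) rfl N17324 D20091
theorem N20056 : nd 20056 = n20092 := ndS (p := 17325) (l := 3) rfl N17325 D20092
theorem N20057 : nd 20057 = n20093 := ndS (p := 17327) (l := 3) rfl N17327 D20093
theorem N20058 : nd 20058 = n20094 := ndS (p := 17327) (l := 5) rfl N17327 D20094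
theorem N20059 : nd 20059 = n20095 := ndS (p := 17328) (l := 2) rfl N17328 D20095
theorem N20060 : nd 20060 = n20096 := ndS (p := 17328) (l := 5) rfl N17328 D20096
theorem N20061 : nd 20061 = n20097 := ndS (p := 17330) (l := 1) rfl N17330 D20097
theorem N20062 : nd 20062 = n20098 := ndS (p := 17331) (l := 4) rfl N17331 D20098
theorem N20063 : nd 20063 = n20099 := ndS (p := 17334) (l := 2) rfl N17334 D20099
theorem N20064 : nd 20064 = n20100 := ndS (p := 17335) (l := 3) rfl N17335 D20100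
theorem N20065 : nd 20065 = n20101 := ndS (p := 17335) (l := 5) rfl N17335 D20101
theorem N20066 : nd 20066 = n20102 := ndS (p := 17336) (l := 2) rfl N17336 D20102
theorem N20067 : nd 20067 = n20103 := ndS (p := 17336) (l := 4) rfl N17336 D20103
theorem N20068 : nd 20068 = n20104 := ndS (p := 17337) (l := 4) rfl N17337 D20104
theorem N20069 : nd 20069 = n20105 := ndS (p := 17338) (l := 5) rfl N17338 D20105
theorem N20070 : nd 20070 = n20106 := ndS (p := 17339) (l := 3) rfl N17339 D20106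
theorem N20071 : nd 20071 = n20107 := ndS (p := 17340) (l := 5) rfl N17340 D20107
theorem N20072 : nd 20072 = n20108 := ndS (p := 17342) (l := 1) rfl N17342 D20108
theorem N20073 : nd 20073 = n20109 := ndS (p := 17342) (l := 4) rfl N17342 D20109
theorem N20074 : nd 20074 = n20110 := ndS (p := 17342) (l := 5) rfl N17342 D20110
theorem N20075 : nd 20075 = n20111 := ndS (p := 17343) (l := 5) rfl N17343 D20111
theorem N20076 : nd 20076 = n20112 := ndS (p := 17344) (l := 4) rfl N17344 D20112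
theorem N20077 : nd 20077 = n20113 := ndS (p := 17345) (l := 0) rfl N17345 D20113
theorem N20078 : nd 20078 = n20114 := ndS (p := 17345) (l := 4) rfl N17345 D20114
theorem N20079 : nd 20079 = n20115 := ndS (p := 17346) (l := 3) rfl N17346 D20115
theorem N20080 : nd 20080 = n20116 := ndS (p := 17346) (l := 5) rfl N17346 D20116
theorem N20081 : nd 20081 = n20117 := ndS (p := 17347) (l := 4) rfl N17347 D20117
theorem N20082 : nd 20082 = n20118 := ndS (p := 17348) (l := 3) rfl N17348 D20118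
theorem N20083 : nd 20083 = n20119 := ndS (p := 17355) (l := 3) rfl N17355 D20119
theorem N20084 : nd 20084 = n20120 := ndS (p := 17356) (l := 2) rfl N17356 D20120
theorem N20085 : nd 20085 = n20121 := ndS (p := 17356) (l := 4) rfl N17356 D20121
theorem N20086 : nd 20086 = n20122 := ndS (p := 17357) (l := 3) rfl N17357 D20122
theorem N20087 : nd 20087 = n20123 := ndS (p := 17358) (l := 3) rfl N17358 D20123
theorem N20088 : nd 20088 = n20124 := ndS (p := 17358) (l := 5) rfl N17358 D20124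
theorem N20089 : nd 20089 = n20125 := ndS (p := 17361) (l := 2) rfl N17361 D20125
theorem N20090 : nd 20090 = n20126 := ndS (p := 17361) (l := 4) rfl N17361 D20126
theorem N20091 : nd 20091 = n20127 := ndS (p := 17362) (l := 5) rfl N17362 D20127
theorem N20092 : nd 20092 = n20128 := ndS (p := 17363) (l := 0) rfl N17363 D20128
theorem N20093 : nd 20093 = n20129 := ndS (p := 17364) (l := 5) rfl N17364 D20129
theorem N20094 : nd 20094 = n20130 := ndS (p := 17366) (l := 3) rfl N17366 D20130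
theorem N20095 : nd 20095 = n20131 := ndS (p := 17366) (l := 5) rfl N17366 D20131
theorem N20096 : nd 20096 = n20132 := ndS (p := 17367) (l := 4) rfl N17367 D20132
theorem N20097 : nd 20097 = n20133 := ndS (p := 17370) (l := 3) rfl N17370 D20133
theorem N20098 : nd 20098 = n20134 := ndS (p := 17370) (l := 4) rfl N17370 D20134
theorem N20099 : nd 20099 = n20135 := ndS (p := 17371) (l := 5) rfl N17371 D20135
theorem N20100 : nd 20100 = n20136 := ndS (p := 17374) (l := 4) rfl N17374 D20136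
theorem N20101 : nd 20101 = n20137 := ndS (p := 17375) (l := 4) rfl N17375 D20137
theorem N20102 : nd 20102 = n20138 := ndS (p := 17376) (l := 5) rfl N17376 D20138
theorem N20103 : nd 20103 = n20139 := ndS (p := 17378) (l := 2) rfl N17378 D20139
theorem N20104 : nd 20104 = n20140 := ndS (p := 17379) (l := 3) rfl N17379 D20140
theorem N20105 : nd 20105 = n20141 := ndS (p := 17380) (l := 2) rfl N17380 D20141
theorem N20106 : nd 20106 = n20142 := ndS (p := 17380) (l := 4) rfl N17380 D20142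
theorem N20107 : nd 20107 = n20143 := ndS (p := 17382) (l := 4) rfl N17382 D20143
theorem N20108 : nd 20108 = n20144 := ndS (p := 17383) (l := 3) rfl N17383 D20144
theorem N20109 : nd 20109 = n20145 := ndS (p := 17385) (l := 4) rfl N17385 D20145
theorem N20110 : nd 20110 = n20146 := ndS (p := 17386) (l := 3) rfl N17386 D20146
theorem N20111 : nd 20111 = n20147 := ndS (p := 17387) (l := 4) rfl N17387 D20147
theorem N20112 : nd 20112 = n20148 := ndS (p := 17388) (l := 4) rfl N17388 D20148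
theorem N20113 : nd 20113 = n20149 := ndS (p := 17396) (l := 4) rfl N17396 D20149
theorem N20114 : nd 20114 = n20150 := ndS (p := 17405) (l := 4) rfl N17405 D20150
theorem N20115 : nd 20115 = n20151 := ndS (p := 17406) (l := 1) rfl N17406 D20151
theorem N20116 : nd 20116 = n20152 := ndS (p := 17406) (l := 4) rfl N17406 D20152
theorem N20117 : nd 20117 = n20153 := ndS (p := 17407) (l := 5) rfl N17407 D20153
theorem N20118 : nd 20118 = n20154 := ndS (p := 17408) (l := 4) rfl N17408 D20154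
theorem N20119 : nd 20119 = n20155 := ndS (p := 17409) (l := 3) rfl N17409 D20155
theorem N20120 : nd 20120 = n20156 := ndS (p := 17409) (l := 5) rfl N17409 D20156
theorem N20121 : nd 20121 = n20157 := ndS (p := 17410) (l := 4) rfl N17410 D20157
theorem N20122 : nd 20122 = n20158 := ndS (p := 17411) (l := 3) rfl N17411 D20158
theorem N20123 : nd 20123 = n20159 := ndS (p := 17413) (l := 2) rfl N17413 D20159
theorem N20124 : nd 20124 = n20160 := ndS (p := 17413) (l := 5) rfl N17413 D20160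
theorem N20125 : nd 20125 = n20161 := ndS (p := 17415) (l := 1) rfl N17415 D20161
theorem N20126 : nd 20126 = n20162 := ndS (p := 17415) (l := 3) rfl N17415 D20162
theorem N20127 : nd 20127 = n20163 := ndS (p := 17415) (l := 5) rfl N17415 D20163
theorem N20128 : nd 20128 = n20164 := ndS (p := 17416) (l := 4) rfl N17416 D20164
theorem N20129 : nd 20129 = n20165 := ndS (p := 17417) (l := 0) rfl N17417 D20165
theorem N20130 : nd 20130 = n20166 := ndS (p := 17419) (l := 2) rfl N17419 D20166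
theorem N20131 : nd 20131 = n20167 := ndS (p := 17419) (l := 4) rfl N17419 D20167
theorem N20132 : nd 20132 = n20168 := ndS (p := 17420) (l := 4) rfl N17420 D20168
theorem N20133 : nd 20133 = n20169 := ndS (p := 17421) (l := 3) rfl N17421 D20169
theorem N20134 : nd 20134 = n20170 := ndS (p := 17421) (l := 4) rfl N17421 D20170
theorem N20135 : nd 20135 = n20171 := ndS (p := 17422) (l := 5) rfl N17422 D20171
theorem N20136 : nd 20136 = n20172 := ndS (p := 17423) (l := 3) rfl N17423 D20172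
theorem N20137 : nd 20137 = n20173 := ndS (p := 17426) (l := 1) rfl N17426 D20173
theorem N20138 : nd 20138 = n20174 := ndS (p := 17426) (l := 4) rfl N17426 D20174
theorem N20139 : nd 20139 = n20175 := ndS (p := 17426) (l := 5) rfl N17426 D20175
theorem N20140 : nd 20140 = n20176 := ndS (p := 17427) (l := 5) rfl N17427 D20176
theorem N20141 : nd 20141 = n20177 := ndS (p := 17428) (l := 4) rfl N17428 D20177
theorem N20142 : nd 20142 = n20178 := ndS (p := 17429) (l := 0) rfl N17429 D20178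
theorem N20143 : nd 20143 = n20179 := ndS (p := 17429) (l := 3) rfl N17429 D20179
theorem N20144 : nd 20144 = n20180 := ndS (p := 17429) (l := 4) rfl N17429 D20180
theorem N20145 : nd 20145 = n20181 := ndS (p := 17430) (l := 4) rfl N17430 D20181
theorem N20146 : nd 20146 = n20182 := ndS (p := 17430) (l := 5) rfl N17430 D20182
theorem N20147 : nd 20147 = n20183 := ndS (p := 17431) (l := 3) rfl N17431 D20183
theorem N20148 : nd 20148 = n20184 := ndS (p := 17431) (l := 5) rfl N17431 D20184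
theorem N20149 : nd 20149 = n20185 := ndS (p := 17432) (l := 4) rfl N17432 D20185
theorem N20150 : nd 20150 = n20186 := ndS (p := 17433) (l := 4) rfl N17433 D20186
theorem N20151 : nd 20151 = n20187 := ndS (p := 17435) (l := 4) rfl N17435 D20187
theorem N20152 : nd 20152 = n20188 := ndS (p := 17436) (l := 3) rfl N17436 D20188
theorem N20153 : nd 20153 = n20189 := ndS (p := 17436) (l := 5) rfl N17436 D20189
theorem N20154 : nd 20154 = n20190 := ndS (p := 17441) (l := 1) rfl N17441 D20190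
theorem N20155 : nd 20155 = n20191 := ndS (p := 17445) (l := 2) rfl N17445 D20191
theorem N20156 : nd 20156 = n20192 := ndS (p := 17446) (l := 1) rfl N17446 D20192
theorem N20157 : nd 20157 = n20193 := ndS (p := 17447) (l := 0) rfl N17447 D20193
theorem N20158 : nd 20158 = n20194 := ndS (p := 17447) (l := 3) rfl N17447 D20194
theorem N20159 : nd 20159 = n20195 := ndS (p := 17452) (l := 3) rfl N17452 D20195
theorem N20160 : nd 20160 = n20196 := ndS (p := 17452) (l := 4) rfl N17452 D20196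
theorem N20161 : nd 20161 = n20197 := ndS (p := 17453) (l := 5) rfl N17453 D20197
theorem N20162 : nd 20162 = n20198 := ndS (p := 17457) (l := 0) rfl N17457 D20198
theorem N20163 : nd 20163 = n20199 := ndS (p := 17457) (l := 3) rfl N17457 D20199
theorem N20164 : nd 20164 = n20200 := ndS (p := 17458) (l := 2) rfl N17458 D20200
theorem N20165 : nd 20165 = n20201 := ndS (p := 17463) (l := 3) rfl N17463 D20201
theorem N20166 : nd 20166 = n20202 := ndS (p := 17464) (l := 2) rfl N17464 D20202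
theorem N20167 : nd 20167 = n20203 := ndS (p := 17465) (l := 1) rfl N17465 D20203
theorem N20168 : nd 20168 = n20204 := ndS (p := 17467) (l := 1) rfl N17467 D20204
theorem N20169 : nd 20169 = n20205 := ndS (p := 17467) (l := 3) rfl N17467 D20205
theorem N20170 : nd 20170 = n20206 := ndS (p := 17470) (l := 5) rfl N17470 D20206
theorem N20171 : nd 20171 = n20207 := ndS (p := 17471) (l := 2) rfl N17471 D20207
theorem N20172 : nd 20172 = n20208 := ndS (p := 17472) (l := 4) rfl N17472 D20208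
theorem N20173 : nd 20173 = n20209 := ndS (p := 17474) (l := 2) rfl N17474 D20209
theorem N20174 : nd 20174 = n20210 := ndS (p := 17476) (l := 3) rfl N17476 D20210
theorem N20175 : nd 20175 = n20211 := ndS (p := 17477) (l := 5) rfl N17477 D20211
theorem N20176 : nd 20176 = n20212 := ndS (p := 17482) (l := 3) rfl N17482 D20212
theorem N20177 : nd 20177 = n20213 := ndS (p := 17483) (l := 2) rfl N17483 D20213
theorem N20178 : nd 20178 = n20214 := ndS (p := 17483) (l := 4) rfl N17483 D20214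
theorem N20179 : nd 20179 = n20215 := ndS (p := 17484) (l := 5) rfl N17484 D20215
theorem N20180 : nd 20180 = n20216 := ndS (p := 17490) (l := 2) rfl N17490 D20216
theorem N20181 : nd 20181 = n20217 := ndS (p := 17490) (l := 4) rfl N17490 D20217
theorem N20182 : nd 20182 = n20218 := ndS (p := 17491) (l := 3) rfl N17491 D20218
theorem N20183 : nd 20183 = n20219 := ndS (p := 17491) (l := 4) rfl N17491 D20219
theorem N20184 : nd 20184 = n20220 := ndS (p := 17492) (l := 5) rfl N17492 D20220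
theorem N20185 : nd 20185 = n20221 := ndS (p := 17497) (l := 3) rfl N17497 D20221
theorem N20186 : nd 20186 = n20222 := ndS (p := 17497) (l := 5) rfl N17497 D20222
theorem N20187 : nd 20187 = n20223 := ndS (p := 17499) (l := 3) rfl N17499 D20223
theorem N20188 : nd 20188 = n20224 := ndS (p := 17500) (l := 2) rfl N17500 D20224
theorem N20189 : nd 20189 = n20225 := ndS (p := 17500) (l := 5) rfl N17500 D20225
theorem N20190 : nd 20190 = n20226 := ndS (p := 17502) (l := 4) rfl N17502 D20226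
theorem N20191 : nd 20191 = n20227 := ndS (p := 17510) (l := 4) rfl N17510 D20227
theorem N20192 : nd 20192 = n20228 := ndS (p := 17511) (l := 3) rfl N17511 D20228
theorem N20193 : nd 20193 = n20229 := ndS (p := 17512) (l := 3) rfl N17512 D20229
theorem N20194 : nd 20194 = n20230 := ndS (p := 17513) (l := 2) rfl N17513 D20230
theorem N20195 : nd 20195 = n20231 := ndS (p := 17515) (l := 1) rfl N17515 D20231
theorem N20196 : nd 20196 = n20232 := ndS (p := 17517) (l := 1) rfl N17517 D20232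
theorem N20197 : nd 20197 = n20233 := ndS (p := 17518) (l := 0) rfl N17518 D20233
theorem N20198 : nd 20198 = n20234 := ndS (p := 17518) (l := 3) rfl N17518 D20234
theorem N20199 : nd 20199 = n20235 := ndS (p := 17520) (l := 3) rfl N17520 D20235
theorem N20200 : nd 20200 = n20236 := ndS (p := 17520) (l := 5) rfl N17520 D20236
theorem N20201 : nd 20201 = n20237 := ndS (p := 17521) (l := 5) rfl N17521 D20237
theorem N20202 : nd 20202 = n20238 := ndS (p := 17526) (l := 3) rfl N17526 D20238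
theorem N20203 : nd 20203 = n20239 := ndS (p := 17526) (l := 5) rfl N17526 D20239
theorem N20204 : nd 20204 = n20240 := ndS (p := 17529) (l := 4) rfl N17529 D20240
theorem N20205 : nd 20205 = n20241 := ndS (p := 17530) (l := 5) rfl N17530 D20241
theorem N20206 : nd 20206 = n20242 := ndS (p := 17532) (l := 5) rfl N17532 D20242
theorem N20207 : nd 20207 = n20243 := ndS (p := 17534) (l := 2) rfl N17534 D20243
theorem N20208 : nd 20208 = n20244 := ndS (p := 17534) (l := 4) rfl N17534 D20244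
theorem N20209 : nd 20209 = n20245 := ndS (p := 17535) (l := 3) rfl N17535 D20245
theorem N20210 : nd 20210 = n20246 := ndS (p := 17535) (l := 4) rfl N17535 D20246
theorem N20211 : nd 20211 = n20247 := ndS (p := 17536) (l := 5) rfl N17536 D20247
theorem N20212 : nd 20212 = n20248 := ndS (p := 17537) (l := 3) rfl N17537 D20248
theorem N20213 : nd 20213 = n20249 := ndS (p := 17539) (l := 2) rfl N17539 D20249
theorem N20214 : nd 20214 = n20250 := ndS (p := 17540) (l := 5) rfl N17540 D20250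
theorem N20215 : nd 20215 = n20251 := ndS (p := 17541) (l := 0) rfl N17541 D20251
theorem N20216 : nd 20216 = n20252 := ndS (p := 17541) (l := 4) rfl N17541 D20252
theorem N20217 : nd 20217 = n20253 := ndS (p := 17542) (l := 3) rfl N17542 D20253
theorem N20218 : nd 20218 = n20254 := ndS (p := 17542) (l := 5) rfl N17542 D20254
theorem N20219 : nd 20219 = n20255 := ndS (p := 17544) (l := 4) rfl N17544 D20255
theorem N20220 : nd 20220 = n20256 := ndS (p := 17545) (l := 5) rfl N17545 D20256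
theorem N20221 : nd 20221 = n20257 := ndS (p := 17546) (l := 2) rfl N17546 D20257
theorem N20222 : nd 20222 = n20258 := ndS (p := 17546) (l := 5) rfl N17546 D20258
theorem N20223 : nd 20223 = n20259 := ndS (p := 17548) (l := 3) rfl N17548 D20259
theorem N20224 : nd 20224 = n20260 := ndS (p := 17549) (l := 2) rfl N17549 D20260
theorem N20225 : nd 20225 = n20261 := ndS (p := 17550) (l := 1) rfl N17550 D20261
theorem N20226 : nd 20226 = n20262 := ndS (p := 17550) (l := 3) rfl N17550 D20262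
theorem N20227 : nd 20227 = n20263 := ndS (p := 17551) (l := 2) rfl N17551 D20263
theorem N20228 : nd 20228 = n20264 := ndS (p := 17551) (l := 4) rfl N17551 D20264
theorem N20229 : nd 20229 = n20265 := ndS (p := 17552) (l := 3) rfl N17552 D20265
theorem N20230 : nd 20230 = n20266 := ndS (p := 17552) (l := 4) rfl N17552 D20266
theorem N20231 : nd 20231 = n20267 := ndS (p := 17552) (l := 5) rfl N17552 D20267
theorem N20232 : nd 20232 = n20268 := ndS (p := 17553) (l := 5) rfl N17553 D20268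
theorem N20233 : nd 20233 = n20269 := ndS (p := 17555) (l := 3) rfl N17555 D20269
theorem N20234 : nd 20234 = n20270 := ndS (p := 17559) (l := 1) rfl N17559 D20270
theorem N20235 : nd 20235 = n20271 := ndS (p := 17559) (l := 3) rfl N17559 D20271
theorem N20236 : nd 20236 = n20272 := ndS (p := 17559) (l := 4) rfl N17559 D20272
theorem N20237 : nd 20237 = n20273 := ndS (p := 17560) (l := 5) rfl N17560 D20273
theorem N20238 : nd 20238 = n20274 := ndS (p := 17561) (l := 3) rfl N17561 D20274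
theorem N20239 : nd 20239 = n20275 := ndS (p := 17562) (l := 2) rfl N17562 D20275
theorem N20240 : nd 20240 = n20276 := ndS (p := 17562) (l := 4) rfl N17562 D20276
theorem N20241 : nd 20241 = n20277 := ndS (p := 17563) (l := 3) rfl N17563 D20277
theorem N20242 : nd 20242 = n20278 := ndS (p := 17563) (l := 5) rfl N17563 D20278
theorem N20243 : nd 20243 = n20279 := ndS (p := 17565) (l := 2) rfl N17565 D20279
theorem N20244 : nd 20244 = n20280 := ndS (p := 17566) (l := 1) rfl N17566 D20280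
theorem N20245 : nd 20245 = n20281 := ndS (p := 17569) (l := 5) rfl N17569 D20281
theorem N20246 : nd 20246 = n20282 := ndS (p := 17570) (l := 0) rfl N17570 D20282
theorem N20247 : nd 20247 = n20283 := ndS (p := 17570) (l := 4) rfl N17570 D20283
theorem N20248 : nd 20248 = n20284 := ndS (p := 17571) (l := 5) rfl N17571 D20284
theorem N20249 : nd 20249 = n20285 := ndS (p := 17573) (l := 4) rfl N17573 D20285
theorem N20250 : nd 20250 = n20286 := ndS (p := 17580) (l := 4) rfl N17580 D20286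
theorem N20251 : nd 20251 = n20287 := ndS (p := 17583) (l := 3) rfl N17583 D20287
theorem N20252 : nd 20252 = n20288 := ndS (p := 17586) (l := 1) rfl N17586 D20288
theorem N20253 : nd 20253 = n20289 := ndS (p := 17588) (l := 1) rfl N17588 D20289
theorem N20254 : nd 20254 = n20290 := ndS (p := 17589) (l := 0) rfl N17589 D20290
theorem N20255 : nd 20255 = n20291 := ndS (p := 17592) (l := 3) rfl N17592 D20291
theorem N20256 : nd 20256 = n20292 := ndS (p := 17595) (l := 2) rfl N17595 D20292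
theorem N20257 : nd 20257 = n20293 := ndS (p := 17599) (l := 4) rfl N17599 D20293
theorem N20258 : nd 20258 = n20294 := ndS (p := 17600) (l := 3) rfl N17600 D20294
theorem N20259 : nd 20259 = n20295 := ndS (p := 17601) (l := 4) rfl N17601 D20295
theorem N20260 : nd 20260 = n20296 := ndS (p := 17602) (l := 3) rfl N17602 D20296
theorem N20261 : nd 20261 = n20297 := ndS (p := 17602) (l := 5) rfl N17602 D20297
theorem N20262 : nd 20262 = n20298 := ndS (p := 17603) (l := 4) rfl N17603 D20298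
theorem N20263 : nd 20263 = n20299 := ndS (p := 17604) (l := 3) rfl N17604 D20299
theorem N20264 : nd 20264 = n20300 := ndS (p := 17604) (l := 5) rfl N17604 D20300
theorem N20265 : nd 20265 = n20301 := ndS (p := 17605) (l := 2) rfl N17605 D20301
theorem N20266 : nd 20266 = n20302 := ndS (p := 17607) (l := 5) rfl N17607 D20302
theorem N20267 : nd 20267 = n20303 := ndS (p := 17608) (l := 4) rfl N17608 D20303
theorem N20268 : nd 20268 = n20304 := ndS (p := 17609) (l := 3) rfl N17609 D20304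
theorem N20269 : nd 20269 = n20305 := ndS (p := 17610) (l := 3) rfl N17610 D20305
theorem N20270 : nd 20270 = n20306 := ndS (p := 17611) (l := 2) rfl N17611 D20306
theorem N20271 : nd 20271 = n20307 := ndS (p := 17612) (l := 2) rfl N17612 D20307
theorem N20272 : nd 20272 = n20308 := ndS (p := 17612) (l := 5) rfl N17612 D20308
theorem N20273 : nd 20273 = n20309 := ndS (p := 17614) (l := 1) rfl N17614 D20309
theorem N20274 : nd 20274 = n20310 := ndS (p := 17614) (l := 3) rfl N17614 D20310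
theorem N20275 : nd 20275 = n20311 := ndS (p := 17614) (l := 5) rfl N17614 D20311
theorem N20276 : nd 20276 = n20312 := ndS (p := 17615) (l := 4) rfl N17615 D20312
theorem N20277 : nd 20277 = n20313 := ndS (p := 17616) (l := 0) rfl N17616 D20313
theorem N20278 : nd 20278 = n20314 := ndS (p := 17618) (l := 4) rfl N17618 D20314
theorem N20279 : nd 20279 = n20315 := ndS (p := 17621) (l := 4) rfl N17621 D20315
theorem N20280 : nd 20280 = n20316 := ndS (p := 17622) (l := 3) rfl N17622 D20316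
theorem N20281 : nd 20281 = n20317 := ndS (p := 17622) (l := 5) rfl N17622 D20317
theorem N20282 : nd 20282 = n20318 := ndS (p := 17623) (l := 2) rfl N17623 D20318
theorem N20283 : nd 20283 = n20319 := ndS (p := 17623) (l := 5) rfl N17623 D20319
theorem N20284 : nd 20284 = n20320 := ndS (p := 17625) (l := 2) rfl N17625 D20320
theorem N20285 : nd 20285 = n20321 := ndS (p := 17625) (l := 4) rfl N17625 D20321
theorem N20286 : nd 20286 = n20322 := ndS (p := 17626) (l := 4) rfl N17626 D20322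
theorem N20287 : nd 20287 = n20323 := ndS (p := 17627) (l := 3) rfl N17627 D20323
theorem N20288 : nd 20288 = n20324 := ndS (p := 17627) (l := 4) rfl N17627 D20324
theorem N20289 : nd 20289 = n20325 := ndS (p := 17628) (l := 5) rfl N17628 D20325
theorem N20290 : nd 20290 = n20326 := ndS (p := 17629) (l := 3) rfl N17629 D20326
theorem N20291 : nd 20291 = n20327 := ndS (p := 17631) (l := 2) rfl N17631 D20327
theorem N20292 : nd 20292 = n20328 := ndS (p := 17637) (l := 2) rfl N17637 D20328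
theorem N20293 : nd 20293 = n20329 := ndS (p := 17637) (l := 4) rfl N17637 D20329
theorem N20294 : nd 20294 = n20330 := ndS (p := 17639) (l := 3) rfl N17639 D20330
theorem N20295 : nd 20295 = n20331 := ndS (p := 17639) (l := 4) rfl N17639 D20331
theorem N20296 : nd 20296 = n20332 := ndS (p := 17640) (l := 5) rfl N17640 D20332
theorem N20297 : nd 20297 = n20333 := ndS (p := 17647) (l := 0) rfl N17647 D20333
theorem N20298 : nd 20298 = n20334 := ndS (p := 17647) (l := 4) rfl N17647 D20334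
theorem N20299 : nd 20299 = n20335 := ndS (p := 17652) (l := 4) rfl N17652 D20335
theorem N20300 : nd 20300 = n20336 := ndS (p := 17653) (l := 3) rfl N17653 D20336
theorem N20301 : nd 20301 = n20337 := ndS (p := 17653) (l := 5) rfl N17653 D20337
theorem N20302 : nd 20302 = n20338 := ndS (p := 17654) (l := 2) rfl N17654 D20338
theorem N20303 : nd 20303 = n20339 := ndS (p := 17658) (l := 3) rfl N17658 D20339
theorem N20304 : nd 20304 = n20340 := ndS (p := 17659) (l := 4) rfl N17659 D20340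
theorem N20305 : nd 20305 = n20341 := ndS (p := 17660) (l := 5) rfl N17660 D20341
theorem N20306 : nd 20306 = n20342 := ndS (p := 17662) (l := 1) rfl N17662 D20342
theorem N20307 : nd 20307 = n20343 := ndS (p := 17662) (l := 4) rfl N17662 D20343
theorem N20308 : nd 20308 = n20344 := ndS (p := 17663) (l := 5) rfl N17663 D20344
theorem N20309 : nd 20309 = n20345 := ndS (p := 17664) (l := 4) rfl N17664 D20345
theorem N20310 : nd 20310 = n20346 := ndS (p := 17665) (l := 3) rfl N17665 D20346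
theorem N20311 : nd 20311 = n20347 := ndS (p := 17665) (l := 5) rfl N17665 D20347
theorem N20312 : nd 20312 = n20348 := ndS (p := 17666) (l := 4) rfl N17666 D20348
theorem N20313 : nd 20313 = n20349 := ndS (p := 17667) (l := 3) rfl N17667 D20349
theorem N20314 : nd 20314 = n20350 := ndS (p := 17669) (l := 3) rfl N17669 D20350
theorem N20315 : nd 20315 = n20351 := ndS (p := 17671) (l := 5) rfl N17671 D20351
theorem N20316 : nd 20316 = n20352 := ndS (p := 17674) (l := 2) rfl N17674 D20352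
theorem N20317 : nd 20317 = n20353 := ndS (p := 17674) (l := 5) rfl N17674 D20353
theorem N20318 : nd 20318 = n20354 := ndS (p := 17676) (l := 1) rfl N17676 D20354
theorem N20319 : nd 20319 = n20355 := ndS (p := 17676) (l := 3) rfl N17676 D20355
theorem N20320 : nd 20320 = n20356 := ndS (p := 17676) (l := 5) rfl N17676 D20356
theorem N20321 : nd 20321 = n20357 := ndS (p := 17677) (l := 4) rfl N17677 D20357
theorem N20322 : nd 20322 = n20358 := ndS (p := 17678) (l := 1) rfl N17678 D20358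
theorem N20323 : nd 20323 = n20359 := ndS (p := 17678) (l := 3) rfl N17678 D20359
theorem N20324 : nd 20324 = n20360 := ndS (p := 17678) (l := 5) rfl N17678 D20360
theorem N20325 : nd 20325 = n20361 := ndS (p := 17679) (l := 4) rfl N17679 D20361
theorem N20326 : nd 20326 = n20362 := ndS (p := 17680) (l := 0) rfl N17680 D20362
theorem N20327 : nd 20327 = n20363 := ndS (p := 17681) (l := 5) rfl N17681 D20363
theorem N20328 : nd 20328 = n20364 := ndS (p := 17682) (l := 4) rfl N17682 D20364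
theorem N20329 : nd 20329 = n20365 := ndS (p := 17683) (l := 3) rfl N17683 D20365
theorem N20330 : nd 20330 = n20366 := ndS (p := 17684) (l := 2) rfl N17684 D20366
theorem N20331 : nd 20331 = n20367 := ndS (p := 17685) (l := 1) rfl N17685 D20367
theorem N20332 : nd 20332 = n20368 := ndS (p := 17685) (l := 3) rfl N17685 D20368
theorem N20333 : nd 20333 = n20369 := ndS (p := 17686) (l := 0) rfl N17686 D20369
theorem N20334 : nd 20334 = n20370 := ndS (p := 17690) (l := 0) rfl N17690 D20370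
theorem N20335 : nd 20335 = n20371 := ndS (p := 17691) (l := 0) rfl N17691 D20371
theorem N20336 : nd 20336 = n20372 := ndS (p := 17691) (l := 3) rfl N17691 D20372
theorem N20337 : nd 20337 = n20373 := ndS (p := 17691) (l := 5) rfl N17691 D20373
theorem N20338 : nd 20338 = n20374 := ndS (p := 17692) (l := 4) rfl N17692 D20374
theorem N20339 : nd 20339 = n20375 := ndS (p := 17693) (l := 4) rfl N17693 D20375
theorem N20340 : nd 20340 = n20376 := ndS (p := 17695) (l := 0) rfl N17695 D20376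
theorem N20341 : nd 20341 = n20377 := ndS (p := 17695) (l := 3) rfl N17695 D20377
theorem N20342 : nd 20342 = n20378 := ndS (p := 17695) (l := 5) rfl N17695 D20378
theorem N20343 : nd 20343 = n20379 := ndS (p := 17696) (l := 4) rfl N17696 D20379
theorem N20344 : nd 20344 = n20380 := ndS (p := 17697) (l := 4) rfl N17697 D20380
theorem N20345 : nd 20345 = n20381 := ndS (p := 17699) (l := 3) rfl N17699 D20381
theorem N20346 : nd 20346 = n20382 := ndS (p := 17700) (l := 4) rfl N17700 D20382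
theorem N20347 : nd 20347 = n20383 := ndS (p := 17701) (l := 4) rfl N17701 D20383
theorem N20348 : nd 20348 = n20384 := ndS (p := 17702) (l := 5) rfl N17702 D20384
theorem N20349 : nd 20349 = n20385 := ndS (p := 17704) (l := 3) rfl N17704 D20385
theorem N20350 : nd 20350 = n20386 := ndS (p := 17705) (l := 3) rfl N17705 D20386
theorem N20351 : nd 20351 = n20387 := ndS (p := 17705) (l := 5) rfl N17705 D20387
theorem N20352 : nd 20352 = n20388 := ndS (p := 17706) (l := 2) rfl N17706 D20388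
theorem N20353 : nd 20353 = n20389 := ndS (p := 17708) (l := 0) rfl N17708 D20389
theorem N20354 : nd 20354 = n20390 := ndS (p := 17709) (l := 0) rfl N17709 D20390
theorem N20355 : nd 20355 = n20391 := ndS (p := 17710) (l := 3) rfl N17710 D20391
theorem N20356 : nd 20356 = n20392 := ndS (p := 17711) (l := 2) rfl N17711 D20392
theorem N20357 : nd 20357 = n20393 := ndS (p := 17712) (l := 5) rfl N17712 D20393
theorem N20358 : nd 20358 = n20394 := ndS (p := 17713) (l := 0) rfl N17713 D20394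
theorem N20359 : nd 20359 = n20395 := ndS (p := 17713) (l := 4) rfl N17713 D20395
theorem N20360 : nd 20360 = n20396 := ndS (p := 17715) (l := 4) rfl N17715 D20396
theorem N20361 : nd 20361 = n20397 := ndS (p := 17717) (l := 4) rfl N17717 D20397
theorem N20362 : nd 20362 = n20398 := ndS (p := 17718) (l := 3) rfl N17718 D20398
theorem N20363 : nd 20363 = n20399 := ndS (p := 17720) (l := 2) rfl N17720 D20399
theorem N20364 : nd 20364 = n20400 := ndS (p := 17721) (l := 1) rfl N17721 D20400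
theorem N20365 : nd 20365 = n20401 := ndS (p := 17721) (l := 3) rfl N17721 D20401
theorem N20366 : nd 20366 = n20402 := ndS (p := 17721) (l := 4) rfl N17721 D20402
theorem N20367 : nd 20367 = n20403 := ndS (p := 17722) (l := 5) rfl N17722 D20403
theorem N20368 : nd 20368 = n20404 := ndS (p := 17723) (l := 3) rfl N17723 D20404
theorem N20369 : nd 20369 = n20405 := ndS (p := 17724) (l := 4) rfl N17724 D20405
theorem N20370 : nd 20370 = n20406 := ndS (p := 17725) (l := 3) rfl N17725 D20406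
theorem N20371 : nd 20371 = n20407 := ndS (p := 17725) (l := 5) rfl N17725 D20407
theorem N20372 : nd 20372 = n20408 := ndS (p := 17727) (l := 2) rfl N17727 D20408
theorem N20373 : nd 20373 = n20409 := ndS (p := 17729) (l := 3) rfl N17729 D20409
theorem N20374 : nd 20374 = n20410 := ndS (p := 17730) (l := 2) rfl N17730 D20410
theorem N20375 : nd 20375 = n20411 := ndS (p := 17730) (l := 5) rfl N17730 D20411
theorem N20376 : nd 20376 = n20412 := ndS (p := 17733) (l := 5) rfl N17733 D20412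
theorem N20377 : nd 20377 = n20413 := ndS (p := 17737) (l := 4) rfl N17737 D20413
theorem N20378 : nd 20378 = n20414 := ndS (p := 17738) (l := 4) rfl N17738 D20414
theorem N20379 : nd 20379 = n20415 := ndS (p := 17741) (l := 4) rfl N17741 D20415
theorem N20380 : nd 20380 = n20416 := ndS (p := 17742) (l := 4) rfl N17742 D20416
theorem N20381 : nd 20381 = n20417 := ndS (p := 17743) (l := 3) rfl N17743 D20417
theorem N20382 : nd 20382 = n20418 := ndS (p := 17743) (l := 4) rfl N17743 D20418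
theorem N20383 : nd 20383 = n20419 := ndS (p := 17746) (l := 1) rfl N17746 D20419
theorem N20384 : nd 20384 = n20420 := ndS (p := 17746) (l := 3) rfl N17746 D20420
theorem N20385 : nd 20385 = n20421 := ndS (p := 17746) (l := 5) rfl N17746 D20421
theorem N20386 : nd 20386 = n20422 := ndS (p := 17747) (l := 4) rfl N17747 D20422
theorem N20387 : nd 20387 = n20423 := ndS (p := 17748) (l := 1) rfl N17748 D20423
theorem N20388 : nd 20388 = n20424 := ndS (p := 17749) (l := 4) rfl N17749 D20424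
theorem N20389 : nd 20389 = n20425 := ndS (p := 17750) (l := 0) rfl N17750 D20425
theorem N20390 : nd 20390 = n20426 := ndS (p := 17752) (l := 4) rfl N17752 D20426
theorem N20391 : nd 20391 = n20427 := ndS (p := 17760) (l := 4) rfl N17760 D20427
theorem N20392 : nd 20392 = n20428 := ndS (p := 17762) (l := 4) rfl N17762 D20428
theorem N20393 : nd 20393 = n20429 := ndS (p := 17764) (l := 4) rfl N17764 D20429
theorem N20394 : nd 20394 = n20430 := ndS (p := 17768) (l := 3) rfl N17768 D20430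
theorem N20395 : nd 20395 = n20431 := ndS (p := 17768) (l := 5) rfl N17768 D20431
theorem N20396 : nd 20396 = n20432 := ndS (p := 17769) (l := 2) rfl N17769 D20432
theorem N20397 : nd 20397 = n20433 := ndS (p := 17769) (l := 4) rfl N17769 D20433
theorem N20398 : nd 20398 = n20434 := ndS (p := 17771) (l := 5) rfl N17771 D20434
theorem N20399 : nd 20399 = n20435 := ndS (p := 17772) (l := 3) rfl N17772 D20435
theorem N20400 : nd 20400 = n20436 := ndS (p := 17775) (l := 2) rfl N17775 D20436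
theorem N20401 : nd 20401 = n20437 := ndS (p := 17776) (l := 3) rfl N17776 D20437
theorem N20402 : nd 20402 = n20438 := ndS (p := 17777) (l := 1) rfl N17777 D20438
theorem N20403 : nd 20403 = n20439 := ndS (p := 17779) (l := 1) rfl N17779 D20439
theorem N20404 : nd 20404 = n20440 := ndS (p := 17780) (l := 5) rfl N17780 D20440
theorem N20405 : nd 20405 = n20441 := ndS (p := 17781) (l := 4) rfl N17781 D20441
theorem N20406 : nd 20406 = n20442 := ndS (p := 17784) (l := 4) rfl N17784 D20442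
theorem N20407 : nd 20407 = n20443 := ndS (p := 17786) (l := 3) rfl N17786 D20443
theorem N20408 : nd 20408 = n20444 := ndS (p := 17787) (l := 2) rfl N17787 D20444
theorem N20409 : nd 20409 = n20445 := ndS (p := 17787) (l := 4) rfl N17787 D20445
theorem N20410 : nd 20410 = n20446 := ndS (p := 17788) (l := 5) rfl N17788 D20446
theorem N20411 : nd 20411 = n20447 := ndS (p := 17789) (l := 4) rfl N17789 D20447
theorem N20412 : nd 20412 = n20448 := ndS (p := 17790) (l := 3) rfl N17790 D20448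
theorem N20413 : nd 20413 = n20449 := ndS (p := 17792) (l := 2) rfl N17792 D20449
theorem N20414 : nd 20414 = n20450 := ndS (p := 17794) (l := 1) rfl N17794 D20450
theorem N20415 : nd 20415 = n20451 := ndS (p := 17794) (l := 3) rfl N17794 D20451
theorem N20416 : nd 20416 = n20452 := ndS (p := 17801) (l := 2) rfl N17801 D20452
theorem N20417 : nd 20417 = n20453 := ndS (p := 17801) (l := 4) rfl N17801 D20453
theorem N20418 : nd 20418 = n20454 := ndS (p := 17802) (l := 5) rfl N17802 D20454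
theorem N20419 : nd 20419 = n20455 := ndS (p := 17803) (l := 0) rfl N17803 D20455
theorem N20420 : nd 20420 = n20456 := ndS (p := 17803) (l := 4) rfl N17803 D20456
theorem N20421 : nd 20421 = n20457 := ndS (p := 17804) (l := 3) rfl N17804 D20457
theorem N20422 : nd 20422 = n20458 := ndS (p := 17804) (l := 5) rfl N17804 D20458
theorem N20423 : nd 20423 = n20459 := ndS (p := 17813) (l := 2) rfl N17813 D20459
theorem N20424 : nd 20424 = n20460 := ndS (p := 17814) (l := 4) rfl N17814 D20460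
theorem N20425 : nd 20425 = n20461 := ndS (p := 17815) (l := 5) rfl N17815 D20461
theorem N20426 : nd 20426 = n20462 := ndS (p := 17817) (l := 2) rfl N17817 D20462
theorem N20427 : nd 20427 = n20463 := ndS (p := 17821) (l := 2) rfl N17821 D20463
theorem N20428 : nd 20428 = n20464 := ndS (p := 17821) (l := 4) rfl N17821 D20464
theorem N20429 : nd 20429 = n20465 := ndS (p := 17822) (l := 3) rfl N17822 D20465
theorem N20430 : nd 20430 = n20466 := ndS (p := 17822) (l := 4) rfl N17822 D20466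
theorem N20431 : nd 20431 = n20467 := ndS (p := 17823) (l := 5) rfl N17823 D20467
theorem N20432 : nd 20432 = n20468 := ndS (p := 17827) (l := 4) rfl N17827 D20468
theorem N20433 : nd 20433 = n20469 := ndS (p := 17829) (l := 0) rfl N17829 D20469
theorem N20434 : nd 20434 = n20470 := ndS (p := 17829) (l := 3) rfl N17829 D20470
theorem N20435 : nd 20435 = n20471 := ndS (p := 17829) (l := 4) rfl N17829 D20471
theorem N20436 : nd 20436 = n20472 := ndS (p := 17833) (l := 4) rfl N17833 D20472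
theorem N20437 : nd 20437 = n20473 := ndS (p := 17834) (l := 3) rfl N17834 D20473
theorem N20438 : nd 20438 = n20474 := ndS (p := 17834) (l := 5) rfl N17834 D20474
theorem N20439 : nd 20439 = n20475 := ndS (p := 17835) (l := 2) rfl N17835 D20475
theorem N20440 : nd 20440 = n20476 := ndS (p := 17835) (l := 5) rfl N17835 D20476
theorem N20441 : nd 20441 = n20477 := ndS (p := 17837) (l := 1) rfl N17837 D20477
theorem N20442 : nd 20442 = n20478 := ndS (p := 17837) (l := 3) rfl N17837 D20478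
theorem N20443 : nd 20443 = n20479 := ndS (p := 17837) (l := 5) rfl N17837 D20479
theorem N20444 : nd 20444 = n20480 := ndS (p := 17838) (l := 4) rfl N17838 D20480
theorem N20445 : nd 20445 = n20481 := ndS (p := 17839) (l := 0) rfl N17839 D20481
theorem N20446 : nd 20446 = n20482 := ndS (p := 17839) (l := 3) rfl N17839 D20482
theorem N20447 : nd 20447 = n20483 := ndS (p := 17839) (l := 5) rfl N17839 D20483
theorem N20448 : nd 20448 = n20484 := ndS (p := 17843) (l := 0) rfl N17843 D20484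
theorem N20449 : nd 20449 = n20485 := ndS (p := 17843) (l := 3) rfl N17843 D20485
theorem N20450 : nd 20450 = n20486 := ndS (p := 17844) (l := 2) rfl N17844 D20486
theorem N20451 : nd 20451 = n20487 := ndS (p := 17844) (l := 4) rfl N17844 D20487
theorem N20452 : nd 20452 = n20488 := ndS (p := 17844) (l := 5) rfl N17844 D20488
theorem N20453 : nd 20453 = n20489 := ndS (p := 17847) (l := 3) rfl N17847 D20489
theorem N20454 : nd 20454 = n20490 := ndS (p := 17848) (l := 2) rfl N17848 D20490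
theorem N20455 : nd 20455 = n20491 := ndS (p := 17848) (l := 4) rfl N17848 D20491
theorem N20456 : nd 20456 = n20492 := ndS (p := 17849) (l := 1) rfl N17849 D20492
theorem N20457 : nd 20457 = n20493 := ndS (p := 17856) (l := 0) rfl N17856 D20493
theorem N20458 : nd 20458 = n20494 := ndS (p := 17856) (l := 3) rfl N17856 D20494
theorem N20459 : nd 20459 = n20495 := ndS (p := 17856) (l := 5) rfl N17856 D20495
theorem N20460 : nd 20460 = n20496 := ndS (p := 17857) (l := 2) rfl N17857 D20496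
theorem N20461 : nd 20461 = n20497 := ndS (p := 17857) (l := 4) rfl N17857 D20497
theorem N20462 : nd 20462 = n20498 := ndS (p := 17857) (l := 5) rfl N17857 D20498
theorem N20463 : nd 20463 = n20499 := ndS (p := 17858) (l := 4) rfl N17858 D20499
theorem N20464 : nd 20464 = n20500 := ndS (p := 17860) (l := 3) rfl N17860 D20500
theorem N20465 : nd 20465 = n20501 := ndS (p := 17860) (l := 5) rfl N17860 D20501
theorem N20466 : nd 20466 = n20502 := ndS (p := 17861) (l := 4) rfl N17861 D20502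
theorem N20467 : nd 20467 = n20503 := ndS (p := 17862) (l := 4) rfl N17862 D20503
theorem N20468 : nd 20468 = n20504 := ndS (p := 17863) (l := 5) rfl N17863 D20504
theorem N20469 : nd 20469 = n20505 := ndS (p := 17864) (l := 3) rfl N17864 D20505
theorem N20470 : nd 20470 = n20506 := ndS (p := 17865) (l := 1) rfl N17865 D20506
theorem N20471 : nd 20471 = n20507 := ndS (p := 17865) (l := 3) rfl N17865 D20507
theorem N20472 : nd 20472 = n20508 := ndS (p := 17865) (l := 5) rfl N17865 D20508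
theorem N20473 : nd 20473 = n20509 := ndS (p := 17866) (l := 4) rfl N17866 D20509
theorem N20474 : nd 20474 = n20510 := ndS (p := 17867) (l := 0) rfl N17867 D20510
theorem N20475 : nd 20475 = n20511 := ndS (p := 17867) (l := 3) rfl N17867 D20511
theorem N20476 : nd 20476 = n20512 := ndS (p := 17867) (l := 5) rfl N17867 D20512
theorem N20477 : nd 20477 = n20513 := ndS (p := 17871) (l := 3) rfl N17871 D20513
theorem N20478 : nd 20478 = n20514 := ndS (p := 17871) (l := 5) rfl N17871 D20514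
theorem N20479 : nd 20479 = n20515 := ndS (p := 17872) (l := 2) rfl N17872 D20515
theorem N20480 : nd 20480 = n20517 := ndS (p := 17872) (l := 5) rfl N17872 D20517
theorem N20481 : nd 20481 = n20518 := ndS (p := 17874) (l := 1) rfl N17874 D20518
theorem N20482 : nd 20482 = n20520 := ndS (p := 17875) (l := 5) rfl N17875 D20520
theorem N20483 : nd 20483 = n20521 := ndS (p := 17876) (l := 4) rfl N17876 D20521
theorem N20484 : nd 20484 = n20522 := ndS (p := 17877) (l := 3) rfl N17877 D20522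
theorem N20485 : nd 20485 = n20523 := ndS (p := 17878) (l := 4) rfl N17878 D20523
theorem N20486 : nd 20486 = n20524 := ndS (p := 17878) (l := 5) rfl N17878 D20524
theorem N20487 : nd 20487 = n20525 := ndS (p := 17879) (l := 4) rfl N17879 D20525
theorem N20488 : nd 20488 = n20526 := ndS (p := 17880) (l := 1) rfl N17880 D20526
theorem N20489 : nd 20489 = n20527 := ndS (p := 17880) (l := 4) rfl N17880 D20527
theorem N20490 : nd 20490 = n20528 := ndS (p := 17880) (l := 5) rfl N17880 D20528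
theorem N20491 : nd 20491 = n20529 := ndS (p := 17881) (l := 5) rfl N17881 D20529
theorem N20492 : nd 20492 = n20530 := ndS (p := 17882) (l := 4) rfl N17882 D20530
theorem N20493 : nd 20493 = n20531 := ndS (p := 17883) (l := 3) rfl N17883 D20531
theorem N20494 : nd 20494 = n20532 := ndS (p := 17884) (l := 4) rfl N17884 D20532
theorem N20495 : nd 20495 = n20533 := ndS (p := 17885) (l := 5) rfl N17885 D20533
theorem N20496 : nd 20496 = n20534 := ndS (p := 17886) (l := 4) rfl N17886 D20534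
theorem N20497 : nd 20497 = n20535 := ndS (p := 17887) (l := 3) rfl N17887 D20535
theorem N20498 : nd 20498 = n20536 := ndS (p := 17888) (l := 2) rfl N17888 D20536
theorem N20499 : nd 20499 = n20537 := ndS (p := 17889) (l := 2) rfl N17889 D20537
theorem N20500 : nd 20500 = n20538 := ndS (p := 17891) (l := 3) rfl N17891 D20538
theorem N20501 : nd 20501 = n20539 := ndS (p := 17892) (l := 0) rfl N17892 D20539
theorem N20502 : nd 20502 = n20540 := ndS (p := 17893) (l := 3) rfl N17893 D20540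
theorem N20503 : nd 20503 = n20541 := ndS (p := 17894) (l := 2) rfl N17894 D20541
theorem N20504 : nd 20504 = n20542 := ndS (p := 17897) (l := 0) rfl N17897 D20542
theorem N20505 : nd 20505 = n20543 := ndS (p := 17899) (l := 4) rfl N17899 D20543
theorem N20506 : nd 20506 = n20544 := ndS (p := 17900) (l := 4) rfl N17900 D20544
theorem N20507 : nd 20507 = n20545 := ndS (p := 17902) (l := 3) rfl N17902 D20545
theorem N20508 : nd 20508 = n20546 := ndS (p := 17902) (l := 4) rfl N17902 D20546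
theorem N20509 : nd 20509 = n20547 := ndS (p := 17903) (l := 5) rfl N17903 D20547
theorem N20510 : nd 20510 = n20548 := ndS (p := 17906) (l := 4) rfl N17906 D20548
theorem N20511 : nd 20511 = n20549 := ndS (p := 17907) (l := 3) rfl N17907 D20549
theorem N20512 : nd 20512 = n20550 := ndS (p := 17907) (l := 5) rfl N17907 D20550
theorem N20513 : nd 20513 = n20551 := ndS (p := 17908) (l := 2) rfl N17908 D20551
theorem N20514 : nd 20514 = n20552 := ndS (p := 17908) (l := 5) rfl N17908 D20552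
theorem N20515 : nd 20515 = n20553 := ndS (p := 17911) (l := 3) rfl N17911 D20553
theorem N20516 : nd 20516 = n20554 := ndS (p := 17911) (l := 4) rfl N17911 D20554
theorem N20517 : nd 20517 = n20555 := ndS (p := 17913) (l := 3) rfl N17913 D20555
theorem N20518 : nd 20518 = n20556 := ndS (p := 17914) (l := 0) rfl N17914 D20556
theorem N20519 : nd 20519 = n20557 := ndS (p := 17914) (l := 3) rfl N17914 D20557
theorem N20520 : nd 20520 = n20558 := ndS (p := 17915) (l := 2) rfl N17915 D20558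
theorem N20521 : nd 20521 = n20559 := ndS (p := 17915) (l := 4) rfl N17915 D20559
theorem N20522 : nd 20522 = n20560 := ndS (p := 17917) (l := 4) rfl N17917 D20560
theorem N20523 : nd 20523 = n20561 := ndS (p := 17918) (l := 4) rfl N17918 D20561
theorem N20524 : nd 20524 = n20562 := ndS (p := 17919) (l := 5) rfl N17919 D20562
theorem N20525 : nd 20525 = n20563 := ndS (p := 17922) (l := 1) rfl N17922 D20563
theorem N20526 : nd 20526 = n20564 := ndS (p := 17922) (l := 4) rfl N17922 D20564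
theorem N20527 : nd 20527 = n20565 := ndS (p := 17923) (l := 5) rfl N17923 D20565
theorem N20528 : nd 20528 = n20566 := ndS (p := 17924) (l := 3) rfl N17924 D20566
theorem N20529 : nd 20529 = n20567 := ndS (p := 17925) (l := 4) rfl N17925 D20567
theorem N20530 : nd 20530 = n20568 := ndS (p := 17926) (l := 3) rfl N17926 D20568
theorem N20531 : nd 20531 = n20569 := ndS (p := 17926) (l := 5) rfl N17926 D20569
theorem N20532 : nd 20532 = n20570 := ndS (p := 17928) (l := 2) rfl N17928 D20570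
theorem N20533 : nd 20533 = n20571 := ndS (p := 17930) (l := 3) rfl N17930 D20571
theorem N20534 : nd 20534 = n20572 := ndS (p := 17933) (l := 2) rfl N17933 D20572
theorem N20535 : nd 20535 = n20573 := ndS (p := 17934) (l := 1) rfl N17934 D20573
theorem N20536 : nd 20536 = n20574 := ndS (p := 17937) (l := 3) rfl N17937 D20574
theorem N20537 : nd 20537 = n20575 := ndS (p := 17938) (l := 2) rfl N17938 D20575
theorem N20538 : nd 20538 = n20576 := ndS (p := 17939) (l := 1) rfl N17939 D20576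
theorem N20539 : nd 20539 = n20577 := ndS (p := 17939) (l := 4) rfl N17939 D20577
theorem N20540 : nd 20540 = n20578 := ndS (p := 17940) (l := 5) rfl N17940 D20578
theorem N20541 : nd 20541 = n20579 := ndS (p := 17941) (l := 4) rfl N17941 D20579
theorem N20542 : nd 20542 = n20580 := ndS (p := 17942) (l := 3) rfl N17942 D20580
theorem N20543 : nd 20543 = n20581 := ndS (p := 17942) (l := 5) rfl N17942 D20581
theorem N20544 : nd 20544 = n20582 := ndS (p := 17945) (l := 4) rfl N17945 D20582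
theorem N20545 : nd 20545 = n20583 := ndS (p := 17946) (l := 3) rfl N17946 D20583
theorem N20546 : nd 20546 = n20584 := ndS (p := 17947) (l := 2) rfl N17947 D20584
theorem N20547 : nd 20547 = n20585 := ndS (p := 17947) (l := 5) rfl N17947 D20585
theorem N20548 : nd 20548 = n20586 := ndS (p := 17950) (l := 2) rfl N17950 D20586
theorem N20549 : nd 20549 = n20587 := ndS (p := 17952) (l := 3) rfl N17952 D20587
theorem N20550 : nd 20550 = n20588 := ndS (p := 17954) (l := 3) rfl N17954 D20588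
theorem N20551 : nd 20551 = n20589 := ndS (p := 17954) (l := 5) rfl N17954 D20589
theorem N20552 : nd 20552 = n20590 := ndS (p := 17955) (l := 2) rfl N17955 D20590
theorem N20553 : nd 20553 = n20591 := ndS (p := 17959) (l := 0) rfl N17959 D20591
theorem N20554 : nd 20554 = n20592 := ndS (p := 17961) (l := 2) rfl N17961 D20592
theorem N20555 : nd 20555 = n20593 := ndS (p := 17961) (l := 4) rfl N17961 D20593
theorem N20556 : nd 20556 = n20594 := ndS (p := 17962) (l := 3) rfl N17962 D20594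
theorem N20557 : nd 20557 = n20595 := ndS (p := 17962) (l := 4) rfl N17962 D20595
theorem N20558 : nd 20558 = n20596 := ndS (p := 17964) (l := 4) rfl N17964 D20596
theorem N20559 : nd 20559 = n20597 := ndS (p := 17965) (l := 5) rfl N17965 D20597
theorem N20560 : nd 20560 = n20598 := ndS (p := 17966) (l := 3) rfl N17966 D20598
theorem N20561 : nd 20561 = n20599 := ndS (p := 17966) (l := 5) rfl N17966 D20599
theorem N20562 : nd 20562 = n20600 := ndS (p := 17968) (l := 3) rfl N17968 D20600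
theorem N20563 : nd 20563 = n20601 := ndS (p := 17969) (l := 5) rfl N17969 D20601
theorem N20564 : nd 20564 = n20602 := ndS (p := 17970) (l := 4) rfl N17970 D20602
theorem N20565 : nd 20565 = n20603 := ndS (p := 17971) (l := 3) rfl N17971 D20603
theorem N20566 : nd 20566 = n20604 := ndS (p := 17972) (l := 2) rfl N17972 D20604
theorem N20567 : nd 20567 = n20605 := ndS (p := 17973) (l := 1) rfl N17973 D20605
theorem N20568 : nd 20568 = n20606 := ndS (p := 17974) (l := 4) rfl N17974 D20606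
theorem N20569 : nd 20569 = n20607 := ndS (p := 17975) (l := 4) rfl N17975 D20607
theorem N20570 : nd 20570 = n20608 := ndS (p := 17976) (l := 3) rfl N17976 D20608
theorem N20571 : nd 20571 = n20609 := ndS (p := 17976) (l := 5) rfl N17976 D20609
theorem N20572 : nd 20572 = n20610 := ndS (p := 17978) (l := 1) rfl N17978 D20610
theorem N20573 : nd 20573 = n20611 := ndS (p := 17978) (l := 3) rfl N17978 D20611
theorem N20574 : nd 20574 = n20612 := ndS (p := 17978) (l := 5) rfl N17978 D20612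
theorem N20575 : nd 20575 = n20613 := ndS (p := 17980) (l := 0) rfl N17980 D20613
theorem N20576 : nd 20576 = n20614 := ndS (p := 17981) (l := 2) rfl N17981 D20614
theorem N20577 : nd 20577 = n20615 := ndS (p := 17984) (l := 3) rfl N17984 D20615
theorem N20578 : nd 20578 = n20616 := ndS (p := 17984) (l := 5) rfl N17984 D20616
theorem N20579 : nd 20579 = n20617 := ndS (p := 17986) (l := 4) rfl N17986 D20617
theorem N20580 : nd 20580 = n20618 := ndS (p := 17991) (l := 3) rfl N17991 D20618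
theorem N20581 : nd 20581 = n20619 := ndS (p := 17992) (l := 0) rfl N17992 D20619
theorem N20582 : nd 20582 = n20620 := ndS (p := 17995) (l := 4) rfl N17995 D20620
theorem N20583 : nd 20583 = n20621 := ndS (p := 17999) (l := 5) rfl N17999 D20621
theorem N20584 : nd 20584 = n20622 := ndS (p := 18001) (l := 3) rfl N18001 D20622
theorem N20585 : nd 20585 = n20623 := ndS (p := 18002) (l := 4) rfl N18002 D20623
theorem N20586 : nd 20586 = n20624 := ndS (p := 18002) (l := 5) rfl N18002 D20624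
theorem N20587 : nd 20587 = n20625 := ndS (p := 18003) (l := 4) rfl N18003 D20625
theorem N20588 : nd 20588 = n20626 := ndS (p := 18006) (l := 0) rfl N18006 D20626
theorem N20589 : nd 20589 = n20627 := ndS (p := 18006) (l := 3) rfl N18006 D20627
theorem N20590 : nd 20590 = n20628 := ndS (p := 18007) (l := 4) rfl N18007 D20628
theorem N20591 : nd 20591 = n20629 := ndS (p := 18017) (l := 0) rfl N18017 D20629
theorem N20592 : nd 20592 = n20630 := ndS (p := 18018) (l := 4) rfl N18018 D20630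
theorem N20593 : nd 20593 = n20631 := ndS (p := 18019) (l := 4) rfl N18019 D20631
theorem N20594 : nd 20594 = n20632 := ndS (p := 18021) (l := 5) rfl N18021 D20632
theorem N20595 : nd 20595 = n20633 := ndS (p := 18022) (l := 4) rfl N18022 D20633
theorem N20596 : nd 20596 = n20634 := ndS (p := 18033) (l := 5) rfl N18033 D20634
theorem N20597 : nd 20597 = n20635 := ndS (p := 18034) (l := 3) rfl N18034 D20635
theorem N20598 : nd 20598 = n20636 := ndS (p := 18037) (l := 4) rfl N18037 D20636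
theorem N20599 : nd 20599 = n20637 := ndS (p := 18038) (l := 3) rfl N18038 D20637
theorem N20600 : nd 20600 = n20638 := ndS (p := 18039) (l := 2) rfl N18039 D20638
theorem N20601 : nd 20601 = n20639 := ndS (p := 18044) (l := 1) rfl N18044 D20639
theorem N20602 : nd 20602 = n20640 := ndS (p := 18045) (l := 4) rfl N18045 D20640
theorem N20603 : nd 20603 = n20641 := ndS (p := 18048) (l := 4) rfl N18048 D20641
theorem N20604 : nd 20604 = n20642 := ndS (p := 18050) (l := 1) rfl N18050 D20642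
theorem N20605 : nd 20605 = n20643 := ndS (p := 18050) (l := 3) rfl N18050 D20643
theorem N20606 : nd 20606 = n20644 := ndS (p := 18051) (l := 0) rfl N18051 D20644
theorem N20607 : nd 20607 = n20645 := ndS (p := 18051) (l := 3) rfl N18051 D20645
theorem N20608 : nd 20608 = n20646 := ndS (p := 18054) (l := 0) rfl N18054 D20646
theorem N20609 : nd 20609 = n20647 := ndS (p := 18055) (l := 4) rfl N18055 D20647
theorem N20610 : nd 20610 = n20648 := ndS (p := 18058) (l := 4) rfl N18058 D20648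
theorem N20611 : nd 20611 = n20649 := ndS (p := 18059) (l := 5) rfl N18059 D20649
theorem N20612 : nd 20612 = n20650 := ndS (p := 18060) (l := 4) rfl N18060 D20650
theorem N20613 : nd 20613 = n20651 := ndS (p := 18061) (l := 3) rfl N18061 D20651
theorem N20614 : nd 20614 = n20652 := ndS (p := 18067) (l := 2) rfl N18067 D20652
theorem N20615 : nd 20615 = n20653 := ndS (p := 18068) (l := 5) rfl N18068 D20653
theorem N20616 : nd 20616 = n20654 := ndS (p := 18069) (l := 3) rfl N18069 D20654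
theorem N20617 : nd 20617 = n20655 := ndS (p := 18071) (l := 4) rfl N18071 D20655
theorem N20618 : nd 20618 = n20656 := ndS (p := 18072) (l := 4) rfl N18072 D20656
theorem N20619 : nd 20619 = n20657 := ndS (p := 18073) (l := 3) rfl N18073 D20657
theorem N20620 : nd 20620 = n20658 := ndS (p := 18076) (l := 4) rfl N18076 D20658
theorem N20621 : nd 20621 = n20659 := ndS (p := 18077) (l := 3) rfl N18077 D20659
theorem N20622 : nd 20622 = n20660 := ndS (p := 18077) (l := 5) rfl N18077 D20660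
theorem N20623 : nd 20623 = n20661 := ndS (p := 18078) (l := 2) rfl N18078 D20661
theorem N20624 : nd 20624 = n20662 := ndS (p := 18078) (l := 5) rfl N18078 D20662
theorem N20625 : nd 20625 = n20663 := ndS (p := 18087) (l := 3) rfl N18087 D20663
theorem N20626 : nd 20626 = n20664 := ndS (p := 18087) (l := 4) rfl N18087 D20664
theorem N20627 : nd 20627 = n20665 := ndS (p := 18088) (l := 5) rfl N18088 D20665
theorem N20628 : nd 20628 = n20666 := ndS (p := 18090) (l := 4) rfl N18090 D20666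
theorem N20629 : nd 20629 = n20667 := ndS (p := 18091) (l := 3) rfl N18091 D20667
theorem N20630 : nd 20630 = n20668 := ndS (p := 18091) (l := 5) rfl N18091 D20668
theorem N20631 : nd 20631 = n20669 := ndS (p := 18096) (l := 1) rfl N18096 D20669
theorem N20632 : nd 20632 = n20670 := ndS (p := 18098) (l := 4) rfl N18098 D20670
theorem N20633 : nd 20633 = n20671 := ndS (p := 18101) (l := 1) rfl N18101 D20671
theorem N20634 : nd 20634 = n20672 := ndS (p := 18101) (l := 4) rfl N18101 D20672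
theorem N20635 : nd 20635 = n20673 := ndS (p := 18101) (l := 5) rfl N18101 D20673
theorem N20636 : nd 20636 = n20674 := ndS (p := 18104) (l := 3) rfl N18104 D20674
theorem N20637 : nd 20637 = n20675 := ndS (p := 18104) (l := 4) rfl N18104 D20675
theorem N20638 : nd 20638 = n20676 := ndS (p := 18105) (l := 4) rfl N18105 D20676
theorem N20639 : nd 20639 = n20677 := ndS (p := 18105) (l := 5) rfl N18105 D20677
theorem N20640 : nd 20640 = n20678 := ndS (p := 18106) (l := 3) rfl N18106 D20678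
theorem N20641 : nd 20641 = n20679 := ndS (p := 18106) (l := 5) rfl N18106 D20679
theorem N20642 : nd 20642 = n20680 := ndS (p := 18111) (l := 5) rfl N18111 D20680
theorem N20643 : nd 20643 = n20681 := ndS (p := 18115) (l := 3) rfl N18115 D20681
theorem N20644 : nd 20644 = n20682 := ndS (p := 18121) (l := 3) rfl N18121 D20682
theorem N20645 : nd 20645 = n20683 := ndS (p := 18121) (l := 4) rfl N18121 D20683
theorem N20646 : nd 20646 = n20684 := ndS (p := 18122) (l := 4) rfl N18122 D20684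
theorem N20647 : nd 20647 = n20685 := ndS (p := 18123) (l := 3) rfl N18123 D20685
theorem N20648 : nd 20648 = n20686 := ndS (p := 18124) (l := 4) rfl N18124 D20686
theorem N20649 : nd 20649 = n20687 := ndS (p := 18125) (l := 3) rfl N18125 D20687
theorem N20650 : nd 20650 = n20688 := ndS (p := 18126) (l := 2) rfl N18126 D20688
theorem N20651 : nd 20651 = n20689 := ndS (p := 18129) (l := 3) rfl N18129 D20689
theorem N20652 : nd 20652 = n20690 := ndS (p := 18131) (l := 2) rfl N18131 D20690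
theorem N20653 : nd 20653 = n20691 := ndS (p := 18131) (l := 5) rfl N18131 D20691
theorem N20654 : nd 20654 = n20692 := ndS (p := 18133) (l := 1) rfl N18133 D20692
theorem N20655 : nd 20655 = n20693 := ndS (p := 18133) (l := 3) rfl N18133 D20693
theorem N20656 : nd 20656 = n20694 := ndS (p := 18133) (l := 5) rfl N18133 D20694
theorem N20657 : nd 20657 = n20695 := ndS (p := 18134) (l := 4) rfl N18134 D20695
theorem N20658 : nd 20658 = n20696 := ndS (p := 18135) (l := 0) rfl N18135 D20696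
theorem N20659 : nd 20659 = n20697 := ndS (p := 18137) (l := 2) rfl N18137 D20697
theorem N20660 : nd 20660 = n20698 := ndS (p := 18137) (l := 4) rfl N18137 D20698
theorem N20661 : nd 20661 = n20699 := ndS (p := 18138) (l := 4) rfl N18138 D20699
theorem N20662 : nd 20662 = n20700 := ndS (p := 18139) (l := 3) rfl N18139 D20700
theorem N20663 : nd 20663 = n20701 := ndS (p := 18140) (l := 5) rfl N18140 D20701
theorem N20664 : nd 20664 = n20702 := ndS (p := 18141) (l := 3) rfl N18141 D20702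
theorem N20665 : nd 20665 = n20703 := ndS (p := 18144) (l := 1) rfl N18144 D20703
theorem N20666 : nd 20666 = n20704 := ndS (p := 18144) (l := 4) rfl N18144 D20704
theorem N20667 : nd 20667 = n20705 := ndS (p := 18144) (l := 5) rfl N18144 D20705
theorem N20668 : nd 20668 = n20706 := ndS (p := 18145) (l := 5) rfl N18145 D20706
theorem N20669 : nd 20669 = n20707 := ndS (p := 18146) (l := 4) rfl N18146 D20707
theorem N20670 : nd 20670 = n20708 := ndS (p := 18147) (l := 3) rfl N18147 D20708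
theorem N20671 : nd 20671 = n20709 := ndS (p := 18148) (l := 0) rfl N18148 D20709
theorem N20672 : nd 20672 = n20710 := ndS (p := 18148) (l := 3) rfl N18148 D20710
theorem N20673 : nd 20673 = n20711 := ndS (p := 18148) (l := 4) rfl N18148 D20711
theorem N20674 : nd 20674 = n20712 := ndS (p := 18149) (l := 4) rfl N18149 D20712
theorem N20675 : nd 20675 = n20713 := ndS (p := 18149) (l := 5) rfl N18149 D20713
theorem N20676 : nd 20676 = n20714 := ndS (p := 18150) (l := 3) rfl N18150 D20714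
theorem N20677 : nd 20677 = n20715 := ndS (p := 18150) (l := 5) rfl N18150 D20715
theorem N20678 : nd 20678 = n20716 := ndS (p := 18155) (l := 4) rfl N18155 D20716
theorem N20679 : nd 20679 = n20717 := ndS (p := 18156) (l := 3) rfl N18156 D20717
theorem N20680 : nd 20680 = n20718 := ndS (p := 18156) (l := 5) rfl N18156 D20718
theorem N20681 : nd 20681 = n20719 := ndS (p := 18162) (l := 3) rfl N18162 D20719
theorem N20682 : nd 20682 = n20720 := ndS (p := 18165) (l := 3) rfl N18165 D20720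
theorem N20683 : nd 20683 = n20721 := ndS (p := 18166) (l := 2) rfl N18166 D20721
theorem N20684 : nd 20684 = n20722 := ndS (p := 18166) (l := 5) rfl N18166 D20722
theorem N20685 : nd 20685 = n20723 := ndS (p := 18169) (l := 2) rfl N18169 D20723
theorem N20686 : nd 20686 = n20724 := ndS (p := 18170) (l := 1) rfl N18170 D20724
theorem N20687 : nd 20687 = n20725 := ndS (p := 18170) (l := 3) rfl N18170 D20725
theorem N20688 : nd 20688 = n20726 := ndS (p := 18170) (l := 4) rfl N18170 D20726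
theorem N20689 : nd 20689 = n20727 := ndS (p := 18172) (l := 3) rfl N18172 D20727
theorem N20690 : nd 20690 = n20728 := ndS (p := 18173) (l := 2) rfl N18173 D20728
theorem N20691 : nd 20691 = n20729 := ndS (p := 18173) (l := 4) rfl N18173 D20729
theorem N20692 : nd 20692 = n20730 := ndS (p := 18174) (l := 3) rfl N18174 D20730
theorem N20693 : nd 20693 = n20731 := ndS (p := 18175) (l := 2) rfl N18175 D20731
theorem N20694 : nd 20694 = n20732 := ndS (p := 18176) (l := 3) rfl N18176 D20732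
theorem N20695 : nd 20695 = n20733 := ndS (p := 18176) (l := 5) rfl N18176 D20733
theorem N20696 : nd 20696 = n20734 := ndS (p := 18178) (l := 2) rfl N18178 D20734
theorem N20697 : nd 20697 = n20735 := ndS (p := 18179) (l := 3) rfl N18179 D20735
theorem N20698 : nd 20698 = n20736 := ndS (p := 18180) (l := 2) rfl N18180 D20736
theorem N20699 : nd 20699 = n20737 := ndS (p := 18180) (l := 5) rfl N18180 D20737
theorem N20700 : nd 20700 = n20738 := ndS (p := 18182) (l := 1) rfl N18182 D20738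
theorem N20701 : nd 20701 = n20739 := ndS (p := 18182) (l := 3) rfl N18182 D20739
theorem N20702 : nd 20702 = n20740 := ndS (p := 18183) (l := 0) rfl N18183 D20740
theorem N20703 : nd 20703 = n20741 := ndS (p := 18185) (l := 2) rfl N18185 D20741
theorem N20704 : nd 20704 = n20742 := ndS (p := 18187) (l := 2) rfl N18187 D20742
theorem N20705 : nd 20705 = n20743 := ndS (p := 18188) (l := 2) rfl N18188 D20743
theorem N20706 : nd 20706 = n20744 := ndS (p := 18189) (l := 1) rfl N18189 D20744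
theorem N20707 : nd 20707 = n20745 := ndS (p := 18189) (l := 3) rfl N18189 D20745
theorem N20708 : nd 20708 = n20746 := ndS (p := 18190) (l := 5) rfl N18190 D20746
theorem N20709 : nd 20709 = n20747 := ndS (p := 18192) (l := 2) rfl N18192 D20747
theorem N20710 : nd 20710 = n20748 := ndS (p := 18193) (l := 1) rfl N18193 D20748
theorem N20711 : nd 20711 = n20749 := ndS (p := 18194) (l := 1) rfl N18194 D20749
theorem N20712 : nd 20712 = n20750 := ndS (p := 18194) (l := 3) rfl N18194 D20750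
theorem N20713 : nd 20713 = n20751 := ndS (p := 18194) (l := 4) rfl N18194 D20751
theorem N20714 : nd 20714 = n20752 := ndS (p := 18195) (l := 5) rfl N18195 D20752
theorem N20715 : nd 20715 = n20753 := ndS (p := 18196) (l := 3) rfl N18196 D20753
theorem N20716 : nd 20716 = n20754 := ndS (p := 18197) (l := 4) rfl N18197 D20754
theorem N20717 : nd 20717 = n20755 := ndS (p := 18198) (l := 3) rfl N18198 D20755
theorem N20718 : nd 20718 = n20756 := ndS (p := 18198) (l := 5) rfl N18198 D20756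
theorem N20719 : nd 20719 = n20757 := ndS (p := 18200) (l := 2) rfl N18200 D20757
theorem N20720 : nd 20720 = n20758 := ndS (p := 18201) (l := 3) rfl N18201 D20758
theorem N20721 : nd 20721 = n20759 := ndS (p := 18201) (l := 5) rfl N18201 D20759
theorem N20722 : nd 20722 = n20760 := ndS (p := 18202) (l := 4) rfl N18202 D20760
theorem N20723 : nd 20723 = n20761 := ndS (p := 18203) (l := 3) rfl N18203 D20761
theorem N20724 : nd 20724 = n20762 := ndS (p := 18204) (l := 2) rfl N18204 D20762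
theorem N20725 : nd 20725 = n20763 := ndS (p := 18205) (l := 3) rfl N18205 D20763
theorem N20726 : nd 20726 = n20764 := ndS (p := 18205) (l := 5) rfl N18205 D20764
theorem N20727 : nd 20727 = n20765 := ndS (p := 18206) (l := 2) rfl N18206 D20765
theorem N20728 : nd 20728 = n20766 := ndS (p := 18206) (l := 5) rfl N18206 D20766
theorem N20729 : nd 20729 = n20767 := ndS (p := 18207) (l := 4) rfl N18207 D20767
theorem N20730 : nd 20730 = n20768 := ndS (p := 18208) (l := 3) rfl N18208 D20768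
theorem N20731 : nd 20731 = n20769 := ndS (p := 18209) (l := 3) rfl N18209 D20769
theorem N20732 : nd 20732 = n20770 := ndS (p := 18210) (l := 2) rfl N18210 D20770
theorem N20733 : nd 20733 = n20771 := ndS (p := 18211) (l := 1) rfl N18211 D20771
theorem N20734 : nd 20734 = n20772 := ndS (p := 18211) (l := 3) rfl N18211 D20772
theorem N20735 : nd 20735 = n20773 := ndS (p := 18214) (l := 1) rfl N18214 D20773
theorem N20736 : nd 20736 = n20774 := ndS (p := 18215) (l := 0) rfl N18215 D20774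
theorem N20737 : nd 20737 = n20775 := ndS (p := 18217) (l := 4) rfl N18217 D20775
theorem N20738 : nd 20738 = n20776 := ndS (p := 18218) (l := 3) rfl N18218 D20776
theorem N20739 : nd 20739 = n20777 := ndS (p := 18219) (l := 2) rfl N18219 D20777
theorem N20740 : nd 20740 = n20778 := ndS (p := 18222) (l := 4) rfl N18222 D20778
theorem N20741 : nd 20741 = n20779 := ndS (p := 18223) (l := 1) rfl N18223 D20779
theorem N20742 : nd 20742 = n20780 := ndS (p := 18223) (l := 4) rfl N18223 D20780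
theorem N20743 : nd 20743 = n20781 := ndS (p := 18224) (l := 5) rfl N18224 D20781
theorem N20744 : nd 20744 = n20782 := ndS (p := 18225) (l := 4) rfl N18225 D20782
theorem N20745 : nd 20745 = n20783 := ndS (p := 18226) (l := 3) rfl N18226 D20783
theorem N20746 : nd 20746 = n20784 := ndS (p := 18227) (l := 3) rfl N18227 D20784
theorem N20747 : nd 20747 = n20785 := ndS (p := 18228) (l := 2) rfl N18228 D20785
theorem N20748 : nd 20748 = n20786 := ndS (p := 18229) (l := 2) rfl N18229 D20786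
theorem N20749 : nd 20749 = n20787 := ndS (p := 18229) (l := 5) rfl N18229 D20787
theorem N20750 : nd 20750 = n20788 := ndS (p := 18231) (l := 2) rfl N18231 D20788
theorem N20751 : nd 20751 = n20789 := ndS (p := 18231) (l := 5) rfl N18231 D20789
theorem N20752 : nd 20752 = n20790 := ndS (p := 18233) (l := 1) rfl N18233 D20790
theorem N20753 : nd 20753 = n20791 := ndS (p := 18233) (l := 3) rfl N18233 D20791
theorem N20754 : nd 20754 = n20792 := ndS (p := 18233) (l := 5) rfl N18233 D20792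
theorem N20755 : nd 20755 = n20793 := ndS (p := 18234) (l := 4) rfl N18234 D20793
theorem N20756 : nd 20756 = n20794 := ndS (p := 18235) (l := 0) rfl N18235 D20794
theorem N20757 : nd 20757 = n20795 := ndS (p := 18237) (l := 3) rfl N18237 D20795
theorem N20758 : nd 20758 = n20796 := ndS (p := 18237) (l := 5) rfl N18237 D20796
theorem N20759 : nd 20759 = n20797 := ndS (p := 18239) (l := 2) rfl N18239 D20797
theorem N20760 : nd 20760 = n20798 := ndS (p := 18239) (l := 5) rfl N18239 D20798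
theorem N20761 : nd 20761 = n20799 := ndS (p := 18241) (l := 2) rfl N18241 D20799
theorem N20762 : nd 20762 = n20800 := ndS (p := 18243) (l := 3) rfl N18243 D20800
theorem N20763 : nd 20763 = n20801 := ndS (p := 18244) (l := 0) rfl N18244 D20801
theorem N20764 : nd 20764 = n20802 := ndS (p := 18245) (l := 4) rfl N18245 D20802
theorem N20765 : nd 20765 = n20803 := ndS (p := 18246) (l := 1) rfl N18246 D20803
theorem N20766 : nd 20766 = n20804 := ndS (p := 18246) (l := 4) rfl N18246 D20804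
theorem N20767 : nd 20767 = n20805 := ndS (p := 18248) (l := 4) rfl N18248 D20805
theorem N20768 : nd 20768 = n20806 := ndS (p := 18249) (l := 3) rfl N18249 D20806
theorem N20769 : nd 20769 = n20807 := ndS (p := 18249) (l := 5) rfl N18249 D20807
theorem N20770 : nd 20770 = n20808 := ndS (p := 18253) (l := 2) rfl N18253 D20808
theorem N20771 : nd 20771 = n20809 := ndS (p := 18254) (l := 1) rfl N18254 D20809
theorem N20772 : nd 20772 = n20810 := ndS (p := 18254) (l := 3) rfl N18254 D20810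
theorem N20773 : nd 20773 = n20811 := ndS (p := 18254) (l := 5) rfl N18254 D20811
theorem N20774 : nd 20774 = n20812 := ndS (p := 18255) (l := 4) rfl N18255 D20812
theorem N20775 : nd 20775 = n20813 := ndS (p := 18256) (l := 0) rfl N18256 D20813
theorem N20776 : nd 20776 = n20814 := ndS (p := 18258) (l := 5) rfl N18258 D20814
theorem N20777 : nd 20777 = n20815 := ndS (p := 18260) (l := 5) rfl N18260 D20815
theorem N20778 : nd 20778 = n20816 := ndS (p := 18262) (l := 4) rfl N18262 D20816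
theorem N20779 : nd 20779 = n20817 := ndS (p := 18263) (l := 4) rfl N18263 D20817
theorem N20780 : nd 20780 = n20818 := ndS (p := 18264) (l := 4) rfl N18264 D20818
theorem N20781 : nd 20781 = n20819 := ndS (p := 18265) (l := 5) rfl N18265 D20819
theorem N20782 : nd 20782 = n20820 := ndS (p := 18266) (l := 3) rfl N18266 D20820
theorem N20783 : nd 20783 = n20821 := ndS (p := 18270) (l := 0) rfl N18270 D20821
theorem N20784 : nd 20784 = n20822 := ndS (p := 18270) (l := 4) rfl N18270 D20822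
theorem N20785 : nd 20785 = n20823 := ndS (p := 18271) (l := 3) rfl N18271 D20823
theorem N20786 : nd 20786 = n20824 := ndS (p := 18272) (l := 4) rfl N18272 D20824
theorem N20787 : nd 20787 = n20825 := ndS (p := 18273) (l := 3) rfl N18273 D20825
theorem N20788 : nd 20788 = n20826 := ndS (p := 18273) (l := 5) rfl N18273 D20826
theorem N20789 : nd 20789 = n20827 := ndS (p := 18279) (l := 4) rfl N18279 D20827
theorem N20790 : nd 20790 = n20828 := ndS (p := 18281) (l := 4) rfl N18281 D20828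
theorem N20791 : nd 20791 = n20829 := ndS (p := 18287) (l := 4) rfl N18287 D20829
theorem N20792 : nd 20792 = n20830 := ndS (p := 18290) (l := 3) rfl N18290 D20830
theorem N20793 : nd 20793 = n20831 := ndS (p := 18292) (l := 2) rfl N18292 D20831
theorem N20794 : nd 20794 = n20832 := ndS (p := 18293) (l := 3) rfl N18293 D20832
theorem N20795 : nd 20795 = n20833 := ndS (p := 18294) (l := 2) rfl N18294 D20833
theorem N20796 : nd 20796 = n20834 := ndS (p := 18295) (l := 1) rfl N18295 D20834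
theorem N20797 : nd 20797 = n20835 := ndS (p := 18295) (l := 3) rfl N18295 D20835
theorem N20798 : nd 20798 = n20836 := ndS (p := 18297) (l := 2) rfl N18297 D20836
theorem N20799 : nd 20799 = n20837 := ndS (p := 18304) (l := 4) rfl N18304 D20837
theorem N20800 : nd 20800 = n20838 := ndS (p := 18305) (l := 3) rfl N18305 D20838
theorem N20801 : nd 20801 = n20839 := ndS (p := 18306) (l := 4) rfl N18306 D20839
theorem N20802 : nd 20802 = n20840 := ndS (p := 18307) (l := 3) rfl N18307 D20840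
theorem N20803 : nd 20803 = n20841 := ndS (p := 18307) (l := 5) rfl N18307 D20841
theorem N20804 : nd 20804 = n20842 := ndS (p := 18310) (l := 3) rfl N18310 D20842
theorem N20805 : nd 20805 = n20843 := ndS (p := 18310) (l := 5) rfl N18310 D20843
theorem N20806 : nd 20806 = n20844 := ndS (p := 18311) (l := 4) rfl N18311 D20844
theorem N20807 : nd 20807 = n20845 := ndS (p := 18312) (l := 2) rfl N18312 D20845
theorem N20808 : nd 20808 = n20846 := ndS (p := 18312) (l := 5) rfl N18312 D20846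
theorem N20809 : nd 20809 = n20847 := ndS (p := 18314) (l := 4) rfl N18314 D20847
theorem N20810 : nd 20810 = n20848 := ndS (p := 18315) (l := 4) rfl N18315 D20848
theorem N20811 : nd 20811 = n20849 := ndS (p := 18316) (l := 3) rfl N18316 D20849
theorem N20812 : nd 20812 = n20850 := ndS (p := 18317) (l := 3) rfl N18317 D20850
theorem N20813 : nd 20813 = n20851 := ndS (p := 18317) (l := 5) rfl N18317 D20851
theorem N20814 : nd 20814 = n20852 := ndS (p := 18320) (l := 3) rfl N18320 D20852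
theorem N20815 : nd 20815 = n20853 := ndS (p := 18320) (l := 4) rfl N18320 D20853
theorem N20816 : nd 20816 = n20854 := ndS (p := 18322) (l := 2) rfl N18322 D20854
theorem N20817 : nd 20817 = n20855 := ndS (p := 18322) (l := 4) rfl N18322 D20855
theorem N20818 : nd 20818 = n20856 := ndS (p := 18323) (l := 3) rfl N18323 D20856
theorem N20819 : nd 20819 = n20857 := ndS (p := 18325) (l := 3) rfl N18325 D20857
theorem N20820 : nd 20820 = n20858 := ndS (p := 18326) (l := 3) rfl N18326 D20858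
theorem N20821 : nd 20821 = n20859 := ndS (p := 18326) (l := 5) rfl N18326 D20859
theorem N20822 : nd 20822 = n20860 := ndS (p := 18328) (l := 3) rfl N18328 D20860
theorem N20823 : nd 20823 = n20861 := ndS (p := 18328) (l := 5) rfl N18328 D20861
theorem N20824 : nd 20824 = n20862 := ndS (p := 18332) (l := 2) rfl N18332 D20862
theorem N20825 : nd 20825 = n20863 := ndS (p := 18337) (l := 5) rfl N18337 D20863
theorem N20826 : nd 20826 = n20864 := ndS (p := 18340) (l := 4) rfl N18340 D20864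
theorem N20827 : nd 20827 = n20865 := ndS (p := 18341) (l := 5) rfl N18341 D20865
theorem N20828 : nd 20828 = n20866 := ndS (p := 18342) (l := 3) rfl N18342 D20866
theorem N20829 : nd 20829 = n20867 := ndS (p := 18348) (l := 2) rfl N18348 D20867
theorem N20830 : nd 20830 = n20868 := ndS (p := 18349) (l := 2) rfl N18349 D20868
theorem N20831 : nd 20831 = n20869 := ndS (p := 18350) (l := 2) rfl N18350 D20869
theorem N20832 : nd 20832 = n20870 := ndS (p := 18350) (l := 5) rfl N18350 D20870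
theorem N20833 : nd 20833 = n20871 := ndS (p := 18352) (l := 2) rfl N18352 D20871
theorem N20834 : nd 20834 = n20872 := ndS (p := 18352) (l := 5) rfl N18352 D20872
theorem N20835 : nd 20835 = n20873 := ndS (p := 18354) (l := 1) rfl N18354 D20873
theorem N20836 : nd 20836 = n20874 := ndS (p := 18355) (l := 4) rfl N18355 D20874
theorem N20837 : nd 20837 = n20875 := ndS (p := 18356) (l := 1) rfl N18356 D20875
theorem N20838 : nd 20838 = n20876 := ndS (p := 18356) (l := 3) rfl N18356 D20876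
theorem N20839 : nd 20839 = n20877 := ndS (p := 18356) (l := 5) rfl N18356 D20877
theorem N20840 : nd 20840 = n20878 := ndS (p := 18358) (l := 0) rfl N18358 D20878
theorem N20841 : nd 20841 = n20879 := ndS (p := 18358) (l := 3) rfl N18358 D20879
theorem N20842 : nd 20842 = n20880 := ndS (p := 18359) (l := 4) rfl N18359 D20880
theorem N20843 : nd 20843 = n20881 := ndS (p := 18360) (l := 4) rfl N18360 D20881
theorem N20844 : nd 20844 = n20882 := ndS (p := 18367) (l := 3) rfl N18367 D20882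
theorem N20845 : nd 20845 = n20883 := ndS (p := 18368) (l := 2) rfl N18368 D20883
theorem N20846 : nd 20846 = n20884 := ndS (p := 18369) (l := 1) rfl N18369 D20884
theorem N20847 : nd 20847 = n20885 := ndS (p := 18373) (l := 4) rfl N18373 D20885
theorem N20848 : nd 20848 = n20886 := ndS (p := 18374) (l := 3) rfl N18374 D20886
theorem N20849 : nd 20849 = n20887 := ndS (p := 18376) (l := 3) rfl N18376 D20887
theorem N20850 : nd 20850 = n20888 := ndS (p := 18377) (l := 2) rfl N18377 D20888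
theorem N20851 : nd 20851 = n20889 := ndS (p := 18378) (l := 3) rfl N18378 D20889
theorem N20852 : nd 20852 = n20890 := ndS (p := 18379) (l := 0) rfl N18379 D20890
theorem N20853 : nd 20853 = n20891 := ndS (p := 18379) (l := 3) rfl N18379 D20891
theorem N20854 : nd 20854 = n20892 := ndS (p := 18380) (l := 4) rfl N18380 D20892
theorem N20855 : nd 20855 = n20893 := ndS (p := 18383) (l := 0) rfl N18383 D20893
theorem N20856 : nd 20856 = n20894 := ndS (p := 18387) (l := 3) rfl N18387 D20894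
theorem N20857 : nd 20857 = n20895 := ndS (p := 18388) (l := 2) rfl N18388 D20895
theorem N20858 : nd 20858 = n20896 := ndS (p := 18388) (l := 4) rfl N18388 D20896
theorem N20859 : nd 20859 = n20897 := ndS (p := 18389) (l := 5) rfl N18389 D20897
theorem N20860 : nd 20860 = n20898 := ndS (p := 18390) (l := 2) rfl N18390 D20898
theorem N20861 : nd 20861 = n20899 := ndS (p := 18391) (l := 3) rfl N18391 D20899
theorem N20862 : nd 20862 = n20900 := ndS (p := 18393) (l := 2) rfl N18393 D20900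
theorem N20863 : nd 20863 = n20901 := ndS (p := 18393) (l := 5) rfl N18393 D20901
theorem N20864 : nd 20864 = n20902 := ndS (p := 18395) (l := 4) rfl N18395 D20902
theorem N20865 : nd 20865 = n20903 := ndS (p := 18396) (l := 3) rfl N18396 D20903
theorem N20866 : nd 20866 = n20904 := ndS (p := 18397) (l := 2) rfl N18397 D20904
theorem N20867 : nd 20867 = n20905 := ndS (p := 18399) (l := 3) rfl N18399 D20905
theorem N20868 : nd 20868 = n20906 := ndS (p := 18400) (l := 3) rfl N18400 D20906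
theorem N20869 : nd 20869 = n20907 := ndS (p := 18400) (l := 5) rfl N18400 D20907
theorem N20870 : nd 20870 = n20908 := ndS (p := 18401) (l := 2) rfl N18401 D20908
theorem N20871 : nd 20871 = n20909 := ndS (p := 18403) (l := 2) rfl N18403 D20909
theorem N20872 : nd 20872 = n20910 := ndS (p := 18403) (l := 5) rfl N18403 D20910
theorem N20873 : nd 20873 = n20911 := ndS (p := 18405) (l := 1) rfl N18405 D20911
theorem N20874 : nd 20874 = n20912 := ndS (p := 18405) (l := 3) rfl N18405 D20912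
theorem N20875 : nd 20875 = n20913 := ndS (p := 18405) (l := 5) rfl N18405 D20913
theorem N20876 : nd 20876 = n20914 := ndS (p := 18406) (l := 4) rfl N18406 D20914
theorem N20877 : nd 20877 = n20915 := ndS (p := 18409) (l := 0) rfl N18409 D20915
theorem N20878 : nd 20878 = n20916 := ndS (p := 18409) (l := 3) rfl N18409 D20916
theorem N20879 : nd 20879 = n20917 := ndS (p := 18409) (l := 5) rfl N18409 D20917
theorem N20880 : nd 20880 = n20918 := ndS (p := 18410) (l := 4) rfl N18410 D20918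
theorem N20881 : nd 20881 = n20919 := ndS (p := 18410) (l := 5) rfl N18410 D20919
theorem N20882 : nd 20882 = n20920 := ndS (p := 18413) (l := 3) rfl N18413 D20920
theorem N20883 : nd 20883 = n20921 := ndS (p := 18413) (l := 5) rfl N18413 D20921
theorem N20884 : nd 20884 = n20922 := ndS (p := 18414) (l := 2) rfl N18414 D20922
theorem N20885 : nd 20885 = n20923 := ndS (p := 18417) (l := 3) rfl N18417 D20923
theorem N20886 : nd 20886 = n20924 := ndS (p := 18418) (l := 2) rfl N18418 D20924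
theorem N20887 : nd 20887 = n20925 := ndS (p := 18419) (l := 1) rfl N18419 D20925
theorem N20888 : nd 20888 = n20926 := ndS (p := 18425) (l := 3) rfl N18425 D20926
theorem N20889 : nd 20889 = n20927 := ndS (p := 18426) (l := 2) rfl N18426 D20927
theorem N20890 : nd 20890 = n20928 := ndS (p := 18432) (l := 1) rfl N18432 D20928
theorem N20891 : nd 20891 = n20929 := ndS (p := 18432) (l := 3) rfl N18432 D20929
theorem N20892 : nd 20892 = n20930 := ndS (p := 18433) (l := 0) rfl N18433 D20930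
theorem N20893 : nd 20893 = n20931 := ndS (p := 18434) (l := 1) rfl N18434 D20931
theorem N20894 : nd 20894 = n20932 := ndS (p := 18434) (l := 3) rfl N18434 D20932
theorem N20895 : nd 20895 = n20933 := ndS (p := 18435) (l := 0) rfl N18435 D20933
theorem N20896 : nd 20896 = n20934 := ndS (p := 18435) (l := 3) rfl N18435 D20934
theorem N20897 : nd 20897 = n20935 := ndS (p := 18436) (l := 2) rfl N18436 D20935
theorem N20898 : nd 20898 = n20936 := ndS (p := 18436) (l := 4) rfl N18436 D20936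
theorem N20899 : nd 20899 = n20937 := ndS (p := 18437) (l := 3) rfl N18437 D20937
theorem N20900 : nd 20900 = n20938 := ndS (p := 18438) (l := 2) rfl N18438 D20938
theorem N20901 : nd 20901 = n20939 := ndS (p := 18441) (l := 4) rfl N18441 D20939
theorem N20902 : nd 20902 = n20940 := ndS (p := 18442) (l := 3) rfl N18442 D20940
theorem N20903 : nd 20903 = n20941 := ndS (p := 18443) (l := 4) rfl N18443 D20941
theorem N20904 : nd 20904 = n20942 := ndS (p := 18456) (l := 4) rfl N18456 D20942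
theorem N20905 : nd 20905 = n20943 := ndS (p := 18457) (l := 3) rfl N18457 D20943
theorem N20906 : nd 20906 = n20944 := ndS (p := 18460) (l := 3) rfl N18460 D20944
theorem N20907 : nd 20907 = n20945 := ndS (p := 18460) (l := 4) rfl N18460 D20945
theorem N20908 : nd 20908 = n20946 := ndS (p := 18461) (l := 2) rfl N18461 D20946
theorem N20909 : nd 20909 = n20947 := ndS (p := 18461) (l := 4) rfl N18461 D20947
theorem N20910 : nd 20910 = n20948 := ndS (p := 18462) (l := 3) rfl N18462 D20948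
theorem N20911 : nd 20911 = n20949 := ndS (p := 18462) (l := 5) rfl N18462 D20949
theorem N20912 : nd 20912 = n20950 := ndS (p := 18463) (l := 3) rfl N18463 D20950
theorem N20913 : nd 20913 = n20951 := ndS (p := 18463) (l := 5) rfl N18463 D20951
theorem N20914 : nd 20914 = n20952 := ndS (p := 18464) (l := 4) rfl N18464 D20952
theorem N20915 : nd 20915 = n20953 := ndS (p := 18465) (l := 2) rfl N18465 D20953
theorem N20916 : nd 20916 = n20954 := ndS (p := 18465) (l := 5) rfl N18465 D20954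
theorem N20917 : nd 20917 = n20955 := ndS (p := 18467) (l := 3) rfl N18467 D20955
theorem N20918 : nd 20918 = n20956 := ndS (p := 18467) (l := 5) rfl N18467 D20956
theorem N20919 : nd 20919 = n20957 := ndS (p := 18468) (l := 2) rfl N18468 D20957
theorem N20920 : nd 20920 = n20958 := ndS (p := 18470) (l := 1) rfl N18470 D20958
theorem N20921 : nd 20921 = n20959 := ndS (p := 18470) (l := 3) rfl N18470 D20959
theorem N20922 : nd 20922 = n20960 := ndS (p := 18470) (l := 5) rfl N18470 D20960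
theorem N20923 : nd 20923 = n20961 := ndS (p := 18471) (l := 4) rfl N18471 D20961
theorem N20924 : nd 20924 = n20962 := ndS (p := 18472) (l := 3) rfl N18472 D20962
theorem N20925 : nd 20925 = n20963 := ndS (p := 18473) (l := 3) rfl N18473 D20963
theorem N20926 : nd 20926 = n20964 := ndS (p := 18473) (l := 5) rfl N18473 D20964
theorem N20927 : nd 20927 = n20965 := ndS (p := 18476) (l := 2) rfl N18476 D20965
theorem N20928 : nd 20928 = n20966 := ndS (p := 18476) (l := 5) rfl N18476 D20966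
theorem N20929 : nd 20929 = n20967 := ndS (p := 18478) (l := 1) rfl N18478 D20967
theorem N20930 : nd 20930 = n20968 := ndS (p := 18479) (l := 1) rfl N18479 D20968
theorem N20931 : nd 20931 = n20969 := ndS (p := 18480) (l := 0) rfl N18480 D20969
theorem N20932 : nd 20932 = n20970 := ndS (p := 18480) (l := 3) rfl N18480 D20970
theorem N20933 : nd 20933 = n20971 := ndS (p := 18481) (l := 4) rfl N18481 D20971
theorem N20934 : nd 20934 = n20972 := ndS (p := 18483) (l := 5) rfl N18483 D20972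
theorem N20935 : nd 20935 = n20973 := ndS (p := 18485) (l := 5) rfl N18485 D20973
theorem N20936 : nd 20936 = n20974 := ndS (p := 18487) (l := 4) rfl N18487 D20974
theorem N20937 : nd 20937 = n20975 := ndS (p := 18488) (l := 2) rfl N18488 D20975
theorem N20938 : nd 20938 = n20976 := ndS (p := 18488) (l := 5) rfl N18488 D20976
theorem N20939 : nd 20939 = n20977 := ndS (p := 18491) (l := 2) rfl N18491 D20977
theorem N20940 : nd 20940 = n20978 := ndS (p := 18491) (l := 5) rfl N18491 D20978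
theorem N20941 : nd 20941 = n20979 := ndS (p := 18493) (l := 1) rfl N18493 D20979
theorem N20942 : nd 20942 = n20980 := ndS (p := 18493) (l := 3) rfl N18493 D20980
theorem N20943 : nd 20943 = n20981 := ndS (p := 18495) (l := 0) rfl N18495 D20981
theorem N20944 : nd 20944 = n20982 := ndS (p := 18496) (l := 4) rfl N18496 D20982
theorem N20945 : nd 20945 = n20983 := ndS (p := 18499) (l := 2) rfl N18499 D20983
theorem N20946 : nd 20946 = n20984 := ndS (p := 18499) (l := 4) rfl N18499 D20984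
theorem N20947 : nd 20947 = n20985 := ndS (p := 18500) (l := 5) rfl N18500 D20985
theorem N20948 : nd 20948 = n20986 := ndS (p := 18501) (l := 3) rfl N18501 D20986
theorem N20949 : nd 20949 = n20987 := ndS (p := 18502) (l := 0) rfl N18502 D20987
theorem N20950 : nd 20950 = n20988 := ndS (p := 18503) (l := 3) rfl N18503 D20988
theorem N20951 : nd 20951 = n20989 := ndS (p := 18503) (l := 5) rfl N18503 D20989
theorem N20952 : nd 20952 = n20990 := ndS (p := 18505) (l := 2) rfl N18505 D20990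
theorem N20953 : nd 20953 = n20991 := ndS (p := 18506) (l := 1) rfl N18506 D20991
theorem N20954 : nd 20954 = n20992 := ndS (p := 18507) (l := 1) rfl N18507 D20992
theorem N20955 : nd 20955 = n20993 := ndS (p := 18509) (l := 0) rfl N18509 D20993
theorem N20956 : nd 20956 = n20994 := ndS (p := 18511) (l := 1) rfl N18511 D20994
theorem N20957 : nd 20957 = n20995 := ndS (p := 18512) (l := 3) rfl N18512 D20995
theorem N20958 : nd 20958 = n20996 := ndS (p := 18513) (l := 2) rfl N18513 D20996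
theorem N20959 : nd 20959 = n20997 := ndS (p := 18514) (l := 5) rfl N18514 D20997
theorem N20960 : nd 20960 = n20998 := ndS (p := 18518) (l := 4) rfl N18518 D20998
theorem N20961 : nd 20961 = n20999 := ndS (p := 18520) (l := 3) rfl N18520 D20999
theorem N20962 : nd 20962 = n21000 := ndS (p := 18521) (l := 2) rfl N18521 D21000
theorem N20963 : nd 20963 = n21001 := ndS (p := 18524) (l := 5) rfl N18524 D21001
theorem N20964 : nd 20964 = n21002 := ndS (p := 18526) (l := 4) rfl N18526 D21002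
theorem N20965 : nd 20965 = n21003 := ndS (p := 18527) (l := 5) rfl N18527 D21003
theorem N20966 : nd 20966 = n21004 := ndS (p := 18528) (l := 5) rfl N18528 D21004
theorem N20967 : nd 20967 = n21005 := ndS (p := 18529) (l := 4) rfl N18529 D21005
theorem N20968 : nd 20968 = n21006 := ndS (p := 18530) (l := 3) rfl N18530 D21006
theorem N20969 : nd 20969 = n21007 := ndS (p := 18530) (l := 5) rfl N18530 D21007
theorem N20970 : nd 20970 = n21008 := ndS (p := 18533) (l := 2) rfl N18533 D21008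
theorem N20971 : nd 20971 = n21009 := ndS (p := 18535) (l := 5) rfl N18535 D21009
theorem N20972 : nd 20972 = n21010 := ndS (p := 18538) (l := 3) rfl N18538 D21010
theorem N20973 : nd 20973 = n21011 := ndS (p := 18538) (l := 5) rfl N18538 D21011
theorem N20974 : nd 20974 = n21012 := ndS (p := 18545) (l := 2) rfl N18545 D21012
theorem N20975 : nd 20975 = n21013 := ndS (p := 18549) (l := 1) rfl N18549 D21013
theorem N20976 : nd 20976 = n21014 := ndS (p := 18550) (l := 0) rfl N18550 D21014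
theorem N20977 : nd 20977 = n21015 := ndS (p := 18550) (l := 3) rfl N18550 D21015
theorem N20978 : nd 20978 = n21016 := ndS (p := 18551) (l := 4) rfl N18551 D21016
theorem N20979 : nd 20979 = n21017 := ndS (p := 18553) (l := 0) rfl N18553 D21017
theorem N20980 : nd 20980 = n21018 := ndS (p := 18555) (l := 5) rfl N18555 D21018
theorem N20981 : nd 20981 = n21019 := ndS (p := 18557) (l := 4) rfl N18557 D21019
theorem N20982 : nd 20982 = n21020 := ndS (p := 18562) (l := 3) rfl N18562 D21020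
theorem N20983 : nd 20983 = n21021 := ndS (p := 18563) (l := 2) rfl N18563 D21021
theorem N20984 : nd 20984 = n21022 := ndS (p := 18563) (l := 5) rfl N18563 D21022
theorem N20985 : nd 20985 = n21023 := ndS (p := 18565) (l := 2) rfl N18565 D21023
theorem N20986 : nd 20986 = n21024 := ndS (p := 18567) (l := 1) rfl N18567 D21024
theorem N20987 : nd 20987 = n21025 := ndS (p := 18567) (l := 3) rfl N18567 D21025
theorem N20988 : nd 20988 = n21026 := ndS (p := 18567) (l := 5) rfl N18567 D21026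
theorem N20989 : nd 20989 = n21027 := ndS (p := 18568) (l := 4) rfl N18568 D21027
theorem N20990 : nd 20990 = n21028 := ndS (p := 18569) (l := 3) rfl N18569 D21028
theorem N20991 : nd 20991 = n21029 := ndS (p := 18573) (l := 0) rfl N18573 D21029
theorem N20992 : nd 20992 = n21030 := ndS (p := 18575) (l := 5) rfl N18575 D21030
theorem N20993 : nd 20993 = n21031 := ndS (p := 18576) (l := 3) rfl N18576 D21031
theorem N20994 : nd 20994 = n21032 := ndS (p := 18578) (l := 2) rfl N18578 D21032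
theorem N20995 : nd 20995 = n21033 := ndS (p := 18579) (l := 1) rfl N18579 D21033
theorem N20996 : nd 20996 = n21034 := ndS (p := 18580) (l := 3) rfl N18580 D21034
theorem N20997 : nd 20997 = n21035 := ndS (p := 18580) (l := 4) rfl N18580 D21035
theorem N20998 : nd 20998 = n21036 := ndS (p := 18583) (l := 2) rfl N18583 D21036
theorem N20999 : nd 20999 = n21037 := ndS (p := 18583) (l := 4) rfl N18583 D21037
theorem N21000 : nd 21000 = n21038 := ndS (p := 18584) (l := 3) rfl N18584 D21038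
theorem N21001 : nd 21001 = n21039 := ndS (p := 18590) (l := 3) rfl N18590 D21039
theorem N21002 : nd 21002 = n21040 := ndS (p := 18591) (l := 4) rfl N18591 D21040
theorem N21003 : nd 21003 = n21041 := ndS (p := 18592) (l := 4) rfl N18592 D21041
theorem N21004 : nd 21004 = n21042 := ndS (p := 18593) (l := 5) rfl N18593 D21042
theorem N21005 : nd 21005 = n21043 := ndS (p := 18595) (l := 3) rfl N18595 D21043
theorem N21006 : nd 21006 = n21044 := ndS (p := 18599) (l := 1) rfl N18599 D21044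
theorem N21007 : nd 21007 = n21045 := ndS (p := 18599) (l := 3) rfl N18599 D21045
theorem N21008 : nd 21008 = n21046 := ndS (p := 18599) (l := 4) rfl N18599 D21046
theorem N21009 : nd 21009 = n21047 := ndS (p := 18600) (l := 5) rfl N18600 D21047
theorem N21010 : nd 21010 = n21048 := ndS (p := 18601) (l := 3) rfl N18601 D21048
theorem N21011 : nd 21011 = n21049 := ndS (p := 18602) (l := 2) rfl N18602 D21049
theorem N21012 : nd 21012 = n21050 := ndS (p := 18602) (l := 4) rfl N18602 D21050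
theorem N21013 : nd 21013 = n21051 := ndS (p := 18603) (l := 3) rfl N18603 D21051
theorem N21014 : nd 21014 = n21052 := ndS (p := 18605) (l := 2) rfl N18605 D21052
theorem N21015 : nd 21015 = n21053 := ndS (p := 18606) (l := 3) rfl N18606 D21053
theorem N21016 : nd 21016 = n21054 := ndS (p := 18606) (l := 5) rfl N18606 D21054
theorem N21017 : nd 21017 = n21055 := ndS (p := 18609) (l := 3) rfl N18609 D21055
theorem N21018 : nd 21018 = n21056 := ndS (p := 18610) (l := 2) rfl N18610 D21056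
theorem N21019 : nd 21019 = n21057 := ndS (p := 18610) (l := 4) rfl N18610 D21057
theorem N21020 : nd 21020 = n21058 := ndS (p := 18611) (l := 3) rfl N18611 D21058
theorem N21021 : nd 21021 = n21059 := ndS (p := 18614) (l := 5) rfl N18614 D21059
theorem N21022 : nd 21022 = n21060 := ndS (p := 18616) (l := 4) rfl N18616 D21060
theorem N21023 : nd 21023 = n21061 := ndS (p := 18617) (l := 5) rfl N18617 D21061
theorem N21024 : nd 21024 = n21062 := ndS (p := 18620) (l := 5) rfl N18620 D21062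
theorem N21025 : nd 21025 = n21063 := ndS (p := 18621) (l := 4) rfl N18621 D21063
theorem N21026 : nd 21026 = n21064 := ndS (p := 18622) (l := 3) rfl N18622 D21064
theorem N21027 : nd 21027 = n21065 := ndS (p := 18622) (l := 5) rfl N18622 D21065
theorem N21028 : nd 21028 = n21066 := ndS (p := 18624) (l := 3) rfl N18624 D21066
theorem N21029 : nd 21029 = n21067 := ndS (p := 18624) (l := 5) rfl N18624 D21067
theorem N21030 : nd 21030 = n21068 := ndS (p := 18625) (l := 2) rfl N18625 D21068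
theorem N21031 : nd 21031 = n21069 := ndS (p := 18625) (l := 5) rfl N18625 D21069
theorem N21032 : nd 21032 = n21070 := ndS (p := 18632) (l := 2) rfl N18632 D21070
theorem N21033 : nd 21033 = n21071 := ndS (p := 18632) (l := 5) rfl N18632 D21071
theorem N21034 : nd 21034 = n21072 := ndS (p := 18635) (l := 3) rfl N18635 D21072
theorem N21035 : nd 21035 = n21073 := ndS (p := 18636) (l := 4) rfl N18636 D21073
theorem N21036 : nd 21036 = n21074 := ndS (p := 18638) (l := 1) rfl N18638 D21074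
theorem N21037 : nd 21037 = n21075 := ndS (p := 18638) (l := 4) rfl N18638 D21075
theorem N21038 : nd 21038 = n21076 := ndS (p := 18641) (l := 4) rfl N18641 D21076
theorem N21039 : nd 21039 = n21077 := ndS (p := 18642) (l := 2) rfl N18642 D21077
theorem N21040 : nd 21040 = n21078 := ndS (p := 18642) (l := 4) rfl N18642 D21078
theorem N21041 : nd 21041 = n21079 := ndS (p := 18644) (l := 3) rfl N18644 D21079
theorem N21042 : nd 21042 = n21080 := ndS (p := 18645) (l := 4) rfl N18645 D21080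
theorem N21043 : nd 21043 = n21081 := ndS (p := 18646) (l := 4) rfl N18646 D21081
theorem N21044 : nd 21044 = n21082 := ndS (p := 18648) (l := 4) rfl N18648 D21082
theorem N21045 : nd 21045 = n21083 := ndS (p := 18649) (l := 3) rfl N18649 D21083
theorem N21046 : nd 21046 = n21084 := ndS (p := 18651) (l := 3) rfl N18651 D21084
theorem N21047 : nd 21047 = n21085 := ndS (p := 18652) (l := 2) rfl N18652 D21085
theorem N21048 : nd 21048 = n21086 := ndS (p := 18653) (l := 1) rfl N18653 D21086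
theorem N21049 : nd 21049 = n21087 := ndS (p := 18654) (l := 0) rfl N18654 D21087
theorem N21050 : nd 21050 = n21088 := ndS (p := 18654) (l := 3) rfl N18654 D21088
theorem N21051 : nd 21051 = n21089 := ndS (p := 18655) (l := 2) rfl N18655 D21089
theorem N21052 : nd 21052 = n21090 := ndS (p := 18657) (l := 0) rfl N18657 D21090
theorem N21053 : nd 21053 = n21091 := ndS (p := 18657) (l := 3) rfl N18657 D21091
theorem N21054 : nd 21054 = n21092 := ndS (p := 18657) (l := 5) rfl N18657 D21092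
theorem N21055 : nd 21055 = n21093 := ndS (p := 18658) (l := 5) rfl N18658 D21093
theorem N21056 : nd 21056 = n21094 := ndS (p := 18659) (l := 4) rfl N18659 D21094
theorem N21057 : nd 21057 = n21095 := ndS (p := 18663) (l := 4) rfl N18663 D21095
theorem N21058 : nd 21058 = n21096 := ndS (p := 18664) (l := 3) rfl N18664 D21096
theorem N21059 : nd 21059 = n21097 := ndS (p := 18665) (l := 2) rfl N18665 D21097
theorem N21060 : nd 21060 = n21098 := ndS (p := 18666) (l := 1) rfl N18666 D21098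
theorem N21061 : nd 21061 = n21099 := ndS (p := 18666) (l := 3) rfl N18666 D21099
theorem N21062 : nd 21062 = n21100 := ndS (p := 18667) (l := 3) rfl N18667 D21100
theorem N21063 : nd 21063 = n21101 := ndS (p := 18667) (l := 5) rfl N18667 D21101
theorem N21064 : nd 21064 = n21102 := ndS (p := 18669) (l := 4) rfl N18669 D21102
theorem N21065 : nd 21065 = n21103 := ndS (p := 18670) (l := 3) rfl N18670 D21103
theorem N21066 : nd 21066 = n21104 := ndS (p := 18671) (l := 2) rfl N18671 D21104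
theorem N21067 : nd 21067 = n21105 := ndS (p := 18672) (l := 1) rfl N18672 D21105
theorem N21068 : nd 21068 = n21106 := ndS (p := 18673) (l := 0) rfl N18673 D21106
theorem N21069 : nd 21069 = n21107 := ndS (p := 18673) (l := 3) rfl N18673 D21107
theorem N21070 : nd 21070 = n21108 := ndS (p := 18674) (l := 4) rfl N18674 D21108
theorem N21071 : nd 21071 = n21109 := ndS (p := 18675) (l := 3) rfl N18675 D21109
theorem N21072 : nd 21072 = n21110 := ndS (p := 18676) (l := 2) rfl N18676 D21110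
theorem N21073 : nd 21073 = n21111 := ndS (p := 18676) (l := 4) rfl N18676 D21111
theorem N21074 : nd 21074 = n21112 := ndS (p := 18677) (l := 1) rfl N18677 D21112
theorem N21075 : nd 21075 = n21113 := ndS (p := 18677) (l := 4) rfl N18677 D21113
theorem N21076 : nd 21076 = n21114 := ndS (p := 18678) (l := 5) rfl N18678 D21114
theorem N21077 : nd 21077 = n21115 := ndS (p := 18679) (l := 2) rfl N18679 D21115
theorem N21078 : nd 21078 = n21116 := ndS (p := 18679) (l := 4) rfl N18679 D21116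
theorem N21079 : nd 21079 = n21117 := ndS (p := 18680) (l := 4) rfl N18680 D21117
theorem N21080 : nd 21080 = n21118 := ndS (p := 18681) (l := 5) rfl N18681 D21118
theorem N21081 : nd 21081 = n21119 := ndS (p := 18685) (l := 4) rfl N18685 D21119
theorem N21082 : nd 21082 = n21120 := ndS (p := 18686) (l := 5) rfl N18686 D21120
theorem N21083 : nd 21083 = n21121 := ndS (p := 18687) (l := 0) rfl N18687 D21121
theorem N21084 : nd 21084 = n21122 := ndS (p := 18688) (l := 0) rfl N18688 D21122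
theorem N21085 : nd 21085 = n21123 := ndS (p := 18688) (l := 3) rfl N18688 D21123
theorem N21086 : nd 21086 = n21124 := ndS (p := 18688) (l := 5) rfl N18688 D21124
theorem N21087 : nd 21087 = n21125 := ndS (p := 18689) (l := 2) rfl N18689 D21125
theorem N21088 : nd 21088 = n21126 := ndS (p := 18689) (l := 5) rfl N18689 D21126
theorem N21089 : nd 21089 = n21127 := ndS (p := 18692) (l := 2) rfl N18692 D21127
theorem N21090 : nd 21090 = n21128 := ndS (p := 18693) (l := 4) rfl N18693 D21128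
theorem N21091 : nd 21091 = n21129 := ndS (p := 18694) (l := 5) rfl N18694 D21129
theorem N21092 : nd 21092 = n21130 := ndS (p := 18696) (l := 0) rfl N18696 D21130
theorem N21093 : nd 21093 = n21131 := ndS (p := 18696) (l := 3) rfl N18696 D21131
theorem N21094 : nd 21094 = n21132 := ndS (p := 18696) (l := 5) rfl N18696 D21132
theorem N21095 : nd 21095 = n21133 := ndS (p := 18697) (l := 4) rfl N18697 D21133
theorem N21096 : nd 21096 = n21134 := ndS (p := 18698) (l := 4) rfl N18698 D21134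
theorem N21097 : nd 21097 = n21135 := ndS (p := 18700) (l := 3) rfl N18700 D21135
theorem N21098 : nd 21098 = n21136 := ndS (p := 18701) (l := 2) rfl N18701 D21136
theorem N21099 : nd 21099 = n21137 := ndS (p := 18701) (l := 4) rfl N18701 D21137
theorem N21100 : nd 21100 = n21138 := ndS (p := 18702) (l := 1) rfl N18702 D21138
theorem N21101 : nd 21101 = n21139 := ndS (p := 18702) (l := 4) rfl N18702 D21139
theorem N21102 : nd 21102 = n21140 := ndS (p := 18703) (l := 5) rfl N18703 D21140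
theorem N21103 : nd 21103 = n21141 := ndS (p := 18704) (l := 4) rfl N18704 D21141
theorem N21104 : nd 21104 = n21142 := ndS (p := 18709) (l := 1) rfl N18709 D21142
theorem N21105 : nd 21105 = n21143 := ndS (p := 18709) (l := 4) rfl N18709 D21143
theorem N21106 : nd 21106 = n21144 := ndS (p := 18710) (l := 5) rfl N18710 D21144
theorem N21107 : nd 21107 = n21145 := ndS (p := 18711) (l := 0) rfl N18711 D21145
theorem N21108 : nd 21108 = n21146 := ndS (p := 18711) (l := 4) rfl N18711 D21146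
theorem N21109 : nd 21109 = n21147 := ndS (p := 18712) (l := 3) rfl N18712 D21147
theorem N21110 : nd 21110 = n21148 := ndS (p := 18712) (l := 5) rfl N18712 D21148
theorem N21111 : nd 21111 = n21149 := ndS (p := 18714) (l := 4) rfl N18714 D21149
theorem N21112 : nd 21112 = n21150 := ndS (p := 18715) (l := 5) rfl N18715 D21150
theorem N21113 : nd 21113 = n21151 := ndS (p := 18717) (l := 3) rfl N18717 D21151
theorem N21114 : nd 21114 = n21152 := ndS (p := 18721) (l := 3) rfl N18721 D21152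
theorem N21115 : nd 21115 = n21153 := ndS (p := 18723) (l := 2) rfl N18723 D21153
theorem N21116 : nd 21116 = n21154 := ndS (p := 18723) (l := 5) rfl N18723 D21154
theorem N21117 : nd 21117 = n21155 := ndS (p := 18725) (l := 1) rfl N18725 D21155
theorem N21118 : nd 21118 = n21156 := ndS (p := 18726) (l := 1) rfl N18726 D21156
theorem N21119 : nd 21119 = n21157 := ndS (p := 18726) (l := 4) rfl N18726 D21157
theorem N21120 : nd 21120 = n21158 := ndS (p := 18728) (l := 4) rfl N18728 D21158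
theorem N21121 : nd 21121 = n21159 := ndS (p := 18729) (l := 0) rfl N18729 D21159
theorem N21122 : nd 21122 = n21160 := ndS (p := 18729) (l := 3) rfl N18729 D21160
theorem N21123 : nd 21123 = n21161 := ndS (p := 18730) (l := 5) rfl N18730 D21161
theorem N21124 : nd 21124 = n21162 := ndS (p := 18731) (l := 4) rfl N18731 D21162
theorem N21125 : nd 21125 = n21163 := ndS (p := 18733) (l := 0) rfl N18733 D21163
theorem N21126 : nd 21126 = n21164 := ndS (p := 18733) (l := 3) rfl N18733 D21164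
theorem N21127 : nd 21127 = n21165 := ndS (p := 18733) (l := 5) rfl N18733 D21165
theorem N21128 : nd 21128 = n21166 := ndS (p := 18734) (l := 2) rfl N18734 D21166
theorem N21129 : nd 21129 = n21167 := ndS (p := 18734) (l := 5) rfl N18734 D21167
theorem N21130 : nd 21130 = n21168 := ndS (p := 18738) (l := 0) rfl N18738 D21168
theorem N21131 : nd 21131 = n21169 := ndS (p := 18738) (l := 3) rfl N18738 D21169
theorem N21132 : nd 21132 = n21170 := ndS (p := 18738) (l := 5) rfl N18738 D21170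
theorem N21133 : nd 21133 = n21171 := ndS (p := 18740) (l := 4) rfl N18740 D21171
theorem N21134 : nd 21134 = n21172 := ndS (p := 18742) (l := 3) rfl N18742 D21172
theorem N21135 : nd 21135 = n21173 := ndS (p := 18743) (l := 2) rfl N18743 D21173
theorem N21136 : nd 21136 = n21174 := ndS (p := 18743) (l := 4) rfl N18743 D21174
theorem N21137 : nd 21137 = n21175 := ndS (p := 18744) (l := 1) rfl N18744 D21175
theorem N21138 : nd 21138 = n21176 := ndS (p := 18744) (l := 4) rfl N18744 D21176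
theorem N21139 : nd 21139 = n21177 := ndS (p := 18746) (l := 4) rfl N18746 D21177
theorem N21140 : nd 21140 = n21178 := ndS (p := 18748) (l := 4) rfl N18748 D21178
theorem N21141 : nd 21141 = n21179 := ndS (p := 18749) (l := 4) rfl N18749 D21179
theorem N21142 : nd 21142 = n21180 := ndS (p := 18755) (l := 2) rfl N18755 D21180
theorem N21143 : nd 21143 = n21181 := ndS (p := 18755) (l := 4) rfl N18755 D21181
theorem N21144 : nd 21144 = n21182 := ndS (p := 18756) (l := 4) rfl N18756 D21182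
theorem N21145 : nd 21145 = n21183 := ndS (p := 18769) (l := 3) rfl N18769 D21183
theorem N21146 : nd 21146 = n21184 := ndS (p := 18778) (l := 3) rfl N18778 D21184
theorem N21147 : nd 21147 = n21185 := ndS (p := 18779) (l := 5) rfl N18779 D21185
theorem N21148 : nd 21148 = n21186 := ndS (p := 18781) (l := 4) rfl N18781 D21186
theorem N21149 : nd 21149 = n21187 := ndS (p := 18782) (l := 3) rfl N18782 D21187
theorem N21150 : nd 21150 = n21188 := ndS (p := 18791) (l := 5) rfl N18791 D21188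
theorem N21151 : nd 21151 = n21189 := ndS (p := 18792) (l := 2) rfl N18792 D21189
theorem N21152 : nd 21152 = n21190 := ndS (p := 18792) (l := 5) rfl N18792 D21190
theorem N21153 : nd 21153 = n21191 := ndS (p := 18794) (l := 4) rfl N18794 D21191
theorem N21154 : nd 21154 = n21192 := ndS (p := 18795) (l := 5) rfl N18795 D21192
theorem N21155 : nd 21155 = n21193 := ndS (p := 18796) (l := 2) rfl N18796 D21193
theorem N21156 : nd 21156 = n21194 := ndS (p := 18796) (l := 5) rfl N18796 D21194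
theorem N21157 : nd 21157 = n21195 := ndS (p := 18798) (l := 1) rfl N18798 D21195
theorem N21158 : nd 21158 = n21196 := ndS (p := 18799) (l := 4) rfl N18799 D21196
theorem N21159 : nd 21159 = n21197 := ndS (p := 18802) (l := 4) rfl N18802 D21197
theorem N21160 : nd 21160 = n21198 := ndS (p := 18803) (l := 4) rfl N18803 D21198
theorem N21161 : nd 21161 = n21199 := ndS (p := 18804) (l := 4) rfl N18804 D21199
theorem N21162 : nd 21162 = n21200 := ndS (p := 18807) (l := 4) rfl N18807 D21200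
theorem N21163 : nd 21163 = n21201 := ndS (p := 18808) (l := 5) rfl N18808 D21201
theorem N21164 : nd 21164 = n21202 := ndS (p := 18810) (l := 5) rfl N18810 D21202
theorem N21165 : nd 21165 = n21203 := ndS (p := 18820) (l := 1) rfl N18820 D21203
theorem N21166 : nd 21166 = n21204 := ndS (p := 18820) (l := 3) rfl N18820 D21204
theorem N21167 : nd 21167 = n21205 := ndS (p := 18820) (l := 5) rfl N18820 D21205
theorem N21168 : nd 21168 = n21206 := ndS (p := 18822) (l := 3) rfl N18822 D21206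
theorem N21169 : nd 21169 = n21207 := ndS (p := 18822) (l := 5) rfl N18822 D21207
theorem N21170 : nd 21170 = n21208 := ndS (p := 18827) (l := 3) rfl N18827 D21208
theorem N21171 : nd 21171 = n21209 := ndS (p := 18827) (l := 5) rfl N18827 D21209
theorem N21172 : nd 21172 = n21210 := ndS (p := 18828) (l := 5) rfl N18828 D21210
theorem N21173 : nd 21173 = n21211 := ndS (p := 18830) (l := 1) rfl N18830 D21211
theorem N21174 : nd 21174 = n21212 := ndS (p := 18830) (l := 3) rfl N18830 D21212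
theorem N21175 : nd 21175 = n21213 := ndS (p := 18832) (l := 3) rfl N18832 D21213
theorem N21176 : nd 21176 = n21214 := ndS (p := 18833) (l := 4) rfl N18833 D21214
theorem N21177 : nd 21177 = n21215 := ndS (p := 18843) (l := 0) rfl N18843 D21215
theorem N21178 : nd 21178 = n21216 := ndS (p := 18843) (l := 3) rfl N18843 D21216
theorem N21179 : nd 21179 = n21217 := ndS (p := 18844) (l := 4) rfl N18844 D21217
theorem N21180 : nd 21180 = n21218 := ndS (p := 18847) (l := 5) rfl N18847 D21218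
theorem N21181 : nd 21181 = n21219 := ndS (p := 18849) (l := 3) rfl N18849 D21219
theorem N21182 : nd 21182 = n21220 := ndS (p := 18850) (l := 4) rfl N18850 D21220
theorem N21183 : nd 21183 = n21221 := ndS (p := 18851) (l := 5) rfl N18851 D21221
theorem N21184 : nd 21184 = n21222 := ndS (p := 18852) (l := 2) rfl N18852 D21222
theorem N21185 : nd 21185 = n21223 := ndS (p := 18853) (l := 2) rfl N18853 D21223
theorem N21186 : nd 21186 = n21224 := ndS (p := 18853) (l := 5) rfl N18853 D21224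
theorem N21187 : nd 21187 = n21225 := ndS (p := 18855) (l := 3) rfl N18855 D21225
theorem N21188 : nd 21188 = n21226 := ndS (p := 18856) (l := 2) rfl N18856 D21226
theorem N21189 : nd 21189 = n21227 := ndS (p := 18858) (l := 1) rfl N18858 D21227
theorem N21190 : nd 21190 = n21228 := ndS (p := 18859) (l := 3) rfl N18859 D21228
theorem N21191 : nd 21191 = n21229 := ndS (p := 18859) (l := 5) rfl N18859 D21229
theorem N21192 : nd 21192 = n21230 := ndS (p := 18861) (l := 3) rfl N18861 D21230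
theorem N21193 : nd 21193 = n21231 := ndS (p := 18862) (l := 4) rfl N18862 D21231
theorem N21194 : nd 21194 = n21232 := ndS (p := 18866) (l := 2) rfl N18866 D21232
theorem N21195 : nd 21195 = n21233 := ndS (p := 18867) (l := 1) rfl N18867 D21233
theorem N21196 : nd 21196 = n21234 := ndS (p := 18867) (l := 3) rfl N18867 D21234
theorem N21197 : nd 21197 = n21235 := ndS (p := 18871) (l := 4) rfl N18871 D21235
theorem N21198 : nd 21198 = n21236 := ndS (p := 18872) (l := 5) rfl N18872 D21236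
theorem N21199 : nd 21199 = n21237 := ndS (p := 18873) (l := 2) rfl N18873 D21237
theorem N21200 : nd 21200 = n21238 := ndS (p := 18874) (l := 4) rfl N18874 D21238
theorem N21201 : nd 21201 = n21239 := ndS (p := 18875) (l := 5) rfl N18875 D21239
theorem N21202 : nd 21202 = n21240 := ndS (p := 18884) (l := 4) rfl N18884 D21240
theorem N21203 : nd 21203 = n21241 := ndS (p := 18888) (l := 4) rfl N18888 D21241
theorem N21204 : nd 21204 = n21242 := ndS (p := 18889) (l := 5) rfl N18889 D21242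
theorem N21205 : nd 21205 = n21243 := ndS (p := 18891) (l := 3) rfl N18891 D21243
theorem N21206 : nd 21206 = n21244 := ndS (p := 18892) (l := 1) rfl N18892 D21244
theorem N21207 : nd 21207 = n21245 := ndS (p := 18892) (l := 3) rfl N18892 D21245
theorem N21208 : nd 21208 = n21246 := ndS (p := 18893) (l := 3) rfl N18893 D21246
theorem N21209 : nd 21209 = n21247 := ndS (p := 18894) (l := 2) rfl N18894 D21247
theorem N21210 : nd 21210 = n21248 := ndS (p := 18894) (l := 4) rfl N18894 D21248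
theorem N21211 : nd 21211 = n21249 := ndS (p := 18894) (l := 5) rfl N18894 D21249
theorem N21212 : nd 21212 = n21250 := ndS (p := 18897) (l := 2) rfl N18897 D21250
theorem N21213 : nd 21213 = n21251 := ndS (p := 18897) (l := 4) rfl N18897 D21251
theorem N21214 : nd 21214 = n21252 := ndS (p := 18898) (l := 5) rfl N18898 D21252
theorem N21215 : nd 21215 = n21253 := ndS (p := 18900) (l := 3) rfl N18900 D21253
theorem N21216 : nd 21216 = n21254 := ndS (p := 18900) (l := 5) rfl N18900 D21254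
theorem N21217 : nd 21217 = n21255 := ndS (p := 18901) (l := 4) rfl N18901 D21255
theorem N21218 : nd 21218 = n21256 := ndS (p := 18902) (l := 4) rfl N18902 D21256
theorem N21219 : nd 21219 = n21257 := ndS (p := 18904) (l := 2) rfl N18904 D21257
theorem N21220 : nd 21220 = n21258 := ndS (p := 18904) (l := 4) rfl N18904 D21258
theorem N21221 : nd 21221 = n21259 := ndS (p := 18905) (l := 4) rfl N18905 D21259
theorem N21222 : nd 21222 = n21260 := ndS (p := 18906) (l := 5) rfl N18906 D21260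
theorem N21223 : nd 21223 = n21261 := ndS (p := 18907) (l := 3) rfl N18907 D21261
theorem N21224 : nd 21224 = n21262 := ndS (p := 18910) (l := 3) rfl N18910 D21262
theorem N21225 : nd 21225 = n21263 := ndS (p := 18910) (l := 5) rfl N18910 D21263
theorem N21226 : nd 21226 = n21264 := ndS (p := 18911) (l := 4) rfl N18911 D21264
theorem N21227 : nd 21227 = n21265 := ndS (p := 18912) (l := 4) rfl N18912 D21265
theorem N21228 : nd 21228 = n21266 := ndS (p := 18914) (l := 3) rfl N18914 D21266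
theorem N21229 : nd 21229 = n21267 := ndS (p := 18915) (l := 4) rfl N18915 D21267
theorem N21230 : nd 21230 = n21268 := ndS (p := 18916) (l := 4) rfl N18916 D21268
theorem N21231 : nd 21231 = n21269 := ndS (p := 18918) (l := 3) rfl N18918 D21269
theorem N21232 : nd 21232 = n21270 := ndS (p := 18919) (l := 2) rfl N18919 D21270
theorem N21233 : nd 21233 = n21271 := ndS (p := 18919) (l := 4) rfl N18919 D21271
theorem N21234 : nd 21234 = n21272 := ndS (p := 18920) (l := 1) rfl N18920 D21272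
theorem N21235 : nd 21235 = n21273 := ndS (p := 18920) (l := 4) rfl N18920 D21273
theorem N21236 : nd 21236 = n21274 := ndS (p := 18921) (l := 5) rfl N18921 D21274
theorem N21237 : nd 21237 = n21275 := ndS (p := 18922) (l := 4) rfl N18922 D21275
theorem N21238 : nd 21238 = n21276 := ndS (p := 18923) (l := 3) rfl N18923 D21276
theorem N21239 : nd 21239 = n21277 := ndS (p := 18924) (l := 4) rfl N18924 D21277
theorem N21240 : nd 21240 = n21278 := ndS (p := 18925) (l := 4) rfl N18925 D21278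
theorem N21241 : nd 21241 = n21279 := ndS (p := 18927) (l := 2) rfl N18927 D21279
theorem N21242 : nd 21242 = n21280 := ndS (p := 18927) (l := 5) rfl N18927 D21280
theorem N21243 : nd 21243 = n21281 := ndS (p := 18929) (l := 1) rfl N18929 D21281
theorem N21244 : nd 21244 = n21282 := ndS (p := 18930) (l := 4) rfl N18930 D21282
theorem N21245 : nd 21245 = n21283 := ndS (p := 18931) (l := 3) rfl N18931 D21283
theorem N21246 : nd 21246 = n21284 := ndS (p := 18932) (l := 2) rfl N18932 D21284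
theorem N21247 : nd 21247 = n21285 := ndS (p := 18932) (l := 4) rfl N18932 D21285
theorem N21248 : nd 21248 = n21286 := ndS (p := 18934) (l := 5) rfl N18934 D21286
theorem N21249 : nd 21249 = n21287 := ndS (p := 18935) (l := 4) rfl N18935 D21287
theorem N21250 : nd 21250 = n21288 := ndS (p := 18936) (l := 5) rfl N18936 D21288
theorem N21251 : nd 21251 = n21289 := ndS (p := 18937) (l := 0) rfl N18937 D21289
theorem N21252 : nd 21252 = n21290 := ndS (p := 18937) (l := 4) rfl N18937 D21290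
theorem N21253 : nd 21253 = n21291 := ndS (p := 18938) (l := 3) rfl N18938 D21291
theorem N21254 : nd 21254 = n21292 := ndS (p := 18938) (l := 5) rfl N18938 D21292
theorem N21255 : nd 21255 = n21293 := ndS (p := 18939) (l := 4) rfl N18939 D21293
theorem N21256 : nd 21256 = n21294 := ndS (p := 18941) (l := 1) rfl N18941 D21294
theorem N21257 : nd 21257 = n21295 := ndS (p := 18941) (l := 3) rfl N18941 D21295
theorem N21258 : nd 21258 = n21296 := ndS (p := 18941) (l := 5) rfl N18941 D21296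
theorem N21259 : nd 21259 = n21297 := ndS (p := 18942) (l := 4) rfl N18942 D21297
theorem N21260 : nd 21260 = n21298 := ndS (p := 18945) (l := 3) rfl N18945 D21298
theorem N21261 : nd 21261 = n21299 := ndS (p := 18945) (l := 5) rfl N18945 D21299
theorem N21262 : nd 21262 = n21300 := ndS (p := 18946) (l := 4) rfl N18946 D21300
theorem N21263 : nd 21263 = n21301 := ndS (p := 18947) (l := 4) rfl N18947 D21301
theorem N21264 : nd 21264 = n21302 := ndS (p := 18953) (l := 2) rfl N18953 D21302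
theorem N21265 : nd 21265 = n21303 := ndS (p := 18953) (l := 4) rfl N18953 D21303
theorem N21266 : nd 21266 = n21304 := ndS (p := 18954) (l := 3) rfl N18954 D21304
theorem N21267 : nd 21267 = n21305 := ndS (p := 18954) (l := 4) rfl N18954 D21305
theorem N21268 : nd 21268 = n21306 := ndS (p := 18955) (l := 5) rfl N18955 D21306
theorem N21269 : nd 21269 = n21307 := ndS (p := 18957) (l := 2) rfl N18957 D21307
theorem N21270 : nd 21270 = n21308 := ndS (p := 18957) (l := 4) rfl N18957 D21308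
theorem N21271 : nd 21271 = n21309 := ndS (p := 18958) (l := 4) rfl N18958 D21309
theorem N21272 : nd 21272 = n21310 := ndS (p := 18959) (l := 5) rfl N18959 D21310
theorem N21273 : nd 21273 = n21311 := ndS (p := 18960) (l := 3) rfl N18960 D21311
theorem N21274 : nd 21274 = n21312 := ndS (p := 18961) (l := 3) rfl N18961 D21312
theorem N21275 : nd 21275 = n21313 := ndS (p := 18961) (l := 4) rfl N18961 D21313
theorem N21276 : nd 21276 = n21314 := ndS (p := 18962) (l := 5) rfl N18962 D21314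
theorem N21277 : nd 21277 = n21315 := ndS (p := 18963) (l := 3) rfl N18963 D21315
theorem N21278 : nd 21278 = n21316 := ndS (p := 18965) (l := 2) rfl N18965 D21316
theorem N21279 : nd 21279 = n21317 := ndS (p := 18966) (l := 5) rfl N18966 D21317
theorem N21280 : nd 21280 = n21318 := ndS (p := 18967) (l := 0) rfl N18967 D21318
theorem N21281 : nd 21281 = n21319 := ndS (p := 18967) (l := 4) rfl N18967 D21319
theorem N21282 : nd 21282 = n21320 := ndS (p := 18968) (l := 3) rfl N18968 D21320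
theorem N21283 : nd 21283 = n21321 := ndS (p := 18968) (l := 5) rfl N18968 D21321
theorem N21284 : nd 21284 = n21322 := ndS (p := 18971) (l := 5) rfl N18971 D21322
theorem N21285 : nd 21285 = n21323 := ndS (p := 18973) (l := 0) rfl N18973 D21323
theorem N21286 : nd 21286 = n21324 := ndS (p := 18977) (l := 0) rfl N18977 D21324
theorem N21287 : nd 21287 = n21325 := ndS (p := 18977) (l := 3) rfl N18977 D21325
theorem N21288 : nd 21288 = n21326 := ndS (p := 18978) (l := 2) rfl N18978 D21326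
theorem N21289 : nd 21289 = n21327 := ndS (p := 18978) (l := 5) rfl N18978 D21327
theorem N21290 : nd 21290 = n21328 := ndS (p := 18982) (l := 0) rfl N18982 D21328
theorem N21291 : nd 21291 = n21329 := ndS (p := 18982) (l := 3) rfl N18982 D21329
theorem N21292 : nd 21292 = n21330 := ndS (p := 18982) (l := 5) rfl N18982 D21330
theorem N21293 : nd 21293 = n21331 := ndS (p := 18983) (l := 4) rfl N18983 D21331
theorem N21294 : nd 21294 = n21332 := ndS (p := 18984) (l := 4) rfl N18984 D21332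
theorem N21295 : nd 21295 = n21333 := ndS (p := 18986) (l := 3) rfl N18986 D21333
theorem N21296 : nd 21296 = n21334 := ndS (p := 18986) (l := 5) rfl N18986 D21334
theorem N21297 : nd 21297 = n21335 := ndS (p := 18987) (l := 2) rfl N18987 D21335
theorem N21298 : nd 21298 = n21336 := ndS (p := 18987) (l := 4) rfl N18987 D21336
theorem N21299 : nd 21299 = n21337 := ndS (p := 18987) (l := 5) rfl N18987 D21337
theorem N21300 : nd 21300 = n21338 := ndS (p := 18989) (l := 1) rfl N18989 D21338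
theorem N21301 : nd 21301 = n21339 := ndS (p := 18989) (l := 4) rfl N18989 D21339
theorem N21302 : nd 21302 = n21340 := ndS (p := 18990) (l := 5) rfl N18990 D21340
theorem N21303 : nd 21303 = n21341 := ndS (p := 18991) (l := 4) rfl N18991 D21341
theorem N21304 : nd 21304 = n21342 := ndS (p := 18998) (l := 1) rfl N18998 D21342
theorem N21305 : nd 21305 = n21343 := ndS (p := 18999) (l := 4) rfl N18999 D21343
theorem N21306 : nd 21306 = n21344 := ndS (p := 19000) (l := 3) rfl N19000 D21344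
theorem N21307 : nd 21307 = n21345 := ndS (p := 19000) (l := 5) rfl N19000 D21345
theorem N21308 : nd 21308 = n21346 := ndS (p := 19002) (l := 1) rfl N19002 D21346
theorem N21309 : nd 21309 = n21347 := ndS (p := 19002) (l := 3) rfl N19002 D21347
theorem N21310 : nd 21310 = n21348 := ndS (p := 19002) (l := 4) rfl N19002 D21348
theorem N21311 : nd 21311 = n21349 := ndS (p := 19003) (l := 5) rfl N19003 D21349
theorem N21312 : nd 21312 = n21350 := ndS (p := 19004) (l := 2) rfl N19004 D21350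
theorem N21313 : nd 21313 = n21351 := ndS (p := 19004) (l := 4) rfl N19004 D21351
theorem N21314 : nd 21314 = n21352 := ndS (p := 19005) (l := 3) rfl N19005 D21352
theorem N21315 : nd 21315 = n21353 := ndS (p := 19005) (l := 5) rfl N19005 D21353
theorem N21316 : nd 21316 = n21354 := ndS (p := 19008) (l := 5) rfl N19008 D21354
theorem N21317 : nd 21317 = n21355 := ndS (p := 19009) (l := 3) rfl N19009 D21355
theorem N21318 : nd 21318 = n21356 := ndS (p := 19010) (l := 1) rfl N19010 D21356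
theorem N21319 : nd 21319 = n21357 := ndS (p := 19010) (l := 3) rfl N19010 D21357
theorem N21320 : nd 21320 = n21358 := ndS (p := 19010) (l := 4) rfl N19010 D21358
theorem N21321 : nd 21321 = n21359 := ndS (p := 19010) (l := 5) rfl N19010 D21359
theorem N21322 : nd 21322 = n21360 := ndS (p := 19011) (l := 5) rfl N19011 D21360
theorem N21323 : nd 21323 = n21361 := ndS (p := 19012) (l := 4) rfl N19012 D21361
theorem N21324 : nd 21324 = n21362 := ndS (p := 19013) (l := 3) rfl N19013 D21362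
theorem N21325 : nd 21325 = n21363 := ndS (p := 19015) (l := 3) rfl N19015 D21363
theorem N21326 : nd 21326 = n21364 := ndS (p := 19015) (l := 5) rfl N19015 D21364
theorem N21327 : nd 21327 = n21365 := ndS (p := 19016) (l := 4) rfl N19016 D21365
theorem N21328 : nd 21328 = n21366 := ndS (p := 19017) (l := 3) rfl N19017 D21366
theorem N21329 : nd 21329 = n21367 := ndS (p := 19018) (l := 2) rfl N19018 D21367
theorem N21330 : nd 21330 = n21368 := ndS (p := 19021) (l := 3) rfl N19021 D21368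
theorem N21331 : nd 21331 = n21369 := ndS (p := 19024) (l := 2) rfl N19024 D21369
theorem N21332 : nd 21332 = n21370 := ndS (p := 19025) (l := 1) rfl N19025 D21370
theorem N21333 : nd 21333 = n21371 := ndS (p := 19025) (l := 3) rfl N19025 D21371
theorem N21334 : nd 21334 = n21372 := ndS (p := 19026) (l := 0) rfl N19026 D21372
theorem N21335 : nd 21335 = n21373 := ndS (p := 19026) (l := 4) rfl N19026 D21373
theorem N21336 : nd 21336 = n21374 := ndS (p := 19027) (l := 3) rfl N19027 D21374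
theorem N21337 : nd 21337 = n21375 := ndS (p := 19027) (l := 5) rfl N19027 D21375
theorem N21338 : nd 21338 = n21376 := ndS (p := 19029) (l := 3) rfl N19029 D21376
theorem N21339 : nd 21339 = n21377 := ndS (p := 19029) (l := 4) rfl N19029 D21377
theorem N21340 : nd 21340 = n21378 := ndS (p := 19030) (l := 2) rfl N19030 D21378
theorem N21341 : nd 21341 = n21379 := ndS (p := 19030) (l := 4) rfl N19030 D21379
theorem N21342 : nd 21342 = n21380 := ndS (p := 19031) (l := 3) rfl N19031 D21380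
theorem N21343 : nd 21343 = n21381 := ndS (p := 19031) (l := 5) rfl N19031 D21381
theorem N21344 : nd 21344 = n21382 := ndS (p := 19032) (l := 3) rfl N19032 D21382
theorem N21345 : nd 21345 = n21383 := ndS (p := 19032) (l := 5) rfl N19032 D21383
theorem N21346 : nd 21346 = n21384 := ndS (p := 19033) (l := 2) rfl N19033 D21384
theorem N21347 : nd 21347 = n21385 := ndS (p := 19033) (l := 5) rfl N19033 D21385
theorem N21348 : nd 21348 = n21386 := ndS (p := 19035) (l := 5) rfl N19035 D21386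
theorem N21349 : nd 21349 = n21387 := ndS (p := 19036) (l := 2) rfl N19036 D21387
theorem N21350 : nd 21350 = n21388 := ndS (p := 19036) (l := 5) rfl N19036 D21388
theorem N21351 : nd 21351 = n21389 := ndS (p := 19038) (l := 1) rfl N19038 D21389
theorem N21352 : nd 21352 = n21390 := ndS (p := 19038) (l := 3) rfl N19038 D21390
theorem N21353 : nd 21353 = n21391 := ndS (p := 19038) (l := 5) rfl N19038 D21391
theorem N21354 : nd 21354 = n21392 := ndS (p := 19039) (l := 4) rfl N19039 D21392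
theorem N21355 : nd 21355 = n21393 := ndS (p := 19040) (l := 2) rfl N19040 D21393
theorem N21356 : nd 21356 = n21394 := ndS (p := 19040) (l := 4) rfl N19040 D21394
theorem N21357 : nd 21357 = n21395 := ndS (p := 19041) (l := 5) rfl N19041 D21395
theorem N21358 : nd 21358 = n21396 := ndS (p := 19042) (l := 0) rfl N19042 D21396
theorem N21359 : nd 21359 = n21397 := ndS (p := 19042) (l := 4) rfl N19042 D21397
theorem N21360 : nd 21360 = n21398 := ndS (p := 19043) (l := 3) rfl N19043 D21398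
theorem N21361 : nd 21361 = n21399 := ndS (p := 19043) (l := 5) rfl N19043 D21399
theorem N21362 : nd 21362 = n21400 := ndS (p := 19046) (l := 4) rfl N19046 D21400
theorem N21363 : nd 21363 = n21401 := ndS (p := 19049) (l := 5) rfl N19049 D21401
theorem N21364 : nd 21364 = n21402 := ndS (p := 19051) (l := 4) rfl N19051 D21402
theorem N21365 : nd 21365 = n21403 := ndS (p := 19053) (l := 2) rfl N19053 D21403
theorem N21366 : nd 21366 = n21404 := ndS (p := 19053) (l := 4) rfl N19053 D21404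
theorem N21367 : nd 21367 = n21405 := ndS (p := 19053) (l := 5) rfl N19053 D21405
theorem N21368 : nd 21368 = n21406 := ndS (p := 19055) (l := 1) rfl N19055 D21406
theorem N21369 : nd 21369 = n21407 := ndS (p := 19055) (l := 3) rfl N19055 D21407
theorem N21370 : nd 21370 = n21408 := ndS (p := 19055) (l := 4) rfl N19055 D21408
theorem N21371 : nd 21371 = n21409 := ndS (p := 19055) (l := 5) rfl N19055 D21409
theorem N21372 : nd 21372 = n21410 := ndS (p := 19058) (l := 4) rfl N19058 D21410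
theorem N21373 : nd 21373 = n21411 := ndS (p := 19059) (l := 3) rfl N19059 D21411
theorem N21374 : nd 21374 = n21412 := ndS (p := 19059) (l := 5) rfl N19059 D21412
theorem N21375 : nd 21375 = n21413 := ndS (p := 19062) (l := 4) rfl N19062 D21413
theorem N21376 : nd 21376 = n21414 := ndS (p := 19064) (l := 3) rfl N19064 D21414
theorem N21377 : nd 21377 = n21415 := ndS (p := 19065) (l := 3) rfl N19065 D21415
theorem N21378 : nd 21378 = n21416 := ndS (p := 19065) (l := 4) rfl N19065 D21416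
theorem N21379 : nd 21379 = n21417 := ndS (p := 19066) (l := 5) rfl N19066 D21417
theorem N21380 : nd 21380 = n21418 := ndS (p := 19067) (l := 3) rfl N19067 D21418
theorem N21381 : nd 21381 = n21419 := ndS (p := 19072) (l := 5) rfl N19072 D21419
theorem N21382 : nd 21382 = n21420 := ndS (p := 19075) (l := 3) rfl N19075 D21420
theorem N21383 : nd 21383 = n21421 := ndS (p := 19076) (l := 2) rfl N19076 D21421
theorem N21384 : nd 21384 = n21422 := ndS (p := 19077) (l := 1) rfl N19077 D21422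
theorem N21385 : nd 21385 = n21423 := ndS (p := 19078) (l := 4) rfl N19078 D21423
theorem N21386 : nd 21386 = n21424 := ndS (p := 19079) (l := 4) rfl N19079 D21424
theorem N21387 : nd 21387 = n21425 := ndS (p := 19080) (l := 5) rfl N19080 D21425
theorem N21388 : nd 21388 = n21426 := ndS (p := 19083) (l := 5) rfl N19083 D21426
theorem N21389 : nd 21389 = n21427 := ndS (p := 19084) (l := 3) rfl N19084 D21427
theorem N21390 : nd 21390 = n21428 := ndS (p := 19089) (l := 3) rfl N19089 D21428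
theorem N21391 : nd 21391 = n21429 := ndS (p := 19090) (l := 2) rfl N19090 D21429
theorem N21392 : nd 21392 = n21430 := ndS (p := 19090) (l := 4) rfl N19090 D21430
theorem N21393 : nd 21393 = n21431 := ndS (p := 19091) (l := 3) rfl N19091 D21431
theorem N21394 : nd 21394 = n21432 := ndS (p := 19091) (l := 5) rfl N19091 D21432
theorem N21395 : nd 21395 = n21433 := ndS (p := 19092) (l := 3) rfl N19092 D21433
theorem N21396 : nd 21396 = n21434 := ndS (p := 19092) (l := 5) rfl N19092 D21434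
theorem N21397 : nd 21397 = n21435 := ndS (p := 19093) (l := 4) rfl N19093 D21435
theorem N21398 : nd 21398 = n21436 := ndS (p := 19095) (l := 4) rfl N19095 D21436
theorem N21399 : nd 21399 = n21437 := ndS (p := 19096) (l := 3) rfl N19096 D21437
theorem N21400 : nd 21400 = n21438 := ndS (p := 19098) (l := 3) rfl N19098 D21438
theorem N21401 : nd 21401 = n21439 := ndS (p := 19098) (l := 5) rfl N19098 D21439
theorem N21402 : nd 21402 = n21440 := ndS (p := 19099) (l := 2) rfl N19099 D21440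
theorem N21403 : nd 21403 = n21441 := ndS (p := 19099) (l := 5) rfl N19099 D21441
theorem N21404 : nd 21404 = n21442 := ndS (p := 19101) (l := 1) rfl N19101 D21442
theorem N21405 : nd 21405 = n21443 := ndS (p := 19103) (l := 2) rfl N19103 D21443
theorem N21406 : nd 21406 = n21444 := ndS (p := 19103) (l := 4) rfl N19103 D21444
theorem N21407 : nd 21407 = n21445 := ndS (p := 19104) (l := 5) rfl N19104 D21445
theorem N21408 : nd 21408 = n21446 := ndS (p := 19105) (l := 0) rfl N19105 D21446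
theorem N21409 : nd 21409 = n21447 := ndS (p := 19105) (l := 4) rfl N19105 D21447
theorem N21410 : nd 21410 = n21448 := ndS (p := 19106) (l := 3) rfl N19106 D21448
theorem N21411 : nd 21411 = n21449 := ndS (p := 19106) (l := 5) rfl N19106 D21449
theorem N21412 : nd 21412 = n21450 := ndS (p := 19109) (l := 3) rfl N19109 D21450
theorem N21413 : nd 21413 = n21451 := ndS (p := 19110) (l := 2) rfl N19110 D21451
theorem N21414 : nd 21414 = n21452 := ndS (p := 19110) (l := 4) rfl N19110 D21452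
theorem N21415 : nd 21415 = n21453 := ndS (p := 19111) (l := 5) rfl N19111 D21453
theorem N21416 : nd 21416 = n21454 := ndS (p := 19118) (l := 2) rfl N19118 D21454
theorem N21417 : nd 21417 = n21455 := ndS (p := 19118) (l := 4) rfl N19118 D21455
theorem N21418 : nd 21418 = n21456 := ndS (p := 19119) (l := 5) rfl N19119 D21456
theorem N21419 : nd 21419 = n21457 := ndS (p := 19120) (l := 0) rfl N19120 D21457
theorem N21420 : nd 21420 = n21458 := ndS (p := 19120) (l := 4) rfl N19120 D21458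
theorem N21421 : nd 21421 = n21459 := ndS (p := 19121) (l := 3) rfl N19121 D21459
theorem N21422 : nd 21422 = n21460 := ndS (p := 19121) (l := 5) rfl N19121 D21460
theorem N21423 : nd 21423 = n21461 := ndS (p := 19123) (l := 2) rfl N19123 D21461
theorem N21424 : nd 21424 = n21462 := ndS (p := 19123) (l := 5) rfl N19123 D21462
theorem N21425 : nd 21425 = n21463 := ndS (p := 19125) (l := 3) rfl N19125 D21463
theorem N21426 : nd 21426 = n21464 := ndS (p := 19125) (l := 5) rfl N19125 D21464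
theorem N21427 : nd 21427 = n21465 := ndS (p := 19126) (l := 4) rfl N19126 D21465
theorem N21428 : nd 21428 = n21466 := ndS (p := 19127) (l := 3) rfl N19127 D21466
theorem N21429 : nd 21429 = n21467 := ndS (p := 19127) (l := 5) rfl N19127 D21467
theorem N21430 : nd 21430 = n21468 := ndS (p := 19128) (l := 4) rfl N19128 D21468
theorem N21431 : nd 21431 = n21469 := ndS (p := 19130) (l := 5) rfl N19130 D21469
theorem N21432 : nd 21432 = n21470 := ndS (p := 19132) (l := 3) rfl N19132 D21470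
theorem N21433 : nd 21433 = n21471 := ndS (p := 19132) (l := 5) rfl N19132 D21471
theorem N21434 : nd 21434 = n21472 := ndS (p := 19133) (l := 4) rfl N19133 D21472
theorem N21435 : nd 21435 = n21473 := ndS (p := 19134) (l := 0) rfl N19134 D21473
theorem N21436 : nd 21436 = n21474 := ndS (p := 19134) (l := 3) rfl N19134 D21474
theorem N21437 : nd 21437 = n21475 := ndS (p := 19134) (l := 5) rfl N19134 D21475
theorem N21438 : nd 21438 = n21476 := ndS (p := 19135) (l := 2) rfl N19135 D21476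
theorem N21439 : nd 21439 = n21477 := ndS (p := 19135) (l := 4) rfl N19135 D21477
theorem N21440 : nd 21440 = n21478 := ndS (p := 19135) (l := 5) rfl N19135 D21478
theorem N21441 : nd 21441 = n21479 := ndS (p := 19136) (l := 4) rfl N19136 D21479
theorem N21442 : nd 21442 = n21480 := ndS (p := 19138) (l := 5) rfl N19138 D21480
theorem N21443 : nd 21443 = n21481 := ndS (p := 19139) (l := 4) rfl N19139 D21481
theorem N21444 : nd 21444 = n21482 := ndS (p := 19140) (l := 4) rfl N19140 D21482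
theorem N21445 : nd 21445 = n21483 := ndS (p := 19145) (l := 2) rfl N19145 D21483
theorem N21446 : nd 21446 = n21484 := ndS (p := 19145) (l := 4) rfl N19145 D21484
theorem N21447 : nd 21447 = n21485 := ndS (p := 19146) (l := 3) rfl N19146 D21485
theorem N21448 : nd 21448 = n21486 := ndS (p := 19146) (l := 4) rfl N19146 D21486
theorem N21449 : nd 21449 = n21487 := ndS (p := 19147) (l := 5) rfl N19147 D21487
theorem N21450 : nd 21450 = n21488 := ndS (p := 19150) (l := 4) rfl N19150 D21488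
theorem N21451 : nd 21451 = n21489 := ndS (p := 19151) (l := 4) rfl N19151 D21489
theorem N21452 : nd 21452 = n21490 := ndS (p := 19152) (l := 5) rfl N19152 D21490
theorem N21453 : nd 21453 = n21491 := ndS (p := 19154) (l := 2) rfl N19154 D21491
theorem N21454 : nd 21454 = n21492 := ndS (p := 19156) (l := 0) rfl N19156 D21492
theorem N21455 : nd 21455 = n21493 := ndS (p := 19156) (l := 4) rfl N19156 D21493
theorem N21456 : nd 21456 = n21494 := ndS (p := 19157) (l := 5) rfl N19157 D21494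
theorem N21457 : nd 21457 = n21495 := ndS (p := 19159) (l := 4) rfl N19159 D21495
theorem N21458 : nd 21458 = n21496 := ndS (p := 19160) (l := 3) rfl N19160 D21496
theorem N21459 : nd 21459 = n21497 := ndS (p := 19160) (l := 5) rfl N19160 D21497
theorem N21460 : nd 21460 = n21498 := ndS (p := 19161) (l := 2) rfl N19161 D21498
theorem N21461 : nd 21461 = n21499 := ndS (p := 19167) (l := 2) rfl N19167 D21499
theorem N21462 : nd 21462 = n21500 := ndS (p := 19168) (l := 1) rfl N19168 D21500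
theorem N21463 : nd 21463 = n21501 := ndS (p := 19169) (l := 1) rfl N19169 D21501
theorem N21464 : nd 21464 = n21502 := ndS (p := 19169) (l := 3) rfl N19169 D21502
theorem N21465 : nd 21465 = n21503 := ndS (p := 19169) (l := 5) rfl N19169 D21503
theorem N21466 : nd 21466 = n21504 := ndS (p := 19170) (l := 4) rfl N19170 D21504
theorem N21467 : nd 21467 = n21505 := ndS (p := 19171) (l := 3) rfl N19171 D21505
theorem N21468 : nd 21468 = n21506 := ndS (p := 19171) (l := 5) rfl N19171 D21506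
theorem N21469 : nd 21469 = n21507 := ndS (p := 19173) (l := 4) rfl N19173 D21507
theorem N21470 : nd 21470 = n21508 := ndS (p := 19176) (l := 4) rfl N19176 D21508
theorem N21471 : nd 21471 = n21509 := ndS (p := 19177) (l := 2) rfl N19177 D21509
theorem N21472 : nd 21472 = n21510 := ndS (p := 19178) (l := 1) rfl N19178 D21510
theorem N21473 : nd 21473 = n21511 := ndS (p := 19179) (l := 0) rfl N19179 D21511
theorem N21474 : nd 21474 = n21512 := ndS (p := 19179) (l := 3) rfl N19179 D21512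
theorem N21475 : nd 21475 = n21513 := ndS (p := 19181) (l := 3) rfl N19181 D21513
theorem N21476 : nd 21476 = n21514 := ndS (p := 19184) (l := 2) rfl N19184 D21514
theorem N21477 : nd 21477 = n21515 := ndS (p := 19185) (l := 3) rfl N19185 D21515
theorem N21478 : nd 21478 = n21516 := ndS (p := 19185) (l := 5) rfl N19185 D21516
theorem N21479 : nd 21479 = n21517 := ndS (p := 19187) (l := 1) rfl N19187 D21517
theorem N21480 : nd 21480 = n21518 := ndS (p := 19187) (l := 4) rfl N19187 D21518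
theorem N21481 : nd 21481 = n21519 := ndS (p := 19189) (l := 4) rfl N19189 D21519
theorem N21482 : nd 21482 = n21520 := ndS (p := 19190) (l := 3) rfl N19190 D21520
theorem N21483 : nd 21483 = n21521 := ndS (p := 19190) (l := 5) rfl N19190 D21521
theorem N21484 : nd 21484 = n21522 := ndS (p := 19192) (l := 1) rfl N19192 D21522
theorem N21485 : nd 21485 = n21523 := ndS (p := 19192) (l := 3) rfl N19192 D21523
theorem N21486 : nd 21486 = n21524 := ndS (p := 19193) (l := 2) rfl N19193 D21524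
theorem N21487 : nd 21487 = n21525 := ndS (p := 19193) (l := 4) rfl N19193 D21525
theorem N21488 : nd 21488 = n21526 := ndS (p := 19196) (l := 5) rfl N19196 D21526
theorem N21489 : nd 21489 = n21527 := ndS (p := 19197) (l := 3) rfl N19197 D21527
theorem N21490 : nd 21490 = n21528 := ndS (p := 19198) (l := 3) rfl N19198 D21528
theorem N21491 : nd 21491 = n21529 := ndS (p := 19198) (l := 5) rfl N19198 D21529
theorem N21492 : nd 21492 = n21530 := ndS (p := 19199) (l := 4) rfl N19199 D21530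
theorem N21493 : nd 21493 = n21531 := ndS (p := 19201) (l := 3) rfl N19201 D21531
theorem N21494 : nd 21494 = n21532 := ndS (p := 19201) (l := 5) rfl N19201 D21532
theorem N21495 : nd 21495 = n21533 := ndS (p := 19202) (l := 4) rfl N19202 D21533
theorem N21496 : nd 21496 = n21534 := ndS (p := 19205) (l := 0) rfl N19205 D21534
theorem N21497 : nd 21497 = n21535 := ndS (p := 19206) (l := 3) rfl N19206 D21535
theorem N21498 : nd 21498 = n21536 := ndS (p := 19207) (l := 2) rfl N19207 D21536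
theorem N21499 : nd 21499 = n21537 := ndS (p := 19207) (l := 4) rfl N19207 D21537
theorem N21500 : nd 21500 = n21538 := ndS (p := 19208) (l := 3) rfl N19208 D21538
theorem N21501 : nd 21501 = n21539 := ndS (p := 19208) (l := 5) rfl N19208 D21539
theorem N21502 : nd 21502 = n21540 := ndS (p := 19209) (l := 3) rfl N19209 D21540
theorem N21503 : nd 21503 = n21541 := ndS (p := 19209) (l := 5) rfl N19209 D21541
theorem N21504 : nd 21504 = n21542 := ndS (p := 19213) (l := 1) rfl N19213 D21542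
theorem N21505 : nd 21505 = n21543 := ndS (p := 19215) (l := 2) rfl N19215 D21543
theorem N21506 : nd 21506 = n21544 := ndS (p := 19215) (l := 4) rfl N19215 D21544
theorem N21507 : nd 21507 = n21545 := ndS (p := 19216) (l := 5) rfl N19216 D21545
theorem N21508 : nd 21508 = n21546 := ndS (p := 19217) (l := 0) rfl N19217 D21546
theorem N21509 : nd 21509 = n21547 := ndS (p := 19217) (l := 4) rfl N19217 D21547
theorem N21510 : nd 21510 = n21548 := ndS (p := 19218) (l := 3) rfl N19218 D21548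
theorem N21511 : nd 21511 = n21549 := ndS (p := 19218) (l := 5) rfl N19218 D21549
theorem N21512 : nd 21512 = n21550 := ndS (p := 19220) (l := 3) rfl N19220 D21550
theorem N21513 : nd 21513 = n21551 := ndS (p := 19220) (l := 4) rfl N19220 D21551
theorem N21514 : nd 21514 = n21552 := ndS (p := 19221) (l := 5) rfl N19221 D21552
theorem N21515 : nd 21515 = n21553 := ndS (p := 19224) (l := 5) rfl N19224 D21553
theorem N21516 : nd 21516 = n21554 := ndS (p := 19225) (l := 5) rfl N19225 D21554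
theorem N21517 : nd 21517 = n21555 := ndS (p := 19226) (l := 4) rfl N19226 D21555
theorem N21518 : nd 21518 = n21556 := ndS (p := 19230) (l := 3) rfl N19230 D21556
theorem N21519 : nd 21519 = n21557 := ndS (p := 19231) (l := 2) rfl N19231 D21557
theorem N21520 : nd 21520 = n21558 := ndS (p := 19231) (l := 4) rfl N19231 D21558
theorem N21521 : nd 21521 = n21559 := ndS (p := 19232) (l := 4) rfl N19232 D21559
theorem N21522 : nd 21522 = n21560 := ndS (p := 19233) (l := 3) rfl N19233 D21560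
theorem N21523 : nd 21523 = n21561 := ndS (p := 19233) (l := 4) rfl N19233 D21561
theorem N21524 : nd 21524 = n21562 := ndS (p := 19234) (l := 5) rfl N19234 D21562
theorem N21525 : nd 21525 = n21563 := ndS (p := 19235) (l := 3) rfl N19235 D21563
theorem N21526 : nd 21526 = n21564 := ndS (p := 19237) (l := 2) rfl N19237 D21564
theorem N21527 : nd 21527 = n21565 := ndS (p := 19241) (l := 4) rfl N19241 D21565
theorem N21528 : nd 21528 = n21566 := ndS (p := 19243) (l := 1) rfl N19243 D21566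
theorem N21529 : nd 21529 = n21567 := ndS (p := 19243) (l := 3) rfl N19243 D21567
theorem N21530 : nd 21530 = n21568 := ndS (p := 19244) (l := 4) rfl N19244 D21568
theorem N21531 : nd 21531 = n21569 := ndS (p := 19245) (l := 3) rfl N19245 D21569
theorem N21532 : nd 21532 = n21570 := ndS (p := 19246) (l := 1) rfl N19246 D21570
theorem N21533 : nd 21533 = n21571 := ndS (p := 19246) (l := 5) rfl N19246 D21571
theorem N21534 : nd 21534 = n21572 := ndS (p := 19247) (l := 4) rfl N19247 D21572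
theorem N21535 : nd 21535 = n21573 := ndS (p := 19248) (l := 0) rfl N19248 D21573
theorem N21536 : nd 21536 = n21574 := ndS (p := 19250) (l := 4) rfl N19250 D21574
theorem N21537 : nd 21537 = n21575 := ndS (p := 19252) (l := 1) rfl N19252 D21575
theorem N21538 : nd 21538 = n21576 := ndS (p := 19253) (l := 3) rfl N19253 D21576
theorem N21539 : nd 21539 = n21577 := ndS (p := 19255) (l := 4) rfl N19255 D21577
theorem N21540 : nd 21540 = n21578 := ndS (p := 19257) (l := 3) rfl N19257 D21578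
theorem N21541 : nd 21541 = n21579 := ndS (p := 19259) (l := 3) rfl N19259 D21579
theorem N21542 : nd 21542 = n21580 := ndS (p := 19260) (l := 2) rfl N19260 D21580
theorem N21543 : nd 21543 = n21581 := ndS (p := 19261) (l := 1) rfl N19261 D21581
theorem N21544 : nd 21544 = n21582 := ndS (p := 19263) (l := 3) rfl N19263 D21582
theorem N21545 : nd 21545 = n21583 := ndS (p := 19264) (l := 3) rfl N19264 D21583
theorem N21546 : nd 21546 = n21584 := ndS (p := 19266) (l := 1) rfl N19266 D21584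
theorem N21547 : nd 21547 = n21585 := ndS (p := 19267) (l := 4) rfl N19267 D21585
theorem N21548 : nd 21548 = n21586 := ndS (p := 19269) (l := 4) rfl N19269 D21586
theorem N21549 : nd 21549 = n21587 := ndS (p := 19269) (l := 5) rfl N19269 D21587
theorem N21550 : nd 21550 = n21588 := ndS (p := 19270) (l := 4) rfl N19270 D21588
theorem N21551 : nd 21551 = n21589 := ndS (p := 19272) (l := 5) rfl N19272 D21589
theorem N21552 : nd 21552 = n21590 := ndS (p := 19276) (l := 3) rfl N19276 D21590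
theorem N21553 : nd 21553 = n21591 := ndS (p := 19276) (l := 4) rfl N19276 D21591
theorem N21554 : nd 21554 = n21592 := ndS (p := 19277) (l := 5) rfl N19277 D21592
theorem N21555 : nd 21555 = n21593 := ndS (p := 19279) (l := 4) rfl N19279 D21593
theorem N21556 : nd 21556 = n21594 := ndS (p := 19280) (l := 3) rfl N19280 D21594
theorem N21557 : nd 21557 = n21595 := ndS (p := 19281) (l := 3) rfl N19281 D21595
theorem N21558 : nd 21558 = n21596 := ndS (p := 19282) (l := 2) rfl N19282 D21596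
theorem N21559 : nd 21559 = n21597 := ndS (p := 19283) (l := 4) rfl N19283 D21597
theorem N21560 : nd 21560 = n21598 := ndS (p := 19284) (l := 3) rfl N19284 D21598
theorem N21561 : nd 21561 = n21599 := ndS (p := 19284) (l := 5) rfl N19284 D21599
theorem N21562 : nd 21562 = n21600 := ndS (p := 19285) (l := 2) rfl N19285 D21600
theorem N21563 : nd 21563 = n21601 := ndS (p := 19285) (l := 5) rfl N19285 D21601
theorem N21564 : nd 21564 = n21602 := ndS (p := 19288) (l := 4) rfl N19288 D21602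
theorem N21565 : nd 21565 = n21603 := ndS (p := 19292) (l := 5) rfl N19292 D21603
theorem N21566 : nd 21566 = n21604 := ndS (p := 19293) (l := 4) rfl N19293 D21604
theorem N21567 : nd 21567 = n21605 := ndS (p := 19294) (l := 3) rfl N19294 D21605
theorem N21568 : nd 21568 = n21606 := ndS (p := 19295) (l := 2) rfl N19295 D21606
theorem N21569 : nd 21569 = n21607 := ndS (p := 19298) (l := 4) rfl N19298 D21607
theorem N21570 : nd 21570 = n21608 := ndS (p := 19299) (l := 1) rfl N19299 D21608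
theorem N21571 : nd 21571 = n21609 := ndS (p := 19301) (l := 3) rfl N19301 D21609
theorem N21572 : nd 21572 = n21610 := ndS (p := 19302) (l := 3) rfl N19302 D21610
theorem N21573 : nd 21573 = n21611 := ndS (p := 19302) (l := 5) rfl N19302 D21611
theorem N21574 : nd 21574 = n21612 := ndS (p := 19303) (l := 2) rfl N19303 D21612
theorem N21575 : nd 21575 = n21613 := ndS (p := 19303) (l := 4) rfl N19303 D21613
theorem N21576 : nd 21576 = n21614 := ndS (p := 19304) (l := 4) rfl N19304 D21614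
theorem N21577 : nd 21577 = n21615 := ndS (p := 19305) (l := 5) rfl N19305 D21615
theorem N21578 : nd 21578 = n21616 := ndS (p := 19306) (l := 3) rfl N19306 D21616
theorem N21579 : nd 21579 = n21617 := ndS (p := 19307) (l := 4) rfl N19307 D21617
theorem N21580 : nd 21580 = n21618 := ndS (p := 19308) (l := 4) rfl N19308 D21618
theorem N21581 : nd 21581 = n21619 := ndS (p := 19309) (l := 4) rfl N19309 D21619
theorem N21582 : nd 21582 = n21620 := ndS (p := 19310) (l := 5) rfl N19310 D21620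
theorem N21583 : nd 21583 = n21621 := ndS (p := 19312) (l := 3) rfl N19312 D21621
theorem N21584 : nd 21584 = n21622 := ndS (p := 19314) (l := 2) rfl N19314 D21622
theorem N21585 : nd 21585 = n21623 := ndS (p := 19315) (l := 2) rfl N19315 D21623
theorem N21586 : nd 21586 = n21624 := ndS (p := 19315) (l := 4) rfl N19315 D21624
theorem N21587 : nd 21587 = n21625 := ndS (p := 19316) (l := 4) rfl N19316 D21625
theorem N21588 : nd 21588 = n21626 := ndS (p := 19317) (l := 3) rfl N19317 D21626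
theorem N21589 : nd 21589 = n21627 := ndS (p := 19317) (l := 4) rfl N19317 D21627
theorem N21590 : nd 21590 = n21628 := ndS (p := 19320) (l := 1) rfl N19320 D21628
theorem N21591 : nd 21591 = n21629 := ndS (p := 19322) (l := 4) rfl N19322 D21629
theorem N21592 : nd 21592 = n21630 := ndS (p := 19325) (l := 3) rfl N19325 D21630
theorem N21593 : nd 21593 = n21631 := ndS (p := 19329) (l := 3) rfl N19329 D21631
theorem N21594 : nd 21594 = n21632 := ndS (p := 19330) (l := 2) rfl N19330 D21632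
theorem N21595 : nd 21595 = n21633 := ndS (p := 19330) (l := 4) rfl N19330 D21633
theorem N21596 : nd 21596 = n21634 := ndS (p := 19331) (l := 1) rfl N19331 D21634
theorem N21597 : nd 21597 = n21635 := ndS (p := 19331) (l := 4) rfl N19331 D21635
theorem N21598 : nd 21598 = n21636 := ndS (p := 19332) (l := 5) rfl N19332 D21636
theorem N21599 : nd 21599 = n21637 := ndS (p := 19333) (l := 4) rfl N19333 D21637
theorem N21600 : nd 21600 = n21638 := ndS (p := 19335) (l := 4) rfl N19335 D21638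
theorem N21601 : nd 21601 = n21639 := ndS (p := 19336) (l := 5) rfl N19336 D21639
theorem N21602 : nd 21602 = n21640 := ndS (p := 19339) (l := 4) rfl N19339 D21640
theorem N21603 : nd 21603 = n21641 := ndS (p := 19342) (l := 4) rfl N19342 D21641
theorem N21604 : nd 21604 = n21642 := ndS (p := 19343) (l := 3) rfl N19343 D21642
theorem N21605 : nd 21605 = n21643 := ndS (p := 19344) (l := 3) rfl N19344 D21643
theorem N21606 : nd 21606 = n21644 := ndS (p := 19345) (l := 2) rfl N19345 D21644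
theorem N21607 : nd 21607 = n21645 := ndS (p := 19347) (l := 3) rfl N19347 D21645
theorem N21608 : nd 21608 = n21646 := ndS (p := 19347) (l := 4) rfl N19347 D21646
theorem N21609 : nd 21609 = n21647 := ndS (p := 19348) (l := 5) rfl N19348 D21647
theorem N21610 : nd 21610 = n21648 := ndS (p := 19349) (l := 2) rfl N19349 D21648
theorem N21611 : nd 21611 = n21649 := ndS (p := 19349) (l := 4) rfl N19349 D21649
theorem N21612 : nd 21612 = n21650 := ndS (p := 19350) (l := 3) rfl N19350 D21650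
theorem N21613 : nd 21613 = n21651 := ndS (p := 19350) (l := 5) rfl N19350 D21651
theorem N21614 : nd 21614 = n21652 := ndS (p := 19355) (l := 2) rfl N19355 D21652
theorem N21615 : nd 21615 = n21653 := ndS (p := 19356) (l := 2) rfl N19356 D21653
theorem N21616 : nd 21616 = n21654 := ndS (p := 19359) (l := 1) rfl N19359 D21654
theorem N21617 : nd 21617 = n21655 := ndS (p := 19360) (l := 3) rfl N19360 D21655
theorem N21618 : nd 21618 = n21656 := ndS (p := 19361) (l := 4) rfl N19361 D21656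
theorem N21619 : nd 21619 = n21657 := ndS (p := 19363) (l := 3) rfl N19363 D21657
theorem N21620 : nd 21620 = n21658 := ndS (p := 19365) (l := 4) rfl N19365 D21658
theorem N21621 : nd 21621 = n21659 := ndS (p := 19366) (l := 3) rfl N19366 D21659
theorem N21622 : nd 21622 = n21660 := ndS (p := 19368) (l := 5) rfl N19368 D21660
theorem N21623 : nd 21623 = n21661 := ndS (p := 19370) (l := 5) rfl N19370 D21661
theorem N21624 : nd 21624 = n21662 := ndS (p := 19373) (l := 5) rfl N19373 D21662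
theorem N21625 : nd 21625 = n21663 := ndS (p := 19374) (l := 4) rfl N19374 D21663
theorem N21626 : nd 21626 = n21664 := ndS (p := 19375) (l := 3) rfl N19375 D21664
theorem N21627 : nd 21627 = n21665 := ndS (p := 19376) (l := 3) rfl N19376 D21665
theorem N21628 : nd 21628 = n21666 := ndS (p := 19377) (l := 2) rfl N19377 D21666
theorem N21629 : nd 21629 = n21667 := ndS (p := 19378) (l := 5) rfl N19378 D21667
theorem N21630 : nd 21630 = n21668 := ndS (p := 19380) (l := 4) rfl N19380 D21668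
theorem N21631 : nd 21631 = n21669 := ndS (p := 19382) (l := 4) rfl N19382 D21669
theorem N21632 : nd 21632 = n21670 := ndS (p := 19386) (l := 4) rfl N19386 D21670
theorem N21633 : nd 21633 = n21671 := ndS (p := 19389) (l := 4) rfl N19389 D21671
theorem N21634 : nd 21634 = n21672 := ndS (p := 19390) (l := 3) rfl N19390 D21672
theorem N21635 : nd 21635 = n21673 := ndS (p := 19390) (l := 5) rfl N19390 D21673
theorem N21636 : nd 21636 = n21674 := ndS (p := 19391) (l := 2) rfl N19391 D21674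
theorem N21637 : nd 21637 = n21675 := ndS (p := 19391) (l := 5) rfl N19391 D21675
theorem N21638 : nd 21638 = n21676 := ndS (p := 19393) (l := 4) rfl N19393 D21676
theorem N21639 : nd 21639 = n21677 := ndS (p := 19395) (l := 4) rfl N19395 D21677
theorem N21640 : nd 21640 = n21678 := ndS (p := 19398) (l := 4) rfl N19398 D21678
theorem N21641 : nd 21641 = n21679 := ndS (p := 19399) (l := 1) rfl N19399 D21679
theorem N21642 : nd 21642 = n21680 := ndS (p := 19399) (l := 4) rfl N19399 D21680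
theorem N21643 : nd 21643 = n21681 := ndS (p := 19400) (l := 5) rfl N19400 D21681
theorem N21644 : nd 21644 = n21682 := ndS (p := 19401) (l := 3) rfl N19401 D21682
theorem N21645 : nd 21645 = n21683 := ndS (p := 19403) (l := 5) rfl N19403 D21683
theorem N21646 : nd 21646 = n21684 := ndS (p := 19420) (l := 2) rfl N19420 D21684
theorem N21647 : nd 21647 = n21685 := ndS (p := 19433) (l := 1) rfl N19433 D21685
theorem N21648 : nd 21648 = n21686 := ndS (p := 19434) (l := 0) rfl N19434 D21686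
theorem N21649 : nd 21649 = n21687 := ndS (p := 19434) (l := 3) rfl N19434 D21687
theorem N21650 : nd 21650 = n21688 := ndS (p := 19434) (l := 5) rfl N19434 D21688
theorem N21651 : nd 21651 = n21689 := ndS (p := 19435) (l := 2) rfl N19435 D21689
theorem N21652 : nd 21652 = n21690 := ndS (p := 19435) (l := 4) rfl N19435 D21690
theorem N21653 : nd 21653 = n21691 := ndS (p := 19436) (l := 4) rfl N19436 D21691
theorem N21654 : nd 21654 = n21692 := ndS (p := 19438) (l := 3) rfl N19438 D21692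
theorem N21655 : nd 21655 = n21693 := ndS (p := 19438) (l := 5) rfl N19438 D21693
theorem N21656 : nd 21656 = n21694 := ndS (p := 19440) (l := 4) rfl N19440 D21694
theorem N21657 : nd 21657 = n21695 := ndS (p := 19441) (l := 3) rfl N19441 D21695
theorem N21658 : nd 21658 = n21696 := ndS (p := 19442) (l := 2) rfl N19442 D21696
theorem N21659 : nd 21659 = n21697 := ndS (p := 19442) (l := 4) rfl N19442 D21697
theorem N21660 : nd 21660 = n21698 := ndS (p := 19443) (l := 1) rfl N19443 D21698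
theorem N21661 : nd 21661 = n21699 := ndS (p := 19443) (l := 3) rfl N19443 D21699
theorem N21662 : nd 21662 = n21700 := ndS (p := 19443) (l := 4) rfl N19443 D21700
theorem N21663 : nd 21663 = n21701 := ndS (p := 19443) (l := 5) rfl N19443 D21701
theorem N21664 : nd 21664 = n21702 := ndS (p := 19446) (l := 0) rfl N19446 D21702
theorem N21665 : nd 21665 = n21703 := ndS (p := 19446) (l := 4) rfl N19446 D21703
theorem N21666 : nd 21666 = n21704 := ndS (p := 19447) (l := 3) rfl N19447 D21704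
theorem N21667 : nd 21667 = n21705 := ndS (p := 19448) (l := 4) rfl N19448 D21705
theorem N21668 : nd 21668 = n21706 := ndS (p := 19450) (l := 3) rfl N19450 D21706
theorem N21669 : nd 21669 = n21707 := ndS (p := 19452) (l := 4) rfl N19452 D21707
theorem N21670 : nd 21670 = n21708 := ndS (p := 19454) (l := 5) rfl N19454 D21708
theorem N21671 : nd 21671 = n21709 := ndS (p := 19457) (l := 0) rfl N19457 D21709
theorem N21672 : nd 21672 = n21710 := ndS (p := 19457) (l := 3) rfl N19457 D21710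
theorem N21673 : nd 21673 = n21711 := ndS (p := 19461) (l := 3) rfl N19461 D21711
theorem N21674 : nd 21674 = n21712 := ndS (p := 19462) (l := 3) rfl N19462 D21712
theorem N21675 : nd 21675 = n21713 := ndS (p := 19462) (l := 4) rfl N19462 D21713
theorem N21676 : nd 21676 = n21714 := ndS (p := 19464) (l := 0) rfl N19464 D21714
theorem N21677 : nd 21677 = n21715 := ndS (p := 19464) (l := 3) rfl N19464 D21715
theorem N21678 : nd 21678 = n21716 := ndS (p := 19464) (l := 4) rfl N19464 D21716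
theorem N21679 : nd 21679 = n21717 := ndS (p := 19465) (l := 4) rfl N19465 D21717
theorem N21680 : nd 21680 = n21718 := ndS (p := 19466) (l := 3) rfl N19466 D21718
theorem N21681 : nd 21681 = n21719 := ndS (p := 19467) (l := 4) rfl N19467 D21719
theorem N21682 : nd 21682 = n21720 := ndS (p := 19468) (l := 3) rfl N19468 D21720
theorem N21683 : nd 21683 = n21721 := ndS (p := 19470) (l := 4) rfl N19470 D21721
theorem N21684 : nd 21684 = n21722 := ndS (p := 19471) (l := 4) rfl N19471 D21722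
theorem N21685 : nd 21685 = n21723 := ndS (p := 19472) (l := 3) rfl N19472 D21723
theorem N21686 : nd 21686 = n21724 := ndS (p := 19473) (l := 4) rfl N19473 D21724
theorem N21687 : nd 21687 = n21725 := ndS (p := 19474) (l := 3) rfl N19474 D21725
theorem N21688 : nd 21688 = n21726 := ndS (p := 19474) (l := 5) rfl N19474 D21726
theorem N21689 : nd 21689 = n21727 := ndS (p := 19475) (l := 2) rfl N19475 D21727
theorem N21690 : nd 21690 = n21728 := ndS (p := 19482) (l := 1) rfl N19482 D21728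
theorem N21691 : nd 21691 = n21729 := ndS (p := 19483) (l := 0) rfl N19483 D21729
theorem N21692 : nd 21692 = n21730 := ndS (p := 19483) (l := 3) rfl N19483 D21730
theorem N21693 : nd 21693 = n21731 := ndS (p := 19487) (l := 1) rfl N19487 D21731
theorem N21694 : nd 21694 = n21732 := ndS (p := 19488) (l := 0) rfl N19488 D21732
theorem N21695 : nd 21695 = n21733 := ndS (p := 19488) (l := 3) rfl N19488 D21733
theorem N21696 : nd 21696 = n21734 := ndS (p := 19490) (l := 3) rfl N19490 D21734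
theorem N21697 : nd 21697 = n21735 := ndS (p := 19491) (l := 2) rfl N19491 D21735
theorem N21698 : nd 21698 = n21736 := ndS (p := 19492) (l := 1) rfl N19492 D21736
theorem N21699 : nd 21699 = n21737 := ndS (p := 19492) (l := 4) rfl N19492 D21737
theorem N21700 : nd 21700 = n21738 := ndS (p := 19494) (l := 4) rfl N19494 D21738
theorem N21701 : nd 21701 = n21739 := ndS (p := 19495) (l := 3) rfl N19495 D21739
theorem N21702 : nd 21702 = n21740 := ndS (p := 19496) (l := 4) rfl N19496 D21740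
theorem N21703 : nd 21703 = n21741 := ndS (p := 19498) (l := 3) rfl N19498 D21741
theorem N21704 : nd 21704 = n21742 := ndS (p := 19499) (l := 2) rfl N19499 D21742
theorem N21705 : nd 21705 = n21743 := ndS (p := 19500) (l := 3) rfl N19500 D21743
theorem N21706 : nd 21706 = n21744 := ndS (p := 19502) (l := 1) rfl N19502 D21744
theorem N21707 : nd 21707 = n21745 := ndS (p := 19503) (l := 2) rfl N19503 D21745
theorem N21708 : nd 21708 = n21746 := ndS (p := 19506) (l := 5) rfl N19506 D21746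
theorem N21709 : nd 21709 = n21747 := ndS (p := 19514) (l := 1) rfl N19514 D21747
theorem N21710 : nd 21710 = n21748 := ndS (p := 19515) (l := 4) rfl N19515 D21748
theorem N21711 : nd 21711 = n21749 := ndS (p := 19516) (l := 4) rfl N19516 D21749
theorem N21712 : nd 21712 = n21750 := ndS (p := 19522) (l := 4) rfl N19522 D21750
theorem N21713 : nd 21713 = n21751 := ndS (p := 19523) (l := 3) rfl N19523 D21751
theorem N21714 : nd 21714 = n21752 := ndS (p := 19525) (l := 2) rfl N19525 D21752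
theorem N21715 : nd 21715 = n21753 := ndS (p := 19526) (l := 3) rfl N19526 D21753
theorem N21716 : nd 21716 = n21754 := ndS (p := 19528) (l := 2) rfl N19528 D21754
theorem N21717 : nd 21717 = n21755 := ndS (p := 19530) (l := 1) rfl N19530 D21755
theorem N21718 : nd 21718 = n21756 := ndS (p := 19530) (l := 3) rfl N19530 D21756
theorem N21719 : nd 21719 = n21757 := ndS (p := 19531) (l := 1) rfl N19531 D21757
theorem N21720 : nd 21720 = n21758 := ndS (p := 19534) (l := 4) rfl N19534 D21758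
theorem N21721 : nd 21721 = n21759 := ndS (p := 19535) (l := 5) rfl N19535 D21759
theorem N21722 : nd 21722 = n21760 := ndS (p := 19536) (l := 0) rfl N19536 D21760
theorem N21723 : nd 21723 = n21761 := ndS (p := 19536) (l := 3) rfl N19536 D21761
theorem N21724 : nd 21724 = n21762 := ndS (p := 19540) (l := 0) rfl N19540 D21762
theorem N21725 : nd 21725 = n21763 := ndS (p := 19540) (l := 3) rfl N19540 D21763
theorem N21726 : nd 21726 = n21764 := ndS (p := 19543) (l := 3) rfl N19543 D21764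
theorem N21727 : nd 21727 = n21765 := ndS (p := 19544) (l := 2) rfl N19544 D21765
theorem N21728 : nd 21728 = n21766 := ndS (p := 19545) (l := 3) rfl N19545 D21766
theorem N21729 : nd 21729 = n21767 := ndS (p := 19546) (l := 2) rfl N19546 D21767
theorem N21730 : nd 21730 = n21768 := ndS (p := 19547) (l := 3) rfl N19547 D21768
theorem N21731 : nd 21731 = n21769 := ndS (p := 19548) (l := 2) rfl N19548 D21769
theorem N21732 : nd 21732 = n21770 := ndS (p := 19549) (l := 2) rfl N19549 D21770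
theorem N21733 : nd 21733 = n21771 := ndS (p := 19551) (l := 1) rfl N19551 D21771
theorem N21734 : nd 21734 = n21772 := ndS (p := 19552) (l := 0) rfl N19552 D21772
theorem N21735 : nd 21735 = n21773 := ndS (p := 19552) (l := 3) rfl N19552 D21773
theorem N21736 : nd 21736 = n21774 := ndS (p := 19552) (l := 5) rfl N19552 D21774
theorem N21737 : nd 21737 = n21775 := ndS (p := 19553) (l := 2) rfl N19553 D21775
theorem N21738 : nd 21738 = n21776 := ndS (p := 19553) (l := 4) rfl N19553 D21776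
theorem N21739 : nd 21739 = n21777 := ndS (p := 19554) (l := 4) rfl N19554 D21777
theorem N21740 : nd 21740 = n21778 := ndS (p := 19557) (l := 4) rfl N19557 D21778
theorem N21741 : nd 21741 = n21779 := ndS (p := 19561) (l := 3) rfl N19561 D21779
theorem N21742 : nd 21742 = n21780 := ndS (p := 19561) (l := 5) rfl N19561 D21780
theorem N21743 : nd 21743 = n21781 := ndS (p := 19562) (l := 2) rfl N19562 D21781
theorem N21744 : nd 21744 = n21782 := ndS (p := 19562) (l := 5) rfl N19562 D21782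
theorem N21745 : nd 21745 = n21783 := ndS (p := 19565) (l := 4) rfl N19565 D21783
theorem N21746 : nd 21746 = n21784 := ndS (p := 19569) (l := 5) rfl N19569 D21784
theorem N21747 : nd 21747 = n21785 := ndS (p := 19571) (l := 2) rfl N19571 D21785
theorem N21748 : nd 21748 = n21786 := ndS (p := 19571) (l := 4) rfl N19571 D21786
theorem N21749 : nd 21749 = n21787 := ndS (p := 19571) (l := 5) rfl N19571 D21787
theorem N21750 : nd 21750 = n21788 := ndS (p := 19572) (l := 4) rfl N19572 D21788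
theorem N21751 : nd 21751 = n21789 := ndS (p := 19573) (l := 1) rfl N19573 D21789
theorem N21752 : nd 21752 = n21790 := ndS (p := 19573) (l := 3) rfl N19573 D21790
theorem N21753 : nd 21753 = n21791 := ndS (p := 19573) (l := 4) rfl N19573 D21791
theorem N21754 : nd 21754 = n21792 := ndS (p := 19573) (l := 5) rfl N19573 D21792
theorem N21755 : nd 21755 = n21793 := ndS (p := 19574) (l := 5) rfl N19574 D21793
theorem N21756 : nd 21756 = n21794 := ndS (p := 19575) (l := 4) rfl N19575 D21794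
theorem N21757 : nd 21757 = n21795 := ndS (p := 19576) (l := 3) rfl N19576 D21795
theorem N21758 : nd 21758 = n21796 := ndS (p := 19577) (l := 0) rfl N19577 D21796
theorem N21759 : nd 21759 = n21797 := ndS (p := 19577) (l := 4) rfl N19577 D21797
theorem N21760 : nd 21760 = n21798 := ndS (p := 19579) (l := 4) rfl N19579 D21798
theorem N21761 : nd 21761 = n21799 := ndS (p := 19580) (l := 3) rfl N19580 D21799
theorem N21762 : nd 21762 = n21800 := ndS (p := 19581) (l := 2) rfl N19581 D21800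
theorem N21763 : nd 21763 = n21801 := ndS (p := 19582) (l := 5) rfl N19582 D21801
theorem N21764 : nd 21764 = n21802 := ndS (p := 19583) (l := 3) rfl N19583 D21802
theorem N21765 : nd 21765 = n21803 := ndS (p := 19584) (l := 3) rfl N19584 D21803
theorem N21766 : nd 21766 = n21804 := ndS (p := 19584) (l := 5) rfl N19584 D21804
theorem N21767 : nd 21767 = n21805 := ndS (p := 19586) (l := 2) rfl N19586 D21805
theorem N21768 : nd 21768 = n21806 := ndS (p := 19587) (l := 1) rfl N19587 D21806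
theorem N21769 : nd 21769 = n21807 := ndS (p := 19587) (l := 3) rfl N19587 D21807
theorem N21770 : nd 21770 = n21808 := ndS (p := 19588) (l := 5) rfl N19588 D21808
theorem N21771 : nd 21771 = n21809 := ndS (p := 19589) (l := 5) rfl N19589 D21809
theorem N21772 : nd 21772 = n21810 := ndS (p := 19591) (l := 4) rfl N19591 D21810
theorem N21773 : nd 21773 = n21811 := ndS (p := 19592) (l := 3) rfl N19592 D21811
theorem N21774 : nd 21774 = n21812 := ndS (p := 19592) (l := 5) rfl N19592 D21812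
theorem N21775 : nd 21775 = n21813 := ndS (p := 19594) (l := 3) rfl N19594 D21813
theorem N21776 : nd 21776 = n21814 := ndS (p := 19595) (l := 2) rfl N19595 D21814
theorem N21777 : nd 21777 = n21815 := ndS (p := 19595) (l := 5) rfl N19595 D21815
theorem N21778 : nd 21778 = n21816 := ndS (p := 19598) (l := 4) rfl N19598 D21816
theorem N21779 : nd 21779 = n21817 := ndS (p := 19599) (l := 3) rfl N19599 D21817
theorem N21780 : nd 21780 = n21818 := ndS (p := 19600) (l := 3) rfl N19600 D21818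
theorem N21781 : nd 21781 = n21819 := ndS (p := 19601) (l := 2) rfl N19601 D21819
theorem N21782 : nd 21782 = n21820 := ndS (p := 19601) (l := 5) rfl N19601 D21820
theorem N21783 : nd 21783 = n21821 := ndS (p := 19603) (l := 5) rfl N19603 D21821
theorem N21784 : nd 21784 = n21822 := ndS (p := 19606) (l := 1) rfl N19606 D21822
theorem N21785 : nd 21785 = n21823 := ndS (p := 19606) (l := 3) rfl N19606 D21823
theorem N21786 : nd 21786 = n21824 := ndS (p := 19606) (l := 5) rfl N19606 D21824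
theorem N21787 : nd 21787 = n21825 := ndS (p := 19607) (l := 4) rfl N19607 D21825
theorem N21788 : nd 21788 = n21826 := ndS (p := 19608) (l := 0) rfl N19608 D21826
theorem N21789 : nd 21789 = n21827 := ndS (p := 19608) (l := 3) rfl N19608 D21827
theorem N21790 : nd 21790 = n21828 := ndS (p := 19608) (l := 5) rfl N19608 D21828
theorem N21791 : nd 21791 = n21829 := ndS (p := 19612) (l := 3) rfl N19612 D21829
theorem N21792 : nd 21792 = n21830 := ndS (p := 19612) (l := 5) rfl N19612 D21830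
theorem N21793 : nd 21793 = n21831 := ndS (p := 19613) (l := 2) rfl N19613 D21831
theorem N21794 : nd 21794 = n21832 := ndS (p := 19613) (l := 4) rfl N19613 D21832
theorem N21795 : nd 21795 = n21833 := ndS (p := 19615) (l := 5) rfl N19615 D21833
theorem N21796 : nd 21796 = n21834 := ndS (p := 19616) (l := 3) rfl N19616 D21834
theorem N21797 : nd 21797 = n21835 := ndS (p := 19617) (l := 5) rfl N19617 D21835
theorem N21798 : nd 21798 = n21836 := ndS (p := 19619) (l := 2) rfl N19619 D21836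
theorem N21799 : nd 21799 = n21837 := ndS (p := 19620) (l := 2) rfl N19620 D21837
theorem N21800 : nd 21800 = n21838 := ndS (p := 19620) (l := 5) rfl N19620 D21838
theorem N21801 : nd 21801 = n21839 := ndS (p := 19622) (l := 1) rfl N19622 D21839
theorem N21802 : nd 21802 = n21840 := ndS (p := 19622) (l := 3) rfl N19622 D21840
theorem N21803 : nd 21803 = n21841 := ndS (p := 19622) (l := 5) rfl N19622 D21841
theorem N21804 : nd 21804 = n21842 := ndS (p := 19623) (l := 4) rfl N19623 D21842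
theorem N21805 : nd 21805 = n21843 := ndS (p := 19624) (l := 0) rfl N19624 D21843
theorem N21806 : nd 21806 = n21844 := ndS (p := 19626) (l := 2) rfl N19626 D21844
theorem N21807 : nd 21807 = n21845 := ndS (p := 19628) (l := 3) rfl N19628 D21845
theorem N21808 : nd 21808 = n21846 := ndS (p := 19628) (l := 4) rfl N19628 D21846
theorem N21809 : nd 21809 = n21847 := ndS (p := 19629) (l := 5) rfl N19629 D21847
theorem N21810 : nd 21810 = n21848 := ndS (p := 19632) (l := 1) rfl N19632 D21848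
theorem N21811 : nd 21811 = n21849 := ndS (p := 19632) (l := 4) rfl N19632 D21849
theorem N21812 : nd 21812 = n21850 := ndS (p := 19632) (l := 5) rfl N19632 D21850
theorem N21813 : nd 21813 = n21851 := ndS (p := 19633) (l := 5) rfl N19633 D21851
theorem N21814 : nd 21814 = n21852 := ndS (p := 19634) (l := 4) rfl N19634 D21852
theorem N21815 : nd 21815 = n21853 := ndS (p := 19635) (l := 3) rfl N19635 D21853
theorem N21816 : nd 21816 = n21854 := ndS (p := 19637) (l := 5) rfl N19637 D21854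
theorem N21817 : nd 21817 = n21855 := ndS (p := 19639) (l := 4) rfl N19639 D21855
theorem N21818 : nd 21818 = n21856 := ndS (p := 19640) (l := 4) rfl N19640 D21856
theorem N21819 : nd 21819 = n21857 := ndS (p := 19641) (l := 3) rfl N19641 D21857
theorem N21820 : nd 21820 = n21858 := ndS (p := 19648) (l := 4) rfl N19648 D21858
theorem N21821 : nd 21821 = n21859 := ndS (p := 19649) (l := 5) rfl N19649 D21859
theorem N21822 : nd 21822 = n21860 := ndS (p := 19654) (l := 0) rfl N19654 D21860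
theorem N21823 : nd 21823 = n21861 := ndS (p := 19656) (l := 2) rfl N19656 D21861
theorem N21824 : nd 21824 = n21862 := ndS (p := 19656) (l := 5) rfl N19656 D21862
theorem N21825 : nd 21825 = n21863 := ndS (p := 19659) (l := 4) rfl N19659 D21863
theorem N21826 : nd 21826 = n21864 := ndS (p := 19660) (l := 3) rfl N19660 D21864
theorem N21827 : nd 21827 = n21865 := ndS (p := 19661) (l := 3) rfl N19661 D21865
theorem N21828 : nd 21828 = n21866 := ndS (p := 19661) (l := 5) rfl N19661 D21866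
theorem N21829 : nd 21829 = n21867 := ndS (p := 19662) (l := 4) rfl N19662 D21867
theorem N21830 : nd 21830 = n21868 := ndS (p := 19663) (l := 4) rfl N19663 D21868
theorem N21831 : nd 21831 = n21869 := ndS (p := 19664) (l := 3) rfl N19664 D21869
theorem N21832 : nd 21832 = n21870 := ndS (p := 19665) (l := 2) rfl N19665 D21870
theorem N21833 : nd 21833 = n21871 := ndS (p := 19668) (l := 1) rfl N19668 D21871
theorem N21834 : nd 21834 = n21872 := ndS (p := 19669) (l := 4) rfl N19669 D21872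
theorem N21835 : nd 21835 = n21873 := ndS (p := 19670) (l := 2) rfl N19670 D21873
theorem N21836 : nd 21836 = n21874 := ndS (p := 19671) (l := 4) rfl N19671 D21874
theorem N21837 : nd 21837 = n21875 := ndS (p := 19672) (l := 3) rfl N19672 D21875
theorem N21838 : nd 21838 = n21876 := ndS (p := 19672) (l := 5) rfl N19672 D21876
theorem N21839 : nd 21839 = n21877 := ndS (p := 19673) (l := 2) rfl N19673 D21877
theorem N21840 : nd 21840 = n21878 := ndS (p := 19674) (l := 1) rfl N19674 D21878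
theorem N21841 : nd 21841 = n21879 := ndS (p := 19674) (l := 3) rfl N19674 D21879
theorem N21842 : nd 21842 = n21880 := ndS (p := 19675) (l := 0) rfl N19675 D21880
theorem N21843 : nd 21843 = n21881 := ndS (p := 19675) (l := 3) rfl N19675 D21881
theorem N21844 : nd 21844 = n21882 := ndS (p := 19677) (l := 3) rfl N19677 D21882
theorem N21845 : nd 21845 = n21883 := ndS (p := 19678) (l := 4) rfl N19678 D21883
theorem N21846 : nd 21846 = n21884 := ndS (p := 19679) (l := 3) rfl N19679 D21884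
theorem N21847 : nd 21847 = n21885 := ndS (p := 19679) (l := 5) rfl N19679 D21885
theorem N21848 : nd 21848 = n21886 := ndS (p := 19680) (l := 3) rfl N19680 D21886
theorem N21849 : nd 21849 = n21887 := ndS (p := 19680) (l := 5) rfl N19680 D21887
theorem N21850 : nd 21850 = n21888 := ndS (p := 19681) (l := 4) rfl N19681 D21888
theorem N21851 : nd 21851 = n21889 := ndS (p := 19682) (l := 2) rfl N19682 D21889
theorem N21852 : nd 21852 = n21890 := ndS (p := 19682) (l := 5) rfl N19682 D21890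
theorem N21853 : nd 21853 = n21891 := ndS (p := 19684) (l := 2) rfl N19684 D21891
theorem N21854 : nd 21854 = n21892 := ndS (p := 19684) (l := 5) rfl N19684 D21892
theorem N21855 : nd 21855 = n21893 := ndS (p := 19687) (l := 2) rfl N19687 D21893
theorem N21856 : nd 21856 = n21894 := ndS (p := 19687) (l := 4) rfl N19687 D21894
theorem N21857 : nd 21857 = n21895 := ndS (p := 19688) (l := 5) rfl N19688 D21895
theorem N21858 : nd 21858 = n21896 := ndS (p := 19689) (l := 5) rfl N19689 D21896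
theorem N21859 : nd 21859 = n21897 := ndS (p := 19691) (l := 4) rfl N19691 D21897
theorem N21860 : nd 21860 = n21898 := ndS (p := 19693) (l := 4) rfl N19693 D21898
theorem N21861 : nd 21861 = n21899 := ndS (p := 19694) (l := 3) rfl N19694 D21899
theorem N21862 : nd 21862 = n21900 := ndS (p := 19694) (l := 5) rfl N19694 D21900
theorem N21863 : nd 21863 = n21901 := ndS (p := 19699) (l := 0) rfl N19699 D21901
theorem N21864 : nd 21864 = n21902 := ndS (p := 19701) (l := 1) rfl N19701 D21902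
theorem N21865 : nd 21865 = n21903 := ndS (p := 19702) (l := 0) rfl N19702 D21903
theorem N21866 : nd 21866 = n21904 := ndS (p := 19704) (l := 1) rfl N19704 D21904
theorem N21867 : nd 21867 = n21905 := ndS (p := 19704) (l := 3) rfl N19704 D21905
theorem N21868 : nd 21868 = n21906 := ndS (p := 19705) (l := 0) rfl N19705 D21906
theorem N21869 : nd 21869 = n21907 := ndS (p := 19705) (l := 3) rfl N19705 D21907
theorem N21870 : nd 21870 = n21908 := ndS (p := 19705) (l := 5) rfl N19705 D21908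
theorem N21871 : nd 21871 = n21909 := ndS (p := 19706) (l := 4) rfl N19706 D21909
theorem N21872 : nd 21872 = n21910 := ndS (p := 19709) (l := 2) rfl N19709 D21910
theorem N21873 : nd 21873 = n21911 := ndS (p := 19710) (l := 3) rfl N19710 D21911
theorem N21874 : nd 21874 = n21912 := ndS (p := 19715) (l := 2) rfl N19715 D21912
theorem N21875 : nd 21875 = n21913 := ndS (p := 19716) (l := 1) rfl N19716 D21913
theorem N21876 : nd 21876 = n21914 := ndS (p := 19720) (l := 2) rfl N19720 D21914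
theorem N21877 : nd 21877 = n21915 := ndS (p := 19722) (l := 1) rfl N19722 D21915
theorem N21878 : nd 21878 = n21916 := ndS (p := 19722) (l := 3) rfl N19722 D21916
theorem N21879 : nd 21879 = n21917 := ndS (p := 19723) (l := 0) rfl N19723 D21917
theorem N21880 : nd 21880 = n21918 := ndS (p := 19723) (l := 3) rfl N19723 D21918
theorem N21881 : nd 21881 = n21919 := ndS (p := 19725) (l := 3) rfl N19725 D21919
theorem N21882 : nd 21882 = n21920 := ndS (p := 19726) (l := 2) rfl N19726 D21920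
theorem N21883 : nd 21883 = n21921 := ndS (p := 19728) (l := 4) rfl N19728 D21921
theorem N21884 : nd 21884 = n21922 := ndS (p := 19729) (l := 5) rfl N19729 D21922
theorem N21885 : nd 21885 = n21923 := ndS (p := 19730) (l := 3) rfl N19730 D21923
theorem N21886 : nd 21886 = n21924 := ndS (p := 19731) (l := 2) rfl N19731 D21924
theorem N21887 : nd 21887 = n21925 := ndS (p := 19732) (l := 5) rfl N19732 D21925
theorem N21888 : nd 21888 = n21926 := ndS (p := 19733) (l := 3) rfl N19733 D21926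
theorem N21889 : nd 21889 = n21927 := ndS (p := 19736) (l := 3) rfl N19736 D21927
theorem N21890 : nd 21890 = n21928 := ndS (p := 19736) (l := 5) rfl N19736 D21928
theorem N21891 : nd 21891 = n21929 := ndS (p := 19738) (l := 2) rfl N19738 D21929
theorem N21892 : nd 21892 = n21930 := ndS (p := 19739) (l := 3) rfl N19739 D21930
theorem N21893 : nd 21893 = n21931 := ndS (p := 19740) (l := 2) rfl N19740 D21931
theorem N21894 : nd 21894 = n21932 := ndS (p := 19740) (l := 5) rfl N19740 D21932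
theorem N21895 : nd 21895 = n21933 := ndS (p := 19743) (l := 5) rfl N19743 D21933
theorem N21896 : nd 21896 = n21934 := ndS (p := 19745) (l := 2) rfl N19745 D21934
theorem N21897 : nd 21897 = n21935 := ndS (p := 19748) (l := 1) rfl N19748 D21935
theorem N21898 : nd 21898 = n21936 := ndS (p := 19748) (l := 3) rfl N19748 D21936
theorem N21899 : nd 21899 = n21937 := ndS (p := 19749) (l := 0) rfl N19749 D21937
theorem N21900 : nd 21900 = n21938 := ndS (p := 19750) (l := 3) rfl N19750 D21938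
theorem N21901 : nd 21901 = n21939 := ndS (p := 19751) (l := 2) rfl N19751 D21939
theorem N21902 : nd 21902 = n21940 := ndS (p := 19752) (l := 1) rfl N19752 D21940
theorem N21903 : nd 21903 = n21941 := ndS (p := 19752) (l := 4) rfl N19752 D21941
theorem N21904 : nd 21904 = n21942 := ndS (p := 19753) (l := 5) rfl N19753 D21942
theorem N21905 : nd 21905 = n21943 := ndS (p := 19754) (l := 4) rfl N19754 D21943
theorem N21906 : nd 21906 = n21944 := ndS (p := 19757) (l := 1) rfl N19757 D21944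
theorem N21907 : nd 21907 = n21945 := ndS (p := 19758) (l := 3) rfl N19758 D21945
theorem N21908 : nd 21908 = n21946 := ndS (p := 19759) (l := 0) rfl N19759 D21946
theorem N21909 : nd 21909 = n21947 := ndS (p := 19759) (l := 3) rfl N19759 D21947
theorem N21910 : nd 21910 = n21948 := ndS (p := 19762) (l := 2) rfl N19762 D21948
theorem N21911 : nd 21911 = n21949 := ndS (p := 19763) (l := 2) rfl N19763 D21949
theorem N21912 : nd 21912 = n21950 := ndS (p := 19764) (l := 1) rfl N19764 D21950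
theorem N21913 : nd 21913 = n21951 := ndS (p := 19764) (l := 3) rfl N19764 D21951
theorem N21914 : nd 21914 = n21952 := ndS (p := 19765) (l := 0) rfl N19765 D21952
theorem N21915 : nd 21915 = n21953 := ndS (p := 19768) (l := 2) rfl N19768 D21953
theorem N21916 : nd 21916 = n21954 := ndS (p := 19770) (l := 3) rfl N19770 D21954
theorem N21917 : nd 21917 = n21955 := ndS (p := 19771) (l := 2) rfl N19771 D21955
theorem N21918 : nd 21918 = n21956 := ndS (p := 19771) (l := 5) rfl N19771 D21956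
theorem N21919 : nd 21919 = n21957 := ndS (p := 19773) (l := 1) rfl N19773 D21957
theorem N21920 : nd 21920 = n21958 := ndS (p := 19774) (l := 4) rfl N19774 D21958
theorem N21921 : nd 21921 = n21959 := ndS (p := 19775) (l := 1) rfl N19775 D21959
theorem N21922 : nd 21922 = n21960 := ndS (p := 19776) (l := 4) rfl N19776 D21960
theorem N21923 : nd 21923 = n21961 := ndS (p := 19777) (l := 0) rfl N19777 D21961
theorem N21924 : nd 21924 = n21962 := ndS (p := 19777) (l := 5) rfl N19777 D21962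
theorem N21925 : nd 21925 = n21963 := ndS (p := 19778) (l := 4) rfl N19778 D21963
theorem N21926 : nd 21926 = n21964 := ndS (p := 19780) (l := 2) rfl N19780 D21964
theorem N21927 : nd 21927 = n21965 := ndS (p := 19783) (l := 2) rfl N19783 D21965
theorem N21928 : nd 21928 = n21966 := ndS (p := 19784) (l := 3) rfl N19784 D21966
theorem N21929 : nd 21929 = n21967 := ndS (p := 19785) (l := 2) rfl N19785 D21967
theorem N21930 : nd 21930 = n21968 := ndS (p := 19785) (l := 5) rfl N19785 D21968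
theorem N21931 : nd 21931 = n21969 := ndS (p := 19787) (l := 5) rfl N19787 D21969
theorem N21932 : nd 21932 = n21970 := ndS (p := 19789) (l := 0) rfl N19789 D21970
theorem N21933 : nd 21933 = n21971 := ndS (p := 19789) (l := 3) rfl N19789 D21971
theorem N21934 : nd 21934 = n21972 := ndS (p := 19789) (l := 5) rfl N19789 D21972
theorem N21935 : nd 21935 = n21973 := ndS (p := 19791) (l := 4) rfl N19791 D21973
theorem N21936 : nd 21936 = n21974 := ndS (p := 19793) (l := 3) rfl N19793 D21974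
theorem N21937 : nd 21937 = n21975 := ndS (p := 19796) (l := 3) rfl N19796 D21975
theorem N21938 : nd 21938 = n21976 := ndS (p := 19801) (l := 2) rfl N19801 D21976
theorem N21939 : nd 21939 = n21977 := ndS (p := 19802) (l := 1) rfl N19802 D21977
theorem N21940 : nd 21940 = n21978 := ndS (p := 19803) (l := 3) rfl N19803 D21978
theorem N21941 : nd 21941 = n21979 := ndS (p := 19803) (l := 4) rfl N19803 D21979
theorem N21942 : nd 21942 = n21980 := ndS (p := 19805) (l := 3) rfl N19805 D21980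
theorem N21943 : nd 21943 = n21981 := ndS (p := 19805) (l := 5) rfl N19805 D21981
theorem N21944 : nd 21944 = n21982 := ndS (p := 19807) (l := 2) rfl N19807 D21982
theorem N21945 : nd 21945 = n21983 := ndS (p := 19807) (l := 5) rfl N19807 D21983
theorem N21946 : nd 21946 = n21984 := ndS (p := 19810) (l := 4) rfl N19810 D21984
theorem N21947 : nd 21947 = n21985 := ndS (p := 19811) (l := 4) rfl N19811 D21985
theorem N21948 : nd 21948 = n21986 := ndS (p := 19812) (l := 3) rfl N19812 D21986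
theorem N21949 : nd 21949 = n21987 := ndS (p := 19812) (l := 5) rfl N19812 D21987
theorem N21950 : nd 21950 = n21988 := ndS (p := 19813) (l := 4) rfl N19813 D21988
theorem N21951 : nd 21951 = n21989 := ndS (p := 19814) (l := 3) rfl N19814 D21989
theorem N21952 : nd 21952 = n21990 := ndS (p := 19814) (l := 5) rfl N19814 D21990
theorem N21953 : nd 21953 = n21991 := ndS (p := 19815) (l := 5) rfl N19815 D21991
theorem N21954 : nd 21954 = n21992 := ndS (p := 19816) (l := 4) rfl N19816 D21992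
theorem N21955 : nd 21955 = n21993 := ndS (p := 19817) (l := 3) rfl N19817 D21993
theorem N21956 : nd 21956 = n21994 := ndS (p := 19820) (l := 3) rfl N19820 D21994
theorem N21957 : nd 21957 = n21995 := ndS (p := 19820) (l := 5) rfl N19820 D21995
theorem N21958 : nd 21958 = n21996 := ndS (p := 19821) (l := 3) rfl N19821 D21996
theorem N21959 : nd 21959 = n21997 := ndS (p := 19821) (l := 5) rfl N19821 D21997
theorem N21960 : nd 21960 = n21998 := ndS (p := 19822) (l := 2) rfl N19822 D21998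
theorem N21961 : nd 21961 = n21999 := ndS (p := 19822) (l := 5) rfl N19822 D21999
theorem N21962 : nd 21962 = n22000 := ndS (p := 19825) (l := 2) rfl N19825 D22000
theorem N21963 : nd 21963 = n22001 := ndS (p := 19825) (l := 5) rfl N19825 D22001
theorem N21964 : nd 21964 = n22002 := ndS (p := 19826) (l := 4) rfl N19826 D22002
theorem N21965 : nd 21965 = n22003 := ndS (p := 19827) (l := 3) rfl N19827 D22003
theorem N21966 : nd 21966 = n22004 := ndS (p := 19828) (l := 1) rfl N19828 D22004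
theorem N21967 : nd 21967 = n22005 := ndS (p := 19828) (l := 5) rfl N19828 D22005
theorem N21968 : nd 21968 = n22006 := ndS (p := 19829) (l := 4) rfl N19829 D22006
theorem N21969 : nd 21969 = n22007 := ndS (p := 19830) (l := 3) rfl N19830 D22007
theorem N21970 : nd 21970 = n22008 := ndS (p := 19831) (l := 2) rfl N19831 D22008
theorem N21971 : nd 21971 = n22009 := ndS (p := 19834) (l := 2) rfl N19834 D22009
theorem N21972 : nd 21972 = n22010 := ndS (p := 19836) (l := 3) rfl N19836 D22010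
theorem N21973 : nd 21973 = n22011 := ndS (p := 19837) (l := 3) rfl N19837 D22011
theorem N21974 : nd 21974 = n22012 := ndS (p := 19837) (l := 5) rfl N19837 D22012
theorem N21975 : nd 21975 = n22013 := ndS (p := 19838) (l := 2) rfl N19838 D22013
theorem N21976 : nd 21976 = n22014 := ndS (p := 19839) (l := 2) rfl N19839 D22014
theorem N21977 : nd 21977 = n22015 := ndS (p := 19841) (l := 1) rfl N19841 D22015
theorem N21978 : nd 21978 = n22016 := ndS (p := 19842) (l := 3) rfl N19842 D22016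
theorem N21979 : nd 21979 = n22017 := ndS (p := 19842) (l := 5) rfl N19842 D22017
theorem N21980 : nd 21980 = n22018 := ndS (p := 19843) (l := 5) rfl N19843 D22018
theorem N21981 : nd 21981 = n22019 := ndS (p := 19845) (l := 3) rfl N19845 D22019
theorem N21982 : nd 21982 = n22020 := ndS (p := 19846) (l := 0) rfl N19846 D22020
theorem N21983 : nd 21983 = n22021 := ndS (p := 19846) (l := 3) rfl N19846 D22021
theorem N21984 : nd 21984 = n22022 := ndS (p := 19847) (l := 4) rfl N19847 D22022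
theorem N21985 : nd 21985 = n22023 := ndS (p := 19849) (l := 4) rfl N19849 D22023
theorem N21986 : nd 21986 = n22024 := ndS (p := 19852) (l := 4) rfl N19852 D22024
theorem N21987 : nd 21987 = n22025 := ndS (p := 19855) (l := 2) rfl N19855 D22025
theorem N21988 : nd 21988 = n22026 := ndS (p := 19855) (l := 5) rfl N19855 D22026
theorem N21989 : nd 21989 = n22027 := ndS (p := 19857) (l := 1) rfl N19857 D22027
theorem N21990 : nd 21990 = n22028 := ndS (p := 19857) (l := 3) rfl N19857 D22028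
theorem N21991 : nd 21991 = n22029 := ndS (p := 19857) (l := 5) rfl N19857 D22029
theorem N21992 : nd 21992 = n22030 := ndS (p := 19858) (l := 4) rfl N19858 D22030
theorem N21993 : nd 21993 = n22031 := ndS (p := 19859) (l := 5) rfl N19859 D22031
theorem N21994 : nd 21994 = n22032 := ndS (p := 19860) (l := 4) rfl N19860 D22032
theorem N21995 : nd 21995 = n22033 := ndS (p := 19863) (l := 3) rfl N19863 D22033
theorem N21996 : nd 21996 = n22034 := ndS (p := 19863) (l := 5) rfl N19863 D22034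
theorem N21997 : nd 21997 = n22035 := ndS (p := 19864) (l := 2) rfl N19864 D22035
theorem N21998 : nd 21998 = n22036 := ndS (p := 19866) (l := 1) rfl N19866 D22036
theorem N21999 : nd 21999 = n22037 := ndS (p := 19867) (l := 5) rfl N19867 D22037
theorem N22000 : nd 22000 = n22038 := ndS (p := 19868) (l := 2) rfl N19868 D22038
theorem N22001 : nd 22001 = n22039 := ndS (p := 19868) (l := 5) rfl N19868 D22039
theorem N22002 : nd 22002 = n22040 := ndS (p := 19870) (l := 1) rfl N19870 D22040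
theorem N22003 : nd 22003 = n22041 := ndS (p := 19870) (l := 3) rfl N19870 D22041
theorem N22004 : nd 22004 = n22042 := ndS (p := 19870) (l := 5) rfl N19870 D22042
theorem N22005 : nd 22005 = n22043 := ndS (p := 19872) (l := 0) rfl N19872 D22043
theorem N22006 : nd 22006 = n22044 := ndS (p := 19875) (l := 3) rfl N19875 D22044
theorem N22007 : nd 22007 = n22045 := ndS (p := 19881) (l := 2) rfl N19881 D22045
theorem N22008 : nd 22008 = n22046 := ndS (p := 19882) (l := 1) rfl N19882 D22046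
theorem N22009 : nd 22009 = n22047 := ndS (p := 19882) (l := 3) rfl N19882 D22047
theorem N22010 : nd 22010 = n22048 := ndS (p := 19883) (l := 0) rfl N19883 D22048
theorem N22011 : nd 22011 = n22049 := ndS (p := 19884) (l := 2) rfl N19884 D22049
theorem N22012 : nd 22012 = n22050 := ndS (p := 19885) (l := 2) rfl N19885 D22050
theorem N22013 : nd 22013 = n22051 := ndS (p := 19885) (l := 5) rfl N19885 D22051
theorem N22014 : nd 22014 = n22052 := ndS (p := 19887) (l := 1) rfl N19887 D22052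
theorem N22015 : nd 22015 = n22053 := ndS (p := 19887) (l := 3) rfl N19887 D22053
theorem N22016 : nd 22016 = n22054 := ndS (p := 19887) (l := 5) rfl N19887 D22054
theorem N22017 : nd 22017 = n22055 := ndS (p := 19888) (l := 4) rfl N19888 D22055
theorem N22018 : nd 22018 = n22056 := ndS (p := 19889) (l := 1) rfl N19889 D22056
theorem N22019 : nd 22019 = n22057 := ndS (p := 19889) (l := 3) rfl N19889 D22057
theorem N22020 : nd 22020 = n22058 := ndS (p := 19889) (l := 5) rfl N19889 D22058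
theorem N22021 : nd 22021 = n22059 := ndS (p := 19891) (l := 0) rfl N19891 D22059
theorem N22022 : nd 22022 = n22060 := ndS (p := 19891) (l := 3) rfl N19891 D22060
theorem N22023 : nd 22023 = n22061 := ndS (p := 19891) (l := 5) rfl N19891 D22061
theorem N22024 : nd 22024 = n22062 := ndS (p := 19892) (l := 4) rfl N19892 D22062
theorem N22025 : nd 22025 = n22063 := ndS (p := 19893) (l := 4) rfl N19893 D22063
theorem N22026 : nd 22026 = n22064 := ndS (p := 19900) (l := 2) rfl N19900 D22064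
theorem N22027 : nd 22027 = n22065 := ndS (p := 19900) (l := 4) rfl N19900 D22065
theorem N22028 : nd 22028 = n22066 := ndS (p := 19902) (l := 4) rfl N19902 D22066
theorem N22029 : nd 22029 = n22067 := ndS (p := 19903) (l := 5) rfl N19903 D22067
theorem N22030 : nd 22030 = n22068 := ndS (p := 19904) (l := 0) rfl N19904 D22068
theorem N22031 : nd 22031 = n22069 := ndS (p := 19904) (l := 4) rfl N19904 D22069
theorem N22032 : nd 22032 = n22070 := ndS (p := 19905) (l := 3) rfl N19905 D22070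
theorem N22033 : nd 22033 = n22071 := ndS (p := 19905) (l := 5) rfl N19905 D22071
theorem N22034 : nd 22034 = n22072 := ndS (p := 19908) (l := 5) rfl N19908 D22072
theorem N22035 : nd 22035 = n22073 := ndS (p := 19914) (l := 2) rfl N19914 D22073
theorem N22036 : nd 22036 = n22074 := ndS (p := 19916) (l := 1) rfl N19916 D22074
theorem N22037 : nd 22037 = n22075 := ndS (p := 19917) (l := 1) rfl N19917 D22075
theorem N22038 : nd 22038 = n22076 := ndS (p := 19918) (l := 0) rfl N19918 D22076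
theorem N22039 : nd 22039 = n22077 := ndS (p := 19918) (l := 3) rfl N19918 D22077
theorem N22040 : nd 22040 = n22078 := ndS (p := 19920) (l := 0) rfl N19920 D22078
theorem N22041 : nd 22041 = n22079 := ndS (p := 19920) (l := 3) rfl N19920 D22079
theorem N22042 : nd 22042 = n22080 := ndS (p := 19920) (l := 5) rfl N19920 D22080
theorem N22043 : nd 22043 = n22081 := ndS (p := 19922) (l := 4) rfl N19922 D22081
theorem N22044 : nd 22044 = n22082 := ndS (p := 19926) (l := 3) rfl N19926 D22082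
theorem N22045 : nd 22045 = n22083 := ndS (p := 19927) (l := 2) rfl N19927 D22083
theorem N22046 : nd 22046 = n22084 := ndS (p := 19927) (l := 5) rfl N19927 D22084
theorem N22047 : nd 22047 = n22085 := ndS (p := 19931) (l := 2) rfl N19931 D22085
theorem N22048 : nd 22048 = n22086 := ndS (p := 19932) (l := 4) rfl N19932 D22086
theorem N22049 : nd 22049 = n22087 := ndS (p := 19940) (l := 2) rfl N19940 D22087
theorem N22050 : nd 22050 = n22088 := ndS (p := 19942) (l := 4) rfl N19942 D22088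
theorem N22051 : nd 22051 = n22089 := ndS (p := 19944) (l := 1) rfl N19944 D22089
theorem N22052 : nd 22052 = n22090 := ndS (p := 19944) (l := 4) rfl N19944 D22090
theorem N22053 : nd 22053 = n22091 := ndS (p := 19945) (l := 5) rfl N19945 D22091
theorem N22054 : nd 22054 = n22092 := ndS (p := 19947) (l := 0) rfl N19947 D22092
theorem N22055 : nd 22055 = n22093 := ndS (p := 19947) (l := 4) rfl N19947 D22093
theorem N22056 : nd 22056 = n22094 := ndS (p := 19948) (l := 3) rfl N19948 D22094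
theorem N22057 : nd 22057 = n22095 := ndS (p := 19948) (l := 5) rfl N19948 D22095
theorem N22058 : nd 22058 = n22096 := ndS (p := 19952) (l := 3) rfl N19952 D22096
theorem N22059 : nd 22059 = n22097 := ndS (p := 19957) (l := 4) rfl N19957 D22097
theorem N22060 : nd 22060 = n22098 := ndS (p := 19961) (l := 3) rfl N19961 D22098
theorem N22061 : nd 22061 = n22099 := ndS (p := 19961) (l := 4) rfl N19961 D22099
theorem N22062 : nd 22062 = n22100 := ndS (p := 19962) (l := 5) rfl N19962 D22100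
theorem N22063 : nd 22063 = n22101 := ndS (p := 19965) (l := 1) rfl N19965 D22101
theorem N22064 : nd 22064 = n22102 := ndS (p := 19965) (l := 3) rfl N19965 D22102
theorem N22065 : nd 22065 = n22103 := ndS (p := 19965) (l := 5) rfl N19965 D22103
theorem N22066 : nd 22066 = n22104 := ndS (p := 19966) (l := 4) rfl N19966 D22104
theorem N22067 : nd 22067 = n22105 := ndS (p := 19967) (l := 0) rfl N19967 D22105
theorem N22068 : nd 22068 = n22106 := ndS (p := 19967) (l := 3) rfl N19967 D22106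
theorem N22069 : nd 22069 = n22107 := ndS (p := 19968) (l := 4) rfl N19968 D22107
theorem N22070 : nd 22070 = n22108 := ndS (p := 19968) (l := 5) rfl N19968 D22108
theorem N22071 : nd 22071 = n22109 := ndS (p := 19969) (l := 4) rfl N19969 D22109
theorem N22072 : nd 22072 = n22110 := ndS (p := 19971) (l := 0) rfl N19971 D22110
theorem N22073 : nd 22073 = n22111 := ndS (p := 19971) (l := 3) rfl N19971 D22111
theorem N22074 : nd 22074 = n22112 := ndS (p := 19971) (l := 5) rfl N19971 D22112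
theorem N22075 : nd 22075 = n22113 := ndS (p := 19972) (l := 2) rfl N19972 D22113
theorem N22076 : nd 22076 = n22114 := ndS (p := 19976) (l := 1) rfl N19976 D22114
theorem N22077 : nd 22077 = n22115 := ndS (p := 19976) (l := 3) rfl N19976 D22115
theorem N22078 : nd 22078 = n22116 := ndS (p := 19976) (l := 5) rfl N19976 D22116
theorem N22079 : nd 22079 = n22117 := ndS (p := 19977) (l := 4) rfl N19977 D22117
theorem N22080 : nd 22080 = n22118 := ndS (p := 19978) (l := 0) rfl N19978 D22118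
theorem N22081 : nd 22081 = n22119 := ndS (p := 19978) (l := 5) rfl N19978 D22119
theorem N22082 : nd 22082 = n22120 := ndS (p := 19980) (l := 4) rfl N19980 D22120
theorem N22083 : nd 22083 = n22121 := ndS (p := 19983) (l := 4) rfl N19983 D22121
theorem N22084 : nd 22084 = n22122 := ndS (p := 19987) (l := 3) rfl N19987 D22122
theorem N22085 : nd 22085 = n22123 := ndS (p := 19988) (l := 2) rfl N19988 D22123
theorem N22086 : nd 22086 = n22124 := ndS (p := 19988) (l := 4) rfl N19988 D22124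
theorem N22087 : nd 22087 = n22125 := ndS (p := 19990) (l := 3) rfl N19990 D22125
theorem N22088 : nd 22088 = n22126 := ndS (p := 19994) (l := 2) rfl N19994 D22126
theorem N22089 : nd 22089 = n22127 := ndS (p := 19995) (l := 1) rfl N19995 D22127
theorem N22090 : nd 22090 = n22128 := ndS (p := 19995) (l := 4) rfl N19995 D22128
theorem N22091 : nd 22091 = n22129 := ndS (p := 19998) (l := 4) rfl N19998 D22129
theorem N22092 : nd 22092 = n22130 := ndS (p := 19999) (l := 3) rfl N19999 D22130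
theorem N22093 : nd 22093 = n22131 := ndS (p := 19999) (l := 5) rfl N19999 D22131
theorem N22094 : nd 22094 = n22132 := ndS (p := 20001) (l := 2) rfl N20001 D22132
theorem N22095 : nd 22095 = n22133 := ndS (p := 20002) (l := 1) rfl N20002 D22133
theorem N22096 : nd 22096 = n22134 := ndS (p := 20002) (l := 3) rfl N20002 D22134
theorem N22097 : nd 22097 = n22135 := ndS (p := 20003) (l := 1) rfl N20003 D22135
theorem N22098 : nd 22098 = n22136 := ndS (p := 20003) (l := 3) rfl N20003 D22136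
theorem N22099 : nd 22099 = n22137 := ndS (p := 20005) (l := 2) rfl N20005 D22137
theorem N22100 : nd 22100 = n22138 := ndS (p := 20007) (l := 3) rfl N20007 D22138
theorem N22101 : nd 22101 = n22139 := ndS (p := 20008) (l := 2) rfl N20008 D22139
theorem N22102 : nd 22102 = n22140 := ndS (p := 20009) (l := 4) rfl N20009 D22140
theorem N22103 : nd 22103 = n22141 := ndS (p := 20013) (l := 2) rfl N20013 D22141
theorem N22104 : nd 22104 = n22142 := ndS (p := 20013) (l := 4) rfl N20013 D22142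
theorem N22105 : nd 22105 = n22143 := ndS (p := 20014) (l := 3) rfl N20014 D22143
theorem N22106 : nd 22106 = n22144 := ndS (p := 20014) (l := 4) rfl N20014 D22144
theorem N22107 : nd 22107 = n22145 := ndS (p := 20015) (l := 5) rfl N20015 D22145
theorem N22108 : nd 22108 = n22146 := ndS (p := 20022) (l := 2) rfl N20022 D22146
theorem N22109 : nd 22109 = n22147 := ndS (p := 20025) (l := 4) rfl N20025 D22147
theorem N22110 : nd 22110 = n22148 := ndS (p := 20028) (l := 3) rfl N20028 D22148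
theorem N22111 : nd 22111 = n22149 := ndS (p := 20031) (l := 2) rfl N20031 D22149
theorem N22112 : nd 22112 = n22150 := ndS (p := 20035) (l := 2) rfl N20035 D22150
theorem N22113 : nd 22113 = n22151 := ndS (p := 20035) (l := 5) rfl N20035 D22151
theorem N22114 : nd 22114 = n22152 := ndS (p := 20037) (l := 1) rfl N20037 D22152
theorem N22115 : nd 22115 = n22153 := ndS (p := 20037) (l := 3) rfl N20037 D22153
theorem N22116 : nd 22116 = n22154 := ndS (p := 20037) (l := 4) rfl N20037 D22154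
theorem N22117 : nd 22117 = n22155 := ndS (p := 20037) (l := 5) rfl N20037 D22155
theorem N22118 : nd 22118 = n22156 := ndS (p := 20038) (l := 5) rfl N20038 D22156
theorem N22119 : nd 22119 = n22157 := ndS (p := 20039) (l := 4) rfl N20039 D22157
theorem N22120 : nd 22120 = n22158 := ndS (p := 20040) (l := 3) rfl N20040 D22158
theorem N22121 : nd 22121 = n22159 := ndS (p := 20041) (l := 0) rfl N20041 D22159
theorem N22122 : nd 22122 = n22160 := ndS (p := 20043) (l := 4) rfl N20043 D22160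
theorem N22123 : nd 22123 = n22161 := ndS (p := 20044) (l := 3) rfl N20044 D22161
theorem N22124 : nd 22124 = n22162 := ndS (p := 20045) (l := 2) rfl N20045 D22162
theorem N22125 : nd 22125 = n22163 := ndS (p := 20046) (l := 3) rfl N20046 D22163
theorem N22126 : nd 22126 = n22164 := ndS (p := 20048) (l := 2) rfl N20048 D22164
theorem N22127 : nd 22127 = n22165 := ndS (p := 20049) (l := 1) rfl N20049 D22165
theorem N22128 : nd 22128 = n22166 := ndS (p := 20049) (l := 3) rfl N20049 D22166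
theorem N22129 : nd 22129 = n22167 := ndS (p := 20051) (l := 2) rfl N20051 D22167
theorem N22130 : nd 22130 = n22168 := ndS (p := 20055) (l := 5) rfl N20055 D22168
theorem N22131 : nd 22131 = n22169 := ndS (p := 20057) (l := 2) rfl N20057 D22169
theorem N22132 : nd 22132 = n22170 := ndS (p := 20057) (l := 5) rfl N20057 D22170
theorem N22133 : nd 22133 = n22171 := ndS (p := 20059) (l := 1) rfl N20059 D22171
theorem N22134 : nd 22134 = n22172 := ndS (p := 20059) (l := 5) rfl N20059 D22172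
theorem N22135 : nd 22135 = n22173 := ndS (p := 20060) (l := 4) rfl N20060 D22173
theorem N22136 : nd 22136 = n22174 := ndS (p := 20061) (l := 0) rfl N20061 D22174
theorem N22137 : nd 22137 = n22175 := ndS (p := 20064) (l := 2) rfl N20064 D22175
theorem N22138 : nd 22138 = n22176 := ndS (p := 20064) (l := 4) rfl N20064 D22176
theorem N22139 : nd 22139 = n22177 := ndS (p := 20065) (l := 4) rfl N20065 D22177
theorem N22140 : nd 22140 = n22178 := ndS (p := 20066) (l := 4) rfl N20066 D22178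
theorem N22141 : nd 22141 = n22179 := ndS (p := 20067) (l := 5) rfl N20067 D22179
theorem N22142 : nd 22142 = n22180 := ndS (p := 20068) (l := 3) rfl N20068 D22180
theorem N22143 : nd 22143 = n22181 := ndS (p := 20071) (l := 4) rfl N20071 D22181
theorem N22144 : nd 22144 = n22182 := ndS (p := 20072) (l := 0) rfl N20072 D22182
theorem N22145 : nd 22145 = n22183 := ndS (p := 20072) (l := 4) rfl N20072 D22183
theorem N22146 : nd 22146 = n22184 := ndS (p := 20073) (l := 3) rfl N20073 D22184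
theorem N22147 : nd 22147 = n22185 := ndS (p := 20073) (l := 5) rfl N20073 D22185
theorem N22148 : nd 22148 = n22186 := ndS (p := 20074) (l := 4) rfl N20074 D22186
theorem N22149 : nd 22149 = n22187 := ndS (p := 20075) (l := 4) rfl N20075 D22187
theorem N22150 : nd 22150 = n22188 := ndS (p := 20077) (l := 4) rfl N20077 D22188
theorem N22151 : nd 22151 = n22189 := ndS (p := 20078) (l := 3) rfl N20078 D22189
theorem N22152 : nd 22152 = n22190 := ndS (p := 20078) (l := 5) rfl N20078 D22190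
theorem N22153 : nd 22153 = n22191 := ndS (p := 20084) (l := 4) rfl N20084 D22191
theorem N22154 : nd 22154 = n22192 := ndS (p := 20085) (l := 5) rfl N20085 D22192
theorem N22155 : nd 22155 = n22193 := ndS (p := 20089) (l := 4) rfl N20089 D22193
theorem N22156 : nd 22156 = n22194 := ndS (p := 20090) (l := 5) rfl N20090 D22194
theorem N22157 : nd 22157 = n22195 := ndS (p := 20095) (l := 4) rfl N20095 D22195
theorem N22158 : nd 22158 = n22196 := ndS (p := 20097) (l := 4) rfl N20097 D22196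
theorem N22159 : nd 22159 = n22197 := ndS (p := 20098) (l := 3) rfl N20098 D22197
theorem N22160 : nd 22160 = n22198 := ndS (p := 20098) (l := 5) rfl N20098 D22198
theorem N22161 : nd 22161 = n22199 := ndS (p := 20101) (l := 5) rfl N20101 D22199
theorem N22162 : nd 22162 = n22200 := ndS (p := 20105) (l := 4) rfl N20105 D22200
theorem N22163 : nd 22163 = n22201 := ndS (p := 20110) (l := 2) rfl N20110 D22201
theorem N22164 : nd 22164 = n22202 := ndS (p := 20114) (l := 5) rfl N20114 D22202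
theorem N22165 : nd 22165 = n22203 := ndS (p := 20115) (l := 4) rfl N20115 D22203
theorem N22166 : nd 22166 = n22204 := ndS (p := 20116) (l := 3) rfl N20116 D22204
theorem N22167 : nd 22167 = n22205 := ndS (p := 20116) (l := 5) rfl N20116 D22205
theorem N22168 : nd 22168 = n22206 := ndS (p := 20118) (l := 3) rfl N20118 D22206
theorem N22169 : nd 22169 = n22207 := ndS (p := 20118) (l := 5) rfl N20118 D22207
theorem N22170 : nd 22170 = n22208 := ndS (p := 20119) (l := 2) rfl N20119 D22208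
theorem N22171 : nd 22171 = n22209 := ndS (p := 20123) (l := 1) rfl N20123 D22209
theorem N22172 : nd 22172 = n22210 := ndS (p := 20123) (l := 5) rfl N20123 D22210
theorem N22173 : nd 22173 = n22211 := ndS (p := 20124) (l := 4) rfl N20124 D22211
theorem N22174 : nd 22174 = n22212 := ndS (p := 20125) (l := 0) rfl N20125 D22212
theorem N22175 : nd 22175 = n22213 := ndS (p := 20125) (l := 3) rfl N20125 D22213
theorem N22176 : nd 22176 = n22214 := ndS (p := 20126) (l := 4) rfl N20126 D22214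
theorem N22177 : nd 22177 = n22215 := ndS (p := 20126) (l := 5) rfl N20126 D22215
theorem N22178 : nd 22178 = n22216 := ndS (p := 20127) (l := 4) rfl N20127 D22216
theorem N22179 : nd 22179 = n22217 := ndS (p := 20130) (l := 1) rfl N20130 D22217
theorem N22180 : nd 22180 = n22218 := ndS (p := 20130) (l := 4) rfl N20130 D22218
theorem N22181 : nd 22181 = n22219 := ndS (p := 20131) (l := 5) rfl N20131 D22219
theorem N22182 : nd 22182 = n22220 := ndS (p := 20132) (l := 3) rfl N20132 D22220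
theorem N22183 : nd 22183 = n22221 := ndS (p := 20133) (l := 4) rfl N20133 D22221
theorem N22184 : nd 22184 = n22222 := ndS (p := 20134) (l := 3) rfl N20134 D22222
theorem N22185 : nd 22185 = n22223 := ndS (p := 20134) (l := 5) rfl N20134 D22223
theorem N22186 : nd 22186 = n22224 := ndS (p := 20136) (l := 2) rfl N20136 D22224
theorem N22187 : nd 22187 = n22225 := ndS (p := 20137) (l := 4) rfl N20137 D22225
theorem N22188 : nd 22188 = n22226 := ndS (p := 20138) (l := 3) rfl N20138 D22226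
theorem N22189 : nd 22189 = n22227 := ndS (p := 20138) (l := 5) rfl N20138 D22227
theorem N22190 : nd 22190 = n22228 := ndS (p := 20139) (l := 4) rfl N20139 D22228
theorem N22191 : nd 22191 = n22229 := ndS (p := 20140) (l := 4) rfl N20140 D22229
theorem N22192 : nd 22192 = n22230 := ndS (p := 20142) (l := 4) rfl N20142 D22230
theorem N22193 : nd 22193 = n22231 := ndS (p := 20143) (l := 4) rfl N20143 D22231
theorem N22194 : nd 22194 = n22232 := ndS (p := 20144) (l := 3) rfl N20144 D22232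
theorem N22195 : nd 22195 = n22233 := ndS (p := 20144) (l := 5) rfl N20144 D22233
theorem N22196 : nd 22196 = n22234 := ndS (p := 20145) (l := 3) rfl N20145 D22234
theorem N22197 : nd 22197 = n22235 := ndS (p := 20145) (l := 5) rfl N20145 D22235
theorem N22198 : nd 22198 = n22236 := ndS (p := 20146) (l := 4) rfl N20146 D22236
theorem N22199 : nd 22199 = n22237 := ndS (p := 20147) (l := 2) rfl N20147 D22237
theorem N22200 : nd 22200 = n22238 := ndS (p := 20147) (l := 5) rfl N20147 D22238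
theorem N22201 : nd 22201 = n22239 := ndS (p := 20148) (l := 4) rfl N20148 D22239
theorem N22202 : nd 22202 = n22240 := ndS (p := 20149) (l := 3) rfl N20149 D22240
theorem N22203 : nd 22203 = n22241 := ndS (p := 20151) (l := 3) rfl N20151 D22241
theorem N22204 : nd 22204 = n22242 := ndS (p := 20151) (l := 5) rfl N20151 D22242
theorem N22205 : nd 22205 = n22243 := ndS (p := 20154) (l := 0) rfl N20154 D22243
theorem N22206 : nd 22206 = n22244 := ndS (p := 20155) (l := 1) rfl N20155 D22244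
theorem N22207 : nd 22207 = n22245 := ndS (p := 20155) (l := 3) rfl N20155 D22245
theorem N22208 : nd 22208 = n22246 := ndS (p := 20157) (l := 3) rfl N20157 D22246
theorem N22209 : nd 22209 = n22247 := ndS (p := 20158) (l := 2) rfl N20158 D22247
theorem N22210 : nd 22210 = n22248 := ndS (p := 20159) (l := 4) rfl N20159 D22248
theorem N22211 : nd 22211 = n22249 := ndS (p := 20162) (l := 3) rfl N20162 D22249
theorem N22212 : nd 22212 = n22250 := ndS (p := 20163) (l := 2) rfl N20163 D22250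
theorem N22213 : nd 22213 = n22251 := ndS (p := 20166) (l := 1) rfl N20166 D22251
theorem N22214 : nd 22214 = n22252 := ndS (p := 20166) (l := 3) rfl N20166 D22252
theorem N22215 : nd 22215 = n22253 := ndS (p := 20169) (l := 4) rfl N20169 D22253
theorem N22216 : nd 22216 = n22254 := ndS (p := 20173) (l := 3) rfl N20173 D22254
theorem N22217 : nd 22217 = n22255 := ndS (p := 20176) (l := 2) rfl N20176 D22255
theorem N22218 : nd 22218 = n22256 := ndS (p := 20177) (l := 3) rfl N20177 D22256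
theorem N22219 : nd 22219 = n22257 := ndS (p := 20177) (l := 4) rfl N20177 D22257
theorem N22220 : nd 22220 = n22258 := ndS (p := 20178) (l := 5) rfl N20178 D22258
theorem N22221 : nd 22221 = n22259 := ndS (p := 20182) (l := 4) rfl N20182 D22259
theorem N22222 : nd 22222 = n22260 := ndS (p := 20183) (l := 3) rfl N20183 D22260
theorem N22223 : nd 22223 = n22261 := ndS (p := 20190) (l := 3) rfl N20190 D22261
theorem N22224 : nd 22224 = n22262 := ndS (p := 20191) (l := 3) rfl N20191 D22262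
theorem N22225 : nd 22225 = n22263 := ndS (p := 20192) (l := 2) rfl N20192 D22263
theorem N22226 : nd 22226 = n22264 := ndS (p := 20198) (l := 2) rfl N20198 D22264
theorem N22227 : nd 22227 = n22265 := ndS (p := 20199) (l := 5) rfl N20199 D22265
theorem N22228 : nd 22228 = n22266 := ndS (p := 20204) (l := 5) rfl N20204 D22266
theorem N22229 : nd 22229 = n22267 := ndS (p := 20207) (l := 4) rfl N20207 D22267
theorem N22230 : nd 22230 = n22268 := ndS (p := 20208) (l := 5) rfl N20208 D22268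
theorem N22231 : nd 22231 = n22269 := ndS (p := 20209) (l := 4) rfl N20209 D22269
theorem N22232 : nd 22232 = n22270 := ndS (p := 20210) (l := 3) rfl N20210 D22270
theorem N22233 : nd 22233 = n22271 := ndS (p := 20210) (l := 5) rfl N20210 D22271
theorem N22234 : nd 22234 = n22272 := ndS (p := 20215) (l := 4) rfl N20215 D22272
theorem N22235 : nd 22235 = n22273 := ndS (p := 20216) (l := 3) rfl N20216 D22273
theorem N22236 : nd 22236 = n22274 := ndS (p := 20216) (l := 5) rfl N20216 D22274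
theorem N22237 : nd 22237 = n22275 := ndS (p := 20217) (l := 2) rfl N20217 D22275
theorem N22238 : nd 22238 = n22276 := ndS (p := 20217) (l := 5) rfl N20217 D22276
theorem N22239 : nd 22239 = n22277 := ndS (p := 20219) (l := 5) rfl N20219 D22277
theorem N22240 : nd 22240 = n22278 := ndS (p := 20224) (l := 1) rfl N20224 D22278
theorem N22241 : nd 22241 = n22279 := ndS (p := 20225) (l := 0) rfl N20225 D22279
theorem N22242 : nd 22242 = n22280 := ndS (p := 20225) (l := 3) rfl N20225 D22280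
theorem N22243 : nd 22243 = n22281 := ndS (p := 20227) (l := 4) rfl N20227 D22281
theorem N22244 : nd 22244 = n22282 := ndS (p := 20228) (l := 5) rfl N20228 D22282
theorem N22245 : nd 22245 = n22283 := ndS (p := 20230) (l := 3) rfl N20230 D22283
theorem N22246 : nd 22246 = n22284 := ndS (p := 20230) (l := 5) rfl N20230 D22284
theorem N22247 : nd 22247 = n22285 := ndS (p := 20233) (l := 2) rfl N20233 D22285
theorem N22248 : nd 22248 = n22286 := ndS (p := 20234) (l := 4) rfl N20234 D22286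
theorem N22249 : nd 22249 = n22287 := ndS (p := 20235) (l := 4) rfl N20235 D22287
theorem N22250 : nd 22250 = n22288 := ndS (p := 20236) (l := 3) rfl N20236 D22288
theorem N22251 : nd 22251 = n22289 := ndS (p := 20236) (l := 5) rfl N20236 D22289
theorem N22252 : nd 22252 = n22290 := ndS (p := 20239) (l := 4) rfl N20239 D22290
theorem N22253 : nd 22253 = n22291 := ndS (p := 20240) (l := 3) rfl N20240 D22291
theorem N22254 : nd 22254 = n22292 := ndS (p := 20240) (l := 5) rfl N20240 D22292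
theorem N22255 : nd 22255 = n22293 := ndS (p := 20241) (l := 2) rfl N20241 D22293
theorem N22256 : nd 22256 = n22294 := ndS (p := 20241) (l := 5) rfl N20241 D22294
theorem N22257 : nd 22257 = n22295 := ndS (p := 20243) (l := 1) rfl N20243 D22295
theorem N22258 : nd 22258 = n22296 := ndS (p := 20244) (l := 0) rfl N20244 D22296
theorem N22259 : nd 22259 = n22297 := ndS (p := 20246) (l := 4) rfl N20246 D22297
theorem N22260 : nd 22260 = n22298 := ndS (p := 20257) (l := 3) rfl N20257 D22298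
theorem N22261 : nd 22261 = n22299 := ndS (p := 20258) (l := 2) rfl N20258 D22299
theorem N22262 : nd 22262 = n22300 := ndS (p := 20259) (l := 3) rfl N20259 D22300
theorem N22263 : nd 22263 = n22301 := ndS (p := 20259) (l := 5) rfl N20259 D22301
theorem N22264 : nd 22264 = n22302 := ndS (p := 20260) (l := 2) rfl N20260 D22302
theorem N22265 : nd 22265 = n22303 := ndS (p := 20262) (l := 3) rfl N20262 D22303
theorem N22266 : nd 22266 = n22304 := ndS (p := 20262) (l := 5) rfl N20262 D22304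
theorem N22267 : nd 22267 = n22305 := ndS (p := 20263) (l := 2) rfl N20263 D22305
theorem N22268 : nd 22268 = n22306 := ndS (p := 20263) (l := 5) rfl N20263 D22306
theorem N22269 : nd 22269 = n22307 := ndS (p := 20267) (l := 3) rfl N20267 D22307
theorem N22270 : nd 22270 = n22308 := ndS (p := 20268) (l := 2) rfl N20268 D22308
theorem N22271 : nd 22271 = n22309 := ndS (p := 20269) (l := 2) rfl N20269 D22309
theorem N22272 : nd 22272 = n22310 := ndS (p := 20271) (l := 5) rfl N20271 D22310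
theorem N22273 : nd 22273 = n22311 := ndS (p := 20272) (l := 4) rfl N20272 D22311
theorem N22274 : nd 22274 = n22312 := ndS (p := 20274) (l := 5) rfl N20274 D22312
theorem N22275 : nd 22275 = n22313 := ndS (p := 20275) (l := 4) rfl N20275 D22313
theorem N22276 : nd 22276 = n22314 := ndS (p := 20278) (l := 3) rfl N20278 D22314
theorem N22277 : nd 22277 = n22315 := ndS (p := 20279) (l := 3) rfl N20279 D22315
theorem N22278 : nd 22278 = n22316 := ndS (p := 20279) (l := 5) rfl N20279 D22316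
theorem N22279 : nd 22279 = n22317 := ndS (p := 20280) (l := 2) rfl N20280 D22317
theorem N22280 : nd 22280 = n22318 := ndS (p := 20280) (l := 5) rfl N20280 D22318
theorem N22281 : nd 22281 = n22319 := ndS (p := 20282) (l := 1) rfl N20282 D22319
theorem N22282 : nd 22282 = n22320 := ndS (p := 20283) (l := 4) rfl N20283 D22320
theorem N22283 : nd 22283 = n22321 := ndS (p := 20284) (l := 3) rfl N20284 D22321
theorem N22284 : nd 22284 = n22322 := ndS (p := 20284) (l := 4) rfl N20284 D22322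
theorem N22285 : nd 22285 = n22323 := ndS (p := 20285) (l := 5) rfl N20285 D22323
theorem N22286 : nd 22286 = n22324 := ndS (p := 20286) (l := 3) rfl N20286 D22324
theorem N22287 : nd 22287 = n22325 := ndS (p := 20287) (l := 2) rfl N20287 D22325
theorem N22288 : nd 22288 = n22326 := ndS (p := 20287) (l := 4) rfl N20287 D22326
theorem N22289 : nd 22289 = n22327 := ndS (p := 20288) (l := 3) rfl N20288 D22327
theorem N22290 : nd 22290 = n22328 := ndS (p := 20288) (l := 5) rfl N20288 D22328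
theorem N22291 : nd 22291 = n22329 := ndS (p := 20290) (l := 2) rfl N20290 D22329
theorem N22292 : nd 22292 = n22330 := ndS (p := 20292) (l := 3) rfl N20292 D22330
theorem N22293 : nd 22293 = n22331 := ndS (p := 20294) (l := 2) rfl N20294 D22331
theorem N22294 : nd 22294 = n22332 := ndS (p := 20294) (l := 4) rfl N20294 D22332
theorem N22295 : nd 22295 = n22333 := ndS (p := 20295) (l := 3) rfl N20295 D22333
theorem N22296 : nd 22296 = n22334 := ndS (p := 20306) (l := 4) rfl N20306 D22334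
theorem N22297 : nd 22297 = n22335 := ndS (p := 20307) (l := 3) rfl N20307 D22335
theorem N22298 : nd 22298 = n22336 := ndS (p := 20307) (l := 5) rfl N20307 D22336
theorem N22299 : nd 22299 = n22337 := ndS (p := 20309) (l := 5) rfl N20309 D22337
theorem N22300 : nd 22300 = n22338 := ndS (p := 20310) (l := 5) rfl N20310 D22338
theorem N22301 : nd 22301 = n22339 := ndS (p := 20314) (l := 2) rfl N20314 D22339
theorem N22302 : nd 22302 = n22340 := ndS (p := 20318) (l := 0) rfl N20318 D22340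
theorem N22303 : nd 22303 = n22341 := ndS (p := 20318) (l := 3) rfl N20318 D22341
theorem N22304 : nd 22304 = n22342 := ndS (p := 20318) (l := 5) rfl N20318 D22342
theorem N22305 : nd 22305 = n22343 := ndS (p := 20320) (l := 4) rfl N20320 D22343
theorem N22306 : nd 22306 = n22344 := ndS (p := 20322) (l := 0) rfl N20322 D22344
theorem N22307 : nd 22307 = n22345 := ndS (p := 20323) (l := 5) rfl N20323 D22345
theorem N22308 : nd 22308 = n22346 := ndS (p := 20324) (l := 4) rfl N20324 D22346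
theorem N22309 : nd 22309 = n22347 := ndS (p := 20328) (l := 3) rfl N20328 D22347
theorem N22310 : nd 22310 = n22348 := ndS (p := 20329) (l := 2) rfl N20329 D22348
theorem N22311 : nd 22311 = n22349 := ndS (p := 20331) (l := 0) rfl N20331 D22349
theorem N22312 : nd 22312 = n22350 := ndS (p := 20335) (l := 3) rfl N20335 D22350
theorem N22313 : nd 22313 = n22351 := ndS (p := 20336) (l := 4) rfl N20336 D22351
theorem N22314 : nd 22314 = n22352 := ndS (p := 20337) (l := 4) rfl N20337 D22352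
theorem N22315 : nd 22315 = n22353 := ndS (p := 20340) (l := 3) rfl N20340 D22353
theorem N22316 : nd 22316 = n22354 := ndS (p := 20340) (l := 5) rfl N20340 D22354
theorem N22317 : nd 22317 = n22355 := ndS (p := 20341) (l := 2) rfl N20341 D22355
theorem N22318 : nd 22318 = n22356 := ndS (p := 20341) (l := 4) rfl N20341 D22356
theorem N22319 : nd 22319 = n22357 := ndS (p := 20345) (l := 4) rfl N20345 D22357
theorem N22320 : nd 22320 = n22358 := ndS (p := 20346) (l := 5) rfl N20346 D22358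
theorem N22321 : nd 22321 = n22359 := ndS (p := 20352) (l := 3) rfl N20352 D22359
theorem N22322 : nd 22322 = n22360 := ndS (p := 20355) (l := 2) rfl N20355 D22360
theorem N22323 : nd 22323 = n22361 := ndS (p := 20356) (l := 3) rfl N20356 D22361
theorem N22324 : nd 22324 = n22362 := ndS (p := 20358) (l := 4) rfl N20358 D22362
theorem N22325 : nd 22325 = n22363 := ndS (p := 20361) (l := 3) rfl N20361 D22363
theorem N22326 : nd 22326 = n22364 := ndS (p := 20362) (l := 2) rfl N20362 D22364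
theorem N22327 : nd 22327 = n22365 := ndS (p := 20363) (l := 1) rfl N20363 D22365
theorem N22328 : nd 22328 = n22366 := ndS (p := 20364) (l := 3) rfl N20364 D22366
theorem N22329 : nd 22329 = n22367 := ndS (p := 20364) (l := 4) rfl N20364 D22367
theorem N22330 : nd 22330 = n22368 := ndS (p := 20365) (l := 4) rfl N20365 D22368
theorem N22331 : nd 22331 = n22369 := ndS (p := 20366) (l := 3) rfl N20366 D22369
theorem N22332 : nd 22332 = n22370 := ndS (p := 20366) (l := 5) rfl N20366 D22370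
theorem N22333 : nd 22333 = n22371 := ndS (p := 20368) (l := 2) rfl N20368 D22371
theorem N22334 : nd 22334 = n22372 := ndS (p := 20369) (l := 3) rfl N20369 D22372
theorem N22335 : nd 22335 = n22373 := ndS (p := 20370) (l := 2) rfl N20370 D22373
theorem N22336 : nd 22336 = n22374 := ndS (p := 20370) (l := 5) rfl N20370 D22374
theorem N22337 : nd 22337 = n22375 := ndS (p := 20372) (l := 3) rfl N20372 D22375
theorem N22338 : nd 22338 = n22376 := ndS (p := 20375) (l := 4) rfl N20375 D22376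
theorem N22339 : nd 22339 = n22377 := ndS (p := 20381) (l := 2) rfl N20381 D22377
theorem N22340 : nd 22340 = n22378 := ndS (p := 20383) (l := 0) rfl N20383 D22378
theorem N22341 : nd 22341 = n22379 := ndS (p := 20383) (l := 3) rfl N20383 D22379
theorem N22342 : nd 22342 = n22380 := ndS (p := 20383) (l := 5) rfl N20383 D22380
theorem N22343 : nd 22343 = n22381 := ndS (p := 20384) (l := 4) rfl N20384 D22381
theorem N22344 : nd 22344 = n22382 := ndS (p := 20385) (l := 4) rfl N20385 D22382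
theorem N22345 : nd 22345 = n22383 := ndS (p := 20390) (l := 3) rfl N20390 D22383
theorem N22346 : nd 22346 = n22384 := ndS (p := 20397) (l := 5) rfl N20397 D22384
theorem N22347 : nd 22347 = n22385 := ndS (p := 20399) (l := 2) rfl N20399 D22385
theorem N22348 : nd 22348 = n22386 := ndS (p := 20405) (l := 3) rfl N20405 D22386
theorem N22349 : nd 22349 = n22387 := ndS (p := 20407) (l := 4) rfl N20407 D22387
theorem N22350 : nd 22350 = n22388 := ndS (p := 20408) (l := 4) rfl N20408 D22388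
theorem N22351 : nd 22351 = n22389 := ndS (p := 20409) (l := 5) rfl N20409 D22389
theorem N22352 : nd 22352 = n22390 := ndS (p := 20410) (l := 4) rfl N20410 D22390
theorem N22353 : nd 22353 = n22391 := ndS (p := 20411) (l := 3) rfl N20411 D22391
theorem N22354 : nd 22354 = n22392 := ndS (p := 20414) (l := 3) rfl N20414 D22392
theorem N22355 : nd 22355 = n22393 := ndS (p := 20416) (l := 3) rfl N20416 D22393
theorem N22356 : nd 22356 = n22394 := ndS (p := 20416) (l := 4) rfl N20416 D22394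
theorem N22357 : nd 22357 = n22395 := ndS (p := 20417) (l := 5) rfl N20417 D22395
theorem N22358 : nd 22358 = n22396 := ndS (p := 20419) (l := 4) rfl N20419 D22396
theorem N22359 : nd 22359 = n22397 := ndS (p := 20420) (l := 3) rfl N20420 D22397
theorem N22360 : nd 22360 = n22398 := ndS (p := 20420) (l := 5) rfl N20420 D22398
theorem N22361 : nd 22361 = n22399 := ndS (p := 20421) (l := 2) rfl N20421 D22399
theorem N22362 : nd 22362 = n22400 := ndS (p := 20421) (l := 5) rfl N20421 D22400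
theorem N22363 : nd 22363 = n22401 := ndS (p := 20424) (l := 3) rfl N20424 D22401
theorem N22364 : nd 22364 = n22402 := ndS (p := 20424) (l := 5) rfl N20424 D22402
theorem N22365 : nd 22365 = n22403 := ndS (p := 20427) (l := 4) rfl N20427 D22403
theorem N22366 : nd 22366 = n22404 := ndS (p := 20429) (l := 4) rfl N20429 D22404
theorem N22367 : nd 22367 = n22405 := ndS (p := 20430) (l := 3) rfl N20430 D22405
theorem N22368 : nd 22368 = n22406 := ndS (p := 20430) (l := 5) rfl N20430 D22406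
theorem N22369 : nd 22369 = n22407 := ndS (p := 20433) (l := 4) rfl N20433 D22407
theorem N22370 : nd 22370 = n22408 := ndS (p := 20437) (l := 5) rfl N20437 D22408
theorem N22371 : nd 22371 = n22409 := ndS (p := 20439) (l := 1) rfl N20439 D22409
theorem N22372 : nd 22372 = n22410 := ndS (p := 20439) (l := 3) rfl N20439 D22410
theorem N22373 : nd 22373 = n22411 := ndS (p := 20439) (l := 5) rfl N20439 D22411
theorem N22374 : nd 22374 = n22412 := ndS (p := 20440) (l := 4) rfl N20440 D22412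
theorem N22375 : nd 22375 = n22413 := ndS (p := 20441) (l := 0) rfl N20441 D22413
theorem N22376 : nd 22376 = n22414 := ndS (p := 20441) (l := 3) rfl N20441 D22414
theorem N22377 : nd 22377 = n22415 := ndS (p := 20441) (l := 5) rfl N20441 D22415
theorem N22378 : nd 22378 = n22416 := ndS (p := 20448) (l := 3) rfl N20448 D22416
theorem N22379 : nd 22379 = n22417 := ndS (p := 20449) (l := 2) rfl N20449 D22417
theorem N22380 : nd 22380 = n22418 := ndS (p := 20449) (l := 4) rfl N20449 D22418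
theorem N22381 : nd 22381 = n22419 := ndS (p := 20453) (l := 4) rfl N20453 D22419
theorem N22382 : nd 22382 = n22420 := ndS (p := 20454) (l := 4) rfl N20454 D22420
theorem N22383 : nd 22383 = n22421 := ndS (p := 20457) (l := 3) rfl N20457 D22421
theorem N22384 : nd 22384 = n22422 := ndS (p := 20457) (l := 5) rfl N20457 D22422
theorem N22385 : nd 22385 = n22423 := ndS (p := 20458) (l := 2) rfl N20458 D22423
theorem N22386 : nd 22386 = n22424 := ndS (p := 20458) (l := 4) rfl N20458 D22424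
theorem N22387 : nd 22387 = n22425 := ndS (p := 20458) (l := 5) rfl N20458 D22425
theorem N22388 : nd 22388 = n22426 := ndS (p := 20459) (l := 4) rfl N20459 D22426
theorem N22389 : nd 22389 = n22427 := ndS (p := 20460) (l := 1) rfl N20460 D22427
theorem N22390 : nd 22390 = n22428 := ndS (p := 20460) (l := 4) rfl N20460 D22428
theorem N22391 : nd 22391 = n22429 := ndS (p := 20461) (l := 5) rfl N20461 D22429
theorem N22392 : nd 22392 = n22430 := ndS (p := 20463) (l := 3) rfl N20463 D22430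
theorem N22393 : nd 22393 = n22431 := ndS (p := 20464) (l := 4) rfl N20464 D22431
theorem N22394 : nd 22394 = n22432 := ndS (p := 20466) (l := 5) rfl N20466 D22432
theorem N22395 : nd 22395 = n22433 := ndS (p := 20470) (l := 0) rfl N20470 D22433
theorem N22396 : nd 22396 = n22434 := ndS (p := 20470) (l := 3) rfl N20470 D22434
theorem N22397 : nd 22397 = n22435 := ndS (p := 20470) (l := 5) rfl N20470 D22435
theorem N22398 : nd 22398 = n22436 := ndS (p := 20471) (l := 4) rfl N20471 D22436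
theorem N22399 : nd 22399 = n22437 := ndS (p := 20472) (l := 4) rfl N20472 D22437
theorem N22400 : nd 22400 = n22438 := ndS (p := 20474) (l := 3) rfl N20474 D22438
theorem N22401 : nd 22401 = n22439 := ndS (p := 20474) (l := 5) rfl N20474 D22439
theorem N22402 : nd 22402 = n22440 := ndS (p := 20475) (l := 2) rfl N20475 D22440
theorem N22403 : nd 22403 = n22441 := ndS (p := 20477) (l := 2) rfl N20477 D22441
theorem N22404 : nd 22404 = n22442 := ndS (p := 20477) (l := 5) rfl N20477 D22442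
theorem N22405 : nd 22405 = n22443 := ndS (p := 20479) (l := 5) rfl N20479 D22443
theorem N22406 : nd 22406 = n22444 := ndS (p := 20480) (l := 4) rfl N20480 D22444
theorem N22407 : nd 22407 = n22445 := ndS (p := 20482) (l := 4) rfl N20482 D22445
theorem N22408 : nd 22408 = n22446 := ndS (p := 20483) (l := 3) rfl N20483 D22446
theorem N22409 : nd 22409 = n22447 := ndS (p := 20485) (l := 5) rfl N20485 D22447
theorem N22410 : nd 22410 = n22448 := ndS (p := 20486) (l := 4) rfl N20486 D22448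
theorem N22411 : nd 22411 = n22449 := ndS (p := 20487) (l := 3) rfl N20487 D22449
theorem N22412 : nd 22412 = n22450 := ndS (p := 20488) (l := 4) rfl N20488 D22450
theorem N22413 : nd 22413 = n22451 := ndS (p := 20489) (l := 5) rfl N20489 D22451
theorem N22414 : nd 22414 = n22452 := ndS (p := 20490) (l := 4) rfl N20490 D22452
theorem N22415 : nd 22415 = n22453 := ndS (p := 20491) (l := 4) rfl N20491 D22453
theorem N22416 : nd 22416 = n22454 := ndS (p := 20492) (l := 3) rfl N20492 D22454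
theorem N22417 : nd 22417 = n22455 := ndS (p := 20493) (l := 2) rfl N20493 D22455
theorem N22418 : nd 22418 = n22456 := ndS (p := 20494) (l := 5) rfl N20494 D22456
theorem N22419 : nd 22419 = n22457 := ndS (p := 20496) (l := 3) rfl N20496 D22457
theorem N22420 : nd 22420 = n22458 := ndS (p := 20497) (l := 2) rfl N20497 D22458
theorem N22421 : nd 22421 = n22459 := ndS (p := 20498) (l := 1) rfl N20498 D22459
theorem N22422 : nd 22422 = n22460 := ndS (p := 20499) (l := 1) rfl N20499 D22460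
theorem N22423 : nd 22423 = n22461 := ndS (p := 20500) (l := 4) rfl N20500 D22461
theorem N22424 : nd 22424 = n22462 := ndS (p := 20503) (l := 3) rfl N20503 D22462
theorem N22425 : nd 22425 = n22463 := ndS (p := 20507) (l := 4) rfl N20507 D22463
theorem N22426 : nd 22426 = n22464 := ndS (p := 20508) (l := 3) rfl N20508 D22464
theorem N22427 : nd 22427 = n22465 := ndS (p := 20508) (l := 5) rfl N20508 D22465
theorem N22428 : nd 22428 = n22466 := ndS (p := 20510) (l := 3) rfl N20510 D22466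
theorem N22429 : nd 22429 = n22467 := ndS (p := 20510) (l := 5) rfl N20510 D22467
theorem N22430 : nd 22430 = n22468 := ndS (p := 20511) (l := 5) rfl N20511 D22468
theorem N22431 : nd 22431 = n22469 := ndS (p := 20514) (l := 4) rfl N20514 D22469
theorem N22432 : nd 22432 = n22470 := ndS (p := 20515) (l := 4) rfl N20515 D22470
theorem N22433 : nd 22433 = n22471 := ndS (p := 20516) (l := 3) rfl N20516 D22471
theorem N22434 : nd 22434 = n22472 := ndS (p := 20519) (l := 4) rfl N20519 D22472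
theorem N22435 : nd 22435 = n22473 := ndS (p := 20520) (l := 4) rfl N20520 D22473
theorem N22436 : nd 22436 = n22474 := ndS (p := 20521) (l := 5) rfl N20521 D22474
theorem N22437 : nd 22437 = n22475 := ndS (p := 20522) (l := 5) rfl N20522 D22475
theorem N22438 : nd 22438 = n22476 := ndS (p := 20523) (l := 3) rfl N20523 D22476
theorem N22439 : nd 22439 = n22477 := ndS (p := 20523) (l := 5) rfl N20523 D22477
theorem N22440 : nd 22440 = n22478 := ndS (p := 20525) (l := 4) rfl N20525 D22478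
theorem N22441 : nd 22441 = n22479 := ndS (p := 20526) (l := 3) rfl N20526 D22479
theorem N22442 : nd 22442 = n22480 := ndS (p := 20526) (l := 5) rfl N20526 D22480
theorem N22443 : nd 22443 = n22481 := ndS (p := 20529) (l := 3) rfl N20529 D22481
theorem N22444 : nd 22444 = n22482 := ndS (p := 20530) (l := 2) rfl N20530 D22482
theorem N22445 : nd 22445 = n22483 := ndS (p := 20530) (l := 5) rfl N20530 D22483
theorem N22446 : nd 22446 = n22484 := ndS (p := 20534) (l := 1) rfl N20534 D22484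
theorem N22447 : nd 22447 = n22485 := ndS (p := 20536) (l := 2) rfl N20536 D22485
theorem N22448 : nd 22448 = n22486 := ndS (p := 20537) (l := 3) rfl N20537 D22486
theorem N22449 : nd 22449 = n22487 := ndS (p := 20538) (l := 4) rfl N20538 D22487
theorem N22450 : nd 22450 = n22488 := ndS (p := 20539) (l := 3) rfl N20539 D22488
theorem N22451 : nd 22451 = n22489 := ndS (p := 20539) (l := 5) rfl N20539 D22489
theorem N22452 : nd 22452 = n22490 := ndS (p := 20541) (l := 3) rfl N20541 D22490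
theorem N22453 : nd 22453 = n22491 := ndS (p := 20542) (l := 2) rfl N20542 D22491
theorem N22454 : nd 22454 = n22492 := ndS (p := 20542) (l := 5) rfl N20542 D22492
theorem N22455 : nd 22455 = n22493 := ndS (p := 20554) (l := 1) rfl N20554 D22493
theorem N22456 : nd 22456 = n22494 := ndS (p := 20554) (l := 4) rfl N20554 D22494
theorem N22457 : nd 22457 = n22495 := ndS (p := 20557) (l := 3) rfl N20557 D22495
theorem N22458 : nd 22458 = n22496 := ndS (p := 20558) (l := 3) rfl N20558 D22496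
theorem N22459 : nd 22459 = n22497 := ndS (p := 20558) (l := 5) rfl N20558 D22497
theorem N22460 : nd 22460 = n22498 := ndS (p := 20560) (l := 2) rfl N20560 D22498
theorem N22461 : nd 22461 = n22499 := ndS (p := 20560) (l := 5) rfl N20560 D22499
theorem N22462 : nd 22462 = n22500 := ndS (p := 20564) (l := 3) rfl N20564 D22500
theorem N22463 : nd 22463 = n22501 := ndS (p := 20565) (l := 2) rfl N20565 D22501
theorem N22464 : nd 22464 = n22502 := ndS (p := 20566) (l := 1) rfl N20566 D22502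
theorem N22465 : nd 22465 = n22503 := ndS (p := 20569) (l := 3) rfl N20569 D22503
theorem N22466 : nd 22466 = n22504 := ndS (p := 20569) (l := 5) rfl N20569 D22504
theorem N22467 : nd 22467 = n22505 := ndS (p := 20570) (l := 2) rfl N20570 D22505
theorem N22468 : nd 22468 = n22506 := ndS (p := 20570) (l := 5) rfl N20570 D22506
theorem N22469 : nd 22469 = n22507 := ndS (p := 20572) (l := 0) rfl N20572 D22507
theorem N22470 : nd 22470 = n22508 := ndS (p := 20572) (l := 3) rfl N20572 D22508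
theorem N22471 : nd 22471 = n22509 := ndS (p := 20572) (l := 5) rfl N20572 D22509
theorem N22472 : nd 22472 = n22510 := ndS (p := 20576) (l := 1) rfl N20576 D22510
theorem N22473 : nd 22473 = n22511 := ndS (p := 20578) (l := 4) rfl N20578 D22511
theorem N22474 : nd 22474 = n22512 := ndS (p := 20579) (l := 3) rfl N20579 D22512
theorem N22475 : nd 22475 = n22513 := ndS (p := 20580) (l := 2) rfl N20580 D22513
theorem N22476 : nd 22476 = n22514 := ndS (p := 20586) (l := 4) rfl N20586 D22514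
theorem N22477 : nd 22477 = n22515 := ndS (p := 20597) (l := 2) rfl N20597 D22515
theorem N22478 : nd 22478 = n22516 := ndS (p := 20599) (l := 2) rfl N20599 D22516
theorem N22479 : nd 22479 = n22517 := ndS (p := 20600) (l := 1) rfl N20600 D22517
theorem N22480 : nd 22480 = n22518 := ndS (p := 20600) (l := 3) rfl N20600 D22518
theorem N22481 : nd 22481 = n22519 := ndS (p := 20601) (l := 0) rfl N20601 D22519
theorem N22482 : nd 22482 = n22520 := ndS (p := 20603) (l := 3) rfl N20603 D22520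
theorem N22483 : nd 22483 = n22521 := ndS (p := 20604) (l := 0) rfl N20604 D22521
theorem N22484 : nd 22484 = n22522 := ndS (p := 20604) (l := 3) rfl N20604 D22522
theorem N22485 : nd 22485 = n22523 := ndS (p := 20605) (l := 2) rfl N20605 D22523
theorem N22486 : nd 22486 = n22524 := ndS (p := 20607) (l := 2) rfl N20607 D22524
theorem N22487 : nd 22487 = n22525 := ndS (p := 20609) (l := 3) rfl N20609 D22525
theorem N22488 : nd 22488 = n22526 := ndS (p := 20612) (l := 3) rfl N20612 D22526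
theorem N22489 : nd 22489 = n22527 := ndS (p := 20613) (l := 2) rfl N20613 D22527
theorem N22490 : nd 22490 = n22528 := ndS (p := 20616) (l := 2) rfl N20616 D22528
theorem N22491 : nd 22491 = n22529 := ndS (p := 20620) (l := 3) rfl N20620 D22529
theorem N22492 : nd 22492 = n22530 := ndS (p := 20620) (l := 5) rfl N20620 D22530
theorem N22493 : nd 22493 = n22531 := ndS (p := 20621) (l := 2) rfl N20621 D22531
theorem N22494 : nd 22494 = n22532 := ndS (p := 20623) (l := 1) rfl N20623 D22532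
theorem N22495 : nd 22495 = n22533 := ndS (p := 20629) (l := 2) rfl N20629 D22533
theorem N22496 : nd 22496 = n22534 := ndS (p := 20631) (l := 0) rfl N20631 D22534
theorem N22497 : nd 22497 = n22535 := ndS (p := 20633) (l := 4) rfl N20633 D22535
theorem N22498 : nd 22498 = n22536 := ndS (p := 20634) (l := 3) rfl N20634 D22536
theorem N22499 : nd 22499 = n22537 := ndS (p := 20636) (l := 4) rfl N20636 D22537
theorem N22500 : nd 22500 = n22538 := ndS (p := 20637) (l := 3) rfl N20637 D22538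
theorem N22501 : nd 22501 = n22539 := ndS (p := 20637) (l := 5) rfl N20637 D22539
theorem N22502 : nd 22502 = n22540 := ndS (p := 20640) (l := 5) rfl N20640 D22540
theorem N22503 : nd 22503 = n22541 := ndS (p := 20643) (l := 2) rfl N20643 D22541
theorem N22504 : nd 22504 = n22542 := ndS (p := 20645) (l := 3) rfl N20645 D22542
theorem N22505 : nd 22505 = n22543 := ndS (p := 20646) (l := 3) rfl N20646 D22543
theorem N22506 : nd 22506 = n22544 := ndS (p := 20647) (l := 2) rfl N20647 D22544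
theorem N22507 : nd 22507 = n22545 := ndS (p := 20648) (l := 3) rfl N20648 D22545
theorem N22508 : nd 22508 = n22546 := ndS (p := 20649) (l := 2) rfl N20649 D22546
theorem N22509 : nd 22509 = n22547 := ndS (p := 20650) (l := 1) rfl N20650 D22547
theorem N22510 : nd 22510 = n22548 := ndS (p := 20650) (l := 3) rfl N20650 D22548
theorem N22511 : nd 22511 = n22549 := ndS (p := 20652) (l := 1) rfl N20652 D22549
theorem N22512 : nd 22512 = n22550 := ndS (p := 20652) (l := 5) rfl N20652 D22550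
theorem N22513 : nd 22513 = n22551 := ndS (p := 20654) (l := 0) rfl N20654 D22551
theorem N22514 : nd 22514 = n22552 := ndS (p := 20654) (l := 3) rfl N20654 D22552
theorem N22515 : nd 22515 = n22553 := ndS (p := 20655) (l := 4) rfl N20655 D22553
theorem N22516 : nd 22516 = n22554 := ndS (p := 20655) (l := 5) rfl N20655 D22554
theorem N22517 : nd 22517 = n22555 := ndS (p := 20659) (l := 1) rfl N20659 D22555
theorem N22518 : nd 22518 = n22556 := ndS (p := 20661) (l := 3) rfl N20661 D22556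
theorem N22519 : nd 22519 = n22557 := ndS (p := 20664) (l := 2) rfl N20664 D22557
theorem N22520 : nd 22520 = n22558 := ndS (p := 20665) (l := 4) rfl N20665 D22558
theorem N22521 : nd 22521 = n22559 := ndS (p := 20666) (l := 3) rfl N20666 D22559
theorem N22522 : nd 22522 = n22560 := ndS (p := 20666) (l := 5) rfl N20666 D22560
theorem N22523 : nd 22523 = n22561 := ndS (p := 20671) (l := 4) rfl N20671 D22561
theorem N22524 : nd 22524 = n22562 := ndS (p := 20672) (l := 4) rfl N20672 D22562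
theorem N22525 : nd 22525 = n22563 := ndS (p := 20673) (l := 3) rfl N20673 D22563
theorem N22526 : nd 22526 = n22564 := ndS (p := 20674) (l := 3) rfl N20674 D22564
theorem N22527 : nd 22527 = n22565 := ndS (p := 20674) (l := 5) rfl N20674 D22565
theorem N22528 : nd 22528 = n22566 := ndS (p := 20676) (l := 2) rfl N20676 D22566
theorem N22529 : nd 22529 = n22567 := ndS (p := 20676) (l := 5) rfl N20676 D22567
theorem N22530 : nd 22530 = n22568 := ndS (p := 20678) (l := 3) rfl N20678 D22568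
theorem N22531 : nd 22531 = n22569 := ndS (p := 20678) (l := 5) rfl N20678 D22569
theorem N22532 : nd 22532 = n22570 := ndS (p := 20679) (l := 2) rfl N20679 D22570
theorem N22533 : nd 22533 = n22571 := ndS (p := 20681) (l := 2) rfl N20681 D22571
theorem N22534 : nd 22534 = n22572 := ndS (p := 20683) (l := 1) rfl N20683 D22572
theorem N22535 : nd 22535 = n22573 := ndS (p := 20683) (l := 3) rfl N20683 D22573
theorem N22536 : nd 22536 = n22574 := ndS (p := 20688) (l := 3) rfl N20688 D22574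
theorem N22537 : nd 22537 = n22575 := ndS (p := 20689) (l := 2) rfl N20689 D22575
theorem N22538 : nd 22538 = n22576 := ndS (p := 20691) (l := 3) rfl N20691 D22576
theorem N22539 : nd 22539 = n22577 := ndS (p := 20692) (l := 2) rfl N20692 D22577
theorem N22540 : nd 22540 = n22578 := ndS (p := 20693) (l := 3) rfl N20693 D22578
theorem N22541 : nd 22541 = n22579 := ndS (p := 20694) (l := 2) rfl N20694 D22579
theorem N22542 : nd 22542 = n22580 := ndS (p := 20696) (l := 1) rfl N20696 D22580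
theorem N22543 : nd 22543 = n22581 := ndS (p := 20696) (l := 3) rfl N20696 D22581
theorem N22544 : nd 22544 = n22582 := ndS (p := 20697) (l := 2) rfl N20697 D22582
theorem N22545 : nd 22545 = n22583 := ndS (p := 20698) (l := 1) rfl N20698 D22583
theorem N22546 : nd 22546 = n22584 := ndS (p := 20698) (l := 3) rfl N20698 D22584
theorem N22547 : nd 22547 = n22585 := ndS (p := 20698) (l := 5) rfl N20698 D22585
theorem N22548 : nd 22548 = n22586 := ndS (p := 20700) (l := 0) rfl N20700 D22586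
theorem N22549 : nd 22549 = n22587 := ndS (p := 20700) (l := 3) rfl N20700 D22587
theorem N22550 : nd 22550 = n22588 := ndS (p := 20701) (l := 2) rfl N20701 D22588
theorem N22551 : nd 22551 = n22589 := ndS (p := 20709) (l := 1) rfl N20709 D22589
theorem N22552 : nd 22552 = n22590 := ndS (p := 20709) (l := 3) rfl N20709 D22590
theorem N22553 : nd 22553 = n22591 := ndS (p := 20710) (l := 0) rfl N20710 D22591
theorem N22554 : nd 22554 = n22592 := ndS (p := 20711) (l := 3) rfl N20711 D22592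
theorem N22555 : nd 22555 = n22593 := ndS (p := 20711) (l := 4) rfl N20711 D22593
theorem N22556 : nd 22556 = n22594 := ndS (p := 20712) (l := 4) rfl N20712 D22594
theorem N22557 : nd 22557 = n22595 := ndS (p := 20713) (l := 3) rfl N20713 D22595
theorem N22558 : nd 22558 = n22596 := ndS (p := 20713) (l := 5) rfl N20713 D22596
theorem N22559 : nd 22559 = n22597 := ndS (p := 20715) (l := 2) rfl N20715 D22597
theorem N22560 : nd 22560 = n22598 := ndS (p := 20716) (l := 3) rfl N20716 D22598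
theorem N22561 : nd 22561 = n22599 := ndS (p := 20716) (l := 5) rfl N20716 D22599
theorem N22562 : nd 22562 = n22600 := ndS (p := 20717) (l := 2) rfl N20717 D22600
theorem N22563 : nd 22563 = n22601 := ndS (p := 20717) (l := 5) rfl N20717 D22601
theorem N22564 : nd 22564 = n22602 := ndS (p := 20719) (l := 3) rfl N20719 D22602
theorem N22565 : nd 22565 = n22603 := ndS (p := 20720) (l := 2) rfl N20720 D22603
theorem N22566 : nd 22566 = n22604 := ndS (p := 20720) (l := 5) rfl N20720 D22604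
theorem N22567 : nd 22567 = n22605 := ndS (p := 20722) (l := 3) rfl N20722 D22605
theorem N22568 : nd 22568 = n22606 := ndS (p := 20723) (l := 2) rfl N20723 D22606
theorem N22569 : nd 22569 = n22607 := ndS (p := 20724) (l := 1) rfl N20724 D22607
theorem N22570 : nd 22570 = n22608 := ndS (p := 20724) (l := 3) rfl N20724 D22608
theorem N22571 : nd 22571 = n22609 := ndS (p := 20725) (l := 5) rfl N20725 D22609
theorem N22572 : nd 22572 = n22610 := ndS (p := 20727) (l := 1) rfl N20727 D22610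
theorem N22573 : nd 22573 = n22611 := ndS (p := 20727) (l := 3) rfl N20727 D22611
theorem N22574 : nd 22574 = n22612 := ndS (p := 20727) (l := 5) rfl N20727 D22612
theorem N22575 : nd 22575 = n22613 := ndS (p := 20728) (l := 4) rfl N20728 D22613
theorem N22576 : nd 22576 = n22614 := ndS (p := 20729) (l := 3) rfl N20729 D22614
theorem N22577 : nd 22577 = n22615 := ndS (p := 20730) (l := 2) rfl N20730 D22615
theorem N22578 : nd 22578 = n22616 := ndS (p := 20731) (l := 2) rfl N20731 D22616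
theorem N22579 : nd 22579 = n22617 := ndS (p := 20732) (l := 1) rfl N20732 D22617
theorem N22580 : nd 22580 = n22618 := ndS (p := 20732) (l := 3) rfl N20732 D22618
theorem N22581 : nd 22581 = n22619 := ndS (p := 20733) (l := 0) rfl N20733 D22619
theorem N22582 : nd 22582 = n22620 := ndS (p := 20733) (l := 3) rfl N20733 D22620
theorem N22583 : nd 22583 = n22621 := ndS (p := 20734) (l := 4) rfl N20734 D22621
theorem N22584 : nd 22584 = n22622 := ndS (p := 20735) (l := 0) rfl N20735 D22622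
theorem N22585 : nd 22585 = n22623 := ndS (p := 20737) (l := 3) rfl N20737 D22623
theorem N22586 : nd 22586 = n22624 := ndS (p := 20740) (l := 5) rfl N20740 D22624
theorem N22587 : nd 22587 = n22625 := ndS (p := 20741) (l := 4) rfl N20741 D22625
theorem N22588 : nd 22588 = n22626 := ndS (p := 20742) (l := 3) rfl N20742 D22626
theorem N22589 : nd 22589 = n22627 := ndS (p := 20742) (l := 5) rfl N20742 D22627
theorem N22590 : nd 22590 = n22628 := ndS (p := 20743) (l := 4) rfl N20743 D22628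
theorem N22591 : nd 22591 = n22629 := ndS (p := 20744) (l := 3) rfl N20744 D22629
theorem N22592 : nd 22592 = n22630 := ndS (p := 20745) (l := 2) rfl N20745 D22630
theorem N22593 : nd 22593 = n22631 := ndS (p := 20746) (l := 4) rfl N20746 D22631
theorem N22594 : nd 22594 = n22632 := ndS (p := 20747) (l := 1) rfl N20747 D22632
theorem N22595 : nd 22595 = n22633 := ndS (p := 20748) (l := 1) rfl N20748 D22633
theorem N22596 : nd 22596 = n22634 := ndS (p := 20748) (l := 5) rfl N20748 D22634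
theorem N22597 : nd 22597 = n22635 := ndS (p := 20749) (l := 4) rfl N20749 D22635
theorem N22598 : nd 22598 = n22636 := ndS (p := 20750) (l := 1) rfl N20750 D22636
theorem N22599 : nd 22599 = n22637 := ndS (p := 20751) (l := 4) rfl N20751 D22637
theorem N22600 : nd 22600 = n22638 := ndS (p := 20752) (l := 0) rfl N20752 D22638
theorem N22601 : nd 22601 = n22639 := ndS (p := 20752) (l := 3) rfl N20752 D22639
theorem N22602 : nd 22602 = n22640 := ndS (p := 20754) (l := 4) rfl N20754 D22640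
theorem N22603 : nd 22603 = n22641 := ndS (p := 20757) (l := 2) rfl N20757 D22641
theorem N22604 : nd 22604 = n22642 := ndS (p := 20757) (l := 5) rfl N20757 D22642
theorem N22605 : nd 22605 = n22643 := ndS (p := 20759) (l := 1) rfl N20759 D22643
theorem N22606 : nd 22606 = n22644 := ndS (p := 20759) (l := 5) rfl N20759 D22644
theorem N22607 : nd 22607 = n22645 := ndS (p := 20760) (l := 4) rfl N20760 D22645
theorem N22608 : nd 22608 = n22646 := ndS (p := 20761) (l := 1) rfl N20761 D22646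
theorem N22609 : nd 22609 = n22647 := ndS (p := 20761) (l := 3) rfl N20761 D22647
theorem N22610 : nd 22610 = n22648 := ndS (p := 20762) (l := 2) rfl N20762 D22648
theorem N22611 : nd 22611 = n22649 := ndS (p := 20762) (l := 4) rfl N20762 D22649
theorem N22612 : nd 22612 = n22650 := ndS (p := 20766) (l := 3) rfl N20766 D22650
theorem N22613 : nd 22613 = n22651 := ndS (p := 20767) (l := 3) rfl N20767 D22651
theorem N22614 : nd 22614 = n22652 := ndS (p := 20772) (l := 4) rfl N20772 D22652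
theorem N22615 : nd 22615 = n22653 := ndS (p := 20773) (l := 4) rfl N20773 D22653
theorem N22616 : nd 22616 = n22654 := ndS (p := 20777) (l := 4) rfl N20777 D22654
theorem N22617 : nd 22617 = n22655 := ndS (p := 20778) (l := 5) rfl N20778 D22655
theorem N22618 : nd 22618 = n22656 := ndS (p := 20779) (l := 3) rfl N20779 D22656
theorem N22619 : nd 22619 = n22657 := ndS (p := 20780) (l := 5) rfl N20780 D22657
theorem N22620 : nd 22620 = n22658 := ndS (p := 20782) (l := 2) rfl N20782 D22658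
theorem N22621 : nd 22621 = n22659 := ndS (p := 20783) (l := 4) rfl N20783 D22659
theorem N22622 : nd 22622 = n22660 := ndS (p := 20784) (l := 3) rfl N20784 D22660
theorem N22623 : nd 22623 = n22661 := ndS (p := 20786) (l := 3) rfl N20786 D22661
theorem N22624 : nd 22624 = n22662 := ndS (p := 20786) (l := 5) rfl N20786 D22662
theorem N22625 : nd 22625 = n22663 := ndS (p := 20787) (l := 2) rfl N20787 D22663
theorem N22626 : nd 22626 = n22664 := ndS (p := 20792) (l := 2) rfl N20792 D22664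
theorem N22627 : nd 22627 = n22665 := ndS (p := 20799) (l := 3) rfl N20799 D22665
theorem N22628 : nd 22628 = n22666 := ndS (p := 20799) (l := 5) rfl N20799 D22666
theorem N22629 : nd 22629 = n22667 := ndS (p := 20800) (l := 2) rfl N20800 D22667
theorem N22630 : nd 22630 = n22668 := ndS (p := 20801) (l := 3) rfl N20801 D22668
theorem N22631 : nd 22631 = n22669 := ndS (p := 20801) (l := 5) rfl N20801 D22669
theorem N22632 : nd 22632 = n22670 := ndS (p := 20802) (l := 2) rfl N20802 D22670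
theorem N22633 : nd 22633 = n22671 := ndS (p := 20802) (l := 5) rfl N20802 D22671
theorem N22634 : nd 22634 = n22672 := ndS (p := 20804) (l := 2) rfl N20804 D22672
theorem N22635 : nd 22635 = n22673 := ndS (p := 20804) (l := 5) rfl N20804 D22673
theorem N22636 : nd 22636 = n22674 := ndS (p := 20805) (l := 4) rfl N20805 D22674
theorem N22637 : nd 22637 = n22675 := ndS (p := 20807) (l := 1) rfl N20807 D22675
theorem N22638 : nd 22638 = n22676 := ndS (p := 20807) (l := 5) rfl N20807 D22676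
theorem N22639 : nd 22639 = n22677 := ndS (p := 20808) (l := 4) rfl N20808 D22677
theorem N22640 : nd 22640 = n22678 := ndS (p := 20809) (l := 3) rfl N20809 D22678
theorem N22641 : nd 22641 = n22679 := ndS (p := 20816) (l := 4) rfl N20816 D22679
theorem N22642 : nd 22642 = n22680 := ndS (p := 20822) (l := 5) rfl N20822 D22680
theorem N22643 : nd 22643 = n22681 := ndS (p := 20826) (l := 5) rfl N20826 D22681
theorem N22644 : nd 22644 = n22682 := ndS (p := 20831) (l := 1) rfl N20831 D22682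
theorem N22645 : nd 22645 = n22683 := ndS (p := 20831) (l := 3) rfl N20831 D22683
theorem N22646 : nd 22646 = n22684 := ndS (p := 20833) (l := 1) rfl N20833 D22684
theorem N22647 : nd 22647 = n22685 := ndS (p := 20833) (l := 3) rfl N20833 D22685
theorem N22648 : nd 22648 = n22686 := ndS (p := 20833) (l := 5) rfl N20833 D22686
theorem N22649 : nd 22649 = n22687 := ndS (p := 20835) (l := 0) rfl N20835 D22687
theorem N22650 : nd 22650 = n22688 := ndS (p := 20837) (l := 0) rfl N20837 D22688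
theorem N22651 : nd 22651 = n22689 := ndS (p := 20837) (l := 3) rfl N20837 D22689
theorem N22652 : nd 22652 = n22690 := ndS (p := 20837) (l := 5) rfl N20837 D22690
theorem N22653 : nd 22653 = n22691 := ndS (p := 20838) (l := 2) rfl N20838 D22691
theorem N22654 : nd 22654 = n22692 := ndS (p := 20838) (l := 4) rfl N20838 D22692
theorem N22655 : nd 22655 = n22693 := ndS (p := 20840) (l := 3) rfl N20840 D22693
theorem N22656 : nd 22656 = n22694 := ndS (p := 20841) (l := 4) rfl N20841 D22694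
theorem N22657 : nd 22657 = n22695 := ndS (p := 20844) (l := 2) rfl N20844 D22695
theorem N22658 : nd 22658 = n22696 := ndS (p := 20845) (l := 1) rfl N20845 D22696
theorem N22659 : nd 22659 = n22697 := ndS (p := 20845) (l := 3) rfl N20845 D22697
theorem N22660 : nd 22660 = n22698 := ndS (p := 20846) (l := 0) rfl N20846 D22698
theorem N22661 : nd 22661 = n22699 := ndS (p := 20848) (l := 2) rfl N20848 D22699
theorem N22662 : nd 22662 = n22700 := ndS (p := 20849) (l := 2) rfl N20849 D22700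
theorem N22663 : nd 22663 = n22701 := ndS (p := 20850) (l := 1) rfl N20850 D22701
theorem N22664 : nd 22664 = n22702 := ndS (p := 20850) (l := 3) rfl N20850 D22702
theorem N22665 : nd 22665 = n22703 := ndS (p := 20851) (l := 2) rfl N20851 D22703
theorem N22666 : nd 22666 = n22704 := ndS (p := 20851) (l := 4) rfl N20851 D22704
theorem N22667 : nd 22667 = n22705 := ndS (p := 20852) (l := 3) rfl N20852 D22705
theorem N22668 : nd 22668 = n22706 := ndS (p := 20853) (l := 2) rfl N20853 D22706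
theorem N22669 : nd 22669 = n22707 := ndS (p := 20853) (l := 4) rfl N20853 D22707
theorem N22670 : nd 22670 = n22708 := ndS (p := 20854) (l := 5) rfl N20854 D22708
theorem N22671 : nd 22671 = n22709 := ndS (p := 20856) (l := 2) rfl N20856 D22709
theorem N22672 : nd 22672 = n22710 := ndS (p := 20857) (l := 3) rfl N20857 D22710
theorem N22673 : nd 22673 = n22711 := ndS (p := 20857) (l := 4) rfl N20857 D22711
theorem N22674 : nd 22674 = n22712 := ndS (p := 20858) (l := 5) rfl N20858 D22712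
theorem N22675 : nd 22675 = n22713 := ndS (p := 20860) (l := 3) rfl N20860 D22713
theorem N22676 : nd 22676 = n22714 := ndS (p := 20861) (l := 2) rfl N20861 D22714
theorem N22677 : nd 22677 = n22715 := ndS (p := 20861) (l := 4) rfl N20861 D22715
theorem N22678 : nd 22678 = n22716 := ndS (p := 20862) (l := 3) rfl N20862 D22716
theorem N22679 : nd 22679 = n22717 := ndS (p := 20862) (l := 5) rfl N20862 D22717
theorem N22680 : nd 22680 = n22718 := ndS (p := 20863) (l := 4) rfl N20863 D22718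
theorem N22681 : nd 22681 = n22719 := ndS (p := 20864) (l := 3) rfl N20864 D22719
theorem N22682 : nd 22682 = n22720 := ndS (p := 20865) (l := 2) rfl N20865 D22720
theorem N22683 : nd 22683 = n22721 := ndS (p := 20866) (l := 1) rfl N20866 D22721
theorem N22684 : nd 22684 = n22722 := ndS (p := 20866) (l := 3) rfl N20866 D22722
theorem N22685 : nd 22685 = n22723 := ndS (p := 20867) (l := 2) rfl N20867 D22723
theorem N22686 : nd 22686 = n22724 := ndS (p := 20867) (l := 4) rfl N20867 D22724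
theorem N22687 : nd 22687 = n22725 := ndS (p := 20868) (l := 2) rfl N20868 D22725
theorem N22688 : nd 22688 = n22726 := ndS (p := 20868) (l := 5) rfl N20868 D22726
theorem N22689 : nd 22689 = n22727 := ndS (p := 20870) (l := 1) rfl N20870 D22727
theorem N22690 : nd 22690 = n22728 := ndS (p := 20871) (l := 1) rfl N20871 D22728
theorem N22691 : nd 22691 = n22729 := ndS (p := 20871) (l := 3) rfl N20871 D22729
theorem N22692 : nd 22692 = n22730 := ndS (p := 20871) (l := 5) rfl N20871 D22730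
theorem N22693 : nd 22693 = n22731 := ndS (p := 20872) (l := 4) rfl N20872 D22731
theorem N22694 : nd 22694 = n22732 := ndS (p := 20873) (l := 0) rfl N20873 D22732
theorem N22695 : nd 22695 = n22733 := ndS (p := 20873) (l := 3) rfl N20873 D22733
theorem N22696 : nd 22696 = n22734 := ndS (p := 20873) (l := 5) rfl N20873 D22734
theorem N22697 : nd 22697 = n22735 := ndS (p := 20874) (l := 4) rfl N20874 D22735
theorem N22698 : nd 22698 = n22736 := ndS (p := 20875) (l := 4) rfl N20875 D22736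
theorem N22699 : nd 22699 = n22737 := ndS (p := 20877) (l := 3) rfl N20877 D22737
theorem N22700 : nd 22700 = n22738 := ndS (p := 20878) (l := 2) rfl N20878 D22738
theorem N22701 : nd 22701 = n22739 := ndS (p := 20878) (l := 4) rfl N20878 D22739
theorem N22702 : nd 22702 = n22740 := ndS (p := 20878) (l := 5) rfl N20878 D22740
theorem N22703 : nd 22703 = n22741 := ndS (p := 20880) (l := 5) rfl N20880 D22741
theorem N22704 : nd 22704 = n22742 := ndS (p := 20882) (l := 2) rfl N20882 D22742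
theorem N22705 : nd 22705 = n22743 := ndS (p := 20884) (l := 3) rfl N20884 D22743
theorem N22706 : nd 22706 = n22744 := ndS (p := 20889) (l := 1) rfl N20889 D22744
theorem N22707 : nd 22707 = n22745 := ndS (p := 20890) (l := 0) rfl N20890 D22745
theorem N22708 : nd 22708 = n22746 := ndS (p := 20890) (l := 3) rfl N20890 D22746
theorem N22709 : nd 22709 = n22747 := ndS (p := 20893) (l := 0) rfl N20893 D22747
theorem N22710 : nd 22710 = n22748 := ndS (p := 20893) (l := 3) rfl N20893 D22748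
theorem N22711 : nd 22711 = n22749 := ndS (p := 20894) (l := 4) rfl N20894 D22749
theorem N22712 : nd 22712 = n22750 := ndS (p := 20895) (l := 3) rfl N20895 D22750
theorem N22713 : nd 22713 = n22751 := ndS (p := 20896) (l := 2) rfl N20896 D22751
theorem N22714 : nd 22714 = n22752 := ndS (p := 20896) (l := 4) rfl N20896 D22752
theorem N22715 : nd 22715 = n22753 := ndS (p := 20897) (l := 1) rfl N20897 D22753
theorem N22716 : nd 22716 = n22754 := ndS (p := 20897) (l := 4) rfl N20897 D22754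
theorem N22717 : nd 22717 = n22755 := ndS (p := 20898) (l := 5) rfl N20898 D22755
theorem N22718 : nd 22718 = n22756 := ndS (p := 20899) (l := 2) rfl N20899 D22756
theorem N22719 : nd 22719 = n22757 := ndS (p := 20900) (l := 3) rfl N20900 D22757
theorem N22720 : nd 22720 = n22758 := ndS (p := 20904) (l := 3) rfl N20904 D22758
theorem N22721 : nd 22721 = n22759 := ndS (p := 20905) (l := 2) rfl N20905 D22759
theorem N22722 : nd 22722 = n22760 := ndS (p := 20906) (l := 4) rfl N20906 D22760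
theorem N22723 : nd 22723 = n22761 := ndS (p := 20907) (l := 3) rfl N20907 D22761
theorem N22724 : nd 22724 = n22762 := ndS (p := 20907) (l := 5) rfl N20907 D22762
theorem N22725 : nd 22725 = n22763 := ndS (p := 20908) (l := 4) rfl N20908 D22763
theorem N22726 : nd 22726 = n22764 := ndS (p := 20909) (l := 3) rfl N20909 D22764
theorem N22727 : nd 22727 = n22765 := ndS (p := 20909) (l := 5) rfl N20909 D22765
theorem N22728 : nd 22728 = n22766 := ndS (p := 20910) (l := 2) rfl N20910 D22766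
theorem N22729 : nd 22729 = n22767 := ndS (p := 20910) (l := 5) rfl N20910 D22767
theorem N22730 : nd 22730 = n22768 := ndS (p := 20912) (l := 2) rfl N20912 D22768
theorem N22731 : nd 22731 = n22769 := ndS (p := 20912) (l := 5) rfl N20912 D22769
theorem N22732 : nd 22732 = n22770 := ndS (p := 20917) (l := 2) rfl N20917 D22770
theorem N22733 : nd 22733 = n22771 := ndS (p := 20919) (l := 3) rfl N20919 D22771
theorem N22734 : nd 22734 = n22772 := ndS (p := 20920) (l := 0) rfl N20920 D22772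
theorem N22735 : nd 22735 = n22773 := ndS (p := 20920) (l := 3) rfl N20920 D22773
theorem N22736 : nd 22736 = n22774 := ndS (p := 20920) (l := 5) rfl N20920 D22774
theorem N22737 : nd 22737 = n22775 := ndS (p := 20922) (l := 4) rfl N20922 D22775
theorem N22738 : nd 22738 = n22776 := ndS (p := 20925) (l := 5) rfl N20925 D22776
theorem N22739 : nd 22739 = n22777 := ndS (p := 20927) (l := 1) rfl N20927 D22777
theorem N22740 : nd 22740 = n22778 := ndS (p := 20927) (l := 5) rfl N20927 D22778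
theorem N22741 : nd 22741 = n22779 := ndS (p := 20930) (l := 0) rfl N20930 D22779
theorem N22742 : nd 22742 = n22780 := ndS (p := 20932) (l := 4) rfl N20932 D22780
theorem N22743 : nd 22743 = n22781 := ndS (p := 20935) (l := 4) rfl N20935 D22781
theorem N22744 : nd 22744 = n22782 := ndS (p := 20937) (l := 3) rfl N20937 D22782
theorem N22745 : nd 22745 = n22783 := ndS (p := 20937) (l := 5) rfl N20937 D22783
theorem N22746 : nd 22746 = n22784 := ndS (p := 20939) (l := 1) rfl N20939 D22784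
theorem N22747 : nd 22747 = n22785 := ndS (p := 20939) (l := 3) rfl N20939 D22785
theorem N22748 : nd 22748 = n22786 := ndS (p := 20939) (l := 5) rfl N20939 D22786
theorem N22749 : nd 22749 = n22787 := ndS (p := 20940) (l := 4) rfl N20940 D22787
theorem N22750 : nd 22750 = n22788 := ndS (p := 20941) (l := 3) rfl N20941 D22788
theorem N22751 : nd 22751 = n22789 := ndS (p := 20942) (l := 2) rfl N20942 D22789
theorem N22752 : nd 22752 = n22790 := ndS (p := 20942) (l := 4) rfl N20942 D22790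
theorem N22753 : nd 22753 = n22791 := ndS (p := 20945) (l := 4) rfl N20945 D22791
theorem N22754 : nd 22754 = n22792 := ndS (p := 20948) (l := 2) rfl N20948 D22792
theorem N22755 : nd 22755 = n22793 := ndS (p := 20950) (l := 2) rfl N20950 D22793
theorem N22756 : nd 22756 = n22794 := ndS (p := 20952) (l := 1) rfl N20952 D22794
theorem N22757 : nd 22757 = n22795 := ndS (p := 20957) (l := 2) rfl N20957 D22795
theorem N22758 : nd 22758 = n22796 := ndS (p := 20958) (l := 3) rfl N20958 D22796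
theorem N22759 : nd 22759 = n22797 := ndS (p := 20962) (l := 1) rfl N20962 D22797
theorem N22760 : nd 22760 = n22798 := ndS (p := 20962) (l := 3) rfl N20962 D22798
theorem N22761 : nd 22761 = n22799 := ndS (p := 20964) (l := 5) rfl N20964 D22799
theorem N22762 : nd 22762 = n22800 := ndS (p := 20967) (l := 3) rfl N20967 D22800
theorem N22763 : nd 22763 = n22801 := ndS (p := 20967) (l := 5) rfl N20967 D22801
theorem N22764 : nd 22764 = n22802 := ndS (p := 20968) (l := 2) rfl N20968 D22802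
theorem N22765 : nd 22765 = n22803 := ndS (p := 20968) (l := 5) rfl N20968 D22803
theorem N22766 : nd 22766 = n22804 := ndS (p := 20972) (l := 5) rfl N20972 D22804
theorem N22767 : nd 22767 = n22805 := ndS (p := 20977) (l := 4) rfl N20977 D22805
theorem N22768 : nd 22768 = n22806 := ndS (p := 20985) (l := 1) rfl N20985 D22806
theorem N22769 : nd 22769 = n22807 := ndS (p := 20985) (l := 3) rfl N20985 D22807
theorem N22770 : nd 22770 = n22808 := ndS (p := 20986) (l := 3) rfl N20986 D22808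
theorem N22771 : nd 22771 = n22809 := ndS (p := 20986) (l := 5) rfl N20986 D22809
theorem N22772 : nd 22772 = n22810 := ndS (p := 20987) (l := 4) rfl N20987 D22810
theorem N22773 : nd 22773 = n22811 := ndS (p := 20993) (l := 2) rfl N20993 D22811
theorem N22774 : nd 22774 = n22812 := ndS (p := 20994) (l := 1) rfl N20994 D22812
theorem N22775 : nd 22775 = n22813 := ndS (p := 20994) (l := 3) rfl N20994 D22813
theorem N22776 : nd 22776 = n22814 := ndS (p := 20995) (l := 0) rfl N20995 D22814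
theorem N22777 : nd 22777 = n22815 := ndS (p := 20996) (l := 4) rfl N20996 D22815
theorem N22778 : nd 22778 = n22816 := ndS (p := 20998) (l := 4) rfl N20998 D22816
theorem N22779 : nd 22779 = n22817 := ndS (p := 20999) (l := 3) rfl N20999 D22817
theorem N22780 : nd 22780 = n22818 := ndS (p := 20999) (l := 5) rfl N20999 D22818
theorem N22781 : nd 22781 = n22819 := ndS (p := 21000) (l := 2) rfl N21000 D22819
theorem N22782 : nd 22782 = n22820 := ndS (p := 21002) (l := 5) rfl N21002 D22820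
theorem N22783 : nd 22783 = n22821 := ndS (p := 21003) (l := 5) rfl N21003 D22821
theorem N22784 : nd 22784 = n22822 := ndS (p := 21005) (l := 2) rfl N21005 D22822
theorem N22785 : nd 22785 = n22823 := ndS (p := 21006) (l := 4) rfl N21006 D22823
theorem N22786 : nd 22786 = n22824 := ndS (p := 21007) (l := 4) rfl N21007 D22824
theorem N22787 : nd 22787 = n22825 := ndS (p := 21008) (l := 3) rfl N21008 D22825
theorem N22788 : nd 22788 = n22826 := ndS (p := 21010) (l := 2) rfl N21010 D22826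
theorem N22789 : nd 22789 = n22827 := ndS (p := 21011) (l := 4) rfl N21011 D22827
theorem N22790 : nd 22790 = n22828 := ndS (p := 21012) (l := 3) rfl N21012 D22828
theorem N22791 : nd 22791 = n22829 := ndS (p := 21012) (l := 5) rfl N21012 D22829
theorem N22792 : nd 22792 = n22830 := ndS (p := 21014) (l := 3) rfl N21014 D22830
theorem N22793 : nd 22793 = n22831 := ndS (p := 21017) (l := 4) rfl N21017 D22831
theorem N22794 : nd 22794 = n22832 := ndS (p := 21018) (l := 4) rfl N21018 D22832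
theorem N22795 : nd 22795 = n22833 := ndS (p := 21019) (l := 3) rfl N21019 D22833
theorem N22796 : nd 22796 = n22834 := ndS (p := 21019) (l := 5) rfl N21019 D22834
theorem N22797 : nd 22797 = n22835 := ndS (p := 21022) (l := 5) rfl N21022 D22835
theorem N22798 : nd 22798 = n22836 := ndS (p := 21025) (l := 3) rfl N21025 D22836
theorem N22799 : nd 22799 = n22837 := ndS (p := 21025) (l := 5) rfl N21025 D22837
theorem N22800 : nd 22800 = n22838 := ndS (p := 21026) (l := 5) rfl N21026 D22838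
theorem N22801 : nd 22801 = n22839 := ndS (p := 21028) (l := 2) rfl N21028 D22839
theorem N22802 : nd 22802 = n22840 := ndS (p := 21028) (l := 5) rfl N21028 D22840
theorem N22803 : nd 22803 = n22841 := ndS (p := 21030) (l := 1) rfl N21030 D22841
theorem N22804 : nd 22804 = n22842 := ndS (p := 21030) (l := 3) rfl N21030 D22842
theorem N22805 : nd 22805 = n22843 := ndS (p := 21030) (l := 5) rfl N21030 D22843
theorem N22806 : nd 22806 = n22844 := ndS (p := 21032) (l := 3) rfl N21032 D22844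
theorem N22807 : nd 22807 = n22845 := ndS (p := 21032) (l := 5) rfl N21032 D22845
theorem N22808 : nd 22808 = n22846 := ndS (p := 21034) (l := 4) rfl N21034 D22846
theorem N22809 : nd 22809 = n22847 := ndS (p := 21036) (l := 0) rfl N21036 D22847
theorem N22810 : nd 22810 = n22848 := ndS (p := 21042) (l := 5) rfl N21042 D22848
theorem N22811 : nd 22811 = n22849 := ndS (p := 21043) (l := 3) rfl N21043 D22849
theorem N22812 : nd 22812 = n22850 := ndS (p := 21046) (l := 2) rfl N21046 D22850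
theorem N22813 : nd 22813 = n22851 := ndS (p := 21047) (l := 1) rfl N21047 D22851
theorem N22814 : nd 22814 = n22852 := ndS (p := 21048) (l := 0) rfl N21048 D22852
theorem N22815 : nd 22815 = n22853 := ndS (p := 21049) (l := 3) rfl N21049 D22853
theorem N22816 : nd 22816 = n22854 := ndS (p := 21051) (l := 1) rfl N21051 D22854
theorem N22817 : nd 22817 = n22855 := ndS (p := 21052) (l := 5) rfl N21052 D22855
theorem N22818 : nd 22818 = n22856 := ndS (p := 21053) (l := 5) rfl N21053 D22856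
theorem N22819 : nd 22819 = n22857 := ndS (p := 21054) (l := 4) rfl N21054 D22857
theorem N22820 : nd 22820 = n22858 := ndS (p := 21056) (l := 3) rfl N21056 D22858
theorem N22821 : nd 22821 = n22859 := ndS (p := 21057) (l := 3) rfl N21057 D22859
theorem N22822 : nd 22822 = n22860 := ndS (p := 21058) (l := 2) rfl N21058 D22860
theorem N22823 : nd 22823 = n22861 := ndS (p := 21059) (l := 1) rfl N21059 D22861
theorem N22824 : nd 22824 = n22862 := ndS (p := 21060) (l := 3) rfl N21060 D22862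
theorem N22825 : nd 22825 = n22863 := ndS (p := 21061) (l := 4) rfl N21061 D22863
theorem N22826 : nd 22826 = n22864 := ndS (p := 21064) (l := 3) rfl N21064 D22864
theorem N22827 : nd 22827 = n22865 := ndS (p := 21065) (l := 2) rfl N21065 D22865
theorem N22828 : nd 22828 = n22866 := ndS (p := 21066) (l := 1) rfl N21066 D22866
theorem N22829 : nd 22829 = n22867 := ndS (p := 21066) (l := 3) rfl N21066 D22867
theorem N22830 : nd 22830 = n22868 := ndS (p := 21068) (l := 3) rfl N21068 D22868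
theorem N22831 : nd 22831 = n22869 := ndS (p := 21069) (l := 4) rfl N21069 D22869
theorem N22832 : nd 22832 = n22870 := ndS (p := 21070) (l := 5) rfl N21070 D22870
theorem N22833 : nd 22833 = n22871 := ndS (p := 21071) (l := 4) rfl N21071 D22871
theorem N22834 : nd 22834 = n22872 := ndS (p := 21072) (l := 1) rfl N21072 D22872
theorem N22835 : nd 22835 = n22873 := ndS (p := 21072) (l := 4) rfl N21072 D22873
theorem N22836 : nd 22836 = n22874 := ndS (p := 21073) (l := 5) rfl N21073 D22874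
theorem N22837 : nd 22837 = n22875 := ndS (p := 21074) (l := 0) rfl N21074 D22875
theorem N22838 : nd 22838 = n22876 := ndS (p := 21074) (l := 4) rfl N21074 D22876
theorem N22839 : nd 22839 = n22877 := ndS (p := 21075) (l := 3) rfl N21075 D22877
theorem N22840 : nd 22840 = n22878 := ndS (p := 21075) (l := 5) rfl N21075 D22878
theorem N22841 : nd 22841 = n22879 := ndS (p := 21077) (l := 4) rfl N21077 D22879
theorem N22842 : nd 22842 = n22880 := ndS (p := 21078) (l := 5) rfl N21078 D22880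
theorem N22843 : nd 22843 = n22881 := ndS (p := 21079) (l := 3) rfl N21079 D22881
theorem N22844 : nd 22844 = n22882 := ndS (p := 21079) (l := 5) rfl N21079 D22882
theorem N22845 : nd 22845 = n22883 := ndS (p := 21081) (l := 3) rfl N21081 D22883
theorem N22846 : nd 22846 = n22884 := ndS (p := 21081) (l := 5) rfl N21081 D22884
theorem N22847 : nd 22847 = n22885 := ndS (p := 21084) (l := 3) rfl N21084 D22885
theorem N22848 : nd 22848 = n22886 := ndS (p := 21085) (l := 2) rfl N21085 D22886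
theorem N22849 : nd 22849 = n22887 := ndS (p := 21085) (l := 5) rfl N21085 D22887
theorem N22850 : nd 22850 = n22888 := ndS (p := 21087) (l := 1) rfl N21087 D22888
theorem N22851 : nd 22851 = n22889 := ndS (p := 21088) (l := 4) rfl N21088 D22889
theorem N22852 : nd 22852 = n22890 := ndS (p := 21090) (l := 3) rfl N21090 D22890
theorem N22853 : nd 22853 = n22891 := ndS (p := 21090) (l := 5) rfl N21090 D22891
theorem N22854 : nd 22854 = n22892 := ndS (p := 21092) (l := 3) rfl N21092 D22892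
theorem N22855 : nd 22855 = n22893 := ndS (p := 21092) (l := 5) rfl N21092 D22893
theorem N22856 : nd 22856 = n22894 := ndS (p := 21093) (l := 2) rfl N21093 D22894
theorem N22857 : nd 22857 = n22895 := ndS (p := 21093) (l := 4) rfl N21093 D22895
theorem N22858 : nd 22858 = n22896 := ndS (p := 21094) (l := 4) rfl N21094 D22896
theorem N22859 : nd 22859 = n22897 := ndS (p := 21095) (l := 5) rfl N21095 D22897
theorem N22860 : nd 22860 = n22898 := ndS (p := 21096) (l := 3) rfl N21096 D22898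
theorem N22861 : nd 22861 = n22899 := ndS (p := 21098) (l := 1) rfl N21098 D22899
theorem N22862 : nd 22862 = n22900 := ndS (p := 21098) (l := 4) rfl N21098 D22900
theorem N22863 : nd 22863 = n22901 := ndS (p := 21100) (l := 0) rfl N21100 D22901
theorem N22864 : nd 22864 = n22902 := ndS (p := 21100) (l := 4) rfl N21100 D22902
theorem N22865 : nd 22865 = n22903 := ndS (p := 21101) (l := 3) rfl N21101 D22903
theorem N22866 : nd 22866 = n22904 := ndS (p := 21101) (l := 5) rfl N21101 D22904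
theorem N22867 : nd 22867 = n22905 := ndS (p := 21104) (l := 4) rfl N21104 D22905
theorem N22868 : nd 22868 = n22906 := ndS (p := 21105) (l := 3) rfl N21105 D22906
theorem N22869 : nd 22869 = n22907 := ndS (p := 21105) (l := 5) rfl N21105 D22907
theorem N22870 : nd 22870 = n22908 := ndS (p := 21107) (l := 4) rfl N21107 D22908
theorem N22871 : nd 22871 = n22909 := ndS (p := 21108) (l := 3) rfl N21108 D22909
theorem N22872 : nd 22872 = n22910 := ndS (p := 21108) (l := 5) rfl N21108 D22910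
theorem N22873 : nd 22873 = n22911 := ndS (p := 21109) (l := 2) rfl N21109 D22911
theorem N22874 : nd 22874 = n22912 := ndS (p := 21109) (l := 5) rfl N21109 D22912
theorem N22875 : nd 22875 = n22913 := ndS (p := 21111) (l := 5) rfl N21111 D22913
theorem N22876 : nd 22876 = n22914 := ndS (p := 21115) (l := 1) rfl N21115 D22914
theorem N22877 : nd 22877 = n22915 := ndS (p := 21117) (l := 0) rfl N21117 D22915
theorem N22878 : nd 22878 = n22916 := ndS (p := 21118) (l := 0) rfl N21118 D22916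
theorem N22879 : nd 22879 = n22917 := ndS (p := 21118) (l := 4) rfl N21118 D22917
theorem N22880 : nd 22880 = n22918 := ndS (p := 21124) (l := 3) rfl N21124 D22918
theorem N22881 : nd 22881 = n22919 := ndS (p := 21125) (l := 3) rfl N21125 D22919
theorem N22882 : nd 22882 = n22920 := ndS (p := 21126) (l := 2) rfl N21126 D22920
theorem N22883 : nd 22883 = n22921 := ndS (p := 21126) (l := 5) rfl N21126 D22921
theorem N22884 : nd 22884 = n22922 := ndS (p := 21128) (l := 1) rfl N21128 D22922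
theorem N22885 : nd 22885 = n22923 := ndS (p := 21130) (l := 3) rfl N21130 D22923
theorem N22886 : nd 22886 = n22924 := ndS (p := 21130) (l := 5) rfl N21130 D22924
theorem N22887 : nd 22887 = n22925 := ndS (p := 21131) (l := 2) rfl N21131 D22925
theorem N22888 : nd 22888 = n22926 := ndS (p := 21132) (l := 4) rfl N21132 D22926
theorem N22889 : nd 22889 = n22927 := ndS (p := 21133) (l := 3) rfl N21133 D22927
theorem N22890 : nd 22890 = n22928 := ndS (p := 21134) (l := 4) rfl N21134 D22928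
theorem N22891 : nd 22891 = n22929 := ndS (p := 21138) (l := 3) rfl N21138 D22929
theorem N22892 : nd 22892 = n22930 := ndS (p := 21142) (l := 4) rfl N21142 D22930
theorem N22893 : nd 22893 = n22931 := ndS (p := 21144) (l := 3) rfl N21144 D22931
theorem N22894 : nd 22894 = n22932 := ndS (p := 21146) (l := 2) rfl N21146 D22932
theorem N22895 : nd 22895 = n22933 := ndS (p := 21148) (l := 3) rfl N21148 D22933
theorem N22896 : nd 22896 = n22934 := ndS (p := 21151) (l := 1) rfl N21151 D22934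
theorem N22897 : nd 22897 = n22935 := ndS (p := 21151) (l := 3) rfl N21151 D22935
theorem N22898 : nd 22898 = n22936 := ndS (p := 21151) (l := 5) rfl N21151 D22936
theorem N22899 : nd 22899 = n22937 := ndS (p := 21152) (l := 4) rfl N21152 D22937
theorem N22900 : nd 22900 = n22938 := ndS (p := 21153) (l := 5) rfl N21153 D22938
theorem N22901 : nd 22901 = n22939 := ndS (p := 21155) (l := 3) rfl N21155 D22939
theorem N22902 : nd 22902 = n22940 := ndS (p := 21155) (l := 5) rfl N21155 D22940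
theorem N22903 : nd 22903 = n22941 := ndS (p := 21156) (l := 4) rfl N21156 D22941
theorem N22904 : nd 22904 = n22942 := ndS (p := 21160) (l := 5) rfl N21160 D22942
theorem N22905 : nd 22905 = n22943 := ndS (p := 21161) (l := 3) rfl N21161 D22943
theorem N22906 : nd 22906 = n22944 := ndS (p := 21162) (l := 5) rfl N21162 D22944
theorem N22907 : nd 22907 = n22945 := ndS (p := 21165) (l := 5) rfl N21165 D22945
theorem N22908 : nd 22908 = n22946 := ndS (p := 21170) (l := 2) rfl N21170 D22946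
theorem N22909 : nd 22909 = n22947 := ndS (p := 21170) (l := 5) rfl N21170 D22947
theorem N22910 : nd 22910 = n22948 := ndS (p := 21174) (l := 2) rfl N21174 D22948
theorem N22911 : nd 22911 = n22949 := ndS (p := 21175) (l := 4) rfl N21175 D22949
theorem N22912 : nd 22912 = n22950 := ndS (p := 21177) (l := 3) rfl N21177 D22950
theorem N22913 : nd 22913 = n22951 := ndS (p := 21178) (l := 2) rfl N21178 D22951
theorem N22914 : nd 22914 = n22952 := ndS (p := 21181) (l := 2) rfl N21181 D22952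
theorem N22915 : nd 22915 = n22953 := ndS (p := 21181) (l := 4) rfl N21181 D22953
theorem N22916 : nd 22916 = n22954 := ndS (p := 21182) (l := 5) rfl N21182 D22954
theorem N22917 : nd 22917 = n22955 := ndS (p := 21184) (l := 1) rfl N21184 D22955
theorem N22918 : nd 22918 = n22956 := ndS (p := 21185) (l := 3) rfl N21185 D22956
theorem N22919 : nd 22919 = n22957 := ndS (p := 21185) (l := 5) rfl N21185 D22957
theorem N22920 : nd 22920 = n22958 := ndS (p := 21192) (l := 2) rfl N21192 D22958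
theorem N22921 : nd 22921 = n22959 := ndS (p := 21192) (l := 4) rfl N21192 D22959
theorem N22922 : nd 22922 = n22960 := ndS (p := 21194) (l := 1) rfl N21194 D22960
theorem N22923 : nd 22923 = n22961 := ndS (p := 21200) (l := 3) rfl N21200 D22961
theorem N22924 : nd 22924 = n22962 := ndS (p := 21200) (l := 5) rfl N21200 D22962
theorem N22925 : nd 22925 = n22963 := ndS (p := 21206) (l := 0) rfl N21206 D22963
theorem N22926 : nd 22926 = n22964 := ndS (p := 21206) (l := 3) rfl N21206 D22964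
theorem N22927 : nd 22927 = n22965 := ndS (p := 21208) (l := 2) rfl N21208 D22965
theorem N22928 : nd 22928 = n22966 := ndS (p := 21208) (l := 4) rfl N21208 D22966
theorem N22929 : nd 22929 = n22967 := ndS (p := 21209) (l := 1) rfl N21209 D22967
theorem N22930 : nd 22930 = n22968 := ndS (p := 21209) (l := 4) rfl N21209 D22968
theorem N22931 : nd 22931 = n22969 := ndS (p := 21210) (l := 5) rfl N21210 D22969
theorem N22932 : nd 22932 = n22970 := ndS (p := 21212) (l := 3) rfl N21212 D22970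
theorem N22933 : nd 22933 = n22971 := ndS (p := 21212) (l := 4) rfl N21212 D22971
theorem N22934 : nd 22934 = n22972 := ndS (p := 21213) (l := 5) rfl N21213 D22972
theorem N22935 : nd 22935 = n22973 := ndS (p := 21215) (l := 2) rfl N21215 D22973
theorem N22936 : nd 22936 = n22974 := ndS (p := 21215) (l := 4) rfl N21215 D22974
theorem N22937 : nd 22937 = n22975 := ndS (p := 21216) (l := 4) rfl N21216 D22975
theorem N22938 : nd 22938 = n22976 := ndS (p := 21219) (l := 3) rfl N21219 D22976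
theorem N22939 : nd 22939 = n22977 := ndS (p := 21219) (l := 4) rfl N21219 D22977
theorem N22940 : nd 22940 = n22978 := ndS (p := 21220) (l := 5) rfl N21220 D22978
theorem N22941 : nd 22941 = n22979 := ndS (p := 21221) (l := 3) rfl N21221 D22979
theorem N22942 : nd 22942 = n22980 := ndS (p := 21226) (l := 5) rfl N21226 D22980
theorem N22943 : nd 22943 = n22981 := ndS (p := 21227) (l := 3) rfl N21227 D22981
theorem N22944 : nd 22944 = n22982 := ndS (p := 21228) (l := 2) rfl N21228 D22982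
theorem N22945 : nd 22945 = n22983 := ndS (p := 21228) (l := 4) rfl N21228 D22983
theorem N22946 : nd 22946 = n22984 := ndS (p := 21229) (l := 5) rfl N21229 D22984
theorem N22947 : nd 22947 = n22985 := ndS (p := 21230) (l := 3) rfl N21230 D22985
theorem N22948 : nd 22948 = n22986 := ndS (p := 21231) (l := 4) rfl N21231 D22986
theorem N22949 : nd 22949 = n22987 := ndS (p := 21232) (l := 1) rfl N21232 D22987
theorem N22950 : nd 22950 = n22988 := ndS (p := 21232) (l := 4) rfl N21232 D22988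
theorem N22951 : nd 22951 = n22989 := ndS (p := 21233) (l := 5) rfl N21233 D22989
theorem N22952 : nd 22952 = n22990 := ndS (p := 21234) (l := 4) rfl N21234 D22990
theorem N22953 : nd 22953 = n22991 := ndS (p := 21235) (l := 5) rfl N21235 D22991
theorem N22954 : nd 22954 = n22992 := ndS (p := 21236) (l := 4) rfl N21236 D22992
theorem N22955 : nd 22955 = n22993 := ndS (p := 21237) (l := 3) rfl N21237 D22993
theorem N22956 : nd 22956 = n22994 := ndS (p := 21238) (l := 2) rfl N21238 D22994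
theorem N22957 : nd 22957 = n22995 := ndS (p := 21241) (l := 3) rfl N21241 D22995
theorem N22958 : nd 22958 = n22996 := ndS (p := 21241) (l := 5) rfl N21241 D22996
theorem N22959 : nd 22959 = n22997 := ndS (p := 21242) (l := 4) rfl N21242 D22997
theorem N22960 : nd 22960 = n22998 := ndS (p := 21245) (l := 2) rfl N21245 D22998
theorem N22961 : nd 22961 = n22999 := ndS (p := 21245) (l := 4) rfl N21245 D22999
theorem N22962 : nd 22962 = n23000 := ndS (p := 21246) (l := 3) rfl N21246 D23000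
theorem N22963 : nd 22963 = n23001 := ndS (p := 21246) (l := 4) rfl N21246 D23001
theorem N22964 : nd 22964 = n23002 := ndS (p := 21247) (l := 5) rfl N21247 D23002
theorem N22965 : nd 22965 = n23003 := ndS (p := 21249) (l := 5) rfl N21249 D23003
theorem N22966 : nd 22966 = n23004 := ndS (p := 21251) (l := 4) rfl N21251 D23004
theorem N22967 : nd 22967 = n23005 := ndS (p := 21256) (l := 3) rfl N21256 D23005
theorem N22968 : nd 22968 = n23006 := ndS (p := 21257) (l := 2) rfl N21257 D23006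
theorem N22969 : nd 22969 = n23007 := ndS (p := 21257) (l := 4) rfl N21257 D23007
theorem N22970 : nd 22970 = n23008 := ndS (p := 21257) (l := 5) rfl N21257 D23008
theorem N22971 : nd 22971 = n23009 := ndS (p := 21258) (l := 4) rfl N21258 D23009
theorem N22972 : nd 22972 = n23010 := ndS (p := 21264) (l := 3) rfl N21264 D23010
theorem N22973 : nd 22973 = n23011 := ndS (p := 21264) (l := 4) rfl N21264 D23011
theorem N22974 : nd 22974 = n23012 := ndS (p := 21265) (l := 5) rfl N21265 D23012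
theorem N22975 : nd 22975 = n23013 := ndS (p := 21266) (l := 2) rfl N21266 D23013
theorem N22976 : nd 22976 = n23014 := ndS (p := 21266) (l := 4) rfl N21266 D23014
theorem N22977 : nd 22977 = n23015 := ndS (p := 21267) (l := 3) rfl N21267 D23015
theorem N22978 : nd 22978 = n23016 := ndS (p := 21267) (l := 5) rfl N21267 D23016
theorem N22979 : nd 22979 = n23017 := ndS (p := 21269) (l := 3) rfl N21269 D23017
theorem N22980 : nd 22980 = n23018 := ndS (p := 21269) (l := 4) rfl N21269 D23018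
theorem N22981 : nd 22981 = n23019 := ndS (p := 21270) (l := 5) rfl N21270 D23019
theorem N22982 : nd 22982 = n23020 := ndS (p := 21271) (l := 3) rfl N21271 D23020
theorem N22983 : nd 22983 = n23021 := ndS (p := 21273) (l := 2) rfl N21273 D23021
theorem N22984 : nd 22984 = n23022 := ndS (p := 21274) (l := 2) rfl N21274 D23022
theorem N22985 : nd 22985 = n23023 := ndS (p := 21274) (l := 4) rfl N21274 D23023
theorem N22986 : nd 22986 = n23024 := ndS (p := 21275) (l := 3) rfl N21275 D23024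
theorem N22987 : nd 22987 = n23025 := ndS (p := 21275) (l := 5) rfl N21275 D23025
theorem N22988 : nd 22988 = n23026 := ndS (p := 21277) (l := 2) rfl N21277 D23026
theorem N22989 : nd 22989 = n23027 := ndS (p := 21278) (l := 1) rfl N21278 D23027
theorem N22990 : nd 22990 = n23028 := ndS (p := 21278) (l := 3) rfl N21278 D23028
theorem N22991 : nd 22991 = n23029 := ndS (p := 21281) (l := 3) rfl N21281 D23029
theorem N22992 : nd 22992 = n23030 := ndS (p := 21281) (l := 5) rfl N21281 D23030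
theorem N22993 : nd 22993 = n23031 := ndS (p := 21286) (l := 3) rfl N21286 D23031
theorem N22994 : nd 22994 = n23032 := ndS (p := 21287) (l := 2) rfl N21287 D23032
theorem N22995 : nd 22995 = n23033 := ndS (p := 21288) (l := 1) rfl N21288 D23033
theorem N22996 : nd 22996 = n23034 := ndS (p := 21289) (l := 4) rfl N21289 D23034
theorem N22997 : nd 22997 = n23035 := ndS (p := 21290) (l := 3) rfl N21290 D23035
theorem N22998 : nd 22998 = n23036 := ndS (p := 21290) (l := 5) rfl N21290 D23036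
theorem N22999 : nd 22999 = n23037 := ndS (p := 21291) (l := 2) rfl N21291 D23037
theorem N23000 : nd 23000 = n23038 := ndS (p := 21291) (l := 4) rfl N21291 D23038
theorem N23001 : nd 23001 = n23039 := ndS (p := 21292) (l := 4) rfl N21292 D23039
theorem N23002 : nd 23002 = n23040 := ndS (p := 21293) (l := 5) rfl N21293 D23040
theorem N23003 : nd 23003 = n23041 := ndS (p := 21294) (l := 3) rfl N21294 D23041
theorem N23004 : nd 23004 = n23042 := ndS (p := 21295) (l := 5) rfl N21295 D23042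
theorem N23005 : nd 23005 = n23043 := ndS (p := 21297) (l := 1) rfl N21297 D23043
theorem N23006 : nd 23006 = n23044 := ndS (p := 21297) (l := 5) rfl N21297 D23044
theorem N23007 : nd 23007 = n23045 := ndS (p := 21305) (l := 3) rfl N21305 D23045
theorem N23008 : nd 23008 = n23046 := ndS (p := 21305) (l := 5) rfl N21305 D23046
theorem N23009 : nd 23009 = n23047 := ndS (p := 21308) (l := 4) rfl N21308 D23047
theorem N23010 : nd 23010 = n23048 := ndS (p := 21309) (l := 4) rfl N21309 D23048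
theorem N23011 : nd 23011 = n23049 := ndS (p := 21310) (l := 3) rfl N21310 D23049
theorem N23012 : nd 23012 = n23050 := ndS (p := 21310) (l := 5) rfl N21310 D23050
theorem N23013 : nd 23013 = n23051 := ndS (p := 21312) (l := 4) rfl N21312 D23051
theorem N23014 : nd 23014 = n23052 := ndS (p := 21313) (l := 3) rfl N21313 D23052
theorem N23015 : nd 23015 = n23053 := ndS (p := 21313) (l := 5) rfl N21313 D23053
theorem N23016 : nd 23016 = n23054 := ndS (p := 21314) (l := 2) rfl N21314 D23054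
theorem N23017 : nd 23017 = n23055 := ndS (p := 21318) (l := 3) rfl N21318 D23055
theorem N23018 : nd 23018 = n23056 := ndS (p := 21321) (l := 4) rfl N21321 D23056
theorem N23019 : nd 23019 = n23057 := ndS (p := 21322) (l := 4) rfl N21322 D23057
theorem N23020 : nd 23020 = n23058 := ndS (p := 21323) (l := 3) rfl N21323 D23058
theorem N23021 : nd 23021 = n23059 := ndS (p := 21334) (l := 4) rfl N21334 D23059
theorem N23022 : nd 23022 = n23060 := ndS (p := 21335) (l := 3) rfl N21335 D23060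
theorem N23023 : nd 23023 = n23061 := ndS (p := 21335) (l := 5) rfl N21335 D23061
theorem N23024 : nd 23024 = n23062 := ndS (p := 21336) (l := 5) rfl N21336 D23062
theorem N23025 : nd 23025 = n23063 := ndS (p := 21338) (l := 4) rfl N21338 D23063
theorem N23026 : nd 23026 = n23064 := ndS (p := 21339) (l := 3) rfl N21339 D23064
theorem N23027 : nd 23027 = n23065 := ndS (p := 21339) (l := 5) rfl N21339 D23065
theorem N23028 : nd 23028 = n23066 := ndS (p := 21340) (l := 4) rfl N21340 D23066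
theorem N23029 : nd 23029 = n23067 := ndS (p := 21341) (l := 3) rfl N21341 D23067
theorem N23030 : nd 23030 = n23068 := ndS (p := 21341) (l := 5) rfl N21341 D23068
theorem N23031 : nd 23031 = n23069 := ndS (p := 21342) (l := 2) rfl N21342 D23069
theorem N23032 : nd 23032 = n23070 := ndS (p := 21342) (l := 5) rfl N21342 D23070
theorem N23033 : nd 23033 = n23071 := ndS (p := 21349) (l := 3) rfl N21349 D23071
theorem N23034 : nd 23034 = n23072 := ndS (p := 21349) (l := 5) rfl N21349 D23072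
theorem N23035 : nd 23035 = n23073 := ndS (p := 21350) (l := 4) rfl N21350 D23073
theorem N23036 : nd 23036 = n23074 := ndS (p := 21351) (l := 3) rfl N21351 D23074
theorem N23037 : nd 23037 = n23075 := ndS (p := 21351) (l := 5) rfl N21351 D23075
theorem N23038 : nd 23038 = n23076 := ndS (p := 21355) (l := 4) rfl N21355 D23076
theorem N23039 : nd 23039 = n23077 := ndS (p := 21356) (l := 5) rfl N21356 D23077
theorem N23040 : nd 23040 = n23078 := ndS (p := 21358) (l := 4) rfl N21358 D23078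
theorem N23041 : nd 23041 = n23079 := ndS (p := 21359) (l := 3) rfl N21359 D23079
theorem N23042 : nd 23042 = n23080 := ndS (p := 21359) (l := 5) rfl N21359 D23080
theorem N23043 : nd 23043 = n23081 := ndS (p := 21360) (l := 2) rfl N21360 D23081
theorem N23044 : nd 23044 = n23082 := ndS (p := 21360) (l := 5) rfl N21360 D23082
theorem N23045 : nd 23045 = n23083 := ndS (p := 21364) (l := 3) rfl N21364 D23083
theorem N23046 : nd 23046 = n23084 := ndS (p := 21365) (l := 4) rfl N21365 D23084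
theorem N23047 : nd 23047 = n23085 := ndS (p := 21368) (l := 3) rfl N21368 D23085
theorem N23048 : nd 23048 = n23086 := ndS (p := 21368) (l := 4) rfl N21368 D23086
theorem N23049 : nd 23049 = n23087 := ndS (p := 21369) (l := 4) rfl N21369 D23087
theorem N23050 : nd 23050 = n23088 := ndS (p := 21372) (l := 3) rfl N21372 D23088
theorem N23051 : nd 23051 = n23089 := ndS (p := 21372) (l := 5) rfl N21372 D23089
theorem N23052 : nd 23052 = n23090 := ndS (p := 21373) (l := 5) rfl N21373 D23090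
theorem N23053 : nd 23053 = n23091 := ndS (p := 21375) (l := 3) rfl N21375 D23091
theorem N23054 : nd 23054 = n23092 := ndS (p := 21377) (l := 2) rfl N21377 D23092
theorem N23055 : nd 23055 = n23093 := ndS (p := 21377) (l := 4) rfl N21377 D23093
theorem N23056 : nd 23056 = n23094 := ndS (p := 21378) (l := 3) rfl N21378 D23094
theorem N23057 : nd 23057 = n23095 := ndS (p := 21380) (l := 2) rfl N21380 D23095
theorem N23058 : nd 23058 = n23096 := ndS (p := 21382) (l := 2) rfl N21382 D23096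
theorem N23059 : nd 23059 = n23097 := ndS (p := 21383) (l := 1) rfl N21383 D23097
theorem N23060 : nd 23060 = n23098 := ndS (p := 21384) (l := 0) rfl N21384 D23098
theorem N23061 : nd 23061 = n23099 := ndS (p := 21385) (l := 5) rfl N21385 D23099
theorem N23062 : nd 23062 = n23100 := ndS (p := 21386) (l := 3) rfl N21386 D23100
theorem N23063 : nd 23063 = n23101 := ndS (p := 21386) (l := 5) rfl N21386 D23101
theorem N23064 : nd 23064 = n23102 := ndS (p := 21390) (l := 4) rfl N21390 D23102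
theorem N23065 : nd 23065 = n23103 := ndS (p := 21391) (l := 4) rfl N21391 D23103
theorem N23066 : nd 23066 = n23104 := ndS (p := 21392) (l := 3) rfl N21392 D23104
theorem N23067 : nd 23067 = n23105 := ndS (p := 21392) (l := 5) rfl N21392 D23105
theorem N23068 : nd 23068 = n23106 := ndS (p := 21395) (l := 5) rfl N21395 D23106
theorem N23069 : nd 23069 = n23107 := ndS (p := 21396) (l := 4) rfl N21396 D23107
theorem N23070 : nd 23070 = n23108 := ndS (p := 21397) (l := 3) rfl N21397 D23108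
theorem N23071 : nd 23071 = n23109 := ndS (p := 21398) (l := 3) rfl N21398 D23109
theorem N23072 : nd 23072 = n23110 := ndS (p := 21399) (l := 2) rfl N21399 D23110
theorem N23073 : nd 23073 = n23111 := ndS (p := 21400) (l := 2) rfl N21400 D23111
theorem N23074 : nd 23074 = n23112 := ndS (p := 21400) (l := 5) rfl N21400 D23112
theorem N23075 : nd 23075 = n23113 := ndS (p := 21402) (l := 1) rfl N21402 D23113
theorem N23076 : nd 23076 = n23114 := ndS (p := 21402) (l := 5) rfl N21402 D23114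
theorem N23077 : nd 23077 = n23115 := ndS (p := 21405) (l := 4) rfl N21405 D23115
theorem N23078 : nd 23078 = n23116 := ndS (p := 21406) (l := 5) rfl N21406 D23116
theorem N23079 : nd 23079 = n23117 := ndS (p := 21408) (l := 4) rfl N21408 D23117
theorem N23080 : nd 23080 = n23118 := ndS (p := 21410) (l := 2) rfl N21410 D23118
theorem N23081 : nd 23081 = n23119 := ndS (p := 21412) (l := 2) rfl N21412 D23119
theorem N23082 : nd 23082 = n23120 := ndS (p := 21412) (l := 4) rfl N21412 D23120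
theorem N23083 : nd 23083 = n23121 := ndS (p := 21413) (l := 4) rfl N21413 D23121
theorem N23084 : nd 23084 = n23122 := ndS (p := 21414) (l := 5) rfl N21414 D23122
theorem N23085 : nd 23085 = n23123 := ndS (p := 21416) (l := 3) rfl N21416 D23123
theorem N23086 : nd 23086 = n23124 := ndS (p := 21416) (l := 4) rfl N21416 D23124
theorem N23087 : nd 23087 = n23125 := ndS (p := 21417) (l := 5) rfl N21417 D23125
theorem N23088 : nd 23088 = n23126 := ndS (p := 21419) (l := 4) rfl N21419 D23126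
theorem N23089 : nd 23089 = n23127 := ndS (p := 21420) (l := 3) rfl N21420 D23127
theorem N23090 : nd 23090 = n23128 := ndS (p := 21420) (l := 5) rfl N21420 D23128
theorem N23091 : nd 23091 = n23129 := ndS (p := 21423) (l := 3) rfl N21423 D23129
theorem N23092 : nd 23092 = n23130 := ndS (p := 21423) (l := 5) rfl N21423 D23130
theorem N23093 : nd 23093 = n23131 := ndS (p := 21424) (l := 4) rfl N21424 D23131
theorem N23094 : nd 23094 = n23132 := ndS (p := 21426) (l := 4) rfl N21426 D23132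
theorem N23095 : nd 23095 = n23133 := ndS (p := 21428) (l := 2) rfl N21428 D23133
theorem N23096 : nd 23096 = n23134 := ndS (p := 21435) (l := 3) rfl N21435 D23134
theorem N23097 : nd 23097 = n23135 := ndS (p := 21435) (l := 5) rfl N21435 D23135
theorem N23098 : nd 23098 = n23136 := ndS (p := 21436) (l := 2) rfl N21436 D23136
theorem N23099 : nd 23099 = n23137 := ndS (p := 21436) (l := 4) rfl N21436 D23137
theorem N23100 : nd 23100 = n23138 := ndS (p := 21436) (l := 5) rfl N21436 D23138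
theorem N23101 : nd 23101 = n23139 := ndS (p := 21437) (l := 4) rfl N21437 D23139
theorem N23102 : nd 23102 = n23140 := ndS (p := 21438) (l := 1) rfl N21438 D23140
theorem N23103 : nd 23103 = n23141 := ndS (p := 21438) (l := 4) rfl N21438 D23141
theorem N23104 : nd 23104 = n23142 := ndS (p := 21442) (l := 4) rfl N21442 D23142
theorem N23105 : nd 23105 = n23143 := ndS (p := 21445) (l := 3) rfl N21445 D23143
theorem N23106 : nd 23106 = n23144 := ndS (p := 21445) (l := 4) rfl N21445 D23144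
theorem N23107 : nd 23107 = n23145 := ndS (p := 21447) (l := 2) rfl N21447 D23145
theorem N23108 : nd 23108 = n23146 := ndS (p := 21447) (l := 4) rfl N21447 D23146
theorem N23109 : nd 23109 = n23147 := ndS (p := 21448) (l := 3) rfl N21448 D23147
theorem N23110 : nd 23110 = n23148 := ndS (p := 21448) (l := 5) rfl N21448 D23148
theorem N23111 : nd 23111 = n23149 := ndS (p := 21450) (l := 5) rfl N21450 D23149
theorem N23112 : nd 23112 = n23150 := ndS (p := 21451) (l := 5) rfl N21451 D23150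
theorem N23113 : nd 23113 = n23151 := ndS (p := 21454) (l := 4) rfl N21454 D23151
theorem N23114 : nd 23114 = n23152 := ndS (p := 21458) (l := 2) rfl N21458 D23152
theorem N23115 : nd 23115 = n23153 := ndS (p := 21460) (l := 1) rfl N21460 D23153
theorem N23116 : nd 23116 = n23154 := ndS (p := 21460) (l := 3) rfl N21460 D23154
theorem N23117 : nd 23117 = n23155 := ndS (p := 21461) (l := 1) rfl N21461 D23155
theorem N23118 : nd 23118 = n23156 := ndS (p := 21463) (l := 3) rfl N21463 D23156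
theorem N23119 : nd 23119 = n23157 := ndS (p := 21463) (l := 5) rfl N21463 D23157
theorem N23120 : nd 23120 = n23158 := ndS (p := 21464) (l := 2) rfl N21464 D23158
theorem N23121 : nd 23121 = n23159 := ndS (p := 21465) (l := 4) rfl N21465 D23159
theorem N23122 : nd 23122 = n23160 := ndS (p := 21467) (l := 2) rfl N21467 D23160
theorem N23123 : nd 23123 = n23161 := ndS (p := 21473) (l := 3) rfl N21473 D23161
theorem N23124 : nd 23124 = n23162 := ndS (p := 21474) (l := 2) rfl N21474 D23162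
theorem N23125 : nd 23125 = n23163 := ndS (p := 21476) (l := 3) rfl N21476 D23163
theorem N23126 : nd 23126 = n23164 := ndS (p := 21479) (l := 4) rfl N21479 D23164
theorem N23127 : nd 23127 = n23165 := ndS (p := 21480) (l := 3) rfl N21480 D23165
theorem N23128 : nd 23128 = n23166 := ndS (p := 21481) (l := 3) rfl N21481 D23166
theorem N23129 : nd 23129 = n23167 := ndS (p := 21481) (l := 5) rfl N21481 D23167
theorem N23130 : nd 23130 = n23168 := ndS (p := 21482) (l := 2) rfl N21482 D23168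
theorem N23131 : nd 23131 = n23169 := ndS (p := 21482) (l := 5) rfl N21482 D23169
theorem N23132 : nd 23132 = n23170 := ndS (p := 21485) (l := 4) rfl N21485 D23170
theorem N23133 : nd 23133 = n23171 := ndS (p := 21486) (l := 4) rfl N21486 D23171
theorem N23134 : nd 23134 = n23172 := ndS (p := 21497) (l := 4) rfl N21497 D23172
theorem N23135 : nd 23135 = n23173 := ndS (p := 21498) (l := 4) rfl N21498 D23173
theorem N23136 : nd 23136 = n23174 := ndS (p := 21499) (l := 3) rfl N21499 D23174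
theorem N23137 : nd 23137 = n23175 := ndS (p := 21499) (l := 5) rfl N21499 D23175
theorem N23138 : nd 23138 = n23176 := ndS (p := 21500) (l := 2) rfl N21500 D23176
theorem N23139 : nd 23139 = n23177 := ndS (p := 21502) (l := 5) rfl N21502 D23177
theorem N23140 : nd 23140 = n23178 := ndS (p := 21505) (l := 4) rfl N21505 D23178
theorem N23141 : nd 23141 = n23179 := ndS (p := 21506) (l := 5) rfl N21506 D23179
theorem N23142 : nd 23142 = n23180 := ndS (p := 21508) (l := 4) rfl N21508 D23180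
theorem N23143 : nd 23143 = n23181 := ndS (p := 21509) (l := 3) rfl N21509 D23181
theorem N23144 : nd 23144 = n23182 := ndS (p := 21509) (l := 5) rfl N21509 D23182
theorem N23145 : nd 23145 = n23183 := ndS (p := 21510) (l := 2) rfl N21510 D23183
theorem N23146 : nd 23146 = n23184 := ndS (p := 21510) (l := 5) rfl N21510 D23184
theorem N23147 : nd 23147 = n23185 := ndS (p := 21512) (l := 4) rfl N21512 D23185
theorem N23148 : nd 23148 = n23186 := ndS (p := 21513) (l := 3) rfl N21513 D23186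
theorem N23149 : nd 23149 = n23187 := ndS (p := 21513) (l := 5) rfl N21513 D23187
theorem N23150 : nd 23150 = n23188 := ndS (p := 21515) (l := 4) rfl N21515 D23188
theorem N23151 : nd 23151 = n23189 := ndS (p := 21517) (l := 3) rfl N21517 D23189
theorem N23152 : nd 23152 = n23190 := ndS (p := 21519) (l := 3) rfl N21519 D23190
theorem N23153 : nd 23153 = n23191 := ndS (p := 21519) (l := 4) rfl N21519 D23191
theorem N23154 : nd 23154 = n23192 := ndS (p := 21520) (l := 5) rfl N21520 D23192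
theorem N23155 : nd 23155 = n23193 := ndS (p := 21521) (l := 3) rfl N21521 D23193
theorem N23156 : nd 23156 = n23194 := ndS (p := 21523) (l := 3) rfl N21523 D23194
theorem N23157 : nd 23157 = n23195 := ndS (p := 21523) (l := 5) rfl N21523 D23195
theorem N23158 : nd 23158 = n23196 := ndS (p := 21525) (l := 2) rfl N21525 D23196
theorem N23159 : nd 23159 = n23197 := ndS (p := 21526) (l := 1) rfl N21526 D23197
theorem N23160 : nd 23160 = n23198 := ndS (p := 21528) (l := 3) rfl N21528 D23198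
theorem N23161 : nd 23161 = n23199 := ndS (p := 21529) (l := 4) rfl N21529 D23199
theorem N23162 : nd 23162 = n23200 := ndS (p := 21531) (l := 4) rfl N21531 D23200
theorem N23163 : nd 23163 = n23201 := ndS (p := 21532) (l := 0) rfl N21532 D23201
theorem N23164 : nd 23164 = n23202 := ndS (p := 21533) (l := 4) rfl N21533 D23202
theorem N23165 : nd 23165 = n23203 := ndS (p := 21542) (l := 3) rfl N21542 D23203
theorem N23166 : nd 23166 = n23204 := ndS (p := 21545) (l := 2) rfl N21545 D23204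
theorem N23167 : nd 23167 = n23205 := ndS (p := 21549) (l := 4) rfl N21549 D23205
theorem N23168 : nd 23168 = n23206 := ndS (p := 21550) (l := 3) rfl N21550 D23206
theorem N23169 : nd 23169 = n23207 := ndS (p := 21552) (l := 4) rfl N21552 D23207
theorem N23170 : nd 23170 = n23208 := ndS (p := 21553) (l := 3) rfl N21553 D23208
theorem N23171 : nd 23171 = n23209 := ndS (p := 21553) (l := 5) rfl N21553 D23209
theorem N23172 : nd 23172 = n23210 := ndS (p := 21556) (l := 2) rfl N21556 D23210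
theorem N23173 : nd 23173 = n23211 := ndS (p := 21558) (l := 1) rfl N21558 D23211
theorem N23174 : nd 23174 = n23212 := ndS (p := 21558) (l := 3) rfl N21558 D23212
theorem N23175 : nd 23175 = n23213 := ndS (p := 21559) (l := 3) rfl N21559 D23213
theorem N23176 : nd 23176 = n23214 := ndS (p := 21559) (l := 5) rfl N21559 D23214
theorem N23177 : nd 23177 = n23215 := ndS (p := 21560) (l := 2) rfl N21560 D23215
theorem N23178 : nd 23178 = n23216 := ndS (p := 21562) (l := 1) rfl N21562 D23216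
theorem N23179 : nd 23179 = n23217 := ndS (p := 21562) (l := 3) rfl N21562 D23217
theorem N23180 : nd 23180 = n23218 := ndS (p := 21562) (l := 5) rfl N21562 D23218
theorem N23181 : nd 23181 = n23219 := ndS (p := 21564) (l := 3) rfl N21564 D23219
theorem N23182 : nd 23182 = n23220 := ndS (p := 21565) (l := 4) rfl N21565 D23220
theorem N23183 : nd 23183 = n23221 := ndS (p := 21566) (l := 3) rfl N21566 D23221
theorem N23184 : nd 23184 = n23222 := ndS (p := 21572) (l := 2) rfl N21572 D23222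
theorem N23185 : nd 23185 = n23223 := ndS (p := 21572) (l := 4) rfl N21572 D23223
theorem N23186 : nd 23186 = n23224 := ndS (p := 21574) (l := 3) rfl N21574 D23224
theorem N23187 : nd 23187 = n23225 := ndS (p := 21574) (l := 4) rfl N21574 D23225
theorem N23188 : nd 23188 = n23226 := ndS (p := 21575) (l := 5) rfl N21575 D23226
theorem N23189 : nd 23189 = n23227 := ndS (p := 21579) (l := 5) rfl N21579 D23227
theorem N23190 : nd 23190 = n23228 := ndS (p := 21581) (l := 3) rfl N21581 D23228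
theorem N23191 : nd 23191 = n23229 := ndS (p := 21581) (l := 5) rfl N21581 D23229
theorem N23192 : nd 23192 = n23230 := ndS (p := 21588) (l := 2) rfl N21588 D23230
theorem N23193 : nd 23193 = n23231 := ndS (p := 21592) (l := 2) rfl N21592 D23231
theorem N23194 : nd 23194 = n23232 := ndS (p := 21593) (l := 4) rfl N21593 D23232
theorem N23195 : nd 23195 = n23233 := ndS (p := 21594) (l := 1) rfl N21594 D23233
theorem N23196 : nd 23196 = n23234 := ndS (p := 21594) (l := 4) rfl N21594 D23234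
theorem N23197 : nd 23197 = n23235 := ndS (p := 21595) (l := 5) rfl N21595 D23235
theorem N23198 : nd 23198 = n23236 := ndS (p := 21596) (l := 0) rfl N21596 D23236
theorem N23199 : nd 23199 = n23237 := ndS (p := 21596) (l := 4) rfl N21596 D23237
theorem N23200 : nd 23200 = n23238 := ndS (p := 21597) (l := 3) rfl N21597 D23238
theorem N23201 : nd 23201 = n23239 := ndS (p := 21597) (l := 5) rfl N21597 D23239
theorem N23202 : nd 23202 = n23240 := ndS (p := 21598) (l := 4) rfl N21598 D23240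
theorem N23203 : nd 23203 = n23241 := ndS (p := 21600) (l := 5) rfl N21600 D23241
theorem N23204 : nd 23204 = n23242 := ndS (p := 21602) (l := 3) rfl N21602 D23242
theorem N23205 : nd 23205 = n23243 := ndS (p := 21603) (l := 3) rfl N21603 D23243
theorem N23206 : nd 23206 = n23244 := ndS (p := 21604) (l := 2) rfl N21604 D23244
theorem N23207 : nd 23207 = n23245 := ndS (p := 21605) (l := 2) rfl N21605 D23245
theorem N23208 : nd 23208 = n23246 := ndS (p := 21607) (l := 4) rfl N21607 D23246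
theorem N23209 : nd 23209 = n23247 := ndS (p := 21608) (l := 3) rfl N21608 D23247
theorem N23210 : nd 23210 = n23248 := ndS (p := 21608) (l := 5) rfl N21608 D23248
theorem N23211 : nd 23211 = n23249 := ndS (p := 21610) (l := 4) rfl N21610 D23249
theorem N23212 : nd 23212 = n23250 := ndS (p := 21611) (l := 3) rfl N21611 D23250
theorem N23213 : nd 23213 = n23251 := ndS (p := 21611) (l := 5) rfl N21611 D23251
theorem N23214 : nd 23214 = n23252 := ndS (p := 21612) (l := 2) rfl N21612 D23252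
theorem N23215 : nd 23215 = n23253 := ndS (p := 21612) (l := 5) rfl N21612 D23253
theorem N23216 : nd 23216 = n23254 := ndS (p := 21614) (l := 1) rfl N21614 D23254
theorem N23217 : nd 23217 = n23255 := ndS (p := 21614) (l := 3) rfl N21614 D23255
theorem N23218 : nd 23218 = n23256 := ndS (p := 21615) (l := 3) rfl N21615 D23256
theorem N23219 : nd 23219 = n23257 := ndS (p := 21617) (l := 2) rfl N21617 D23257
theorem N23220 : nd 23220 = n23258 := ndS (p := 21617) (l := 4) rfl N21617 D23258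
theorem N23221 : nd 23221 = n23259 := ndS (p := 21620) (l := 3) rfl N21620 D23259
theorem N23222 : nd 23222 = n23260 := ndS (p := 21625) (l := 3) rfl N21625 D23260
theorem N23223 : nd 23223 = n23261 := ndS (p := 21626) (l := 2) rfl N21626 D23261
theorem N23224 : nd 23224 = n23262 := ndS (p := 21627) (l := 2) rfl N21627 D23262
theorem N23225 : nd 23225 = n23263 := ndS (p := 21628) (l := 1) rfl N21628 D23263
theorem N23226 : nd 23226 = n23264 := ndS (p := 21629) (l := 4) rfl N21629 D23264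
theorem N23227 : nd 23227 = n23265 := ndS (p := 21632) (l := 3) rfl N21632 D23265
theorem N23228 : nd 23228 = n23266 := ndS (p := 21633) (l := 3) rfl N21633 D23266
theorem N23229 : nd 23229 = n23267 := ndS (p := 21633) (l := 5) rfl N21633 D23267
theorem N23230 : nd 23230 = n23268 := ndS (p := 21634) (l := 2) rfl N21634 D23268
theorem N23231 : nd 23231 = n23269 := ndS (p := 21634) (l := 5) rfl N21634 D23269
theorem N23232 : nd 23232 = n23270 := ndS (p := 21637) (l := 4) rfl N21637 D23270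
theorem N23233 : nd 23233 = n23271 := ndS (p := 21641) (l := 4) rfl N21641 D23271
theorem N23234 : nd 23234 = n23272 := ndS (p := 21642) (l := 3) rfl N21642 D23272
theorem N23235 : nd 23235 = n23273 := ndS (p := 21642) (l := 5) rfl N21642 D23273
theorem N23236 : nd 23236 = n23274 := ndS (p := 21644) (l := 2) rfl N21644 D23274
theorem N23237 : nd 23237 = n23275 := ndS (p := 21647) (l := 0) rfl N21647 D23275
theorem N23238 : nd 23238 = n23276 := ndS (p := 21648) (l := 3) rfl N21648 D23276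
theorem N23239 : nd 23239 = n23277 := ndS (p := 21648) (l := 5) rfl N21648 D23277
theorem N23240 : nd 23240 = n23278 := ndS (p := 21649) (l := 2) rfl N21649 D23278
theorem N23241 : nd 23241 = n23279 := ndS (p := 21649) (l := 4) rfl N21649 D23279
theorem N23242 : nd 23242 = n23280 := ndS (p := 21649) (l := 5) rfl N21649 D23280
theorem N23243 : nd 23243 = n23281 := ndS (p := 21650) (l := 4) rfl N21650 D23281
theorem N23244 : nd 23244 = n23282 := ndS (p := 21651) (l := 4) rfl N21651 D23282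
theorem N23245 : nd 23245 = n23283 := ndS (p := 21652) (l := 5) rfl N21652 D23283
theorem N23246 : nd 23246 = n23284 := ndS (p := 21655) (l := 4) rfl N21655 D23284
theorem N23247 : nd 23247 = n23285 := ndS (p := 21656) (l := 3) rfl N21656 D23285
theorem N23248 : nd 23248 = n23286 := ndS (p := 21658) (l := 1) rfl N21658 D23286
theorem N23249 : nd 23249 = n23287 := ndS (p := 21658) (l := 3) rfl N21658 D23287
theorem N23250 : nd 23250 = n23288 := ndS (p := 21658) (l := 4) rfl N21658 D23288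
theorem N23251 : nd 23251 = n23289 := ndS (p := 21660) (l := 0) rfl N21660 D23289
theorem N23252 : nd 23252 = n23290 := ndS (p := 21660) (l := 3) rfl N21660 D23290
theorem N23253 : nd 23253 = n23291 := ndS (p := 21660) (l := 4) rfl N21660 D23291
theorem N23254 : nd 23254 = n23292 := ndS (p := 21661) (l := 2) rfl N21661 D23292
theorem N23255 : nd 23255 = n23293 := ndS (p := 21661) (l := 4) rfl N21661 D23293
theorem N23256 : nd 23256 = n23294 := ndS (p := 21661) (l := 5) rfl N21661 D23294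
theorem N23257 : nd 23257 = n23295 := ndS (p := 21662) (l := 3) rfl N21662 D23295
theorem N23258 : nd 23258 = n23296 := ndS (p := 21664) (l := 4) rfl N21664 D23296
theorem N23259 : nd 23259 = n23297 := ndS (p := 21665) (l := 3) rfl N21665 D23297
theorem N23260 : nd 23260 = n23298 := ndS (p := 21667) (l := 3) rfl N21667 D23298
theorem N23261 : nd 23261 = n23299 := ndS (p := 21668) (l := 2) rfl N21668 D23299
theorem N23262 : nd 23262 = n23300 := ndS (p := 21669) (l := 5) rfl N21669 D23300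
theorem N23263 : nd 23263 = n23301 := ndS (p := 21671) (l := 3) rfl N21671 D23301
theorem N23264 : nd 23264 = n23302 := ndS (p := 21672) (l := 2) rfl N21672 D23302
theorem N23265 : nd 23265 = n23303 := ndS (p := 21673) (l := 4) rfl N21673 D23303
theorem N23266 : nd 23266 = n23304 := ndS (p := 21674) (l := 4) rfl N21674 D23304
theorem N23267 : nd 23267 = n23305 := ndS (p := 21675) (l := 3) rfl N21675 D23305
theorem N23268 : nd 23268 = n23306 := ndS (p := 21676) (l := 4) rfl N21676 D23306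
theorem N23269 : nd 23269 = n23307 := ndS (p := 21677) (l := 4) rfl N21677 D23307
theorem N23270 : nd 23270 = n23308 := ndS (p := 21678) (l := 3) rfl N21678 D23308
theorem N23271 : nd 23271 = n23309 := ndS (p := 21679) (l := 3) rfl N21679 D23309
theorem N23272 : nd 23272 = n23310 := ndS (p := 21679) (l := 5) rfl N21679 D23310
theorem N23273 : nd 23273 = n23311 := ndS (p := 21680) (l := 2) rfl N21680 D23311
theorem N23274 : nd 23274 = n23312 := ndS (p := 21681) (l := 3) rfl N21681 D23312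
theorem N23275 : nd 23275 = n23313 := ndS (p := 21682) (l := 2) rfl N21682 D23313
theorem N23276 : nd 23276 = n23314 := ndS (p := 21683) (l := 3) rfl N21683 D23314
theorem N23277 : nd 23277 = n23315 := ndS (p := 21684) (l := 3) rfl N21684 D23315
theorem N23278 : nd 23278 = n23316 := ndS (p := 21684) (l := 5) rfl N21684 D23316
theorem N23279 : nd 23279 = n23317 := ndS (p := 21685) (l := 2) rfl N21685 D23317
theorem N23280 : nd 23280 = n23318 := ndS (p := 21686) (l := 3) rfl N21686 D23318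
theorem N23281 : nd 23281 = n23319 := ndS (p := 21686) (l := 5) rfl N21686 D23319
theorem N23282 : nd 23282 = n23320 := ndS (p := 21687) (l := 2) rfl N21687 D23320
theorem N23283 : nd 23283 = n23321 := ndS (p := 21687) (l := 5) rfl N21687 D23321
theorem N23284 : nd 23284 = n23322 := ndS (p := 21689) (l := 1) rfl N21689 D23322
theorem N23285 : nd 23285 = n23323 := ndS (p := 21689) (l := 3) rfl N21689 D23323
theorem N23286 : nd 23286 = n23324 := ndS (p := 21690) (l := 0) rfl N21690 D23324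
theorem N23287 : nd 23287 = n23325 := ndS (p := 21691) (l := 3) rfl N21691 D23325
theorem N23288 : nd 23288 = n23326 := ndS (p := 21692) (l := 2) rfl N21692 D23326
theorem N23289 : nd 23289 = n23327 := ndS (p := 21693) (l := 0) rfl N21693 D23327
theorem N23290 : nd 23290 = n23328 := ndS (p := 21694) (l := 3) rfl N21694 D23328
theorem N23291 : nd 23291 = n23329 := ndS (p := 21695) (l := 2) rfl N21695 D23329
theorem N23292 : nd 23292 = n23330 := ndS (p := 21696) (l := 2) rfl N21696 D23330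
theorem N23293 : nd 23293 = n23331 := ndS (p := 21697) (l := 3) rfl N21697 D23331
theorem N23294 : nd 23294 = n23332 := ndS (p := 21698) (l := 4) rfl N21698 D23332
theorem N23295 : nd 23295 = n23333 := ndS (p := 21699) (l := 3) rfl N21699 D23333
theorem N23296 : nd 23296 = n23334 := ndS (p := 21700) (l := 3) rfl N21700 D23334
theorem N23297 : nd 23297 = n23335 := ndS (p := 21700) (l := 5) rfl N21700 D23335
theorem N23298 : nd 23298 = n23336 := ndS (p := 21701) (l := 2) rfl N21701 D23336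
theorem N23299 : nd 23299 = n23337 := ndS (p := 21703) (l := 2) rfl N21703 D23337
theorem N23300 : nd 23300 = n23338 := ndS (p := 21704) (l := 3) rfl N21704 D23338
theorem N23301 : nd 23301 = n23339 := ndS (p := 21705) (l := 2) rfl N21705 D23339
theorem N23302 : nd 23302 = n23340 := ndS (p := 21706) (l := 0) rfl N21706 D23340
theorem N23303 : nd 23303 = n23341 := ndS (p := 21714) (l := 3) rfl N21714 D23341
theorem N23304 : nd 23304 = n23342 := ndS (p := 21716) (l := 3) rfl N21716 D23342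
theorem N23305 : nd 23305 = n23343 := ndS (p := 21717) (l := 3) rfl N21717 D23343
theorem N23306 : nd 23306 = n23344 := ndS (p := 21722) (l := 3) rfl N21722 D23344
theorem N23307 : nd 23307 = n23345 := ndS (p := 21723) (l := 2) rfl N21723 D23345
theorem N23308 : nd 23308 = n23346 := ndS (p := 21724) (l := 3) rfl N21724 D23346
theorem N23309 : nd 23309 = n23347 := ndS (p := 21725) (l := 2) rfl N21725 D23347
theorem N23310 : nd 23310 = n23348 := ndS (p := 21726) (l := 2) rfl N21726 D23348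
theorem N23311 : nd 23311 = n23349 := ndS (p := 21727) (l := 3) rfl N21727 D23349
theorem N23312 : nd 23312 = n23350 := ndS (p := 21728) (l := 2) rfl N21728 D23350
theorem N23313 : nd 23313 = n23351 := ndS (p := 21729) (l := 3) rfl N21729 D23351
theorem N23314 : nd 23314 = n23352 := ndS (p := 21730) (l := 2) rfl N21730 D23352
theorem N23315 : nd 23315 = n23353 := ndS (p := 21731) (l := 1) rfl N21731 D23353
theorem N23316 : nd 23316 = n23354 := ndS (p := 21733) (l := 0) rfl N21733 D23354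
theorem N23317 : nd 23317 = n23355 := ndS (p := 21734) (l := 3) rfl N21734 D23355
theorem N23318 : nd 23318 = n23356 := ndS (p := 21734) (l := 5) rfl N21734 D23356
theorem N23319 : nd 23319 = n23357 := ndS (p := 21735) (l := 2) rfl N21735 D23357
theorem N23320 : nd 23320 = n23358 := ndS (p := 21735) (l := 5) rfl N21735 D23358
theorem N23321 : nd 23321 = n23359 := ndS (p := 21741) (l := 5) rfl N21741 D23359
theorem N23322 : nd 23322 = n23360 := ndS (p := 21747) (l := 1) rfl N21747 D23360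
theorem N23323 : nd 23323 = n23361 := ndS (p := 21747) (l := 3) rfl N21747 D23361
theorem N23324 : nd 23324 = n23362 := ndS (p := 21747) (l := 4) rfl N21747 D23362
theorem N23325 : nd 23325 = n23363 := ndS (p := 21747) (l := 5) rfl N21747 D23363
theorem N23326 : nd 23326 = n23364 := ndS (p := 21748) (l := 5) rfl N21748 D23364
theorem N23327 : nd 23327 = n23365 := ndS (p := 21749) (l := 4) rfl N21749 D23365
theorem N23328 : nd 23328 = n23366 := ndS (p := 21750) (l := 3) rfl N21750 D23366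
theorem N23329 : nd 23329 = n23367 := ndS (p := 21751) (l := 0) rfl N21751 D23367
theorem N23330 : nd 23330 = n23368 := ndS (p := 21751) (l := 3) rfl N21751 D23368
theorem N23331 : nd 23331 = n23369 := ndS (p := 21751) (l := 4) rfl N21751 D23369
theorem N23332 : nd 23332 = n23370 := ndS (p := 21752) (l := 2) rfl N21752 D23370
theorem N23333 : nd 23333 = n23371 := ndS (p := 21752) (l := 4) rfl N21752 D23371
theorem N23334 : nd 23334 = n23372 := ndS (p := 21752) (l := 5) rfl N21752 D23372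
theorem N23335 : nd 23335 = n23373 := ndS (p := 21753) (l := 3) rfl N21753 D23373
theorem N23336 : nd 23336 = n23374 := ndS (p := 21753) (l := 5) rfl N21753 D23374
theorem N23337 : nd 23337 = n23375 := ndS (p := 21754) (l := 4) rfl N21754 D23375
theorem N23338 : nd 23338 = n23376 := ndS (p := 21755) (l := 4) rfl N21755 D23376
theorem N23339 : nd 23339 = n23377 := ndS (p := 21756) (l := 3) rfl N21756 D23377
theorem N23340 : nd 23340 = n23378 := ndS (p := 21757) (l := 2) rfl N21757 D23378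
theorem N23341 : nd 23341 = n23379 := ndS (p := 21758) (l := 4) rfl N21758 D23379
theorem N23342 : nd 23342 = n23380 := ndS (p := 21762) (l := 1) rfl N21762 D23380
theorem N23343 : nd 23343 = n23381 := ndS (p := 21764) (l := 2) rfl N21764 D23381
theorem N23344 : nd 23344 = n23382 := ndS (p := 21765) (l := 2) rfl N21765 D23382
theorem N23345 : nd 23345 = n23383 := ndS (p := 21765) (l := 5) rfl N21765 D23383
theorem N23346 : nd 23346 = n23384 := ndS (p := 21767) (l := 1) rfl N21767 D23384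
theorem N23347 : nd 23347 = n23385 := ndS (p := 21767) (l := 3) rfl N21767 D23385
theorem N23348 : nd 23348 = n23386 := ndS (p := 21768) (l := 0) rfl N21768 D23386
theorem N23349 : nd 23349 = n23387 := ndS (p := 21772) (l := 3) rfl N21772 D23387
theorem N23350 : nd 23350 = n23388 := ndS (p := 21773) (l := 2) rfl N21773 D23388
theorem N23351 : nd 23351 = n23389 := ndS (p := 21773) (l := 5) rfl N21773 D23389
theorem N23352 : nd 23352 = n23390 := ndS (p := 21775) (l := 2) rfl N21775 D23390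
theorem N23353 : nd 23353 = n23391 := ndS (p := 21776) (l := 1) rfl N21776 D23391
theorem N23354 : nd 23354 = n23392 := ndS (p := 21778) (l := 3) rfl N21778 D23392
theorem N23355 : nd 23355 = n23393 := ndS (p := 21779) (l := 2) rfl N21779 D23393
theorem N23356 : nd 23356 = n23394 := ndS (p := 21780) (l := 2) rfl N21780 D23394
theorem N23357 : nd 23357 = n23395 := ndS (p := 21784) (l := 3) rfl N21784 D23395
theorem N23358 : nd 23358 = n23396 := ndS (p := 21784) (l := 5) rfl N21784 D23396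
theorem N23359 : nd 23359 = n23397 := ndS (p := 21785) (l := 2) rfl N21785 D23397
theorem N23360 : nd 23360 = n23398 := ndS (p := 21785) (l := 4) rfl N21785 D23398
theorem N23361 : nd 23361 = n23399 := ndS (p := 21785) (l := 5) rfl N21785 D23399
theorem N23362 : nd 23362 = n23400 := ndS (p := 21786) (l := 4) rfl N21786 D23400
theorem N23363 : nd 23363 = n23401 := ndS (p := 21789) (l := 2) rfl N21789 D23401
theorem N23364 : nd 23364 = n23402 := ndS (p := 21793) (l := 3) rfl N21793 D23402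
theorem N23365 : nd 23365 = n23403 := ndS (p := 21794) (l := 5) rfl N21794 D23403
theorem N23366 : nd 23366 = n23404 := ndS (p := 21798) (l := 1) rfl N21798 D23404
theorem N23367 : nd 23367 = n23405 := ndS (p := 21799) (l := 1) rfl N21799 D23405
theorem N23368 : nd 23368 = n23406 := ndS (p := 21799) (l := 3) rfl N21799 D23406
theorem N23369 : nd 23369 = n23407 := ndS (p := 21799) (l := 5) rfl N21799 D23407
theorem N23370 : nd 23370 = n23408 := ndS (p := 21800) (l := 4) rfl N21800 D23408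
theorem N23371 : nd 23371 = n23409 := ndS (p := 21801) (l := 0) rfl N21801 D23409
theorem N23372 : nd 23372 = n23410 := ndS (p := 21801) (l := 3) rfl N21801 D23410
theorem N23373 : nd 23373 = n23411 := ndS (p := 21802) (l := 2) rfl N21802 D23411
theorem N23374 : nd 23374 = n23412 := ndS (p := 21802) (l := 4) rfl N21802 D23412
theorem N23375 : nd 23375 = n23413 := ndS (p := 21802) (l := 5) rfl N21802 D23413
theorem N23376 : nd 23376 = n23414 := ndS (p := 21803) (l := 4) rfl N21803 D23414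
theorem N23377 : nd 23377 = n23415 := ndS (p := 21814) (l := 3) rfl N21814 D23415
theorem N23378 : nd 23378 = n23416 := ndS (p := 21820) (l := 5) rfl N21820 D23416
theorem N23379 : nd 23379 = n23417 := ndS (p := 21825) (l := 3) rfl N21825 D23417
theorem N23380 : nd 23380 = n23418 := ndS (p := 21826) (l := 2) rfl N21826 D23418
theorem N23381 : nd 23381 = n23419 := ndS (p := 21827) (l := 5) rfl N21827 D23419
theorem N23382 : nd 23382 = n23420 := ndS (p := 21828) (l := 4) rfl N21828 D23420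
theorem N23383 : nd 23383 = n23421 := ndS (p := 21829) (l := 3) rfl N21829 D23421
theorem N23384 : nd 23384 = n23422 := ndS (p := 21831) (l := 2) rfl N21831 D23422
theorem N23385 : nd 23385 = n23423 := ndS (p := 21832) (l := 1) rfl N21832 D23423
theorem N23386 : nd 23386 = n23424 := ndS (p := 21832) (l := 3) rfl N21832 D23424
theorem N23387 : nd 23387 = n23425 := ndS (p := 21833) (l := 0) rfl N21833 D23425
theorem N23388 : nd 23388 = n23426 := ndS (p := 21834) (l := 5) rfl N21834 D23426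
theorem N23389 : nd 23389 = n23427 := ndS (p := 21835) (l := 1) rfl N21835 D23427
theorem N23390 : nd 23390 = n23428 := ndS (p := 21835) (l := 3) rfl N21835 D23428
theorem N23391 : nd 23391 = n23429 := ndS (p := 21836) (l := 3) rfl N21836 D23429
theorem N23392 : nd 23392 = n23430 := ndS (p := 21836) (l := 5) rfl N21836 D23430
theorem N23393 : nd 23393 = n23431 := ndS (p := 21837) (l := 2) rfl N21837 D23431
theorem N23394 : nd 23394 = n23432 := ndS (p := 21839) (l := 3) rfl N21839 D23432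
theorem N23395 : nd 23395 = n23433 := ndS (p := 21840) (l := 0) rfl N21840 D23433
theorem N23396 : nd 23396 = n23434 := ndS (p := 21840) (l := 3) rfl N21840 D23434
theorem N23397 : nd 23397 = n23435 := ndS (p := 21841) (l := 2) rfl N21841 D23435
theorem N23398 : nd 23398 = n23436 := ndS (p := 21841) (l := 4) rfl N21841 D23436
theorem N23399 : nd 23399 = n23437 := ndS (p := 21842) (l := 3) rfl N21842 D23437
theorem N23400 : nd 23400 = n23438 := ndS (p := 21843) (l := 2) rfl N21843 D23438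
theorem N23401 : nd 23401 = n23439 := ndS (p := 21844) (l := 2) rfl N21844 D23439
theorem N23402 : nd 23402 = n23440 := ndS (p := 21845) (l := 3) rfl N21845 D23440
theorem N23403 : nd 23403 = n23441 := ndS (p := 21845) (l := 5) rfl N21845 D23441
theorem N23404 : nd 23404 = n23442 := ndS (p := 21846) (l := 2) rfl N21846 D23442
theorem N23405 : nd 23405 = n23443 := ndS (p := 21846) (l := 5) rfl N21846 D23443
theorem N23406 : nd 23406 = n23444 := ndS (p := 21848) (l := 2) rfl N21848 D23444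
theorem N23407 : nd 23407 = n23445 := ndS (p := 21848) (l := 5) rfl N21848 D23445
theorem N23408 : nd 23408 = n23446 := ndS (p := 21849) (l := 4) rfl N21849 D23446
theorem N23409 : nd 23409 = n23447 := ndS (p := 21851) (l := 1) rfl N21851 D23447
theorem N23410 : nd 23410 = n23448 := ndS (p := 21852) (l := 4) rfl N21852 D23448
theorem N23411 : nd 23411 = n23449 := ndS (p := 21853) (l := 3) rfl N21853 D23449
theorem N23412 : nd 23412 = n23450 := ndS (p := 21853) (l := 5) rfl N21853 D23450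
theorem N23413 : nd 23413 = n23451 := ndS (p := 21855) (l := 4) rfl N21855 D23451
theorem N23414 : nd 23414 = n23452 := ndS (p := 21856) (l := 5) rfl N21856 D23452
theorem N23415 : nd 23415 = n23453 := ndS (p := 21859) (l := 5) rfl N21859 D23453
theorem N23416 : nd 23416 = n23454 := ndS (p := 21860) (l := 3) rfl N21860 D23454
theorem N23417 : nd 23417 = n23455 := ndS (p := 21860) (l := 5) rfl N21860 D23455
theorem N23418 : nd 23418 = n23456 := ndS (p := 21861) (l := 5) rfl N21861 D23456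
theorem N23419 : nd 23419 = n23457 := ndS (p := 21866) (l := 3) rfl N21866 D23457
theorem N23420 : nd 23420 = n23458 := ndS (p := 21867) (l := 2) rfl N21867 D23458
theorem N23421 : nd 23421 = n23459 := ndS (p := 21867) (l := 4) rfl N21867 D23459
theorem N23422 : nd 23422 = n23460 := ndS (p := 21868) (l := 3) rfl N21868 D23460
theorem N23423 : nd 23423 = n23461 := ndS (p := 21872) (l := 1) rfl N21872 D23461
theorem N23424 : nd 23424 = n23462 := ndS (p := 21874) (l := 1) rfl N21874 D23462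
theorem N23425 : nd 23425 = n23463 := ndS (p := 21874) (l := 3) rfl N21874 D23463
theorem N23426 : nd 23426 = n23464 := ndS (p := 21875) (l := 0) rfl N21875 D23464
theorem N23427 : nd 23427 = n23465 := ndS (p := 21876) (l := 3) rfl N21876 D23465
theorem N23428 : nd 23428 = n23466 := ndS (p := 21877) (l := 0) rfl N21877 D23466
theorem N23429 : nd 23429 = n23467 := ndS (p := 21877) (l := 3) rfl N21877 D23467
theorem N23430 : nd 23430 = n23468 := ndS (p := 21878) (l := 2) rfl N21878 D23468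
theorem N23431 : nd 23431 = n23469 := ndS (p := 21878) (l := 4) rfl N21878 D23469
theorem N23432 : nd 23432 = n23470 := ndS (p := 21879) (l := 3) rfl N21879 D23470
theorem N23433 : nd 23433 = n23471 := ndS (p := 21880) (l := 2) rfl N21880 D23471
theorem N23434 : nd 23434 = n23472 := ndS (p := 21881) (l := 2) rfl N21881 D23472
theorem N23435 : nd 23435 = n23473 := ndS (p := 21882) (l := 3) rfl N21882 D23473
theorem N23436 : nd 23436 = n23474 := ndS (p := 21885) (l := 2) rfl N21885 D23474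
theorem N23437 : nd 23437 = n23475 := ndS (p := 21886) (l := 3) rfl N21886 D23475
theorem N23438 : nd 23438 = n23476 := ndS (p := 21892) (l := 2) rfl N21892 D23476
theorem N23439 : nd 23439 = n23477 := ndS (p := 21893) (l := 1) rfl N21893 D23477
theorem N23440 : nd 23440 = n23478 := ndS (p := 21893) (l := 3) rfl N21893 D23478
theorem N23441 : nd 23441 = n23479 := ndS (p := 21893) (l := 5) rfl N21893 D23479
theorem N23442 : nd 23442 = n23480 := ndS (p := 21896) (l := 1) rfl N21896 D23480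
theorem N23443 : nd 23443 = n23481 := ndS (p := 21897) (l := 0) rfl N21897 D23481
theorem N23444 : nd 23444 = n23482 := ndS (p := 21897) (l := 3) rfl N21897 D23482
theorem N23445 : nd 23445 = n23483 := ndS (p := 21898) (l := 4) rfl N21898 D23483
theorem N23446 : nd 23446 = n23484 := ndS (p := 21900) (l := 2) rfl N21900 D23484
theorem N23447 : nd 23447 = n23485 := ndS (p := 21901) (l := 3) rfl N21901 D23485
theorem N23448 : nd 23448 = n23486 := ndS (p := 21902) (l := 4) rfl N21902 D23486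
theorem N23449 : nd 23449 = n23487 := ndS (p := 21906) (l := 0) rfl N21906 D23487
theorem N23450 : nd 23450 = n23488 := ndS (p := 21910) (l := 3) rfl N21910 D23488
theorem N23451 : nd 23451 = n23489 := ndS (p := 21911) (l := 1) rfl N21911 D23489
theorem N23452 : nd 23452 = n23490 := ndS (p := 21911) (l := 3) rfl N21911 D23490
theorem N23453 : nd 23453 = n23491 := ndS (p := 21912) (l := 0) rfl N21912 D23491
theorem N23454 : nd 23454 = n23492 := ndS (p := 21912) (l := 3) rfl N21912 D23492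
theorem N23455 : nd 23455 = n23493 := ndS (p := 21913) (l := 2) rfl N21913 D23493
theorem N23456 : nd 23456 = n23494 := ndS (p := 21913) (l := 4) rfl N21913 D23494
theorem N23457 : nd 23457 = n23495 := ndS (p := 21915) (l := 1) rfl N21915 D23495
theorem N23458 : nd 23458 = n23496 := ndS (p := 21917) (l := 1) rfl N21917 D23496
theorem N23459 : nd 23459 = n23497 := ndS (p := 21917) (l := 5) rfl N21917 D23497
theorem N23460 : nd 23460 = n23498 := ndS (p := 21918) (l := 4) rfl N21918 D23498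
theorem N23461 : nd 23461 = n23499 := ndS (p := 21923) (l := 5) rfl N21923 D23499
theorem N23462 : nd 23462 = n23500 := ndS (p := 21924) (l := 4) rfl N21924 D23500
theorem N23463 : nd 23463 = n23501 := ndS (p := 21927) (l := 1) rfl N21927 D23501
theorem N23464 : nd 23464 = n23502 := ndS (p := 21928) (l := 2) rfl N21928 D23502
theorem N23465 : nd 23465 = n23503 := ndS (p := 21929) (l := 1) rfl N21929 D23503
theorem N23466 : nd 23466 = n23504 := ndS (p := 21932) (l := 3) rfl N21932 D23504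
theorem N23467 : nd 23467 = n23505 := ndS (p := 21934) (l := 4) rfl N21934 D23505
theorem N23468 : nd 23468 = n23506 := ndS (p := 21935) (l := 3) rfl N21935 D23506
theorem N23469 : nd 23469 = n23507 := ndS (p := 21937) (l := 2) rfl N21937 D23507
theorem N23470 : nd 23470 = n23508 := ndS (p := 21940) (l := 2) rfl N21940 D23508
theorem N23471 : nd 23471 = n23509 := ndS (p := 21941) (l := 3) rfl N21941 D23509
theorem N23472 : nd 23472 = n23510 := ndS (p := 21941) (l := 5) rfl N21941 D23510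
theorem N23473 : nd 23473 = n23511 := ndS (p := 21944) (l := 1) rfl N21944 D23511
theorem N23474 : nd 23474 = n23512 := ndS (p := 21946) (l := 3) rfl N21946 D23512
theorem N23475 : nd 23475 = n23513 := ndS (p := 21946) (l := 5) rfl N21946 D23513
theorem N23476 : nd 23476 = n23514 := ndS (p := 21947) (l := 3) rfl N21947 D23514
theorem N23477 : nd 23477 = n23515 := ndS (p := 21948) (l := 2) rfl N21948 D23515
theorem N23478 : nd 23478 = n23516 := ndS (p := 21948) (l := 5) rfl N21948 D23516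
theorem N23479 : nd 23479 = n23517 := ndS (p := 21949) (l := 4) rfl N21949 D23517
theorem N23480 : nd 23480 = n23518 := ndS (p := 21950) (l := 3) rfl N21950 D23518
theorem N23481 : nd 23481 = n23519 := ndS (p := 21953) (l := 4) rfl N21953 D23519
theorem N23482 : nd 23482 = n23520 := ndS (p := 21954) (l := 3) rfl N21954 D23520
theorem N23483 : nd 23483 = n23521 := ndS (p := 21955) (l := 2) rfl N21955 D23521
theorem N23484 : nd 23484 = n23522 := ndS (p := 21956) (l := 2) rfl N21956 D23522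
theorem N23485 : nd 23485 = n23523 := ndS (p := 21956) (l := 5) rfl N21956 D23523
theorem N23486 : nd 23486 = n23524 := ndS (p := 21958) (l := 2) rfl N21958 D23524
theorem N23487 : nd 23487 = n23525 := ndS (p := 21960) (l := 1) rfl N21960 D23525
theorem N23488 : nd 23488 = n23526 := ndS (p := 21960) (l := 3) rfl N21960 D23526
theorem N23489 : nd 23489 = n23527 := ndS (p := 21960) (l := 5) rfl N21960 D23527
theorem N23490 : nd 23490 = n23528 := ndS (p := 21964) (l := 3) rfl N21964 D23528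
theorem N23491 : nd 23491 = n23529 := ndS (p := 21965) (l := 2) rfl N21965 D23529
theorem N23492 : nd 23492 = n23530 := ndS (p := 21966) (l := 5) rfl N21966 D23530
theorem N23493 : nd 23493 = n23531 := ndS (p := 21968) (l := 3) rfl N21968 D23531
theorem N23494 : nd 23494 = n23532 := ndS (p := 21969) (l := 2) rfl N21969 D23532
theorem N23495 : nd 23495 = n23533 := ndS (p := 21970) (l := 1) rfl N21970 D23533
theorem N23496 : nd 23496 = n23534 := ndS (p := 21971) (l := 1) rfl N21971 D23534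
theorem N23497 : nd 23497 = n23535 := ndS (p := 21971) (l := 3) rfl N21971 D23535
theorem N23498 : nd 23498 = n23536 := ndS (p := 21972) (l := 2) rfl N21972 D23536
theorem N23499 : nd 23499 = n23537 := ndS (p := 21973) (l := 2) rfl N21973 D23537
theorem N23500 : nd 23500 = n23538 := ndS (p := 21975) (l := 1) rfl N21975 D23538
theorem N23501 : nd 23501 = n23539 := ndS (p := 21975) (l := 3) rfl N21975 D23539
theorem N23502 : nd 23502 = n23540 := ndS (p := 21976) (l := 1) rfl N21976 D23540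
theorem N23503 : nd 23503 = n23541 := ndS (p := 21978) (l := 5) rfl N21978 D23541
theorem N23504 : nd 23504 = n23542 := ndS (p := 21980) (l := 4) rfl N21980 D23542
theorem N23505 : nd 23505 = n23543 := ndS (p := 21981) (l := 2) rfl N21981 D23543
theorem N23506 : nd 23506 = n23544 := ndS (p := 21982) (l := 3) rfl N21982 D23544
theorem N23507 : nd 23507 = n23545 := ndS (p := 21987) (l := 1) rfl N21987 D23545
theorem N23508 : nd 23508 = n23546 := ndS (p := 21987) (l := 3) rfl N21987 D23546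
theorem N23509 : nd 23509 = n23547 := ndS (p := 21987) (l := 5) rfl N21987 D23547
theorem N23510 : nd 23510 = n23548 := ndS (p := 21988) (l := 4) rfl N21988 D23548
theorem N23511 : nd 23511 = n23549 := ndS (p := 21990) (l := 4) rfl N21990 D23549
theorem N23512 : nd 23512 = n23550 := ndS (p := 21991) (l := 4) rfl N21991 D23550
theorem N23513 : nd 23513 = n23551 := ndS (p := 21995) (l := 2) rfl N21995 D23551
theorem N23514 : nd 23514 = n23552 := ndS (p := 21997) (l := 1) rfl N21997 D23552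
theorem N23515 : nd 23515 = n23553 := ndS (p := 21998) (l := 0) rfl N21998 D23553
theorem N23516 : nd 23516 = n23554 := ndS (p := 22000) (l := 1) rfl N22000 D23554
theorem N23517 : nd 23517 = n23555 := ndS (p := 22000) (l := 3) rfl N22000 D23555
theorem N23518 : nd 23518 = n23556 := ndS (p := 22000) (l := 5) rfl N22000 D23556
theorem N23519 : nd 23519 = n23557 := ndS (p := 22002) (l := 0) rfl N22002 D23557
theorem N23520 : nd 23520 = n23558 := ndS (p := 22002) (l := 3) rfl N22002 D23558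
theorem N23521 : nd 23521 = n23559 := ndS (p := 22002) (l := 5) rfl N22002 D23559
theorem N23522 : nd 23522 = n23560 := ndS (p := 22003) (l := 4) rfl N22003 D23560
theorem N23523 : nd 23523 = n23561 := ndS (p := 22007) (l := 1) rfl N22007 D23561
theorem N23524 : nd 23524 = n23562 := ndS (p := 22008) (l := 0) rfl N22008 D23562
theorem N23525 : nd 23525 = n23563 := ndS (p := 22012) (l := 1) rfl N22012 D23563
theorem N23526 : nd 23526 = n23564 := ndS (p := 22014) (l := 0) rfl N22014 D23564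
theorem N23527 : nd 23527 = n23565 := ndS (p := 22014) (l := 3) rfl N22014 D23565
theorem N23528 : nd 23528 = n23566 := ndS (p := 22014) (l := 5) rfl N22014 D23566
theorem N23529 : nd 23529 = n23567 := ndS (p := 22015) (l := 4) rfl N22015 D23567
theorem N23530 : nd 23530 = n23568 := ndS (p := 22018) (l := 3) rfl N22018 D23568
theorem N23531 : nd 23531 = n23569 := ndS (p := 22018) (l := 5) rfl N22018 D23569
theorem N23532 : nd 23532 = n23570 := ndS (p := 22019) (l := 4) rfl N22019 D23570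
theorem N23533 : nd 23533 = n23571 := ndS (p := 22021) (l := 5) rfl N22021 D23571
theorem N23534 : nd 23534 = n23572 := ndS (p := 22022) (l := 2) rfl N22022 D23572
theorem N23535 : nd 23535 = n23573 := ndS (p := 22022) (l := 4) rfl N22022 D23573
theorem N23536 : nd 23536 = n23574 := ndS (p := 22023) (l := 4) rfl N22023 D23574
theorem N23537 : nd 23537 = n23575 := ndS (p := 22026) (l := 1) rfl N22026 D23575
theorem N23538 : nd 23538 = n23576 := ndS (p := 22026) (l := 4) rfl N22026 D23576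
theorem N23539 : nd 23539 = n23577 := ndS (p := 22027) (l := 5) rfl N22027 D23577
theorem N23540 : nd 23540 = n23578 := ndS (p := 22030) (l := 4) rfl N22030 D23578
theorem N23541 : nd 23541 = n23579 := ndS (p := 22031) (l := 3) rfl N22031 D23579
theorem N23542 : nd 23542 = n23580 := ndS (p := 22039) (l := 2) rfl N22039 D23580
theorem N23543 : nd 23543 = n23581 := ndS (p := 22042) (l := 4) rfl N22042 D23581
theorem N23544 : nd 23544 = n23582 := ndS (p := 22043) (l := 3) rfl N22043 D23582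
theorem N23545 : nd 23545 = n23583 := ndS (p := 22044) (l := 2) rfl N22044 D23583
theorem N23546 : nd 23546 = n23584 := ndS (p := 22045) (l := 5) rfl N22045 D23584
theorem N23547 : nd 23547 = n23585 := ndS (p := 22051) (l := 4) rfl N22051 D23585
theorem N23548 : nd 23548 = n23586 := ndS (p := 22054) (l := 4) rfl N22054 D23586
theorem N23549 : nd 23549 = n23587 := ndS (p := 22055) (l := 5) rfl N22055 D23587
theorem N23550 : nd 23550 = n23588 := ndS (p := 22058) (l := 4) rfl N22058 D23588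
theorem N23551 : nd 23551 = n23589 := ndS (p := 22061) (l := 3) rfl N22061 D23589
theorem N23552 : nd 23552 = n23590 := ndS (p := 22061) (l := 5) rfl N22061 D23590
theorem N23553 : nd 23553 = n23591 := ndS (p := 22063) (l := 0) rfl N22063 D23591
theorem N23554 : nd 23554 = n23592 := ndS (p := 22063) (l := 3) rfl N22063 D23592
theorem N23555 : nd 23555 = n23593 := ndS (p := 22063) (l := 5) rfl N22063 D23593
theorem N23556 : nd 23556 = n23594 := ndS (p := 22064) (l := 2) rfl N22064 D23594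
theorem N23557 : nd 23557 = n23595 := ndS (p := 22064) (l := 4) rfl N22064 D23595
theorem N23558 : nd 23558 = n23596 := ndS (p := 22065) (l := 4) rfl N22065 D23596
theorem N23559 : nd 23559 = n23597 := ndS (p := 22069) (l := 5) rfl N22069 D23597
theorem N23560 : nd 23560 = n23598 := ndS (p := 22073) (l := 2) rfl N22073 D23598
theorem N23561 : nd 23561 = n23599 := ndS (p := 22075) (l := 1) rfl N22075 D23599
theorem N23562 : nd 23562 = n23600 := ndS (p := 22076) (l := 3) rfl N22076 D23600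
theorem N23563 : nd 23563 = n23601 := ndS (p := 22076) (l := 5) rfl N22076 D23601
theorem N23564 : nd 23564 = n23602 := ndS (p := 22077) (l := 2) rfl N22077 D23602
theorem N23565 : nd 23565 = n23603 := ndS (p := 22077) (l := 4) rfl N22077 D23603
theorem N23566 : nd 23566 = n23604 := ndS (p := 22078) (l := 4) rfl N22078 D23604
theorem N23567 : nd 23567 = n23605 := ndS (p := 22082) (l := 3) rfl N22082 D23605
theorem N23568 : nd 23568 = n23606 := ndS (p := 22085) (l := 4) rfl N22085 D23606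
theorem N23569 : nd 23569 = n23607 := ndS (p := 22087) (l := 2) rfl N22087 D23607
theorem N23570 : nd 23570 = n23608 := ndS (p := 22089) (l := 4) rfl N22089 D23608
theorem N23571 : nd 23571 = n23609 := ndS (p := 22091) (l := 5) rfl N22091 D23609
theorem N23572 : nd 23572 = n23610 := ndS (p := 22092) (l := 5) rfl N22092 D23610
theorem N23573 : nd 23573 = n23611 := ndS (p := 22094) (l := 1) rfl N22094 D23611
theorem N23574 : nd 23574 = n23612 := ndS (p := 22094) (l := 3) rfl N22094 D23612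
theorem N23575 : nd 23575 = n23613 := ndS (p := 22095) (l := 3) rfl N22095 D23613
theorem N23576 : nd 23576 = n23614 := ndS (p := 22099) (l := 3) rfl N22099 D23614
theorem N23577 : nd 23577 = n23615 := ndS (p := 22100) (l := 2) rfl N22100 D23615
theorem N23578 : nd 23578 = n23616 := ndS (p := 22100) (l := 4) rfl N22100 D23616
theorem N23579 : nd 23579 = n23617 := ndS (p := 22102) (l := 3) rfl N22102 D23617
theorem N23580 : nd 23580 = n23618 := ndS (p := 22103) (l := 4) rfl N22103 D23618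
theorem N23581 : nd 23581 = n23619 := ndS (p := 22108) (l := 3) rfl N22108 D23619
theorem N23582 : nd 23582 = n23620 := ndS (p := 22109) (l := 5) rfl N22109 D23620
theorem N23583 : nd 23583 = n23621 := ndS (p := 22111) (l := 3) rfl N22111 D23621
theorem N23584 : nd 23584 = n23622 := ndS (p := 22112) (l := 1) rfl N22112 D23622
theorem N23585 : nd 23585 = n23623 := ndS (p := 22112) (l := 3) rfl N22112 D23623
theorem N23586 : nd 23586 = n23624 := ndS (p := 22112) (l := 5) rfl N22112 D23624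
theorem N23587 : nd 23587 = n23625 := ndS (p := 22113) (l := 4) rfl N22113 D23625
theorem N23588 : nd 23588 = n23626 := ndS (p := 22114) (l := 0) rfl N22114 D23626
theorem N23589 : nd 23589 = n23627 := ndS (p := 22114) (l := 3) rfl N22114 D23627
theorem N23590 : nd 23590 = n23628 := ndS (p := 22115) (l := 2) rfl N22115 D23628
theorem N23591 : nd 23591 = n23629 := ndS (p := 22115) (l := 5) rfl N22115 D23629
theorem N23592 : nd 23592 = n23630 := ndS (p := 22116) (l := 5) rfl N22116 D23630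
theorem N23593 : nd 23593 = n23631 := ndS (p := 22117) (l := 4) rfl N22117 D23631
theorem N23594 : nd 23594 = n23632 := ndS (p := 22118) (l := 4) rfl N22118 D23632
theorem N23595 : nd 23595 = n23633 := ndS (p := 22119) (l := 3) rfl N22119 D23633
theorem N23596 : nd 23596 = n23634 := ndS (p := 22124) (l := 1) rfl N22124 D23634
theorem N23597 : nd 23597 = n23635 := ndS (p := 22126) (l := 1) rfl N22126 D23635
theorem N23598 : nd 23598 = n23636 := ndS (p := 22127) (l := 0) rfl N22127 D23636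
theorem N23599 : nd 23599 = n23637 := ndS (p := 22127) (l := 3) rfl N22127 D23637
theorem N23600 : nd 23600 = n23638 := ndS (p := 22131) (l := 5) rfl N22131 D23638
theorem N23601 : nd 23601 = n23639 := ndS (p := 22132) (l := 4) rfl N22132 D23639
theorem N23602 : nd 23602 = n23640 := ndS (p := 22133) (l := 0) rfl N22133 D23640
theorem N23603 : nd 23603 = n23641 := ndS (p := 22134) (l := 4) rfl N22134 D23641
theorem N23604 : nd 23604 = n23642 := ndS (p := 22137) (l := 1) rfl N22137 D23642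
theorem N23605 : nd 23605 = n23643 := ndS (p := 22137) (l := 4) rfl N22137 D23643
theorem N23606 : nd 23606 = n23644 := ndS (p := 22138) (l := 5) rfl N22138 D23644
theorem N23607 : nd 23607 = n23645 := ndS (p := 22139) (l := 3) rfl N22139 D23645
theorem N23608 : nd 23608 = n23646 := ndS (p := 22140) (l := 3) rfl N22140 D23646
theorem N23609 : nd 23609 = n23647 := ndS (p := 22140) (l := 5) rfl N22140 D23647
theorem N23610 : nd 23610 = n23648 := ndS (p := 22142) (l := 2) rfl N22142 D23648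
theorem N23611 : nd 23611 = n23649 := ndS (p := 22145) (l := 5) rfl N22145 D23649
theorem N23612 : nd 23612 = n23650 := ndS (p := 22147) (l := 4) rfl N22147 D23650
theorem N23613 : nd 23613 = n23651 := ndS (p := 22148) (l := 3) rfl N22148 D23651
theorem N23614 : nd 23614 = n23652 := ndS (p := 22150) (l := 3) rfl N22150 D23652
theorem N23615 : nd 23615 = n23653 := ndS (p := 22150) (l := 5) rfl N22150 D23653
theorem N23616 : nd 23616 = n23654 := ndS (p := 22153) (l := 3) rfl N22153 D23654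
theorem N23617 : nd 23617 = n23655 := ndS (p := 22153) (l := 5) rfl N22153 D23655
theorem N23618 : nd 23618 = n23656 := ndS (p := 22155) (l := 3) rfl N22155 D23656
theorem N23619 : nd 23619 = n23657 := ndS (p := 22155) (l := 5) rfl N22155 D23657
theorem N23620 : nd 23620 = n23658 := ndS (p := 22158) (l := 5) rfl N22158 D23658
theorem N23621 : nd 23621 = n23659 := ndS (p := 22159) (l := 2) rfl N22159 D23659
theorem N23622 : nd 23622 = n23660 := ndS (p := 22159) (l := 5) rfl N22159 D23660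
theorem N23623 : nd 23623 = n23661 := ndS (p := 22165) (l := 3) rfl N22165 D23661
theorem N23624 : nd 23624 = n23662 := ndS (p := 22165) (l := 5) rfl N22165 D23662
theorem N23625 : nd 23625 = n23663 := ndS (p := 22166) (l := 2) rfl N22166 D23663
theorem N23626 : nd 23626 = n23664 := ndS (p := 22166) (l := 5) rfl N22166 D23664
theorem N23627 : nd 23627 = n23665 := ndS (p := 22172) (l := 4) rfl N22172 D23665
theorem N23628 : nd 23628 = n23666 := ndS (p := 22175) (l := 4) rfl N22175 D23666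
theorem N23629 : nd 23629 = n23667 := ndS (p := 22176) (l := 5) rfl N22176 D23667
theorem N23630 : nd 23630 = n23668 := ndS (p := 22177) (l := 4) rfl N22177 D23668
theorem N23631 : nd 23631 = n23669 := ndS (p := 22178) (l := 3) rfl N22178 D23669
theorem N23632 : nd 23632 = n23670 := ndS (p := 22179) (l := 4) rfl N22179 D23670
theorem N23633 : nd 23633 = n23671 := ndS (p := 22180) (l := 3) rfl N22180 D23671
theorem N23634 : nd 23634 = n23672 := ndS (p := 22180) (l := 5) rfl N22180 D23672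
theorem N23635 : nd 23635 = n23673 := ndS (p := 22182) (l := 2) rfl N22182 D23673
theorem N23636 : nd 23636 = n23674 := ndS (p := 22183) (l := 3) rfl N22183 D23674
theorem N23637 : nd 23637 = n23675 := ndS (p := 22183) (l := 5) rfl N22183 D23675
theorem N23638 : nd 23638 = n23676 := ndS (p := 22184) (l := 2) rfl N22184 D23676
theorem N23639 : nd 23639 = n23677 := ndS (p := 22184) (l := 5) rfl N22184 D23677
theorem N23640 : nd 23640 = n23678 := ndS (p := 22186) (l := 3) rfl N22186 D23678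
theorem N23641 : nd 23641 = n23679 := ndS (p := 22187) (l := 3) rfl N22187 D23679
theorem N23642 : nd 23642 = n23680 := ndS (p := 22187) (l := 5) rfl N22187 D23680
theorem N23643 : nd 23643 = n23681 := ndS (p := 22188) (l := 5) rfl N22188 D23681
theorem N23644 : nd 23644 = n23682 := ndS (p := 22189) (l := 4) rfl N22189 D23682
theorem N23645 : nd 23645 = n23683 := ndS (p := 22190) (l := 3) rfl N22190 D23683
theorem N23646 : nd 23646 = n23684 := ndS (p := 22192) (l := 3) rfl N22192 D23684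
theorem N23647 : nd 23647 = n23685 := ndS (p := 22192) (l := 5) rfl N22192 D23685
theorem N23648 : nd 23648 = n23686 := ndS (p := 22194) (l := 5) rfl N22194 D23686
theorem N23649 : nd 23649 = n23687 := ndS (p := 22196) (l := 5) rfl N22196 D23687
theorem N23650 : nd 23650 = n23688 := ndS (p := 22198) (l := 3) rfl N22198 D23688
theorem N23651 : nd 23651 = n23689 := ndS (p := 22199) (l := 1) rfl N22199 D23689
theorem N23652 : nd 23652 = n23690 := ndS (p := 22200) (l := 4) rfl N22200 D23690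
theorem N23653 : nd 23653 = n23691 := ndS (p := 22201) (l := 3) rfl N22201 D23691
theorem N23654 : nd 23654 = n23692 := ndS (p := 22206) (l := 0) rfl N22206 D23692
theorem N23655 : nd 23655 = n23693 := ndS (p := 22206) (l := 3) rfl N22206 D23693
theorem N23656 : nd 23656 = n23694 := ndS (p := 22211) (l := 2) rfl N22211 D23694
theorem N23657 : nd 23657 = n23695 := ndS (p := 22212) (l := 3) rfl N22212 D23695
theorem N23658 : nd 23658 = n23696 := ndS (p := 22213) (l := 3) rfl N22213 D23696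
theorem N23659 : nd 23659 = n23697 := ndS (p := 22215) (l := 5) rfl N22215 D23697
theorem N23660 : nd 23660 = n23698 := ndS (p := 22217) (l := 3) rfl N22217 D23698
theorem N23661 : nd 23661 = n23699 := ndS (p := 22218) (l := 4) rfl N22218 D23699
theorem N23662 : nd 23662 = n23700 := ndS (p := 22219) (l := 3) rfl N22219 D23700
theorem N23663 : nd 23663 = n23701 := ndS (p := 22219) (l := 5) rfl N22219 D23701
theorem N23664 : nd 23664 = n23702 := ndS (p := 22225) (l := 1) rfl N22225 D23702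
theorem N23665 : nd 23665 = n23703 := ndS (p := 22229) (l := 3) rfl N22229 D23703
theorem N23666 : nd 23666 = n23704 := ndS (p := 22229) (l := 5) rfl N22229 D23704
theorem N23667 : nd 23667 = n23705 := ndS (p := 22231) (l := 3) rfl N22231 D23705
theorem N23668 : nd 23668 = n23706 := ndS (p := 22231) (l := 5) rfl N22231 D23706
theorem N23669 : nd 23669 = n23707 := ndS (p := 22232) (l := 2) rfl N22232 D23707
theorem N23670 : nd 23670 = n23708 := ndS (p := 22232) (l := 5) rfl N22232 D23708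
theorem N23671 : nd 23671 = n23709 := ndS (p := 22234) (l := 5) rfl N22234 D23709
theorem N23672 : nd 23672 = n23710 := ndS (p := 22235) (l := 5) rfl N22235 D23710
theorem N23673 : nd 23673 = n23711 := ndS (p := 22237) (l := 1) rfl N22237 D23711
theorem N23674 : nd 23674 = n23712 := ndS (p := 22237) (l := 3) rfl N22237 D23712
theorem N23675 : nd 23675 = n23713 := ndS (p := 22237) (l := 5) rfl N22237 D23713
theorem N23676 : nd 23676 = n23714 := ndS (p := 22238) (l := 4) rfl N22238 D23714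
theorem N23677 : nd 23677 = n23715 := ndS (p := 22243) (l := 5) rfl N22243 D23715
theorem N23678 : nd 23678 = n23716 := ndS (p := 22245) (l := 5) rfl N22245 D23716
theorem N23679 : nd 23679 = n23717 := ndS (p := 22248) (l := 3) rfl N22248 D23717
theorem N23680 : nd 23680 = n23718 := ndS (p := 22249) (l := 3) rfl N22249 D23718
theorem N23681 : nd 23681 = n23719 := ndS (p := 22249) (l := 5) rfl N22249 D23719
theorem N23682 : nd 23682 = n23720 := ndS (p := 22250) (l := 2) rfl N22250 D23720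
theorem N23683 : nd 23683 = n23721 := ndS (p := 22250) (l := 5) rfl N22250 D23721
theorem N23684 : nd 23684 = n23722 := ndS (p := 22252) (l := 3) rfl N22252 D23722
theorem N23685 : nd 23685 = n23723 := ndS (p := 22253) (l := 2) rfl N22253 D23723
theorem N23686 : nd 23686 = n23724 := ndS (p := 22260) (l := 2) rfl N22260 D23724
theorem N23687 : nd 23687 = n23725 := ndS (p := 22261) (l := 1) rfl N22261 D23725
theorem N23688 : nd 23688 = n23726 := ndS (p := 22262) (l := 2) rfl N22262 D23726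
theorem N23689 : nd 23689 = n23727 := ndS (p := 22262) (l := 5) rfl N22262 D23727
theorem N23690 : nd 23690 = n23728 := ndS (p := 22265) (l := 2) rfl N22265 D23728
theorem N23691 : nd 23691 = n23729 := ndS (p := 22265) (l := 5) rfl N22265 D23729
theorem N23692 : nd 23692 = n23730 := ndS (p := 22267) (l := 3) rfl N22267 D23730
theorem N23693 : nd 23693 = n23731 := ndS (p := 22267) (l := 5) rfl N22267 D23731
theorem N23694 : nd 23694 = n23732 := ndS (p := 22272) (l := 4) rfl N22272 D23732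
theorem N23695 : nd 23695 = n23733 := ndS (p := 22274) (l := 4) rfl N22274 D23733
theorem N23696 : nd 23696 = n23734 := ndS (p := 22275) (l := 3) rfl N22275 D23734
theorem N23697 : nd 23697 = n23735 := ndS (p := 22277) (l := 2) rfl N22277 D23735
theorem N23698 : nd 23698 = n23736 := ndS (p := 22277) (l := 5) rfl N22277 D23736
theorem N23699 : nd 23699 = n23737 := ndS (p := 22279) (l := 1) rfl N22279 D23737
theorem N23700 : nd 23700 = n23738 := ndS (p := 22279) (l := 3) rfl N22279 D23738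
theorem N23701 : nd 23701 = n23739 := ndS (p := 22279) (l := 5) rfl N22279 D23739
theorem N23702 : nd 23702 = n23740 := ndS (p := 22280) (l := 4) rfl N22280 D23740
theorem N23703 : nd 23703 = n23741 := ndS (p := 22283) (l := 4) rfl N22283 D23741
theorem N23704 : nd 23704 = n23742 := ndS (p := 22287) (l := 4) rfl N22287 D23742
theorem N23705 : nd 23705 = n23743 := ndS (p := 22288) (l := 3) rfl N22288 D23743
theorem N23706 : nd 23706 = n23744 := ndS (p := 22288) (l := 5) rfl N22288 D23744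
theorem N23707 : nd 23707 = n23745 := ndS (p := 22291) (l := 3) rfl N22291 D23745
theorem N23708 : nd 23708 = n23746 := ndS (p := 22292) (l := 4) rfl N22292 D23746
theorem N23709 : nd 23709 = n23747 := ndS (p := 22293) (l := 4) rfl N22293 D23747
theorem N23710 : nd 23710 = n23748 := ndS (p := 22294) (l := 3) rfl N22294 D23748
theorem N23711 : nd 23711 = n23749 := ndS (p := 22294) (l := 5) rfl N22294 D23749
theorem N23712 : nd 23712 = n23750 := ndS (p := 22295) (l := 2) rfl N22295 D23750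
theorem N23713 : nd 23713 = n23751 := ndS (p := 22296) (l := 3) rfl N22296 D23751
theorem N23714 : nd 23714 = n23752 := ndS (p := 22296) (l := 5) rfl N22296 D23752
theorem N23715 : nd 23715 = n23753 := ndS (p := 22304) (l := 4) rfl N22304 D23753
theorem N23716 : nd 23716 = n23754 := ndS (p := 22305) (l := 3) rfl N22305 D23754
theorem N23717 : nd 23717 = n23755 := ndS (p := 22308) (l := 3) rfl N22308 D23755
theorem N23718 : nd 23718 = n23756 := ndS (p := 22309) (l := 2) rfl N22309 D23756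
theorem N23719 : nd 23719 = n23757 := ndS (p := 22310) (l := 3) rfl N22310 D23757
theorem N23720 : nd 23720 = n23758 := ndS (p := 22312) (l := 4) rfl N22312 D23758
theorem N23721 : nd 23721 = n23759 := ndS (p := 22315) (l := 4) rfl N22315 D23759
theorem N23722 : nd 23722 = n23760 := ndS (p := 22317) (l := 3) rfl N22317 D23760
theorem N23723 : nd 23723 = n23761 := ndS (p := 22317) (l := 4) rfl N22317 D23761
theorem N23724 : nd 23724 = n23762 := ndS (p := 22325) (l := 2) rfl N22325 D23762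
theorem N23725 : nd 23725 = n23763 := ndS (p := 22326) (l := 1) rfl N22326 D23763
theorem N23726 : nd 23726 = n23764 := ndS (p := 22326) (l := 3) rfl N22326 D23764
theorem N23727 : nd 23727 = n23765 := ndS (p := 22328) (l := 4) rfl N22328 D23765
theorem N23728 : nd 23728 = n23766 := ndS (p := 22329) (l := 3) rfl N22329 D23766
theorem N23729 : nd 23729 = n23767 := ndS (p := 22329) (l := 5) rfl N22329 D23767
theorem N23730 : nd 23730 = n23768 := ndS (p := 22330) (l := 3) rfl N22330 D23768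
theorem N23731 : nd 23731 = n23769 := ndS (p := 22333) (l := 3) rfl N22333 D23769
theorem N23732 : nd 23732 = n23770 := ndS (p := 22334) (l := 2) rfl N22334 D23770
theorem N23733 : nd 23733 = n23771 := ndS (p := 22335) (l := 1) rfl N22335 D23771
theorem N23734 : nd 23734 = n23772 := ndS (p := 22336) (l := 4) rfl N22336 D23772
theorem N23735 : nd 23735 = n23773 := ndS (p := 22337) (l := 2) rfl N22337 D23773
theorem N23736 : nd 23736 = n23774 := ndS (p := 22337) (l := 4) rfl N22337 D23774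
theorem N23737 : nd 23737 = n23775 := ndS (p := 22340) (l := 5) rfl N22340 D23775
theorem N23738 : nd 23738 = n23776 := ndS (p := 22342) (l := 4) rfl N22342 D23776
theorem N23739 : nd 23739 = n23777 := ndS (p := 22344) (l := 3) rfl N22344 D23777
theorem N23740 : nd 23740 = n23778 := ndS (p := 22345) (l := 2) rfl N22345 D23778
theorem N23741 : nd 23741 = n23779 := ndS (p := 22347) (l := 1) rfl N22347 D23779
theorem N23742 : nd 23742 = n23780 := ndS (p := 22349) (l := 5) rfl N22349 D23780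
theorem N23743 : nd 23743 = n23781 := ndS (p := 22350) (l := 5) rfl N22350 D23781
theorem N23744 : nd 23744 = n23782 := ndS (p := 22352) (l := 3) rfl N22352 D23782
theorem N23745 : nd 23745 = n23783 := ndS (p := 22356) (l := 5) rfl N22356 D23783
theorem N23746 : nd 23746 = n23784 := ndS (p := 22358) (l := 3) rfl N22358 D23784
theorem N23747 : nd 23747 = n23785 := ndS (p := 22358) (l := 5) rfl N22358 D23785
theorem N23748 : nd 23748 = n23786 := ndS (p := 22359) (l := 2) rfl N22359 D23786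
theorem N23749 : nd 23749 = n23787 := ndS (p := 22359) (l := 5) rfl N22359 D23787
theorem N23750 : nd 23750 = n23788 := ndS (p := 22361) (l := 1) rfl N22361 D23788
theorem N23751 : nd 23751 = n23789 := ndS (p := 22365) (l := 3) rfl N22365 D23789
theorem N23752 : nd 23752 = n23790 := ndS (p := 22366) (l := 3) rfl N22366 D23790
theorem N23753 : nd 23753 = n23791 := ndS (p := 22366) (l := 5) rfl N22366 D23791
theorem N23754 : nd 23754 = n23792 := ndS (p := 22371) (l := 3) rfl N22371 D23792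
theorem N23755 : nd 23755 = n23793 := ndS (p := 22375) (l := 3) rfl N22375 D23793
theorem N23756 : nd 23756 = n23794 := ndS (p := 22376) (l := 2) rfl N22376 D23794
theorem N23757 : nd 23757 = n23795 := ndS (p := 22378) (l := 4) rfl N22378 D23795
theorem N23758 : nd 23758 = n23796 := ndS (p := 22382) (l := 3) rfl N22382 D23796
theorem N23759 : nd 23759 = n23797 := ndS (p := 22383) (l := 2) rfl N22383 D23797
theorem N23760 : nd 23760 = n23798 := ndS (p := 22383) (l := 4) rfl N22383 D23798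
theorem N23761 : nd 23761 = n23799 := ndS (p := 22383) (l := 5) rfl N22383 D23799
theorem N23762 : nd 23762 = n23800 := ndS (p := 22385) (l := 1) rfl N22385 D23800
theorem N23763 : nd 23763 = n23801 := ndS (p := 22385) (l := 3) rfl N22385 D23801
theorem N23764 : nd 23764 = n23802 := ndS (p := 22385) (l := 4) rfl N22385 D23802
theorem N23765 : nd 23765 = n23803 := ndS (p := 22385) (l := 5) rfl N22385 D23803
theorem N23766 : nd 23766 = n23804 := ndS (p := 22386) (l := 5) rfl N22386 D23804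
theorem N23767 : nd 23767 = n23805 := ndS (p := 22389) (l := 0) rfl N22389 D23805
theorem N23768 : nd 23768 = n23806 := ndS (p := 22393) (l := 5) rfl N22393 D23806
theorem N23769 : nd 23769 = n23807 := ndS (p := 22400) (l := 2) rfl N22400 D23807
theorem N23770 : nd 23770 = n23808 := ndS (p := 22402) (l := 3) rfl N22402 D23808
theorem N23771 : nd 23771 = n23809 := ndS (p := 22403) (l := 5) rfl N22403 D23809
theorem N23772 : nd 23772 = n23810 := ndS (p := 22404) (l := 4) rfl N22404 D23810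
theorem N23773 : nd 23773 = n23811 := ndS (p := 22405) (l := 4) rfl N22405 D23811
theorem N23774 : nd 23774 = n23812 := ndS (p := 22409) (l := 4) rfl N22409 D23812
theorem N23775 : nd 23775 = n23813 := ndS (p := 22410) (l := 3) rfl N22410 D23813
theorem N23776 : nd 23776 = n23814 := ndS (p := 22412) (l := 5) rfl N22412 D23814
theorem N23777 : nd 23777 = n23815 := ndS (p := 22413) (l := 4) rfl N22413 D23815
theorem N23778 : nd 23778 = n23816 := ndS (p := 22414) (l := 3) rfl N22414 D23816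
theorem N23779 : nd 23779 = n23817 := ndS (p := 22415) (l := 3) rfl N22415 D23817
theorem N23780 : nd 23780 = n23818 := ndS (p := 22416) (l := 2) rfl N22416 D23818
theorem N23781 : nd 23781 = n23819 := ndS (p := 22417) (l := 1) rfl N22417 D23819
theorem N23782 : nd 23782 = n23820 := ndS (p := 22420) (l := 1) rfl N22420 D23820
theorem N23783 : nd 23783 = n23821 := ndS (p := 22425) (l := 3) rfl N22425 D23821
theorem N23784 : nd 23784 = n23822 := ndS (p := 22426) (l := 2) rfl N22426 D23822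
theorem N23785 : nd 23785 = n23823 := ndS (p := 22426) (l := 5) rfl N22426 D23823
theorem N23786 : nd 23786 = n23824 := ndS (p := 22428) (l := 5) rfl N22428 D23824
theorem N23787 : nd 23787 = n23825 := ndS (p := 22430) (l := 4) rfl N22430 D23825
theorem N23788 : nd 23788 = n23826 := ndS (p := 22432) (l := 3) rfl N22432 D23826
theorem N23789 : nd 23789 = n23827 := ndS (p := 22433) (l := 2) rfl N22433 D23827
theorem N23790 : nd 23790 = n23828 := ndS (p := 22438) (l := 2) rfl N22438 D23828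
theorem N23791 : nd 23791 = n23829 := ndS (p := 22438) (l := 5) rfl N22438 D23829
theorem N23792 : nd 23792 = n23830 := ndS (p := 22440) (l := 3) rfl N22440 D23830
theorem N23793 : nd 23793 = n23831 := ndS (p := 22441) (l := 2) rfl N22441 D23831
theorem N23794 : nd 23794 = n23832 := ndS (p := 22441) (l := 5) rfl N22441 D23832
theorem N23795 : nd 23795 = n23833 := ndS (p := 22443) (l := 2) rfl N22443 D23833
theorem N23796 : nd 23796 = n23834 := ndS (p := 22444) (l := 1) rfl N22444 D23834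
theorem N23797 : nd 23797 = n23835 := ndS (p := 22444) (l := 3) rfl N22444 D23835
theorem N23798 : nd 23798 = n23836 := ndS (p := 22447) (l := 3) rfl N22447 D23836
theorem N23799 : nd 23799 = n23837 := ndS (p := 22448) (l := 4) rfl N22448 D23837
theorem N23800 : nd 23800 = n23838 := ndS (p := 22449) (l := 3) rfl N22449 D23838
theorem N23801 : nd 23801 = n23839 := ndS (p := 22449) (l := 5) rfl N22449 D23839
theorem N23802 : nd 23802 = n23840 := ndS (p := 22454) (l := 4) rfl N22454 D23840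
theorem N23803 : nd 23803 = n23841 := ndS (p := 22455) (l := 4) rfl N22455 D23841
theorem N23804 : nd 23804 = n23842 := ndS (p := 22456) (l := 3) rfl N22456 D23842
theorem N23805 : nd 23805 = n23843 := ndS (p := 22457) (l := 2) rfl N22457 D23843
theorem N23806 : nd 23806 = n23844 := ndS (p := 22458) (l := 2) rfl N22458 D23844
theorem N23807 : nd 23807 = n23845 := ndS (p := 22458) (l := 5) rfl N22458 D23845
theorem N23808 : nd 23808 = n23846 := ndS (p := 22460) (l := 1) rfl N22460 D23846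
theorem N23809 : nd 23809 = n23847 := ndS (p := 22460) (l := 3) rfl N22460 D23847
theorem N23810 : nd 23810 = n23848 := ndS (p := 22460) (l := 5) rfl N22460 D23848
theorem N23811 : nd 23811 = n23849 := ndS (p := 22461) (l := 4) rfl N22461 D23849
theorem N23812 : nd 23812 = n23850 := ndS (p := 22462) (l := 2) rfl N22462 D23850
theorem N23813 : nd 23813 = n23851 := ndS (p := 22463) (l := 1) rfl N22463 D23851
theorem N23814 : nd 23814 = n23852 := ndS (p := 22464) (l := 0) rfl N22464 D23852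
theorem N23815 : nd 23815 = n23853 := ndS (p := 22465) (l := 2) rfl N22465 D23853
theorem N23816 : nd 23816 = n23854 := ndS (p := 22465) (l := 5) rfl N22465 D23854
theorem N23817 : nd 23817 = n23855 := ndS (p := 22467) (l := 1) rfl N22467 D23855
theorem N23818 : nd 23818 = n23856 := ndS (p := 22468) (l := 4) rfl N22468 D23856
theorem N23819 : nd 23819 = n23857 := ndS (p := 22473) (l := 3) rfl N22473 D23857
theorem N23820 : nd 23820 = n23858 := ndS (p := 22475) (l := 1) rfl N22475 D23858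
theorem N23821 : nd 23821 = n23859 := ndS (p := 22477) (l := 3) rfl N22477 D23859
theorem N23822 : nd 23822 = n23860 := ndS (p := 22478) (l := 3) rfl N22478 D23860
theorem N23823 : nd 23823 = n23861 := ndS (p := 22479) (l := 0) rfl N22479 D23861
theorem N23824 : nd 23824 = n23862 := ndS (p := 22479) (l := 3) rfl N22479 D23862
theorem N23825 : nd 23825 = n23863 := ndS (p := 22480) (l := 4) rfl N22480 D23863
theorem N23826 : nd 23826 = n23864 := ndS (p := 22483) (l := 3) rfl N22483 D23864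
theorem N23827 : nd 23827 = n23865 := ndS (p := 22484) (l := 2) rfl N22484 D23865
theorem N23828 : nd 23828 = n23866 := ndS (p := 22485) (l := 1) rfl N22485 D23866
theorem N23829 : nd 23829 = n23867 := ndS (p := 22486) (l := 3) rfl N22486 D23867
theorem N23830 : nd 23830 = n23868 := ndS (p := 22487) (l := 2) rfl N22487 D23868
theorem N23831 : nd 23831 = n23869 := ndS (p := 22488) (l := 2) rfl N22488 D23869
theorem N23832 : nd 23832 = n23870 := ndS (p := 22489) (l := 1) rfl N22489 D23870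
theorem N23833 : nd 23833 = n23871 := ndS (p := 22491) (l := 2) rfl N22491 D23871
theorem N23834 : nd 23834 = n23872 := ndS (p := 22491) (l := 5) rfl N22491 D23872
theorem N23835 : nd 23835 = n23873 := ndS (p := 22493) (l := 1) rfl N22493 D23873
theorem N23836 : nd 23836 = n23874 := ndS (p := 22493) (l := 3) rfl N22493 D23874
theorem N23837 : nd 23837 = n23875 := ndS (p := 22494) (l := 0) rfl N22494 D23875
theorem N23838 : nd 23838 = n23876 := ndS (p := 22495) (l := 3) rfl N22495 D23876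
theorem N23839 : nd 23839 = n23877 := ndS (p := 22497) (l := 3) rfl N22497 D23877
theorem N23840 : nd 23840 = n23878 := ndS (p := 22505) (l := 2) rfl N22505 D23878
theorem N23841 : nd 23841 = n23879 := ndS (p := 22506) (l := 1) rfl N22506 D23879
theorem N23842 : nd 23842 = n23880 := ndS (p := 22507) (l := 2) rfl N22507 D23880
theorem N23843 : nd 23843 = n23881 := ndS (p := 22508) (l := 3) rfl N22508 D23881
theorem N23844 : nd 23844 = n23882 := ndS (p := 22509) (l := 3) rfl N22509 D23882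
theorem N23845 : nd 23845 = n23883 := ndS (p := 22510) (l := 4) rfl N22510 D23883
theorem N23846 : nd 23846 = n23884 := ndS (p := 22514) (l := 4) rfl N22514 D23884
theorem N23847 : nd 23847 = n23885 := ndS (p := 22515) (l := 5) rfl N22515 D23885
theorem N23848 : nd 23848 = n23886 := ndS (p := 22518) (l := 2) rfl N22518 D23886
theorem N23849 : nd 23849 = n23887 := ndS (p := 22519) (l := 3) rfl N22519 D23887
theorem N23850 : nd 23850 = n23888 := ndS (p := 22520) (l := 3) rfl N22520 D23888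
theorem N23851 : nd 23851 = n23889 := ndS (p := 22520) (l := 5) rfl N22520 D23889
theorem N23852 : nd 23852 = n23890 := ndS (p := 22521) (l := 5) rfl N22521 D23890
theorem N23853 : nd 23853 = n23891 := ndS (p := 22523) (l := 3) rfl N22523 D23891
theorem N23854 : nd 23854 = n23892 := ndS (p := 22524) (l := 3) rfl N22524 D23892
theorem N23855 : nd 23855 = n23893 := ndS (p := 22525) (l := 2) rfl N22525 D23893
theorem N23856 : nd 23856 = n23894 := ndS (p := 22526) (l := 5) rfl N22526 D23894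
theorem N23857 : nd 23857 = n23895 := ndS (p := 22528) (l := 5) rfl N22528 D23895
theorem N23858 : nd 23858 = n23896 := ndS (p := 22530) (l := 2) rfl N22530 D23896
theorem N23859 : nd 23859 = n23897 := ndS (p := 22532) (l := 3) rfl N22532 D23897
theorem N23860 : nd 23860 = n23898 := ndS (p := 22534) (l := 3) rfl N22534 D23898
theorem N23861 : nd 23861 = n23899 := ndS (p := 22535) (l := 4) rfl N22535 D23899
theorem N23862 : nd 23862 = n23900 := ndS (p := 22536) (l := 2) rfl N22536 D23900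
theorem N23863 : nd 23863 = n23901 := ndS (p := 22537) (l := 1) rfl N22537 D23901
theorem N23864 : nd 23864 = n23902 := ndS (p := 22540) (l := 4) rfl N22540 D23902
theorem N23865 : nd 23865 = n23903 := ndS (p := 22542) (l := 0) rfl N22542 D23903
theorem N23866 : nd 23866 = n23904 := ndS (p := 22542) (l := 3) rfl N22542 D23904
theorem N23867 : nd 23867 = n23905 := ndS (p := 22544) (l := 1) rfl N22544 D23905
theorem N23868 : nd 23868 = n23906 := ndS (p := 22545) (l := 0) rfl N22545 D23906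
theorem N23869 : nd 23869 = n23907 := ndS (p := 22545) (l := 3) rfl N22545 D23907
theorem N23870 : nd 23870 = n23908 := ndS (p := 22550) (l := 1) rfl N22550 D23908
theorem N23871 : nd 23871 = n23909 := ndS (p := 22551) (l := 0) rfl N22551 D23909
theorem N23872 : nd 23872 = n23910 := ndS (p := 22551) (l := 3) rfl N22551 D23910
theorem N23873 : nd 23873 = n23911 := ndS (p := 22554) (l := 4) rfl N22554 D23911
theorem N23874 : nd 23874 = n23912 := ndS (p := 22555) (l := 3) rfl N22555 D23912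
theorem N23875 : nd 23875 = n23913 := ndS (p := 22555) (l := 5) rfl N22555 D23913
theorem N23876 : nd 23876 = n23914 := ndS (p := 22556) (l := 3) rfl N22556 D23914
theorem N23877 : nd 23877 = n23915 := ndS (p := 22556) (l := 5) rfl N22556 D23915
theorem N23878 : nd 23878 = n23916 := ndS (p := 22557) (l := 2) rfl N22557 D23916
theorem N23879 : nd 23879 = n23917 := ndS (p := 22557) (l := 5) rfl N22557 D23917
theorem N23880 : nd 23880 = n23918 := ndS (p := 22559) (l := 1) rfl N22559 D23918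
theorem N23881 : nd 23881 = n23919 := ndS (p := 22560) (l := 2) rfl N22560 D23919
theorem N23882 : nd 23882 = n23920 := ndS (p := 22560) (l := 5) rfl N22560 D23920
theorem N23883 : nd 23883 = n23921 := ndS (p := 22562) (l := 1) rfl N22562 D23921
theorem N23884 : nd 23884 = n23922 := ndS (p := 22562) (l := 3) rfl N22562 D23922
theorem N23885 : nd 23885 = n23923 := ndS (p := 22562) (l := 5) rfl N22562 D23923
theorem N23886 : nd 23886 = n23924 := ndS (p := 22563) (l := 4) rfl N22563 D23924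
theorem N23887 : nd 23887 = n23925 := ndS (p := 22565) (l := 1) rfl N22565 D23925
theorem N23888 : nd 23888 = n23926 := ndS (p := 22566) (l := 4) rfl N22566 D23926
theorem N23889 : nd 23889 = n23927 := ndS (p := 22567) (l := 2) rfl N22567 D23927
theorem N23890 : nd 23890 = n23928 := ndS (p := 22568) (l := 1) rfl N22568 D23928
theorem N23891 : nd 23891 = n23929 := ndS (p := 22568) (l := 3) rfl N22568 D23929
theorem N23892 : nd 23892 = n23930 := ndS (p := 22569) (l := 0) rfl N22569 D23930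
theorem N23893 : nd 23893 = n23931 := ndS (p := 22569) (l := 3) rfl N22569 D23931
theorem N23894 : nd 23894 = n23932 := ndS (p := 22570) (l := 4) rfl N22570 D23932
theorem N23895 : nd 23895 = n23933 := ndS (p := 22571) (l := 4) rfl N22571 D23933
theorem N23896 : nd 23896 = n23934 := ndS (p := 22572) (l := 0) rfl N22572 D23934
theorem N23897 : nd 23897 = n23935 := ndS (p := 22572) (l := 3) rfl N22572 D23935
theorem N23898 : nd 23898 = n23936 := ndS (p := 22572) (l := 5) rfl N22572 D23936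
theorem N23899 : nd 23899 = n23937 := ndS (p := 22574) (l := 4) rfl N22574 D23937
theorem N23900 : nd 23900 = n23938 := ndS (p := 22575) (l := 3) rfl N22575 D23938
theorem N23901 : nd 23901 = n23939 := ndS (p := 22576) (l := 2) rfl N22576 D23939
theorem N23902 : nd 23902 = n23940 := ndS (p := 22577) (l := 1) rfl N22577 D23940
theorem N23903 : nd 23903 = n23941 := ndS (p := 22577) (l := 3) rfl N22577 D23941
theorem N23904 : nd 23904 = n23942 := ndS (p := 22578) (l := 3) rfl N22578 D23942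
theorem N23905 : nd 23905 = n23943 := ndS (p := 22579) (l := 0) rfl N22579 D23943
theorem N23906 : nd 23906 = n23944 := ndS (p := 22579) (l := 3) rfl N22579 D23944
theorem N23907 : nd 23907 = n23945 := ndS (p := 22580) (l := 2) rfl N22580 D23945
theorem N23908 : nd 23908 = n23946 := ndS (p := 22580) (l := 4) rfl N22580 D23946
theorem N23909 : nd 23909 = n23947 := ndS (p := 22581) (l := 3) rfl N22581 D23947
theorem N23910 : nd 23910 = n23948 := ndS (p := 22582) (l := 4) rfl N22582 D23948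
theorem N23911 : nd 23911 = n23949 := ndS (p := 22587) (l := 3) rfl N22587 D23949
theorem N23912 : nd 23912 = n23950 := ndS (p := 22587) (l := 5) rfl N22587 D23950
theorem N23913 : nd 23913 = n23951 := ndS (p := 22588) (l := 2) rfl N22588 D23951
theorem N23914 : nd 23914 = n23952 := ndS (p := 22590) (l := 3) rfl N22590 D23952
theorem N23915 : nd 23915 = n23953 := ndS (p := 22591) (l := 2) rfl N22591 D23953
theorem N23916 : nd 23916 = n23954 := ndS (p := 22592) (l := 1) rfl N22592 D23954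
theorem N23917 : nd 23917 = n23955 := ndS (p := 22594) (l := 0) rfl N22594 D23955
theorem N23918 : nd 23918 = n23956 := ndS (p := 22595) (l := 0) rfl N22595 D23956
theorem N23919 : nd 23919 = n23957 := ndS (p := 22595) (l := 5) rfl N22595 D23957
theorem N23920 : nd 23920 = n23958 := ndS (p := 22596) (l := 4) rfl N22596 D23958
theorem N23921 : nd 23921 = n23959 := ndS (p := 22598) (l := 0) rfl N22598 D23959
theorem N23922 : nd 23922 = n23960 := ndS (p := 22600) (l := 3) rfl N22600 D23960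
theorem N23923 : nd 23923 = n23961 := ndS (p := 22602) (l := 3) rfl N22602 D23961
theorem N23924 : nd 23924 = n23962 := ndS (p := 22603) (l := 1) rfl N22603 D23962
theorem N23925 : nd 23925 = n23963 := ndS (p := 22604) (l := 4) rfl N22604 D23963
theorem N23926 : nd 23926 = n23964 := ndS (p := 22605) (l := 5) rfl N22605 D23964
theorem N23927 : nd 23927 = n23965 := ndS (p := 22606) (l := 4) rfl N22606 D23965
theorem N23928 : nd 23928 = n23966 := ndS (p := 22608) (l := 3) rfl N22608 D23966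
theorem N23929 : nd 23929 = n23967 := ndS (p := 22610) (l := 1) rfl N22610 D23967
theorem N23930 : nd 23930 = n23968 := ndS (p := 22610) (l := 4) rfl N22610 D23968
theorem N23931 : nd 23931 = n23969 := ndS (p := 22612) (l := 2) rfl N22612 D23969
theorem N23932 : nd 23932 = n23970 := ndS (p := 22614) (l := 5) rfl N22614 D23970
theorem N23933 : nd 23933 = n23971 := ndS (p := 22618) (l := 2) rfl N22618 D23971
theorem N23934 : nd 23934 = n23972 := ndS (p := 22620) (l := 3) rfl N22620 D23972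
theorem N23935 : nd 23935 = n23973 := ndS (p := 22621) (l := 3) rfl N22621 D23973
theorem N23936 : nd 23936 = n23974 := ndS (p := 22622) (l := 2) rfl N22622 D23974
theorem N23937 : nd 23937 = n23975 := ndS (p := 22623) (l := 2) rfl N22623 D23975
theorem N23938 : nd 23938 = n23976 := ndS (p := 22625) (l := 3) rfl N22625 D23976
theorem N23939 : nd 23939 = n23977 := ndS (p := 22627) (l := 2) rfl N22627 D23977
theorem N23940 : nd 23940 = n23978 := ndS (p := 22629) (l := 1) rfl N22629 D23978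
theorem N23941 : nd 23941 = n23979 := ndS (p := 22629) (l := 3) rfl N22629 D23979
theorem N23942 : nd 23942 = n23980 := ndS (p := 22630) (l := 2) rfl N22630 D23980
theorem N23943 : nd 23943 = n23981 := ndS (p := 22630) (l := 5) rfl N22630 D23981
theorem N23944 : nd 23944 = n23982 := ndS (p := 22632) (l := 1) rfl N22632 D23982
theorem N23945 : nd 23945 = n23983 := ndS (p := 22633) (l := 4) rfl N22633 D23983
theorem N23946 : nd 23946 = n23984 := ndS (p := 22634) (l := 1) rfl N22634 D23984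
theorem N23947 : nd 23947 = n23985 := ndS (p := 22635) (l := 4) rfl N22635 D23985
theorem N23948 : nd 23948 = n23986 := ndS (p := 22637) (l := 0) rfl N22637 D23986
theorem N23949 : nd 23949 = n23987 := ndS (p := 22637) (l := 5) rfl N22637 D23987
theorem N23950 : nd 23950 = n23988 := ndS (p := 22638) (l := 4) rfl N22638 D23988
theorem N23951 : nd 23951 = n23989 := ndS (p := 22646) (l := 3) rfl N22646 D23989
theorem N23952 : nd 23952 = n23990 := ndS (p := 22647) (l := 2) rfl N22647 D23990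
theorem N23953 : nd 23953 = n23991 := ndS (p := 22650) (l := 3) rfl N22650 D23991
theorem N23954 : nd 23954 = n23992 := ndS (p := 22651) (l := 2) rfl N22651 D23992
theorem N23955 : nd 23955 = n23993 := ndS (p := 22651) (l := 4) rfl N22651 D23993
theorem N23956 : nd 23956 = n23994 := ndS (p := 22651) (l := 5) rfl N22651 D23994
theorem N23957 : nd 23957 = n23995 := ndS (p := 22653) (l := 4) rfl N22653 D23995
theorem N23958 : nd 23958 = n23996 := ndS (p := 22655) (l := 4) rfl N22655 D23996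
theorem N23959 : nd 23959 = n23997 := ndS (p := 22658) (l := 3) rfl N22658 D23997
theorem N23960 : nd 23960 = n23998 := ndS (p := 22659) (l := 2) rfl N22659 D23998
theorem N23961 : nd 23961 = n23999 := ndS (p := 22661) (l := 1) rfl N22661 D23999
theorem N23962 : nd 23962 = n24000 := ndS (p := 22663) (l := 3) rfl N22663 D24000
theorem N23963 : nd 23963 = n24001 := ndS (p := 22666) (l := 5) rfl N22666 D24001
theorem N23964 : nd 23964 = n24002 := ndS (p := 22667) (l := 4) rfl N22667 D24002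
theorem N23965 : nd 23965 = n24003 := ndS (p := 22668) (l := 3) rfl N22668 D24003
theorem N23966 : nd 23966 = n24004 := ndS (p := 22668) (l := 4) rfl N22668 D24004
theorem N23967 : nd 23967 = n24005 := ndS (p := 22669) (l := 5) rfl N22669 D24005
theorem N23968 : nd 23968 = n24006 := ndS (p := 22673) (l := 5) rfl N22673 D24006
theorem N23969 : nd 23969 = n24007 := ndS (p := 22678) (l := 5) rfl N22678 D24007
theorem N23970 : nd 23970 = n24008 := ndS (p := 22681) (l := 2) rfl N22681 D24008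
theorem N23971 : nd 23971 = n24009 := ndS (p := 22682) (l := 1) rfl N22682 D24009
theorem N23972 : nd 23972 = n24010 := ndS (p := 22683) (l := 3) rfl N22683 D24010
theorem N23973 : nd 23973 = n24011 := ndS (p := 22684) (l := 4) rfl N22684 D24011
theorem N23974 : nd 23974 = n24012 := ndS (p := 22685) (l := 4) rfl N22685 D24012
theorem N23975 : nd 23975 = n24013 := ndS (p := 22687) (l := 1) rfl N22687 D24013
theorem N23976 : nd 23976 = n24014 := ndS (p := 22687) (l := 3) rfl N22687 D24014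
theorem N23977 : nd 23977 = n24015 := ndS (p := 22687) (l := 5) rfl N22687 D24015
theorem N23978 : nd 23978 = n24016 := ndS (p := 22689) (l := 0) rfl N22689 D24016
theorem N23979 : nd 23979 = n24017 := ndS (p := 22690) (l := 0) rfl N22690 D24017
theorem N23980 : nd 23980 = n24018 := ndS (p := 22690) (l := 3) rfl N22690 D24018
theorem N23981 : nd 23981 = n24019 := ndS (p := 22690) (l := 5) rfl N22690 D24019
theorem N23982 : nd 23982 = n24020 := ndS (p := 22691) (l := 2) rfl N22691 D24020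
theorem N23983 : nd 23983 = n24021 := ndS (p := 22691) (l := 4) rfl N22691 D24021
theorem N23984 : nd 23984 = n24022 := ndS (p := 22692) (l := 4) rfl N22692 D24022
theorem N23985 : nd 23985 = n24023 := ndS (p := 22694) (l := 3) rfl N22694 D24023
theorem N23986 : nd 23986 = n24024 := ndS (p := 22694) (l := 5) rfl N22694 D24024
theorem N23987 : nd 23987 = n24025 := ndS (p := 22695) (l := 4) rfl N22695 D24025
theorem N23988 : nd 23988 = n24026 := ndS (p := 22696) (l := 4) rfl N22696 D24026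
theorem N23989 : nd 23989 = n24027 := ndS (p := 22697) (l := 5) rfl N22697 D24027
theorem N23990 : nd 23990 = n24028 := ndS (p := 22698) (l := 3) rfl N22698 D24028
theorem N23991 : nd 23991 = n24029 := ndS (p := 22699) (l := 2) rfl N22699 D24029
theorem N23992 : nd 23992 = n24030 := ndS (p := 22700) (l := 3) rfl N22700 D24030
theorem N23993 : nd 23993 = n24031 := ndS (p := 22700) (l := 5) rfl N22700 D24031
theorem N23994 : nd 23994 = n24032 := ndS (p := 22704) (l := 1) rfl N22704 D24032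
theorem N23995 : nd 23995 = n24033 := ndS (p := 22704) (l := 3) rfl N22704 D24033
theorem N23996 : nd 23996 = n24034 := ndS (p := 22705) (l := 2) rfl N22705 D24034
theorem N23997 : nd 23997 = n24035 := ndS (p := 22705) (l := 4) rfl N22705 D24035
theorem N23998 : nd 23998 = n24036 := ndS (p := 22706) (l := 0) rfl N22706 D24036
theorem N23999 : nd 23999 = n24037 := ndS (p := 22707) (l := 3) rfl N22707 D24037
theorem N24000 : nd 24000 = n24038 := ndS (p := 22708) (l := 2) rfl N22708 D24038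
theorem N24001 : nd 24001 = n24039 := ndS (p := 22709) (l := 3) rfl N22709 D24039
theorem N24002 : nd 24002 = n24040 := ndS (p := 22710) (l := 4) rfl N22710 D24040
theorem N24003 : nd 24003 = n24041 := ndS (p := 22712) (l := 2) rfl N22712 D24041
theorem N24004 : nd 24004 = n24042 := ndS (p := 22712) (l := 4) rfl N22712 D24042
theorem N24005 : nd 24005 = n24043 := ndS (p := 22713) (l := 1) rfl N22713 D24043
theorem N24006 : nd 24006 = n24044 := ndS (p := 22713) (l := 3) rfl N22713 D24044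
theorem N24007 : nd 24007 = n24045 := ndS (p := 22713) (l := 4) rfl N22713 D24045
theorem N24008 : nd 24008 = n24046 := ndS (p := 22714) (l := 5) rfl N22714 D24046
theorem N24009 : nd 24009 = n24047 := ndS (p := 22715) (l := 4) rfl N22715 D24047
theorem N24010 : nd 24010 = n24048 := ndS (p := 22718) (l := 1) rfl N22718 D24048
theorem N24011 : nd 24011 = n24049 := ndS (p := 22718) (l := 3) rfl N22718 D24049
theorem N24012 : nd 24012 = n24050 := ndS (p := 22719) (l := 2) rfl N22719 D24050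
theorem N24013 : nd 24013 = n24051 := ndS (p := 22719) (l := 4) rfl N22719 D24051
theorem N24014 : nd 24014 = n24052 := ndS (p := 22721) (l := 1) rfl N22721 D24052
theorem N24015 : nd 24015 = n24053 := ndS (p := 22722) (l := 3) rfl N22722 D24053
theorem N24016 : nd 24016 = n24054 := ndS (p := 22723) (l := 2) rfl N22723 D24054
theorem N24017 : nd 24017 = n24055 := ndS (p := 22723) (l := 5) rfl N22723 D24055
theorem N24018 : nd 24018 = n24056 := ndS (p := 22725) (l := 3) rfl N22725 D24056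
theorem N24019 : nd 24019 = n24057 := ndS (p := 22725) (l := 5) rfl N22725 D24057
theorem N24020 : nd 24020 = n24058 := ndS (p := 22726) (l := 2) rfl N22726 D24058
theorem N24021 : nd 24021 = n24059 := ndS (p := 22726) (l := 5) rfl N22726 D24059
theorem N24022 : nd 24022 = n24060 := ndS (p := 22728) (l := 3) rfl N22728 D24060
theorem N24023 : nd 24023 = n24061 := ndS (p := 22728) (l := 5) rfl N22728 D24061
theorem N24024 : nd 24024 = n24062 := ndS (p := 22732) (l := 1) rfl N22732 D24062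
theorem N24025 : nd 24025 = n24063 := ndS (p := 22732) (l := 3) rfl N22732 D24063
theorem N24026 : nd 24026 = n24064 := ndS (p := 22733) (l := 2) rfl N22733 D24064
theorem N24027 : nd 24027 = n24065 := ndS (p := 22734) (l := 3) rfl N22734 D24065
theorem N24028 : nd 24028 = n24066 := ndS (p := 22736) (l := 4) rfl N22736 D24066
theorem N24029 : nd 24029 = n24067 := ndS (p := 22737) (l := 3) rfl N22737 D24067
theorem N24030 : nd 24030 = n24068 := ndS (p := 22744) (l := 2) rfl N22744 D24068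
theorem N24031 : nd 24031 = n24069 := ndS (p := 22744) (l := 5) rfl N22744 D24069
theorem N24032 : nd 24032 = n24070 := ndS (p := 22746) (l := 3) rfl N22746 D24070
theorem N24033 : nd 24033 = n24071 := ndS (p := 22746) (l := 5) rfl N22746 D24071
theorem N24034 : nd 24034 = n24072 := ndS (p := 22748) (l := 4) rfl N22748 D24072
theorem N24035 : nd 24035 = n24073 := ndS (p := 22751) (l := 1) rfl N22751 D24073
theorem N24036 : nd 24036 = n24074 := ndS (p := 22751) (l := 4) rfl N22751 D24074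
theorem N24037 : nd 24037 = n24075 := ndS (p := 22753) (l := 3) rfl N22753 D24075
theorem N24038 : nd 24038 = n24076 := ndS (p := 22754) (l := 1) rfl N22754 D24076
theorem N24039 : nd 24039 = n24077 := ndS (p := 22755) (l := 3) rfl N22755 D24077
theorem N24040 : nd 24040 = n24078 := ndS (p := 22757) (l := 1) rfl N22757 D24078
theorem N24041 : nd 24041 = n24079 := ndS (p := 22759) (l := 3) rfl N22759 D24079
theorem N24042 : nd 24042 = n24080 := ndS (p := 22762) (l := 2) rfl N22762 D24080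
theorem N24043 : nd 24043 = n24081 := ndS (p := 22762) (l := 5) rfl N22762 D24081
theorem N24044 : nd 24044 = n24082 := ndS (p := 22764) (l := 1) rfl N22764 D24082
theorem N24045 : nd 24045 = n24083 := ndS (p := 22765) (l := 4) rfl N22765 D24083
theorem N24046 : nd 24046 = n24084 := ndS (p := 22769) (l := 4) rfl N22769 D24084
theorem N24047 : nd 24047 = n24085 := ndS (p := 22770) (l := 4) rfl N22770 D24085
theorem N24048 : nd 24048 = n24086 := ndS (p := 22773) (l := 1) rfl N22773 D24086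
theorem N24049 : nd 24049 = n24087 := ndS (p := 22773) (l := 3) rfl N22773 D24087
theorem N24050 : nd 24050 = n24088 := ndS (p := 22774) (l := 0) rfl N22774 D24088
theorem N24051 : nd 24051 = n24089 := ndS (p := 22774) (l := 3) rfl N22774 D24089
theorem N24052 : nd 24052 = n24090 := ndS (p := 22775) (l := 2) rfl N22775 D24090
theorem N24053 : nd 24053 = n24091 := ndS (p := 22778) (l := 3) rfl N22778 D24091
theorem N24054 : nd 24054 = n24092 := ndS (p := 22778) (l := 5) rfl N22778 D24092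
theorem N24055 : nd 24055 = n24093 := ndS (p := 22779) (l := 2) rfl N22779 D24093
theorem N24056 : nd 24056 = n24094 := ndS (p := 22779) (l := 5) rfl N22779 D24094
theorem N24057 : nd 24057 = n24095 := ndS (p := 22784) (l := 3) rfl N22784 D24095
theorem N24058 : nd 24058 = n24096 := ndS (p := 22785) (l := 3) rfl N22785 D24096
theorem N24059 : nd 24059 = n24097 := ndS (p := 22786) (l := 3) rfl N22786 D24097
theorem N24060 : nd 24060 = n24098 := ndS (p := 22786) (l := 5) rfl N22786 D24098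
theorem N24061 : nd 24061 = n24099 := ndS (p := 22788) (l := 3) rfl N22788 D24099
theorem N24062 : nd 24062 = n24100 := ndS (p := 22789) (l := 5) rfl N22789 D24100
theorem N24063 : nd 24063 = n24101 := ndS (p := 22792) (l := 2) rfl N22792 D24101
theorem N24064 : nd 24064 = n24102 := ndS (p := 22792) (l := 4) rfl N22792 D24102
theorem N24065 : nd 24065 = n24103 := ndS (p := 22793) (l := 5) rfl N22793 D24103
theorem N24066 : nd 24066 = n24104 := ndS (p := 22794) (l := 5) rfl N22794 D24104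
theorem N24067 : nd 24067 = n24105 := ndS (p := 22798) (l := 2) rfl N22798 D24105
theorem N24068 : nd 24068 = n24106 := ndS (p := 22798) (l := 5) rfl N22798 D24106
theorem N24069 : nd 24069 = n24107 := ndS (p := 22800) (l := 4) rfl N22800 D24107
theorem N24070 : nd 24070 = n24108 := ndS (p := 22801) (l := 5) rfl N22801 D24108
theorem N24071 : nd 24071 = n24109 := ndS (p := 22803) (l := 0) rfl N22803 D24109
theorem N24072 : nd 24072 = n24110 := ndS (p := 22803) (l := 3) rfl N22803 D24110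
theorem N24073 : nd 24073 = n24111 := ndS (p := 22803) (l := 5) rfl N22803 D24111
theorem N24074 : nd 24074 = n24112 := ndS (p := 22812) (l := 1) rfl N22812 D24112
theorem N24075 : nd 24075 = n24113 := ndS (p := 22812) (l := 3) rfl N22812 D24113
theorem N24076 : nd 24076 = n24114 := ndS (p := 22819) (l := 3) rfl N22819 D24114
theorem N24077 : nd 24077 = n24115 := ndS (p := 22821) (l := 2) rfl N22821 D24115
theorem N24078 : nd 24078 = n24116 := ndS (p := 22822) (l := 1) rfl N22822 D24116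
theorem N24079 : nd 24079 = n24117 := ndS (p := 22822) (l := 3) rfl N22822 D24117
theorem N24080 : nd 24080 = n24118 := ndS (p := 22824) (l := 4) rfl N22824 D24118
theorem N24081 : nd 24081 = n24119 := ndS (p := 22825) (l := 5) rfl N22825 D24119
theorem N24082 : nd 24082 = n24120 := ndS (p := 22826) (l := 2) rfl N22826 D24120
theorem N24083 : nd 24083 = n24121 := ndS (p := 22827) (l := 1) rfl N22827 D24121
theorem N24084 : nd 24084 = n24122 := ndS (p := 22827) (l := 3) rfl N22827 D24122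
theorem N24085 : nd 24085 = n24123 := ndS (p := 22828) (l := 3) rfl N22828 D24123
theorem N24086 : nd 24086 = n24124 := ndS (p := 22829) (l := 2) rfl N22829 D24124
theorem N24087 : nd 24087 = n24125 := ndS (p := 22831) (l := 5) rfl N22831 D24125
theorem N24088 : nd 24088 = n24126 := ndS (p := 22834) (l := 0) rfl N22834 D24126
theorem N24089 : nd 24089 = n24127 := ndS (p := 22834) (l := 4) rfl N22834 D24127
theorem N24090 : nd 24090 = n24128 := ndS (p := 22835) (l := 3) rfl N22835 D24128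
theorem N24091 : nd 24091 = n24129 := ndS (p := 22837) (l := 4) rfl N22837 D24129
theorem N24092 : nd 24092 = n24130 := ndS (p := 22838) (l := 3) rfl N22838 D24130
theorem N24093 : nd 24093 = n24131 := ndS (p := 22838) (l := 5) rfl N22838 D24131
theorem N24094 : nd 24094 = n24132 := ndS (p := 22841) (l := 3) rfl N22841 D24132
theorem N24095 : nd 24095 = n24133 := ndS (p := 22841) (l := 5) rfl N22841 D24133
theorem N24096 : nd 24096 = n24134 := ndS (p := 22843) (l := 2) rfl N22843 D24134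
theorem N24097 : nd 24097 = n24135 := ndS (p := 22843) (l := 5) rfl N22843 D24135
theorem N24098 : nd 24098 = n24136 := ndS (p := 22847) (l := 2) rfl N22847 D24136
theorem N24099 : nd 24099 = n24137 := ndS (p := 22848) (l := 1) rfl N22848 D24137
theorem N24100 : nd 24100 = n24138 := ndS (p := 22848) (l := 5) rfl N22848 D24138
theorem N24101 : nd 24101 = n24139 := ndS (p := 22850) (l := 0) rfl N22850 D24139
theorem N24102 : nd 24102 = n24140 := ndS (p := 22854) (l := 4) rfl N22854 D24140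
theorem N24103 : nd 24103 = n24141 := ndS (p := 22856) (l := 4) rfl N22856 D24141
theorem N24104 : nd 24104 = n24142 := ndS (p := 22857) (l := 5) rfl N22857 D24142
theorem N24105 : nd 24105 = n24143 := ndS (p := 22858) (l := 3) rfl N22858 D24143
theorem N24106 : nd 24106 = n24144 := ndS (p := 22861) (l := 0) rfl N22861 D24144
theorem N24107 : nd 24107 = n24145 := ndS (p := 22861) (l := 4) rfl N22861 D24145
theorem N24108 : nd 24108 = n24146 := ndS (p := 22863) (l := 4) rfl N22863 D24146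
theorem N24109 : nd 24109 = n24147 := ndS (p := 22864) (l := 3) rfl N22864 D24147
theorem N24110 : nd 24110 = n24148 := ndS (p := 22864) (l := 5) rfl N22864 D24148
theorem N24111 : nd 24111 = n24149 := ndS (p := 22867) (l := 3) rfl N22867 D24149
theorem N24112 : nd 24112 = n24150 := ndS (p := 22867) (l := 5) rfl N22867 D24150
theorem N24113 : nd 24113 = n24151 := ndS (p := 22868) (l := 5) rfl N22868 D24151
theorem N24114 : nd 24114 = n24152 := ndS (p := 22870) (l := 3) rfl N22870 D24152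
theorem N24115 : nd 24115 = n24153 := ndS (p := 22870) (l := 5) rfl N22870 D24153
theorem N24116 : nd 24116 = n24154 := ndS (p := 22871) (l := 2) rfl N22871 D24154
theorem N24117 : nd 24117 = n24155 := ndS (p := 22871) (l := 5) rfl N22871 D24155
theorem N24118 : nd 24118 = n24156 := ndS (p := 22873) (l := 1) rfl N22873 D24156
theorem N24119 : nd 24119 = n24157 := ndS (p := 22874) (l := 4) rfl N22874 D24157
theorem N24120 : nd 24120 = n24158 := ndS (p := 22880) (l := 2) rfl N22880 D24158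
theorem N24121 : nd 24121 = n24159 := ndS (p := 22881) (l := 2) rfl N22881 D24159
theorem N24122 : nd 24122 = n24160 := ndS (p := 22882) (l := 1) rfl N22882 D24160
theorem N24123 : nd 24123 = n24161 := ndS (p := 22885) (l := 2) rfl N22885 D24161
theorem N24124 : nd 24124 = n24162 := ndS (p := 22886) (l := 4) rfl N22886 D24162
theorem N24125 : nd 24125 = n24163 := ndS (p := 22888) (l := 3) rfl N22888 D24163
theorem N24126 : nd 24126 = n24164 := ndS (p := 22892) (l := 3) rfl N22892 D24164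
theorem N24127 : nd 24127 = n24165 := ndS (p := 22896) (l := 3) rfl N22896 D24165
theorem N24128 : nd 24128 = n24166 := ndS (p := 22908) (l := 5) rfl N22908 D24166
theorem N24129 : nd 24129 = n24167 := ndS (p := 22912) (l := 2) rfl N22912 D24167
theorem N24130 : nd 24130 = n24168 := ndS (p := 22914) (l := 3) rfl N22914 D24168
theorem N24131 : nd 24131 = n24169 := ndS (p := 22914) (l := 4) rfl N22914 D24169
theorem N24132 : nd 24132 = n24170 := ndS (p := 22915) (l := 5) rfl N22915 D24170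
theorem N24133 : nd 24133 = n24171 := ndS (p := 22927) (l := 1) rfl N22927 D24171
theorem N24134 : nd 24134 = n24172 := ndS (p := 22927) (l := 4) rfl N22927 D24172
theorem N24135 : nd 24135 = n24173 := ndS (p := 22928) (l := 5) rfl N22928 D24173
theorem N24136 : nd 24136 = n24174 := ndS (p := 22929) (l := 0) rfl N22929 D24174
theorem N24137 : nd 24137 = n24175 := ndS (p := 22929) (l := 4) rfl N22929 D24175
theorem N24138 : nd 24138 = n24176 := ndS (p := 22930) (l := 3) rfl N22930 D24176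
theorem N24139 : nd 24139 = n24177 := ndS (p := 22930) (l := 5) rfl N22930 D24177
theorem N24140 : nd 24140 = n24178 := ndS (p := 22932) (l := 4) rfl N22932 D24178
theorem N24141 : nd 24141 = n24179 := ndS (p := 22933) (l := 3) rfl N22933 D24179
theorem N24142 : nd 24142 = n24180 := ndS (p := 22935) (l := 3) rfl N22935 D24180
theorem N24143 : nd 24143 = n24181 := ndS (p := 22935) (l := 4) rfl N22935 D24181
theorem N24144 : nd 24144 = n24182 := ndS (p := 22939) (l := 3) rfl N22939 D24182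
theorem N24145 : nd 24145 = n24183 := ndS (p := 22944) (l := 4) rfl N22944 D24183
theorem N24146 : nd 24146 = n24184 := ndS (p := 22949) (l := 4) rfl N22949 D24184
theorem N24147 : nd 24147 = n24185 := ndS (p := 22950) (l := 3) rfl N22950 D24185
theorem N24148 : nd 24148 = n24186 := ndS (p := 22950) (l := 5) rfl N22950 D24186
theorem N24149 : nd 24149 = n24187 := ndS (p := 22952) (l := 5) rfl N22952 D24187
theorem N24150 : nd 24150 = n24188 := ndS (p := 22956) (l := 1) rfl N22956 D24188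
theorem N24151 : nd 24151 = n24189 := ndS (p := 22958) (l := 4) rfl N22958 D24189
theorem N24152 : nd 24152 = n24190 := ndS (p := 22960) (l := 4) rfl N22960 D24190
theorem N24153 : nd 24153 = n24191 := ndS (p := 22961) (l := 5) rfl N22961 D24191
theorem N24154 : nd 24154 = n24192 := ndS (p := 22962) (l := 4) rfl N22962 D24192
theorem N24155 : nd 24155 = n24193 := ndS (p := 22963) (l := 3) rfl N22963 D24193
theorem N24156 : nd 24156 = n24194 := ndS (p := 22963) (l := 5) rfl N22963 D24194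
theorem N24157 : nd 24157 = n24195 := ndS (p := 22967) (l := 4) rfl N22967 D24195
theorem N24158 : nd 24158 = n24196 := ndS (p := 22968) (l := 1) rfl N22968 D24196
theorem N24159 : nd 24159 = n24197 := ndS (p := 22968) (l := 4) rfl N22968 D24197
theorem N24160 : nd 24160 = n24198 := ndS (p := 22969) (l := 5) rfl N22969 D24198
theorem N24161 : nd 24161 = n24199 := ndS (p := 22970) (l := 4) rfl N22970 D24199
theorem N24162 : nd 24162 = n24200 := ndS (p := 22971) (l := 3) rfl N22971 D24200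
theorem N24163 : nd 24163 = n24201 := ndS (p := 22972) (l := 4) rfl N22972 D24201
theorem N24164 : nd 24164 = n24202 := ndS (p := 22973) (l := 3) rfl N22973 D24202
theorem N24165 : nd 24165 = n24203 := ndS (p := 22973) (l := 5) rfl N22973 D24203
theorem N24166 : nd 24166 = n24204 := ndS (p := 22975) (l := 4) rfl N22975 D24204
theorem N24167 : nd 24167 = n24205 := ndS (p := 22976) (l := 3) rfl N22976 D24205
theorem N24168 : nd 24168 = n24206 := ndS (p := 22976) (l := 5) rfl N22976 D24206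
theorem N24169 : nd 24169 = n24207 := ndS (p := 22977) (l := 2) rfl N22977 D24207
theorem N24170 : nd 24170 = n24208 := ndS (p := 22982) (l := 2) rfl N22982 D24208
theorem N24171 : nd 24171 = n24209 := ndS (p := 22983) (l := 1) rfl N22983 D24209
theorem N24172 : nd 24172 = n24210 := ndS (p := 22984) (l := 4) rfl N22984 D24210
theorem N24173 : nd 24173 = n24211 := ndS (p := 22988) (l := 1) rfl N22988 D24211
theorem N24174 : nd 24174 = n24212 := ndS (p := 22988) (l := 3) rfl N22988 D24212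
theorem N24175 : nd 24175 = n24213 := ndS (p := 22989) (l := 0) rfl N22989 D24213
theorem N24176 : nd 24176 = n24214 := ndS (p := 22991) (l := 2) rfl N22991 D24214
theorem N24177 : nd 24177 = n24215 := ndS (p := 22997) (l := 2) rfl N22997 D24215
theorem N24178 : nd 24178 = n24216 := ndS (p := 22999) (l := 4) rfl N22999 D24216
theorem N24179 : nd 24179 = n24217 := ndS (p := 23013) (l := 3) rfl N23013 D24217
theorem N24180 : nd 24180 = n24218 := ndS (p := 23013) (l := 5) rfl N23013 D24218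
theorem N24181 : nd 24181 = n24219 := ndS (p := 23014) (l := 2) rfl N23014 D24219
theorem N24182 : nd 24182 = n24220 := ndS (p := 23018) (l := 3) rfl N23018 D24220
theorem N24183 : nd 24183 = n24221 := ndS (p := 23025) (l := 5) rfl N23025 D24221
theorem N24184 : nd 24184 = n24222 := ndS (p := 23026) (l := 2) rfl N23026 D24222
theorem N24185 : nd 24185 = n24223 := ndS (p := 23026) (l := 5) rfl N23026 D24223
theorem N24186 : nd 24186 = n24224 := ndS (p := 23028) (l := 3) rfl N23028 D24224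
theorem N24187 : nd 24187 = n24225 := ndS (p := 23028) (l := 5) rfl N23028 D24225
theorem N24188 : nd 24188 = n24226 := ndS (p := 23033) (l := 2) rfl N23033 D24226
theorem N24189 : nd 24189 = n24227 := ndS (p := 23033) (l := 4) rfl N23033 D24227
theorem N24190 : nd 24190 = n24228 := ndS (p := 23034) (l := 4) rfl N23034 D24228
theorem N24191 : nd 24191 = n24229 := ndS (p := 23038) (l := 3) rfl N23038 D24229
theorem N24192 : nd 24192 = n24230 := ndS (p := 23038) (l := 5) rfl N23038 D24230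
theorem N24193 : nd 24193 = n24231 := ndS (p := 23040) (l := 3) rfl N23040 D24231
theorem N24194 : nd 24194 = n24232 := ndS (p := 23040) (l := 5) rfl N23040 D24232
theorem N24195 : nd 24195 = n24233 := ndS (p := 23041) (l := 2) rfl N23041 D24233
theorem N24196 : nd 24196 = n24234 := ndS (p := 23041) (l := 5) rfl N23041 D24234
theorem N24197 : nd 24197 = n24235 := ndS (p := 23047) (l := 4) rfl N23047 D24235
theorem N24198 : nd 24198 = n24236 := ndS (p := 23049) (l := 5) rfl N23049 D24236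
theorem N24199 : nd 24199 = n24237 := ndS (p := 23050) (l := 2) rfl N23050 D24237
theorem N24200 : nd 24200 = n24238 := ndS (p := 23050) (l := 5) rfl N23050 D24238
theorem N24201 : nd 24201 = n24239 := ndS (p := 23054) (l := 4) rfl N23054 D24239
theorem N24202 : nd 24202 = n24240 := ndS (p := 23055) (l := 3) rfl N23055 D24240
theorem N24203 : nd 24203 = n24241 := ndS (p := 23055) (l := 5) rfl N23055 D24241
theorem N24204 : nd 24204 = n24242 := ndS (p := 23056) (l := 2) rfl N23056 D24242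
theorem N24205 : nd 24205 = n24243 := ndS (p := 23058) (l := 1) rfl N23058 D24243
theorem N24206 : nd 24206 = n24244 := ndS (p := 23059) (l := 0) rfl N23059 D24244
theorem N24207 : nd 24207 = n24245 := ndS (p := 23062) (l := 5) rfl N23062 D24245
theorem N24208 : nd 24208 = n24246 := ndS (p := 23065) (l := 5) rfl N23065 D24246
theorem N24209 : nd 24209 = n24247 := ndS (p := 23072) (l := 1) rfl N23072 D24247
theorem N24210 : nd 24210 = n24248 := ndS (p := 23073) (l := 5) rfl N23073 D24248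
theorem N24211 : nd 24211 = n24249 := ndS (p := 23077) (l := 3) rfl N23077 D24249
theorem N24212 : nd 24212 = n24250 := ndS (p := 23077) (l := 5) rfl N23077 D24250
theorem N24213 : nd 24213 = n24251 := ndS (p := 23081) (l := 4) rfl N23081 D24251
theorem N24214 : nd 24214 = n24252 := ndS (p := 23083) (l := 5) rfl N23083 D24252
theorem N24215 : nd 24215 = n24253 := ndS (p := 23085) (l := 4) rfl N23085 D24253
theorem N24216 : nd 24216 = n24254 := ndS (p := 23086) (l := 3) rfl N23086 D24254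
theorem N24217 : nd 24217 = n24255 := ndS (p := 23086) (l := 5) rfl N23086 D24255
theorem N24218 : nd 24218 = n24256 := ndS (p := 23088) (l := 5) rfl N23088 D24256
theorem N24219 : nd 24219 = n24257 := ndS (p := 23091) (l := 2) rfl N23091 D24257
theorem N24220 : nd 24220 = n24258 := ndS (p := 23092) (l := 4) rfl N23092 D24258
theorem N24221 : nd 24221 = n24259 := ndS (p := 23096) (l := 2) rfl N23096 D24259
theorem N24222 : nd 24222 = n24260 := ndS (p := 23096) (l := 5) rfl N23096 D24260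
theorem N24223 : nd 24223 = n24261 := ndS (p := 23097) (l := 4) rfl N23097 D24261
theorem N24224 : nd 24224 = n24262 := ndS (p := 23098) (l := 1) rfl N23098 D24262
theorem N24225 : nd 24225 = n24263 := ndS (p := 23098) (l := 3) rfl N23098 D24263
theorem N24226 : nd 24226 = n24264 := ndS (p := 23098) (l := 4) rfl N23098 D24264
theorem N24227 : nd 24227 = n24265 := ndS (p := 23098) (l := 5) rfl N23098 D24265
theorem N24228 : nd 24228 = n24266 := ndS (p := 23102) (l := 4) rfl N23102 D24266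
theorem N24229 : nd 24229 = n24267 := ndS (p := 23105) (l := 4) rfl N23105 D24267
theorem N24230 : nd 24230 = n24268 := ndS (p := 23106) (l := 3) rfl N23106 D24268
theorem N24231 : nd 24231 = n24269 := ndS (p := 23107) (l := 4) rfl N23107 D24269
theorem N24232 : nd 24232 = n24270 := ndS (p := 23108) (l := 3) rfl N23108 D24270
theorem N24233 : nd 24233 = n24271 := ndS (p := 23108) (l := 5) rfl N23108 D24271
theorem N24234 : nd 24234 = n24272 := ndS (p := 23109) (l := 2) rfl N23109 D24272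
theorem N24235 : nd 24235 = n24273 := ndS (p := 23109) (l := 5) rfl N23109 D24273
theorem N24236 : nd 24236 = n24274 := ndS (p := 23114) (l := 1) rfl N23114 D24274
theorem N24237 : nd 24237 = n24275 := ndS (p := 23114) (l := 3) rfl N23114 D24275
theorem N24238 : nd 24238 = n24276 := ndS (p := 23118) (l := 2) rfl N23118 D24276
theorem N24239 : nd 24239 = n24277 := ndS (p := 23118) (l := 5) rfl N23118 D24277
theorem N24240 : nd 24240 = n24278 := ndS (p := 23121) (l := 3) rfl N23121 D24278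
theorem N24241 : nd 24241 = n24279 := ndS (p := 23123) (l := 2) rfl N23123 D24279
theorem N24242 : nd 24242 = n24280 := ndS (p := 23125) (l := 4) rfl N23125 D24280
theorem N24243 : nd 24243 = n24281 := ndS (p := 23126) (l := 3) rfl N23126 D24281
theorem N24244 : nd 24244 = n24282 := ndS (p := 23127) (l := 2) rfl N23127 D24282
theorem N24245 : nd 24245 = n24283 := ndS (p := 23128) (l := 2) rfl N23128 D24283
theorem N24246 : nd 24246 = n24284 := ndS (p := 23128) (l := 5) rfl N23128 D24284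
theorem N24247 : nd 24247 = n24285 := ndS (p := 23130) (l := 1) rfl N23130 D24285
theorem N24248 : nd 24248 = n24286 := ndS (p := 23133) (l := 3) rfl N23133 D24286
theorem N24249 : nd 24249 = n24287 := ndS (p := 23134) (l := 5) rfl N23134 D24287
theorem N24250 : nd 24250 = n24288 := ndS (p := 23135) (l := 3) rfl N23135 D24288
theorem N24251 : nd 24251 = n24289 := ndS (p := 23135) (l := 5) rfl N23135 D24289
theorem N24252 : nd 24252 = n24290 := ndS (p := 23136) (l := 5) rfl N23136 D24290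
theorem N24253 : nd 24253 = n24291 := ndS (p := 23140) (l := 3) rfl N23140 D24291
theorem N24254 : nd 24254 = n24292 := ndS (p := 23140) (l := 5) rfl N23140 D24292
theorem N24255 : nd 24255 = n24293 := ndS (p := 23142) (l := 3) rfl N23142 D24293
theorem N24256 : nd 24256 = n24294 := ndS (p := 23142) (l := 5) rfl N23142 D24294
theorem N24257 : nd 24257 = n24295 := ndS (p := 23143) (l := 2) rfl N23143 D24295
theorem N24258 : nd 24258 = n24296 := ndS (p := 23143) (l := 5) rfl N23143 D24296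
theorem N24259 : nd 24259 = n24297 := ndS (p := 23145) (l := 1) rfl N23145 D24297
theorem N24260 : nd 24260 = n24298 := ndS (p := 23146) (l := 4) rfl N23146 D24298
theorem N24261 : nd 24261 = n24299 := ndS (p := 23147) (l := 3) rfl N23147 D24299
theorem N24262 : nd 24262 = n24300 := ndS (p := 23147) (l := 5) rfl N23147 D24300
theorem N24263 : nd 24263 = n24301 := ndS (p := 23148) (l := 2) rfl N23148 D24301
theorem N24264 : nd 24264 = n24302 := ndS (p := 23148) (l := 5) rfl N23148 D24302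
theorem N24265 : nd 24265 = n24303 := ndS (p := 23150) (l := 3) rfl N23150 D24303
theorem N24266 : nd 24266 = n24304 := ndS (p := 23151) (l := 2) rfl N23151 D24304
theorem N24267 : nd 24267 = n24305 := ndS (p := 23153) (l := 3) rfl N23153 D24305
theorem N24268 : nd 24268 = n24306 := ndS (p := 23153) (l := 5) rfl N23153 D24306
theorem N24269 : nd 24269 = n24307 := ndS (p := 23155) (l := 2) rfl N23155 D24307
theorem N24270 : nd 24270 = n24308 := ndS (p := 23156) (l := 2) rfl N23156 D24308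
theorem N24271 : nd 24271 = n24309 := ndS (p := 23156) (l := 5) rfl N23156 D24309
theorem N24272 : nd 24272 = n24310 := ndS (p := 23158) (l := 1) rfl N23158 D24310
theorem N24273 : nd 24273 = n24311 := ndS (p := 23158) (l := 3) rfl N23158 D24311
theorem N24274 : nd 24274 = n24312 := ndS (p := 23160) (l := 2) rfl N23160 D24312
theorem N24275 : nd 24275 = n24313 := ndS (p := 23160) (l := 4) rfl N23160 D24313
theorem N24276 : nd 24276 = n24314 := ndS (p := 23166) (l := 3) rfl N23166 D24314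
theorem N24277 : nd 24277 = n24315 := ndS (p := 23167) (l := 3) rfl N23167 D24315
theorem N24278 : nd 24278 = n24316 := ndS (p := 23169) (l := 3) rfl N23169 D24316
theorem N24279 : nd 24279 = n24317 := ndS (p := 23169) (l := 5) rfl N23169 D24317
theorem N24280 : nd 24280 = n24318 := ndS (p := 23170) (l := 2) rfl N23170 D24318
theorem N24281 : nd 24281 = n24319 := ndS (p := 23170) (l := 5) rfl N23170 D24319
theorem N24282 : nd 24282 = n24320 := ndS (p := 23173) (l := 0) rfl N23173 D24320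
theorem N24283 : nd 24283 = n24321 := ndS (p := 23173) (l := 3) rfl N23173 D24321
theorem N24284 : nd 24284 = n24322 := ndS (p := 23177) (l := 1) rfl N23177 D24322
theorem N24285 : nd 24285 = n24323 := ndS (p := 23177) (l := 3) rfl N23177 D24323
theorem N24286 : nd 24286 = n24324 := ndS (p := 23178) (l := 0) rfl N23178 D24324
theorem N24287 : nd 24287 = n24325 := ndS (p := 23178) (l := 3) rfl N23178 D24325
theorem N24288 : nd 24288 = n24326 := ndS (p := 23178) (l := 5) rfl N23178 D24326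
theorem N24289 : nd 24289 = n24327 := ndS (p := 23184) (l := 1) rfl N23184 D24327
theorem N24290 : nd 24290 = n24328 := ndS (p := 23184) (l := 4) rfl N23184 D24328
theorem N24291 : nd 24291 = n24329 := ndS (p := 23187) (l := 3) rfl N23187 D24329
theorem N24292 : nd 24292 = n24330 := ndS (p := 23190) (l := 2) rfl N23190 D24330
theorem N24293 : nd 24293 = n24331 := ndS (p := 23190) (l := 5) rfl N23190 D24331
theorem N24294 : nd 24294 = n24332 := ndS (p := 23195) (l := 4) rfl N23195 D24332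
theorem N24295 : nd 24295 = n24333 := ndS (p := 23196) (l := 3) rfl N23196 D24333
theorem N24296 : nd 24296 = n24334 := ndS (p := 23198) (l := 4) rfl N23198 D24334
theorem N24297 : nd 24297 = n24335 := ndS (p := 23199) (l := 3) rfl N23199 D24335
theorem N24298 : nd 24298 = n24336 := ndS (p := 23199) (l := 5) rfl N23199 D24336
theorem N24299 : nd 24299 = n24337 := ndS (p := 23204) (l := 2) rfl N23204 D24337
theorem N24300 : nd 24300 = n24338 := ndS (p := 23205) (l := 2) rfl N23205 D24338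
theorem N24301 : nd 24301 = n24339 := ndS (p := 23208) (l := 3) rfl N23208 D24339
theorem N24302 : nd 24302 = n24340 := ndS (p := 23209) (l := 2) rfl N23209 D24340
theorem N24303 : nd 24303 = n24341 := ndS (p := 23209) (l := 5) rfl N23209 D24341
theorem N24304 : nd 24304 = n24342 := ndS (p := 23211) (l := 3) rfl N23211 D24342
theorem N24305 : nd 24305 = n24343 := ndS (p := 23212) (l := 2) rfl N23212 D24343
theorem N24306 : nd 24306 = n24344 := ndS (p := 23212) (l := 5) rfl N23212 D24344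
theorem N24307 : nd 24307 = n24345 := ndS (p := 23214) (l := 1) rfl N23214 D24345
theorem N24308 : nd 24308 = n24346 := ndS (p := 23214) (l := 3) rfl N23214 D24346
theorem N24309 : nd 24309 = n24347 := ndS (p := 23214) (l := 5) rfl N23214 D24347
theorem N24310 : nd 24310 = n24348 := ndS (p := 23216) (l := 0) rfl N23216 D24348
theorem N24311 : nd 24311 = n24349 := ndS (p := 23216) (l := 3) rfl N23216 D24349
theorem N24312 : nd 24312 = n24350 := ndS (p := 23219) (l := 4) rfl N23219 D24350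
theorem N24313 : nd 24313 = n24351 := ndS (p := 23224) (l := 1) rfl N23224 D24351
theorem N24314 : nd 24314 = n24352 := ndS (p := 23228) (l := 2) rfl N23228 D24352
theorem N24315 : nd 24315 = n24353 := ndS (p := 23234) (l := 5) rfl N23234 D24353
theorem N24316 : nd 24316 = n24354 := ndS (p := 23238) (l := 2) rfl N23238 D24354
theorem N24317 : nd 24317 = n24355 := ndS (p := 23238) (l := 5) rfl N23238 D24355
theorem N24318 : nd 24318 = n24356 := ndS (p := 23240) (l := 1) rfl N23240 D24356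
theorem N24319 : nd 24319 = n24357 := ndS (p := 23240) (l := 3) rfl N23240 D24357
theorem N24320 : nd 24320 = n24358 := ndS (p := 23240) (l := 4) rfl N23240 D24358
theorem N24321 : nd 24321 = n24359 := ndS (p := 23246) (l := 3) rfl N23246 D24359
theorem N24322 : nd 24322 = n24360 := ndS (p := 23247) (l := 2) rfl N23247 D24360
theorem N24323 : nd 24323 = n24361 := ndS (p := 23248) (l := 0) rfl N23248 D24361
theorem N24324 : nd 24324 = n24362 := ndS (p := 23248) (l := 3) rfl N23248 D24362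
theorem N24325 : nd 24325 = n24363 := ndS (p := 23249) (l := 4) rfl N23249 D24363
theorem N24326 : nd 24326 = n24364 := ndS (p := 23250) (l := 3) rfl N23250 D24364
theorem N24327 : nd 24327 = n24365 := ndS (p := 23251) (l := 4) rfl N23251 D24365
theorem N24328 : nd 24328 = n24366 := ndS (p := 23252) (l := 4) rfl N23252 D24366
theorem N24329 : nd 24329 = n24367 := ndS (p := 23253) (l := 3) rfl N23253 D24367
theorem N24330 : nd 24330 = n24368 := ndS (p := 23254) (l := 1) rfl N23254 D24368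
theorem N24331 : nd 24331 = n24369 := ndS (p := 23254) (l := 4) rfl N23254 D24369
theorem N24332 : nd 24332 = n24370 := ndS (p := 23255) (l := 3) rfl N23255 D24370
theorem N24333 : nd 24333 = n24371 := ndS (p := 23255) (l := 5) rfl N23255 D24371
theorem N24334 : nd 24334 = n24372 := ndS (p := 23256) (l := 4) rfl N23256 D24372
theorem N24335 : nd 24335 = n24373 := ndS (p := 23257) (l := 2) rfl N23257 D24373
theorem N24336 : nd 24336 = n24374 := ndS (p := 23258) (l := 3) rfl N23258 D24374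
theorem N24337 : nd 24337 = n24375 := ndS (p := 23259) (l := 2) rfl N23259 D24375
theorem N24338 : nd 24338 = n24376 := ndS (p := 23260) (l := 2) rfl N23260 D24376
theorem N24339 : nd 24339 = n24377 := ndS (p := 23261) (l := 3) rfl N23261 D24377
theorem N24340 : nd 24340 = n24378 := ndS (p := 23263) (l := 2) rfl N23263 D24378
theorem N24341 : nd 24341 = n24379 := ndS (p := 23264) (l := 3) rfl N23264 D24379
theorem N24342 : nd 24342 = n24380 := ndS (p := 23265) (l := 5) rfl N23265 D24380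
theorem N24343 : nd 24343 = n24381 := ndS (p := 23266) (l := 3) rfl N23266 D24381
theorem N24344 : nd 24344 = n24382 := ndS (p := 23266) (l := 5) rfl N23266 D24382
theorem N24345 : nd 24345 = n24383 := ndS (p := 23268) (l := 3) rfl N23268 D24383
theorem N24346 : nd 24346 = n24384 := ndS (p := 23269) (l := 3) rfl N23269 D24384
theorem N24347 : nd 24347 = n24385 := ndS (p := 23269) (l := 5) rfl N23269 D24385
theorem N24348 : nd 24348 = n24386 := ndS (p := 23270) (l := 2) rfl N23270 D24386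
theorem N24349 : nd 24349 = n24387 := ndS (p := 23271) (l := 2) rfl N23271 D24387
theorem N24350 : nd 24350 = n24388 := ndS (p := 23271) (l := 5) rfl N23271 D24388
theorem N24351 : nd 24351 = n24389 := ndS (p := 23273) (l := 1) rfl N23273 D24389
theorem N24352 : nd 24352 = n24390 := ndS (p := 23274) (l := 2) rfl N23274 D24390
theorem N24353 : nd 24353 = n24391 := ndS (p := 23275) (l := 3) rfl N23275 D24391
theorem N24354 : nd 24354 = n24392 := ndS (p := 23276) (l := 2) rfl N23276 D24392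
theorem N24355 : nd 24355 = n24393 := ndS (p := 23277) (l := 2) rfl N23277 D24393
theorem N24356 : nd 24356 = n24394 := ndS (p := 23277) (l := 5) rfl N23277 D24394
theorem N24357 : nd 24357 = n24395 := ndS (p := 23279) (l := 1) rfl N23279 D24395
theorem N24358 : nd 24358 = n24396 := ndS (p := 23280) (l := 5) rfl N23280 D24396
theorem N24359 : nd 24359 = n24397 := ndS (p := 23282) (l := 1) rfl N23282 D24397
theorem N24360 : nd 24360 = n24398 := ndS (p := 23282) (l := 3) rfl N23282 D24398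
theorem N24361 : nd 24361 = n24399 := ndS (p := 23284) (l := 0) rfl N23284 D24399
theorem N24362 : nd 24362 = n24400 := ndS (p := 23284) (l := 3) rfl N23284 D24400
theorem N24363 : nd 24363 = n24401 := ndS (p := 23285) (l := 4) rfl N23285 D24401
theorem N24364 : nd 24364 = n24402 := ndS (p := 23287) (l := 2) rfl N23287 D24402
theorem N24365 : nd 24365 = n24403 := ndS (p := 23288) (l := 3) rfl N23288 D24403
theorem N24366 : nd 24366 = n24404 := ndS (p := 23290) (l := 2) rfl N23290 D24404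
theorem N24367 : nd 24367 = n24405 := ndS (p := 23291) (l := 3) rfl N23291 D24405
theorem N24368 : nd 24368 = n24406 := ndS (p := 23292) (l := 1) rfl N23292 D24406
theorem N24369 : nd 24369 = n24407 := ndS (p := 23292) (l := 3) rfl N23292 D24407
theorem N24370 : nd 24370 = n24408 := ndS (p := 23293) (l := 2) rfl N23293 D24408
theorem N24371 : nd 24371 = n24409 := ndS (p := 23293) (l := 4) rfl N23293 D24409
theorem N24372 : nd 24372 = n24410 := ndS (p := 23294) (l := 3) rfl N23294 D24410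
theorem N24373 : nd 24373 = n24411 := ndS (p := 23296) (l := 2) rfl N23296 D24411
theorem N24374 : nd 24374 = n24412 := ndS (p := 23296) (l := 5) rfl N23296 D24412
theorem N24375 : nd 24375 = n24413 := ndS (p := 23298) (l := 1) rfl N23298 D24413
theorem N24376 : nd 24376 = n24414 := ndS (p := 23299) (l := 1) rfl N23299 D24414
theorem N24377 : nd 24377 = n24415 := ndS (p := 23299) (l := 3) rfl N23299 D24415
theorem N24378 : nd 24378 = n24416 := ndS (p := 23300) (l := 2) rfl N23300 D24416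
theorem N24379 : nd 24379 = n24417 := ndS (p := 23300) (l := 4) rfl N23300 D24417
theorem N24380 : nd 24380 = n24418 := ndS (p := 23301) (l := 3) rfl N23301 D24418
theorem N24381 : nd 24381 = n24419 := ndS (p := 23304) (l := 2) rfl N23304 D24419
theorem N24382 : nd 24382 = n24420 := ndS (p := 23304) (l := 4) rfl N23304 D24420
theorem N24383 : nd 24383 = n24421 := ndS (p := 23306) (l := 2) rfl N23306 D24421
theorem N24384 : nd 24384 = n24422 := ndS (p := 23308) (l := 2) rfl N23308 D24422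
theorem N24385 : nd 24385 = n24423 := ndS (p := 23309) (l := 3) rfl N23309 D24423
theorem N24386 : nd 24386 = n24424 := ndS (p := 23310) (l := 1) rfl N23310 D24424
theorem N24387 : nd 24387 = n24425 := ndS (p := 23310) (l := 3) rfl N23310 D24425
theorem N24388 : nd 24388 = n24426 := ndS (p := 23311) (l := 4) rfl N23311 D24426
theorem N24389 : nd 24389 = n24427 := ndS (p := 23312) (l := 1) rfl N23312 D24427
theorem N24390 : nd 24390 = n24428 := ndS (p := 23312) (l := 3) rfl N23312 D24428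
theorem N24391 : nd 24391 = n24429 := ndS (p := 23314) (l := 1) rfl N23314 D24429
theorem N24392 : nd 24392 = n24430 := ndS (p := 23314) (l := 3) rfl N23314 D24430
theorem N24393 : nd 24393 = n24431 := ndS (p := 23322) (l := 3) rfl N23322 D24431
theorem N24394 : nd 24394 = n24432 := ndS (p := 23323) (l := 4) rfl N23323 D24432
theorem N24395 : nd 24395 = n24433 := ndS (p := 23324) (l := 3) rfl N23324 D24433
theorem N24396 : nd 24396 = n24434 := ndS (p := 23324) (l := 5) rfl N23324 D24434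
theorem N24397 : nd 24397 = n24435 := ndS (p := 23326) (l := 4) rfl N23326 D24435
theorem N24398 : nd 24398 = n24436 := ndS (p := 23329) (l := 4) rfl N23329 D24436
theorem N24399 : nd 24399 = n24437 := ndS (p := 23330) (l := 4) rfl N23330 D24437
theorem N24400 : nd 24400 = n24438 := ndS (p := 23331) (l := 3) rfl N23331 D24438
theorem N24401 : nd 24401 = n24439 := ndS (p := 23332) (l := 1) rfl N23332 D24439
theorem N24402 : nd 24402 = n24440 := ndS (p := 23332) (l := 4) rfl N23332 D24440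
theorem N24403 : nd 24403 = n24441 := ndS (p := 23333) (l := 3) rfl N23333 D24441
theorem N24404 : nd 24404 = n24442 := ndS (p := 23333) (l := 5) rfl N23333 D24442
theorem N24405 : nd 24405 = n24443 := ndS (p := 23335) (l := 2) rfl N23335 D24443
theorem N24406 : nd 24406 = n24444 := ndS (p := 23335) (l := 5) rfl N23335 D24444
theorem N24407 : nd 24407 = n24445 := ndS (p := 23336) (l := 4) rfl N23336 D24445
theorem N24408 : nd 24408 = n24446 := ndS (p := 23340) (l := 3) rfl N23340 D24446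
theorem N24409 : nd 24409 = n24447 := ndS (p := 23343) (l := 3) rfl N23343 D24447
theorem N24410 : nd 24410 = n24448 := ndS (p := 23344) (l := 1) rfl N23344 D24448
theorem N24411 : nd 24411 = n24449 := ndS (p := 23344) (l := 3) rfl N23344 D24449
theorem N24412 : nd 24412 = n24450 := ndS (p := 23344) (l := 5) rfl N23344 D24450
theorem N24413 : nd 24413 = n24451 := ndS (p := 23346) (l := 3) rfl N23346 D24451
theorem N24414 : nd 24414 = n24452 := ndS (p := 23347) (l := 2) rfl N23347 D24452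
theorem N24415 : nd 24415 = n24453 := ndS (p := 23347) (l := 4) rfl N23347 D24453
theorem N24416 : nd 24416 = n24454 := ndS (p := 23349) (l := 2) rfl N23349 D24454
theorem N24417 : nd 24417 = n24455 := ndS (p := 23350) (l := 1) rfl N23350 D24455
theorem N24418 : nd 24418 = n24456 := ndS (p := 23352) (l := 1) rfl N23352 D24456
theorem N24419 : nd 24419 = n24457 := ndS (p := 23354) (l := 2) rfl N23354 D24457
theorem N24420 : nd 24420 = n24458 := ndS (p := 23355) (l := 1) rfl N23355 D24458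
theorem N24421 : nd 24421 = n24459 := ndS (p := 23357) (l := 2) rfl N23357 D24459
theorem N24422 : nd 24422 = n24460 := ndS (p := 23357) (l := 5) rfl N23357 D24460
theorem N24423 : nd 24423 = n24461 := ndS (p := 23359) (l := 1) rfl N23359 D24461
theorem N24424 : nd 24424 = n24462 := ndS (p := 23359) (l := 4) rfl N23359 D24462
theorem N24425 : nd 24425 = n24463 := ndS (p := 23360) (l := 5) rfl N23360 D24463
theorem N24426 : nd 24426 = n24464 := ndS (p := 23366) (l := 0) rfl N23366 D24464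
theorem N24427 : nd 24427 = n24465 := ndS (p := 23368) (l := 4) rfl N23368 D24465
theorem N24428 : nd 24428 = n24466 := ndS (p := 23372) (l := 4) rfl N23372 D24466
theorem N24429 : nd 24429 = n24467 := ndS (p := 23373) (l := 4) rfl N23373 D24467
theorem N24430 : nd 24430 = n24468 := ndS (p := 23374) (l := 5) rfl N23374 D24468
theorem N24431 : nd 24431 = n24469 := ndS (p := 23379) (l := 2) rfl N23379 D24469
theorem N24432 : nd 24432 = n24470 := ndS (p := 23380) (l := 1) rfl N23380 D24470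
theorem N24433 : nd 24433 = n24471 := ndS (p := 23382) (l := 3) rfl N23382 D24471
theorem N24434 : nd 24434 = n24472 := ndS (p := 23383) (l := 2) rfl N23383 D24472
theorem N24435 : nd 24435 = n24473 := ndS (p := 23384) (l := 3) rfl N23384 D24473
theorem N24436 : nd 24436 = n24474 := ndS (p := 23385) (l := 0) rfl N23385 D24474
theorem N24437 : nd 24437 = n24475 := ndS (p := 23385) (l := 3) rfl N23385 D24475
theorem N24438 : nd 24438 = n24476 := ndS (p := 23386) (l := 4) rfl N23386 D24476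
theorem N24439 : nd 24439 = n24477 := ndS (p := 23389) (l := 3) rfl N23389 D24477
theorem N24440 : nd 24440 = n24478 := ndS (p := 23391) (l := 2) rfl N23391 D24478
theorem N24441 : nd 24441 = n24479 := ndS (p := 23391) (l := 5) rfl N23391 D24479
theorem N24442 : nd 24442 = n24480 := ndS (p := 23393) (l := 3) rfl N23393 D24480
theorem N24443 : nd 24443 = n24481 := ndS (p := 23395) (l := 3) rfl N23395 D24481
theorem N24444 : nd 24444 = n24482 := ndS (p := 23396) (l := 2) rfl N23396 D24482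
theorem N24445 : nd 24445 = n24483 := ndS (p := 23396) (l := 4) rfl N23396 D24483
theorem N24446 : nd 24446 = n24484 := ndS (p := 23397) (l := 1) rfl N23397 D24484
theorem N24447 : nd 24447 = n24485 := ndS (p := 23397) (l := 4) rfl N23397 D24485
theorem N24448 : nd 24448 = n24486 := ndS (p := 23398) (l := 5) rfl N23398 D24486
theorem N24449 : nd 24449 = n24487 := ndS (p := 23399) (l := 2) rfl N23399 D24487
theorem N24450 : nd 24450 = n24488 := ndS (p := 23400) (l := 3) rfl N23400 D24488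
theorem N24451 : nd 24451 = n24489 := ndS (p := 23402) (l := 2) rfl N23402 D24489
theorem N24452 : nd 24452 = n24490 := ndS (p := 23402) (l := 5) rfl N23402 D24490
theorem N24453 : nd 24453 = n24491 := ndS (p := 23404) (l := 1) rfl N23404 D24491
theorem N24454 : nd 24454 = n24492 := ndS (p := 23404) (l := 3) rfl N23404 D24492
theorem N24455 : nd 24455 = n24493 := ndS (p := 23404) (l := 5) rfl N23404 D24493
theorem N24456 : nd 24456 = n24494 := ndS (p := 23406) (l := 1) rfl N23406 D24494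
theorem N24457 : nd 24457 = n24495 := ndS (p := 23407) (l := 4) rfl N23407 D24495
theorem N24458 : nd 24458 = n24496 := ndS (p := 23409) (l := 0) rfl N23409 D24496
theorem N24459 : nd 24459 = n24497 := ndS (p := 23411) (l := 2) rfl N23411 D24497
theorem N24460 : nd 24460 = n24498 := ndS (p := 23411) (l := 5) rfl N23411 D24498
theorem N24461 : nd 24461 = n24499 := ndS (p := 23413) (l := 3) rfl N23413 D24499
theorem N24462 : nd 24462 = n24500 := ndS (p := 23413) (l := 5) rfl N23413 D24500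
theorem N24463 : nd 24463 = n24501 := ndS (p := 23416) (l := 5) rfl N23416 D24501
theorem N24464 : nd 24464 = n24502 := ndS (p := 23419) (l := 2) rfl N23419 D24502
theorem N24465 : nd 24465 = n24503 := ndS (p := 23420) (l := 1) rfl N23420 D24503
theorem N24466 : nd 24466 = n24504 := ndS (p := 23420) (l := 4) rfl N23420 D24504
theorem N24467 : nd 24467 = n24505 := ndS (p := 23424) (l := 0) rfl N23424 D24505
theorem N24468 : nd 24468 = n24506 := ndS (p := 23424) (l := 3) rfl N23424 D24506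
theorem N24469 : nd 24469 = n24507 := ndS (p := 23428) (l := 3) rfl N23428 D24507
theorem N24470 : nd 24470 = n24508 := ndS (p := 23429) (l := 2) rfl N23429 D24508
theorem N24471 : nd 24471 = n24509 := ndS (p := 23429) (l := 4) rfl N23429 D24509
theorem N24472 : nd 24472 = n24510 := ndS (p := 23430) (l := 1) rfl N23430 D24510
theorem N24473 : nd 24473 = n24511 := ndS (p := 23430) (l := 4) rfl N23430 D24511
theorem N24474 : nd 24474 = n24512 := ndS (p := 23431) (l := 5) rfl N23431 D24512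
theorem N24475 : nd 24475 = n24513 := ndS (p := 23432) (l := 2) rfl N23432 D24513
theorem N24476 : nd 24476 = n24514 := ndS (p := 23433) (l := 3) rfl N23433 D24514
theorem N24477 : nd 24477 = n24515 := ndS (p := 23434) (l := 1) rfl N23434 D24515
theorem N24478 : nd 24478 = n24516 := ndS (p := 23439) (l := 3) rfl N23439 D24516
theorem N24479 : nd 24479 = n24517 := ndS (p := 23439) (l := 5) rfl N23439 D24517
theorem N24480 : nd 24480 = n24518 := ndS (p := 23442) (l := 0) rfl N23442 D24518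
theorem N24481 : nd 24481 = n24519 := ndS (p := 23446) (l := 1) rfl N23446 D24519
theorem N24482 : nd 24482 = n24520 := ndS (p := 23451) (l := 0) rfl N23451 D24520
theorem N24483 : nd 24483 = n24521 := ndS (p := 23451) (l := 3) rfl N23451 D24521
theorem N24484 : nd 24484 = n24522 := ndS (p := 23452) (l := 4) rfl N23452 D24522
theorem N24485 : nd 24485 = n24523 := ndS (p := 23453) (l := 3) rfl N23453 D24523
theorem N24486 : nd 24486 = n24524 := ndS (p := 23454) (l := 2) rfl N23454 D24524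
theorem N24487 : nd 24487 = n24525 := ndS (p := 23454) (l := 4) rfl N23454 D24525
theorem N24488 : nd 24488 = n24526 := ndS (p := 23455) (l := 1) rfl N23455 D24526
theorem N24489 : nd 24489 = n24527 := ndS (p := 23455) (l := 4) rfl N23455 D24527
theorem N24490 : nd 24490 = n24528 := ndS (p := 23456) (l := 5) rfl N23456 D24528
theorem N24491 : nd 24491 = n24529 := ndS (p := 23464) (l := 1) rfl N23464 D24529
theorem N24492 : nd 24492 = n24530 := ndS (p := 23467) (l := 3) rfl N23467 D24530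
theorem N24493 : nd 24493 = n24531 := ndS (p := 23469) (l := 1) rfl N23469 D24531
theorem N24494 : nd 24494 = n24532 := ndS (p := 23474) (l := 5) rfl N23474 D24532
theorem N24495 : nd 24495 = n24533 := ndS (p := 23476) (l := 2) rfl N23476 D24533
theorem N24496 : nd 24496 = n24534 := ndS (p := 23478) (l := 4) rfl N23478 D24534
theorem N24497 : nd 24497 = n24535 := ndS (p := 23479) (l := 3) rfl N23479 D24535
theorem N24498 : nd 24498 = n24536 := ndS (p := 23481) (l := 3) rfl N23481 D24536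
theorem N24499 : nd 24499 = n24537 := ndS (p := 23484) (l := 1) rfl N23484 D24537
theorem N24500 : nd 24500 = n24538 := ndS (p := 23484) (l := 5) rfl N23484 D24538
theorem N24501 : nd 24501 = n24539 := ndS (p := 23487) (l := 3) rfl N23487 D24539
theorem N24502 : nd 24502 = n24540 := ndS (p := 23490) (l := 2) rfl N23490 D24540
theorem N24503 : nd 24503 = n24541 := ndS (p := 23491) (l := 1) rfl N23491 D24541
theorem N24504 : nd 24504 = n24542 := ndS (p := 23493) (l := 2) rfl N23493 D24542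
theorem N24505 : nd 24505 = n24543 := ndS (p := 23494) (l := 1) rfl N23494 D24543
theorem N24506 : nd 24506 = n24544 := ndS (p := 23496) (l := 3) rfl N23496 D24544
theorem N24507 : nd 24507 = n24545 := ndS (p := 23498) (l := 1) rfl N23498 D24545
theorem N24508 : nd 24508 = n24546 := ndS (p := 23500) (l := 3) rfl N23500 D24546
theorem N24509 : nd 24509 = n24547 := ndS (p := 23501) (l := 4) rfl N23501 D24547
theorem N24510 : nd 24510 = n24548 := ndS (p := 23503) (l := 4) rfl N23503 D24548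
theorem N24511 : nd 24511 = n24549 := ndS (p := 23507) (l := 3) rfl N23507 D24549
theorem N24512 : nd 24512 = n24550 := ndS (p := 23507) (l := 5) rfl N23507 D24550
theorem N24513 : nd 24513 = n24551 := ndS (p := 23508) (l := 4) rfl N23508 D24551
theorem N24514 : nd 24514 = n24552 := ndS (p := 23509) (l := 4) rfl N23509 D24552
theorem N24515 : nd 24515 = n24553 := ndS (p := 23513) (l := 3) rfl N23513 D24553
theorem N24516 : nd 24516 = n24554 := ndS (p := 23516) (l := 3) rfl N23516 D24554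
theorem N24517 : nd 24517 = n24555 := ndS (p := 23517) (l := 4) rfl N23517 D24555
theorem N24518 : nd 24518 = n24556 := ndS (p := 23519) (l := 3) rfl N23519 D24556
theorem N24519 : nd 24519 = n24557 := ndS (p := 23520) (l := 2) rfl N23520 D24557
theorem N24520 : nd 24520 = n24558 := ndS (p := 23520) (l := 4) rfl N23520 D24558
theorem N24521 : nd 24521 = n24559 := ndS (p := 23526) (l := 3) rfl N23526 D24559
theorem N24522 : nd 24522 = n24560 := ndS (p := 23526) (l := 5) rfl N23526 D24560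
theorem N24523 : nd 24523 = n24561 := ndS (p := 23527) (l := 2) rfl N23527 D24561
theorem N24524 : nd 24524 = n24562 := ndS (p := 23527) (l := 4) rfl N23527 D24562
theorem N24525 : nd 24525 = n24563 := ndS (p := 23530) (l := 2) rfl N23530 D24563
theorem N24526 : nd 24526 = n24564 := ndS (p := 23530) (l := 4) rfl N23530 D24564
theorem N24527 : nd 24527 = n24565 := ndS (p := 23533) (l := 4) rfl N23533 D24565
theorem N24528 : nd 24528 = n24566 := ndS (p := 23534) (l := 3) rfl N23534 D24566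
theorem N24529 : nd 24529 = n24567 := ndS (p := 23537) (l := 0) rfl N23537 D24567
theorem N24530 : nd 24530 = n24568 := ndS (p := 23537) (l := 4) rfl N23537 D24568
theorem N24531 : nd 24531 = n24569 := ndS (p := 23541) (l := 2) rfl N23541 D24569
theorem N24532 : nd 24532 = n24570 := ndS (p := 23542) (l := 3) rfl N23542 D24570
theorem N24533 : nd 24533 = n24571 := ndS (p := 23551) (l := 2) rfl N23551 D24571
theorem N24534 : nd 24534 = n24572 := ndS (p := 23551) (l := 5) rfl N23551 D24572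
theorem N24535 : nd 24535 = n24573 := ndS (p := 23554) (l := 2) rfl N23554 D24573
theorem N24536 : nd 24536 = n24574 := ndS (p := 23554) (l := 5) rfl N23554 D24574
theorem N24537 : nd 24537 = n24575 := ndS (p := 23556) (l := 4) rfl N23556 D24575
theorem N24538 : nd 24538 = n24576 := ndS (p := 23557) (l := 5) rfl N23557 D24576
theorem N24539 : nd 24539 = n24577 := ndS (p := 23560) (l := 3) rfl N23560 D24577
theorem N24540 : nd 24540 = n24578 := ndS (p := 23562) (l := 2) rfl N23562 D24578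
theorem N24541 : nd 24541 = n24579 := ndS (p := 23562) (l := 5) rfl N23562 D24579
theorem N24542 : nd 24542 = n24580 := ndS (p := 23564) (l := 4) rfl N23564 D24580
theorem N24543 : nd 24543 = n24581 := ndS (p := 23565) (l := 5) rfl N23565 D24581
theorem N24544 : nd 24544 = n24582 := ndS (p := 23566) (l := 3) rfl N23566 D24582
theorem N24545 : nd 24545 = n24583 := ndS (p := 23568) (l := 3) rfl N23568 D24583
theorem N24546 : nd 24546 = n24584 := ndS (p := 23572) (l := 4) rfl N23572 D24584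
theorem N24547 : nd 24547 = n24585 := ndS (p := 23573) (l := 3) rfl N23573 D24585
theorem N24548 : nd 24548 = n24586 := ndS (p := 23574) (l := 4) rfl N23574 D24586
theorem N24549 : nd 24549 = n24587 := ndS (p := 23575) (l := 2) rfl N23575 D24587
theorem N24550 : nd 24550 = n24588 := ndS (p := 23577) (l := 4) rfl N23577 D24588
theorem N24551 : nd 24551 = n24589 := ndS (p := 23583) (l := 2) rfl N23583 D24589
theorem N24552 : nd 24552 = n24590 := ndS (p := 23583) (l := 4) rfl N23583 D24590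
theorem N24553 : nd 24553 = n24591 := ndS (p := 23584) (l := 3) rfl N23584 D24591
theorem N24554 : nd 24554 = n24592 := ndS (p := 23586) (l := 4) rfl N23586 D24592
theorem N24555 : nd 24555 = n24593 := ndS (p := 23591) (l := 4) rfl N23591 D24593
theorem N24556 : nd 24556 = n24594 := ndS (p := 23593) (l := 3) rfl N23593 D24594
theorem N24557 : nd 24557 = n24595 := ndS (p := 23596) (l := 0) rfl N23596 D24595
theorem N24558 : nd 24558 = n24596 := ndS (p := 23598) (l := 3) rfl N23598 D24596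
theorem N24559 : nd 24559 = n24597 := ndS (p := 23599) (l := 2) rfl N23599 D24597
theorem N24560 : nd 24560 = n24598 := ndS (p := 23600) (l := 4) rfl N23600 D24598
theorem N24561 : nd 24561 = n24599 := ndS (p := 23603) (l := 3) rfl N23603 D24599
theorem N24562 : nd 24562 = n24600 := ndS (p := 23604) (l := 4) rfl N23604 D24600
theorem N24563 : nd 24563 = n24601 := ndS (p := 23605) (l := 3) rfl N23605 D24601
theorem N24564 : nd 24564 = n24602 := ndS (p := 23605) (l := 5) rfl N23605 D24602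
theorem N24565 : nd 24565 = n24603 := ndS (p := 23607) (l := 2) rfl N23607 D24603
theorem N24566 : nd 24566 = n24604 := ndS (p := 23608) (l := 2) rfl N23608 D24604
theorem N24567 : nd 24567 = n24605 := ndS (p := 23608) (l := 5) rfl N23608 D24605
theorem N24568 : nd 24568 = n24606 := ndS (p := 23612) (l := 3) rfl N23612 D24606
theorem N24569 : nd 24569 = n24607 := ndS (p := 23616) (l := 2) rfl N23616 D24607
theorem N24570 : nd 24570 = n24608 := ndS (p := 23616) (l := 5) rfl N23616 D24608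
theorem N24571 : nd 24571 = n24609 := ndS (p := 23618) (l := 2) rfl N23618 D24609
theorem N24572 : nd 24572 = n24610 := ndS (p := 23618) (l := 5) rfl N23618 D24610
theorem N24573 : nd 24573 = n24611 := ndS (p := 23621) (l := 3) rfl N23621 D24611
theorem N24574 : nd 24574 = n24612 := ndS (p := 23621) (l := 5) rfl N23621 D24612
theorem N24575 : nd 24575 = n24613 := ndS (p := 23623) (l := 5) rfl N23623 D24613
theorem N24576 : nd 24576 = n24614 := ndS (p := 23625) (l := 5) rfl N23625 D24614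
theorem N24577 : nd 24577 = n24615 := ndS (p := 23626) (l := 4) rfl N23626 D24615
theorem N24578 : nd 24578 = n24616 := ndS (p := 23627) (l := 3) rfl N23627 D24616
theorem N24579 : nd 24579 = n24617 := ndS (p := 23628) (l := 5) rfl N23628 D24617
theorem N24580 : nd 24580 = n24618 := ndS (p := 23629) (l := 4) rfl N23629 D24618
theorem N24581 : nd 24581 = n24619 := ndS (p := 23630) (l := 3) rfl N23630 D24619
theorem N24582 : nd 24582 = n24620 := ndS (p := 23631) (l := 2) rfl N23631 D24620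
theorem N24583 : nd 24583 = n24621 := ndS (p := 23632) (l := 3) rfl N23632 D24621
theorem N24584 : nd 24584 = n24622 := ndS (p := 23632) (l := 5) rfl N23632 D24622
theorem N24585 : nd 24585 = n24623 := ndS (p := 23633) (l := 5) rfl N23633 D24623
theorem N24586 : nd 24586 = n24624 := ndS (p := 23635) (l := 3) rfl N23635 D24624
theorem N24587 : nd 24587 = n24625 := ndS (p := 23636) (l := 5) rfl N23636 D24625
theorem N24588 : nd 24588 = n24626 := ndS (p := 23638) (l := 1) rfl N23638 D24626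
theorem N24589 : nd 24589 = n24627 := ndS (p := 23638) (l := 5) rfl N23638 D24627
theorem N24590 : nd 24590 = n24628 := ndS (p := 23639) (l := 4) rfl N23639 D24628
theorem N24591 : nd 24591 = n24629 := ndS (p := 23640) (l := 4) rfl N23640 D24629
theorem N24592 : nd 24592 = n24630 := ndS (p := 23641) (l := 2) rfl N23641 D24630
theorem N24593 : nd 24593 = n24631 := ndS (p := 23641) (l := 5) rfl N23641 D24631
theorem N24594 : nd 24594 = n24632 := ndS (p := 23644) (l := 3) rfl N23644 D24632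
theorem N24595 : nd 24595 = n24633 := ndS (p := 23646) (l := 5) rfl N23646 D24633
theorem N24596 : nd 24596 = n24634 := ndS (p := 23648) (l := 4) rfl N23648 D24634
theorem N24597 : nd 24597 = n24635 := ndS (p := 23652) (l := 3) rfl N23652 D24635
theorem N24598 : nd 24598 = n24636 := ndS (p := 23654) (l := 3) rfl N23654 D24636
theorem N24599 : nd 24599 = n24637 := ndS (p := 23655) (l := 2) rfl N23655 D24637
theorem N24600 : nd 24600 = n24638 := ndS (p := 23660) (l := 4) rfl N23660 D24638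
theorem N24601 : nd 24601 = n24639 := ndS (p := 23664) (l := 0) rfl N23664 D24639
theorem N24602 : nd 24602 = n24640 := ndS (p := 23665) (l := 2) rfl N23665 D24640
theorem N24603 : nd 24603 = n24641 := ndS (p := 23665) (l := 5) rfl N23665 D24641
theorem N24604 : nd 24604 = n24642 := ndS (p := 23667) (l := 2) rfl N23667 D24642
theorem N24605 : nd 24605 = n24643 := ndS (p := 23667) (l := 5) rfl N23667 D24643
theorem N24606 : nd 24606 = n24644 := ndS (p := 23669) (l := 1) rfl N23669 D24644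
theorem N24607 : nd 24607 = n24645 := ndS (p := 23669) (l := 3) rfl N23669 D24645
theorem N24608 : nd 24608 = n24646 := ndS (p := 23669) (l := 5) rfl N23669 D24646
theorem N24609 : nd 24609 = n24647 := ndS (p := 23670) (l := 4) rfl N23670 D24647
theorem N24610 : nd 24610 = n24648 := ndS (p := 23673) (l := 0) rfl N23673 D24648
theorem N24611 : nd 24611 = n24649 := ndS (p := 23673) (l := 3) rfl N23673 D24649
theorem N24612 : nd 24612 = n24650 := ndS (p := 23673) (l := 5) rfl N23673 D24650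
theorem N24613 : nd 24613 = n24651 := ndS (p := 23678) (l := 4) rfl N23678 D24651
theorem N24614 : nd 24614 = n24652 := ndS (p := 23679) (l := 2) rfl N23679 D24652
theorem N24615 : nd 24615 = n24653 := ndS (p := 23680) (l := 2) rfl N23680 D24653
theorem N24616 : nd 24616 = n24654 := ndS (p := 23682) (l := 1) rfl N23682 D24654
theorem N24617 : nd 24617 = n24655 := ndS (p := 23686) (l := 1) rfl N23686 D24655
theorem N24618 : nd 24618 = n24656 := ndS (p := 23688) (l := 3) rfl N23688 D24656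
theorem N24619 : nd 24619 = n24657 := ndS (p := 23690) (l := 1) rfl N23690 D24657
theorem N24620 : nd 24620 = n24658 := ndS (p := 23690) (l := 3) rfl N23690 D24658
theorem N24621 : nd 24621 = n24659 := ndS (p := 23690) (l := 5) rfl N23690 D24659
theorem N24622 : nd 24622 = n24660 := ndS (p := 23691) (l := 4) rfl N23691 D24660
theorem N24623 : nd 24623 = n24661 := ndS (p := 23692) (l := 2) rfl N23692 D24661
theorem N24624 : nd 24624 = n24662 := ndS (p := 23692) (l := 5) rfl N23692 D24662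
theorem N24625 : nd 24625 = n24663 := ndS (p := 23695) (l := 3) rfl N23695 D24663
theorem N24626 : nd 24626 = n24664 := ndS (p := 23696) (l := 2) rfl N23696 D24664
theorem N24627 : nd 24627 = n24665 := ndS (p := 23701) (l := 4) rfl N23701 D24665
theorem N24628 : nd 24628 = n24666 := ndS (p := 23704) (l := 3) rfl N23704 D24666
theorem N24629 : nd 24629 = n24667 := ndS (p := 23704) (l := 5) rfl N23704 D24667
theorem N24630 : nd 24630 = n24668 := ndS (p := 23709) (l := 3) rfl N23709 D24668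
theorem N24631 : nd 24631 = n24669 := ndS (p := 23709) (l := 5) rfl N23709 D24669
theorem N24632 : nd 24632 = n24670 := ndS (p := 23710) (l := 2) rfl N23710 D24670
theorem N24633 : nd 24633 = n24671 := ndS (p := 23712) (l := 1) rfl N23712 D24671
theorem N24634 : nd 24634 = n24672 := ndS (p := 23712) (l := 3) rfl N23712 D24672
theorem N24635 : nd 24635 = n24673 := ndS (p := 23713) (l := 2) rfl N23713 D24673
theorem N24636 : nd 24636 = n24674 := ndS (p := 23715) (l := 3) rfl N23715 D24674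
theorem N24637 : nd 24637 = n24675 := ndS (p := 23717) (l := 2) rfl N23717 D24675
theorem N24638 : nd 24638 = n24676 := ndS (p := 23718) (l := 1) rfl N23718 D24676
theorem N24639 : nd 24639 = n24677 := ndS (p := 23723) (l := 3) rfl N23723 D24677
theorem N24640 : nd 24640 = n24678 := ndS (p := 23724) (l := 1) rfl N23724 D24678
theorem N24641 : nd 24641 = n24679 := ndS (p := 23726) (l := 4) rfl N23726 D24679
theorem N24642 : nd 24642 = n24680 := ndS (p := 23727) (l := 3) rfl N23727 D24680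
theorem N24643 : nd 24643 = n24681 := ndS (p := 23731) (l := 4) rfl N23731 D24681
theorem N24644 : nd 24644 = n24682 := ndS (p := 23732) (l := 1) rfl N23732 D24682
theorem N24645 : nd 24645 = n24683 := ndS (p := 23735) (l := 4) rfl N23735 D24683
theorem N24646 : nd 24646 = n24684 := ndS (p := 23737) (l := 4) rfl N23737 D24684
theorem N24647 : nd 24647 = n24685 := ndS (p := 23738) (l := 3) rfl N23738 D24685
theorem N24648 : nd 24648 = n24686 := ndS (p := 23739) (l := 2) rfl N23739 D24686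
theorem N24649 : nd 24649 = n24687 := ndS (p := 23740) (l := 1) rfl N23740 D24687
theorem N24650 : nd 24650 = n24688 := ndS (p := 23741) (l := 0) rfl N23741 D24688
theorem N24651 : nd 24651 = n24689 := ndS (p := 23746) (l := 2) rfl N23746 D24689
theorem N24652 : nd 24652 = n24690 := ndS (p := 23746) (l := 5) rfl N23746 D24690
theorem N24653 : nd 24653 = n24691 := ndS (p := 23748) (l := 1) rfl N23748 D24691
theorem N24654 : nd 24654 = n24692 := ndS (p := 23748) (l := 3) rfl N23748 D24692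
theorem N24655 : nd 24655 = n24693 := ndS (p := 23748) (l := 5) rfl N23748 D24693
theorem N24656 : nd 24656 = n24694 := ndS (p := 23752) (l := 5) rfl N23752 D24694
theorem N24657 : nd 24657 = n24695 := ndS (p := 23755) (l := 2) rfl N23755 D24695
theorem N24658 : nd 24658 = n24696 := ndS (p := 23756) (l := 3) rfl N23756 D24696
theorem N24659 : nd 24659 = n24697 := ndS (p := 23758) (l := 2) rfl N23758 D24697
theorem N24660 : nd 24660 = n24698 := ndS (p := 23759) (l := 1) rfl N23759 D24698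
theorem N24661 : nd 24661 = n24699 := ndS (p := 23759) (l := 3) rfl N23759 D24699
theorem N24662 : nd 24662 = n24700 := ndS (p := 23759) (l := 5) rfl N23759 D24700
theorem N24663 : nd 24663 = n24701 := ndS (p := 23760) (l := 5) rfl N23760 D24701
theorem N24664 : nd 24664 = n24702 := ndS (p := 23762) (l := 0) rfl N23762 D24702
theorem N24665 : nd 24665 = n24703 := ndS (p := 23762) (l := 3) rfl N23762 D24703
theorem N24666 : nd 24666 = n24704 := ndS (p := 23763) (l := 2) rfl N23763 D24704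
theorem N24667 : nd 24667 = n24705 := ndS (p := 23763) (l := 4) rfl N23763 D24705
theorem N24668 : nd 24668 = n24706 := ndS (p := 23763) (l := 5) rfl N23763 D24706
theorem N24669 : nd 24669 = n24707 := ndS (p := 23764) (l := 5) rfl N23764 D24707
theorem N24670 : nd 24670 = n24708 := ndS (p := 23770) (l := 4) rfl N23770 D24708
theorem N24671 : nd 24671 = n24709 := ndS (p := 23771) (l := 4) rfl N23771 D24709
theorem N24672 : nd 24672 = n24710 := ndS (p := 23774) (l := 3) rfl N23774 D24710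
theorem N24673 : nd 24673 = n24711 := ndS (p := 23779) (l := 2) rfl N23779 D24711
theorem N24674 : nd 24674 = n24712 := ndS (p := 23780) (l := 1) rfl N23780 D24712
theorem N24675 : nd 24675 = n24713 := ndS (p := 23780) (l := 3) rfl N23780 D24713
theorem N24676 : nd 24676 = n24714 := ndS (p := 23784) (l := 5) rfl N23784 D24714
theorem N24677 : nd 24677 = n24715 := ndS (p := 23786) (l := 4) rfl N23786 D24715
theorem N24678 : nd 24678 = n24716 := ndS (p := 23790) (l := 1) rfl N23790 D24716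
theorem N24679 : nd 24679 = n24717 := ndS (p := 23790) (l := 5) rfl N23790 D24717
theorem N24680 : nd 24680 = n24718 := ndS (p := 23792) (l := 2) rfl N23792 D24718
theorem N24681 : nd 24681 = n24719 := ndS (p := 23793) (l := 1) rfl N23793 D24719
theorem N24682 : nd 24682 = n24720 := ndS (p := 23796) (l := 3) rfl N23796 D24720
theorem N24683 : nd 24683 = n24721 := ndS (p := 23797) (l := 4) rfl N23797 D24721
theorem N24684 : nd 24684 = n24722 := ndS (p := 23800) (l := 2) rfl N23800 D24722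
theorem N24685 : nd 24685 = n24723 := ndS (p := 23804) (l := 2) rfl N23804 D24723
theorem N24686 : nd 24686 = n24724 := ndS (p := 23805) (l := 3) rfl N23805 D24724
theorem N24687 : nd 24687 = n24725 := ndS (p := 23807) (l := 4) rfl N23807 D24725
theorem N24688 : nd 24688 = n24726 := ndS (p := 23808) (l := 5) rfl N23808 D24726
theorem N24689 : nd 24689 = n24727 := ndS (p := 23810) (l := 4) rfl N23810 D24727
theorem N24690 : nd 24690 = n24728 := ndS (p := 23815) (l := 1) rfl N23815 D24728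
theorem N24691 : nd 24691 = n24729 := ndS (p := 23815) (l := 3) rfl N23815 D24729
theorem N24692 : nd 24692 = n24730 := ndS (p := 23815) (l := 5) rfl N23815 D24730
theorem N24693 : nd 24693 = n24731 := ndS (p := 23816) (l := 4) rfl N23816 D24731
theorem N24694 : nd 24694 = n24732 := ndS (p := 23820) (l := 0) rfl N23820 D24732
theorem N24695 : nd 24695 = n24733 := ndS (p := 23821) (l := 2) rfl N23821 D24733
theorem N24696 : nd 24696 = n24734 := ndS (p := 23821) (l := 4) rfl N23821 D24734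
theorem N24697 : nd 24697 = n24735 := ndS (p := 23822) (l := 4) rfl N23822 D24735
theorem N24698 : nd 24698 = n24736 := ndS (p := 23823) (l := 3) rfl N23823 D24736
theorem N24699 : nd 24699 = n24737 := ndS (p := 23824) (l := 2) rfl N23824 D24737
theorem N24700 : nd 24700 = n24738 := ndS (p := 23824) (l := 4) rfl N23824 D24738
theorem N24701 : nd 24701 = n24739 := ndS (p := 23826) (l := 2) rfl N23826 D24739
theorem N24702 : nd 24702 = n24740 := ndS (p := 23829) (l := 2) rfl N23829 D24740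
theorem N24703 : nd 24703 = n24741 := ndS (p := 23832) (l := 0) rfl N23832 D24741
theorem N24704 : nd 24704 = n24742 := ndS (p := 23833) (l := 1) rfl N23833 D24742
theorem N24705 : nd 24705 = n24743 := ndS (p := 23833) (l := 5) rfl N23833 D24743
theorem N24706 : nd 24706 = n24744 := ndS (p := 23835) (l := 3) rfl N23835 D24744
theorem N24707 : nd 24707 = n24745 := ndS (p := 23836) (l := 2) rfl N23836 D24745
theorem N24708 : nd 24708 = n24746 := ndS (p := 23838) (l := 2) rfl N23838 D24746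
theorem N24709 : nd 24709 = n24747 := ndS (p := 23839) (l := 2) rfl N23839 D24747
theorem N24710 : nd 24710 = n24748 := ndS (p := 23843) (l := 4) rfl N23843 D24748
theorem N24711 : nd 24711 = n24749 := ndS (p := 23844) (l := 4) rfl N23844 D24749
theorem N24712 : nd 24712 = n24750 := ndS (p := 23845) (l := 5) rfl N23845 D24750
theorem N24713 : nd 24713 = n24751 := ndS (p := 23848) (l := 1) rfl N23848 D24751
theorem N24714 : nd 24714 = n24752 := ndS (p := 23848) (l := 3) rfl N23848 D24752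
theorem N24715 : nd 24715 = n24753 := ndS (p := 23850) (l := 5) rfl N23850 D24753
theorem N24716 : nd 24716 = n24754 := ndS (p := 23853) (l := 2) rfl N23853 D24754
theorem N24717 : nd 24717 = n24755 := ndS (p := 23854) (l := 2) rfl N23854 D24755
theorem N24718 : nd 24718 = n24756 := ndS (p := 23855) (l := 3) rfl N23855 D24756
theorem N24719 : nd 24719 = n24757 := ndS (p := 23858) (l := 1) rfl N23858 D24757
theorem N24720 : nd 24720 = n24758 := ndS (p := 23858) (l := 3) rfl N23858 D24758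
theorem N24721 : nd 24721 = n24759 := ndS (p := 23860) (l := 4) rfl N23860 D24759
theorem N24722 : nd 24722 = n24760 := ndS (p := 23866) (l := 2) rfl N23866 D24760
theorem N24723 : nd 24723 = n24761 := ndS (p := 23870) (l := 0) rfl N23870 D24761
theorem N24724 : nd 24724 = n24762 := ndS (p := 23871) (l := 3) rfl N23871 D24762
theorem N24725 : nd 24725 = n24763 := ndS (p := 23872) (l := 2) rfl N23872 D24763
theorem N24726 : nd 24726 = n24764 := ndS (p := 23873) (l := 5) rfl N23873 D24764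
theorem N24727 : nd 24727 = n24765 := ndS (p := 23874) (l := 5) rfl N23874 D24765
theorem N24728 : nd 24728 = n24766 := ndS (p := 23876) (l := 2) rfl N23876 D24766
theorem N24729 : nd 24729 = n24767 := ndS (p := 23876) (l := 5) rfl N23876 D24767
theorem N24730 : nd 24730 = n24768 := ndS (p := 23881) (l := 1) rfl N23881 D24768
theorem N24731 : nd 24731 = n24769 := ndS (p := 23881) (l := 3) rfl N23881 D24769
theorem N24732 : nd 24732 = n24770 := ndS (p := 23881) (l := 5) rfl N23881 D24770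
theorem N24733 : nd 24733 = n24771 := ndS (p := 23883) (l := 3) rfl N23883 D24771
theorem N24734 : nd 24734 = n24772 := ndS (p := 23883) (l := 5) rfl N23883 D24772
theorem N24735 : nd 24735 = n24773 := ndS (p := 23884) (l := 4) rfl N23884 D24773
theorem N24736 : nd 24736 = n24774 := ndS (p := 23887) (l := 0) rfl N23887 D24774
theorem N24737 : nd 24737 = n24775 := ndS (p := 23889) (l := 3) rfl N23889 D24775
theorem N24738 : nd 24738 = n24776 := ndS (p := 23890) (l := 0) rfl N23890 D24776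
theorem N24739 : nd 24739 = n24777 := ndS (p := 23890) (l := 3) rfl N23890 D24777
theorem N24740 : nd 24740 = n24778 := ndS (p := 23891) (l := 2) rfl N23891 D24778
theorem N24741 : nd 24741 = n24779 := ndS (p := 23891) (l := 4) rfl N23891 D24779
theorem N24742 : nd 24742 = n24780 := ndS (p := 23892) (l := 3) rfl N23892 D24780
theorem N24743 : nd 24743 = n24781 := ndS (p := 23893) (l := 4) rfl N23893 D24781
theorem N24744 : nd 24744 = n24782 := ndS (p := 23898) (l := 4) rfl N23898 D24782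
theorem N24745 : nd 24745 = n24783 := ndS (p := 23899) (l := 3) rfl N23899 D24783
theorem N24746 : nd 24746 = n24784 := ndS (p := 23900) (l := 2) rfl N23900 D24784
theorem N24747 : nd 24747 = n24785 := ndS (p := 23901) (l := 1) rfl N23901 D24785
theorem N24748 : nd 24748 = n24786 := ndS (p := 23902) (l := 0) rfl N23902 D24786
theorem N24749 : nd 24749 = n24787 := ndS (p := 23902) (l := 3) rfl N23902 D24787
theorem N24750 : nd 24750 = n24788 := ndS (p := 23903) (l := 4) rfl N23903 D24788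
theorem N24751 : nd 24751 = n24789 := ndS (p := 23904) (l := 4) rfl N23904 D24789
theorem N24752 : nd 24752 = n24790 := ndS (p := 23905) (l := 3) rfl N23905 D24790
theorem N24753 : nd 24753 = n24791 := ndS (p := 23906) (l := 2) rfl N23906 D24791
theorem N24754 : nd 24754 = n24792 := ndS (p := 23906) (l := 4) rfl N23906 D24792
theorem N24755 : nd 24755 = n24793 := ndS (p := 23907) (l := 1) rfl N23907 D24793
theorem N24756 : nd 24756 = n24794 := ndS (p := 23907) (l := 4) rfl N23907 D24794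
theorem N24757 : nd 24757 = n24795 := ndS (p := 23909) (l := 4) rfl N23909 D24795
theorem N24758 : nd 24758 = n24796 := ndS (p := 23911) (l := 2) rfl N23911 D24796
theorem N24759 : nd 24759 = n24797 := ndS (p := 23914) (l := 2) rfl N23914 D24797
theorem N24760 : nd 24760 = n24798 := ndS (p := 23915) (l := 1) rfl N23915 D24798
theorem N24761 : nd 24761 = n24799 := ndS (p := 23916) (l := 0) rfl N23916 D24799
theorem N24762 : nd 24762 = n24800 := ndS (p := 23918) (l := 5) rfl N23918 D24800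
theorem N24763 : nd 24763 = n24801 := ndS (p := 23919) (l := 4) rfl N23919 D24801
theorem N24764 : nd 24764 = n24802 := ndS (p := 23920) (l := 3) rfl N23920 D24802
theorem N24765 : nd 24765 = n24803 := ndS (p := 23926) (l := 4) rfl N23926 D24803
theorem N24766 : nd 24766 = n24804 := ndS (p := 23927) (l := 3) rfl N23927 D24804
theorem N24767 : nd 24767 = n24805 := ndS (p := 23928) (l := 2) rfl N23928 D24805
theorem N24768 : nd 24768 = n24806 := ndS (p := 23929) (l := 0) rfl N23929 D24806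
theorem N24769 : nd 24769 = n24807 := ndS (p := 23929) (l := 4) rfl N23929 D24807
theorem N24770 : nd 24770 = n24808 := ndS (p := 23933) (l := 1) rfl N23933 D24808
theorem N24771 : nd 24771 = n24809 := ndS (p := 23934) (l := 4) rfl N23934 D24809
theorem N24772 : nd 24772 = n24810 := ndS (p := 23935) (l := 2) rfl N23935 D24810
theorem N24773 : nd 24773 = n24811 := ndS (p := 23936) (l := 3) rfl N23936 D24811
theorem N24774 : nd 24774 = n24812 := ndS (p := 23937) (l := 1) rfl N23937 D24812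
theorem N24775 : nd 24775 = n24813 := ndS (p := 23937) (l := 3) rfl N23937 D24813
theorem N24776 : nd 24776 = n24814 := ndS (p := 23938) (l := 4) rfl N23938 D24814
theorem N24777 : nd 24777 = n24815 := ndS (p := 23939) (l := 1) rfl N23939 D24815
theorem N24778 : nd 24778 = n24816 := ndS (p := 23939) (l := 3) rfl N23939 D24816
theorem N24779 : nd 24779 = n24817 := ndS (p := 23940) (l := 0) rfl N23940 D24817
theorem N24780 : nd 24780 = n24818 := ndS (p := 23940) (l := 3) rfl N23940 D24818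
theorem N24781 : nd 24781 = n24819 := ndS (p := 23941) (l := 4) rfl N23941 D24819
theorem N24782 : nd 24782 = n24820 := ndS (p := 23942) (l := 1) rfl N23942 D24820
theorem N24783 : nd 24783 = n24821 := ndS (p := 23942) (l := 3) rfl N23942 D24821
theorem N24784 : nd 24784 = n24822 := ndS (p := 23942) (l := 5) rfl N23942 D24822
theorem N24785 : nd 24785 = n24823 := ndS (p := 23943) (l := 4) rfl N23943 D24823
theorem N24786 : nd 24786 = n24824 := ndS (p := 23944) (l := 0) rfl N23944 D24824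
theorem N24787 : nd 24787 = n24825 := ndS (p := 23946) (l := 0) rfl N23946 D24825
theorem N24788 : nd 24788 = n24826 := ndS (p := 23948) (l := 5) rfl N23948 D24826
theorem N24789 : nd 24789 = n24827 := ndS (p := 23949) (l := 4) rfl N23949 D24827
theorem N24790 : nd 24790 = n24828 := ndS (p := 23953) (l := 2) rfl N23953 D24828
theorem N24791 : nd 24791 = n24829 := ndS (p := 23953) (l := 4) rfl N23953 D24829
theorem N24792 : nd 24792 = n24830 := ndS (p := 23954) (l := 1) rfl N23954 D24830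
theorem N24793 : nd 24793 = n24831 := ndS (p := 23954) (l := 4) rfl N23954 D24831
theorem N24794 : nd 24794 = n24832 := ndS (p := 23956) (l := 4) rfl N23956 D24832
theorem N24795 : nd 24795 = n24833 := ndS (p := 23959) (l := 2) rfl N23959 D24833
theorem N24796 : nd 24796 = n24834 := ndS (p := 23962) (l := 2) rfl N23962 D24834
theorem N24797 : nd 24797 = n24835 := ndS (p := 23966) (l := 3) rfl N23966 D24835
theorem N24798 : nd 24798 = n24836 := ndS (p := 23966) (l := 5) rfl N23966 D24836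
theorem N24799 : nd 24799 = n24837 := ndS (p := 23969) (l := 4) rfl N23969 D24837
theorem N24800 : nd 24800 = n24838 := ndS (p := 23975) (l := 0) rfl N23975 D24838
theorem N24801 : nd 24801 = n24839 := ndS (p := 23975) (l := 3) rfl N23975 D24839
theorem N24802 : nd 24802 = n24840 := ndS (p := 23975) (l := 5) rfl N23975 D24840
theorem N24803 : nd 24803 = n24841 := ndS (p := 23976) (l := 2) rfl N23976 D24841
theorem N24804 : nd 24804 = n24842 := ndS (p := 23979) (l := 3) rfl N23979 D24842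
theorem N24805 : nd 24805 = n24843 := ndS (p := 23979) (l := 5) rfl N23979 D24843
theorem N24806 : nd 24806 = n24844 := ndS (p := 23980) (l := 2) rfl N23980 D24844
theorem N24807 : nd 24807 = n24845 := ndS (p := 23980) (l := 4) rfl N23980 D24845
theorem N24808 : nd 24808 = n24846 := ndS (p := 23980) (l := 5) rfl N23980 D24846
theorem N24809 : nd 24809 = n24847 := ndS (p := 23982) (l := 4) rfl N23982 D24847
theorem N24810 : nd 24810 = n24848 := ndS (p := 23983) (l := 5) rfl N23983 D24848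
theorem N24811 : nd 24811 = n24849 := ndS (p := 23984) (l := 3) rfl N23984 D24849
theorem N24812 : nd 24812 = n24850 := ndS (p := 23985) (l := 4) rfl N23985 D24850
theorem N24813 : nd 24813 = n24851 := ndS (p := 23987) (l := 5) rfl N23987 D24851
theorem N24814 : nd 24814 = n24852 := ndS (p := 23988) (l := 3) rfl N23988 D24852
theorem N24815 : nd 24815 = n24853 := ndS (p := 23992) (l := 4) rfl N23992 D24853
theorem N24816 : nd 24816 = n24854 := ndS (p := 23992) (l := 5) rfl N23992 D24854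
theorem N24817 : nd 24817 = n24855 := ndS (p := 23994) (l := 3) rfl N23994 D24855
theorem N24818 : nd 24818 = n24856 := ndS (p := 23995) (l := 4) rfl N23995 D24856
theorem N24819 : nd 24819 = n24857 := ndS (p := 23996) (l := 1) rfl N23996 D24857
theorem N24820 : nd 24820 = n24858 := ndS (p := 23996) (l := 4) rfl N23996 D24858
theorem N24821 : nd 24821 = n24859 := ndS (p := 23997) (l := 5) rfl N23997 D24859
theorem N24822 : nd 24822 = n24860 := ndS (p := 23999) (l := 2) rfl N23999 D24860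
theorem N24823 : nd 24823 = n24861 := ndS (p := 24000) (l := 3) rfl N24000 D24861
theorem N24824 : nd 24824 = n24862 := ndS (p := 24003) (l := 1) rfl N24003 D24862
theorem N24825 : nd 24825 = n24863 := ndS (p := 24003) (l := 4) rfl N24003 D24863
theorem N24826 : nd 24826 = n24864 := ndS (p := 24004) (l := 5) rfl N24004 D24864
theorem N24827 : nd 24827 = n24865 := ndS (p := 24007) (l := 5) rfl N24007 D24865
theorem N24828 : nd 24828 = n24866 := ndS (p := 24010) (l := 3) rfl N24010 D24866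
theorem N24829 : nd 24829 = n24867 := ndS (p := 24011) (l := 4) rfl N24011 D24867
theorem N24830 : nd 24830 = n24868 := ndS (p := 24012) (l := 4) rfl N24012 D24868
theorem N24831 : nd 24831 = n24869 := ndS (p := 24015) (l := 2) rfl N24015 D24869
theorem N24832 : nd 24832 = n24870 := ndS (p := 24016) (l := 1) rfl N24016 D24870
theorem N24833 : nd 24833 = n24871 := ndS (p := 24016) (l := 5) rfl N24016 D24871
theorem N24834 : nd 24834 = n24872 := ndS (p := 24018) (l := 5) rfl N24018 D24872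
theorem N24835 : nd 24835 = n24873 := ndS (p := 24020) (l := 5) rfl N24020 D24873
theorem N24836 : nd 24836 = n24874 := ndS (p := 24028) (l := 3) rfl N24028 D24874
theorem N24837 : nd 24837 = n24875 := ndS (p := 24030) (l := 1) rfl N24030 D24875
theorem N24838 : nd 24838 = n24876 := ndS (p := 24032) (l := 2) rfl N24032 D24876
theorem N24839 : nd 24839 = n24877 := ndS (p := 24037) (l := 2) rfl N24037 D24877
theorem N24840 : nd 24840 = n24878 := ndS (p := 24038) (l := 0) rfl N24038 D24878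
theorem N24841 : nd 24841 = n24879 := ndS (p := 24042) (l := 1) rfl N24042 D24879
theorem N24842 : nd 24842 = n24880 := ndS (p := 24042) (l := 5) rfl N24042 D24880
theorem N24843 : nd 24843 = n24881 := ndS (p := 24043) (l := 4) rfl N24043 D24881
theorem N24844 : nd 24844 = n24882 := ndS (p := 24044) (l := 0) rfl N24044 D24882
theorem N24845 : nd 24845 = n24883 := ndS (p := 24048) (l := 0) rfl N24048 D24883
theorem N24846 : nd 24846 = n24884 := ndS (p := 24048) (l := 3) rfl N24048 D24884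
theorem N24847 : nd 24847 = n24885 := ndS (p := 24050) (l := 3) rfl N24050 D24885
theorem N24848 : nd 24848 = n24886 := ndS (p := 24051) (l := 2) rfl N24051 D24886
theorem N24849 : nd 24849 = n24887 := ndS (p := 24052) (l := 1) rfl N24052 D24887
theorem N24850 : nd 24850 = n24888 := ndS (p := 24053) (l := 5) rfl N24053 D24888
theorem N24851 : nd 24851 = n24889 := ndS (p := 24055) (l := 5) rfl N24055 D24889
theorem N24852 : nd 24852 = n24890 := ndS (p := 24058) (l := 2) rfl N24058 D24890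
theorem N24853 : nd 24853 = n24891 := ndS (p := 24063) (l := 1) rfl N24063 D24891
theorem N24854 : nd 24854 = n24892 := ndS (p := 24067) (l := 5) rfl N24067 D24892
theorem N24855 : nd 24855 = n24893 := ndS (p := 24068) (l := 4) rfl N24068 D24893
theorem N24856 : nd 24856 = n24894 := ndS (p := 24071) (l := 3) rfl N24071 D24894
theorem N24857 : nd 24857 = n24895 := ndS (p := 24074) (l := 3) rfl N24074 D24895
theorem N24858 : nd 24858 = n24896 := ndS (p := 24077) (l := 1) rfl N24077 D24896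
theorem N24859 : nd 24859 = n24897 := ndS (p := 24078) (l := 3) rfl N24078 D24897
theorem N24860 : nd 24860 = n24898 := ndS (p := 24082) (l := 1) rfl N24082 D24898
theorem N24861 : nd 24861 = n24899 := ndS (p := 24083) (l := 0) rfl N24083 D24899
theorem N24862 : nd 24862 = n24900 := ndS (p := 24083) (l := 3) rfl N24083 D24900
theorem N24863 : nd 24863 = n24901 := ndS (p := 24085) (l := 2) rfl N24085 D24901
theorem N24864 : nd 24864 = n24902 := ndS (p := 24086) (l := 1) rfl N24086 D24902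
theorem N24865 : nd 24865 = n24903 := ndS (p := 24090) (l := 2) rfl N24090 D24903
theorem N24866 : nd 24866 = n24904 := ndS (p := 24091) (l := 3) rfl N24091 D24904
theorem N24867 : nd 24867 = n24905 := ndS (p := 24092) (l := 2) rfl N24092 D24905
theorem N24868 : nd 24868 = n24906 := ndS (p := 24094) (l := 2) rfl N24094 D24906
theorem N24869 : nd 24869 = n24907 := ndS (p := 24094) (l := 5) rfl N24094 D24907
theorem N24870 : nd 24870 = n24908 := ndS (p := 24096) (l := 1) rfl N24096 D24908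
theorem N24871 : nd 24871 = n24909 := ndS (p := 24096) (l := 5) rfl N24096 D24909
theorem N24872 : nd 24872 = n24910 := ndS (p := 24097) (l := 4) rfl N24097 D24910
theorem N24873 : nd 24873 = n24911 := ndS (p := 24102) (l := 5) rfl N24102 D24911
theorem N24874 : nd 24874 = n24912 := ndS (p := 24105) (l := 2) rfl N24105 D24912
theorem N24875 : nd 24875 = n24913 := ndS (p := 24106) (l := 4) rfl N24106 D24913
theorem N24876 : nd 24876 = n24914 := ndS (p := 24108) (l := 3) rfl N24108 D24914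
theorem N24877 : nd 24877 = n24915 := ndS (p := 24108) (l := 5) rfl N24108 D24915
theorem N24878 : nd 24878 = n24916 := ndS (p := 24109) (l := 2) rfl N24109 D24916
theorem N24879 : nd 24879 = n24917 := ndS (p := 24111) (l := 2) rfl N24111 D24917
theorem N24880 : nd 24880 = n24918 := ndS (p := 24111) (l := 5) rfl N24111 D24918
theorem N24881 : nd 24881 = n24919 := ndS (p := 24113) (l := 4) rfl N24113 D24919
theorem N24882 : nd 24882 = n24920 := ndS (p := 24114) (l := 2) rfl N24114 D24920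
theorem N24883 : nd 24883 = n24921 := ndS (p := 24114) (l := 5) rfl N24114 D24921
theorem N24884 : nd 24884 = n24922 := ndS (p := 24116) (l := 1) rfl N24116 D24922
theorem N24885 : nd 24885 = n24923 := ndS (p := 24116) (l := 3) rfl N24116 D24923
theorem N24886 : nd 24886 = n24924 := ndS (p := 24116) (l := 5) rfl N24116 D24924
theorem N24887 : nd 24887 = n24925 := ndS (p := 24117) (l := 4) rfl N24117 D24925
theorem N24888 : nd 24888 = n24926 := ndS (p := 24120) (l := 1) rfl N24120 D24926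
theorem N24889 : nd 24889 = n24927 := ndS (p := 24130) (l := 4) rfl N24130 D24927
theorem N24890 : nd 24890 = n24928 := ndS (p := 24131) (l := 5) rfl N24131 D24928
theorem N24891 : nd 24891 = n24929 := ndS (p := 24134) (l := 3) rfl N24134 D24929
theorem N24892 : nd 24892 = n24930 := ndS (p := 24136) (l := 4) rfl N24136 D24930
theorem N24893 : nd 24893 = n24931 := ndS (p := 24137) (l := 3) rfl N24137 D24931
theorem N24894 : nd 24894 = n24932 := ndS (p := 24140) (l := 3) rfl N24140 D24932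
theorem N24895 : nd 24895 = n24933 := ndS (p := 24141) (l := 2) rfl N24141 D24933
theorem N24896 : nd 24896 = n24934 := ndS (p := 24143) (l := 3) rfl N24143 D24934
theorem N24897 : nd 24897 = n24935 := ndS (p := 24144) (l := 2) rfl N24144 D24935
theorem N24898 : nd 24898 = n24936 := ndS (p := 24145) (l := 3) rfl N24145 D24936
theorem N24899 : nd 24899 = n24937 := ndS (p := 24146) (l := 3) rfl N24146 D24937
theorem N24900 : nd 24900 = n24938 := ndS (p := 24146) (l := 5) rfl N24146 D24938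
theorem N24901 : nd 24901 = n24939 := ndS (p := 24147) (l := 2) rfl N24147 D24939
theorem N24902 : nd 24902 = n24940 := ndS (p := 24147) (l := 5) rfl N24147 D24940
theorem N24903 : nd 24903 = n24941 := ndS (p := 24150) (l := 0) rfl N24150 D24941
theorem N24904 : nd 24904 = n24942 := ndS (p := 24151) (l := 3) rfl N24151 D24942
theorem N24905 : nd 24905 = n24943 := ndS (p := 24152) (l := 5) rfl N24152 D24943
theorem N24906 : nd 24906 = n24944 := ndS (p := 24154) (l := 3) rfl N24154 D24944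
theorem N24907 : nd 24907 = n24945 := ndS (p := 24154) (l := 5) rfl N24154 D24945
theorem N24908 : nd 24908 = n24946 := ndS (p := 24155) (l := 2) rfl N24155 D24946
theorem N24909 : nd 24909 = n24947 := ndS (p := 24155) (l := 5) rfl N24155 D24947
theorem N24910 : nd 24910 = n24948 := ndS (p := 24158) (l := 4) rfl N24158 D24948
theorem N24911 : nd 24911 = n24949 := ndS (p := 24159) (l := 3) rfl N24159 D24949
theorem N24912 : nd 24912 = n24950 := ndS (p := 24159) (l := 5) rfl N24159 D24950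
theorem N24913 : nd 24913 = n24951 := ndS (p := 24163) (l := 3) rfl N24163 D24951
theorem N24914 : nd 24914 = n24952 := ndS (p := 24163) (l := 5) rfl N24163 D24952
theorem N24915 : nd 24915 = n24953 := ndS (p := 24164) (l := 2) rfl N24164 D24953
theorem N24916 : nd 24916 = n24954 := ndS (p := 24166) (l := 3) rfl N24166 D24954
theorem N24917 : nd 24917 = n24955 := ndS (p := 24166) (l := 5) rfl N24166 D24955
theorem N24918 : nd 24918 = n24956 := ndS (p := 24167) (l := 2) rfl N24167 D24956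
theorem N24919 : nd 24919 = n24957 := ndS (p := 24169) (l := 3) rfl N24169 D24957
theorem N24920 : nd 24920 = n24958 := ndS (p := 24170) (l := 1) rfl N24170 D24958
theorem N24921 : nd 24921 = n24959 := ndS (p := 24171) (l := 0) rfl N24171 D24959
theorem N24922 : nd 24922 = n24960 := ndS (p := 24173) (l := 0) rfl N24173 D24960
theorem N24923 : nd 24923 = n24961 := ndS (p := 24179) (l := 2) rfl N24179 D24961
theorem N24924 : nd 24924 = n24962 := ndS (p := 24179) (l := 5) rfl N24179 D24962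
theorem N24925 : nd 24925 = n24963 := ndS (p := 24182) (l := 2) rfl N24182 D24963
theorem N24926 : nd 24926 = n24964 := ndS (p := 24186) (l := 2) rfl N24186 D24964
theorem N24927 : nd 24927 = n24965 := ndS (p := 24186) (l := 5) rfl N24186 D24965
theorem N24928 : nd 24928 = n24966 := ndS (p := 24188) (l := 1) rfl N24188 D24966
theorem N24929 : nd 24929 = n24967 := ndS (p := 24189) (l := 5) rfl N24189 D24967
theorem N24930 : nd 24930 = n24968 := ndS (p := 24190) (l := 3) rfl N24190 D24968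
theorem N24931 : nd 24931 = n24969 := ndS (p := 24191) (l := 2) rfl N24191 D24969
theorem N24932 : nd 24932 = n24970 := ndS (p := 24191) (l := 5) rfl N24191 D24970
theorem N24933 : nd 24933 = n24971 := ndS (p := 24193) (l := 2) rfl N24193 D24971
theorem N24934 : nd 24934 = n24972 := ndS (p := 24193) (l := 5) rfl N24193 D24972
theorem N24935 : nd 24935 = n24973 := ndS (p := 24197) (l := 5) rfl N24197 D24973
theorem N24936 : nd 24936 = n24974 := ndS (p := 24199) (l := 3) rfl N24199 D24974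
theorem N24937 : nd 24937 = n24975 := ndS (p := 24199) (l := 5) rfl N24199 D24975
theorem N24938 : nd 24938 = n24976 := ndS (p := 24201) (l := 3) rfl N24201 D24976
theorem N24939 : nd 24939 = n24977 := ndS (p := 24201) (l := 5) rfl N24201 D24977
theorem N24940 : nd 24940 = n24978 := ndS (p := 24202) (l := 2) rfl N24202 D24978
theorem N24941 : nd 24941 = n24979 := ndS (p := 24202) (l := 5) rfl N24202 D24979
theorem N24942 : nd 24942 = n24980 := ndS (p := 24204) (l := 3) rfl N24204 D24980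
theorem N24943 : nd 24943 = n24981 := ndS (p := 24205) (l := 0) rfl N24205 D24981
theorem N24944 : nd 24944 = n24982 := ndS (p := 24211) (l := 2) rfl N24211 D24982
theorem N24945 : nd 24945 = n24983 := ndS (p := 24211) (l := 5) rfl N24211 D24983
theorem N24946 : nd 24946 = n24984 := ndS (p := 24215) (l := 5) rfl N24215 D24984
theorem N24947 : nd 24947 = n24985 := ndS (p := 24216) (l := 5) rfl N24216 D24985
theorem N24948 : nd 24948 = n24986 := ndS (p := 24221) (l := 3) rfl N24221 D24986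
theorem N24949 : nd 24949 = n24987 := ndS (p := 24224) (l := 4) rfl N24224 D24987
theorem N24950 : nd 24950 = n24988 := ndS (p := 24225) (l := 4) rfl N24225 D24988
theorem N24951 : nd 24951 = n24989 := ndS (p := 24226) (l := 3) rfl N24226 D24989
theorem N24952 : nd 24952 = n24990 := ndS (p := 24229) (l := 3) rfl N24229 D24990
theorem N24953 : nd 24953 = n24991 := ndS (p := 24229) (l := 5) rfl N24229 D24991
theorem N24954 : nd 24954 = n24992 := ndS (p := 24230) (l := 2) rfl N24230 D24992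
theorem N24955 : nd 24955 = n24993 := ndS (p := 24231) (l := 3) rfl N24231 D24993
theorem N24956 : nd 24956 = n24994 := ndS (p := 24231) (l := 5) rfl N24231 D24994
theorem N24957 : nd 24957 = n24995 := ndS (p := 24232) (l := 2) rfl N24232 D24995
theorem N24958 : nd 24958 = n24996 := ndS (p := 24232) (l := 5) rfl N24232 D24996
theorem N24959 : nd 24959 = n24997 := ndS (p := 24234) (l := 1) rfl N24234 D24997
theorem N24960 : nd 24960 = n24998 := ndS (p := 24234) (l := 3) rfl N24234 D24998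
theorem N24961 : nd 24961 = n24999 := ndS (p := 24234) (l := 5) rfl N24234 D24999
theorem N24962 : nd 24962 = n25000 := ndS (p := 24236) (l := 3) rfl N24236 D25000
theorem N24963 : nd 24963 = n25001 := ndS (p := 24243) (l := 2) rfl N24243 D25001
theorem N24964 : nd 24964 = n25002 := ndS (p := 24245) (l := 1) rfl N24245 D25002
theorem N24965 : nd 24965 = n25003 := ndS (p := 24247) (l := 0) rfl N24247 D25003
theorem N24966 : nd 24966 = n25004 := ndS (p := 24250) (l := 5) rfl N24250 D25004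
theorem N24967 : nd 24967 = n25005 := ndS (p := 24253) (l := 2) rfl N24253 D25005
theorem N24968 : nd 24968 = n25006 := ndS (p := 24253) (l := 5) rfl N24253 D25006
theorem N24969 : nd 24969 = n25007 := ndS (p := 24255) (l := 2) rfl N24255 D25007
theorem N24970 : nd 24970 = n25008 := ndS (p := 24255) (l := 5) rfl N24255 D25008
theorem N24971 : nd 24971 = n25009 := ndS (p := 24257) (l := 1) rfl N24257 D25009
theorem N24972 : nd 24972 = n25010 := ndS (p := 24257) (l := 5) rfl N24257 D25010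
theorem N24973 : nd 24973 = n25011 := ndS (p := 24258) (l := 4) rfl N24258 D25011
theorem N24974 : nd 24974 = n25012 := ndS (p := 24261) (l := 2) rfl N24261 D25012
theorem N24975 : nd 24975 = n25013 := ndS (p := 24261) (l := 5) rfl N24261 D25013
theorem N24976 : nd 24976 = n25014 := ndS (p := 24263) (l := 3) rfl N24263 D25014
theorem N24977 : nd 24977 = n25015 := ndS (p := 24265) (l := 2) rfl N24265 D25015
theorem N24978 : nd 24978 = n25016 := ndS (p := 24266) (l := 3) rfl N24266 D25016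
theorem N24979 : nd 24979 = n25017 := ndS (p := 24267) (l := 2) rfl N24267 D25017
theorem N24980 : nd 24980 = n25018 := ndS (p := 24269) (l := 3) rfl N24269 D25018
theorem N24981 : nd 24981 = n25019 := ndS (p := 24270) (l := 1) rfl N24270 D25019
theorem N24982 : nd 24982 = n25020 := ndS (p := 24270) (l := 3) rfl N24270 D25020
theorem N24983 : nd 24983 = n25021 := ndS (p := 24270) (l := 5) rfl N24270 D25021
theorem N24984 : nd 24984 = n25022 := ndS (p := 24272) (l := 3) rfl N24272 D25022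
theorem N24985 : nd 24985 = n25023 := ndS (p := 24273) (l := 2) rfl N24273 D25023
theorem N24986 : nd 24986 = n25024 := ndS (p := 24276) (l := 4) rfl N24276 D25024
theorem N24987 : nd 24987 = n25025 := ndS (p := 24278) (l := 2) rfl N24278 D25025
theorem N24988 : nd 24988 = n25026 := ndS (p := 24278) (l := 5) rfl N24278 D25026
theorem N24989 : nd 24989 = n25027 := ndS (p := 24280) (l := 1) rfl N24280 D25027
theorem N24990 : nd 24990 = n25028 := ndS (p := 24280) (l := 3) rfl N24280 D25028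
theorem N24991 : nd 24991 = n25029 := ndS (p := 24280) (l := 5) rfl N24280 D25029
theorem N24992 : nd 24992 = n25030 := ndS (p := 24281) (l := 4) rfl N24281 D25030
theorem N24993 : nd 24993 = n25031 := ndS (p := 24282) (l := 3) rfl N24282 D25031
theorem N24994 : nd 24994 = n25032 := ndS (p := 24283) (l := 2) rfl N24283 D25032
theorem N24995 : nd 24995 = n25033 := ndS (p := 24284) (l := 3) rfl N24284 D25033
theorem N24996 : nd 24996 = n25034 := ndS (p := 24285) (l := 2) rfl N24285 D25034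
theorem N24997 : nd 24997 = n25035 := ndS (p := 24286) (l := 3) rfl N24286 D25035
theorem N24998 : nd 24998 = n25036 := ndS (p := 24287) (l := 2) rfl N24287 D25036
theorem N24999 : nd 24999 = n25037 := ndS (p := 24289) (l := 4) rfl N24289 D25037
theorem N25000 : nd 25000 = n25038 := ndS (p := 24290) (l := 3) rfl N24290 D25038
theorem N25001 : nd 25001 = n25039 := ndS (p := 24291) (l := 2) rfl N24291 D25039
theorem N25002 : nd 25002 = n25040 := ndS (p := 24292) (l := 1) rfl N24292 D25040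
theorem N25003 : nd 25003 = n25041 := ndS (p := 24292) (l := 3) rfl N24292 D25041
theorem N25004 : nd 25004 = n25042 := ndS (p := 24292) (l := 5) rfl N24292 D25042
theorem N25005 : nd 25005 = n25043 := ndS (p := 24293) (l := 4) rfl N24293 D25043
theorem N25006 : nd 25006 = n25044 := ndS (p := 24294) (l := 3) rfl N24294 D25044
theorem N25007 : nd 25007 = n25045 := ndS (p := 24295) (l := 2) rfl N24295 D25045
theorem N25008 : nd 25008 = n25046 := ndS (p := 24297) (l := 2) rfl N24297 D25046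
theorem N25009 : nd 25009 = n25047 := ndS (p := 24301) (l := 2) rfl N24301 D25047
theorem N25010 : nd 25010 = n25048 := ndS (p := 24302) (l := 1) rfl N24302 D25048
theorem N25011 : nd 25011 = n25049 := ndS (p := 24304) (l := 2) rfl N24304 D25049
theorem N25012 : nd 25012 = n25050 := ndS (p := 24305) (l := 3) rfl N24305 D25050
theorem N25013 : nd 25013 = n25051 := ndS (p := 24305) (l := 5) rfl N24305 D25051
theorem N25014 : nd 25014 = n25052 := ndS (p := 24307) (l := 3) rfl N24307 D25052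
theorem N25015 : nd 25015 = n25053 := ndS (p := 24307) (l := 5) rfl N24307 D25053
theorem N25016 : nd 25016 = n25054 := ndS (p := 24308) (l := 4) rfl N24308 D25054
theorem N25017 : nd 25017 = n25055 := ndS (p := 24310) (l := 3) rfl N24310 D25055
theorem N25018 : nd 25018 = n25056 := ndS (p := 24311) (l := 2) rfl N24311 D25056
theorem N25019 : nd 25019 = n25057 := ndS (p := 24312) (l := 3) rfl N24312 D25057
theorem N25020 : nd 25020 = n25058 := ndS (p := 24319) (l := 4) rfl N24319 D25058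
theorem N25021 : nd 25021 = n25059 := ndS (p := 24321) (l := 2) rfl N24321 D25059
theorem N25022 : nd 25022 = n25060 := ndS (p := 24324) (l := 4) rfl N24324 D25060
theorem N25023 : nd 25023 = n25061 := ndS (p := 24325) (l := 3) rfl N24325 D25061
theorem N25024 : nd 25024 = n25062 := ndS (p := 24325) (l := 5) rfl N24325 D25062
theorem N25025 : nd 25025 = n25063 := ndS (p := 24327) (l := 3) rfl N24327 D25063
theorem N25026 : nd 25026 = n25064 := ndS (p := 24328) (l := 3) rfl N24328 D25064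
theorem N25027 : nd 25027 = n25065 := ndS (p := 24328) (l := 5) rfl N24328 D25065
theorem N25028 : nd 25028 = n25066 := ndS (p := 24329) (l := 2) rfl N24329 D25066
theorem N25029 : nd 25029 = n25067 := ndS (p := 24330) (l := 4) rfl N24330 D25067
theorem N25030 : nd 25030 = n25068 := ndS (p := 24331) (l := 3) rfl N24331 D25068
theorem N25031 : nd 25031 = n25069 := ndS (p := 24331) (l := 5) rfl N24331 D25069
theorem N25032 : nd 25032 = n25070 := ndS (p := 24332) (l := 2) rfl N24332 D25070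
theorem N25033 : nd 25033 = n25071 := ndS (p := 24332) (l := 5) rfl N24332 D25071
theorem N25034 : nd 25034 = n25072 := ndS (p := 24333) (l := 4) rfl N24333 D25072
theorem N25035 : nd 25035 = n25073 := ndS (p := 24335) (l := 1) rfl N24335 D25073
theorem N25036 : nd 25036 = n25074 := ndS (p := 24336) (l := 2) rfl N24336 D25074
theorem N25037 : nd 25037 = n25075 := ndS (p := 24337) (l := 3) rfl N24337 D25075
theorem N25038 : nd 25038 = n25076 := ndS (p := 24338) (l := 1) rfl N24338 D25076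
theorem N25039 : nd 25039 = n25077 := ndS (p := 24339) (l := 4) rfl N24339 D25077
theorem N25040 : nd 25040 = n25078 := ndS (p := 24340) (l := 1) rfl N24340 D25078
theorem N25041 : nd 25041 = n25079 := ndS (p := 24343) (l := 5) rfl N24343 D25079
theorem N25042 : nd 25042 = n25080 := ndS (p := 24345) (l := 2) rfl N24345 D25080
theorem N25043 : nd 25043 = n25081 := ndS (p := 24346) (l := 2) rfl N24346 D25081
theorem N25044 : nd 25044 = n25082 := ndS (p := 24346) (l := 5) rfl N24346 D25082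
theorem N25045 : nd 25045 = n25083 := ndS (p := 24348) (l := 1) rfl N24348 D25083
theorem N25046 : nd 25046 = n25084 := ndS (p := 24348) (l := 3) rfl N24348 D25084
theorem N25047 : nd 25047 = n25085 := ndS (p := 24349) (l := 1) rfl N24349 D25085
theorem N25048 : nd 25048 = n25086 := ndS (p := 24349) (l := 3) rfl N24349 D25086
theorem N25049 : nd 25049 = n25087 := ndS (p := 24349) (l := 5) rfl N24349 D25087
theorem N25050 : nd 25050 = n25088 := ndS (p := 24351) (l := 0) rfl N24351 D25088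
theorem N25051 : nd 25051 = n25089 := ndS (p := 24352) (l := 1) rfl N24352 D25089
theorem N25052 : nd 25052 = n25090 := ndS (p := 24352) (l := 3) rfl N24352 D25090
theorem N25053 : nd 25053 = n25091 := ndS (p := 24353) (l := 2) rfl N24353 D25091
theorem N25054 : nd 25054 = n25092 := ndS (p := 24353) (l := 4) rfl N24353 D25092
theorem N25055 : nd 25055 = n25093 := ndS (p := 24354) (l := 1) rfl N24354 D25093
theorem N25056 : nd 25056 = n25094 := ndS (p := 24355) (l := 1) rfl N24355 D25094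
theorem N25057 : nd 25057 = n25095 := ndS (p := 24355) (l := 3) rfl N24355 D25095
theorem N25058 : nd 25058 = n25096 := ndS (p := 24355) (l := 5) rfl N24355 D25096
theorem N25059 : nd 25059 = n25097 := ndS (p := 24357) (l := 0) rfl N24357 D25097
theorem N25060 : nd 25060 = n25098 := ndS (p := 24360) (l := 4) rfl N24360 D25098
theorem N25061 : nd 25061 = n25099 := ndS (p := 24361) (l := 3) rfl N24361 D25099
theorem N25062 : nd 25062 = n25100 := ndS (p := 24362) (l := 2) rfl N24362 D25100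
theorem N25063 : nd 25063 = n25101 := ndS (p := 24362) (l := 4) rfl N24362 D25101
theorem N25064 : nd 25064 = n25102 := ndS (p := 24363) (l := 5) rfl N24363 D25102
theorem N25065 : nd 25065 = n25103 := ndS (p := 24364) (l := 1) rfl N24364 D25103
theorem N25066 : nd 25066 = n25104 := ndS (p := 24366) (l := 1) rfl N24366 D25104
theorem N25067 : nd 25067 = n25105 := ndS (p := 24368) (l := 3) rfl N24368 D25105
theorem N25068 : nd 25068 = n25106 := ndS (p := 24369) (l := 4) rfl N24369 D25106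
theorem N25069 : nd 25069 = n25107 := ndS (p := 24370) (l := 1) rfl N24370 D25107
theorem N25070 : nd 25070 = n25108 := ndS (p := 24370) (l := 4) rfl N24370 D25108
theorem N25071 : nd 25071 = n25109 := ndS (p := 24371) (l := 5) rfl N24371 D25109
theorem N25072 : nd 25072 = n25110 := ndS (p := 24373) (l := 1) rfl N24373 D25110
theorem N25073 : nd 25073 = n25111 := ndS (p := 24376) (l := 3) rfl N24376 D25111
theorem N25074 : nd 25074 = n25112 := ndS (p := 24377) (l := 4) rfl N24377 D25112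
theorem N25075 : nd 25075 = n25113 := ndS (p := 24380) (l := 4) rfl N24380 D25113
theorem N25076 : nd 25076 = n25114 := ndS (p := 24381) (l := 1) rfl N24381 D25114
theorem N25077 : nd 25077 = n25115 := ndS (p := 24381) (l := 4) rfl N24381 D25115
theorem N25078 : nd 25078 = n25116 := ndS (p := 24383) (l := 1) rfl N24383 D25116
theorem N25079 : nd 25079 = n25117 := ndS (p := 24384) (l := 1) rfl N24384 D25117
theorem N25080 : nd 25080 = n25118 := ndS (p := 24385) (l := 4) rfl N24385 D25118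
theorem N25081 : nd 25081 = n25119 := ndS (p := 24386) (l := 3) rfl N24386 D25119
theorem N25082 : nd 25082 = n25120 := ndS (p := 24387) (l := 4) rfl N24387 D25120
theorem N25083 : nd 25083 = n25121 := ndS (p := 24388) (l := 5) rfl N24388 D25121
theorem N25084 : nd 25084 = n25122 := ndS (p := 24389) (l := 3) rfl N24389 D25122
theorem N25085 : nd 25085 = n25123 := ndS (p := 24391) (l := 3) rfl N24391 D25123
theorem N25086 : nd 25086 = n25124 := ndS (p := 24393) (l := 4) rfl N24393 D25124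
theorem N25087 : nd 25087 = n25125 := ndS (p := 24394) (l := 3) rfl N24394 D25125
theorem N25088 : nd 25088 = n25126 := ndS (p := 24394) (l := 5) rfl N24394 D25126
theorem N25089 : nd 25089 = n25127 := ndS (p := 24395) (l := 2) rfl N24395 D25127
theorem N25090 : nd 25090 = n25128 := ndS (p := 24395) (l := 5) rfl N24395 D25128
theorem N25091 : nd 25091 = n25129 := ndS (p := 24398) (l := 3) rfl N24398 D25129
theorem N25092 : nd 25092 = n25130 := ndS (p := 24399) (l := 3) rfl N24399 D25130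
theorem N25093 : nd 25093 = n25131 := ndS (p := 24400) (l := 2) rfl N24400 D25131
theorem N25094 : nd 25094 = n25132 := ndS (p := 24401) (l := 4) rfl N24401 D25132
theorem N25095 : nd 25095 = n25133 := ndS (p := 24402) (l := 3) rfl N24402 D25133
theorem N25096 : nd 25096 = n25134 := ndS (p := 24403) (l := 2) rfl N24403 D25134
theorem N25097 : nd 25097 = n25135 := ndS (p := 24403) (l := 5) rfl N24403 D25135
theorem N25098 : nd 25098 = n25136 := ndS (p := 24405) (l := 1) rfl N24405 D25136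
theorem N25099 : nd 25099 = n25137 := ndS (p := 24408) (l := 4) rfl N24408 D25137
theorem N25100 : nd 25100 = n25138 := ndS (p := 24409) (l := 4) rfl N24409 D25138
theorem N25101 : nd 25101 = n25139 := ndS (p := 24410) (l := 0) rfl N24410 D25139
theorem N25102 : nd 25102 = n25140 := ndS (p := 24410) (l := 3) rfl N24410 D25140
theorem N25103 : nd 25103 = n25141 := ndS (p := 24411) (l := 4) rfl N24411 D25141
theorem N25104 : nd 25104 = n25142 := ndS (p := 24413) (l := 2) rfl N24413 D25142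
theorem N25105 : nd 25105 = n25143 := ndS (p := 24413) (l := 4) rfl N24413 D25143
theorem N25106 : nd 25106 = n25144 := ndS (p := 24414) (l := 1) rfl N24414 D25144
theorem N25107 : nd 25107 = n25145 := ndS (p := 24414) (l := 4) rfl N24414 D25145
theorem N25108 : nd 25108 = n25146 := ndS (p := 24415) (l := 5) rfl N24415 D25146
theorem N25109 : nd 25109 = n25147 := ndS (p := 24421) (l := 1) rfl N24421 D25147
theorem N25110 : nd 25110 = n25148 := ndS (p := 24421) (l := 3) rfl N24421 D25148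
theorem N25111 : nd 25111 = n25149 := ndS (p := 24421) (l := 5) rfl N24421 D25149
theorem N25112 : nd 25112 = n25150 := ndS (p := 24431) (l := 3) rfl N24431 D25150
theorem N25113 : nd 25113 = n25151 := ndS (p := 24433) (l := 2) rfl N24433 D25151
theorem N25114 : nd 25114 = n25152 := ndS (p := 24434) (l := 1) rfl N24434 D25152
theorem N25115 : nd 25115 = n25153 := ndS (p := 24434) (l := 3) rfl N24434 D25153
theorem N25116 : nd 25116 = n25154 := ndS (p := 24435) (l := 2) rfl N24435 D25154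
theorem N25117 : nd 25117 = n25155 := ndS (p := 24435) (l := 4) rfl N24435 D25155
theorem N25118 : nd 25118 = n25156 := ndS (p := 24436) (l := 3) rfl N24436 D25156
theorem N25119 : nd 25119 = n25157 := ndS (p := 24437) (l := 2) rfl N24437 D25157
theorem N25120 : nd 25120 = n25158 := ndS (p := 24437) (l := 4) rfl N24437 D25158
theorem N25121 : nd 25121 = n25159 := ndS (p := 24438) (l := 5) rfl N24438 D25159
theorem N25122 : nd 25122 = n25160 := ndS (p := 24439) (l := 2) rfl N24439 D25160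
theorem N25123 : nd 25123 = n25161 := ndS (p := 24440) (l := 1) rfl N24440 D25161
theorem N25124 : nd 25124 = n25162 := ndS (p := 24440) (l := 3) rfl N24440 D25162
theorem N25125 : nd 25125 = n25163 := ndS (p := 24440) (l := 5) rfl N24440 D25163
theorem N25126 : nd 25126 = n25164 := ndS (p := 24441) (l := 4) rfl N24441 D25164
theorem N25127 : nd 25127 = n25165 := ndS (p := 24442) (l := 2) rfl N24442 D25165
theorem N25128 : nd 25128 = n25166 := ndS (p := 24443) (l := 2) rfl N24443 D25166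
theorem N25129 : nd 25129 = n25167 := ndS (p := 24444) (l := 1) rfl N24444 D25167
theorem N25130 : nd 25130 = n25168 := ndS (p := 24444) (l := 3) rfl N24444 D25168
theorem N25131 : nd 25131 = n25169 := ndS (p := 24444) (l := 4) rfl N24444 D25169
theorem N25132 : nd 25132 = n25170 := ndS (p := 24445) (l := 5) rfl N24445 D25170
theorem N25133 : nd 25133 = n25171 := ndS (p := 24446) (l := 0) rfl N24446 D25171
theorem N25134 : nd 25134 = n25172 := ndS (p := 24446) (l := 4) rfl N24446 D25172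
theorem N25135 : nd 25135 = n25173 := ndS (p := 24447) (l := 5) rfl N24447 D25173
theorem N25136 : nd 25136 = n25174 := ndS (p := 24449) (l := 3) rfl N24449 D25174
theorem N25137 : nd 25137 = n25175 := ndS (p := 24450) (l := 2) rfl N24450 D25175
theorem N25138 : nd 25138 = n25176 := ndS (p := 24450) (l := 4) rfl N24450 D25176
theorem N25139 : nd 25139 = n25177 := ndS (p := 24451) (l := 1) rfl N24451 D25177
theorem N25140 : nd 25140 = n25178 := ndS (p := 24451) (l := 3) rfl N24451 D25178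
theorem N25141 : nd 25141 = n25179 := ndS (p := 24451) (l := 5) rfl N24451 D25179
theorem N25142 : nd 25142 = n25180 := ndS (p := 24453) (l := 0) rfl N24453 D25180
theorem N25143 : nd 25143 = n25181 := ndS (p := 24453) (l := 3) rfl N24453 D25181
theorem N25144 : nd 25144 = n25182 := ndS (p := 24454) (l := 4) rfl N24454 D25182
theorem N25145 : nd 25145 = n25183 := ndS (p := 24456) (l := 0) rfl N24456 D25183
theorem N25146 : nd 25146 = n25184 := ndS (p := 24459) (l := 1) rfl N24459 D25184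
theorem N25147 : nd 25147 = n25185 := ndS (p := 24460) (l := 4) rfl N24460 D25185
theorem N25148 : nd 25148 = n25186 := ndS (p := 24461) (l := 5) rfl N24461 D25186
theorem N25149 : nd 25149 = n25187 := ndS (p := 24465) (l := 4) rfl N24465 D25187
theorem N25150 : nd 25150 = n25188 := ndS (p := 24467) (l := 3) rfl N24467 D25188
theorem N25151 : nd 25151 = n25189 := ndS (p := 24468) (l := 2) rfl N24468 D25189
theorem N25152 : nd 25152 = n25190 := ndS (p := 24469) (l := 2) rfl N24469 D25190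
theorem N25153 : nd 25153 = n25191 := ndS (p := 24470) (l := 1) rfl N24470 D25191
theorem N25154 : nd 25154 = n25192 := ndS (p := 24470) (l := 3) rfl N24470 D25192
theorem N25155 : nd 25155 = n25193 := ndS (p := 24470) (l := 4) rfl N24470 D25193
theorem N25156 : nd 25156 = n25194 := ndS (p := 24472) (l := 4) rfl N24472 D25194
theorem N25157 : nd 25157 = n25195 := ndS (p := 24475) (l := 1) rfl N24475 D25195
theorem N25158 : nd 25158 = n25196 := ndS (p := 24475) (l := 3) rfl N24475 D25196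
theorem N25159 : nd 25159 = n25197 := ndS (p := 24476) (l := 2) rfl N24476 D25197
theorem N25160 : nd 25160 = n25198 := ndS (p := 24476) (l := 4) rfl N24476 D25198
theorem N25161 : nd 25161 = n25199 := ndS (p := 24478) (l := 2) rfl N24478 D25199
theorem N25162 : nd 25162 = n25200 := ndS (p := 24482) (l := 3) rfl N24482 D25200
theorem N25163 : nd 25163 = n25201 := ndS (p := 24483) (l := 2) rfl N24483 D25201
theorem N25164 : nd 25164 = n25202 := ndS (p := 24483) (l := 4) rfl N24483 D25202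
theorem N25165 : nd 25165 = n25203 := ndS (p := 24486) (l := 1) rfl N24486 D25203
theorem N25166 : nd 25166 = n25204 := ndS (p := 24496) (l := 3) rfl N24496 D25204
theorem N25167 : nd 25167 = n25205 := ndS (p := 24501) (l := 2) rfl N24501 D25205
theorem N25168 : nd 25168 = n25206 := ndS (p := 24502) (l := 1) rfl N24502 D25206
theorem N25169 : nd 25169 = n25207 := ndS (p := 24504) (l := 1) rfl N24504 D25207
theorem N25170 : nd 25170 = n25208 := ndS (p := 24511) (l := 2) rfl N24511 D25208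
theorem N25171 : nd 25171 = n25209 := ndS (p := 24511) (l := 4) rfl N24511 D25209
theorem N25172 : nd 25172 = n25210 := ndS (p := 24512) (l := 4) rfl N24512 D25210
theorem N25173 : nd 25173 = n25211 := ndS (p := 24516) (l := 2) rfl N24516 D25211
theorem N25174 : nd 25174 = n25212 := ndS (p := 24516) (l := 4) rfl N24516 D25212
theorem N25175 : nd 25175 = n25213 := ndS (p := 24518) (l := 2) rfl N24518 D25213
theorem N25176 : nd 25176 = n25214 := ndS (p := 24518) (l := 4) rfl N24518 D25214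
theorem N25177 : nd 25177 = n25215 := ndS (p := 24521) (l := 2) rfl N24521 D25215
theorem N25178 : nd 25178 = n25216 := ndS (p := 24521) (l := 4) rfl N24521 D25216
theorem N25179 : nd 25179 = n25217 := ndS (p := 24523) (l := 3) rfl N24523 D25217
theorem N25180 : nd 25180 = n25218 := ndS (p := 24523) (l := 4) rfl N24523 D25218
theorem N25181 : nd 25181 = n25219 := ndS (p := 24525) (l := 4) rfl N24525 D25219
theorem N25182 : nd 25182 = n25220 := ndS (p := 24528) (l := 2) rfl N24528 D25220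
theorem N25183 : nd 25183 = n25221 := ndS (p := 24528) (l := 4) rfl N24528 D25221
theorem N25184 : nd 25184 = n25222 := ndS (p := 24532) (l := 2) rfl N24532 D25222
theorem N25185 : nd 25185 = n25223 := ndS (p := 24534) (l := 4) rfl N24534 D25223
theorem N25186 : nd 25186 = n25224 := ndS (p := 24535) (l := 1) rfl N24535 D25224
theorem N25187 : nd 25187 = n25225 := ndS (p := 24536) (l := 4) rfl N24536 D25225
theorem N25188 : nd 25188 = n25226 := ndS (p := 24539) (l := 2) rfl N24539 D25226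
theorem N25189 : nd 25189 = n25227 := ndS (p := 24539) (l := 4) rfl N24539 D25227
theorem N25190 : nd 25190 = n25228 := ndS (p := 24542) (l := 3) rfl N24542 D25228
theorem N25191 : nd 25191 = n25229 := ndS (p := 24542) (l := 5) rfl N24542 D25229
theorem N25192 : nd 25192 = n25230 := ndS (p := 24545) (l := 2) rfl N24545 D25230
theorem N25193 : nd 25193 = n25231 := ndS (p := 24549) (l := 3) rfl N24549 D25231
theorem N25194 : nd 25194 = n25232 := ndS (p := 24551) (l := 4) rfl N24551 D25232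
theorem N25195 : nd 25195 = n25233 := ndS (p := 24554) (l := 3) rfl N24554 D25233
theorem N25196 : nd 25196 = n25234 := ndS (p := 24555) (l := 3) rfl N24555 D25234
theorem N25197 : nd 25197 = n25235 := ndS (p := 24556) (l := 2) rfl N24556 D25235
theorem N25198 : nd 25198 = n25236 := ndS (p := 24560) (l := 3) rfl N24560 D25236
theorem N25199 : nd 25199 = n25237 := ndS (p := 24561) (l := 2) rfl N24561 D25237
theorem N25200 : nd 25200 = n25238 := ndS (p := 24566) (l := 1) rfl N24566 D25238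
theorem N25201 : nd 25201 = n25239 := ndS (p := 24569) (l := 1) rfl N24569 D25239
theorem N25202 : nd 25202 = n25240 := ndS (p := 24570) (l := 4) rfl N24570 D25240
theorem N25203 : nd 25203 = n25241 := ndS (p := 24572) (l := 4) rfl N24572 D25241
theorem N25204 : nd 25204 = n25242 := ndS (p := 24573) (l := 4) rfl N24573 D25242
theorem N25205 : nd 25205 = n25243 := ndS (p := 24575) (l := 4) rfl N24575 D25243
theorem N25206 : nd 25206 = n25244 := ndS (p := 24580) (l := 3) rfl N24580 D25244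
theorem N25207 : nd 25207 = n25245 := ndS (p := 24581) (l := 2) rfl N24581 D25245
theorem N25208 : nd 25208 = n25246 := ndS (p := 24582) (l := 1) rfl N24582 D25246
theorem N25209 : nd 25209 = n25247 := ndS (p := 24583) (l := 2) rfl N24583 D25247
theorem N25210 : nd 25210 = n25248 := ndS (p := 24583) (l := 5) rfl N24583 D25248
theorem N25211 : nd 25211 = n25249 := ndS (p := 24585) (l := 4) rfl N24585 D25249
theorem N25212 : nd 25212 = n25250 := ndS (p := 24586) (l := 4) rfl N24586 D25250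
theorem N25213 : nd 25213 = n25251 := ndS (p := 24587) (l := 4) rfl N24587 D25251
theorem N25214 : nd 25214 = n25252 := ndS (p := 24588) (l := 5) rfl N24588 D25252
theorem N25215 : nd 25215 = n25253 := ndS (p := 24589) (l := 4) rfl N24589 D25253
theorem N25216 : nd 25216 = n25254 := ndS (p := 24592) (l := 3) rfl N24592 D25254
theorem N25217 : nd 25217 = n25255 := ndS (p := 24592) (l := 5) rfl N24592 D25255
theorem N25218 : nd 25218 = n25256 := ndS (p := 24598) (l := 2) rfl N24598 D25256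
theorem N25219 : nd 25219 = n25257 := ndS (p := 24599) (l := 3) rfl N24599 D25257
theorem N25220 : nd 25220 = n25258 := ndS (p := 24602) (l := 1) rfl N24602 D25258
theorem N25221 : nd 25221 = n25259 := ndS (p := 24603) (l := 4) rfl N24603 D25259
theorem N25222 : nd 25222 = n25260 := ndS (p := 24604) (l := 1) rfl N24604 D25260
theorem N25223 : nd 25223 = n25261 := ndS (p := 24604) (l := 3) rfl N24604 D25261
theorem N25224 : nd 25224 = n25262 := ndS (p := 24604) (l := 5) rfl N24604 D25262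
theorem N25225 : nd 25225 = n25263 := ndS (p := 24605) (l := 4) rfl N24605 D25263
theorem N25226 : nd 25226 = n25264 := ndS (p := 24606) (l := 0) rfl N24606 D25264
theorem N25227 : nd 25227 = n25265 := ndS (p := 24606) (l := 3) rfl N24606 D25265
theorem N25228 : nd 25228 = n25266 := ndS (p := 24606) (l := 5) rfl N24606 D25266
theorem N25229 : nd 25229 = n25267 := ndS (p := 24608) (l := 4) rfl N24608 D25267
theorem N25230 : nd 25230 = n25268 := ndS (p := 24610) (l := 3) rfl N24610 D25268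
theorem N25231 : nd 25231 = n25269 := ndS (p := 24610) (l := 5) rfl N24610 D25269
theorem N25232 : nd 25232 = n25270 := ndS (p := 24611) (l := 2) rfl N24611 D25270
theorem N25233 : nd 25233 = n25271 := ndS (p := 24618) (l := 2) rfl N24618 D25271
theorem N25234 : nd 25234 = n25272 := ndS (p := 24621) (l := 4) rfl N24621 D25272
theorem N25235 : nd 25235 = n25273 := ndS (p := 24625) (l := 2) rfl N24625 D25273
theorem N25236 : nd 25236 = n25274 := ndS (p := 24626) (l := 1) rfl N24626 D25274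
theorem N25237 : nd 25237 = n25275 := ndS (p := 24628) (l := 2) rfl N24628 D25275
theorem N25238 : nd 25238 = n25276 := ndS (p := 24628) (l := 5) rfl N24628 D25276
theorem N25239 : nd 25239 = n25277 := ndS (p := 24630) (l := 2) rfl N24630 D25277
theorem N25240 : nd 25240 = n25278 := ndS (p := 24630) (l := 5) rfl N24630 D25278
theorem N25241 : nd 25241 = n25279 := ndS (p := 24632) (l := 3) rfl N24632 D25279
theorem N25242 : nd 25242 = n25280 := ndS (p := 24633) (l := 3) rfl N24633 D25280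
theorem N25243 : nd 25243 = n25281 := ndS (p := 24641) (l := 5) rfl N24641 D25281
theorem N25244 : nd 25244 = n25282 := ndS (p := 24658) (l := 2) rfl N24658 D25282
theorem N25245 : nd 25245 = n25283 := ndS (p := 24660) (l := 5) rfl N24660 D25283
theorem N25246 : nd 25246 = n25284 := ndS (p := 24665) (l := 4) rfl N24665 D25284
theorem N25247 : nd 25247 = n25285 := ndS (p := 24667) (l := 5) rfl N24667 D25285
theorem N25248 : nd 25248 = n25286 := ndS (p := 24670) (l := 5) rfl N24670 D25286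
theorem N25249 : nd 25249 = n25287 := ndS (p := 24673) (l := 3) rfl N24673 D25287
theorem N25250 : nd 25250 = n25288 := ndS (p := 24674) (l := 3) rfl N24674 D25288
theorem N25251 : nd 25251 = n25289 := ndS (p := 24678) (l := 0) rfl N24678 D25289
theorem N25252 : nd 25252 = n25290 := ndS (p := 24678) (l := 5) rfl N24678 D25290
theorem N25253 : nd 25253 = n25291 := ndS (p := 24680) (l := 1) rfl N24680 D25291
theorem N25254 : nd 25254 = n25292 := ndS (p := 24686) (l := 4) rfl N24686 D25292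
theorem N25255 : nd 25255 = n25293 := ndS (p := 24688) (l := 4) rfl N24688 D25293
theorem N25256 : nd 25256 = n25294 := ndS (p := 24689) (l := 3) rfl N24689 D25294
theorem N25257 : nd 25257 = n25295 := ndS (p := 24690) (l := 3) rfl N24690 D25295
theorem N25258 : nd 25258 = n25296 := ndS (p := 24695) (l := 1) rfl N24695 D25296
theorem N25259 : nd 25259 = n25297 := ndS (p := 24695) (l := 4) rfl N24695 D25297
theorem N25260 : nd 25260 = n25298 := ndS (p := 24698) (l := 2) rfl N24698 D25298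
theorem N25261 : nd 25261 = n25299 := ndS (p := 24701) (l := 1) rfl N24701 D25299
theorem N25262 : nd 25262 = n25300 := ndS (p := 24702) (l := 1) rfl N24702 D25300
theorem N25263 : nd 25263 = n25301 := ndS (p := 24704) (l := 5) rfl N24704 D25301
theorem N25264 : nd 25264 = n25302 := ndS (p := 24710) (l := 5) rfl N24710 D25302
theorem N25265 : nd 25265 = n25303 := ndS (p := 24713) (l := 3) rfl N24713 D25303
theorem N25266 : nd 25266 = n25304 := ndS (p := 24717) (l := 3) rfl N24717 D25304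
theorem N25267 : nd 25267 = n25305 := ndS (p := 24718) (l := 4) rfl N24718 D25305
theorem N25268 : nd 25268 = n25306 := ndS (p := 24728) (l := 3) rfl N24728 D25306
theorem N25269 : nd 25269 = n25307 := ndS (p := 24730) (l := 3) rfl N24730 D25307
theorem N25270 : nd 25270 = n25308 := ndS (p := 24730) (l := 5) rfl N24730 D25308
theorem N25271 : nd 25271 = n25309 := ndS (p := 24731) (l := 2) rfl N24731 D25309
theorem N25272 : nd 25272 = n25310 := ndS (p := 24731) (l := 4) rfl N24731 D25310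
theorem N25273 : nd 25273 = n25311 := ndS (p := 24731) (l := 5) rfl N24731 D25311
theorem N25274 : nd 25274 = n25312 := ndS (p := 24733) (l := 4) rfl N24733 D25312
theorem N25275 : nd 25275 = n25313 := ndS (p := 24738) (l := 3) rfl N24738 D25313
theorem N25276 : nd 25276 = n25314 := ndS (p := 24739) (l := 2) rfl N24739 D25314
theorem N25277 : nd 25277 = n25315 := ndS (p := 24739) (l := 4) rfl N24739 D25315
theorem N25278 : nd 25278 = n25316 := ndS (p := 24740) (l := 1) rfl N24740 D25316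
theorem N25279 : nd 25279 = n25317 := ndS (p := 24740) (l := 4) rfl N24740 D25317
theorem N25280 : nd 25280 = n25318 := ndS (p := 24742) (l := 4) rfl N24742 D25318
theorem N25281 : nd 25281 = n25319 := ndS (p := 24744) (l := 3) rfl N24744 D25319
theorem N25282 : nd 25282 = n25320 := ndS (p := 24745) (l := 2) rfl N24745 D25320
theorem N25283 : nd 25283 = n25321 := ndS (p := 24746) (l := 1) rfl N24746 D25321
theorem N25284 : nd 25284 = n25322 := ndS (p := 24746) (l := 3) rfl N24746 D25322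
theorem N25285 : nd 25285 = n25323 := ndS (p := 24747) (l := 0) rfl N24747 D25323
theorem N25286 : nd 25286 = n25324 := ndS (p := 24748) (l := 3) rfl N24748 D25324
theorem N25287 : nd 25287 = n25325 := ndS (p := 24749) (l := 2) rfl N24749 D25325
theorem N25288 : nd 25288 = n25326 := ndS (p := 24749) (l := 4) rfl N24749 D25326
theorem N25289 : nd 25289 = n25327 := ndS (p := 24752) (l := 4) rfl N24752 D25327
theorem N25290 : nd 25290 = n25328 := ndS (p := 24753) (l := 4) rfl N24753 D25328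
theorem N25291 : nd 25291 = n25329 := ndS (p := 24755) (l := 4) rfl N24755 D25329
theorem N25292 : nd 25292 = n25330 := ndS (p := 24756) (l := 3) rfl N24756 D25330
theorem N25293 : nd 25293 = n25331 := ndS (p := 24759) (l := 1) rfl N24759 D25331
theorem N25294 : nd 25294 = n25332 := ndS (p := 24762) (l := 4) rfl N24762 D25332
theorem N25295 : nd 25295 = n25333 := ndS (p := 24763) (l := 3) rfl N24763 D25333
theorem N25296 : nd 25296 = n25334 := ndS (p := 24764) (l := 2) rfl N24764 D25334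
theorem N25297 : nd 25297 = n25335 := ndS (p := 24773) (l := 4) rfl N24773 D25335
theorem N25298 : nd 25298 = n25336 := ndS (p := 24776) (l := 5) rfl N24776 D25336
theorem N25299 : nd 25299 = n25337 := ndS (p := 24777) (l := 3) rfl N24777 D25337
theorem N25300 : nd 25300 = n25338 := ndS (p := 24779) (l := 3) rfl N24779 D25338
theorem N25301 : nd 25301 = n25339 := ndS (p := 24780) (l := 2) rfl N24780 D25339
theorem N25302 : nd 25302 = n25340 := ndS (p := 24780) (l := 4) rfl N24780 D25340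
theorem N25303 : nd 25303 = n25341 := ndS (p := 24782) (l := 0) rfl N24782 D25341
theorem N25304 : nd 25304 = n25342 := ndS (p := 24782) (l := 3) rfl N24782 D25342
theorem N25305 : nd 25305 = n25343 := ndS (p := 24783) (l := 4) rfl N24783 D25343
theorem N25306 : nd 25306 = n25344 := ndS (p := 24784) (l := 4) rfl N24784 D25344
theorem N25307 : nd 25307 = n25345 := ndS (p := 24788) (l := 4) rfl N24788 D25345
theorem N25308 : nd 25308 = n25346 := ndS (p := 24790) (l := 1) rfl N24790 D25346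
theorem N25309 : nd 25309 = n25347 := ndS (p := 24790) (l := 4) rfl N24790 D25347
theorem N25310 : nd 25310 = n25348 := ndS (p := 24792) (l := 4) rfl N24792 D25348
theorem N25311 : nd 25311 = n25349 := ndS (p := 24793) (l := 3) rfl N24793 D25349
theorem N25312 : nd 25312 = n25350 := ndS (p := 24795) (l := 3) rfl N24795 D25350
theorem N25313 : nd 25313 = n25351 := ndS (p := 24800) (l := 3) rfl N24800 D25351
theorem N25314 : nd 25314 = n25352 := ndS (p := 24801) (l := 2) rfl N24801 D25352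
theorem N25315 : nd 25315 = n25353 := ndS (p := 24801) (l := 5) rfl N24801 D25353
theorem N25316 : nd 25316 = n25354 := ndS (p := 24804) (l := 2) rfl N24804 D25354
theorem N25317 : nd 25317 = n25355 := ndS (p := 24804) (l := 4) rfl N24804 D25355
theorem N25318 : nd 25318 = n25356 := ndS (p := 24804) (l := 5) rfl N24804 D25356
theorem N25319 : nd 25319 = n25357 := ndS (p := 24806) (l := 4) rfl N24806 D25357
theorem N25320 : nd 25320 = n25358 := ndS (p := 24807) (l := 5) rfl N24807 D25358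
theorem N25321 : nd 25321 = n25359 := ndS (p := 24808) (l := 4) rfl N24808 D25359
theorem N25322 : nd 25322 = n25360 := ndS (p := 24812) (l := 5) rfl N24812 D25360
theorem N25323 : nd 25323 = n25361 := ndS (p := 24815) (l := 5) rfl N24815 D25361
theorem N25324 : nd 25324 = n25362 := ndS (p := 24817) (l := 4) rfl N24817 D25362
theorem N25325 : nd 25325 = n25363 := ndS (p := 24820) (l := 5) rfl N24820 D25363
theorem N25326 : nd 25326 = n25364 := ndS (p := 24824) (l := 4) rfl N24824 D25364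
theorem N25327 : nd 25327 = n25365 := ndS (p := 24831) (l := 1) rfl N24831 D25365
theorem N25328 : nd 25328 = n25366 := ndS (p := 24836) (l := 2) rfl N24836 D25366
theorem N25329 : nd 25329 = n25367 := ndS (p := 24841) (l := 0) rfl N24841 D25367
theorem N25330 : nd 25330 = n25368 := ndS (p := 24842) (l := 4) rfl N24842 D25368
theorem N25331 : nd 25331 = n25369 := ndS (p := 24845) (l := 3) rfl N24845 D25369
theorem N25332 : nd 25332 = n25370 := ndS (p := 24846) (l := 2) rfl N24846 D25370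
theorem N25333 : nd 25333 = n25371 := ndS (p := 24848) (l := 1) rfl N24848 D25371
theorem N25334 : nd 25334 = n25372 := ndS (p := 24849) (l := 0) rfl N24849 D25372
theorem N25335 : nd 25335 = n25373 := ndS (p := 24852) (l := 3) rfl N24852 D25373
theorem N25336 : nd 25336 = n25374 := ndS (p := 24857) (l := 2) rfl N24857 D25374
theorem N25337 : nd 25337 = n25375 := ndS (p := 24858) (l := 0) rfl N24858 D25375
theorem N25338 : nd 25338 = n25376 := ndS (p := 24862) (l := 2) rfl N24862 D25376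
theorem N25339 : nd 25339 = n25377 := ndS (p := 24863) (l := 1) rfl N24863 D25377
theorem N25340 : nd 25340 = n25378 := ndS (p := 24864) (l := 0) rfl N24864 D25378
theorem N25341 : nd 25341 = n25379 := ndS (p := 24865) (l := 1) rfl N24865 D25379
theorem N25342 : nd 25342 = n25380 := ndS (p := 24865) (l := 3) rfl N24865 D25380
theorem N25343 : nd 25343 = n25381 := ndS (p := 24866) (l := 2) rfl N24866 D25381
theorem N25344 : nd 25344 = n25382 := ndS (p := 24868) (l := 1) rfl N24868 D25382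
theorem N25345 : nd 25345 = n25383 := ndS (p := 24869) (l := 4) rfl N24869 D25383
theorem N25346 : nd 25346 = n25384 := ndS (p := 24870) (l := 5) rfl N24870 D25384
theorem N25347 : nd 25347 = n25385 := ndS (p := 24871) (l := 4) rfl N24871 D25385
theorem N25348 : nd 25348 = n25386 := ndS (p := 24876) (l := 2) rfl N24876 D25386
theorem N25349 : nd 25349 = n25387 := ndS (p := 24880) (l := 4) rfl N24880 D25387
theorem N25350 : nd 25350 = n25388 := ndS (p := 24882) (l := 1) rfl N24882 D25388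
theorem N25351 : nd 25351 = n25389 := ndS (p := 24883) (l := 4) rfl N24883 D25389
theorem N25352 : nd 25352 = n25390 := ndS (p := 24885) (l := 4) rfl N24885 D25390
theorem N25353 : nd 25353 = n25391 := ndS (p := 24886) (l := 4) rfl N24886 D25391
theorem N25354 : nd 25354 = n25392 := ndS (p := 24891) (l := 2) rfl N24891 D25392
theorem N25355 : nd 25355 = n25393 := ndS (p := 24892) (l := 3) rfl N24892 D25393
theorem N25356 : nd 25356 = n25394 := ndS (p := 24893) (l := 2) rfl N24893 D25394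
theorem N25357 : nd 25357 = n25395 := ndS (p := 24896) (l := 2) rfl N24896 D25395
theorem N25358 : nd 25358 = n25396 := ndS (p := 24898) (l := 2) rfl N24898 D25396
theorem N25359 : nd 25359 = n25397 := ndS (p := 24899) (l := 2) rfl N24899 D25397
theorem N25360 : nd 25360 = n25398 := ndS (p := 24899) (l := 5) rfl N24899 D25398
theorem N25361 : nd 25361 = n25399 := ndS (p := 24901) (l := 1) rfl N24901 D25399
theorem N25362 : nd 25362 = n25400 := ndS (p := 24901) (l := 5) rfl N24901 D25400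
theorem N25363 : nd 25363 = n25401 := ndS (p := 24902) (l := 4) rfl N24902 D25401
theorem N25364 : nd 25364 = n25402 := ndS (p := 24904) (l := 2) rfl N24904 D25402
theorem N25365 : nd 25365 = n25403 := ndS (p := 24906) (l := 2) rfl N24906 D25403
theorem N25366 : nd 25366 = n25404 := ndS (p := 24906) (l := 5) rfl N24906 D25404
theorem N25367 : nd 25367 = n25405 := ndS (p := 24908) (l := 1) rfl N24908 D25405
theorem N25368 : nd 25368 = n25406 := ndS (p := 24908) (l := 5) rfl N24908 D25406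
theorem N25369 : nd 25369 = n25407 := ndS (p := 24909) (l := 4) rfl N24909 D25407
theorem N25370 : nd 25370 = n25408 := ndS (p := 24910) (l := 3) rfl N24910 D25408
theorem N25371 : nd 25371 = n25409 := ndS (p := 24913) (l := 2) rfl N24913 D25409
theorem N25372 : nd 25372 = n25410 := ndS (p := 24915) (l := 1) rfl N24915 D25410
theorem N25373 : nd 25373 = n25411 := ndS (p := 24916) (l := 2) rfl N24916 D25411
theorem N25374 : nd 25374 = n25412 := ndS (p := 24916) (l := 5) rfl N24916 D25412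
theorem N25375 : nd 25375 = n25413 := ndS (p := 24918) (l := 3) rfl N24918 D25413
theorem N25376 : nd 25376 = n25414 := ndS (p := 24919) (l := 4) rfl N24919 D25414
theorem N25377 : nd 25377 = n25415 := ndS (p := 24920) (l := 0) rfl N24920 D25415
theorem N25378 : nd 25378 = n25416 := ndS (p := 24925) (l := 1) rfl N24925 D25416
theorem N25379 : nd 25379 = n25417 := ndS (p := 24925) (l := 3) rfl N24925 D25417
theorem N25380 : nd 25380 = n25418 := ndS (p := 24926) (l := 1) rfl N24926 D25418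
theorem N25381 : nd 25381 = n25419 := ndS (p := 24926) (l := 5) rfl N24926 D25419
theorem N25382 : nd 25382 = n25420 := ndS (p := 24927) (l := 4) rfl N24927 D25420
theorem N25383 : nd 25383 = n25421 := ndS (p := 24930) (l := 2) rfl N24930 D25421
theorem N25384 : nd 25384 = n25422 := ndS (p := 24931) (l := 1) rfl N24931 D25422
theorem N25385 : nd 25385 = n25423 := ndS (p := 24931) (l := 3) rfl N24931 D25423
theorem N25386 : nd 25386 = n25424 := ndS (p := 24931) (l := 5) rfl N24931 D25424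
theorem N25387 : nd 25387 = n25425 := ndS (p := 24932) (l := 4) rfl N24932 D25425
theorem N25388 : nd 25388 = n25426 := ndS (p := 24933) (l := 1) rfl N24933 D25426
theorem N25389 : nd 25389 = n25427 := ndS (p := 24936) (l := 5) rfl N24936 D25427
theorem N25390 : nd 25390 = n25428 := ndS (p := 24938) (l := 2) rfl N24938 D25428
theorem N25391 : nd 25391 = n25429 := ndS (p := 24938) (l := 5) rfl N24938 D25429
theorem N25392 : nd 25392 = n25430 := ndS (p := 24940) (l := 3) rfl N24940 D25430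
theorem N25393 : nd 25393 = n25431 := ndS (p := 24940) (l := 5) rfl N24940 D25431
theorem N25394 : nd 25394 = n25432 := ndS (p := 24942) (l := 4) rfl N24942 D25432
theorem N25395 : nd 25395 = n25433 := ndS (p := 24944) (l := 1) rfl N24944 D25433
theorem N25396 : nd 25396 = n25434 := ndS (p := 24944) (l := 5) rfl N24944 D25434
theorem N25397 : nd 25397 = n25435 := ndS (p := 24945) (l := 4) rfl N24945 D25435
theorem N25398 : nd 25398 = n25436 := ndS (p := 24947) (l := 4) rfl N24947 D25436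
theorem N25399 : nd 25399 = n25437 := ndS (p := 24949) (l := 3) rfl N24949 D25437
theorem N25400 : nd 25400 = n25438 := ndS (p := 24950) (l := 3) rfl N24950 D25438
theorem N25401 : nd 25401 = n25439 := ndS (p := 24951) (l := 2) rfl N24951 D25439
theorem N25402 : nd 25402 = n25440 := ndS (p := 24952) (l := 2) rfl N24952 D25440
theorem N25403 : nd 25403 = n25441 := ndS (p := 24952) (l := 5) rfl N24952 D25441
theorem N25404 : nd 25404 = n25442 := ndS (p := 24954) (l := 1) rfl N24954 D25442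
theorem N25405 : nd 25405 = n25443 := ndS (p := 24955) (l := 2) rfl N24955 D25443
theorem N25406 : nd 25406 = n25444 := ndS (p := 24955) (l := 5) rfl N24955 D25444
theorem N25407 : nd 25407 = n25445 := ndS (p := 24957) (l := 1) rfl N24957 D25445
theorem N25408 : nd 25408 = n25446 := ndS (p := 24957) (l := 3) rfl N24957 D25446
theorem N25409 : nd 25409 = n25447 := ndS (p := 24957) (l := 5) rfl N24957 D25447
theorem N25410 : nd 25410 = n25448 := ndS (p := 24959) (l := 0) rfl N24959 D25448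
theorem N25411 : nd 25411 = n25449 := ndS (p := 24959) (l := 3) rfl N24959 D25449
theorem N25412 : nd 25412 = n25450 := ndS (p := 24960) (l := 4) rfl N24960 D25450
theorem N25413 : nd 25413 = n25451 := ndS (p := 24966) (l := 4) rfl N24966 D25451
theorem N25414 : nd 25414 = n25452 := ndS (p := 24967) (l := 1) rfl N24967 D25452
theorem N25415 : nd 25415 = n25453 := ndS (p := 24968) (l := 4) rfl N24968 D25453
theorem N25416 : nd 25416 = n25454 := ndS (p := 24969) (l := 1) rfl N24969 D25454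
theorem N25417 : nd 25417 = n25455 := ndS (p := 24969) (l := 5) rfl N24969 D25455
theorem N25418 : nd 25418 = n25456 := ndS (p := 24970) (l := 4) rfl N24970 D25456
theorem N25419 : nd 25419 = n25457 := ndS (p := 24972) (l := 4) rfl N24972 D25457
theorem N25420 : nd 25420 = n25458 := ndS (p := 24974) (l := 3) rfl N24974 D25458
theorem N25421 : nd 25421 = n25459 := ndS (p := 24976) (l := 4) rfl N24976 D25459
theorem N25422 : nd 25422 = n25460 := ndS (p := 24977) (l := 1) rfl N24977 D25460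
theorem N25423 : nd 25423 = n25461 := ndS (p := 24978) (l := 4) rfl N24978 D25461
theorem N25424 : nd 25424 = n25462 := ndS (p := 24981) (l := 0) rfl N24981 D25462
theorem N25425 : nd 25425 = n25463 := ndS (p := 24985) (l := 1) rfl N24985 D25463
theorem N25426 : nd 25426 = n25464 := ndS (p := 24987) (l := 1) rfl N24987 D25464
theorem N25427 : nd 25427 = n25465 := ndS (p := 24987) (l := 3) rfl N24987 D25465
theorem N25428 : nd 25428 = n25466 := ndS (p := 24987) (l := 5) rfl N24987 D25466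
theorem N25429 : nd 25429 = n25467 := ndS (p := 24988) (l := 4) rfl N24988 D25467
theorem N25430 : nd 25430 = n25468 := ndS (p := 24990) (l := 4) rfl N24990 D25468
theorem N25431 : nd 25431 = n25469 := ndS (p := 24991) (l := 4) rfl N24991 D25469
theorem N25432 : nd 25432 = n25470 := ndS (p := 24995) (l := 2) rfl N24995 D25470
theorem N25433 : nd 25433 = n25471 := ndS (p := 24996) (l := 1) rfl N24996 D25471
theorem N25434 : nd 25434 = n25472 := ndS (p := 24997) (l := 2) rfl N24997 D25472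
theorem N25435 : nd 25435 = n25473 := ndS (p := 24998) (l := 3) rfl N24998 D25473
theorem N25436 : nd 25436 = n25474 := ndS (p := 25000) (l := 2) rfl N25000 D25474
theorem N25437 : nd 25437 = n25475 := ndS (p := 25002) (l := 0) rfl N25002 D25475
theorem N25438 : nd 25438 = n25476 := ndS (p := 25002) (l := 3) rfl N25002 D25476
theorem N25439 : nd 25439 = n25477 := ndS (p := 25002) (l := 5) rfl N25002 D25477
theorem N25440 : nd 25440 = n25478 := ndS (p := 25004) (l := 4) rfl N25004 D25478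
theorem N25441 : nd 25441 = n25479 := ndS (p := 25006) (l := 2) rfl N25006 D25479
theorem N25442 : nd 25442 = n25480 := ndS (p := 25007) (l := 1) rfl N25007 D25480
theorem N25443 : nd 25443 = n25481 := ndS (p := 25008) (l := 3) rfl N25008 D25481
theorem N25444 : nd 25444 = n25482 := ndS (p := 25009) (l := 3) rfl N25009 D25482
theorem N25445 : nd 25445 = n25483 := ndS (p := 25012) (l := 2) rfl N25012 D25483
theorem N25446 : nd 25446 = n25484 := ndS (p := 25012) (l := 4) rfl N25012 D25484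
theorem N25447 : nd 25447 = n25485 := ndS (p := 25014) (l := 4) rfl N25014 D25485
theorem N25448 : nd 25448 = n25486 := ndS (p := 25019) (l := 2) rfl N25019 D25486
theorem N25449 : nd 25449 = n25487 := ndS (p := 25021) (l := 1) rfl N25021 D25487
theorem N25450 : nd 25450 = n25488 := ndS (p := 25022) (l := 5) rfl N25022 D25488
theorem N25451 : nd 25451 = n25489 := ndS (p := 25023) (l := 5) rfl N25023 D25489
theorem N25452 : nd 25452 = n25490 := ndS (p := 25025) (l := 2) rfl N25025 D25490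
theorem N25453 : nd 25453 = n25491 := ndS (p := 25026) (l := 2) rfl N25026 D25491
theorem N25454 : nd 25454 = n25492 := ndS (p := 25026) (l := 5) rfl N25026 D25492
theorem N25455 : nd 25455 = n25493 := ndS (p := 25028) (l := 1) rfl N25028 D25493
theorem N25456 : nd 25456 = n25494 := ndS (p := 25028) (l := 3) rfl N25028 D25494
theorem N25457 : nd 25457 = n25495 := ndS (p := 25029) (l := 5) rfl N25029 D25495
theorem N25458 : nd 25458 = n25496 := ndS (p := 25030) (l := 5) rfl N25030 D25496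
theorem N25459 : nd 25459 = n25497 := ndS (p := 25032) (l := 1) rfl N25032 D25497
theorem N25460 : nd 25460 = n25498 := ndS (p := 25032) (l := 3) rfl N25032 D25498
theorem N25461 : nd 25461 = n25499 := ndS (p := 25032) (l := 5) rfl N25032 D25499
theorem N25462 : nd 25462 = n25500 := ndS (p := 25035) (l := 0) rfl N25035 D25500
theorem N25463 : nd 25463 = n25501 := ndS (p := 25036) (l := 1) rfl N25036 D25501
theorem N25464 : nd 25464 = n25502 := ndS (p := 25036) (l := 3) rfl N25036 D25502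
theorem N25465 : nd 25465 = n25503 := ndS (p := 25037) (l := 2) rfl N25037 D25503
theorem N25466 : nd 25466 = n25504 := ndS (p := 25039) (l := 5) rfl N25039 D25504
theorem N25467 : nd 25467 = n25505 := ndS (p := 25042) (l := 1) rfl N25042 D25505
theorem N25468 : nd 25468 = n25506 := ndS (p := 25043) (l := 1) rfl N25043 D25506
theorem N25469 : nd 25469 = n25507 := ndS (p := 25043) (l := 5) rfl N25043 D25507
theorem N25470 : nd 25470 = n25508 := ndS (p := 25045) (l := 0) rfl N25045 D25508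
theorem N25471 : nd 25471 = n25509 := ndS (p := 25045) (l := 3) rfl N25045 D25509
theorem N25472 : nd 25472 = n25510 := ndS (p := 25046) (l := 4) rfl N25046 D25510
theorem N25473 : nd 25473 = n25511 := ndS (p := 25047) (l := 0) rfl N25047 D25511
theorem N25474 : nd 25474 = n25512 := ndS (p := 25047) (l := 5) rfl N25047 D25512
theorem N25475 : nd 25475 = n25513 := ndS (p := 25048) (l := 2) rfl N25048 D25513
theorem N25476 : nd 25476 = n25514 := ndS (p := 25048) (l := 5) rfl N25048 D25514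
theorem N25477 : nd 25477 = n25515 := ndS (p := 25051) (l := 3) rfl N25051 D25515
theorem N25478 : nd 25478 = n25516 := ndS (p := 25052) (l := 4) rfl N25052 D25516
theorem N25479 : nd 25479 = n25517 := ndS (p := 25053) (l := 1) rfl N25053 D25517
theorem N25480 : nd 25480 = n25518 := ndS (p := 25053) (l := 4) rfl N25053 D25518
theorem N25481 : nd 25481 = n25519 := ndS (p := 25054) (l := 5) rfl N25054 D25519
theorem N25482 : nd 25482 = n25520 := ndS (p := 25055) (l := 0) rfl N25055 D25520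
theorem N25483 : nd 25483 = n25521 := ndS (p := 25056) (l := 0) rfl N25056 D25521
theorem N25484 : nd 25484 = n25522 := ndS (p := 25056) (l := 3) rfl N25056 D25522
theorem N25485 : nd 25485 = n25523 := ndS (p := 25060) (l := 5) rfl N25060 D25523
theorem N25486 : nd 25486 = n25524 := ndS (p := 25061) (l := 4) rfl N25061 D25524
theorem N25487 : nd 25487 = n25525 := ndS (p := 25062) (l := 4) rfl N25062 D25525
theorem N25488 : nd 25488 = n25526 := ndS (p := 25063) (l := 5) rfl N25063 D25526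
theorem N25489 : nd 25489 = n25527 := ndS (p := 25067) (l := 2) rfl N25067 D25527
theorem N25490 : nd 25490 = n25528 := ndS (p := 25067) (l := 4) rfl N25067 D25528
theorem N25491 : nd 25491 = n25529 := ndS (p := 25068) (l := 5) rfl N25068 D25529
theorem N25492 : nd 25492 = n25530 := ndS (p := 25069) (l := 4) rfl N25069 D25530
theorem N25493 : nd 25493 = n25531 := ndS (p := 25070) (l := 3) rfl N25070 D25531
theorem N25494 : nd 25494 = n25532 := ndS (p := 25073) (l := 2) rfl N25073 D25532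
theorem N25495 : nd 25495 = n25533 := ndS (p := 25073) (l := 4) rfl N25073 D25533
theorem N25496 : nd 25496 = n25534 := ndS (p := 25077) (l := 3) rfl N25077 D25534
theorem N25497 : nd 25497 = n25535 := ndS (p := 25080) (l := 5) rfl N25080 D25535
theorem N25498 : nd 25498 = n25536 := ndS (p := 25081) (l := 4) rfl N25081 D25536
theorem N25499 : nd 25499 = n25537 := ndS (p := 25084) (l := 2) rfl N25084 D25537
theorem N25500 : nd 25500 = n25538 := ndS (p := 25085) (l := 2) rfl N25085 D25538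
theorem N25501 : nd 25501 = n25539 := ndS (p := 25086) (l := 5) rfl N25086 D25539
theorem N25502 : nd 25502 = n25540 := ndS (p := 25087) (l := 2) rfl N25087 D25540
theorem N25503 : nd 25503 = n25541 := ndS (p := 25087) (l := 5) rfl N25087 D25541
theorem N25504 : nd 25504 = n25542 := ndS (p := 25092) (l := 2) rfl N25092 D25542
theorem N25505 : nd 25505 = n25543 := ndS (p := 25093) (l := 1) rfl N25093 D25543
theorem N25506 : nd 25506 = n25544 := ndS (p := 25095) (l := 2) rfl N25095 D25544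
theorem N25507 : nd 25507 = n25545 := ndS (p := 25096) (l := 1) rfl N25096 D25545
theorem N25508 : nd 25508 = n25546 := ndS (p := 25096) (l := 3) rfl N25096 D25546
theorem N25509 : nd 25509 = n25547 := ndS (p := 25096) (l := 5) rfl N25096 D25547
theorem N25510 : nd 25510 = n25548 := ndS (p := 25098) (l := 0) rfl N25098 D25548
theorem N25511 : nd 25511 = n25549 := ndS (p := 25102) (l := 4) rfl N25102 D25549
theorem N25512 : nd 25512 = n25550 := ndS (p := 25103) (l := 5) rfl N25103 D25550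
theorem N25513 : nd 25513 = n25551 := ndS (p := 25104) (l := 1) rfl N25104 D25551
theorem N25514 : nd 25514 = n25552 := ndS (p := 25106) (l := 4) rfl N25106 D25552
theorem N25515 : nd 25515 = n25553 := ndS (p := 25107) (l := 3) rfl N25107 D25553
theorem N25516 : nd 25516 = n25554 := ndS (p := 25107) (l := 5) rfl N25107 D25554
theorem N25517 : nd 25517 = n25555 := ndS (p := 25110) (l := 4) rfl N25110 D25555
theorem N25518 : nd 25518 = n25556 := ndS (p := 25112) (l := 2) rfl N25112 D25556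
theorem N25519 : nd 25519 = n25557 := ndS (p := 25113) (l := 1) rfl N25113 D25557
theorem N25520 : nd 25520 = n25558 := ndS (p := 25114) (l := 0) rfl N25114 D25558
theorem N25521 : nd 25521 = n25559 := ndS (p := 25114) (l := 3) rfl N25114 D25559
theorem N25522 : nd 25522 = n25560 := ndS (p := 25116) (l := 4) rfl N25116 D25560
theorem N25523 : nd 25523 = n25561 := ndS (p := 25117) (l := 5) rfl N25117 D25561
theorem N25524 : nd 25524 = n25562 := ndS (p := 25118) (l := 2) rfl N25118 D25562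
theorem N25525 : nd 25525 = n25563 := ndS (p := 25118) (l := 4) rfl N25118 D25563
theorem N25526 : nd 25526 = n25564 := ndS (p := 25119) (l := 3) rfl N25119 D25564
theorem N25527 : nd 25527 = n25565 := ndS (p := 25119) (l := 4) rfl N25119 D25565
theorem N25528 : nd 25528 = n25566 := ndS (p := 25120) (l := 5) rfl N25120 D25566
theorem N25529 : nd 25529 = n25567 := ndS (p := 25123) (l := 0) rfl N25123 D25567
theorem N25530 : nd 25530 = n25568 := ndS (p := 25123) (l := 5) rfl N25123 D25568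
theorem N25531 : nd 25531 = n25569 := ndS (p := 25125) (l := 4) rfl N25125 D25569
theorem N25532 : nd 25532 = n25570 := ndS (p := 25127) (l := 1) rfl N25127 D25570
theorem N25533 : nd 25533 = n25571 := ndS (p := 25128) (l := 1) rfl N25128 D25571
theorem N25534 : nd 25534 = n25572 := ndS (p := 25129) (l := 0) rfl N25129 D25572
theorem N25535 : nd 25535 = n25573 := ndS (p := 25129) (l := 3) rfl N25129 D25573
theorem N25536 : nd 25536 = n25574 := ndS (p := 25129) (l := 4) rfl N25129 D25574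
theorem N25537 : nd 25537 = n25575 := ndS (p := 25131) (l := 5) rfl N25131 D25575
theorem N25538 : nd 25538 = n25576 := ndS (p := 25133) (l := 4) rfl N25133 D25576
theorem N25539 : nd 25539 = n25577 := ndS (p := 25134) (l := 5) rfl N25134 D25577
theorem N25540 : nd 25540 = n25578 := ndS (p := 25136) (l := 4) rfl N25136 D25578
theorem N25541 : nd 25541 = n25579 := ndS (p := 25137) (l := 1) rfl N25137 D25579
theorem N25542 : nd 25542 = n25580 := ndS (p := 25137) (l := 4) rfl N25137 D25580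
theorem N25543 : nd 25543 = n25581 := ndS (p := 25139) (l := 3) rfl N25139 D25581
theorem N25544 : nd 25544 = n25582 := ndS (p := 25140) (l := 4) rfl N25140 D25582
theorem N25545 : nd 25545 = n25583 := ndS (p := 25143) (l := 4) rfl N25143 D25583
theorem N25546 : nd 25546 = n25584 := ndS (p := 25144) (l := 5) rfl N25144 D25584
theorem N25547 : nd 25547 = n25585 := ndS (p := 25150) (l := 2) rfl N25150 D25585
theorem N25548 : nd 25548 = n25586 := ndS (p := 25151) (l := 3) rfl N25151 D25586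
theorem N25549 : nd 25549 = n25587 := ndS (p := 25152) (l := 1) rfl N25152 D25587
theorem N25550 : nd 25550 = n25588 := ndS (p := 25153) (l := 3) rfl N25153 D25588
theorem N25551 : nd 25551 = n25589 := ndS (p := 25153) (l := 4) rfl N25153 D25589
theorem N25552 : nd 25552 = n25590 := ndS (p := 25157) (l := 3) rfl N25157 D25590
theorem N25553 : nd 25553 = n25591 := ndS (p := 25158) (l := 4) rfl N25158 D25591
theorem N25554 : nd 25554 = n25592 := ndS (p := 25159) (l := 4) rfl N25159 D25592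
theorem N25555 : nd 25555 = n25593 := ndS (p := 25162) (l := 2) rfl N25162 D25593
theorem N25556 : nd 25556 = n25594 := ndS (p := 25170) (l := 3) rfl N25170 D25594
theorem N25557 : nd 25557 = n25595 := ndS (p := 25177) (l := 1) rfl N25177 D25595
theorem N25558 : nd 25558 = n25596 := ndS (p := 25177) (l := 4) rfl N25177 D25596
theorem N25559 : nd 25559 = n25597 := ndS (p := 25179) (l := 4) rfl N25179 D25597
theorem N25560 : nd 25560 = n25598 := ndS (p := 25180) (l := 3) rfl N25180 D25598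
theorem N25561 : nd 25561 = n25599 := ndS (p := 25182) (l := 4) rfl N25182 D25599
theorem N25562 : nd 25562 = n25600 := ndS (p := 25188) (l := 1) rfl N25188 D25600
theorem N25563 : nd 25563 = n25601 := ndS (p := 25188) (l := 4) rfl N25188 D25601
theorem N25564 : nd 25564 = n25602 := ndS (p := 25194) (l := 3) rfl N25194 D25602
theorem N25565 : nd 25565 = n25603 := ndS (p := 25195) (l := 2) rfl N25195 D25603
theorem N25566 : nd 25566 = n25604 := ndS (p := 25196) (l := 2) rfl N25196 D25604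
theorem N25567 : nd 25567 = n25605 := ndS (p := 25197) (l := 3) rfl N25197 D25605
theorem N25568 : nd 25568 = n25606 := ndS (p := 25199) (l := 1) rfl N25199 D25606
theorem N25569 : nd 25569 = n25607 := ndS (p := 25206) (l := 2) rfl N25206 D25607
theorem N25570 : nd 25570 = n25608 := ndS (p := 25209) (l := 5) rfl N25209 D25608
theorem N25571 : nd 25571 = n25609 := ndS (p := 25210) (l := 4) rfl N25210 D25609
theorem N25572 : nd 25572 = n25610 := ndS (p := 25214) (l := 4) rfl N25214 D25610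
theorem N25573 : nd 25573 = n25611 := ndS (p := 25215) (l := 3) rfl N25215 D25611
theorem N25574 : nd 25574 = n25612 := ndS (p := 25216) (l := 2) rfl N25216 D25612
theorem N25575 : nd 25575 = n25613 := ndS (p := 25216) (l := 4) rfl N25216 D25613
theorem N25576 : nd 25576 = n25614 := ndS (p := 25216) (l := 5) rfl N25216 D25614
theorem N25577 : nd 25577 = n25615 := ndS (p := 25224) (l := 4) rfl N25224 D25615
theorem N25578 : nd 25578 = n25616 := ndS (p := 25228) (l := 4) rfl N25228 D25616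
theorem N25579 : nd 25579 = n25617 := ndS (p := 25229) (l := 3) rfl N25229 D25617
theorem N25580 : nd 25580 = n25618 := ndS (p := 25234) (l := 3) rfl N25234 D25618
theorem N25581 : nd 25581 = n25619 := ndS (p := 25237) (l := 1) rfl N25237 D25619
theorem N25582 : nd 25582 = n25620 := ndS (p := 25237) (l := 5) rfl N25237 D25620
theorem N25583 : nd 25583 = n25621 := ndS (p := 25239) (l := 1) rfl N25239 D25621
theorem N25584 : nd 25584 = n25622 := ndS (p := 25239) (l := 5) rfl N25239 D25622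
theorem N25585 : nd 25585 = n25623 := ndS (p := 25240) (l := 4) rfl N25240 D25623
theorem N25586 : nd 25586 = n25624 := ndS (p := 25246) (l := 5) rfl N25246 D25624
theorem N25587 : nd 25587 = n25625 := ndS (p := 25255) (l := 3) rfl N25255 D25625
theorem N25588 : nd 25588 = n25626 := ndS (p := 25258) (l := 4) rfl N25258 D25626
theorem N25589 : nd 25589 = n25627 := ndS (p := 25266) (l := 4) rfl N25266 D25627
theorem N25590 : nd 25590 = n25628 := ndS (p := 25269) (l := 2) rfl N25269 D25628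
theorem N25591 : nd 25591 = n25629 := ndS (p := 25269) (l := 4) rfl N25269 D25629
theorem N25592 : nd 25592 = n25630 := ndS (p := 25271) (l := 1) rfl N25271 D25630
theorem N25593 : nd 25593 = n25631 := ndS (p := 25271) (l := 4) rfl N25271 D25631
theorem N25594 : nd 25594 = n25632 := ndS (p := 25275) (l := 4) rfl N25275 D25632
theorem N25595 : nd 25595 = n25633 := ndS (p := 25276) (l := 4) rfl N25276 D25633
theorem N25596 : nd 25596 = n25634 := ndS (p := 25278) (l := 4) rfl N25278 D25634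
theorem N25597 : nd 25597 = n25635 := ndS (p := 25279) (l := 3) rfl N25279 D25635
theorem N25598 : nd 25598 = n25636 := ndS (p := 25281) (l := 2) rfl N25281 D25636
theorem N25599 : nd 25599 = n25637 := ndS (p := 25283) (l := 0) rfl N25283 D25637
theorem N25600 : nd 25600 = n25638 := ndS (p := 25283) (l := 3) rfl N25283 D25638
theorem N25601 : nd 25601 = n25639 := ndS (p := 25287) (l := 4) rfl N25287 D25639
theorem N25602 : nd 25602 = n25640 := ndS (p := 25291) (l := 3) rfl N25291 D25640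
theorem N25603 : nd 25603 = n25641 := ndS (p := 25294) (l := 3) rfl N25294 D25641
theorem N25604 : nd 25604 = n25642 := ndS (p := 25295) (l := 2) rfl N25295 D25642
theorem N25605 : nd 25605 = n25643 := ndS (p := 25296) (l := 1) rfl N25296 D25643
theorem N25606 : nd 25606 = n25644 := ndS (p := 25300) (l := 4) rfl N25300 D25644
theorem N25607 : nd 25607 = n25645 := ndS (p := 25301) (l := 4) rfl N25301 D25645
theorem N25608 : nd 25608 = n25646 := ndS (p := 25304) (l := 4) rfl N25304 D25646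
theorem N25609 : nd 25609 = n25647 := ndS (p := 25305) (l := 5) rfl N25305 D25647
theorem N25610 : nd 25610 = n25648 := ndS (p := 25306) (l := 3) rfl N25306 D25648
theorem N25611 : nd 25611 = n25649 := ndS (p := 25308) (l := 4) rfl N25308 D25649
theorem N25612 : nd 25612 = n25650 := ndS (p := 25312) (l := 4) rfl N25312 D25650
theorem N25613 : nd 25613 = n25651 := ndS (p := 25313) (l := 2) rfl N25313 D25651
theorem N25614 : nd 25614 = n25652 := ndS (p := 25314) (l := 1) rfl N25314 D25652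
theorem N25615 : nd 25615 = n25653 := ndS (p := 25316) (l := 1) rfl N25316 D25653
theorem N25616 : nd 25616 = n25654 := ndS (p := 25316) (l := 4) rfl N25316 D25654
theorem N25617 : nd 25617 = n25655 := ndS (p := 25317) (l := 5) rfl N25317 D25655
theorem N25618 : nd 25618 = n25656 := ndS (p := 25318) (l := 4) rfl N25318 D25656
theorem N25619 : nd 25619 = n25657 := ndS (p := 25319) (l := 5) rfl N25319 D25657
theorem N25620 : nd 25620 = n25658 := ndS (p := 25330) (l := 3) rfl N25330 D25658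
theorem N25621 : nd 25621 = n25659 := ndS (p := 25331) (l := 2) rfl N25331 D25659
theorem N25622 : nd 25622 = n25660 := ndS (p := 25333) (l := 0) rfl N25333 D25660
theorem N25623 : nd 25623 = n25661 := ndS (p := 25339) (l := 0) rfl N25339 D25661
theorem N25624 : nd 25624 = n25662 := ndS (p := 25341) (l := 3) rfl N25341 D25662
theorem N25625 : nd 25625 = n25663 := ndS (p := 25343) (l := 1) rfl N25343 D25663
theorem N25626 : nd 25626 = n25664 := ndS (p := 25346) (l := 4) rfl N25346 D25664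
theorem N25627 : nd 25627 = n25665 := ndS (p := 25348) (l := 1) rfl N25348 D25665
theorem N25628 : nd 25628 = n25666 := ndS (p := 25354) (l := 1) rfl N25354 D25666
theorem N25629 : nd 25629 = n25667 := ndS (p := 25355) (l := 2) rfl N25355 D25667
theorem N25630 : nd 25630 = n25668 := ndS (p := 25356) (l := 3) rfl N25356 D25668
theorem N25631 : nd 25631 = n25669 := ndS (p := 25357) (l := 1) rfl N25357 D25669
theorem N25632 : nd 25632 = n25670 := ndS (p := 25358) (l := 1) rfl N25358 D25670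
theorem N25633 : nd 25633 = n25671 := ndS (p := 25360) (l := 4) rfl N25360 D25671
theorem N25634 : nd 25634 = n25672 := ndS (p := 25361) (l := 5) rfl N25361 D25672
theorem N25635 : nd 25635 = n25673 := ndS (p := 25364) (l := 1) rfl N25364 D25673
theorem N25636 : nd 25636 = n25674 := ndS (p := 25365) (l := 1) rfl N25365 D25674
theorem N25637 : nd 25637 = n25675 := ndS (p := 25365) (l := 5) rfl N25365 D25675
theorem N25638 : nd 25638 = n25676 := ndS (p := 25366) (l := 4) rfl N25366 D25676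
theorem N25639 : nd 25639 = n25677 := ndS (p := 25367) (l := 5) rfl N25367 D25677
theorem N25640 : nd 25640 = n25678 := ndS (p := 25368) (l := 4) rfl N25368 D25678
theorem N25641 : nd 25641 = n25679 := ndS (p := 25371) (l := 1) rfl N25371 D25679
theorem N25642 : nd 25642 = n25680 := ndS (p := 25371) (l := 3) rfl N25371 D25680
theorem N25643 : nd 25643 = n25681 := ndS (p := 25373) (l := 1) rfl N25373 D25681
theorem N25644 : nd 25644 = n25682 := ndS (p := 25373) (l := 3) rfl N25373 D25682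
theorem N25645 : nd 25645 = n25683 := ndS (p := 25373) (l := 5) rfl N25373 D25683
theorem N25646 : nd 25646 = n25684 := ndS (p := 25374) (l := 4) rfl N25374 D25684
theorem N25647 : nd 25647 = n25685 := ndS (p := 25375) (l := 2) rfl N25375 D25685
theorem N25648 : nd 25648 = n25686 := ndS (p := 25375) (l := 4) rfl N25375 D25686
theorem N25649 : nd 25649 = n25687 := ndS (p := 25376) (l := 5) rfl N25376 D25687
theorem N25650 : nd 25650 = n25688 := ndS (p := 25378) (l := 3) rfl N25378 D25688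
theorem N25651 : nd 25651 = n25689 := ndS (p := 25381) (l := 4) rfl N25381 D25689
theorem N25652 : nd 25652 = n25690 := ndS (p := 25383) (l := 1) rfl N25383 D25690
theorem N25653 : nd 25653 = n25691 := ndS (p := 25384) (l := 3) rfl N25384 D25691
theorem N25654 : nd 25654 = n25692 := ndS (p := 25384) (l := 5) rfl N25384 D25692
theorem N25655 : nd 25655 = n25693 := ndS (p := 25385) (l := 4) rfl N25385 D25693
theorem N25656 : nd 25656 = n25694 := ndS (p := 25386) (l := 4) rfl N25386 D25694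
theorem N25657 : nd 25657 = n25695 := ndS (p := 25389) (l := 4) rfl N25389 D25695
theorem N25658 : nd 25658 = n25696 := ndS (p := 25390) (l := 1) rfl N25390 D25696
theorem N25659 : nd 25659 = n25697 := ndS (p := 25390) (l := 3) rfl N25390 D25697
theorem N25660 : nd 25660 = n25698 := ndS (p := 25390) (l := 5) rfl N25390 D25698
theorem N25661 : nd 25661 = n25699 := ndS (p := 25391) (l := 4) rfl N25391 D25699
theorem N25662 : nd 25662 = n25700 := ndS (p := 25392) (l := 2) rfl N25392 D25700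
theorem N25663 : nd 25663 = n25701 := ndS (p := 25392) (l := 4) rfl N25392 D25701
theorem N25664 : nd 25664 = n25702 := ndS (p := 25395) (l := 0) rfl N25395 D25702
theorem N25665 : nd 25665 = n25703 := ndS (p := 25395) (l := 5) rfl N25395 D25703
theorem N25666 : nd 25666 = n25704 := ndS (p := 25396) (l := 4) rfl N25396 D25704
theorem N25667 : nd 25667 = n25705 := ndS (p := 25400) (l := 2) rfl N25400 D25705
theorem N25668 : nd 25668 = n25706 := ndS (p := 25401) (l := 1) rfl N25401 D25706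
theorem N25669 : nd 25669 = n25707 := ndS (p := 25402) (l := 1) rfl N25402 D25707
theorem N25670 : nd 25670 = n25708 := ndS (p := 25402) (l := 3) rfl N25402 D25708
theorem N25671 : nd 25671 = n25709 := ndS (p := 25402) (l := 5) rfl N25402 D25709
theorem N25672 : nd 25672 = n25710 := ndS (p := 25404) (l := 0) rfl N25404 D25710
theorem N25673 : nd 25673 = n25711 := ndS (p := 25405) (l := 1) rfl N25405 D25711
theorem N25674 : nd 25674 = n25712 := ndS (p := 25405) (l := 3) rfl N25405 D25712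
theorem N25675 : nd 25675 = n25713 := ndS (p := 25405) (l := 5) rfl N25405 D25713
theorem N25676 : nd 25676 = n25714 := ndS (p := 25406) (l := 4) rfl N25406 D25714
theorem N25677 : nd 25677 = n25715 := ndS (p := 25407) (l := 3) rfl N25407 D25715
theorem N25678 : nd 25678 = n25716 := ndS (p := 25408) (l := 2) rfl N25408 D25716
theorem N25679 : nd 25679 = n25717 := ndS (p := 25408) (l := 4) rfl N25408 D25717
theorem N25680 : nd 25680 = n25718 := ndS (p := 25408) (l := 5) rfl N25408 D25718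
theorem N25681 : nd 25681 = n25719 := ndS (p := 25410) (l := 3) rfl N25410 D25719
theorem N25682 : nd 25682 = n25720 := ndS (p := 25411) (l := 4) rfl N25411 D25720
theorem N25683 : nd 25683 = n25721 := ndS (p := 25412) (l := 5) rfl N25412 D25721
theorem N25684 : nd 25684 = n25722 := ndS (p := 25416) (l := 5) rfl N25416 D25722
theorem N25685 : nd 25685 = n25723 := ndS (p := 25417) (l := 4) rfl N25417 D25723
theorem N25686 : nd 25686 = n25724 := ndS (p := 25420) (l := 2) rfl N25420 D25724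
theorem N25687 : nd 25687 = n25725 := ndS (p := 25420) (l := 4) rfl N25420 D25725
theorem N25688 : nd 25688 = n25726 := ndS (p := 25426) (l := 3) rfl N25426 D25726
theorem N25689 : nd 25689 = n25727 := ndS (p := 25426) (l := 5) rfl N25426 D25727
theorem N25690 : nd 25690 = n25728 := ndS (p := 25427) (l := 4) rfl N25427 D25728
theorem N25691 : nd 25691 = n25729 := ndS (p := 25428) (l := 4) rfl N25428 D25729
theorem N25692 : nd 25692 = n25730 := ndS (p := 25430) (l := 5) rfl N25430 D25730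
theorem N25693 : nd 25693 = n25731 := ndS (p := 25431) (l := 3) rfl N25431 D25731
theorem N25694 : nd 25694 = n25732 := ndS (p := 25432) (l := 1) rfl N25432 D25732
theorem N25695 : nd 25695 = n25733 := ndS (p := 25432) (l := 3) rfl N25432 D25733
theorem N25696 : nd 25696 = n25734 := ndS (p := 25434) (l := 1) rfl N25434 D25734
theorem N25697 : nd 25697 = n25735 := ndS (p := 25434) (l := 3) rfl N25434 D25735
theorem N25698 : nd 25698 = n25736 := ndS (p := 25435) (l := 4) rfl N25435 D25736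
theorem N25699 : nd 25699 = n25737 := ndS (p := 25438) (l := 2) rfl N25438 D25737
theorem N25700 : nd 25700 = n25738 := ndS (p := 25439) (l := 4) rfl N25439 D25738
theorem N25701 : nd 25701 = n25739 := ndS (p := 25441) (l := 1) rfl N25441 D25739
theorem N25702 : nd 25702 = n25740 := ndS (p := 25441) (l := 3) rfl N25441 D25740
theorem N25703 : nd 25703 = n25741 := ndS (p := 25443) (l := 4) rfl N25443 D25741
theorem N25704 : nd 25704 = n25742 := ndS (p := 25448) (l := 1) rfl N25448 D25742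
theorem N25705 : nd 25705 = n25743 := ndS (p := 25453) (l := 1) rfl N25453 D25743
theorem N25706 : nd 25706 = n25744 := ndS (p := 25453) (l := 3) rfl N25453 D25744
theorem N25707 : nd 25707 = n25745 := ndS (p := 25453) (l := 5) rfl N25453 D25745
theorem N25708 : nd 25708 = n25746 := ndS (p := 25455) (l := 0) rfl N25455 D25746
theorem N25709 : nd 25709 = n25747 := ndS (p := 25455) (l := 3) rfl N25455 D25747
theorem N25710 : nd 25710 = n25748 := ndS (p := 25456) (l := 4) rfl N25456 D25748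
theorem N25711 : nd 25711 = n25749 := ndS (p := 25459) (l := 0) rfl N25459 D25749
theorem N25712 : nd 25712 = n25750 := ndS (p := 25459) (l := 3) rfl N25459 D25750
theorem N25713 : nd 25713 = n25751 := ndS (p := 25459) (l := 5) rfl N25459 D25751
theorem N25714 : nd 25714 = n25752 := ndS (p := 25460) (l := 5) rfl N25460 D25752
theorem N25715 : nd 25715 = n25753 := ndS (p := 25468) (l := 0) rfl N25468 D25753
theorem N25716 : nd 25716 = n25754 := ndS (p := 25468) (l := 5) rfl N25468 D25754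
theorem N25717 : nd 25717 = n25755 := ndS (p := 25471) (l := 2) rfl N25471 D25755
theorem N25718 : nd 25718 = n25756 := ndS (p := 25473) (l := 5) rfl N25473 D25756
theorem N25719 : nd 25719 = n25757 := ndS (p := 25476) (l := 4) rfl N25476 D25757
theorem N25720 : nd 25720 = n25758 := ndS (p := 25477) (l := 2) rfl N25477 D25758
theorem N25721 : nd 25721 = n25759 := ndS (p := 25477) (l := 4) rfl N25477 D25759
theorem N25722 : nd 25722 = n25760 := ndS (p := 25478) (l := 5) rfl N25478 D25760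
theorem N25723 : nd 25723 = n25761 := ndS (p := 25480) (l := 3) rfl N25480 D25761
theorem N25724 : nd 25724 = n25762 := ndS (p := 25484) (l := 2) rfl N25484 D25762
theorem N25725 : nd 25725 = n25763 := ndS (p := 25489) (l := 3) rfl N25489 D25763
theorem N25726 : nd 25726 = n25764 := ndS (p := 25489) (l := 4) rfl N25489 D25764
theorem N25727 : nd 25727 = n25765 := ndS (p := 25490) (l := 5) rfl N25490 D25765
theorem N25728 : nd 25728 = n25766 := ndS (p := 25493) (l := 2) rfl N25493 D25766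
theorem N25729 : nd 25729 = n25767 := ndS (p := 25494) (l := 3) rfl N25494 D25767
theorem N25730 : nd 25730 = n25768 := ndS (p := 25499) (l := 3) rfl N25499 D25768
theorem N25731 : nd 25731 = n25769 := ndS (p := 25502) (l := 5) rfl N25502 D25769
theorem N25732 : nd 25732 = n25770 := ndS (p := 25504) (l := 1) rfl N25504 D25770
theorem N25733 : nd 25733 = n25771 := ndS (p := 25504) (l := 3) rfl N25504 D25771
theorem N25734 : nd 25734 = n25772 := ndS (p := 25506) (l := 1) rfl N25506 D25772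
theorem N25735 : nd 25735 = n25773 := ndS (p := 25506) (l := 3) rfl N25506 D25773
theorem N25736 : nd 25736 = n25774 := ndS (p := 25507) (l := 0) rfl N25507 D25774
theorem N25737 : nd 25737 = n25775 := ndS (p := 25507) (l := 3) rfl N25507 D25775
theorem N25738 : nd 25738 = n25776 := ndS (p := 25507) (l := 5) rfl N25507 D25776
theorem N25739 : nd 25739 = n25777 := ndS (p := 25508) (l := 2) rfl N25508 D25777
theorem N25740 : nd 25740 = n25778 := ndS (p := 25508) (l := 5) rfl N25508 D25778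
theorem N25741 : nd 25741 = n25779 := ndS (p := 25514) (l := 5) rfl N25514 D25779
theorem N25742 : nd 25742 = n25780 := ndS (p := 25515) (l := 5) rfl N25515 D25780
theorem N25743 : nd 25743 = n25781 := ndS (p := 25518) (l := 1) rfl N25518 D25781
theorem N25744 : nd 25744 = n25782 := ndS (p := 25522) (l := 3) rfl N25522 D25782
theorem N25745 : nd 25745 = n25783 := ndS (p := 25522) (l := 5) rfl N25522 D25783
theorem N25746 : nd 25746 = n25784 := ndS (p := 25524) (l := 1) rfl N25524 D25784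
theorem N25747 : nd 25747 = n25785 := ndS (p := 25524) (l := 4) rfl N25524 D25785
theorem N25748 : nd 25748 = n25786 := ndS (p := 25526) (l := 4) rfl N25526 D25786
theorem N25749 : nd 25749 = n25787 := ndS (p := 25527) (l := 3) rfl N25527 D25787
theorem N25750 : nd 25750 = n25788 := ndS (p := 25527) (l := 5) rfl N25527 D25788
theorem N25751 : nd 25751 = n25789 := ndS (p := 25529) (l := 5) rfl N25529 D25789
theorem N25752 : nd 25752 = n25790 := ndS (p := 25530) (l := 4) rfl N25530 D25790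
theorem N25753 : nd 25753 = n25791 := ndS (p := 25532) (l := 0) rfl N25532 D25791
theorem N25754 : nd 25754 = n25792 := ndS (p := 25534) (l := 3) rfl N25534 D25792
theorem N25755 : nd 25755 = n25793 := ndS (p := 25534) (l := 4) rfl N25534 D25793
theorem N25756 : nd 25756 = n25794 := ndS (p := 25536) (l := 5) rfl N25536 D25794
theorem N25757 : nd 25757 = n25795 := ndS (p := 25538) (l := 5) rfl N25538 D25795
theorem N25758 : nd 25758 = n25796 := ndS (p := 25541) (l := 0) rfl N25541 D25796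
theorem N25759 : nd 25759 = n25797 := ndS (p := 25541) (l := 4) rfl N25541 D25797
theorem N25760 : nd 25760 = n25798 := ndS (p := 25542) (l := 3) rfl N25542 D25798
theorem N25761 : nd 25761 = n25799 := ndS (p := 25543) (l := 4) rfl N25543 D25799
theorem N25762 : nd 25762 = n25800 := ndS (p := 25548) (l := 4) rfl N25548 D25800
theorem N25763 : nd 25763 = n25801 := ndS (p := 25552) (l := 4) rfl N25552 D25801
theorem N25764 : nd 25764 = n25802 := ndS (p := 25556) (l := 2) rfl N25556 D25802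
theorem N25765 : nd 25765 = n25803 := ndS (p := 25556) (l := 4) rfl N25556 D25803
theorem N25766 : nd 25766 = n25804 := ndS (p := 25557) (l := 4) rfl N25557 D25804
theorem N25767 : nd 25767 = n25805 := ndS (p := 25558) (l := 3) rfl N25558 D25805
theorem N25768 : nd 25768 = n25806 := ndS (p := 25559) (l := 3) rfl N25559 D25806
theorem N25769 : nd 25769 = n25807 := ndS (p := 25559) (l := 5) rfl N25559 D25807
theorem N25770 : nd 25770 = n25808 := ndS (p := 25564) (l := 2) rfl N25564 D25808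
theorem N25771 : nd 25771 = n25809 := ndS (p := 25565) (l := 1) rfl N25565 D25809
theorem N25772 : nd 25772 = n25810 := ndS (p := 25573) (l := 2) rfl N25573 D25810
theorem N25773 : nd 25773 = n25811 := ndS (p := 25574) (l := 4) rfl N25574 D25811
theorem N25774 : nd 25774 = n25812 := ndS (p := 25581) (l := 0) rfl N25581 D25812
theorem N25775 : nd 25775 = n25813 := ndS (p := 25581) (l := 5) rfl N25581 D25813
theorem N25776 : nd 25776 = n25814 := ndS (p := 25583) (l := 5) rfl N25583 D25814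
theorem N25777 : nd 25777 = n25815 := ndS (p := 25584) (l := 4) rfl N25584 D25815
theorem N25778 : nd 25778 = n25816 := ndS (p := 25590) (l := 1) rfl N25590 D25816
theorem N25779 : nd 25779 = n25817 := ndS (p := 25590) (l := 4) rfl N25590 D25817
theorem N25780 : nd 25780 = n25818 := ndS (p := 25592) (l := 4) rfl N25592 D25818
theorem N25781 : nd 25781 = n25819 := ndS (p := 25595) (l := 3) rfl N25595 D25819
theorem N25782 : nd 25782 = n25820 := ndS (p := 25596) (l := 3) rfl N25596 D25820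
theorem N25783 : nd 25783 = n25821 := ndS (p := 25599) (l := 3) rfl N25599 D25821
theorem N25784 : nd 25784 = n25822 := ndS (p := 25600) (l := 2) rfl N25600 D25822
theorem N25785 : nd 25785 = n25823 := ndS (p := 25603) (l := 2) rfl N25603 D25823
theorem N25786 : nd 25786 = n25824 := ndS (p := 25604) (l := 1) rfl N25604 D25824
theorem N25787 : nd 25787 = n25825 := ndS (p := 25604) (l := 3) rfl N25604 D25825
theorem N25788 : nd 25788 = n25826 := ndS (p := 25607) (l := 3) rfl N25607 D25826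
theorem N25789 : nd 25789 = n25827 := ndS (p := 25608) (l := 5) rfl N25608 D25827
theorem N25790 : nd 25790 = n25828 := ndS (p := 25613) (l := 1) rfl N25613 D25828
theorem N25791 : nd 25791 = n25829 := ndS (p := 25615) (l := 4) rfl N25615 D25829
theorem N25792 : nd 25792 = n25830 := ndS (p := 25616) (l := 5) rfl N25616 D25830
theorem N25793 : nd 25793 = n25831 := ndS (p := 25636) (l := 5) rfl N25636 D25831
theorem N25794 : nd 25794 = n25832 := ndS (p := 25637) (l := 4) rfl N25637 D25832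
theorem N25795 : nd 25795 = n25833 := ndS (p := 25639) (l := 4) rfl N25639 D25833
theorem N25796 : nd 25796 = n25834 := ndS (p := 25640) (l := 3) rfl N25640 D25834
theorem N25797 : nd 25797 = n25835 := ndS (p := 25641) (l := 3) rfl N25641 D25835
theorem N25798 : nd 25798 = n25836 := ndS (p := 25642) (l := 2) rfl N25642 D25836
theorem N25799 : nd 25799 = n25837 := ndS (p := 25643) (l := 3) rfl N25643 D25837
theorem N25800 : nd 25800 = n25838 := ndS (p := 25643) (l := 5) rfl N25643 D25838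
theorem N25801 : nd 25801 = n25839 := ndS (p := 25644) (l := 4) rfl N25644 D25839
theorem N25802 : nd 25802 = n25840 := ndS (p := 25645) (l := 4) rfl N25645 D25840
theorem N25803 : nd 25803 = n25841 := ndS (p := 25647) (l := 4) rfl N25647 D25841
theorem N25804 : nd 25804 = n25842 := ndS (p := 25648) (l := 5) rfl N25648 D25842
theorem N25805 : nd 25805 = n25843 := ndS (p := 25653) (l := 2) rfl N25653 D25843
theorem N25806 : nd 25806 = n25844 := ndS (p := 25653) (l := 4) rfl N25653 D25844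
theorem N25807 : nd 25807 = n25845 := ndS (p := 25654) (l := 4) rfl N25654 D25845
theorem N25808 : nd 25808 = n25846 := ndS (p := 25655) (l := 5) rfl N25655 D25846
theorem N25809 : nd 25809 = n25847 := ndS (p := 25656) (l := 3) rfl N25656 D25847
theorem N25810 : nd 25810 = n25848 := ndS (p := 25658) (l := 5) rfl N25658 D25848
theorem N25811 : nd 25811 = n25849 := ndS (p := 25660) (l := 4) rfl N25660 D25849
theorem N25812 : nd 25812 = n25850 := ndS (p := 25664) (l := 5) rfl N25664 D25850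
theorem N25813 : nd 25813 = n25851 := ndS (p := 25665) (l := 4) rfl N25665 D25851
theorem N25814 : nd 25814 = n25852 := ndS (p := 25666) (l := 3) rfl N25666 D25852
theorem N25815 : nd 25815 = n25853 := ndS (p := 25667) (l := 1) rfl N25667 D25853
theorem N25816 : nd 25816 = n25854 := ndS (p := 25669) (l := 3) rfl N25669 D25854
theorem N25817 : nd 25817 = n25855 := ndS (p := 25669) (l := 5) rfl N25669 D25855
theorem N25818 : nd 25818 = n25856 := ndS (p := 25670) (l := 2) rfl N25670 D25856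
theorem N25819 : nd 25819 = n25857 := ndS (p := 25670) (l := 5) rfl N25670 D25857
theorem N25820 : nd 25820 = n25858 := ndS (p := 25673) (l := 3) rfl N25673 D25858
theorem N25821 : nd 25821 = n25859 := ndS (p := 25677) (l := 4) rfl N25677 D25859
theorem N25822 : nd 25822 = n25860 := ndS (p := 25678) (l := 4) rfl N25678 D25860
theorem N25823 : nd 25823 = n25861 := ndS (p := 25679) (l := 5) rfl N25679 D25861
theorem N25824 : nd 25824 = n25862 := ndS (p := 25680) (l := 4) rfl N25680 D25862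
theorem N25825 : nd 25825 = n25863 := ndS (p := 25681) (l := 4) rfl N25681 D25863
theorem N25826 : nd 25826 = n25864 := ndS (p := 25684) (l := 4) rfl N25684 D25864
theorem N25827 : nd 25827 = n25865 := ndS (p := 25690) (l := 5) rfl N25690 D25865
theorem N25828 : nd 25828 = n25866 := ndS (p := 25691) (l := 3) rfl N25691 D25866
theorem N25829 : nd 25829 = n25867 := ndS (p := 25694) (l := 3) rfl N25694 D25867
theorem N25830 : nd 25830 = n25868 := ndS (p := 25695) (l := 4) rfl N25695 D25868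
theorem N25831 : nd 25831 = n25869 := ndS (p := 25696) (l := 3) rfl N25696 D25869
theorem N25832 : nd 25832 = n25870 := ndS (p := 25701) (l := 3) rfl N25701 D25870
theorem N25833 : nd 25833 = n25871 := ndS (p := 25702) (l := 4) rfl N25702 D25871
theorem N25834 : nd 25834 = n25872 := ndS (p := 25703) (l := 5) rfl N25703 D25872
theorem N25835 : nd 25835 = n25873 := ndS (p := 25705) (l := 0) rfl N25705 D25873
theorem N25836 : nd 25836 = n25874 := ndS (p := 25705) (l := 3) rfl N25705 D25874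
theorem N25837 : nd 25837 = n25875 := ndS (p := 25705) (l := 5) rfl N25705 D25875
theorem N25838 : nd 25838 = n25876 := ndS (p := 25706) (l := 4) rfl N25706 D25876
theorem N25839 : nd 25839 = n25877 := ndS (p := 25709) (l := 2) rfl N25709 D25877
theorem N25840 : nd 25840 = n25878 := ndS (p := 25709) (l := 4) rfl N25709 D25878
theorem N25841 : nd 25841 = n25879 := ndS (p := 25711) (l := 5) rfl N25711 D25879
theorem N25842 : nd 25842 = n25880 := ndS (p := 25712) (l := 2) rfl N25712 D25880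
theorem N25843 : nd 25843 = n25881 := ndS (p := 25712) (l := 5) rfl N25712 D25881
theorem N25844 : nd 25844 = n25882 := ndS (p := 25715) (l := 5) rfl N25715 D25882
theorem N25845 : nd 25845 = n25883 := ndS (p := 25720) (l := 3) rfl N25720 D25883
theorem N25846 : nd 25846 = n25884 := ndS (p := 25720) (l := 4) rfl N25720 D25884
theorem N25847 : nd 25847 = n25885 := ndS (p := 25721) (l := 5) rfl N25721 D25885
theorem N25848 : nd 25848 = n25886 := ndS (p := 25723) (l := 2) rfl N25723 D25886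
theorem N25849 : nd 25849 = n25887 := ndS (p := 25725) (l := 4) rfl N25725 D25887
theorem N25850 : nd 25850 = n25888 := ndS (p := 25726) (l := 3) rfl N25726 D25888
theorem N25851 : nd 25851 = n25889 := ndS (p := 25726) (l := 5) rfl N25726 D25889
theorem N25852 : nd 25852 = n25890 := ndS (p := 25728) (l := 1) rfl N25728 D25890
theorem N25853 : nd 25853 = n25891 := ndS (p := 25730) (l := 4) rfl N25730 D25891
theorem N25854 : nd 25854 = n25892 := ndS (p := 25732) (l := 3) rfl N25732 D25892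
theorem N25855 : nd 25855 = n25893 := ndS (p := 25734) (l := 3) rfl N25734 D25893
theorem N25856 : nd 25856 = n25894 := ndS (p := 25736) (l := 3) rfl N25736 D25894
theorem N25857 : nd 25857 = n25895 := ndS (p := 25736) (l := 5) rfl N25736 D25895
theorem N25858 : nd 25858 = n25896 := ndS (p := 25737) (l := 2) rfl N25737 D25896
theorem N25859 : nd 25859 = n25897 := ndS (p := 25737) (l := 5) rfl N25737 D25897
theorem N25860 : nd 25860 = n25898 := ndS (p := 25739) (l := 1) rfl N25739 D25898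
theorem N25861 : nd 25861 = n25899 := ndS (p := 25740) (l := 4) rfl N25740 D25899
theorem N25862 : nd 25862 = n25900 := ndS (p := 25746) (l := 4) rfl N25746 D25900
theorem N25863 : nd 25863 = n25901 := ndS (p := 25747) (l := 3) rfl N25747 D25901
theorem N25864 : nd 25864 = n25902 := ndS (p := 25748) (l := 3) rfl N25748 D25902
theorem N25865 : nd 25865 = n25903 := ndS (p := 25749) (l := 5) rfl N25749 D25903
theorem N25866 : nd 25866 = n25904 := ndS (p := 25751) (l := 4) rfl N25751 D25904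
theorem N25867 : nd 25867 = n25905 := ndS (p := 25755) (l := 5) rfl N25755 D25905
theorem N25868 : nd 25868 = n25906 := ndS (p := 25758) (l := 4) rfl N25758 D25906
theorem N25869 : nd 25869 = n25907 := ndS (p := 25759) (l := 3) rfl N25759 D25907
theorem N25870 : nd 25870 = n25908 := ndS (p := 25764) (l := 4) rfl N25764 D25908
theorem N25871 : nd 25871 = n25909 := ndS (p := 25766) (l := 3) rfl N25766 D25909
theorem N25872 : nd 25872 = n25910 := ndS (p := 25768) (l := 5) rfl N25768 D25910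
theorem N25873 : nd 25873 = n25911 := ndS (p := 25770) (l := 1) rfl N25770 D25911
theorem N25874 : nd 25874 = n25912 := ndS (p := 25772) (l := 1) rfl N25772 D25912
theorem N25875 : nd 25875 = n25913 := ndS (p := 25772) (l := 3) rfl N25772 D25913
theorem N25876 : nd 25876 = n25914 := ndS (p := 25773) (l := 3) rfl N25773 D25914
theorem N25877 : nd 25877 = n25915 := ndS (p := 25774) (l := 5) rfl N25774 D25915
theorem N25878 : nd 25878 = n25916 := ndS (p := 25776) (l := 4) rfl N25776 D25916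
theorem N25879 : nd 25879 = n25917 := ndS (p := 25779) (l := 3) rfl N25779 D25917
theorem N25880 : nd 25880 = n25918 := ndS (p := 25782) (l := 2) rfl N25782 D25918
theorem N25881 : nd 25881 = n25919 := ndS (p := 25783) (l := 2) rfl N25783 D25919
theorem N25882 : nd 25882 = n25920 := ndS (p := 25784) (l := 3) rfl N25784 D25920
theorem N25883 : nd 25883 = n25921 := ndS (p := 25785) (l := 1) rfl N25785 D25921
theorem N25884 : nd 25884 = n25922 := ndS (p := 25785) (l := 3) rfl N25785 D25922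
theorem N25885 : nd 25885 = n25923 := ndS (p := 25786) (l := 3) rfl N25786 D25923
theorem N25886 : nd 25886 = n25924 := ndS (p := 25788) (l := 2) rfl N25788 D25924
theorem N25887 : nd 25887 = n25925 := ndS (p := 25791) (l := 5) rfl N25791 D25925
theorem N25888 : nd 25888 = n25926 := ndS (p := 25793) (l := 4) rfl N25793 D25926
theorem N25889 : nd 25889 = n25927 := ndS (p := 25794) (l := 3) rfl N25794 D25927
theorem N25890 : nd 25890 = n25928 := ndS (p := 25795) (l := 3) rfl N25795 D25928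
theorem N25891 : nd 25891 = n25929 := ndS (p := 25796) (l := 2) rfl N25796 D25929
theorem N25892 : nd 25892 = n25930 := ndS (p := 25797) (l := 2) rfl N25797 D25930
theorem N25893 : nd 25893 = n25931 := ndS (p := 25798) (l := 1) rfl N25798 D25931
theorem N25894 : nd 25894 = n25932 := ndS (p := 25799) (l := 2) rfl N25799 D25932
theorem N25895 : nd 25895 = n25933 := ndS (p := 25799) (l := 4) rfl N25799 D25933
theorem N25896 : nd 25896 = n25934 := ndS (p := 25800) (l := 4) rfl N25800 D25934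
theorem N25897 : nd 25897 = n25935 := ndS (p := 25801) (l := 5) rfl N25801 D25935
theorem N25898 : nd 25898 = n25936 := ndS (p := 25802) (l := 3) rfl N25802 D25936
theorem N25899 : nd 25899 = n25937 := ndS (p := 25803) (l := 3) rfl N25803 D25937
theorem N25900 : nd 25900 = n25938 := ndS (p := 25803) (l := 5) rfl N25803 D25938
theorem N25901 : nd 25901 = n25939 := ndS (p := 25805) (l := 3) rfl N25805 D25939
theorem N25902 : nd 25902 = n25940 := ndS (p := 25805) (l := 4) rfl N25805 D25940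
theorem N25903 : nd 25903 = n25941 := ndS (p := 25807) (l := 3) rfl N25807 D25941
theorem N25904 : nd 25904 = n25942 := ndS (p := 25809) (l := 2) rfl N25809 D25942
theorem N25905 : nd 25905 = n25943 := ndS (p := 25810) (l := 4) rfl N25810 D25943
theorem N25906 : nd 25906 = n25944 := ndS (p := 25811) (l := 3) rfl N25811 D25944
theorem N25907 : nd 25907 = n25945 := ndS (p := 25812) (l := 4) rfl N25812 D25945
theorem N25908 : nd 25908 = n25946 := ndS (p := 25813) (l := 3) rfl N25813 D25946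
theorem N25909 : nd 25909 = n25947 := ndS (p := 25814) (l := 2) rfl N25814 D25947
theorem N25910 : nd 25910 = n25948 := ndS (p := 25816) (l := 2) rfl N25816 D25948
theorem N25911 : nd 25911 = n25949 := ndS (p := 25816) (l := 5) rfl N25816 D25949
theorem N25912 : nd 25912 = n25950 := ndS (p := 25820) (l := 2) rfl N25820 D25950
theorem N25913 : nd 25913 = n25951 := ndS (p := 25829) (l := 2) rfl N25829 D25951
theorem N25914 : nd 25914 = n25952 := ndS (p := 25829) (l := 4) rfl N25829 D25952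
theorem N25915 : nd 25915 = n25953 := ndS (p := 25831) (l := 2) rfl N25831 D25953
theorem N25916 : nd 25916 = n25954 := ndS (p := 25832) (l := 2) rfl N25832 D25954
theorem N25917 : nd 25917 = n25955 := ndS (p := 25832) (l := 4) rfl N25832 D25955
theorem N25918 : nd 25918 = n25956 := ndS (p := 25835) (l := 3) rfl N25835 D25956
theorem N25919 : nd 25919 = n25957 := ndS (p := 25835) (l := 5) rfl N25835 D25957
theorem N25920 : nd 25920 = n25958 := ndS (p := 25836) (l := 2) rfl N25836 D25958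
theorem N25921 : nd 25921 = n25959 := ndS (p := 25836) (l := 4) rfl N25836 D25959
theorem N25922 : nd 25922 = n25960 := ndS (p := 25839) (l := 4) rfl N25839 D25960
theorem N25923 : nd 25923 = n25961 := ndS (p := 25842) (l := 3) rfl N25842 D25961
theorem N25924 : nd 25924 = n25962 := ndS (p := 25842) (l := 5) rfl N25842 D25962
theorem N25925 : nd 25925 = n25963 := ndS (p := 25845) (l := 4) rfl N25845 D25963
theorem N25926 : nd 25926 = n25964 := ndS (p := 25846) (l := 3) rfl N25846 D25964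
theorem N25927 : nd 25927 = n25965 := ndS (p := 25846) (l := 5) rfl N25846 D25965
theorem N25928 : nd 25928 = n25966 := ndS (p := 25849) (l := 3) rfl N25849 D25966
theorem N25929 : nd 25929 = n25967 := ndS (p := 25850) (l := 2) rfl N25850 D25967
theorem N25930 : nd 25930 = n25968 := ndS (p := 25850) (l := 5) rfl N25850 D25968
theorem N25931 : nd 25931 = n25969 := ndS (p := 25854) (l := 2) rfl N25854 D25969
theorem N25932 : nd 25932 = n25970 := ndS (p := 25856) (l := 2) rfl N25856 D25970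
theorem N25933 : nd 25933 = n25971 := ndS (p := 25856) (l := 5) rfl N25856 D25971
theorem N25934 : nd 25934 = n25972 := ndS (p := 25858) (l := 1) rfl N25858 D25972
theorem N25935 : nd 25935 = n25973 := ndS (p := 25858) (l := 3) rfl N25858 D25973
theorem N25936 : nd 25936 = n25974 := ndS (p := 25858) (l := 5) rfl N25858 D25974
theorem N25937 : nd 25937 = n25975 := ndS (p := 25859) (l := 4) rfl N25859 D25975
theorem N25938 : nd 25938 = n25976 := ndS (p := 25860) (l := 0) rfl N25860 D25976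
theorem N25939 : nd 25939 = n25977 := ndS (p := 25862) (l := 3) rfl N25862 D25977
theorem N25940 : nd 25940 = n25978 := ndS (p := 25868) (l := 3) rfl N25868 D25978
theorem N25941 : nd 25941 = n25979 := ndS (p := 25869) (l := 2) rfl N25869 D25979
theorem N25942 : nd 25942 = n25980 := ndS (p := 25870) (l := 3) rfl N25870 D25980
theorem N25943 : nd 25943 = n25981 := ndS (p := 25871) (l := 2) rfl N25871 D25981
theorem N25944 : nd 25944 = n25982 := ndS (p := 25874) (l := 0) rfl N25874 D25982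
theorem N25945 : nd 25945 = n25983 := ndS (p := 25874) (l := 3) rfl N25874 D25983
theorem N25946 : nd 25946 = n25984 := ndS (p := 25880) (l := 3) rfl N25880 D25984
theorem N25947 : nd 25947 = n25985 := ndS (p := 25881) (l := 1) rfl N25881 D25985
theorem N25948 : nd 25948 = n25986 := ndS (p := 25881) (l := 3) rfl N25881 D25986
theorem N25949 : nd 25949 = n25987 := ndS (p := 25882) (l := 4) rfl N25882 D25987
theorem N25950 : nd 25950 = n25988 := ndS (p := 25883) (l := 3) rfl N25883 D25988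
theorem N25951 : nd 25951 = n25989 := ndS (p := 25888) (l := 3) rfl N25888 D25989
theorem N25952 : nd 25952 = n25990 := ndS (p := 25889) (l := 2) rfl N25889 D25990
theorem N25953 : nd 25953 = n25991 := ndS (p := 25890) (l := 2) rfl N25890 D25991
theorem N25954 : nd 25954 = n25992 := ndS (p := 25891) (l := 1) rfl N25891 D25992
theorem N25955 : nd 25955 = n25993 := ndS (p := 25891) (l := 3) rfl N25891 D25993
theorem N25956 : nd 25956 = n25994 := ndS (p := 25892) (l := 1) rfl N25892 D25994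
theorem N25957 : nd 25957 = n25995 := ndS (p := 25894) (l := 4) rfl N25894 D25995
theorem N25958 : nd 25958 = n25996 := ndS (p := 25895) (l := 5) rfl N25895 D25996
theorem N25959 : nd 25959 = n25997 := ndS (p := 25896) (l := 3) rfl N25896 D25997
theorem N25960 : nd 25960 = n25998 := ndS (p := 25901) (l := 2) rfl N25901 D25998
theorem N25961 : nd 25961 = n25999 := ndS (p := 25901) (l := 4) rfl N25901 D25999
theorem N25962 : nd 25962 = n26000 := ndS (p := 25903) (l := 2) rfl N25903 D26000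
theorem N25963 : nd 25963 = n26001 := ndS (p := 25905) (l := 3) rfl N25905 D26001
theorem N25964 : nd 25964 = n26002 := ndS (p := 25908) (l := 2) rfl N25908 D26002
theorem N25965 : nd 25965 = n26003 := ndS (p := 25910) (l := 5) rfl N25910 D26003
theorem N25966 : nd 25966 = n26004 := ndS (p := 25913) (l := 4) rfl N25913 D26004
theorem N25967 : nd 25967 = n26005 := ndS (p := 25916) (l := 4) rfl N25916 D26005
theorem N25968 : nd 25968 = n26006 := ndS (p := 25918) (l := 2) rfl N25918 D26006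
theorem N25969 : nd 25969 = n26007 := ndS (p := 25920) (l := 3) rfl N25920 D26007
theorem N25970 : nd 25970 = n26008 := ndS (p := 25920) (l := 4) rfl N25920 D26008
theorem N25971 : nd 25971 = n26009 := ndS (p := 25922) (l := 3) rfl N25922 D26009
theorem N25972 : nd 25972 = n26010 := ndS (p := 25923) (l := 2) rfl N25923 D26010
theorem N25973 : nd 25973 = n26011 := ndS (p := 25923) (l := 5) rfl N25923 D26011
theorem N25974 : nd 25974 = n26012 := ndS (p := 25925) (l := 3) rfl N25925 D26012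
theorem N25975 : nd 25975 = n26013 := ndS (p := 25926) (l := 2) rfl N25926 D26013
theorem N25976 : nd 25976 = n26014 := ndS (p := 25926) (l := 5) rfl N25926 D26014
theorem N25977 : nd 25977 = n26015 := ndS (p := 25928) (l := 2) rfl N25928 D26015
theorem N25978 : nd 25978 = n26016 := ndS (p := 25929) (l := 3) rfl N25929 D26016
theorem N25979 : nd 25979 = n26017 := ndS (p := 25931) (l := 3) rfl N25931 D26017
theorem N25980 : nd 25980 = n26018 := ndS (p := 25932) (l := 3) rfl N25932 D26018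
theorem N25981 : nd 25981 = n26019 := ndS (p := 25932) (l := 5) rfl N25932 D26019
theorem N25982 : nd 25982 = n26020 := ndS (p := 25934) (l := 0) rfl N25934 D26020
theorem N25983 : nd 25983 = n26021 := ndS (p := 25934) (l := 3) rfl N25934 D26021
theorem N25984 : nd 25984 = n26022 := ndS (p := 25935) (l := 5) rfl N25935 D26022
theorem N25985 : nd 25985 = n26023 := ndS (p := 25936) (l := 4) rfl N25936 D26023
theorem N25986 : nd 25986 = n26024 := ndS (p := 25939) (l := 2) rfl N25939 D26024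
theorem N25987 : nd 25987 = n26025 := ndS (p := 25940) (l := 2) rfl N25940 D26025
theorem N25988 : nd 25988 = n26026 := ndS (p := 25944) (l := 3) rfl N25944 D26026
theorem N25989 : nd 25989 = n26027 := ndS (p := 25945) (l := 2) rfl N25945 D26027
theorem N25990 : nd 25990 = n26028 := ndS (p := 25946) (l := 4) rfl N25946 D26028
theorem N25991 : nd 25991 = n26029 := ndS (p := 25947) (l := 3) rfl N25947 D26029
theorem N25992 : nd 25992 = n26030 := ndS (p := 25948) (l := 4) rfl N25948 D26030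
theorem N25993 : nd 25993 = n26031 := ndS (p := 25951) (l := 2) rfl N25951 D26031
theorem N25994 : nd 25994 = n26032 := ndS (p := 25952) (l := 1) rfl N25952 D26032
theorem N25995 : nd 25995 = n26033 := ndS (p := 25953) (l := 1) rfl N25953 D26033
theorem N25996 : nd 25996 = n26034 := ndS (p := 25953) (l := 3) rfl N25953 D26034
theorem N25997 : nd 25997 = n26035 := ndS (p := 25954) (l := 3) rfl N25954 D26035
theorem N25998 : nd 25998 = n26036 := ndS (p := 25957) (l := 3) rfl N25957 D26036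
theorem N25999 : nd 25999 = n26037 := ndS (p := 25957) (l := 5) rfl N25957 D26037
theorem N26000 : nd 26000 = n26038 := ndS (p := 25959) (l := 2) rfl N25959 D26038
theorem N26001 : nd 26001 = n26039 := ndS (p := 25960) (l := 4) rfl N25960 D26039
theorem N26002 : nd 26002 = n26040 := ndS (p := 25962) (l := 3) rfl N25962 D26040
theorem N26003 : nd 26003 = n26041 := ndS (p := 25963) (l := 2) rfl N25963 D26041
theorem N26004 : nd 26004 = n26042 := ndS (p := 25964) (l := 3) rfl N25964 D26042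
theorem N26005 : nd 26005 = n26043 := ndS (p := 25966) (l := 3) rfl N25966 D26043
theorem N26006 : nd 26006 = n26044 := ndS (p := 25967) (l := 3) rfl N25967 D26044
theorem N26007 : nd 26007 = n26045 := ndS (p := 25968) (l := 3) rfl N25968 D26045
theorem N26008 : nd 26008 = n26046 := ndS (p := 25969) (l := 4) rfl N25969 D26046
theorem N26009 : nd 26009 = n26047 := ndS (p := 25970) (l := 3) rfl N25970 D26047
theorem N26010 : nd 26010 = n26048 := ndS (p := 25971) (l := 2) rfl N25971 D26048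
theorem N26011 : nd 26011 = n26049 := ndS (p := 25973) (l := 4) rfl N25973 D26049
theorem N26012 : nd 26012 = n26050 := ndS (p := 25974) (l := 2) rfl N25974 D26050
theorem N26013 : nd 26013 = n26051 := ndS (p := 25975) (l := 1) rfl N25975 D26051
theorem N26014 : nd 26014 = n26052 := ndS (p := 25975) (l := 3) rfl N25975 D26052
theorem N26015 : nd 26015 = n26053 := ndS (p := 25979) (l := 2) rfl N25979 D26053
theorem N26016 : nd 26016 = n26054 := ndS (p := 25979) (l := 4) rfl N25979 D26054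
theorem N26017 : nd 26017 = n26055 := ndS (p := 25984) (l := 4) rfl N25984 D26055
theorem N26018 : nd 26018 = n26056 := ndS (p := 25985) (l := 3) rfl N25985 D26056
theorem N26019 : nd 26019 = n26057 := ndS (p := 25986) (l := 3) rfl N25986 D26057
theorem N26020 : nd 26020 = n26058 := ndS (p := 25987) (l := 1) rfl N25987 D26058
theorem N26021 : nd 26021 = n26059 := ndS (p := 25988) (l := 2) rfl N25988 D26059
theorem N26022 : nd 26022 = n26060 := ndS (p := 25989) (l := 3) rfl N25989 D26060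
theorem N26023 : nd 26023 = n26061 := ndS (p := 25991) (l := 4) rfl N25991 D26061
theorem N26024 : nd 26024 = n26062 := ndS (p := 25993) (l := 1) rfl N25993 D26062
theorem N26025 : nd 26025 = n26063 := ndS (p := 25993) (l := 3) rfl N25993 D26063
theorem N26026 : nd 26026 = n26064 := ndS (p := 25995) (l := 3) rfl N25995 D26064
theorem N26027 : nd 26027 = n26065 := ndS (p := 25997) (l := 2) rfl N25997 D26065
theorem N26028 : nd 26028 = n26066 := ndS (p := 25998) (l := 5) rfl N25998 D26066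
theorem N26029 : nd 26029 = n26067 := ndS (p := 26000) (l := 3) rfl N26000 D26067
theorem N26030 : nd 26030 = n26068 := ndS (p := 26001) (l := 3) rfl N26001 D26068
theorem N26031 : nd 26031 = n26069 := ndS (p := 26003) (l := 3) rfl N26003 D26069
theorem N26032 : nd 26032 = n26070 := ndS (p := 26004) (l := 2) rfl N26004 D26070
theorem N26033 : nd 26033 = n26071 := ndS (p := 26007) (l := 4) rfl N26007 D26071
theorem N26034 : nd 26034 = n26072 := ndS (p := 26008) (l := 3) rfl N26008 D26072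
theorem N26035 : nd 26035 = n26073 := ndS (p := 26010) (l := 1) rfl N26010 D26073
theorem N26036 : nd 26036 = n26074 := ndS (p := 26012) (l := 1) rfl N26012 D26074
theorem N26037 : nd 26037 = n26075 := ndS (p := 26013) (l := 3) rfl N26013 D26075
theorem N26038 : nd 26038 = n26076 := ndS (p := 26015) (l := 4) rfl N26015 D26076
theorem N26039 : nd 26039 = n26077 := ndS (p := 26017) (l := 3) rfl N26017 D26077
theorem N26040 : nd 26040 = n26078 := ndS (p := 26021) (l := 1) rfl N26021 D26078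
theorem N26041 : nd 26041 = n26079 := ndS (p := 26021) (l := 3) rfl N26021 D26079
theorem N26042 : nd 26042 = n26080 := ndS (p := 26022) (l := 4) rfl N26022 D26080
theorem N26043 : nd 26043 = n26081 := ndS (p := 26024) (l := 3) rfl N26024 D26081
theorem N26044 : nd 26044 = n26082 := ndS (p := 26025) (l := 4) rfl N26025 D26082
theorem N26045 : nd 26045 = n26083 := ndS (p := 26026) (l := 2) rfl N26026 D26083
theorem N26046 : nd 26046 = n26084 := ndS (p := 26027) (l := 3) rfl N26027 D26084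
theorem N26047 : nd 26047 = n26085 := ndS (p := 26028) (l := 4) rfl N26028 D26085
theorem N26048 : nd 26048 = n26086 := ndS (p := 26029) (l := 4) rfl N26029 D26086
theorem N26049 : nd 26049 = n26087 := ndS (p := 26030) (l := 2) rfl N26030 D26087
theorem N26050 : nd 26050 = n26088 := ndS (p := 26031) (l := 4) rfl N26031 D26088
theorem N26051 : nd 26051 = n26089 := ndS (p := 26032) (l := 1) rfl N26032 D26089
theorem N26052 : nd 26052 = n26090 := ndS (p := 26040) (l := 3) rfl N26040 D26090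
theorem N26053 : nd 26053 = n26091 := ndS (p := 26041) (l := 4) rfl N26041 D26091
theorem N26054 : nd 26054 = n26092 := ndS (p := 26043) (l := 2) rfl N26043 D26092
theorem N26055 : nd 26055 = n26093 := ndS (p := 26043) (l := 4) rfl N26043 D26093
theorem N26056 : nd 26056 = n26094 := ndS (p := 26046) (l := 2) rfl N26046 D26094
theorem N26057 : nd 26057 = n26095 := ndS (p := 26046) (l := 4) rfl N26046 D26095
theorem N26058 : nd 26058 = n26096 := ndS (p := 26049) (l := 1) rfl N26049 D26096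
theorem N26059 : nd 26059 = n26097 := ndS (p := 26052) (l := 2) rfl N26052 D26097
theorem N26060 : nd 26060 = n26098 := ndS (p := 26052) (l := 4) rfl N26052 D26098
theorem N26061 : nd 26061 = n26099 := ndS (p := 26054) (l := 4) rfl N26054 D26099
theorem N26062 : nd 26062 = n26100 := ndS (p := 26056) (l := 4) rfl N26056 D26100
theorem N26063 : nd 26063 = n26101 := ndS (p := 26059) (l := 4) rfl N26059 D26101
theorem N26064 : nd 26064 = n26102 := ndS (p := 26061) (l := 3) rfl N26061 D26102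
theorem N26065 : nd 26065 = n26103 := ndS (p := 26062) (l := 3) rfl N26062 D26103
theorem N26066 : nd 26066 = n26104 := ndS (p := 26063) (l := 3) rfl N26063 D26104
theorem N26067 : nd 26067 = n26105 := ndS (p := 26066) (l := 2) rfl N26066 D26105
theorem Q1 : ∀ i, i < 1 → P i := stepQ 0 Q0 (allL N0 (tt N0 F1) (tt N0 F2) (tt N0 F3) (tt N1 D1) (tt N0 F4) (tt N0 F5))
theorem Q2 : ∀ i, i < 2 → P i := stepQ 1 Q1 (allL N1 (tt N1 F6) (tt N1 F7) (tt N2 D2) (tt N0 (iv D1)) (tt N3 D3) (tt N1 F8))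
theorem Q3 : ∀ i, i < 3 → P i := stepQ 2 Q2 (allL N2 (tt N2 F9) (tt N4 D4) (tt N1 (iv D2)) (tt N5 D5) (tt N6 D6) (tt N2 F10))
theorem Q4 : ∀ i, i < 4 → P i := stepQ 3 Q3 (allL N3 (tt N3 F11) (tt N3 F12) (tt N6 (iv F20)) (tt N3 F13) (tt N1 (iv D3)) (tt N7 D7))
theorem Q5 : ∀ i, i < 5 → P i := stepQ 4 Q4 (allL N4 (tt N8 D8) (tt N2 (iv D4)) (tt N4 F14) (tt N9 D9) (tt N10 D10) (tt N4 F15))
theorem Q6 : ∀ i, i < 6 → P i := stepQ 5 Q5 (allL N5 (tt N5 F16) (tt N9 (iv F28)) (tt N5 F18) (tt N2 (iv D5)) (tt N11 D11) (tt N5 F17))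
theorem Q7 : ∀ i, i < 7 → P i := stepQ 6 Q6 (allL N6 (tt N6 F19) (tt N10 (iv F30)) (tt N3 F20) (tt N12 D12) (tt N2 (iv D6)) (tt N13 D13))
theorem Q8 : ∀ i, i < 8 → P i := stepQ 7 Q7 (allL N7 (tt N7 F21) (tt N7 F22) (tt N13 (iv F36)) (tt N7 F23) (tt N7 F24) (tt N3 (iv D7)))
theorem Q9 : ∀ i, i < 9 → P i := stepQ 8 Q8 (allL N8 (tt N4 (iv D8)) (tt N8 F25) (tt N8 F26) (tt N14 D14) (tt N15 D15) (tt N8 F27))
theorem Q10 : ∀ i, i < 10 → P i := stepQ 9 Q9 (allL N9 (tt N14 (iv F38)) (tt N5 F28) (tt N16 D16) (tt N4 (iv D9)) (tt N17 D17) (tt N9 F29))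
theorem Q11 : ∀ i, i < 11 → P i := stepQ 10 Q10 (allL N10 (tt N15 (iv F41)) (tt N6 F30) (tt N10 F31) (tt N18 D18) (tt N4 (iv D10)) (tt N19 D19))
theorem Q12 : ∀ i, i < 12 → P i := stepQ 11 Q11 (allL N11 (tt N11 F32) (tt N17 (iv F46)) (tt N11 F33) (tt N20 D20) (tt N5 (iv D11)) (tt N21 D21))
theorem Q13 : ∀ i, i < 13 → P i := stepQ 12 Q12 (allL N12 (tt N12 F34) (tt N18 (iv F47)) (tt N22 D22) (tt N6 (iv D12)) (tt N20 (iv F52)) (tt N23 D23))
theorem Q14 : ∀ i, i < 14 → P i := stepQ 13 Q13 (allL N13 (tt N13 F35) (tt N19 (iv F48)) (tt N7 F36) (tt N23 (iv F58)) (tt N13 F37) (tt N6 (iv D13)))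
theorem Q15 : ∀ i, i < 15 → P i := stepQ 14 Q14 (allL N14 (tt N9 F38) (tt N14 F39) (tt N24 D24) (tt N8 (iv D14)) (tt N25 D25) (tt N14 F40))
theorem Q16 : ∀ i, i < 16 → P i := stepQ 15 Q15 (allL N15 (tt N10 F41) (tt N15 F42) (tt N15 F43) (tt N26 D26) (tt N8 (iv D15)) (tt N27 D27))
theorem Q17 : ∀ i, i < 17 → P i := stepQ 16 Q16 (allL N16 (tt N24 (iv F59)) (tt N16 F44) (tt N9 (iv D16)) (tt N28 D28) (tt N29 D29) (tt N16 F45))
theorem Q18 : ∀ i, i < 18 → P i := stepQ 17 Q17 (allL N17 (tt N25 (iv F61)) (tt N11 F46) (tt N29 (iv F72)) (tt N30 D30) (tt N9 (iv D17)) (tt N31 D31))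
theorem Q19 : ∀ i, i < 19 → P i := stepQ 18 Q18 (allL N18 (tt N26 (iv F63)) (tt N12 F47) (tt N32 D32) (tt N10 (iv D18)) (tt N30 (iv F74)) (tt N33 D33))
theorem Q20 : ∀ i, i < 20 → P i := stepQ 19 Q19 (allL N19 (tt N27 (iv F65)) (tt N13 F48) (tt N19 F49) (tt N33 (iv F78)) (tt N19 F50) (tt N10 (iv D19)))
theorem Q21 : ∀ i, i < 21 → P i := stepQ 20 Q20 (allL N20 (tt N20 F51) (tt N30 (iv F73)) (tt N34 D34) (tt N11 (iv D20)) (tt N12 F52) (tt N35 D35))
theorem Q22 : ∀ i, i < 22 → P i := stepQ 21 Q21 (allL N21 (tt N21 F53) (tt N31 (iv F75)) (tt N21 F54) (tt N35 (iv F82)) (tt N21 F55) (tt N11 (iv D21)))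
theorem Q23 : ∀ i, i < 23 → P i := stepQ 22 Q22 (allL N22 (tt N22 F56) (tt N36 D36) (tt N12 (iv D22)) (tt N37 D37) (tt N34 (iv F80)) (tt N37 (iv F85)))
theorem Q24 : ∀ i, i < 24 → P i := stepQ 23 Q23 (allL N23 (tt N23 F57) (tt N33 (iv F77)) (tt N37 (iv F84)) (tt N13 F58) (tt N38 D38) (tt N12 (iv D23)))
theorem Q25 : ∀ i, i < 25 → P i := stepQ 24 Q24 (allL N24 (tt N16 F59) (tt N39 D39) (tt N14 (iv D24)) (tt N40 D40) (tt N41 D41) (tt N24 F60))
theorem Q26 : ∀ i, i < 26 → P i := stepQ 25 Q25 (allL N25 (tt N17 F61) (tt N25 F62) (tt N41 (iv F95)) (tt N42 D42) (tt N14 (iv D25)) (tt N43 D43))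
theorem Q27 : ∀ i, i < 27 → P i := stepQ 26 Q26 (allL N26 (tt N18 F63) (tt N26 F64) (tt N44 D44) (tt N15 (iv D26)) (tt N42 (iv F98)) (tt N45 D45))
theorem Q28 : ∀ i, i < 28 → P i := stepQ 27 Q27 (allL N27 (tt N19 F65) (tt N27 F66) (tt N27 F67) (tt N45 (iv F105)) (tt N27 F68) (tt N15 (iv D27)))
theorem Q29 : ∀ i, i < 29 → P i := stepQ 28 Q28 (allL N28 (tt N40 (iv F91)) (tt N28 F69) (tt N40 (iv F93)) (tt N16 (iv D28)) (tt N46 D46) (tt N28 F70))
theorem Q30 : ∀ i, i < 30 → P i := stepQ 29 Q29 (allL N29 (tt N41 (iv F94)) (tt N29 F71) (tt N17 F72) (tt N47 D47) (tt N16 (iv D29)) (tt N48 D48))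
theorem Q31 : ∀ i, i < 31 → P i := stepQ 30 Q30 (allL N30 (tt N42 (iv F96)) (tt N20 F73) (tt N49 D49) (tt N17 (iv D30)) (tt N18 F74) (tt N50 D50))
theorem Q32 : ∀ i, i < 32 → P i := stepQ 31 Q31 (allL N31 (tt N43 (iv F99)) (tt N21 F75) (tt N48 (iv F109)) (tt N50 (iv F113)) (tt N31 F76) (tt N17 (iv D31)))
theorem Q33 : ∀ i, i < 33 → P i := stepQ 32 Q32 (allL N32 (tt N44 (iv F102)) (tt N51 D51) (tt N18 (iv D32)) (tt N52 D52) (tt N49 (iv F111)) (tt N53 D53))
theorem Q34 : ∀ i, i < 34 → P i := stepQ 33 Q33 (allL N33 (tt N45 (iv F103)) (tt N23 F77) (tt N53 (iv F115)) (tt N19 F78) (tt N54 D54) (tt N18 (iv D33)))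
theorem Q35 : ∀ i, i < 35 → P i := stepQ 34 Q34 (allL N34 (tt N34 F79) (tt N55 D55) (tt N20 (iv D34)) (tt N56 D56) (tt N22 F80) (tt N57 D57))
theorem Q36 : ∀ i, i < 36 → P i := stepQ 35 Q35 (allL N35 (tt N35 F81) (tt N50 (iv F112)) (tt N57 (iv F121)) (tt N21 F82) (tt N58 D58) (tt N20 (iv D35)))
theorem Q37 : ∀ i, i < 37 → P i := stepQ 36 Q36 (allL N36 (tt N59 D59) (tt N22 (iv D36)) (tt N51 (iv F114)) (tt N60 D60) (tt N55 (iv F118)) (tt N60 F127))
theorem Q38 : ∀ i, i < 38 → P i := stepQ 37 Q37 (allL N37 (tt N37 F83) (tt N60 (iv F126)) (tt N23 F84) (tt N22 (iv D37)) (tt N61 D61) (tt N22 F85))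
theorem Q39 : ∀ i, i < 39 → P i := stepQ 38 Q38 (allL N38 (tt N38 F86) (tt N54 (iv F116)) (tt N61 (iv F129)) (tt N38 F87) (tt N23 (iv D38)) (tt N58 (iv F124)))
theorem Q40 : ∀ i, i < 40 → P i := stepQ 39 Q39 (allL N39 (tt N39 F88) (tt N24 (iv D39)) (tt N39 F89) (tt N62 D62) (tt N63 D63) (tt N39 F90))
theorem Q41 : ∀ i, i < 41 → P i := stepQ 40 Q40 (allL N40 (tt N28 F91) (tt N62 (iv F131)) (tt N28 F93) (tt N24 (iv D40)) (tt N64 D64) (tt N40 F92))
theorem Q42 : ∀ i, i < 42 → P i := stepQ 41 Q41 (allL N41 (tt N29 F94) (tt N63 (iv F135)) (tt N25 F95) (tt N65 D65) (tt N24 (iv D41)) (tt N66 D66))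
theorem Q43 : ∀ i, i < 43 → P i := stepQ 42 Q42 (allL N42 (tt N30 F96) (tt N42 F97) (tt N67 D67) (tt N25 (iv D42)) (tt N26 F98) (tt N68 D68))
theorem Q44 : ∀ i, i < 44 → P i := stepQ 43 Q43 (allL N43 (tt N31 F99) (tt N43 F100) (tt N66 (iv F141)) (tt N68 (iv F147)) (tt N43 F101) (tt N25 (iv D43)))
theorem Q45 : ∀ i, i < 45 → P i := stepQ 44 Q44 (allL N44 (tt N32 F102) (tt N69 D69) (tt N26 (iv D44)) (tt N70 D70) (tt N67 (iv F144)) (tt N71 D71))
theorem Q46 : ∀ i, i < 46 → P i := stepQ 45 Q45 (allL N45 (tt N33 F103) (tt N45 F104) (tt N71 (iv F151)) (tt N27 F105) (tt N72 D72) (tt N26 (iv D45)))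
theorem Q47 : ∀ i, i < 47 → P i := stepQ 46 Q46 (allL N46 (tt N64 (iv F137)) (tt N46 F106) (tt N64 (iv F138)) (tt N73 D73) (tt N28 (iv D46)) (tt N74 D74))
theorem Q48 : ∀ i, i < 48 → P i := stepQ 47 Q47 (allL N47 (tt N65 (iv F139)) (tt N47 F107) (tt N75 D75) (tt N29 (iv D47)) (tt N73 (iv F156)) (tt N76 D76))
theorem Q49 : ∀ i, i < 49 → P i := stepQ 48 Q48 (allL N48 (tt N66 (iv F140)) (tt N48 F108) (tt N31 F109) (tt N76 (iv F160)) (tt N48 F110) (tt N29 (iv D48)))
theorem Q50 : ∀ i, i < 50 → P i := stepQ 49 Q49 (allL N49 (tt N67 (iv F143)) (tt N77 D77) (tt N30 (iv D49)) (tt N78 D78) (tt N32 F111) (tt N79 D79))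
theorem Q51 : ∀ i, i < 51 → P i := stepQ 50 Q50 (allL N50 (tt N68 (iv F145)) (tt N35 F112) (tt N79 (iv F163)) (tt N31 F113) (tt N80 D80) (tt N30 (iv D50)))
theorem Q52 : ∀ i, i < 52 → P i := stepQ 51 Q51 (allL N51 (tt N81 D81) (tt N32 (iv D51)) (tt N36 F114) (tt N82 D82) (tt N77 (iv F162)) (tt N83 D83))
theorem Q53 : ∀ i, i < 53 → P i := stepQ 52 Q52 (allL N52 (tt N70 (iv F149)) (tt N82 (iv F168)) (tt N84 D84) (tt N32 (iv D52)) (tt N85 D85) (tt N86 D86))
theorem Q54 : ∀ i, i < 54 → P i := stepQ 53 Q53 (allL N53 (tt N71 (iv F150)) (tt N83 (iv F169)) (tt N33 F115) (tt N86 (iv F175)) (tt N87 D87) (tt N32 (iv D53)))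
theorem Q55 : ∀ i, i < 55 → P i := stepQ 54 Q54 (allL N54 (tt N72 (iv F152)) (tt N38 F116) (tt N87 (iv F176)) (tt N54 F117) (tt N33 (iv D54)) (tt N80 (iv F166)))
theorem Q56 : ∀ i, i < 56 → P i := stepQ 55 Q55 (allL N55 (tt N88 D88) (tt N34 (iv D55)) (tt N77 (iv F161)) (tt N89 D89) (tt N36 F118) (tt N90 D90))
theorem Q57 : ∀ i, i < 57 → P i := stepQ 56 Q56 (allL N56 (tt N56 F119) (tt N89 (iv F179)) (tt N91 D91) (tt N34 (iv D56)) (tt N92 D92) (tt N91 F183))
theorem Q58 : ∀ i, i < 58 → P i := stepQ 57 Q57 (allL N57 (tt N57 F120) (tt N90 (iv F180)) (tt N35 F121) (tt N91 (iv F182)) (tt N93 D93) (tt N34 (iv D57)))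
theorem Q59 : ∀ i, i < 59 → P i := stepQ 58 Q58 (allL N58 (tt N58 F122) (tt N80 (iv F164)) (tt N93 (iv F187)) (tt N58 F123) (tt N35 (iv D58)) (tt N38 F124))
theorem Q60 : ∀ i, i < 60 → P i := stepQ 59 Q59 (allL N59 (tt N36 (iv D59)) (tt N59 F125) (tt N81 (iv F167)) (tt N94 D94) (tt N88 (iv F178)) (tt N94 F191))
theorem Q61 : ∀ i, i < 61 → P i := stepQ 60 Q60 (allL N60 (tt N94 (iv F189)) (tt N37 F126) (tt N83 (iv F170)) (tt N36 (iv D60)) (tt N95 D95) (tt N36 (iv F127)))
theorem Q62 : ∀ i, i < 62 → P i := stepQ 61 Q61 (allL N61 (tt N61 F128) (tt N95 (iv F192)) (tt N38 F129) (tt N92 (iv F185)) (tt N37 (iv D61)) (tt N93 (iv F188)))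
theorem Q63 : ∀ i, i < 63 → P i := stepQ 62 Q62 (allL N62 (tt N62 F130) (tt N40 F131) (tt N62 F133) (tt N39 (iv D62)) (tt N96 D96) (tt N62 F132))
theorem Q64 : ∀ i, i < 64 → P i := stepQ 63 Q63 (allL N63 (tt N63 F134) (tt N41 F135) (tt N63 F136) (tt N97 D97) (tt N39 (iv D63)) (tt N98 D98))
theorem Q65 : ∀ i, i < 65 → P i := stepQ 64 Q64 (allL N64 (tt N46 F137) (tt N96 (iv F194)) (tt N46 F138) (tt N99 D99) (tt N40 (iv D64)) (tt N100 D100))
theorem Q66 : ∀ i, i < 66 → P i := stepQ 65 Q65 (allL N65 (tt N47 F139) (tt N97 (iv F197)) (tt N101 D101) (tt N41 (iv D65)) (tt N99 (iv F203)) (tt N102 D102))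
theorem Q67 : ∀ i, i < 67 → P i := stepQ 66 Q66 (allL N66 (tt N48 F140) (tt N98 (iv F199)) (tt N43 F141) (tt N102 (iv F209)) (tt N66 F142) (tt N41 (iv D66)))
theorem Q68 : ∀ i, i < 68 → P i := stepQ 67 Q67 (allL N67 (tt N49 F143) (tt N103 D103) (tt N42 (iv D67)) (tt N104 D104) (tt N44 F144) (tt N105 D105))
theorem Q69 : ∀ i, i < 69 → P i := stepQ 68 Q68 (allL N68 (tt N50 F145) (tt N68 F146) (tt N105 (iv F214)) (tt N43 F147) (tt N106 D106) (tt N42 (iv D68)))
theorem Q70 : ∀ i, i < 70 → P i := stepQ 69 Q69 (allL N69 (tt N107 D107) (tt N44 (iv D69)) (tt N69 F148) (tt N108 D108) (tt N103 (iv F211)) (tt N109 D109))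
theorem Q71 : ∀ i, i < 71 → P i := stepQ 70 Q70 (allL N70 (tt N52 F149) (tt N108 (iv F221)) (tt N86 (iv F174)) (tt N44 (iv D70)) (tt N110 D110) (tt N84 F172))
theorem Q72 : ∀ i, i < 72 → P i := stepQ 71 Q71 (allL N71 (tt N53 F150) (tt N109 (iv F222)) (tt N45 F151) (tt N84 (iv F171)) (tt N111 D111) (tt N44 (iv D71)))
theorem Q73 : ∀ i, i < 73 → P i := stepQ 72 Q72 (allL N72 (tt N54 F152) (tt N72 F153) (tt N111 (iv F226)) (tt N72 F154) (tt N45 (iv D72)) (tt N106 (iv F218)))
theorem Q74 : ∀ i, i < 74 → P i := stepQ 73 Q73 (allL N73 (tt N99 (iv F202)) (tt N73 F155) (tt N112 D112) (tt N46 (iv D73)) (tt N47 F156) (tt N113 D113))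
theorem Q75 : ∀ i, i < 75 → P i := stepQ 74 Q74 (allL N74 (tt N100 (iv F204)) (tt N74 F157) (tt N100 (iv F205)) (tt N113 (iv F229)) (tt N74 F158) (tt N46 (iv D74)))
theorem Q76 : ∀ i, i < 76 → P i := stepQ 75 Q75 (allL N75 (tt N101 (iv F207)) (tt N114 D114) (tt N47 (iv D75)) (tt N115 D115) (tt N112 (iv F227)) (tt N116 D116))
theorem Q77 : ∀ i, i < 77 → P i := stepQ 76 Q76 (allL N76 (tt N102 (iv F208)) (tt N76 F159) (tt N116 (iv F231)) (tt N48 F160) (tt N117 D117) (tt N47 (iv D76)))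
theorem Q78 : ∀ i, i < 78 → P i := stepQ 77 Q77 (allL N77 (tt N118 D118) (tt N49 (iv D77)) (tt N55 F161) (tt N119 D119) (tt N51 F162) (tt N120 D120))
theorem Q79 : ∀ i, i < 79 → P i := stepQ 78 Q78 (allL N78 (tt N104 (iv F212)) (tt N119 (iv F236)) (tt N121 D121) (tt N49 (iv D78)) (tt N122 D122) (tt N123 D123))
theorem Q80 : ∀ i, i < 80 → P i := stepQ 79 Q79 (allL N79 (tt N105 (iv F213)) (tt N120 (iv F237)) (tt N50 F163) (tt N123 (iv F240)) (tt N124 D124) (tt N49 (iv D79)))
theorem Q81 : ∀ i, i < 81 → P i := stepQ 80 Q80 (allL N80 (tt N106 (iv F215)) (tt N58 F164) (tt N124 (iv F241)) (tt N80 F165) (tt N50 (iv D80)) (tt N54 F166))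
theorem Q82 : ∀ i, i < 82 → P i := stepQ 81 Q81 (allL N81 (tt N51 (iv D81)) (tt N107 (iv F219)) (tt N59 F167) (tt N125 D125) (tt N118 (iv F235)) (tt N126 D126))
theorem Q83 : ∀ i, i < 83 → P i := stepQ 82 Q82 (allL N82 (tt N125 (iv F243)) (tt N52 F168) (tt N127 D127) (tt N51 (iv D82)) (tt N128 D128) (tt N129 D129))
theorem Q84 : ∀ i, i < 84 → P i := stepQ 83 Q83 (allL N83 (tt N126 (iv F244)) (tt N53 F169) (tt N60 F170) (tt N129 (iv F248)) (tt N130 D130) (tt N51 (iv D83)))
theorem Q85 : ∀ i, i < 85 → P i := stepQ 84 Q84 (allL N84 (tt N86 (iv F173)) (tt N131 D131) (tt N52 (iv D84)) (tt N71 F171) (tt N132 D132) (tt N70 (iv F172)))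
theorem Q86 : ∀ i, i < 86 → P i := stepQ 85 Q85 (allL N85 (tt N110 (iv F224)) (tt N128 (iv F246)) (tt N132 (iv F253)) (tt N122 (iv F239)) (tt N52 (iv D85)) (tt N133 D133))
theorem Q87 : ∀ i, i < 87 → P i := stepQ 86 Q86 (allL N86 (tt N84 F173) (tt N129 (iv F247)) (tt N70 F174) (tt N53 F175) (tt N134 D134) (tt N52 (iv D86)))
theorem Q88 : ∀ i, i < 88 → P i := stepQ 87 Q87 (allL N87 (tt N111 (iv F225)) (tt N130 (iv F249)) (tt N54 F176) (tt N135 D135) (tt N53 (iv D87)) (tt N124 (iv F242)))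
theorem Q89 : ∀ i, i < 89 → P i := stepQ 88 Q88 (allL N88 (tt N55 (iv D88)) (tt N88 F177) (tt N118 (iv F234)) (tt N136 D136) (tt N59 F178) (tt N137 D137))
theorem Q90 : ∀ i, i < 90 → P i := stepQ 89 Q89 (allL N89 (tt N136 (iv F256)) (tt N56 F179) (tt N138 D138) (tt N55 (iv D89)) (tt N139 D139) (tt N140 D140))
theorem Q91 : ∀ i, i < 91 → P i := stepQ 90 Q90 (allL N90 (tt N137 (iv F258)) (tt N57 F180) (tt N120 (iv F238)) (tt N140 (iv F263)) (tt N141 D141) (tt N55 (iv D90)))
theorem Q92 : ∀ i, i < 92 → P i := stepQ 91 Q91 (allL N91 (tt N91 F181) (tt N140 (iv F262)) (tt N56 (iv D91)) (tt N57 F182) (tt N142 D142) (tt N56 (iv F183)))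
theorem Q93 : ∀ i, i < 93 → P i := stepQ 92 Q92 (allL N92 (tt N92 F184) (tt N139 (iv F260)) (tt N142 (iv F267)) (tt N61 F185) (tt N56 (iv D92)) (tt N143 D143))
theorem Q94 : ∀ i, i < 94 → P i := stepQ 93 Q93 (allL N93 (tt N93 F186) (tt N141 (iv F264)) (tt N58 F187) (tt N143 (iv F269)) (tt N57 (iv D93)) (tt N61 F188))
theorem Q95 : ∀ i, i < 95 → P i := stepQ 94 Q94 (allL N94 (tt N60 F189) (tt N94 F190) (tt N126 (iv F245)) (tt N59 (iv D94)) (tt N144 D144) (tt N59 (iv F191)))
theorem Q96 : ∀ i, i < 96 → P i := stepQ 95 Q95 (allL N95 (tt N144 (iv F270)) (tt N61 F192) (tt N130 (iv F250)) (tt N139 (iv F261)) (tt N60 (iv D95)) (tt N141 (iv F265)))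
theorem Q97 : ∀ i, i < 97 → P i := stepQ 96 Q96 (allL N96 (tt N96 F193) (tt N64 F194) (tt N96 F195) (tt N145 D145) (tt N62 (iv D96)) (tt N146 D146))
theorem Q98 : ∀ i, i < 98 → P i := stepQ 97 Q97 (allL N97 (tt N97 F196) (tt N65 F197) (tt N147 D147) (tt N63 (iv D97)) (tt N145 (iv F274)) (tt N148 D148))
theorem Q99 : ∀ i, i < 99 → P i := stepQ 98 Q98 (allL N98 (tt N98 F198) (tt N66 F199) (tt N98 F200) (tt N148 (iv F282)) (tt N98 F201) (tt N63 (iv D98)))
theorem Q100 : ∀ i, i < 100 → P i := stepQ 99 Q99 (allL N99 (tt N73 F202) (tt N145 (iv F273)) (tt N149 D149) (tt N64 (iv D99)) (tt N65 F203) (tt N150 D150))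
theorem Q101 : ∀ i, i < 101 → P i := stepQ 100 Q100 (allL N100 (tt N74 F204) (tt N146 (iv F276)) (tt N74 F205) (tt N150 (iv F286)) (tt N100 F206) (tt N64 (iv D100)))
theorem Q102 : ∀ i, i < 102 → P i := stepQ 101 Q101 (allL N101 (tt N75 F207) (tt N151 D151) (tt N65 (iv D101)) (tt N152 D152) (tt N149 (iv F284)) (tt N153 D153))
theorem Q103 : ∀ i, i < 103 → P i := stepQ 102 Q102 (allL N102 (tt N76 F208) (tt N148 (iv F281)) (tt N153 (iv F291)) (tt N66 F209) (tt N154 D154) (tt N65 (iv D102)))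
theorem Q104 : ∀ i, i < 104 → P i := stepQ 103 Q103 (allL N103 (tt N155 D155) (tt N67 (iv D103)) (tt N103 F210) (tt N156 D156) (tt N69 F211) (tt N157 D157))
theorem Q105 : ∀ i, i < 105 → P i := stepQ 104 Q104 (allL N104 (tt N78 F212) (tt N156 (iv F298)) (tt N158 D158) (tt N67 (iv D104)) (tt N159 D159) (tt N160 D160))
theorem Q106 : ∀ i, i < 106 → P i := stepQ 105 Q105 (allL N105 (tt N79 F213) (tt N157 (iv F299)) (tt N68 F214) (tt N160 (iv F308)) (tt N161 D161) (tt N67 (iv D105)))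
theorem Q107 : ∀ i, i < 107 → P i := stepQ 106 Q106 (allL N106 (tt N80 F215) (tt N106 F216) (tt N161 (iv F310)) (tt N106 F217) (tt N68 (iv D106)) (tt N72 F218))
theorem Q108 : ∀ i, i < 108 → P i := stepQ 107 Q107 (allL N107 (tt N69 (iv D107)) (tt N81 F219) (tt N107 F220) (tt N162 D162) (tt N155 (iv F297)) (tt N163 D163))
theorem Q109 : ∀ i, i < 109 → P i := stepQ 108 Q108 (allL N108 (tt N162 (iv F312)) (tt N70 F221) (tt N164 D164) (tt N69 (iv D108)) (tt N165 D165) (tt N131 (iv F252)))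
theorem Q110 : ∀ i, i < 110 → P i := stepQ 109 Q109 (allL N109 (tt N163 (iv F314)) (tt N71 F222) (tt N109 F223) (tt N131 (iv F251)) (tt N166 D166) (tt N69 (iv D109)))
theorem Q111 : ∀ i, i < 111 → P i := stepQ 110 Q110 (allL N110 (tt N85 F224) (tt N165 (iv F317)) (tt N134 (iv F255)) (tt N159 (iv F305)) (tt N70 (iv D110)) (tt N167 D167))
theorem Q112 : ∀ i, i < 112 → P i := stepQ 111 Q111 (allL N111 (tt N87 F225) (tt N166 (iv F318)) (tt N72 F226) (tt N168 D168) (tt N71 (iv D111)) (tt N161 (iv F311)))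
theorem Q113 : ∀ i, i < 113 → P i := stepQ 112 Q112 (allL N112 (tt N149 (iv F283)) (tt N169 D169) (tt N73 (iv D112)) (tt N170 D170) (tt N75 F227) (tt N171 D171))
theorem Q114 : ∀ i, i < 114 → P i := stepQ 113 Q113 (allL N113 (tt N150 (iv F285)) (tt N113 F228) (tt N171 (iv F324)) (tt N74 F229) (tt N172 D172) (tt N73 (iv D113)))
theorem Q115 : ∀ i, i < 115 → P i := stepQ 114 Q114 (allL N114 (tt N173 D173) (tt N75 (iv D114)) (tt N114 F230) (tt N174 D174) (tt N169 (iv F323)) (tt N175 D175))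
theorem Q116 : ∀ i, i < 116 → P i := stepQ 115 Q115 (allL N115 (tt N152 (iv F287)) (tt N174 (iv F329)) (tt N160 (iv F307)) (tt N75 (iv D115)) (tt N176 D176) (tt N158 F303))
theorem Q117 : ∀ i, i < 117 → P i := stepQ 116 Q116 (allL N116 (tt N153 (iv F290)) (tt N175 (iv F330)) (tt N76 F231) (tt N158 (iv F302)) (tt N177 D177) (tt N75 (iv D116)))
theorem Q118 : ∀ i, i < 118 → P i := stepQ 117 Q117 (allL N117 (tt N154 (iv F293)) (tt N117 F232) (tt N177 (iv F332)) (tt N117 F233) (tt N76 (iv D117)) (tt N172 (iv F327)))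
theorem Q119 : ∀ i, i < 119 → P i := stepQ 118 Q118 (allL N118 (tt N77 (iv D118)) (tt N155 (iv F295)) (tt N88 F234) (tt N178 D178) (tt N81 F235) (tt N179 D179))
theorem Q120 : ∀ i, i < 120 → P i := stepQ 119 Q119 (allL N119 (tt N178 (iv F333)) (tt N78 F236) (tt N180 D180) (tt N77 (iv D119)) (tt N181 D181) (tt N182 D182))
theorem Q121 : ∀ i, i < 121 → P i := stepQ 120 Q120 (allL N120 (tt N179 (iv F334)) (tt N79 F237) (tt N90 F238) (tt N182 (iv F339)) (tt N183 D183) (tt N77 (iv D120)))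
theorem Q122 : ∀ i, i < 122 → P i := stepQ 121 Q121 (allL N121 (tt N158 (iv F301)) (tt N184 D184) (tt N78 (iv D121)) (tt N153 (iv F292)) (tt N185 D185) (tt N152 F289))
theorem Q123 : ∀ i, i < 123 → P i := stepQ 122 Q122 (allL N122 (tt N159 (iv F304)) (tt N181 (iv F336)) (tt N185 (iv F343)) (tt N85 F239) (tt N78 (iv D122)) (tt N186 D186))
theorem Q124 : ∀ i, i < 124 → P i := stepQ 123 Q123 (allL N123 (tt N160 (iv F306)) (tt N182 (iv F338)) (tt N152 (iv F288)) (tt N79 F240) (tt N187 D187) (tt N78 (iv D123)))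
theorem Q125 : ∀ i, i < 125 → P i := stepQ 124 Q124 (allL N124 (tt N161 (iv F309)) (tt N183 (iv F340)) (tt N80 F241) (tt N188 D188) (tt N79 (iv D124)) (tt N87 F242))
theorem Q126 : ∀ i, i < 126 → P i := stepQ 125 Q125 (allL N125 (tt N82 F243) (tt N162 (iv F313)) (tt N189 D189) (tt N81 (iv D125)) (tt N190 D190) (tt N191 D191))
theorem Q127 : ∀ i, i < 127 → P i := stepQ 126 Q126 (allL N126 (tt N83 F244) (tt N163 (iv F315)) (tt N94 F245) (tt N191 (iv F350)) (tt N192 D192) (tt N81 (iv D126)))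
theorem Q128 : ∀ i, i < 128 → P i := stepQ 127 Q127 (allL N127 (tt N189 (iv F346)) (tt N193 D193) (tt N82 (iv D127)) (tt N189 (iv F347)) (tt N194 D194) (tt N195 D195))
theorem Q129 : ∀ i, i < 129 → P i := stepQ 128 Q128 (allL N128 (tt N190 (iv F348)) (tt N85 F246) (tt N194 (iv F355)) (tt N181 (iv F337)) (tt N82 (iv D128)) (tt N196 D196))
theorem Q130 : ∀ i, i < 130 → P i := stepQ 129 Q129 (allL N129 (tt N191 (iv F349)) (tt N86 F247) (tt N195 (iv F357)) (tt N83 F248) (tt N197 D197) (tt N82 (iv D129)))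
theorem Q131 : ∀ i, i < 131 → P i := stepQ 130 Q130 (allL N130 (tt N192 (iv F351)) (tt N87 F249) (tt N95 F250) (tt N198 D198) (tt N83 (iv D130)) (tt N183 (iv F342)))
theorem Q132 : ∀ i, i < 132 → P i := stepQ 131 Q131 (allL N131 (tt N199 D199) (tt N84 (iv D131)) (tt N193 (iv F353)) (tt N109 F251) (tt N200 D200) (tt N108 F252))
theorem Q133 : ∀ i, i < 133 → P i := stepQ 132 Q132 (allL N132 (tt N134 (iv F254)) (tt N200 (iv F364)) (tt N85 F253) (tt N201 D201) (tt N84 (iv D132)) (tt N202 D202))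
theorem Q134 : ∀ i, i < 134 → P i := stepQ 133 Q133 (allL N133 (tt N167 (iv F320)) (tt N196 (iv F358)) (tt N202 (iv F366)) (tt N186 (iv F344)) (tt N203 D203) (tt N85 (iv D133)))
theorem Q135 : ∀ i, i < 135 → P i := stepQ 134 Q134 (allL N134 (tt N132 F254) (tt N197 (iv F359)) (tt N110 F255) (tt N204 D204) (tt N86 (iv D134)) (tt N203 (iv F370)))
theorem Q136 : ∀ i, i < 136 → P i := stepQ 135 Q135 (allL N135 (tt N168 (iv F321)) (tt N198 (iv F360)) (tt N205 D205) (tt N87 (iv D135)) (tt N204 (iv F372)) (tt N188 (iv F345)))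
theorem Q137 : ∀ i, i < 137 → P i := stepQ 136 Q136 (allL N136 (tt N89 F256) (tt N136 F257) (tt N206 D206) (tt N88 (iv D136)) (tt N207 D207) (tt N208 D208))
theorem Q138 : ∀ i, i < 138 → P i := stepQ 137 Q137 (allL N137 (tt N90 F258) (tt N137 F259) (tt N179 (iv F335)) (tt N208 (iv F379)) (tt N209 D209) (tt N88 (iv D137)))
theorem Q139 : ∀ i, i < 139 → P i := stepQ 138 Q138 (allL N138 (tt N206 (iv F373)) (tt N210 D210) (tt N89 (iv D138)) (tt N211 D211) (tt N212 D212) (tt N210 F384))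
theorem Q140 : ∀ i, i < 140 → P i := stepQ 139 Q139 (allL N139 (tt N207 (iv F374)) (tt N92 F260) (tt N212 (iv F385)) (tt N95 F261) (tt N89 (iv D139)) (tt N213 D213))
theorem Q141 : ∀ i, i < 141 → P i := stepQ 140 Q140 (allL N140 (tt N208 (iv F377)) (tt N91 F262) (tt N210 (iv F383)) (tt N90 F263) (tt N214 D214) (tt N89 (iv D140)))
theorem Q142 : ∀ i, i < 142 → P i := stepQ 141 Q141 (allL N141 (tt N209 (iv F380)) (tt N93 F264) (tt N183 (iv F341)) (tt N213 (iv F387)) (tt N90 (iv D141)) (tt N95 F265))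
theorem Q143 : ∀ i, i < 143 → P i := stepQ 142 Q142 (allL N142 (tt N142 F266) (tt N214 (iv F388)) (tt N92 F267) (tt N215 D215) (tt N91 (iv D142)) (tt N215 (iv F392)))
theorem Q144 : ∀ i, i < 144 → P i := stepQ 143 Q143 (allL N143 (tt N143 F268) (tt N213 (iv F386)) (tt N215 (iv F391)) (tt N93 F269) (tt N215 (iv F390)) (tt N92 (iv D143)))
theorem Q145 : ∀ i, i < 145 → P i := stepQ 144 Q144 (allL N144 (tt N95 F270) (tt N144 F271) (tt N192 (iv F352)) (tt N207 (iv F376)) (tt N94 (iv D144)) (tt N209 (iv F382)))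
theorem Q146 : ∀ i, i < 146 → P i := stepQ 145 Q145 (allL N145 (tt N145 F272) (tt N99 F273) (tt N216 D216) (tt N96 (iv D145)) (tt N97 F274) (tt N217 D217))
theorem Q147 : ∀ i, i < 147 → P i := stepQ 146 Q146 (allL N146 (tt N146 F275) (tt N100 F276) (tt N146 F277) (tt N217 (iv F397)) (tt N146 F278) (tt N96 (iv D146)))
theorem Q148 : ∀ i, i < 148 → P i := stepQ 147 Q147 (allL N147 (tt N147 F279) (tt N218 D218) (tt N97 (iv D147)) (tt N219 D219) (tt N216 (iv F394)) (tt N220 D220))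
theorem Q149 : ∀ i, i < 149 → P i := stepQ 148 Q148 (allL N148 (tt N148 F280) (tt N102 F281) (tt N220 (iv F401)) (tt N98 F282) (tt N221 D221) (tt N97 (iv D148)))
theorem Q150 : ∀ i, i < 150 → P i := stepQ 149 Q149 (allL N149 (tt N112 F283) (tt N222 D222) (tt N99 (iv D149)) (tt N223 D223) (tt N101 F284) (tt N224 D224))
theorem Q151 : ∀ i, i < 151 → P i := stepQ 150 Q150 (allL N150 (tt N113 F285) (tt N217 (iv F396)) (tt N224 (iv F408)) (tt N100 F286) (tt N225 D225) (tt N99 (iv D150)))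
theorem Q152 : ∀ i, i < 152 → P i := stepQ 151 Q151 (allL N151 (tt N226 D226) (tt N101 (iv D151)) (tt N218 (iv F398)) (tt N227 D227) (tt N222 (iv F405)) (tt N228 D228))
theorem Q153 : ∀ i, i < 153 → P i := stepQ 152 Q152 (allL N152 (tt N115 F287) (tt N227 (iv F413)) (tt N123 F288) (tt N101 (iv D152)) (tt N229 D229) (tt N121 (iv F289)))
theorem Q154 : ∀ i, i < 154 → P i := stepQ 153 Q153 (allL N153 (tt N116 F290) (tt N228 (iv F415)) (tt N102 F291) (tt N121 F292) (tt N230 D230) (tt N101 (iv D153)))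
theorem Q155 : ∀ i, i < 155 → P i := stepQ 154 Q154 (allL N154 (tt N117 F293) (tt N221 (iv F403)) (tt N230 (iv F420)) (tt N154 F294) (tt N102 (iv D154)) (tt N225 (iv F411)))
theorem Q156 : ∀ i, i < 156 → P i := stepQ 155 Q155 (allL N155 (tt N103 (iv D155)) (tt N118 F295) (tt N155 F296) (tt N231 D231) (tt N107 F297) (tt N232 D232))
theorem Q157 : ∀ i, i < 157 → P i := stepQ 156 Q156 (allL N156 (tt N231 (iv F421)) (tt N104 F298) (tt N233 D233) (tt N103 (iv D156)) (tt N234 D234) (tt N235 D235))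
theorem Q158 : ∀ i, i < 158 → P i := stepQ 157 Q157 (allL N157 (tt N232 (iv F423)) (tt N105 F299) (tt N157 F300) (tt N235 (iv F429)) (tt N236 D236) (tt N103 (iv D157)))
theorem Q159 : ∀ i, i < 159 → P i := stepQ 158 Q158 (allL N158 (tt N121 F301) (tt N237 D237) (tt N104 (iv D158)) (tt N116 F302) (tt N238 D238) (tt N115 (iv F303)))
theorem Q160 : ∀ i, i < 160 → P i := stepQ 159 Q159 (allL N159 (tt N122 F304) (tt N234 (iv F426)) (tt N238 (iv F436)) (tt N110 F305) (tt N104 (iv D159)) (tt N239 D239))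
theorem Q161 : ∀ i, i < 161 → P i := stepQ 160 Q160 (allL N160 (tt N123 F306) (tt N235 (iv F428)) (tt N115 F307) (tt N105 F308) (tt N240 D240) (tt N104 (iv D160)))
theorem Q162 : ∀ i, i < 162 → P i := stepQ 161 Q161 (allL N161 (tt N124 F309) (tt N236 (iv F430)) (tt N106 F310) (tt N241 D241) (tt N105 (iv D161)) (tt N111 F311))
theorem Q163 : ∀ i, i < 163 → P i := stepQ 162 Q162 (allL N162 (tt N108 F312) (tt N125 F313) (tt N242 D242) (tt N107 (iv D162)) (tt N243 D243) (tt N199 (iv F363)))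
theorem Q164 : ∀ i, i < 164 → P i := stepQ 163 Q163 (allL N163 (tt N109 F314) (tt N126 F315) (tt N163 F316) (tt N199 (iv F362)) (tt N244 D244) (tt N107 (iv D163)))
theorem Q165 : ∀ i, i < 165 → P i := stepQ 164 Q164 (allL N164 (tt N242 (iv F443)) (tt N195 (iv F356)) (tt N108 (iv D164)) (tt N245 D245) (tt N246 D246) (tt N193 F354))
theorem Q166 : ∀ i, i < 166 → P i := stepQ 165 Q165 (allL N165 (tt N243 (iv F444)) (tt N110 F317) (tt N246 (iv F449)) (tt N234 (iv F427)) (tt N108 (iv D165)) (tt N247 D247))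
theorem Q167 : ∀ i, i < 167 → P i := stepQ 166 Q166 (allL N166 (tt N244 (iv F446)) (tt N111 F318) (tt N166 F319) (tt N248 D248) (tt N109 (iv D166)) (tt N236 (iv F432)))
theorem Q168 : ∀ i, i < 168 → P i := stepQ 167 Q167 (allL N167 (tt N133 F320) (tt N247 (iv F450)) (tt N203 (iv F369)) (tt N239 (iv F438)) (tt N202 (iv F367)) (tt N110 (iv D167)))
theorem Q169 : ∀ i, i < 169 → P i := stepQ 168 Q168 (allL N168 (tt N135 F321) (tt N248 (iv F451)) (tt N249 D249) (tt N111 (iv D168)) (tt N201 (iv F365)) (tt N241 (iv F442)))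
theorem Q170 : ∀ i, i < 170 → P i := stepQ 169 Q169 (allL N169 (tt N250 D250) (tt N112 (iv D169)) (tt N169 F322) (tt N251 D251) (tt N114 F323) (tt N252 D252))
theorem Q171 : ∀ i, i < 171 → P i := stepQ 170 Q170 (allL N170 (tt N223 (iv F406)) (tt N251 (iv F455)) (tt N253 D253) (tt N112 (iv D170)) (tt N254 D254) (tt N253 F459))
theorem Q172 : ∀ i, i < 172 → P i := stepQ 171 Q171 (allL N171 (tt N224 (iv F407)) (tt N252 (iv F456)) (tt N113 F324) (tt N253 (iv F458)) (tt N255 D255) (tt N112 (iv D171)))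
theorem Q173 : ∀ i, i < 173 → P i := stepQ 172 Q172 (allL N172 (tt N225 (iv F409)) (tt N172 F325) (tt N255 (iv F461)) (tt N172 F326) (tt N113 (iv D172)) (tt N117 F327))
theorem Q174 : ∀ i, i < 174 → P i := stepQ 173 Q173 (allL N173 (tt N114 (iv D173)) (tt N226 (iv F412)) (tt N173 F328) (tt N256 D256) (tt N250 (iv F454)) (tt N257 D257))
theorem Q175 : ∀ i, i < 175 → P i := stepQ 174 Q174 (allL N174 (tt N256 (iv F463)) (tt N115 F329) (tt N258 D258) (tt N114 (iv D174)) (tt N259 D259) (tt N237 (iv F434)))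
theorem Q176 : ∀ i, i < 176 → P i := stepQ 175 Q175 (allL N175 (tt N257 (iv F464)) (tt N116 F330) (tt N175 F331) (tt N237 (iv F433)) (tt N260 D260) (tt N114 (iv D175)))
theorem Q177 : ∀ i, i < 177 → P i := stepQ 176 Q176 (allL N176 (tt N229 (iv F417)) (tt N259 (iv F466)) (tt N240 (iv F440)) (tt N254 (iv F460)) (tt N115 (iv D176)) (tt N261 D261))
theorem Q178 : ∀ i, i < 178 → P i := stepQ 177 Q177 (allL N177 (tt N230 (iv F419)) (tt N260 (iv F467)) (tt N117 F332) (tt N262 D262) (tt N116 (iv D177)) (tt N255 (iv F462)))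
theorem Q179 : ∀ i, i < 179 → P i := stepQ 178 Q178 (allL N178 (tt N119 F333) (tt N231 (iv F422)) (tt N263 D263) (tt N118 (iv D178)) (tt N264 D264) (tt N265 D265))
theorem Q180 : ∀ i, i < 180 → P i := stepQ 179 Q179 (allL N179 (tt N120 F334) (tt N232 (iv F424)) (tt N137 F335) (tt N265 (iv F473)) (tt N266 D266) (tt N118 (iv D179)))
theorem Q181 : ∀ i, i < 181 → P i := stepQ 180 Q180 (allL N180 (tt N263 (iv F469)) (tt N267 D267) (tt N119 (iv D180)) (tt N268 D268) (tt N269 D269) (tt N270 D270))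
theorem Q182 : ∀ i, i < 182 → P i := stepQ 181 Q181 (allL N181 (tt N264 (iv F470)) (tt N122 F336) (tt N269 (iv F478)) (tt N128 F337) (tt N119 (iv D181)) (tt N271 D271))
theorem Q183 : ∀ i, i < 183 → P i := stepQ 182 Q182 (allL N182 (tt N265 (iv F472)) (tt N123 F338) (tt N270 (iv F479)) (tt N120 F339) (tt N272 D272) (tt N119 (iv D182)))
theorem Q184 : ∀ i, i < 184 → P i := stepQ 183 Q183 (allL N183 (tt N266 (iv F474)) (tt N124 F340) (tt N141 F341) (tt N273 D273) (tt N120 (iv D183)) (tt N130 F342))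
theorem Q185 : ∀ i, i < 185 → P i := stepQ 184 Q184 (allL N184 (tt N274 D274) (tt N121 (iv D184)) (tt N267 (iv F477)) (tt N228 (iv F416)) (tt N275 D275) (tt N227 F414))
theorem Q186 : ∀ i, i < 186 → P i := stepQ 185 Q185 (allL N185 (tt N238 (iv F435)) (tt N275 (iv F485)) (tt N122 F343) (tt N276 D276) (tt N121 (iv D185)) (tt N277 D277))
theorem Q187 : ∀ i, i < 187 → P i := stepQ 186 Q186 (allL N186 (tt N239 (iv F437)) (tt N271 (iv F480)) (tt N277 (iv F486)) (tt N133 F344) (tt N278 D278) (tt N122 (iv D186)))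
theorem Q188 : ∀ i, i < 188 → P i := stepQ 187 Q187 (allL N187 (tt N240 (iv F439)) (tt N272 (iv F482)) (tt N229 (iv F418)) (tt N279 D279) (tt N123 (iv D187)) (tt N278 (iv F487)))
theorem Q189 : ∀ i, i < 189 → P i := stepQ 188 Q188 (allL N188 (tt N241 (iv F441)) (tt N273 (iv F483)) (tt N280 D280) (tt N124 (iv D188)) (tt N279 (iv F488)) (tt N135 F345))
theorem Q190 : ∀ i, i < 190 → P i := stepQ 189 Q189 (allL N189 (tt N127 F346) (tt N281 D281) (tt N125 (iv D189)) (tt N127 F347) (tt N282 D282) (tt N283 D283))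
theorem Q191 : ∀ i, i < 191 → P i := stepQ 190 Q190 (allL N190 (tt N128 F348) (tt N243 (iv F445)) (tt N282 (iv F494)) (tt N264 (iv F471)) (tt N125 (iv D190)) (tt N284 D284))
theorem Q192 : ∀ i, i < 192 → P i := stepQ 191 Q191 (allL N191 (tt N129 F349) (tt N199 (iv F361)) (tt N283 (iv F497)) (tt N126 F350) (tt N285 D285) (tt N125 (iv D191)))
theorem Q193 : ∀ i, i < 193 → P i := stepQ 192 Q192 (allL N192 (tt N130 F351) (tt N244 (iv F447)) (tt N144 F352) (tt N286 D286) (tt N126 (iv D192)) (tt N266 (iv F476)))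
theorem Q194 : ∀ i, i < 194 → P i := stepQ 193 Q193 (allL N193 (tt N287 D287) (tt N127 (iv D193)) (tt N131 F353) (tt N281 (iv F491)) (tt N288 D288) (tt N164 (iv F354)))
theorem Q195 : ∀ i, i < 195 → P i := stepQ 194 Q194 (allL N194 (tt N282 (iv F493)) (tt N288 (iv F504)) (tt N128 F355) (tt N289 D289) (tt N127 (iv D194)) (tt N290 D290))
theorem Q196 : ∀ i, i < 196 → P i := stepQ 195 Q195 (allL N195 (tt N283 (iv F495)) (tt N164 F356) (tt N129 F357) (tt N283 (iv F498)) (tt N291 D291) (tt N127 (iv D195)))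
theorem Q197 : ∀ i, i < 197 → P i := stepQ 196 Q196 (allL N196 (tt N284 (iv F499)) (tt N133 F358) (tt N290 (iv F506)) (tt N271 (iv F481)) (tt N292 D292) (tt N128 (iv D196)))
theorem Q198 : ∀ i, i < 198 → P i := stepQ 197 Q197 (allL N197 (tt N285 (iv F500)) (tt N134 F359) (tt N291 (iv F508)) (tt N293 D293) (tt N129 (iv D197)) (tt N292 (iv F510)))
theorem Q199 : ∀ i, i < 199 → P i := stepQ 198 Q198 (allL N198 (tt N286 (iv F501)) (tt N135 F360) (tt N294 D294) (tt N130 (iv D198)) (tt N293 (iv F512)) (tt N273 (iv F484)))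
theorem Q200 : ∀ i, i < 200 → P i := stepQ 199 Q199 (allL N199 (tt N131 (iv D199)) (tt N191 F361) (tt N287 (iv F502)) (tt N163 F362) (tt N295 D295) (tt N162 F363))
theorem Q201 : ∀ i, i < 201 → P i := stepQ 200 Q200 (allL N200 (tt N295 (iv F513)) (tt N132 F364) (tt N288 (iv F505)) (tt N296 D296) (tt N131 (iv D200)) (tt N297 D297))
theorem Q202 : ∀ i, i < 202 → P i := stepQ 201 Q201 (allL N201 (tt N204 (iv F371)) (tt N296 (iv F515)) (tt N298 D298) (tt N132 (iv D201)) (tt N168 F365) (tt N299 D299))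
theorem Q203 : ∀ i, i < 203 → P i := stepQ 202 Q202 (allL N202 (tt N203 (iv F368)) (tt N297 (iv F517)) (tt N133 F366) (tt N299 (iv F520)) (tt N167 F367) (tt N132 (iv D202)))
theorem Q204 : ∀ i, i < 204 → P i := stepQ 203 Q203 (allL N203 (tt N202 F368) (tt N292 (iv F509)) (tt N167 F369) (tt N300 D300) (tt N133 (iv D203)) (tt N134 F370))
theorem Q205 : ∀ i, i < 205 → P i := stepQ 204 Q204 (allL N204 (tt N201 F371) (tt N293 (iv F511)) (tt N301 D301) (tt N134 (iv D204)) (tt N135 F372) (tt N300 (iv F522)))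
theorem Q206 : ∀ i, i < 206 → P i := stepQ 205 Q205 (allL N205 (tt N249 (iv F452)) (tt N302 D302) (tt N135 (iv D205)) (tt N303 D303) (tt N301 (iv F524)) (tt N280 (iv F489)))
theorem Q207 : ∀ i, i < 207 → P i := stepQ 206 Q206 (allL N206 (tt N138 F373) (tt N304 D304) (tt N136 (iv D206)) (tt N305 D305) (tt N306 D306) (tt N307 D307))
theorem Q208 : ∀ i, i < 208 → P i := stepQ 207 Q207 (allL N207 (tt N139 F374) (tt N207 F375) (tt N306 (iv F531)) (tt N144 F376) (tt N136 (iv D207)) (tt N308 D308))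
theorem Q209 : ∀ i, i < 209 → P i := stepQ 208 Q208 (allL N208 (tt N140 F377) (tt N208 F378) (tt N307 (iv F533)) (tt N137 F379) (tt N309 D309) (tt N136 (iv D208)))
theorem Q210 : ∀ i, i < 210 → P i := stepQ 209 Q209 (allL N209 (tt N141 F380) (tt N209 F381) (tt N266 (iv F475)) (tt N308 (iv F536)) (tt N137 (iv D209)) (tt N144 F382))
theorem Q211 : ∀ i, i < 211 → P i := stepQ 210 Q210 (allL N210 (tt N307 (iv F532)) (tt N138 (iv D210)) (tt N140 F383) (tt N310 D310) (tt N311 D311) (tt N138 (iv F384)))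
theorem Q212 : ∀ i, i < 212 → P i := stepQ 211 Q211 (allL N211 (tt N305 (iv F529)) (tt N310 (iv F539)) (tt N312 D312) (tt N138 (iv D211)) (tt N313 D313) (tt N310 (iv F540)))
theorem Q213 : ∀ i, i < 213 → P i := stepQ 212 Q212 (allL N212 (tt N306 (iv F530)) (tt N311 (iv F541)) (tt N139 F385) (tt N314 D314) (tt N138 (iv D212)) (tt N315 D315))
theorem Q214 : ∀ i, i < 214 → P i := stepQ 213 Q213 (allL N213 (tt N308 (iv F534)) (tt N143 F386) (tt N315 (iv F543)) (tt N141 F387) (tt N316 D316) (tt N139 (iv D213)))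
theorem Q215 : ∀ i, i < 215 → P i := stepQ 214 Q214 (allL N214 (tt N309 (iv F537)) (tt N142 F388) (tt N311 (iv F542)) (tt N316 (iv F545)) (tt N140 (iv D214)) (tt N316 (iv F546)))
theorem Q216 : ∀ i, i < 216 → P i := stepQ 215 Q215 (allL N215 (tt N215 F389) (tt N316 (iv F544)) (tt N143 F391) (tt N142 (iv D215)) (tt N143 F390) (tt N142 F392))
theorem Q217 : ∀ i, i < 217 → P i := stepQ 216 Q216 (allL N216 (tt N216 F393) (tt N317 D317) (tt N145 (iv D216)) (tt N318 D318) (tt N147 F394) (tt N319 D319))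
theorem Q218 : ∀ i, i < 218 → P i := stepQ 217 Q217 (allL N217 (tt N217 F395) (tt N150 F396) (tt N319 (iv F551)) (tt N146 F397) (tt N320 D320) (tt N145 (iv D217)))
theorem Q219 : ∀ i, i < 219 → P i := stepQ 218 Q218 (allL N218 (tt N321 D321) (tt N147 (iv D218)) (tt N151 F398) (tt N322 D322) (tt N317 (iv F548)) (tt N323 D323))
theorem Q220 : ∀ i, i < 220 → P i := stepQ 219 Q219 (allL N219 (tt N219 F399) (tt N322 (iv F558)) (tt N324 D324) (tt N147 (iv D219)) (tt N325 D325) (tt N324 F563))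
theorem Q221 : ∀ i, i < 221 → P i := stepQ 220 Q220 (allL N220 (tt N220 F400) (tt N323 (iv F559)) (tt N148 F401) (tt N324 (iv F562)) (tt N326 D326) (tt N147 (iv D220)))
theorem Q222 : ∀ i, i < 222 → P i := stepQ 221 Q221 (allL N221 (tt N221 F402) (tt N154 F403) (tt N326 (iv F566)) (tt N221 F404) (tt N148 (iv D221)) (tt N320 (iv F555)))
theorem Q223 : ∀ i, i < 223 → P i := stepQ 222 Q222 (allL N222 (tt N327 D327) (tt N149 (iv D222)) (tt N317 (iv F547)) (tt N328 D328) (tt N151 F405) (tt N329 D329))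
theorem Q224 : ∀ i, i < 224 → P i := stepQ 223 Q223 (allL N223 (tt N170 F406) (tt N328 (iv F569)) (tt N330 D330) (tt N149 (iv D223)) (tt N331 D331) (tt N330 F573))
theorem Q225 : ∀ i, i < 225 → P i := stepQ 224 Q224 (allL N224 (tt N171 F407) (tt N329 (iv F570)) (tt N150 F408) (tt N330 (iv F572)) (tt N332 D332) (tt N149 (iv D224)))
theorem Q226 : ∀ i, i < 226 → P i := stepQ 225 Q225 (allL N225 (tt N172 F409) (tt N320 (iv F553)) (tt N332 (iv F577)) (tt N225 F410) (tt N150 (iv D225)) (tt N154 F411))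
theorem Q227 : ∀ i, i < 227 → P i := stepQ 226 Q226 (allL N226 (tt N151 (iv D226)) (tt N173 F412) (tt N321 (iv F557)) (tt N333 D333) (tt N327 (iv F568)) (tt N334 D334))
theorem Q228 : ∀ i, i < 228 → P i := stepQ 227 Q227 (allL N227 (tt N333 (iv F579)) (tt N152 F413) (tt N335 D335) (tt N151 (iv D227)) (tt N336 D336) (tt N184 (iv F414)))
theorem Q229 : ∀ i, i < 229 → P i := stepQ 228 Q228 (allL N228 (tt N334 (iv F582)) (tt N153 F415) (tt N323 (iv F560)) (tt N184 F416) (tt N337 D337) (tt N151 (iv D228)))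
theorem Q230 : ∀ i, i < 230 → P i := stepQ 229 Q229 (allL N229 (tt N176 F417) (tt N336 (iv F587)) (tt N187 F418) (tt N331 (iv F575)) (tt N152 (iv D229)) (tt N338 D338))
theorem Q231 : ∀ i, i < 231 → P i := stepQ 230 Q230 (allL N230 (tt N177 F419) (tt N337 (iv F588)) (tt N154 F420) (tt N339 D339) (tt N153 (iv D230)) (tt N332 (iv F578)))
theorem Q232 : ∀ i, i < 232 → P i := stepQ 231 Q231 (allL N231 (tt N156 F421) (tt N178 F422) (tt N340 D340) (tt N155 (iv D231)) (tt N341 D341) (tt N342 D342))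
theorem Q233 : ∀ i, i < 233 → P i := stepQ 232 Q232 (allL N232 (tt N157 F423) (tt N179 F424) (tt N232 F425) (tt N342 (iv F600)) (tt N343 D343) (tt N155 (iv D232)))
theorem Q234 : ∀ i, i < 234 → P i := stepQ 233 Q233 (allL N233 (tt N340 (iv F594)) (tt N344 D344) (tt N156 (iv D233)) (tt N345 D345) (tt N346 D346) (tt N347 D347))
theorem Q235 : ∀ i, i < 235 → P i := stepQ 234 Q234 (allL N234 (tt N341 (iv F595)) (tt N159 F426) (tt N346 (iv F607)) (tt N165 F427) (tt N156 (iv D234)) (tt N348 D348))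
theorem Q236 : ∀ i, i < 236 → P i := stepQ 235 Q235 (allL N235 (tt N342 (iv F598)) (tt N160 F428) (tt N347 (iv F609)) (tt N157 F429) (tt N349 D349) (tt N156 (iv D235)))
theorem Q237 : ∀ i, i < 237 → P i := stepQ 236 Q236 (allL N236 (tt N343 (iv F601)) (tt N161 F430) (tt N236 F431) (tt N350 D350) (tt N157 (iv D236)) (tt N166 F432))
theorem Q238 : ∀ i, i < 238 → P i := stepQ 237 Q237 (allL N237 (tt N351 D351) (tt N158 (iv D237)) (tt N344 (iv F605)) (tt N175 F433) (tt N352 D352) (tt N174 F434))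
theorem Q239 : ∀ i, i < 239 → P i := stepQ 238 Q238 (allL N238 (tt N185 F435) (tt N352 (iv F618)) (tt N159 F436) (tt N353 D353) (tt N158 (iv D238)) (tt N354 D354))
theorem Q240 : ∀ i, i < 240 → P i := stepQ 239 Q239 (allL N239 (tt N186 F437) (tt N348 (iv F610)) (tt N354 (iv F622)) (tt N167 F438) (tt N355 D355) (tt N159 (iv D239)))
theorem Q241 : ∀ i, i < 241 → P i := stepQ 240 Q240 (allL N240 (tt N187 F439) (tt N349 (iv F612)) (tt N176 F440) (tt N356 D356) (tt N160 (iv D240)) (tt N355 (iv F626)))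
theorem Q242 : ∀ i, i < 242 → P i := stepQ 241 Q241 (allL N241 (tt N188 F441) (tt N350 (iv F613)) (tt N303 (iv F527)) (tt N161 (iv D241)) (tt N356 (iv F628)) (tt N168 F442))
theorem Q243 : ∀ i, i < 243 → P i := stepQ 242 Q242 (allL N242 (tt N164 F443) (tt N357 D357) (tt N162 (iv D242)) (tt N357 F631) (tt N358 D358) (tt N287 (iv F503)))
theorem Q244 : ∀ i, i < 244 → P i := stepQ 243 Q243 (allL N243 (tt N165 F444) (tt N190 F445) (tt N358 (iv F633)) (tt N341 (iv F597)) (tt N162 (iv D243)) (tt N359 D359))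
theorem Q245 : ∀ i, i < 245 → P i := stepQ 244 Q244 (allL N244 (tt N166 F446) (tt N192 F447) (tt N244 F448) (tt N360 D360) (tt N163 (iv D244)) (tt N343 (iv F604)))
theorem Q246 : ∀ i, i < 246 → P i := stepQ 245 Q245 (allL N245 (tt N357 (iv F629)) (tt N283 (iv F496)) (tt N361 D361) (tt N164 (iv D245)) (tt N362 D362) (tt N281 F492))
theorem Q247 : ∀ i, i < 247 → P i := stepQ 246 Q246 (allL N246 (tt N358 (iv F632)) (tt N291 (iv F507)) (tt N165 F449) (tt N363 D363) (tt N164 (iv D246)) (tt N364 D364))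
theorem Q248 : ∀ i, i < 248 → P i := stepQ 247 Q247 (allL N247 (tt N359 (iv F634)) (tt N167 F450) (tt N364 (iv F642)) (tt N348 (iv F611)) (tt N297 (iv F518)) (tt N165 (iv D247)))
theorem Q249 : ∀ i, i < 249 → P i := stepQ 248 Q248 (allL N248 (tt N360 (iv F636)) (tt N168 F451) (tt N365 D365) (tt N166 (iv D248)) (tt N296 (iv F516)) (tt N350 (iv F614)))
theorem Q250 : ∀ i, i < 250 → P i := stepQ 249 Q249 (allL N249 (tt N205 F452) (tt N366 D366) (tt N168 (iv D249)) (tt N280 (iv F490)) (tt N298 (iv F519)) (tt N303 (iv F526)))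
theorem Q251 : ∀ i, i < 251 → P i := stepQ 250 Q250 (allL N250 (tt N169 (iv D250)) (tt N327 (iv F567)) (tt N250 F453) (tt N367 D367) (tt N173 F454) (tt N368 D368))
theorem Q252 : ∀ i, i < 252 → P i := stepQ 251 Q251 (allL N251 (tt N367 (iv F643)) (tt N170 F455) (tt N369 D369) (tt N169 (iv D251)) (tt N370 D370) (tt N371 D371))
theorem Q253 : ∀ i, i < 253 → P i := stepQ 252 Q252 (allL N252 (tt N368 (iv F644)) (tt N171 F456) (tt N252 F457) (tt N371 (iv F649)) (tt N372 D372) (tt N169 (iv D252)))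
theorem Q254 : ∀ i, i < 254 → P i := stepQ 253 Q253 (allL N253 (tt N330 (iv F571)) (tt N371 (iv F648)) (tt N170 (iv D253)) (tt N171 F458) (tt N373 D373) (tt N170 (iv F459)))
theorem Q255 : ∀ i, i < 255 → P i := stepQ 254 Q254 (allL N254 (tt N331 (iv F574)) (tt N370 (iv F646)) (tt N373 (iv F653)) (tt N176 F460) (tt N170 (iv D254)) (tt N374 D374))
theorem Q256 : ∀ i, i < 256 → P i := stepQ 255 Q255 (allL N255 (tt N332 (iv F576)) (tt N372 (iv F650)) (tt N172 F461) (tt N375 D375) (tt N171 (iv D255)) (tt N177 F462))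
theorem Q257 : ∀ i, i < 257 → P i := stepQ 256 Q256 (allL N256 (tt N174 F463) (tt N333 (iv F580)) (tt N376 D376) (tt N173 (iv D256)) (tt N377 D377) (tt N351 (iv F617)))
theorem Q258 : ∀ i, i < 258 → P i := stepQ 257 Q257 (allL N257 (tt N175 F464) (tt N334 (iv F583)) (tt N257 F465) (tt N351 (iv F616)) (tt N378 D378) (tt N173 (iv D257)))
theorem Q259 : ∀ i, i < 259 → P i := stepQ 258 Q258 (allL N258 (tt N376 (iv F656)) (tt N347 (iv F608)) (tt N174 (iv D258)) (tt N379 D379) (tt N380 D380) (tt N344 F606))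
theorem Q260 : ∀ i, i < 260 → P i := stepQ 259 Q259 (allL N259 (tt N377 (iv F657)) (tt N176 F466) (tt N380 (iv F660)) (tt N370 (iv F647)) (tt N174 (iv D259)) (tt N381 D381))
theorem Q261 : ∀ i, i < 261 → P i := stepQ 260 Q260 (allL N260 (tt N378 (iv F658)) (tt N177 F467) (tt N260 F468) (tt N382 D382) (tt N175 (iv D260)) (tt N372 (iv F652)))
theorem Q262 : ∀ i, i < 262 → P i := stepQ 261 Q261 (allL N261 (tt N338 (iv F589)) (tt N381 (iv F661)) (tt N355 (iv F625)) (tt N374 (iv F654)) (tt N354 (iv F623)) (tt N176 (iv D261)))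
theorem Q263 : ∀ i, i < 263 → P i := stepQ 262 Q262 (allL N262 (tt N339 (iv F592)) (tt N382 (iv F662)) (tt N383 D383) (tt N177 (iv D262)) (tt N353 (iv F620)) (tt N375 (iv F655)))
theorem Q264 : ∀ i, i < 264 → P i := stepQ 263 Q263 (allL N263 (tt N180 F469) (tt N384 D384) (tt N178 (iv D263)) (tt N385 D385) (tt N386 D386) (tt N387 D387))
theorem Q265 : ∀ i, i < 265 → P i := stepQ 264 Q264 (allL N264 (tt N181 F470) (tt N341 (iv F596)) (tt N386 (iv F667)) (tt N190 F471) (tt N178 (iv D264)) (tt N388 D388))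
theorem Q266 : ∀ i, i < 266 → P i := stepQ 265 Q265 (allL N265 (tt N182 F472) (tt N342 (iv F599)) (tt N387 (iv F669)) (tt N179 F473) (tt N389 D389) (tt N178 (iv D265)))
theorem Q267 : ∀ i, i < 267 → P i := stepQ 266 Q266 (allL N266 (tt N183 F474) (tt N343 (iv F602)) (tt N209 F475) (tt N390 D390) (tt N179 (iv D266)) (tt N192 F476))
theorem Q268 : ∀ i, i < 268 → P i := stepQ 267 Q267 (allL N267 (tt N391 D391) (tt N180 (iv D267)) (tt N184 F477) (tt N392 D392) (tt N393 D393) (tt N335 (iv F586)))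
theorem Q269 : ∀ i, i < 269 → P i := stepQ 268 Q268 (allL N268 (tt N385 (iv F663)) (tt N392 (iv F677)) (tt N394 D394) (tt N180 (iv D268)) (tt N395 D395) (tt N396 D396))
theorem Q270 : ∀ i, i < 270 → P i := stepQ 269 Q269 (allL N269 (tt N386 (iv F666)) (tt N393 (iv F678)) (tt N181 F478) (tt N397 D397) (tt N180 (iv D269)) (tt N398 D398))
theorem Q271 : ∀ i, i < 271 → P i := stepQ 270 Q270 (allL N270 (tt N387 (iv F668)) (tt N335 (iv F585)) (tt N182 F479) (tt N396 (iv F685)) (tt N399 D399) (tt N180 (iv D270)))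
theorem Q272 : ∀ i, i < 272 → P i := stepQ 271 Q271 (allL N271 (tt N388 (iv F671)) (tt N186 F480) (tt N398 (iv F686)) (tt N196 F481) (tt N400 D400) (tt N181 (iv D271)))
theorem Q273 : ∀ i, i < 273 → P i := stepQ 272 Q272 (allL N272 (tt N389 (iv F673)) (tt N187 F482) (tt N399 (iv F687)) (tt N401 D401) (tt N182 (iv D272)) (tt N400 (iv F689)))
theorem Q274 : ∀ i, i < 274 → P i := stepQ 273 Q273 (allL N273 (tt N390 (iv F674)) (tt N188 F483) (tt N402 D402) (tt N183 (iv D273)) (tt N401 (iv F691)) (tt N198 F484))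
theorem Q275 : ∀ i, i < 275 → P i := stepQ 274 Q274 (allL N274 (tt N184 (iv D274)) (tt N351 (iv F615)) (tt N391 (iv F676)) (tt N334 (iv F584)) (tt N403 D403) (tt N333 F581))
theorem Q276 : ∀ i, i < 276 → P i := stepQ 275 Q275 (allL N275 (tt N403 (iv F693)) (tt N185 F485) (tt N393 (iv F679)) (tt N404 D404) (tt N184 (iv D275)) (tt N405 D405))
theorem Q277 : ∀ i, i < 277 → P i := stepQ 276 Q276 (allL N276 (tt N353 (iv F619)) (tt N404 (iv F694)) (tt N406 D406) (tt N185 (iv D276)) (tt N339 (iv F593)) (tt N407 D407))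
theorem Q278 : ∀ i, i < 278 → P i := stepQ 277 Q277 (allL N277 (tt N354 (iv F621)) (tt N405 (iv F695)) (tt N186 F486) (tt N407 (iv F696)) (tt N338 (iv F591)) (tt N185 (iv D277)))
theorem Q279 : ∀ i, i < 279 → P i := stepQ 278 Q278 (allL N278 (tt N355 (iv F624)) (tt N400 (iv F688)) (tt N338 (iv F590)) (tt N408 D408) (tt N186 (iv D278)) (tt N187 F487))
theorem Q280 : ∀ i, i < 280 → P i := stepQ 279 Q279 (allL N279 (tt N356 (iv F627)) (tt N401 (iv F690)) (tt N409 D409) (tt N187 (iv D279)) (tt N188 F488) (tt N408 (iv F698)))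
theorem Q281 : ∀ i, i < 281 → P i := stepQ 280 Q280 (allL N280 (tt N303 (iv F525)) (tt N410 D410) (tt N188 (iv D280)) (tt N249 F490) (tt N409 (iv F699)) (tt N205 F489))
theorem Q282 : ∀ i, i < 282 → P i := stepQ 281 Q281 (allL N281 (tt N361 (iv F638)) (tt N189 (iv D281)) (tt N357 (iv F630)) (tt N193 F491) (tt N411 D411) (tt N245 (iv F492)))
theorem Q283 : ∀ i, i < 283 → P i := stepQ 282 Q282 (allL N282 (tt N194 F493) (tt N411 (iv F702)) (tt N190 F494) (tt N412 D412) (tt N189 (iv D282)) (tt N413 D413))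
theorem Q284 : ∀ i, i < 284 → P i := stepQ 283 Q283 (allL N283 (tt N195 F495) (tt N245 F496) (tt N191 F497) (tt N195 F498) (tt N414 D414) (tt N189 (iv D283)))
theorem Q285 : ∀ i, i < 285 → P i := stepQ 284 Q284 (allL N284 (tt N196 F499) (tt N359 (iv F635)) (tt N413 (iv F706)) (tt N388 (iv F672)) (tt N415 D415) (tt N190 (iv D284)))
theorem Q286 : ∀ i, i < 286 → P i := stepQ 285 Q285 (allL N285 (tt N197 F500) (tt N295 (iv F514)) (tt N414 (iv F709)) (tt N416 D416) (tt N191 (iv D285)) (tt N415 (iv F711)))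
theorem Q287 : ∀ i, i < 287 → P i := stepQ 286 Q286 (allL N286 (tt N198 F501) (tt N360 (iv F637)) (tt N417 D417) (tt N192 (iv D286)) (tt N416 (iv F713)) (tt N390 (iv F675)))
theorem Q288 : ∀ i, i < 288 → P i := stepQ 287 Q287 (allL N287 (tt N193 (iv D287)) (tt N361 (iv F639)) (tt N199 F502) (tt N361 (iv F641)) (tt N418 D418) (tt N242 F503))
theorem Q289 : ∀ i, i < 289 → P i := stepQ 288 Q288 (allL N288 (tt N418 (iv F715)) (tt N194 F504) (tt N200 F505) (tt N419 D419) (tt N193 (iv D288)) (tt N420 D420))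
theorem Q290 : ∀ i, i < 290 → P i := stepQ 289 Q289 (allL N289 (tt N412 (iv F703)) (tt N419 (iv F717)) (tt N421 D421) (tt N194 (iv D289)) (tt N412 (iv F704)) (tt N422 D422))
theorem Q291 : ∀ i, i < 291 → P i := stepQ 290 Q290 (allL N290 (tt N413 (iv F705)) (tt N420 (iv F718)) (tt N196 F506) (tt N422 (iv F721)) (tt N423 D423) (tt N194 (iv D290)))
theorem Q292 : ∀ i, i < 292 → P i := stepQ 291 Q291 (allL N291 (tt N414 (iv F707)) (tt N246 F507) (tt N197 F508) (tt N424 D424) (tt N195 (iv D291)) (tt N423 (iv F724)))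
theorem Q293 : ∀ i, i < 293 → P i := stepQ 292 Q292 (allL N292 (tt N415 (iv F710)) (tt N203 F509) (tt N423 (iv F723)) (tt N425 D425) (tt N196 (iv D292)) (tt N197 F510))
theorem Q294 : ∀ i, i < 294 → P i := stepQ 293 Q293 (allL N293 (tt N416 (iv F712)) (tt N204 F511) (tt N426 D426) (tt N197 (iv D293)) (tt N198 F512) (tt N425 (iv F727)))
theorem Q295 : ∀ i, i < 295 → P i := stepQ 294 Q294 (allL N294 (tt N417 (iv F714)) (tt N427 D427) (tt N198 (iv D294)) (tt N428 D428) (tt N426 (iv F728)) (tt N402 (iv F692)))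
theorem Q296 : ∀ i, i < 296 → P i := stepQ 295 Q295 (allL N295 (tt N200 F513) (tt N285 F514) (tt N418 (iv F716)) (tt N429 D429) (tt N199 (iv D295)) (tt N430 D430))
theorem Q297 : ∀ i, i < 297 → P i := stepQ 296 Q296 (allL N296 (tt N429 (iv F730)) (tt N201 F515) (tt N431 D431) (tt N200 (iv D296)) (tt N248 F516) (tt N432 D432))
theorem Q298 : ∀ i, i < 298 → P i := stepQ 297 Q297 (allL N297 (tt N430 (iv F733)) (tt N202 F517) (tt N420 (iv F719)) (tt N432 (iv F738)) (tt N247 F518) (tt N200 (iv D297)))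
theorem Q299 : ∀ i, i < 299 → P i := stepQ 298 Q298 (allL N298 (tt N301 (iv F523)) (tt N433 D433) (tt N201 (iv D298)) (tt N434 D434) (tt N249 F519) (tt N435 D435))
theorem Q300 : ∀ i, i < 300 → P i := stepQ 299 Q299 (allL N299 (tt N300 (iv F521)) (tt N432 (iv F737)) (tt N435 (iv F740)) (tt N202 F520) (tt N436 D436) (tt N201 (iv D299)))
theorem Q301 : ∀ i, i < 301 → P i := stepQ 300 Q300 (allL N300 (tt N299 F521) (tt N425 (iv F726)) (tt N437 D437) (tt N203 (iv D300)) (tt N408 (iv F697)) (tt N204 F522))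
theorem Q302 : ∀ i, i < 302 → P i := stepQ 301 Q301 (allL N301 (tt N298 F523) (tt N438 D438) (tt N204 (iv D301)) (tt N439 D439) (tt N205 F524) (tt N437 (iv F745)))
theorem Q303 : ∀ i, i < 303 → P i := stepQ 302 Q302 (allL N302 (tt N440 D440) (tt N205 (iv D302)) (tt N427 (iv F729)) (tt N441 D441) (tt N438 (iv F747)) (tt N410 (iv F701)))
theorem Q304 : ∀ i, i < 304 → P i := stepQ 303 Q303 (allL N303 (tt N280 F525) (tt N441 (iv F751)) (tt N241 F527) (tt N205 (iv D303)) (tt N442 D442) (tt N249 F526))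
theorem Q305 : ∀ i, i < 305 → P i := stepQ 304 Q304 (allL N304 (tt N443 D443) (tt N206 (iv D304)) (tt N304 F528) (tt N444 D444) (tt N445 D445) (tt N443 F757))
theorem Q306 : ∀ i, i < 306 → P i := stepQ 305 Q305 (allL N305 (tt N211 F529) (tt N444 (iv F758)) (tt N396 (iv F684)) (tt N206 (iv D305)) (tt N446 D446) (tt N394 F682))
theorem Q307 : ∀ i, i < 307 → P i := stepQ 306 Q306 (allL N306 (tt N212 F530) (tt N445 (iv F759)) (tt N207 F531) (tt N447 D447) (tt N206 (iv D306)) (tt N448 D448))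
theorem Q308 : ∀ i, i < 308 → P i := stepQ 307 Q307 (allL N307 (tt N210 F532) (tt N443 (iv F755)) (tt N208 F533) (tt N394 (iv F681)) (tt N449 D449) (tt N206 (iv D307)))
theorem Q309 : ∀ i, i < 309 → P i := stepQ 308 Q308 (allL N308 (tt N213 F534) (tt N308 F535) (tt N448 (iv F764)) (tt N209 F536) (tt N450 D450) (tt N207 (iv D308)))
theorem Q310 : ∀ i, i < 310 → P i := stepQ 309 Q309 (allL N309 (tt N214 F537) (tt N309 F538) (tt N449 (iv F766)) (tt N450 (iv F769)) (tt N208 (iv D309)) (tt N450 (iv F770)))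
theorem Q311 : ∀ i, i < 311 → P i := stepQ 310 Q310 (allL N310 (tt N394 (iv F680)) (tt N211 F539) (tt N385 (iv F664)) (tt N210 (iv D310)) (tt N451 D451) (tt N211 F540))
theorem Q312 : ∀ i, i < 312 → P i := stepQ 311 Q311 (allL N311 (tt N449 (iv F765)) (tt N212 F541) (tt N214 F542) (tt N452 D452) (tt N210 (iv D311)) (tt N453 D453))
theorem Q313 : ∀ i, i < 313 → P i := stepQ 312 Q312 (allL N312 (tt N396 (iv F683)) (tt N454 D454) (tt N211 (iv D312)) (tt N387 (iv F670)) (tt N455 D455) (tt N385 F665))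
theorem Q314 : ∀ i, i < 314 → P i := stepQ 313 Q313 (allL N313 (tt N446 (iv F761)) (tt N451 (iv F771)) (tt N455 (iv F776)) (tt N456 D456) (tt N211 (iv D313)) (tt N457 D457))
theorem Q315 : ∀ i, i < 315 → P i := stepQ 314 Q314 (allL N314 (tt N447 (iv F762)) (tt N452 (iv F772)) (tt N458 D458) (tt N212 (iv D314)) (tt N456 (iv F777)) (tt N459 D459))
theorem Q316 : ∀ i, i < 316 → P i := stepQ 315 Q315 (allL N315 (tt N448 (iv F763)) (tt N453 (iv F773)) (tt N213 F543) (tt N459 (iv F778)) (tt N453 (iv F775)) (tt N212 (iv D315)))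
theorem Q317 : ∀ i, i < 317 → P i := stepQ 316 Q316 (allL N316 (tt N450 (iv F767)) (tt N215 F544) (tt N453 (iv F774)) (tt N214 F545) (tt N213 (iv D316)) (tt N214 F546))
theorem Q318 : ∀ i, i < 318 → P i := stepQ 317 Q317 (allL N317 (tt N460 D460) (tt N216 (iv D317)) (tt N222 F547) (tt N461 D461) (tt N218 F548) (tt N462 D462))
theorem Q319 : ∀ i, i < 319 → P i := stepQ 318 Q318 (allL N318 (tt N318 F549) (tt N461 (iv F782)) (tt N463 D463) (tt N216 (iv D318)) (tt N464 D464) (tt N463 F787))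
theorem Q320 : ∀ i, i < 320 → P i := stepQ 319 Q319 (allL N319 (tt N319 F550) (tt N462 (iv F783)) (tt N217 F551) (tt N463 (iv F786)) (tt N465 D465) (tt N216 (iv D319)))
theorem Q321 : ∀ i, i < 321 → P i := stepQ 320 Q320 (allL N320 (tt N320 F552) (tt N225 F553) (tt N465 (iv F791)) (tt N320 F554) (tt N217 (iv D320)) (tt N221 F555))
theorem Q322 : ∀ i, i < 322 → P i := stepQ 321 Q321 (allL N321 (tt N218 (iv D321)) (tt N321 F556) (tt N226 F557) (tt N466 D466) (tt N460 (iv F781)) (tt N467 D467))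
theorem Q323 : ∀ i, i < 323 → P i := stepQ 322 Q322 (allL N322 (tt N466 (iv F793)) (tt N219 F558) (tt N468 D468) (tt N218 (iv D322)) (tt N469 D469) (tt N470 D470))
theorem Q324 : ∀ i, i < 324 → P i := stepQ 323 Q323 (allL N323 (tt N467 (iv F795)) (tt N220 F559) (tt N228 F560) (tt N470 (iv F800)) (tt N471 D471) (tt N218 (iv D323)))
theorem Q325 : ∀ i, i < 325 → P i := stepQ 324 Q324 (allL N324 (tt N324 F561) (tt N470 (iv F799)) (tt N219 (iv D324)) (tt N220 F562) (tt N472 D472) (tt N219 (iv F563)))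
theorem Q326 : ∀ i, i < 326 → P i := stepQ 325 Q325 (allL N325 (tt N325 F564) (tt N469 (iv F798)) (tt N472 (iv F804)) (tt N464 (iv F789)) (tt N219 (iv D325)) (tt N473 D473))
theorem Q327 : ∀ i, i < 327 → P i := stepQ 326 Q326 (allL N326 (tt N326 F565) (tt N471 (iv F801)) (tt N221 F566) (tt N474 D474) (tt N220 (iv D326)) (tt N465 (iv F792)))
theorem Q328 : ∀ i, i < 328 → P i := stepQ 327 Q327 (allL N327 (tt N222 (iv D327)) (tt N250 F567) (tt N460 (iv F780)) (tt N475 D475) (tt N226 F568) (tt N476 D476))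
theorem Q329 : ∀ i, i < 329 → P i := stepQ 328 Q328 (allL N328 (tt N475 (iv F807)) (tt N223 F569) (tt N477 D477) (tt N222 (iv D328)) (tt N478 D478) (tt N479 D479))
theorem Q330 : ∀ i, i < 330 → P i := stepQ 329 Q329 (allL N329 (tt N476 (iv F809)) (tt N224 F570) (tt N462 (iv F784)) (tt N479 (iv F814)) (tt N480 D480) (tt N222 (iv D329)))
theorem Q331 : ∀ i, i < 331 → P i := stepQ 330 Q330 (allL N330 (tt N253 F571) (tt N479 (iv F813)) (tt N223 (iv D330)) (tt N224 F572) (tt N481 D481) (tt N223 (iv F573)))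
theorem Q332 : ∀ i, i < 332 → P i := stepQ 331 Q331 (allL N331 (tt N254 F574) (tt N478 (iv F811)) (tt N481 (iv F818)) (tt N229 F575) (tt N223 (iv D331)) (tt N482 D482))
theorem Q333 : ∀ i, i < 333 → P i := stepQ 332 Q332 (allL N332 (tt N255 F576) (tt N480 (iv F815)) (tt N225 F577) (tt N483 D483) (tt N224 (iv D332)) (tt N230 F578))
theorem Q334 : ∀ i, i < 334 → P i := stepQ 333 Q333 (allL N333 (tt N227 F579) (tt N256 F580) (tt N484 D484) (tt N226 (iv D333)) (tt N485 D485) (tt N274 (iv F581)))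
theorem Q335 : ∀ i, i < 335 → P i := stepQ 334 Q334 (allL N334 (tt N228 F582) (tt N257 F583) (tt N467 (iv F797)) (tt N274 F584) (tt N486 D486) (tt N226 (iv D334)))
theorem Q336 : ∀ i, i < 336 → P i := stepQ 335 Q335 (allL N335 (tt N484 (iv F823)) (tt N270 F585) (tt N227 (iv D335)) (tt N487 D487) (tt N488 D488) (tt N267 F586))
theorem Q337 : ∀ i, i < 337 → P i := stepQ 336 Q336 (allL N336 (tt N485 (iv F825)) (tt N229 F587) (tt N488 (iv F832)) (tt N478 (iv F812)) (tt N227 (iv D336)) (tt N489 D489))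
theorem Q338 : ∀ i, i < 338 → P i := stepQ 337 Q337 (allL N337 (tt N486 (iv F827)) (tt N230 F588) (tt N471 (iv F802)) (tt N490 D490) (tt N228 (iv D337)) (tt N480 (iv F816)))
theorem Q339 : ∀ i, i < 339 → P i := stepQ 338 Q338 (allL N338 (tt N261 F589) (tt N489 (iv F833)) (tt N278 F590) (tt N482 (iv F820)) (tt N277 F591) (tt N229 (iv D338)))
theorem Q340 : ∀ i, i < 340 → P i := stepQ 339 Q339 (allL N339 (tt N262 F592) (tt N490 (iv F835)) (tt N491 D491) (tt N230 (iv D339)) (tt N276 F593) (tt N483 (iv F822)))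
theorem Q341 : ∀ i, i < 341 → P i := stepQ 340 Q340 (allL N340 (tt N233 F594) (tt N492 D492) (tt N231 (iv D340)) (tt N493 D493) (tt N494 D494) (tt N495 D495))
theorem Q342 : ∀ i, i < 342 → P i := stepQ 341 Q341 (allL N341 (tt N234 F595) (tt N264 F596) (tt N494 (iv F842)) (tt N243 F597) (tt N231 (iv D341)) (tt N496 D496))
theorem Q343 : ∀ i, i < 343 → P i := stepQ 342 Q342 (allL N342 (tt N235 F598) (tt N265 F599) (tt N495 (iv F844)) (tt N232 F600) (tt N497 D497) (tt N231 (iv D342)))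
theorem Q344 : ∀ i, i < 344 → P i := stepQ 343 Q343 (allL N343 (tt N236 F601) (tt N266 F602) (tt N343 F603) (tt N498 D498) (tt N232 (iv D343)) (tt N244 F604))
theorem Q345 : ∀ i, i < 345 → P i := stepQ 344 Q344 (allL N344 (tt N499 D499) (tt N233 (iv D344)) (tt N237 F605) (tt N500 D500) (tt N501 D501) (tt N258 (iv F606)))
theorem Q346 : ∀ i, i < 346 → P i := stepQ 345 Q345 (allL N345 (tt N493 (iv F840)) (tt N500 (iv F855)) (tt N502 D502) (tt N233 (iv D345)) (tt N503 D503) (tt N504 D504))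
theorem Q347 : ∀ i, i < 347 → P i := stepQ 346 Q346 (allL N346 (tt N494 (iv F841)) (tt N501 (iv F857)) (tt N234 F607) (tt N505 D505) (tt N233 (iv D346)) (tt N506 D506))
theorem Q348 : ∀ i, i < 348 → P i := stepQ 347 Q347 (allL N347 (tt N495 (iv F843)) (tt N258 F608) (tt N235 F609) (tt N504 (iv F864)) (tt N507 D507) (tt N233 (iv D347)))
theorem Q349 : ∀ i, i < 349 → P i := stepQ 348 Q348 (allL N348 (tt N496 (iv F845)) (tt N239 F610) (tt N506 (iv F865)) (tt N247 F611) (tt N508 D508) (tt N234 (iv D348)))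
theorem Q350 : ∀ i, i < 350 → P i := stepQ 349 Q349 (allL N349 (tt N497 (iv F848)) (tt N240 F612) (tt N507 (iv F867)) (tt N509 D509) (tt N235 (iv D349)) (tt N508 (iv F869)))
theorem Q351 : ∀ i, i < 351 → P i := stepQ 350 Q350 (allL N350 (tt N498 (iv F850)) (tt N241 F613) (tt N510 D510) (tt N236 (iv D350)) (tt N509 (iv F871)) (tt N248 F614))
theorem Q352 : ∀ i, i < 352 → P i := stepQ 351 Q351 (allL N351 (tt N237 (iv D351)) (tt N274 F615) (tt N499 (iv F853)) (tt N257 F616) (tt N511 D511) (tt N256 F617))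
theorem Q353 : ∀ i, i < 353 → P i := stepQ 352 Q352 (allL N352 (tt N511 (iv F873)) (tt N238 F618) (tt N501 (iv F858)) (tt N512 D512) (tt N237 (iv D352)) (tt N513 D513))
theorem Q354 : ∀ i, i < 354 → P i := stepQ 353 Q353 (allL N353 (tt N276 F619) (tt N512 (iv F875)) (tt N514 D514) (tt N238 (iv D353)) (tt N262 F620) (tt N515 D515))
theorem Q355 : ∀ i, i < 355 → P i := stepQ 354 Q354 (allL N354 (tt N277 F621) (tt N513 (iv F877)) (tt N239 F622) (tt N515 (iv F885)) (tt N261 F623) (tt N238 (iv D354)))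
theorem Q356 : ∀ i, i < 356 → P i := stepQ 355 Q355 (allL N355 (tt N278 F624) (tt N508 (iv F868)) (tt N261 F625) (tt N436 (iv F742)) (tt N239 (iv D355)) (tt N240 F626))
theorem Q357 : ∀ i, i < 357 → P i := stepQ 356 Q356 (allL N356 (tt N279 F627) (tt N509 (iv F870)) (tt N442 (iv F754)) (tt N240 (iv D356)) (tt N241 F628) (tt N436 (iv F743)))
theorem Q358 : ∀ i, i < 358 → P i := stepQ 357 Q357 (allL N357 (tt N245 F629) (tt N242 (iv D357)) (tt N281 F630) (tt N242 (iv F631)) (tt N516 D516) (tt N361 (iv F640)))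
theorem Q359 : ∀ i, i < 359 → P i := stepQ 358 Q358 (allL N358 (tt N246 F632) (tt N516 (iv F887)) (tt N243 F633) (tt N517 D517) (tt N242 (iv D358)) (tt N518 D518))
theorem Q360 : ∀ i, i < 360 → P i := stepQ 359 Q359 (allL N359 (tt N247 F634) (tt N284 F635) (tt N518 (iv F891)) (tt N496 (iv F847)) (tt N430 (iv F735)) (tt N243 (iv D359)))
theorem Q361 : ∀ i, i < 361 → P i := stepQ 360 Q360 (allL N360 (tt N248 F636) (tt N286 F637) (tt N519 D519) (tt N244 (iv D360)) (tt N429 (iv F732)) (tt N498 (iv F852)))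
theorem Q362 : ∀ i, i < 362 → P i := stepQ 361 Q361 (allL N361 (tt N281 F638) (tt N287 F639) (tt N245 (iv D361)) (tt N287 F641) (tt N520 D520) (tt N357 F640))
theorem Q363 : ∀ i, i < 363 → P i := stepQ 362 Q362 (allL N362 (tt N516 (iv F886)) (tt N414 (iv F708)) (tt N520 (iv F895)) (tt N521 D521) (tt N245 (iv D362)) (tt N522 D522))
theorem Q364 : ∀ i, i < 364 → P i := stepQ 363 Q363 (allL N363 (tt N517 (iv F889)) (tt N424 (iv F725)) (tt N523 D523) (tt N246 (iv D363)) (tt N521 (iv F896)) (tt N524 D524))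
theorem Q365 : ∀ i, i < 365 → P i := stepQ 364 Q364 (allL N364 (tt N518 (iv F890)) (tt N423 (iv F722)) (tt N247 F642) (tt N524 (iv F897)) (tt N420 (iv F720)) (tt N246 (iv D364)))
theorem Q366 : ∀ i, i < 366 → P i := stepQ 365 Q365 (allL N365 (tt N519 (iv F892)) (tt N525 D525) (tt N248 (iv D365)) (tt N526 D526) (tt N431 (iv F736)) (tt N510 (iv F872)))
theorem Q367 : ∀ i, i < 367 → P i := stepQ 366 Q366 (allL N366 (tt N527 D527) (tt N249 (iv D366)) (tt N525 (iv F898)) (tt N410 (iv F700)) (tt N433 (iv F739)) (tt N441 (iv F752)))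
theorem Q368 : ∀ i, i < 368 → P i := stepQ 367 Q367 (allL N367 (tt N251 F643) (tt N475 (iv F808)) (tt N528 D528) (tt N250 (iv D367)) (tt N529 D529) (tt N530 D530))
theorem Q369 : ∀ i, i < 369 → P i := stepQ 368 Q368 (allL N368 (tt N252 F644) (tt N476 (iv F810)) (tt N368 F645) (tt N530 (iv F904)) (tt N531 D531) (tt N250 (iv D368)))
theorem Q370 : ∀ i, i < 370 → P i := stepQ 369 Q369 (allL N369 (tt N528 (iv F900)) (tt N532 D532) (tt N251 (iv D369)) (tt N533 D533) (tt N534 D534) (tt N532 F909))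
theorem Q371 : ∀ i, i < 371 → P i := stepQ 370 Q370 (allL N370 (tt N529 (iv F901)) (tt N254 F646) (tt N534 (iv F910)) (tt N259 F647) (tt N251 (iv D370)) (tt N535 D535))
theorem Q372 : ∀ i, i < 372 → P i := stepQ 371 Q371 (allL N371 (tt N530 (iv F903)) (tt N253 F648) (tt N532 (iv F908)) (tt N252 F649) (tt N536 D536) (tt N251 (iv D371)))
theorem Q373 : ∀ i, i < 373 → P i := stepQ 372 Q372 (allL N372 (tt N531 (iv F905)) (tt N255 F650) (tt N372 F651) (tt N537 D537) (tt N252 (iv D372)) (tt N260 F652))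
theorem Q374 : ∀ i, i < 374 → P i := stepQ 373 Q373 (allL N373 (tt N481 (iv F817)) (tt N536 (iv F913)) (tt N254 F653) (tt N538 D538) (tt N253 (iv D373)) (tt N539 D539))
theorem Q375 : ∀ i, i < 375 → P i := stepQ 374 Q374 (allL N374 (tt N482 (iv F819)) (tt N535 (iv F911)) (tt N539 (iv F917)) (tt N261 F654) (tt N539 (iv F918)) (tt N254 (iv D374)))
theorem Q376 : ∀ i, i < 376 → P i := stepQ 375 Q375 (allL N375 (tt N483 (iv F821)) (tt N537 (iv F914)) (tt N540 D540) (tt N255 (iv D375)) (tt N538 (iv F916)) (tt N262 F655))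
theorem Q377 : ∀ i, i < 377 → P i := stepQ 376 Q376 (allL N376 (tt N258 F656) (tt N541 D541) (tt N256 (iv D376)) (tt N542 D542) (tt N543 D543) (tt N499 (iv F854)))
theorem Q378 : ∀ i, i < 378 → P i := stepQ 377 Q377 (allL N377 (tt N259 F657) (tt N485 (iv F826)) (tt N543 (iv F924)) (tt N529 (iv F902)) (tt N256 (iv D377)) (tt N544 D544))
theorem Q379 : ∀ i, i < 379 → P i := stepQ 378 Q378 (allL N378 (tt N260 F658) (tt N486 (iv F828)) (tt N378 F659) (tt N545 D545) (tt N257 (iv D378)) (tt N531 (iv F907)))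
theorem Q380 : ∀ i, i < 380 → P i := stepQ 379 Q379 (allL N379 (tt N542 (iv F921)) (tt N504 (iv F862)) (tt N546 D546) (tt N258 (iv D379)) (tt N547 D547) (tt N500 (iv F856)))
theorem Q381 : ∀ i, i < 381 → P i := stepQ 380 Q380 (allL N380 (tt N543 (iv F923)) (tt N507 (iv F866)) (tt N259 F660) (tt N548 D548) (tt N258 (iv D380)) (tt N549 D549))
theorem Q382 : ∀ i, i < 382 → P i := stepQ 381 Q381 (allL N381 (tt N544 (iv F925)) (tt N261 F661) (tt N549 (iv F930)) (tt N535 (iv F912)) (tt N513 (iv F878)) (tt N259 (iv D381)))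
theorem Q383 : ∀ i, i < 383 → P i := stepQ 382 Q382 (allL N382 (tt N545 (iv F926)) (tt N262 F662) (tt N550 D550) (tt N260 (iv D382)) (tt N512 (iv F876)) (tt N537 (iv F915)))
theorem Q384 : ∀ i, i < 384 → P i := stepQ 383 Q383 (allL N383 (tt N491 (iv F837)) (tt N551 D551) (tt N262 (iv D383)) (tt N552 D552) (tt N514 (iv F881)) (tt N540 (iv F919)))
theorem Q385 : ∀ i, i < 385 → P i := stepQ 384 Q384 (allL N384 (tt N553 D553) (tt N263 (iv D384)) (tt N492 (iv F839)) (tt N554 D554) (tt N555 D555) (tt N556 D556))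
theorem Q386 : ∀ i, i < 386 → P i := stepQ 385 Q385 (allL N385 (tt N268 F663) (tt N554 (iv F935)) (tt N310 F664) (tt N263 (iv D385)) (tt N557 D557) (tt N312 (iv F665)))
theorem Q387 : ∀ i, i < 387 → P i := stepQ 386 Q386 (allL N386 (tt N269 F666) (tt N555 (iv F938)) (tt N264 F667) (tt N558 D558) (tt N263 (iv D386)) (tt N559 D559))
theorem Q388 : ∀ i, i < 388 → P i := stepQ 387 Q387 (allL N387 (tt N270 F668) (tt N556 (iv F939)) (tt N265 F669) (tt N312 F670) (tt N560 D560) (tt N263 (iv D387)))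
theorem Q389 : ∀ i, i < 389 → P i := stepQ 388 Q388 (allL N388 (tt N271 F671) (tt N496 (iv F846)) (tt N559 (iv F945)) (tt N284 F672) (tt N561 D561) (tt N264 (iv D388)))
theorem Q390 : ∀ i, i < 390 → P i := stepQ 389 Q389 (allL N389 (tt N272 F673) (tt N497 (iv F849)) (tt N560 (iv F947)) (tt N562 D562) (tt N265 (iv D389)) (tt N561 (iv F949)))
theorem Q391 : ∀ i, i < 391 → P i := stepQ 390 Q390 (allL N390 (tt N273 F674) (tt N498 (iv F851)) (tt N563 D563) (tt N266 (iv D390)) (tt N562 (iv F951)) (tt N286 F675))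
theorem Q392 : ∀ i, i < 392 → P i := stepQ 391 Q391 (allL N391 (tt N267 (iv D391)) (tt N553 (iv F934)) (tt N274 F676) (tt N564 D564) (tt N565 D565) (tt N484 (iv F824)))
theorem Q393 : ∀ i, i < 393 → P i := stepQ 392 Q392 (allL N392 (tt N564 (iv F955)) (tt N268 F677) (tt N566 D566) (tt N267 (iv D392)) (tt N567 D567) (tt N487 (iv F830)))
theorem Q394 : ∀ i, i < 394 → P i := stepQ 393 Q393 (allL N393 (tt N565 (iv F956)) (tt N269 F678) (tt N275 F679) (tt N568 D568) (tt N267 (iv D393)) (tt N569 D569))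
theorem Q395 : ∀ i, i < 395 → P i := stepQ 394 Q394 (allL N394 (tt N310 F680) (tt N570 D570) (tt N268 (iv D394)) (tt N307 F681) (tt N571 D571) (tt N305 (iv F682)))
theorem Q396 : ∀ i, i < 396 → P i := stepQ 395 Q395 (allL N395 (tt N557 (iv F941)) (tt N567 (iv F958)) (tt N571 (iv F966)) (tt N572 D572) (tt N268 (iv D395)) (tt N573 D573))
theorem Q397 : ∀ i, i < 397 → P i := stepQ 396 Q396 (allL N396 (tt N312 F683) (tt N487 (iv F829)) (tt N305 F684) (tt N270 F685) (tt N574 D574) (tt N268 (iv D396)))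
theorem Q398 : ∀ i, i < 398 → P i := stepQ 397 Q397 (allL N397 (tt N558 (iv F943)) (tt N568 (iv F959)) (tt N575 D575) (tt N269 (iv D397)) (tt N572 (iv F967)) (tt N576 D576))
theorem Q399 : ∀ i, i < 399 → P i := stepQ 398 Q398 (allL N398 (tt N559 (iv F944)) (tt N569 (iv F960)) (tt N271 F686) (tt N576 (iv F970)) (tt N577 D577) (tt N269 (iv D398)))
theorem Q400 : ∀ i, i < 400 → P i := stepQ 399 Q399 (allL N399 (tt N560 (iv F946)) (tt N488 (iv F831)) (tt N272 F687) (tt N578 D578) (tt N270 (iv D399)) (tt N577 (iv F972)))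
theorem Q401 : ∀ i, i < 401 → P i := stepQ 400 Q400 (allL N400 (tt N561 (iv F948)) (tt N278 F688) (tt N577 (iv F971)) (tt N579 D579) (tt N271 (iv D400)) (tt N272 F689))
theorem Q402 : ∀ i, i < 402 → P i := stepQ 401 Q401 (allL N401 (tt N562 (iv F950)) (tt N279 F690) (tt N580 D580) (tt N272 (iv D401)) (tt N273 F691) (tt N579 (iv F975)))
theorem Q403 : ∀ i, i < 403 → P i := stepQ 402 Q402 (allL N402 (tt N563 (iv F952)) (tt N581 D581) (tt N273 (iv D402)) (tt N582 D582) (tt N580 (iv F976)) (tt N294 F692))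
theorem Q404 : ∀ i, i < 404 → P i := stepQ 403 Q403 (allL N403 (tt N275 F693) (tt N511 (iv F874)) (tt N565 (iv F957)) (tt N583 D583) (tt N274 (iv D403)) (tt N584 D584))
theorem Q405 : ∀ i, i < 405 → P i := stepQ 404 Q404 (allL N404 (tt N583 (iv F982)) (tt N276 F694) (tt N585 D585) (tt N275 (iv D404)) (tt N490 (iv F836)) (tt N586 D586))
theorem Q406 : ∀ i, i < 406 → P i := stepQ 405 Q405 (allL N405 (tt N584 (iv F983)) (tt N277 F695) (tt N569 (iv F961)) (tt N586 (iv F985)) (tt N489 (iv F834)) (tt N275 (iv D405)))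
theorem Q407 : ∀ i, i < 407 → P i := stepQ 406 Q406 (allL N406 (tt N514 (iv F879)) (tt N587 D587) (tt N276 (iv D406)) (tt N437 (iv F746)) (tt N491 (iv F838)) (tt N439 (iv F749)))
theorem Q408 : ∀ i, i < 408 → P i := stepQ 407 Q407 (allL N407 (tt N515 (iv F883)) (tt N586 (iv F984)) (tt N439 (iv F750)) (tt N277 F696) (tt N588 D588) (tt N276 (iv D407)))
theorem Q409 : ∀ i, i < 409 → P i := stepQ 408 Q408 (allL N408 (tt N436 (iv F741)) (tt N579 (iv F973)) (tt N589 D589) (tt N278 (iv D408)) (tt N300 F697) (tt N279 F698))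
theorem Q410 : ∀ i, i < 410 → P i := stepQ 409 Q409 (allL N409 (tt N442 (iv F753)) (tt N590 D590) (tt N279 (iv D409)) (tt N591 D591) (tt N280 F699) (tt N589 (iv F987)))
theorem Q411 : ∀ i, i < 411 → P i := stepQ 410 Q410 (allL N410 (tt N592 D592) (tt N280 (iv D410)) (tt N581 (iv F977)) (tt N366 F700) (tt N590 (iv F988)) (tt N302 F701))
theorem Q412 : ∀ i, i < 412 → P i := stepQ 411 Q411 (allL N411 (tt N520 (iv F893)) (tt N282 F702) (tt N516 (iv F888)) (tt N593 D593) (tt N281 (iv D411)) (tt N594 D594))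
theorem Q413 : ∀ i, i < 413 → P i := stepQ 412 Q412 (allL N412 (tt N289 F703) (tt N593 (iv F992)) (tt N595 D595) (tt N282 (iv D412)) (tt N289 F704) (tt N596 D596))
theorem Q414 : ∀ i, i < 414 → P i := stepQ 413 Q413 (allL N413 (tt N290 F705) (tt N594 (iv F994)) (tt N284 F706) (tt N596 (iv F999)) (tt N597 D597) (tt N282 (iv D413)))
theorem Q415 : ∀ i, i < 415 → P i := stepQ 414 Q414 (allL N414 (tt N291 F707) (tt N362 F708) (tt N285 F709) (tt N598 D598) (tt N283 (iv D414)) (tt N597 (iv F1003)))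
theorem Q416 : ∀ i, i < 416 → P i := stepQ 415 Q415 (allL N415 (tt N292 F710) (tt N430 (iv F734)) (tt N597 (iv F1002)) (tt N599 D599) (tt N284 (iv D415)) (tt N285 F711))
theorem Q417 : ∀ i, i < 417 → P i := stepQ 416 Q416 (allL N416 (tt N293 F712) (tt N429 (iv F731)) (tt N600 D600) (tt N285 (iv D416)) (tt N286 F713) (tt N599 (iv F1008)))
theorem Q418 : ∀ i, i < 418 → P i := stepQ 417 Q417 (allL N417 (tt N294 F714) (tt N601 D601) (tt N286 (iv D417)) (tt N602 D602) (tt N600 (iv F1010)) (tt N563 (iv F953)))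
theorem Q419 : ∀ i, i < 419 → P i := stepQ 418 Q418 (allL N418 (tt N288 F715) (tt N520 (iv F894)) (tt N295 F716) (tt N603 D603) (tt N287 (iv D418)) (tt N604 D604))
theorem Q420 : ∀ i, i < 420 → P i := stepQ 419 Q419 (allL N419 (tt N603 (iv F1014)) (tt N289 F717) (tt N605 D605) (tt N288 (iv D419)) (tt N593 (iv F993)) (tt N606 D606))
theorem Q421 : ∀ i, i < 421 → P i := stepQ 420 Q420 (allL N420 (tt N604 (iv F1015)) (tt N290 F718) (tt N297 F719) (tt N606 (iv F1019)) (tt N364 F720) (tt N288 (iv D420)))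
theorem Q422 : ∀ i, i < 422 → P i := stepQ 421 Q421 (allL N421 (tt N595 (iv F996)) (tt N607 D607) (tt N289 (iv D421)) (tt N608 D608) (tt N595 (iv F997)) (tt N609 D609))
theorem Q423 : ∀ i, i < 423 → P i := stepQ 422 Q422 (allL N422 (tt N596 (iv F998)) (tt N606 (iv F1018)) (tt N609 (iv F1020)) (tt N290 F721) (tt N610 D610) (tt N289 (iv D422)))
theorem Q424 : ∀ i, i < 424 → P i := stepQ 423 Q423 (allL N423 (tt N597 (iv F1000)) (tt N364 F722) (tt N292 F723) (tt N611 D611) (tt N290 (iv D423)) (tt N291 F724))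
theorem Q425 : ∀ i, i < 425 → P i := stepQ 424 Q424 (allL N424 (tt N598 (iv F1004)) (tt N363 F725) (tt N612 D612) (tt N291 (iv D424)) (tt N598 (iv F1006)) (tt N611 (iv F1022)))
theorem Q426 : ∀ i, i < 426 → P i := stepQ 425 Q425 (allL N425 (tt N599 (iv F1007)) (tt N300 F726) (tt N613 D613) (tt N292 (iv D425)) (tt N579 (iv F974)) (tt N293 F727))
theorem Q427 : ∀ i, i < 427 → P i := stepQ 426 Q426 (allL N426 (tt N600 (iv F1009)) (tt N614 D614) (tt N293 (iv D426)) (tt N615 D615) (tt N294 F728) (tt N613 (iv F1023)))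
theorem Q428 : ∀ i, i < 428 → P i := stepQ 427 Q427 (allL N427 (tt N616 D616) (tt N294 (iv D427)) (tt N302 F729) (tt N617 D617) (tt N614 (iv F1025)) (tt N581 (iv F978)))
theorem Q429 : ∀ i, i < 429 → P i := stepQ 428 Q428 (allL N428 (tt N602 (iv F1011)) (tt N617 (iv F1027)) (tt N618 D618) (tt N294 (iv D428)) (tt N619 D619) (tt N582 (iv F980)))
theorem Q430 : ∀ i, i < 430 → P i := stepQ 429 Q429 (allL N429 (tt N296 F730) (tt N416 F731) (tt N620 D620) (tt N295 (iv D429)) (tt N360 F732) (tt N621 D621))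
theorem Q431 : ∀ i, i < 431 → P i := stepQ 430 Q430 (allL N430 (tt N297 F733) (tt N415 F734) (tt N604 (iv F1016)) (tt N621 (iv F1035)) (tt N359 F735) (tt N295 (iv D430)))
theorem Q432 : ∀ i, i < 432 → P i := stepQ 431 Q431 (allL N431 (tt N620 (iv F1031)) (tt N622 D622) (tt N296 (iv D431)) (tt N623 D623) (tt N365 F736) (tt N624 D624))
theorem Q433 : ∀ i, i < 433 → P i := stepQ 432 Q432 (allL N432 (tt N621 (iv F1033)) (tt N299 F737) (tt N624 (iv F1038)) (tt N297 F738) (tt N625 D625) (tt N296 (iv D432)))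
theorem Q434 : ∀ i, i < 434 → P i := stepQ 433 Q433 (allL N433 (tt N626 D626) (tt N298 (iv D433)) (tt N622 (iv F1036)) (tt N627 D627) (tt N366 F739) (tt N628 D628))
theorem Q435 : ∀ i, i < 435 → P i := stepQ 434 Q434 (allL N434 (tt N439 (iv F748)) (tt N627 (iv F1043)) (tt N515 (iv F884)) (tt N298 (iv D434)) (tt N591 (iv F989)) (tt N514 F882))
theorem Q436 : ∀ i, i < 436 → P i := stepQ 435 Q435 (allL N435 (tt N437 (iv F744)) (tt N628 (iv F1044)) (tt N299 F740) (tt N514 (iv F880)) (tt N629 D629) (tt N298 (iv D435)))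
theorem Q437 : ∀ i, i < 437 → P i := stepQ 436 Q436 (allL N436 (tt N408 F741) (tt N625 (iv F1039)) (tt N629 (iv F1046)) (tt N355 F742) (tt N299 (iv D436)) (tt N356 F743))
theorem Q438 : ∀ i, i < 438 → P i := stepQ 437 Q437 (allL N437 (tt N435 F744) (tt N630 D630) (tt N300 (iv D437)) (tt N406 F746) (tt N589 (iv F986)) (tt N301 F745))
theorem Q439 : ∀ i, i < 439 → P i := stepQ 438 Q438 (allL N438 (tt N631 D631) (tt N301 (iv D438)) (tt N614 (iv F1024)) (tt N632 D632) (tt N302 F747) (tt N630 (iv F1049)))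
theorem Q440 : ∀ i, i < 440 → P i := stepQ 439 Q439 (allL N439 (tt N434 F748) (tt N632 (iv F1052)) (tt N407 F750) (tt N301 (iv D439)) (tt N633 D633) (tt N406 F749))
theorem Q441 : ∀ i, i < 441 → P i := stepQ 440 Q440 (allL N440 (tt N302 (iv D440)) (tt N527 (iv F899)) (tt N616 (iv F1026)) (tt N634 D634) (tt N631 (iv F1051)) (tt N592 (iv F991)))
theorem Q442 : ∀ i, i < 442 → P i := stepQ 441 Q441 (allL N441 (tt N634 (iv F1057)) (tt N303 F751) (tt N635 D635) (tt N302 (iv D441)) (tt N636 D636) (tt N366 F752))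
theorem Q443 : ∀ i, i < 443 → P i := stepQ 442 Q442 (allL N442 (tt N409 F753) (tt N636 (iv F1062)) (tt N356 F754) (tt N633 (iv F1056)) (tt N303 (iv D442)) (tt N629 (iv F1047)))
theorem Q444 : ∀ i, i < 444 → P i := stepQ 443 Q443 (allL N443 (tt N304 (iv D443)) (tt N307 F755) (tt N443 F756) (tt N570 (iv F963)) (tt N637 D637) (tt N304 (iv F757)))
theorem Q445 : ∀ i, i < 445 → P i := stepQ 444 Q444 (allL N444 (tt N570 (iv F962)) (tt N305 F758) (tt N638 D638) (tt N304 (iv D444)) (tt N639 D639) (tt N570 (iv F964)))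
theorem Q446 : ∀ i, i < 446 → P i := stepQ 445 Q445 (allL N445 (tt N637 (iv F1063)) (tt N306 F759) (tt N445 F760) (tt N640 D640) (tt N304 (iv D445)) (tt N641 D641))
theorem Q447 : ∀ i, i < 447 → P i := stepQ 446 Q446 (allL N446 (tt N313 F761) (tt N639 (iv F1066)) (tt N574 (iv F969)) (tt N642 D642) (tt N305 (iv D446)) (tt N643 D643))
theorem Q448 : ∀ i, i < 448 → P i := stepQ 447 Q447 (allL N447 (tt N314 F762) (tt N640 (iv F1067)) (tt N582 (iv F981)) (tt N306 (iv D447)) (tt N642 (iv F1071)) (tt N618 (iv F1030)))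
theorem Q449 : ∀ i, i < 449 → P i := stepQ 448 Q448 (allL N448 (tt N315 F763) (tt N641 (iv F1068)) (tt N308 F764) (tt N618 (iv F1029)) (tt N644 D644) (tt N306 (iv D448)))
theorem Q450 : ∀ i, i < 450 → P i := stepQ 449 Q449 (allL N449 (tt N311 F765) (tt N637 (iv F1064)) (tt N309 F766) (tt N645 D645) (tt N307 (iv D449)) (tt N644 (iv F1075)))
theorem Q451 : ∀ i, i < 451 → P i := stepQ 450 Q450 (allL N450 (tt N316 F767) (tt N450 F768) (tt N644 (iv F1074)) (tt N309 F769) (tt N308 (iv D450)) (tt N309 F770))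
theorem Q452 : ∀ i, i < 452 → P i := stepQ 451 Q451 (allL N451 (tt N571 (iv F965)) (tt N313 F771) (tt N557 (iv F942)) (tt N646 D646) (tt N310 (iv D451)) (tt N647 D647))
theorem Q453 : ∀ i, i < 453 → P i := stepQ 452 Q452 (allL N452 (tt N645 (iv F1076)) (tt N314 F772) (tt N648 D648) (tt N311 (iv D452)) (tt N646 (iv F1078)) (tt N649 D649))
theorem Q454 : ∀ i, i < 454 → P i := stepQ 453 Q453 (allL N453 (tt N644 (iv F1073)) (tt N315 F773) (tt N316 F774) (tt N649 (iv F1082)) (tt N315 F775) (tt N311 (iv D453)))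
theorem Q455 : ∀ i, i < 455 → P i := stepQ 454 Q454 (allL N454 (tt N650 D650) (tt N312 (iv D454)) (tt N554 F936) (tt N556 (iv F940)) (tt N651 D651) (tt N554 F937))
theorem Q456 : ∀ i, i < 456 → P i := stepQ 455 Q455 (allL N455 (tt N574 (iv F968)) (tt N651 (iv F1083)) (tt N313 F776) (tt N652 D652) (tt N312 (iv D455)) (tt N653 D653))
theorem Q457 : ∀ i, i < 457 → P i := stepQ 456 Q456 (allL N456 (tt N642 (iv F1070)) (tt N646 (iv F1077)) (tt N654 D654) (tt N313 (iv D456)) (tt N314 F777) (tt N655 D655))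
theorem Q458 : ∀ i, i < 458 → P i := stepQ 457 Q457 (allL N457 (tt N643 (iv F1072)) (tt N647 (iv F1079)) (tt N653 (iv F1084)) (tt N655 (iv F1086)) (tt N647 (iv F1080)) (tt N313 (iv D457)))
theorem Q459 : ∀ i, i < 459 → P i := stepQ 458 Q458 (allL N458 (tt N582 (iv F979)) (tt N656 D656) (tt N314 (iv D458)) (tt N563 (iv F954)) (tt N654 (iv F1085)) (tt N602 (iv F1013)))
theorem Q460 : ∀ i, i < 460 → P i := stepQ 459 Q459 (allL N459 (tt N618 (iv F1028)) (tt N649 (iv F1081)) (tt N602 (iv F1012)) (tt N315 F778) (tt N657 D657) (tt N314 (iv D459)))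
theorem Q461 : ∀ i, i < 461 → P i := stepQ 460 Q460 (allL N460 (tt N317 (iv D460)) (tt N460 F779) (tt N327 F780) (tt N658 D658) (tt N321 F781) (tt N659 D659))
theorem Q462 : ∀ i, i < 462 → P i := stepQ 461 Q461 (allL N461 (tt N658 (iv F1087)) (tt N318 F782) (tt N660 D660) (tt N317 (iv D461)) (tt N661 D661) (tt N662 D662))
theorem Q463 : ∀ i, i < 463 → P i := stepQ 462 Q462 (allL N462 (tt N659 (iv F1089)) (tt N319 F783) (tt N329 F784) (tt N662 (iv F1095)) (tt N663 D663) (tt N317 (iv D462)))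
theorem Q464 : ∀ i, i < 464 → P i := stepQ 463 Q463 (allL N463 (tt N463 F785) (tt N662 (iv F1094)) (tt N318 (iv D463)) (tt N319 F786) (tt N664 D664) (tt N318 (iv F787)))
theorem Q465 : ∀ i, i < 465 → P i := stepQ 464 Q464 (allL N464 (tt N464 F788) (tt N661 (iv F1092)) (tt N664 (iv F1100)) (tt N325 F789) (tt N318 (iv D464)) (tt N665 D665))
theorem Q466 : ∀ i, i < 466 → P i := stepQ 465 Q465 (allL N465 (tt N465 F790) (tt N663 (iv F1096)) (tt N320 F791) (tt N666 D666) (tt N319 (iv D465)) (tt N326 F792))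
theorem Q467 : ∀ i, i < 467 → P i := stepQ 466 Q466 (allL N466 (tt N322 F793) (tt N466 F794) (tt N667 D667) (tt N321 (iv D466)) (tt N668 D668) (tt N669 D669))
theorem Q468 : ∀ i, i < 468 → P i := stepQ 467 Q467 (allL N467 (tt N323 F795) (tt N467 F796) (tt N334 F797) (tt N669 (iv F1111)) (tt N670 D670) (tt N321 (iv D467)))
theorem Q469 : ∀ i, i < 469 → P i := stepQ 468 Q468 (allL N468 (tt N667 (iv F1105)) (tt N671 D671) (tt N322 (iv D468)) (tt N672 D672) (tt N673 D673) (tt N671 F1116))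
theorem Q470 : ∀ i, i < 470 → P i := stepQ 469 Q469 (allL N469 (tt N668 (iv F1107)) (tt N325 F798) (tt N673 (iv F1119)) (tt N661 (iv F1093)) (tt N322 (iv D469)) (tt N674 D674))
theorem Q471 : ∀ i, i < 471 → P i := stepQ 470 Q470 (allL N470 (tt N669 (iv F1109)) (tt N324 F799) (tt N671 (iv F1115)) (tt N323 F800) (tt N675 D675) (tt N322 (iv D470)))
theorem Q472 : ∀ i, i < 472 → P i := stepQ 471 Q471 (allL N471 (tt N670 (iv F1112)) (tt N326 F801) (tt N337 F802) (tt N676 D676) (tt N323 (iv D471)) (tt N663 (iv F1098)))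
theorem Q473 : ∀ i, i < 473 → P i := stepQ 472 Q472 (allL N472 (tt N472 F803) (tt N675 (iv F1121)) (tt N325 F804) (tt N677 D677) (tt N324 (iv D472)) (tt N678 D678))
theorem Q474 : ∀ i, i < 474 → P i := stepQ 473 Q473 (allL N473 (tt N473 F805) (tt N674 (iv F1120)) (tt N678 (iv F1126)) (tt N665 (iv F1102)) (tt N678 (iv F1127)) (tt N325 (iv D473)))
theorem Q475 : ∀ i, i < 475 → P i := stepQ 474 Q474 (allL N474 (tt N474 F806) (tt N676 (iv F1122)) (tt N679 D679) (tt N326 (iv D474)) (tt N677 (iv F1124)) (tt N666 (iv F1104)))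
theorem Q476 : ∀ i, i < 476 → P i := stepQ 475 Q475 (allL N475 (tt N328 F807) (tt N367 F808) (tt N680 D680) (tt N327 (iv D475)) (tt N681 D681) (tt N682 D682))
theorem Q477 : ∀ i, i < 477 → P i := stepQ 476 Q476 (allL N476 (tt N329 F809) (tt N368 F810) (tt N659 (iv F1091)) (tt N682 (iv F1135)) (tt N683 D683) (tt N327 (iv D476)))
theorem Q478 : ∀ i, i < 478 → P i := stepQ 477 Q477 (allL N477 (tt N680 (iv F1129)) (tt N684 D684) (tt N328 (iv D477)) (tt N685 D685) (tt N686 D686) (tt N684 F1140))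
theorem Q479 : ∀ i, i < 479 → P i := stepQ 478 Q478 (allL N478 (tt N681 (iv F1130)) (tt N331 F811) (tt N686 (iv F1141)) (tt N336 F812) (tt N328 (iv D478)) (tt N687 D687))
theorem Q480 : ∀ i, i < 480 → P i := stepQ 479 Q479 (allL N479 (tt N682 (iv F1133)) (tt N330 F813) (tt N684 (iv F1139)) (tt N329 F814) (tt N688 D688) (tt N328 (iv D479)))
theorem Q481 : ∀ i, i < 481 → P i := stepQ 480 Q480 (allL N480 (tt N683 (iv F1136)) (tt N332 F815) (tt N663 (iv F1097)) (tt N689 D689) (tt N329 (iv D480)) (tt N337 F816))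
theorem Q482 : ∀ i, i < 482 → P i := stepQ 481 Q481 (allL N481 (tt N373 F817) (tt N688 (iv F1144)) (tt N331 F818) (tt N690 D690) (tt N330 (iv D481)) (tt N691 D691))
theorem Q483 : ∀ i, i < 483 → P i := stepQ 482 Q482 (allL N482 (tt N374 F819) (tt N687 (iv F1142)) (tt N691 (iv F1151)) (tt N338 F820) (tt N691 (iv F1153)) (tt N331 (iv D482)))
theorem Q484 : ∀ i, i < 484 → P i := stepQ 483 Q483 (allL N483 (tt N375 F821) (tt N689 (iv F1145)) (tt N552 (iv F933)) (tt N332 (iv D483)) (tt N690 (iv F1148)) (tt N339 F822))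
theorem Q485 : ∀ i, i < 485 → P i := stepQ 484 Q484 (allL N484 (tt N335 F823) (tt N692 D692) (tt N333 (iv D484)) (tt N693 D693) (tt N694 D694) (tt N391 F824))
theorem Q486 : ∀ i, i < 486 → P i := stepQ 485 Q485 (allL N485 (tt N336 F825) (tt N377 F826) (tt N694 (iv F1162)) (tt N681 (iv F1132)) (tt N333 (iv D485)) (tt N695 D695))
theorem Q487 : ∀ i, i < 487 → P i := stepQ 486 Q486 (allL N486 (tt N337 F827) (tt N378 F828) (tt N670 (iv F1114)) (tt N696 D696) (tt N334 (iv D486)) (tt N683 (iv F1138)))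
theorem Q488 : ∀ i, i < 488 → P i := stepQ 487 Q487 (allL N487 (tt N693 (iv F1158)) (tt N396 F829) (tt N697 D697) (tt N335 (iv D487)) (tt N698 D698) (tt N392 F830))
theorem Q489 : ∀ i, i < 489 → P i := stepQ 488 Q488 (allL N488 (tt N694 (iv F1161)) (tt N399 F831) (tt N336 F832) (tt N699 D699) (tt N335 (iv D488)) (tt N700 D700))
theorem Q490 : ∀ i, i < 490 → P i := stepQ 489 Q489 (allL N489 (tt N695 (iv F1163)) (tt N338 F833) (tt N700 (iv F1174)) (tt N687 (iv F1143)) (tt N405 F834) (tt N336 (iv D489)))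
theorem Q491 : ∀ i, i < 491 → P i := stepQ 490 Q490 (allL N490 (tt N696 (iv F1166)) (tt N339 F835) (tt N701 D701) (tt N337 (iv D490)) (tt N404 F836) (tt N689 (iv F1146)))
theorem Q492 : ∀ i, i < 492 → P i := stepQ 491 Q491 (allL N491 (tt N383 F837) (tt N702 D702) (tt N339 (iv D491)) (tt N540 (iv F920)) (tt N406 F838) (tt N552 (iv F932)))
theorem Q493 : ∀ i, i < 493 → P i := stepQ 492 Q492 (allL N492 (tt N703 D703) (tt N340 (iv D492)) (tt N384 F839) (tt N704 D704) (tt N705 D705) (tt N706 D706))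
theorem Q494 : ∀ i, i < 494 → P i := stepQ 493 Q493 (allL N493 (tt N345 F840) (tt N704 (iv F1181)) (tt N504 (iv F863)) (tt N340 (iv D493)) (tt N707 D707) (tt N502 F860))
theorem Q495 : ∀ i, i < 495 → P i := stepQ 494 Q494 (allL N494 (tt N346 F841) (tt N705 (iv F1182)) (tt N341 F842) (tt N708 D708) (tt N340 (iv D494)) (tt N709 D709))
theorem Q496 : ∀ i, i < 496 → P i := stepQ 495 Q495 (allL N495 (tt N347 F843) (tt N706 (iv F1185)) (tt N342 F844) (tt N502 (iv F859)) (tt N710 D710) (tt N340 (iv D495)))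
theorem Q497 : ∀ i, i < 497 → P i := stepQ 496 Q496 (allL N496 (tt N348 F845) (tt N388 F846) (tt N709 (iv F1190)) (tt N359 F847) (tt N711 D711) (tt N341 (iv D496)))
theorem Q498 : ∀ i, i < 498 → P i := stepQ 497 Q497 (allL N497 (tt N349 F848) (tt N389 F849) (tt N710 (iv F1192)) (tt N712 D712) (tt N342 (iv D497)) (tt N711 (iv F1195)))
theorem Q499 : ∀ i, i < 499 → P i := stepQ 498 Q498 (allL N498 (tt N350 F850) (tt N390 F851) (tt N713 D713) (tt N343 (iv D498)) (tt N712 (iv F1198)) (tt N360 F852))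
theorem Q500 : ∀ i, i < 500 → P i := stepQ 499 Q499 (allL N499 (tt N344 (iv D499)) (tt N703 (iv F1178)) (tt N351 F853) (tt N546 (iv F929)) (tt N714 D714) (tt N376 F854))
theorem Q501 : ∀ i, i < 501 → P i := stepQ 500 Q500 (allL N500 (tt N546 (iv F927)) (tt N345 F855) (tt N542 (iv F922)) (tt N344 (iv D500)) (tt N715 D715) (tt N379 F856))
theorem Q502 : ∀ i, i < 502 → P i := stepQ 501 Q501 (allL N501 (tt N714 (iv F1201)) (tt N346 F857) (tt N352 F858) (tt N716 D716) (tt N344 (iv D501)) (tt N717 D717))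
theorem Q503 : ∀ i, i < 503 → P i := stepQ 502 Q502 (allL N502 (tt N504 (iv F861)) (tt N718 D718) (tt N345 (iv D502)) (tt N495 F859) (tt N719 D719) (tt N493 (iv F860)))
theorem Q504 : ∀ i, i < 504 → P i := stepQ 503 Q503 (allL N503 (tt N707 (iv F1187)) (tt N715 (iv F1203)) (tt N719 (iv F1210)) (tt N720 D720) (tt N345 (iv D503)) (tt N721 D721))
theorem Q505 : ∀ i, i < 505 → P i := stepQ 504 Q504 (allL N504 (tt N502 F861) (tt N379 F862) (tt N493 F863) (tt N347 F864) (tt N722 D722) (tt N345 (iv D504)))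
theorem Q506 : ∀ i, i < 506 → P i := stepQ 505 Q505 (allL N505 (tt N708 (iv F1188)) (tt N716 (iv F1204)) (tt N723 D723) (tt N346 (iv D505)) (tt N720 (iv F1211)) (tt N724 D724))
theorem Q507 : ∀ i, i < 507 → P i := stepQ 506 Q506 (allL N506 (tt N709 (iv F1189)) (tt N717 (iv F1205)) (tt N348 F865) (tt N724 (iv F1215)) (tt N725 D725) (tt N346 (iv D506)))
theorem Q508 : ∀ i, i < 508 → P i := stepQ 507 Q507 (allL N507 (tt N710 (iv F1191)) (tt N380 F866) (tt N349 F867) (tt N726 D726) (tt N347 (iv D507)) (tt N725 (iv F1218)))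
theorem Q509 : ∀ i, i < 509 → P i := stepQ 508 Q508 (allL N508 (tt N711 (iv F1193)) (tt N355 F868) (tt N725 (iv F1217)) (tt N625 (iv F1040)) (tt N348 (iv D508)) (tt N349 F869))
theorem Q510 : ∀ i, i < 510 → P i := stepQ 509 Q509 (allL N509 (tt N712 (iv F1196)) (tt N356 F870) (tt N727 D727) (tt N349 (iv D509)) (tt N350 F871) (tt N625 (iv F1041)))
theorem Q511 : ∀ i, i < 511 → P i := stepQ 510 Q510 (allL N510 (tt N713 (iv F1199)) (tt N635 (iv F1060)) (tt N350 (iv D510)) (tt N728 D728) (tt N727 (iv F1220)) (tt N365 F872))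
theorem Q512 : ∀ i, i < 512 → P i := stepQ 511 Q511 (allL N511 (tt N352 F873) (tt N403 F874) (tt N714 (iv F1202)) (tt N729 D729) (tt N351 (iv D511)) (tt N730 D730))
theorem Q513 : ∀ i, i < 513 → P i := stepQ 512 Q512 (allL N512 (tt N729 (iv F1222)) (tt N353 F875) (tt N731 D731) (tt N352 (iv D512)) (tt N382 F876) (tt N732 D732))
theorem Q514 : ∀ i, i < 514 → P i := stepQ 513 Q513 (allL N513 (tt N730 (iv F1225)) (tt N354 F877) (tt N717 (iv F1206)) (tt N732 (iv F1230)) (tt N381 F878) (tt N352 (iv D513)))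
theorem Q515 : ∀ i, i < 515 → P i := stepQ 514 Q514 (allL N514 (tt N406 F879) (tt N733 D733) (tt N353 (iv D514)) (tt N435 F880) (tt N383 F881) (tt N434 (iv F882)))
theorem Q516 : ∀ i, i < 516 → P i := stepQ 515 Q515 (allL N515 (tt N407 F883) (tt N732 (iv F1229)) (tt N434 F884) (tt N354 F885) (tt N734 D734) (tt N353 (iv D515)))
theorem Q517 : ∀ i, i < 517 → P i := stepQ 516 Q516 (allL N516 (tt N362 F886) (tt N358 F887) (tt N411 F888) (tt N735 D735) (tt N357 (iv D516)) (tt N736 D736))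
theorem Q518 : ∀ i, i < 518 → P i := stepQ 517 Q517 (allL N517 (tt N363 F889) (tt N735 (iv F1239)) (tt N737 D737) (tt N358 (iv D517)) (tt N735 (iv F1240)) (tt N738 D738))
theorem Q519 : ∀ i, i < 519 → P i := stepQ 518 Q518 (allL N518 (tt N364 F890) (tt N736 (iv F1242)) (tt N359 F891) (tt N738 (iv F1246)) (tt N604 (iv F1017)) (tt N358 (iv D518)))
theorem Q520 : ∀ i, i < 520 → P i := stepQ 519 Q519 (allL N519 (tt N365 F892) (tt N739 D739) (tt N360 (iv D519)) (tt N740 D740) (tt N620 (iv F1032)) (tt N713 (iv F1200)))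
theorem Q521 : ∀ i, i < 521 → P i := stepQ 520 Q520 (allL N520 (tt N411 F893) (tt N418 F894) (tt N362 F895) (tt N741 D741) (tt N361 (iv D520)) (tt N742 D742))
theorem Q522 : ∀ i, i < 522 → P i := stepQ 521 Q521 (allL N521 (tt N735 (iv F1238)) (tt N598 (iv F1005)) (tt N743 D743) (tt N362 (iv D521)) (tt N363 F896) (tt N744 D744))
theorem Q523 : ∀ i, i < 523 → P i := stepQ 522 Q522 (allL N522 (tt N736 (iv F1241)) (tt N597 (iv F1001)) (tt N742 (iv F1255)) (tt N744 (iv F1258)) (tt N594 (iv F995)) (tt N362 (iv D522)))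
theorem Q524 : ∀ i, i < 524 → P i := stepQ 523 Q523 (allL N523 (tt N737 (iv F1244)) (tt N745 D745) (tt N363 (iv D523)) (tt N746 D746) (tt N743 (iv F1257)) (tt N747 D747))
theorem Q525 : ∀ i, i < 525 → P i := stepQ 524 Q524 (allL N524 (tt N738 (iv F1245)) (tt N611 (iv F1021)) (tt N747 (iv F1259)) (tt N364 F897) (tt N748 D748) (tt N363 (iv D524)))
theorem Q526 : ∀ i, i < 526 → P i := stepQ 525 Q525 (allL N525 (tt N749 D749) (tt N365 (iv D525)) (tt N366 F898) (tt N750 D750) (tt N622 (iv F1037)) (tt N635 (iv F1061)))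
theorem Q527 : ∀ i, i < 527 → P i := stepQ 526 Q526 (allL N526 (tt N740 (iv F1248)) (tt N750 (iv F1261)) (tt N751 D751) (tt N365 (iv D526)) (tt N752 D752) (tt N728 (iv F1221)))
theorem Q528 : ∀ i, i < 528 → P i := stepQ 527 Q527 (allL N527 (tt N366 (iv D527)) (tt N440 F899) (tt N749 (iv F1260)) (tt N592 (iv F990)) (tt N626 (iv F1042)) (tt N634 (iv F1059)))
theorem Q529 : ∀ i, i < 529 → P i := stepQ 528 Q528 (allL N528 (tt N369 F900) (tt N753 D753) (tt N367 (iv D528)) (tt N754 D754) (tt N755 D755) (tt N756 D756))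
theorem Q530 : ∀ i, i < 530 → P i := stepQ 529 Q529 (allL N529 (tt N370 F901) (tt N681 (iv F1131)) (tt N755 (iv F1267)) (tt N377 F902) (tt N367 (iv D529)) (tt N757 D757))
theorem Q531 : ∀ i, i < 531 → P i := stepQ 530 Q530 (allL N530 (tt N371 F903) (tt N682 (iv F1134)) (tt N756 (iv F1269)) (tt N368 F904) (tt N758 D758) (tt N367 (iv D530)))
theorem Q532 : ∀ i, i < 532 → P i := stepQ 531 Q531 (allL N531 (tt N372 F905) (tt N683 (iv F1137)) (tt N531 F906) (tt N759 D759) (tt N368 (iv D531)) (tt N378 F907))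
theorem Q533 : ∀ i, i < 533 → P i := stepQ 532 Q532 (allL N532 (tt N756 (iv F1268)) (tt N369 (iv D532)) (tt N371 F908) (tt N760 D760) (tt N761 D761) (tt N369 (iv F909)))
theorem Q534 : ∀ i, i < 534 → P i := stepQ 533 Q533 (allL N533 (tt N754 (iv F1265)) (tt N760 (iv F1275)) (tt N762 D762) (tt N369 (iv D533)) (tt N763 D763) (tt N760 (iv F1276)))
theorem Q535 : ∀ i, i < 535 → P i := stepQ 534 Q534 (allL N534 (tt N755 (iv F1266)) (tt N761 (iv F1278)) (tt N370 F910) (tt N764 D764) (tt N369 (iv D534)) (tt N765 D765))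
theorem Q536 : ∀ i, i < 536 → P i := stepQ 535 Q535 (allL N535 (tt N757 (iv F1270)) (tt N374 F911) (tt N765 (iv F1283)) (tt N381 F912) (tt N766 D766) (tt N370 (iv D535)))
theorem Q537 : ∀ i, i < 537 → P i := stepQ 536 Q536 (allL N536 (tt N758 (iv F1272)) (tt N373 F913) (tt N761 (iv F1279)) (tt N767 D767) (tt N371 (iv D536)) (tt N766 (iv F1285)))
theorem Q538 : ∀ i, i < 538 → P i := stepQ 537 Q537 (allL N537 (tt N759 (iv F1273)) (tt N375 F914) (tt N768 D768) (tt N372 (iv D537)) (tt N767 (iv F1287)) (tt N382 F915))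
theorem Q539 : ∀ i, i < 539 → P i := stepQ 538 Q538 (allL N538 (tt N690 (iv F1147)) (tt N767 (iv F1286)) (tt N769 D769) (tt N373 (iv D538)) (tt N375 F916) (tt N734 (iv F1237)))
theorem Q540 : ∀ i, i < 540 → P i := stepQ 539 Q539 (allL N539 (tt N691 (iv F1150)) (tt N766 (iv F1284)) (tt N374 F917) (tt N734 (iv F1236)) (tt N374 F918) (tt N373 (iv D539)))
theorem Q541 : ∀ i, i < 541 → P i := stepQ 540 Q540 (allL N540 (tt N552 (iv F931)) (tt N770 D770) (tt N375 (iv D540)) (tt N491 F920) (tt N769 (iv F1290)) (tt N383 F919))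
theorem Q542 : ∀ i, i < 542 → P i := stepQ 541 Q541 (allL N541 (tt N706 (iv F1184)) (tt N376 (iv D541)) (tt N692 (iv F1155)) (tt N771 D771) (tt N772 D772) (tt N703 F1180))
theorem Q543 : ∀ i, i < 543 → P i := stepQ 542 Q542 (allL N542 (tt N379 F921) (tt N771 (iv F1295)) (tt N500 F922) (tt N376 (iv D542)) (tt N773 D773) (tt N546 (iv F928)))
theorem Q544 : ∀ i, i < 544 → P i := stepQ 543 Q543 (allL N543 (tt N380 F923) (tt N772 (iv F1297)) (tt N377 F924) (tt N774 D774) (tt N376 (iv D543)) (tt N775 D775))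
theorem Q545 : ∀ i, i < 545 → P i := stepQ 544 Q544 (allL N544 (tt N381 F925) (tt N695 (iv F1164)) (tt N775 (iv F1302)) (tt N757 (iv F1271)) (tt N730 (iv F1227)) (tt N377 (iv D544)))
theorem Q546 : ∀ i, i < 546 → P i := stepQ 545 Q545 (allL N545 (tt N382 F926) (tt N696 (iv F1167)) (tt N776 D776) (tt N378 (iv D545)) (tt N729 (iv F1224)) (tt N759 (iv F1274)))
theorem Q547 : ∀ i, i < 547 → P i := stepQ 546 Q546 (allL N546 (tt N500 F927) (tt N777 D777) (tt N379 (iv D546)) (tt N499 F929) (tt N778 D778) (tt N542 F928))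
theorem Q548 : ∀ i, i < 548 → P i := stepQ 547 Q547 (allL N547 (tt N773 (iv F1298)) (tt N722 (iv F1213)) (tt N778 (iv F1309)) (tt N779 D779) (tt N379 (iv D547)) (tt N780 D780))
theorem Q549 : ∀ i, i < 549 → P i := stepQ 548 Q548 (allL N548 (tt N774 (iv F1300)) (tt N726 (iv F1219)) (tt N781 D781) (tt N380 (iv D548)) (tt N779 (iv F1310)) (tt N782 D782))
theorem Q550 : ∀ i, i < 550 → P i := stepQ 549 Q549 (allL N549 (tt N775 (iv F1301)) (tt N725 (iv F1216)) (tt N381 F930) (tt N782 (iv F1311)) (tt N717 (iv F1207)) (tt N380 (iv D549)))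
theorem Q551 : ∀ i, i < 551 → P i := stepQ 550 Q550 (allL N550 (tt N776 (iv F1303)) (tt N783 D783) (tt N382 (iv D550)) (tt N784 D784) (tt N731 (iv F1228)) (tt N768 (iv F1288)))
theorem Q552 : ∀ i, i < 552 → P i := stepQ 551 Q551 (allL N551 (tt N785 D785) (tt N383 (iv D551)) (tt N783 (iv F1312)) (tt N786 D786) (tt N733 (iv F1232)) (tt N770 (iv F1293)))
theorem Q553 : ∀ i, i < 553 → P i := stepQ 552 Q552 (allL N552 (tt N540 F931) (tt N786 (iv F1313)) (tt N483 F933) (tt N383 (iv D552)) (tt N787 D787) (tt N491 F932))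
theorem Q554 : ∀ i, i < 554 → P i := stepQ 553 Q553 (allL N553 (tt N384 (iv D553)) (tt N391 F934) (tt N703 (iv F1179)) (tt N788 D788) (tt N789 D789) (tt N692 (iv F1156)))
theorem Q555 : ∀ i, i < 555 → P i := stepQ 554 Q554 (allL N554 (tt N788 (iv F1319)) (tt N385 F935) (tt N454 (iv F936)) (tt N384 (iv D554)) (tt N790 D790) (tt N454 (iv F937)))
theorem Q556 : ∀ i, i < 556 → P i := stepQ 555 Q555 (allL N555 (tt N789 (iv F1323)) (tt N386 F938) (tt N705 (iv F1183)) (tt N791 D791) (tt N384 (iv D555)) (tt N792 D792))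
theorem Q557 : ∀ i, i < 557 → P i := stepQ 556 Q556 (allL N556 (tt N692 (iv F1154)) (tt N387 F939) (tt N706 (iv F1186)) (tt N454 F940) (tt N793 D793) (tt N384 (iv D556)))
theorem Q558 : ∀ i, i < 558 → P i := stepQ 557 Q557 (allL N557 (tt N395 F941) (tt N790 (iv F1325)) (tt N451 F942) (tt N794 D794) (tt N385 (iv D557)) (tt N795 D795))
theorem Q559 : ∀ i, i < 559 → P i := stepQ 558 Q558 (allL N558 (tt N397 F943) (tt N791 (iv F1327)) (tt N796 D796) (tt N386 (iv D558)) (tt N794 (iv F1331)) (tt N797 D797))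
theorem Q560 : ∀ i, i < 560 → P i := stepQ 559 Q559 (allL N559 (tt N398 F944) (tt N792 (iv F1328)) (tt N388 F945) (tt N797 (iv F1340)) (tt N798 D798) (tt N386 (iv D559)))
theorem Q561 : ∀ i, i < 561 → P i := stepQ 560 Q560 (allL N560 (tt N399 F946) (tt N793 (iv F1329)) (tt N389 F947) (tt N799 D799) (tt N387 (iv D560)) (tt N798 (iv F1343)))
theorem Q562 : ∀ i, i < 562 → P i := stepQ 561 Q561 (allL N561 (tt N400 F948) (tt N711 (iv F1194)) (tt N798 (iv F1342)) (tt N800 D800) (tt N388 (iv D561)) (tt N389 F949))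
theorem Q563 : ∀ i, i < 563 → P i := stepQ 562 Q562 (allL N562 (tt N401 F950) (tt N712 (iv F1197)) (tt N801 D801) (tt N389 (iv D562)) (tt N390 F951) (tt N800 (iv F1348)))
theorem Q564 : ∀ i, i < 564 → P i := stepQ 563 Q563 (allL N563 (tt N402 F952) (tt N802 D802) (tt N390 (iv D563)) (tt N458 F954) (tt N801 (iv F1350)) (tt N417 F953))
theorem Q565 : ∀ i, i < 565 → P i := stepQ 564 Q564 (allL N564 (tt N392 F955) (tt N788 (iv F1320)) (tt N672 (iv F1118)) (tt N391 (iv D564)) (tt N803 D803) (tt N693 (iv F1160)))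
theorem Q566 : ∀ i, i < 566 → P i := stepQ 565 Q565 (allL N565 (tt N393 F956) (tt N789 (iv F1324)) (tt N403 F957) (tt N804 D804) (tt N391 (iv D565)) (tt N805 D805))
theorem Q567 : ∀ i, i < 567 → P i := stepQ 566 Q566 (allL N566 (tt N672 (iv F1117)) (tt N806 D806) (tt N392 (iv D566)) (tt N667 (iv F1106)) (tt N807 D807) (tt N697 (iv F1170)))
theorem Q568 : ∀ i, i < 568 → P i := stepQ 567 Q567 (allL N567 (tt N803 (iv F1353)) (tt N395 F958) (tt N807 (iv F1360)) (tt N808 D808) (tt N392 (iv D567)) (tt N809 D809))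
theorem Q569 : ∀ i, i < 569 → P i := stepQ 568 Q568 (allL N568 (tt N804 (iv F1354)) (tt N397 F959) (tt N810 D810) (tt N393 (iv D568)) (tt N808 (iv F1362)) (tt N811 D811))
theorem Q570 : ∀ i, i < 570 → P i := stepQ 569 Q569 (allL N569 (tt N805 (iv F1355)) (tt N398 F960) (tt N405 F961) (tt N811 (iv F1365)) (tt N700 (iv F1175)) (tt N393 (iv D569)))
theorem Q571 : ∀ i, i < 571 → P i := stepQ 570 Q570 (allL N570 (tt N444 F962) (tt N394 (iv D570)) (tt N806 (iv F1357)) (tt N443 F963) (tt N812 D812) (tt N444 F964))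
theorem Q572 : ∀ i, i < 572 → P i := stepQ 571 Q571 (allL N571 (tt N451 F965) (tt N812 (iv F1367)) (tt N395 F966) (tt N813 D813) (tt N394 (iv D571)) (tt N814 D814))
theorem Q573 : ∀ i, i < 573 → P i := stepQ 572 Q572 (allL N572 (tt N794 (iv F1330)) (tt N808 (iv F1361)) (tt N815 D815) (tt N395 (iv D572)) (tt N397 F967) (tt N816 D816))
theorem Q574 : ∀ i, i < 574 → P i := stepQ 573 Q573 (allL N573 (tt N795 (iv F1332)) (tt N809 (iv F1363)) (tt N814 (iv F1371)) (tt N816 (iv F1374)) (tt N817 D817) (tt N395 (iv D573)))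
theorem Q575 : ∀ i, i < 575 → P i := stepQ 574 Q574 (allL N574 (tt N455 F968) (tt N698 (iv F1171)) (tt N446 F969) (tt N818 D818) (tt N396 (iv D574)) (tt N817 (iv F1377)))
theorem Q576 : ∀ i, i < 576 → P i := stepQ 575 Q575 (allL N575 (tt N796 (iv F1335)) (tt N819 D819) (tt N397 (iv D575)) (tt N820 D820) (tt N815 (iv F1373)) (tt N821 D821))
theorem Q577 : ∀ i, i < 577 → P i := stepQ 576 Q576 (allL N576 (tt N797 (iv F1338)) (tt N811 (iv F1364)) (tt N821 (iv F1384)) (tt N398 F970) (tt N822 D822) (tt N397 (iv D576)))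
theorem Q578 : ∀ i, i < 578 → P i := stepQ 577 Q577 (allL N577 (tt N798 (iv F1341)) (tt N700 (iv F1173)) (tt N400 F971) (tt N823 D823) (tt N398 (iv D577)) (tt N399 F972))
theorem Q579 : ∀ i, i < 579 → P i := stepQ 578 Q578 (allL N578 (tt N799 (iv F1344)) (tt N699 (iv F1172)) (tt N824 D824) (tt N399 (iv D578)) (tt N818 (iv F1379)) (tt N823 (iv F1386)))
theorem Q580 : ∀ i, i < 580 → P i := stepQ 579 Q579 (allL N579 (tt N800 (iv F1346)) (tt N408 F973) (tt N825 D825) (tt N400 (iv D579)) (tt N425 F974) (tt N401 F975))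
theorem Q581 : ∀ i, i < 581 → P i := stepQ 580 Q580 (allL N580 (tt N801 (iv F1349)) (tt N826 D826) (tt N401 (iv D580)) (tt N827 D827) (tt N402 F976) (tt N825 (iv F1388)))
theorem Q582 : ∀ i, i < 582 → P i := stepQ 581 Q581 (allL N581 (tt N828 D828) (tt N402 (iv D581)) (tt N410 F977) (tt N829 D829) (tt N826 (iv F1390)) (tt N427 F978))
theorem Q583 : ∀ i, i < 583 → P i := stepQ 582 Q582 (allL N582 (tt N458 F979) (tt N829 (iv F1393)) (tt N447 F981) (tt N402 (iv D582)) (tt N830 D830) (tt N428 F980))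
theorem Q584 : ∀ i, i < 584 → P i := stepQ 583 Q583 (allL N583 (tt N404 F982) (tt N729 (iv F1223)) (tt N831 D831) (tt N403 (iv D583)) (tt N696 (iv F1168)) (tt N832 D832))
theorem Q585 : ∀ i, i < 585 → P i := stepQ 584 Q584 (allL N584 (tt N405 F983) (tt N730 (iv F1226)) (tt N805 (iv F1356)) (tt N832 (iv F1399)) (tt N695 (iv F1165)) (tt N403 (iv D584)))
theorem Q586 : ∀ i, i < 586 → P i := stepQ 585 Q585 (allL N585 (tt N831 (iv F1397)) (tt N833 D833) (tt N404 (iv D585)) (tt N834 D834) (tt N701 (iv F1176)) (tt N835 D835))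
theorem Q587 : ∀ i, i < 587 → P i := stepQ 586 Q586 (allL N586 (tt N832 (iv F1398)) (tt N407 F984) (tt N835 (iv F1401)) (tt N405 F985) (tt N836 D836) (tt N404 (iv D586)))
theorem Q588 : ∀ i, i < 588 → P i := stepQ 587 Q587 (allL N587 (tt N837 D837) (tt N406 (iv D587)) (tt N833 (iv F1400)) (tt N630 (iv F1048)) (tt N702 (iv F1177)) (tt N632 (iv F1053)))
theorem Q589 : ∀ i, i < 589 → P i := stepQ 588 Q588 (allL N588 (tt N734 (iv F1234)) (tt N836 (iv F1402)) (tt N633 (iv F1055)) (tt N691 (iv F1152)) (tt N407 (iv D588)) (tt N690 F1149))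
theorem Q590 : ∀ i, i < 590 → P i := stepQ 589 Q589 (allL N589 (tt N629 (iv F1045)) (tt N838 D838) (tt N408 (iv D589)) (tt N769 (iv F1289)) (tt N437 F986) (tt N409 F987))
theorem Q591 : ∀ i, i < 591 → P i := stepQ 590 Q590 (allL N590 (tt N839 D839) (tt N409 (iv D590)) (tt N826 (iv F1389)) (tt N840 D840) (tt N410 F988) (tt N838 (iv F1404)))
theorem Q592 : ∀ i, i < 592 → P i := stepQ 591 Q591 (allL N591 (tt N633 (iv F1054)) (tt N840 (iv F1406)) (tt N734 (iv F1235)) (tt N409 (iv D591)) (tt N434 F989) (tt N769 (iv F1291)))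
theorem Q593 : ∀ i, i < 593 → P i := stepQ 592 Q592 (allL N592 (tt N410 (iv D592)) (tt N634 (iv F1058)) (tt N828 (iv F1391)) (tt N527 F990) (tt N839 (iv F1405)) (tt N440 F991))
theorem Q594 : ∀ i, i < 594 → P i := stepQ 593 Q593 (allL N593 (tt N741 (iv F1250)) (tt N412 F992) (tt N841 D841) (tt N411 (iv D593)) (tt N419 F993) (tt N842 D842))
theorem Q595 : ∀ i, i < 595 → P i := stepQ 594 Q594 (allL N594 (tt N742 (iv F1253)) (tt N413 F994) (tt N736 (iv F1243)) (tt N842 (iv F1410)) (tt N522 F995) (tt N411 (iv D594)))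
theorem Q596 : ∀ i, i < 596 → P i := stepQ 595 Q595 (allL N595 (tt N421 F996) (tt N843 D843) (tt N412 (iv D595)) (tt N821 (iv F1385)) (tt N421 F997) (tt N820 (iv F1382)))
theorem Q597 : ∀ i, i < 597 → P i := stepQ 596 Q596 (allL N596 (tt N422 F998) (tt N842 (iv F1409)) (tt N820 (iv F1381)) (tt N413 F999) (tt N844 D844) (tt N412 (iv D596)))
theorem Q598 : ∀ i, i < 598 → P i := stepQ 597 Q597 (allL N597 (tt N423 F1000) (tt N522 F1001) (tt N415 F1002) (tt N845 D845) (tt N413 (iv D597)) (tt N414 F1003))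
theorem Q599 : ∀ i, i < 599 → P i := stepQ 598 Q598 (allL N598 (tt N424 F1004) (tt N521 F1005) (tt N846 D846) (tt N414 (iv D598)) (tt N424 F1006) (tt N845 (iv F1416)))
theorem Q600 : ∀ i, i < 600 → P i := stepQ 599 Q599 (allL N599 (tt N425 F1007) (tt N621 (iv F1034)) (tt N847 D847) (tt N415 (iv D599)) (tt N800 (iv F1347)) (tt N416 F1008))
theorem Q601 : ∀ i, i < 601 → P i := stepQ 600 Q600 (allL N600 (tt N426 F1009) (tt N848 D848) (tt N416 (iv D600)) (tt N849 D849) (tt N417 F1010) (tt N847 (iv F1420)))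
theorem Q602 : ∀ i, i < 602 → P i := stepQ 601 Q601 (allL N601 (tt N850 D850) (tt N417 (iv D601)) (tt N739 (iv F1247)) (tt N851 D851) (tt N848 (iv F1421)) (tt N802 (iv F1352)))
theorem Q603 : ∀ i, i < 603 → P i := stepQ 602 Q602 (allL N602 (tt N428 F1011) (tt N851 (iv F1424)) (tt N459 F1012) (tt N417 (iv D602)) (tt N852 D852) (tt N458 F1013))
theorem Q604 : ∀ i, i < 604 → P i := stepQ 603 Q603 (allL N603 (tt N419 F1014) (tt N741 (iv F1251)) (tt N853 D853) (tt N418 (iv D603)) (tt N741 (iv F1252)) (tt N854 D854))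
theorem Q605 : ∀ i, i < 605 → P i := stepQ 604 Q604 (allL N604 (tt N420 F1015) (tt N742 (iv F1254)) (tt N430 F1016) (tt N854 (iv F1430)) (tt N518 F1017) (tt N418 (iv D604)))
theorem Q606 : ∀ i, i < 606 → P i := stepQ 605 Q605 (allL N605 (tt N853 (iv F1428)) (tt N855 D855) (tt N419 (iv D605)) (tt N856 D856) (tt N841 (iv F1408)) (tt N857 D857))
theorem Q607 : ∀ i, i < 607 → P i := stepQ 606 Q606 (allL N606 (tt N854 (iv F1429)) (tt N422 F1018) (tt N857 (iv F1432)) (tt N420 F1019) (tt N858 D858) (tt N419 (iv D606)))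
theorem Q608 : ∀ i, i < 608 → P i := stepQ 607 Q607 (allL N607 (tt N859 D859) (tt N421 (iv D607)) (tt N855 (iv F1431)) (tt N860 D860) (tt N843 (iv F1411)) (tt N861 D861))
theorem Q609 : ∀ i, i < 609 → P i := stepQ 608 Q608 (allL N608 (tt N821 (iv F1383)) (tt N860 (iv F1435)) (tt N797 (iv F1339)) (tt N421 (iv D608)) (tt N862 D862) (tt N796 F1337))
theorem Q610 : ∀ i, i < 610 → P i := stepQ 609 Q609 (allL N609 (tt N820 (iv F1380)) (tt N861 (iv F1436)) (tt N422 F1020) (tt N796 (iv F1336)) (tt N863 D863) (tt N421 (iv D609)))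
theorem Q611 : ∀ i, i < 611 → P i := stepQ 610 Q610 (allL N610 (tt N844 (iv F1412)) (tt N858 (iv F1433)) (tt N863 (iv F1437)) (tt N864 D864) (tt N422 (iv D610)) (tt N844 (iv F1413)))
theorem Q612 : ∀ i, i < 612 → P i := stepQ 611 Q611 (allL N611 (tt N845 (iv F1414)) (tt N524 F1021) (tt N865 D865) (tt N423 (iv D611)) (tt N864 (iv F1439)) (tt N424 F1022))
theorem Q613 : ∀ i, i < 613 → P i := stepQ 612 Q612 (allL N612 (tt N846 (iv F1417)) (tt N866 D866) (tt N424 (iv D612)) (tt N867 D867) (tt N846 (iv F1418)) (tt N865 (iv F1440)))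
theorem Q614 : ∀ i, i < 614 → P i := stepQ 613 Q613 (allL N613 (tt N847 (iv F1419)) (tt N868 D868) (tt N425 (iv D613)) (tt N869 D869) (tt N825 (iv F1387)) (tt N426 F1023))
theorem Q615 : ∀ i, i < 615 → P i := stepQ 614 Q614 (allL N614 (tt N870 D870) (tt N426 (iv D614)) (tt N438 F1024) (tt N871 D871) (tt N427 F1025) (tt N868 (iv F1443)))
theorem Q616 : ∀ i, i < 616 → P i := stepQ 615 Q615 (allL N615 (tt N849 (iv F1422)) (tt N871 (iv F1447)) (tt N872 D872) (tt N426 (iv D615)) (tt N873 D873) (tt N869 (iv F1444)))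
theorem Q617 : ∀ i, i < 617 → P i := stepQ 616 Q616 (allL N616 (tt N427 (iv D616)) (tt N850 (iv F1423)) (tt N440 F1026) (tt N874 D874) (tt N870 (iv F1446)) (tt N828 (iv F1392)))
theorem Q618 : ∀ i, i < 618 → P i := stepQ 617 Q617 (allL N617 (tt N874 (iv F1449)) (tt N428 F1027) (tt N875 D875) (tt N427 (iv D617)) (tt N876 D876) (tt N829 (iv F1394)))
theorem Q619 : ∀ i, i < 619 → P i := stepQ 618 Q618 (allL N618 (tt N459 F1028) (tt N877 D877) (tt N428 (iv D618)) (tt N448 F1029) (tt N878 D878) (tt N447 F1030))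
theorem Q620 : ∀ i, i < 620 → P i := stepQ 619 Q619 (allL N619 (tt N852 (iv F1426)) (tt N876 (iv F1450)) (tt N878 (iv F1454)) (tt N873 (iv F1448)) (tt N428 (iv D619)) (tt N879 D879))
theorem Q621 : ∀ i, i < 621 → P i := stepQ 620 Q620 (allL N620 (tt N431 F1031) (tt N880 D880) (tt N429 (iv D620)) (tt N881 D881) (tt N519 F1032) (tt N882 D882))
theorem Q622 : ∀ i, i < 622 → P i := stepQ 621 Q621 (allL N621 (tt N432 F1033) (tt N599 F1034) (tt N882 (iv F1459)) (tt N430 F1035) (tt N883 D883) (tt N429 (iv D621)))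
theorem Q623 : ∀ i, i < 623 → P i := stepQ 622 Q622 (allL N622 (tt N884 D884) (tt N431 (iv D622)) (tt N433 F1036) (tt N885 D885) (tt N525 F1037) (tt N886 D886))
theorem Q624 : ∀ i, i < 624 → P i := stepQ 623 Q623 (allL N623 (tt N881 (iv F1457)) (tt N885 (iv F1466)) (tt N887 D887) (tt N431 (iv D623)) (tt N888 D888) (tt N889 D889))
theorem Q625 : ∀ i, i < 625 → P i := stepQ 624 Q624 (allL N624 (tt N882 (iv F1458)) (tt N886 (iv F1467)) (tt N432 F1038) (tt N889 (iv F1470)) (tt N890 D890) (tt N431 (iv D624)))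
theorem Q626 : ∀ i, i < 626 → P i := stepQ 625 Q625 (allL N625 (tt N883 (iv F1460)) (tt N436 F1039) (tt N890 (iv F1471)) (tt N508 F1040) (tt N432 (iv D625)) (tt N509 F1041))
theorem Q627 : ∀ i, i < 627 → P i := stepQ 626 Q626 (allL N626 (tt N433 (iv D626)) (tt N631 (iv F1050)) (tt N884 (iv F1464)) (tt N891 D891) (tt N527 F1042) (tt N892 D892))
theorem Q628 : ∀ i, i < 628 → P i := stepQ 627 Q627 (allL N627 (tt N891 (iv F1473)) (tt N434 F1043) (tt N893 D893) (tt N433 (iv D627)) (tt N840 (iv F1407)) (tt N733 (iv F1233)))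
theorem Q629 : ∀ i, i < 629 → P i := stepQ 628 Q628 (allL N628 (tt N892 (iv F1474)) (tt N435 F1044) (tt N886 (iv F1468)) (tt N733 (iv F1231)) (tt N894 D894) (tt N433 (iv D628)))
theorem Q630 : ∀ i, i < 630 → P i := stepQ 629 Q629 (allL N629 (tt N589 F1045) (tt N894 (iv F1475)) (tt N436 F1046) (tt N787 (iv F1317)) (tt N435 (iv D629)) (tt N442 F1047))
theorem Q631 : ∀ i, i < 631 → P i := stepQ 630 Q630 (allL N630 (tt N895 D895) (tt N437 (iv D630)) (tt N868 (iv F1442)) (tt N587 F1048) (tt N838 (iv F1403)) (tt N438 F1049))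
theorem Q632 : ∀ i, i < 632 → P i := stepQ 631 Q631 (allL N631 (tt N438 (iv D631)) (tt N626 F1050) (tt N870 (iv F1445)) (tt N896 D896) (tt N440 F1051) (tt N895 (iv F1479)))
theorem Q633 : ∀ i, i < 633 → P i := stepQ 632 Q632 (allL N632 (tt N896 (iv F1480)) (tt N439 F1052) (tt N897 D897) (tt N438 (iv D632)) (tt N898 D898) (tt N587 F1053))
theorem Q634 : ∀ i, i < 634 → P i := stepQ 633 Q633 (allL N633 (tt N591 F1054) (tt N898 (iv F1485)) (tt N588 F1055) (tt N442 F1056) (tt N439 (iv D633)) (tt N787 (iv F1318)))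
theorem Q635 : ∀ i, i < 635 → P i := stepQ 634 Q634 (allL N634 (tt N441 F1057) (tt N592 F1058) (tt N899 D899) (tt N440 (iv D634)) (tt N900 D900) (tt N527 F1059))
theorem Q636 : ∀ i, i < 636 → P i := stepQ 635 Q635 (allL N635 (tt N899 (iv F1487)) (tt N510 F1060) (tt N441 (iv D635)) (tt N901 D901) (tt N902 D902) (tt N525 F1061))
theorem Q637 : ∀ i, i < 637 → P i := stepQ 636 Q636 (allL N636 (tt N900 (iv F1489)) (tt N442 F1062) (tt N902 (iv F1494)) (tt N898 (iv F1486)) (tt N441 (iv D636)) (tt N894 (iv F1476)))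
theorem Q638 : ∀ i, i < 638 → P i := stepQ 637 Q637 (allL N637 (tt N445 F1063) (tt N449 F1064) (tt N637 F1065) (tt N903 D903) (tt N443 (iv D637)) (tt N904 D904))
theorem Q639 : ∀ i, i < 639 → P i := stepQ 638 Q638 (allL N638 (tt N806 F1359) (tt N697 (iv F1169)) (tt N444 (iv D638)) (tt N905 D905) (tt N906 D906) (tt N806 (iv F1358)))
theorem Q640 : ∀ i, i < 640 → P i := stepQ 639 Q639 (allL N639 (tt N812 (iv F1366)) (tt N446 F1066) (tt N906 (iv F1502)) (tt N907 D907) (tt N444 (iv D639)) (tt N908 D908))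
theorem Q641 : ∀ i, i < 641 → P i := stepQ 640 Q640 (allL N640 (tt N903 (iv F1495)) (tt N447 F1067) (tt N909 D909) (tt N445 (iv D640)) (tt N907 (iv F1504)) (tt N877 (iv F1452)))
theorem Q642 : ∀ i, i < 642 → P i := stepQ 641 Q641 (allL N641 (tt N904 (iv F1497)) (tt N448 F1068) (tt N641 F1069) (tt N877 (iv F1451)) (tt N904 (iv F1500)) (tt N445 (iv D641)))
theorem Q643 : ∀ i, i < 643 → P i := stepQ 642 Q642 (allL N642 (tt N456 F1070) (tt N907 (iv F1503)) (tt N830 (iv F1396)) (tt N446 (iv D642)) (tt N447 F1071) (tt N910 D910))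
theorem Q644 : ∀ i, i < 644 → P i := stepQ 643 Q643 (allL N643 (tt N457 F1072) (tt N908 (iv F1505)) (tt N817 (iv F1376)) (tt N910 (iv F1507)) (tt N814 (iv F1372)) (tt N446 (iv D643)))
theorem Q645 : ∀ i, i < 645 → P i := stepQ 644 Q644 (allL N644 (tt N453 F1073) (tt N904 (iv F1498)) (tt N450 F1074) (tt N911 D911) (tt N448 (iv D644)) (tt N449 F1075))
theorem Q646 : ∀ i, i < 646 → P i := stepQ 645 Q645 (allL N645 (tt N452 F1076) (tt N903 (iv F1496)) (tt N912 D912) (tt N449 (iv D645)) (tt N813 (iv F1369)) (tt N911 (iv F1509)))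
theorem Q647 : ∀ i, i < 647 → P i := stepQ 646 Q646 (allL N646 (tt N813 (iv F1368)) (tt N456 F1077) (tt N913 D913) (tt N451 (iv D646)) (tt N452 F1078) (tt N914 D914))
theorem Q648 : ∀ i, i < 648 → P i := stepQ 647 Q647 (allL N647 (tt N814 (iv F1370)) (tt N457 F1079) (tt N795 (iv F1333)) (tt N914 (iv F1514)) (tt N457 F1080) (tt N451 (iv D647)))
theorem Q649 : ∀ i, i < 649 → P i := stepQ 648 Q648 (allL N648 (tt N912 (iv F1510)) (tt N915 D915) (tt N452 (iv D648)) (tt N912 (iv F1511)) (tt N913 (iv F1512)) (tt N916 D916))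
theorem Q650 : ∀ i, i < 650 → P i := stepQ 649 Q649 (allL N649 (tt N911 (iv F1508)) (tt N459 F1081) (tt N916 (iv F1516)) (tt N453 F1082) (tt N917 D917) (tt N452 (iv D649)))
theorem Q651 : ∀ i, i < 651 → P i := stepQ 650 Q650 (allL N650 (tt N454 (iv D650)) (tt N693 (iv F1159)) (tt N788 (iv F1321)) (tt N692 F1157) (tt N918 D918) (tt N788 (iv F1322)))
theorem Q652 : ∀ i, i < 652 → P i := stepQ 651 Q651 (allL N651 (tt N918 (iv F1519)) (tt N455 F1083) (tt N790 (iv F1326)) (tt N919 D919) (tt N454 (iv D651)) (tt N920 D920))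
theorem Q653 : ∀ i, i < 653 → P i := stepQ 652 Q652 (allL N652 (tt N818 (iv F1378)) (tt N919 (iv F1520)) (tt N921 D921) (tt N455 (iv D652)) (tt N799 (iv F1345)) (tt N922 D922))
theorem Q654 : ∀ i, i < 654 → P i := stepQ 653 Q653 (allL N653 (tt N817 (iv F1375)) (tt N920 (iv F1521)) (tt N457 F1084) (tt N922 (iv F1522)) (tt N795 (iv F1334)) (tt N455 (iv D653)))
theorem Q655 : ∀ i, i < 655 → P i := stepQ 654 Q654 (allL N654 (tt N830 (iv F1395)) (tt N923 D923) (tt N456 (iv D654)) (tt N924 D924) (tt N458 F1085) (tt N925 D925))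
theorem Q656 : ∀ i, i < 656 → P i := stepQ 655 Q655 (allL N655 (tt N910 (iv F1506)) (tt N914 (iv F1513)) (tt N925 (iv F1524)) (tt N457 F1086) (tt N926 D926) (tt N456 (iv D655)))
theorem Q657 : ∀ i, i < 657 → P i := stepQ 656 Q656 (allL N656 (tt N927 D927) (tt N458 (iv D656)) (tt N915 (iv F1515)) (tt N802 (iv F1351)) (tt N923 (iv F1523)) (tt N851 (iv F1425)))
theorem Q658 : ∀ i, i < 658 → P i := stepQ 657 Q657 (allL N657 (tt N878 (iv F1453)) (tt N917 (iv F1517)) (tt N852 (iv F1427)) (tt N917 (iv F1518)) (tt N459 (iv D657)) (tt N926 (iv F1525)))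
theorem Q659 : ∀ i, i < 659 → P i := stepQ 658 Q658 (allL N658 (tt N461 F1087) (tt N658 F1088) (tt N928 D928) (tt N460 (iv D658)) (tt N929 D929) (tt N930 D930))
theorem Q660 : ∀ i, i < 660 → P i := stepQ 659 Q659 (allL N659 (tt N462 F1089) (tt N659 F1090) (tt N476 F1091) (tt N930 (iv F1532)) (tt N931 D931) (tt N460 (iv D659)))
theorem Q661 : ∀ i, i < 661 → P i := stepQ 660 Q660 (allL N660 (tt N928 (iv F1526)) (tt N932 D932) (tt N461 (iv D660)) (tt N933 D933) (tt N934 D934) (tt N932 F1538))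
theorem Q662 : ∀ i, i < 662 → P i := stepQ 661 Q661 (allL N661 (tt N929 (iv F1527)) (tt N464 F1092) (tt N934 (iv F1539)) (tt N469 F1093) (tt N461 (iv D661)) (tt N935 D935))
theorem Q663 : ∀ i, i < 663 → P i := stepQ 662 Q662 (allL N662 (tt N930 (iv F1530)) (tt N463 F1094) (tt N932 (iv F1537)) (tt N462 F1095) (tt N936 D936) (tt N461 (iv D662)))
theorem Q664 : ∀ i, i < 664 → P i := stepQ 663 Q663 (allL N663 (tt N931 (iv F1533)) (tt N465 F1096) (tt N480 F1097) (tt N937 D937) (tt N462 (iv D663)) (tt N471 F1098))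
theorem Q665 : ∀ i, i < 665 → P i := stepQ 664 Q664 (allL N664 (tt N664 F1099) (tt N936 (iv F1542)) (tt N464 F1100) (tt N938 D938) (tt N463 (iv D664)) (tt N939 D939))
theorem Q666 : ∀ i, i < 666 → P i := stepQ 665 Q665 (allL N665 (tt N665 F1101) (tt N935 (iv F1540)) (tt N939 (iv F1548)) (tt N473 F1102) (tt N939 (iv F1549)) (tt N464 (iv D665)))
theorem Q667 : ∀ i, i < 667 → P i := stepQ 666 Q666 (allL N666 (tt N666 F1103) (tt N937 (iv F1543)) (tt N940 D940) (tt N465 (iv D666)) (tt N938 (iv F1546)) (tt N474 F1104))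
theorem Q668 : ∀ i, i < 668 → P i := stepQ 667 Q667 (allL N667 (tt N468 F1105) (tt N941 D941) (tt N466 (iv D667)) (tt N566 F1106) (tt N942 D942) (tt N943 D943))
theorem Q669 : ∀ i, i < 669 → P i := stepQ 668 Q668 (allL N668 (tt N469 F1107) (tt N668 F1108) (tt N942 (iv F1558)) (tt N929 (iv F1529)) (tt N466 (iv D668)) (tt N944 D944))
theorem Q670 : ∀ i, i < 670 → P i := stepQ 669 Q669 (allL N669 (tt N470 F1109) (tt N669 F1110) (tt N943 (iv F1561)) (tt N467 F1111) (tt N945 D945) (tt N466 (iv D669)))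
theorem Q671 : ∀ i, i < 671 → P i := stepQ 670 Q670 (allL N670 (tt N471 F1112) (tt N670 F1113) (tt N486 F1114) (tt N946 D946) (tt N467 (iv D670)) (tt N931 (iv F1536)))
theorem Q672 : ∀ i, i < 672 → P i := stepQ 671 Q671 (allL N671 (tt N943 (iv F1559)) (tt N468 (iv D671)) (tt N470 F1115) (tt N947 D947) (tt N948 D948) (tt N468 (iv F1116)))
theorem Q673 : ∀ i, i < 673 → P i := stepQ 672 Q672 (allL N672 (tt N566 F1117) (tt N947 (iv F1570)) (tt N564 F1118) (tt N468 (iv D672)) (tt N949 D949) (tt N947 (iv F1572)))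
theorem Q674 : ∀ i, i < 674 → P i := stepQ 673 Q673 (allL N673 (tt N942 (iv F1557)) (tt N948 (iv F1573)) (tt N469 F1119) (tt N950 D950) (tt N468 (iv D673)) (tt N951 D951))
theorem Q675 : ∀ i, i < 675 → P i := stepQ 674 Q674 (allL N674 (tt N944 (iv F1563)) (tt N473 F1120) (tt N951 (iv F1577)) (tt N935 (iv F1541)) (tt N952 D952) (tt N469 (iv D674)))
theorem Q676 : ∀ i, i < 676 → P i := stepQ 675 Q675 (allL N675 (tt N945 (iv F1565)) (tt N472 F1121) (tt N948 (iv F1574)) (tt N953 D953) (tt N470 (iv D675)) (tt N952 (iv F1579)))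
theorem Q677 : ∀ i, i < 677 → P i := stepQ 676 Q676 (allL N676 (tt N946 (iv F1567)) (tt N474 F1122) (tt N954 D954) (tt N471 (iv D676)) (tt N953 (iv F1581)) (tt N937 (iv F1544)))
theorem Q678 : ∀ i, i < 678 → P i := stepQ 677 Q677 (allL N677 (tt N677 F1123) (tt N953 (iv F1580)) (tt N955 D955) (tt N472 (iv D677)) (tt N474 F1124) (tt N956 D956))
theorem Q679 : ∀ i, i < 679 → P i := stepQ 678 Q678 (allL N678 (tt N678 F1125) (tt N952 (iv F1578)) (tt N473 F1126) (tt N956 (iv F1585)) (tt N473 F1127) (tt N472 (iv D678)))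
theorem Q680 : ∀ i, i < 680 → P i := stepQ 679 Q679 (allL N679 (tt N679 F1128) (tt N957 D957) (tt N474 (iv D679)) (tt N940 (iv F1552)) (tt N955 (iv F1583)) (tt N940 (iv F1551)))
theorem Q681 : ∀ i, i < 681 → P i := stepQ 680 Q680 (allL N680 (tt N477 F1129) (tt N958 D958) (tt N475 (iv D680)) (tt N959 D959) (tt N960 D960) (tt N961 D961))
theorem Q682 : ∀ i, i < 682 → P i := stepQ 681 Q681 (allL N681 (tt N478 F1130) (tt N529 F1131) (tt N960 (iv F1589)) (tt N485 F1132) (tt N475 (iv D681)) (tt N962 D962))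
theorem Q683 : ∀ i, i < 683 → P i := stepQ 682 Q682 (allL N682 (tt N479 F1133) (tt N530 F1134) (tt N961 (iv F1591)) (tt N476 F1135) (tt N963 D963) (tt N475 (iv D682)))
theorem Q684 : ∀ i, i < 684 → P i := stepQ 683 Q683 (allL N683 (tt N480 F1136) (tt N531 F1137) (tt N931 (iv F1535)) (tt N964 D964) (tt N476 (iv D683)) (tt N486 F1138))
theorem Q685 : ∀ i, i < 685 → P i := stepQ 684 Q684 (allL N684 (tt N961 (iv F1590)) (tt N477 (iv D684)) (tt N479 F1139) (tt N965 D965) (tt N966 D966) (tt N477 (iv F1140)))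
theorem Q686 : ∀ i, i < 686 → P i := stepQ 685 Q685 (allL N685 (tt N959 (iv F1587)) (tt N965 (iv F1600)) (tt N967 D967) (tt N477 (iv D685)) (tt N968 D968) (tt N965 (iv F1601)))
theorem Q687 : ∀ i, i < 687 → P i := stepQ 686 Q686 (allL N686 (tt N960 (iv F1588)) (tt N966 (iv F1602)) (tt N478 F1141) (tt N969 D969) (tt N477 (iv D686)) (tt N970 D970))
theorem Q688 : ∀ i, i < 688 → P i := stepQ 687 Q687 (allL N687 (tt N962 (iv F1592)) (tt N482 F1142) (tt N970 (iv F1604)) (tt N489 F1143) (tt N971 D971) (tt N478 (iv D687)))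
theorem Q689 : ∀ i, i < 689 → P i := stepQ 688 Q688 (allL N688 (tt N963 (iv F1595)) (tt N481 F1144) (tt N966 (iv F1603)) (tt N972 D972) (tt N479 (iv D688)) (tt N971 (iv F1607)))
theorem Q690 : ∀ i, i < 690 → P i := stepQ 689 Q689 (allL N689 (tt N964 (iv F1597)) (tt N483 F1145) (tt N973 D973) (tt N480 (iv D689)) (tt N972 (iv F1609)) (tt N490 F1146))
theorem Q691 : ∀ i, i < 691 → P i := stepQ 690 Q690 (allL N690 (tt N538 F1147) (tt N972 (iv F1608)) (tt N787 (iv F1316)) (tt N481 (iv D690)) (tt N483 F1148) (tt N588 (iv F1149)))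
theorem Q692 : ∀ i, i < 692 → P i := stepQ 691 Q691 (allL N691 (tt N539 F1150) (tt N971 (iv F1605)) (tt N482 F1151) (tt N588 F1152) (tt N482 F1153) (tt N481 (iv D691)))
theorem Q693 : ∀ i, i < 693 → P i := stepQ 692 Q692 (allL N692 (tt N556 F1154) (tt N484 (iv D692)) (tt N541 F1155) (tt N650 (iv F1157)) (tt N974 D974) (tt N553 F1156))
theorem Q694 : ∀ i, i < 694 → P i := stepQ 693 Q693 (allL N693 (tt N487 F1158) (tt N650 F1159) (tt N947 (iv F1571)) (tt N484 (iv D693)) (tt N975 D975) (tt N564 F1160))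
theorem Q695 : ∀ i, i < 695 → P i := stepQ 694 Q694 (allL N694 (tt N488 F1161) (tt N974 (iv F1613)) (tt N485 F1162) (tt N976 D976) (tt N484 (iv D694)) (tt N977 D977))
theorem Q696 : ∀ i, i < 696 → P i := stepQ 695 Q695 (allL N695 (tt N489 F1163) (tt N544 F1164) (tt N977 (iv F1619)) (tt N962 (iv F1594)) (tt N584 F1165) (tt N485 (iv D695)))
theorem Q697 : ∀ i, i < 697 → P i := stepQ 696 Q696 (allL N696 (tt N490 F1166) (tt N545 F1167) (tt N978 D978) (tt N486 (iv D696)) (tt N583 F1168) (tt N964 (iv F1599)))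
theorem Q698 : ∀ i, i < 698 → P i := stepQ 697 Q697 (allL N697 (tt N947 (iv F1569)) (tt N638 F1169) (tt N487 (iv D697)) (tt N943 (iv F1562)) (tt N979 D979) (tt N566 F1170))
theorem Q699 : ∀ i, i < 699 → P i := stepQ 698 Q698 (allL N698 (tt N975 (iv F1615)) (tt N574 F1171) (tt N979 (iv F1624)) (tt N980 D980) (tt N487 (iv D698)) (tt N981 D981))
theorem Q700 : ∀ i, i < 700 → P i := stepQ 699 Q699 (allL N699 (tt N976 (iv F1617)) (tt N578 F1172) (tt N982 D982) (tt N488 (iv D699)) (tt N980 (iv F1626)) (tt N983 D983))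
theorem Q701 : ∀ i, i < 701 → P i := stepQ 700 Q700 (allL N700 (tt N977 (iv F1618)) (tt N577 F1173) (tt N489 F1174) (tt N983 (iv F1630)) (tt N569 F1175) (tt N488 (iv D700)))
theorem Q702 : ∀ i, i < 702 → P i := stepQ 701 Q701 (allL N701 (tt N978 (iv F1621)) (tt N984 D984) (tt N490 (iv D701)) (tt N985 D985) (tt N585 F1176) (tt N973 (iv F1611)))
theorem Q703 : ∀ i, i < 703 → P i := stepQ 702 Q702 (allL N702 (tt N986 D986) (tt N491 (iv D702)) (tt N984 (iv F1631)) (tt N770 (iv F1292)) (tt N587 F1177) (tt N786 (iv F1314)))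
theorem Q704 : ∀ i, i < 704 → P i := stepQ 703 Q703 (allL N703 (tt N492 (iv D703)) (tt N499 F1178) (tt N553 F1179) (tt N777 (iv F1306)) (tt N987 D987) (tt N541 (iv F1180)))
theorem Q705 : ∀ i, i < 705 → P i := stepQ 704 Q704 (allL N704 (tt N777 (iv F1304)) (tt N493 F1181) (tt N777 (iv F1305)) (tt N492 (iv D704)) (tt N988 D988) (tt N718 (iv F1209)))
theorem Q706 : ∀ i, i < 706 → P i := stepQ 705 Q705 (allL N705 (tt N987 (iv F1635)) (tt N494 F1182) (tt N555 F1183) (tt N989 D989) (tt N492 (iv D705)) (tt N990 D990))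
theorem Q707 : ∀ i, i < 707 → P i := stepQ 706 Q706 (allL N706 (tt N541 F1184) (tt N495 F1185) (tt N556 F1186) (tt N718 (iv F1208)) (tt N991 D991) (tt N492 (iv D706)))
theorem Q708 : ∀ i, i < 708 → P i := stepQ 707 Q707 (allL N707 (tt N503 F1187) (tt N988 (iv F1638)) (tt N722 (iv F1214)) (tt N992 D992) (tt N493 (iv D707)) (tt N993 D993))
theorem Q709 : ∀ i, i < 709 → P i := stepQ 708 Q708 (allL N708 (tt N505 F1188) (tt N989 (iv F1639)) (tt N994 D994) (tt N494 (iv D708)) (tt N992 (iv F1646)) (tt N995 D995))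
theorem Q710 : ∀ i, i < 710 → P i := stepQ 709 Q709 (allL N709 (tt N506 F1189) (tt N990 (iv F1640)) (tt N496 F1190) (tt N995 (iv F1653)) (tt N996 D996) (tt N494 (iv D709)))
theorem Q711 : ∀ i, i < 711 → P i := stepQ 710 Q710 (allL N710 (tt N507 F1191) (tt N991 (iv F1643)) (tt N497 F1192) (tt N997 D997) (tt N495 (iv D710)) (tt N996 (iv F1656)))
theorem Q712 : ∀ i, i < 712 → P i := stepQ 711 Q711 (allL N711 (tt N508 F1193) (tt N561 F1194) (tt N996 (iv F1655)) (tt N883 (iv F1462)) (tt N496 (iv D711)) (tt N497 F1195))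
theorem Q713 : ∀ i, i < 713 → P i := stepQ 712 Q712 (allL N712 (tt N509 F1196) (tt N562 F1197) (tt N998 D998) (tt N497 (iv D712)) (tt N498 F1198) (tt N883 (iv F1463)))
theorem Q714 : ∀ i, i < 714 → P i := stepQ 713 Q713 (allL N713 (tt N510 F1199) (tt N999 D999) (tt N498 (iv D713)) (tt N751 (iv F1264)) (tt N998 (iv F1659)) (tt N519 F1200))
theorem Q715 : ∀ i, i < 715 → P i := stepQ 714 Q714 (allL N714 (tt N501 F1201) (tt N987 (iv F1636)) (tt N511 F1202) (tt N1000 D1000) (tt N499 (iv D714)) (tt N1001 D1001))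
theorem Q716 : ∀ i, i < 716 → P i := stepQ 715 Q715 (allL N715 (tt N778 (iv F1308)) (tt N503 F1203) (tt N773 (iv F1299)) (tt N1002 D1002) (tt N500 (iv D715)) (tt N1003 D1003))
theorem Q717 : ∀ i, i < 717 → P i := stepQ 716 Q716 (allL N716 (tt N1000 (iv F1662)) (tt N505 F1204) (tt N1004 D1004) (tt N501 (iv D716)) (tt N1002 (iv F1667)) (tt N1005 D1005))
theorem Q718 : ∀ i, i < 718 → P i := stepQ 717 Q717 (allL N717 (tt N1001 (iv F1663)) (tt N506 F1205) (tt N513 F1206) (tt N1005 (iv F1671)) (tt N549 F1207) (tt N501 (iv D717)))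
theorem Q719 : ∀ i, i < 719 → P i := stepQ 718 Q718 (allL N718 (tt N771 (iv F1294)) (tt N502 (iv D718)) (tt N771 (iv F1296)) (tt N706 F1208) (tt N1006 D1006) (tt N704 F1209))
theorem Q720 : ∀ i, i < 720 → P i := stepQ 719 Q719 (allL N719 (tt N722 (iv F1212)) (tt N1006 (iv F1672)) (tt N503 F1210) (tt N1007 D1007) (tt N502 (iv D719)) (tt N1008 D1008))
theorem Q721 : ∀ i, i < 721 → P i := stepQ 720 Q720 (allL N720 (tt N992 (iv F1645)) (tt N1002 (iv F1666)) (tt N1009 D1009) (tt N503 (iv D720)) (tt N505 F1211) (tt N1010 D1010))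
theorem Q722 : ∀ i, i < 722 → P i := stepQ 721 Q721 (allL N721 (tt N993 (iv F1647)) (tt N1003 (iv F1668)) (tt N1008 (iv F1674)) (tt N1010 (iv F1677)) (tt N1011 D1011) (tt N503 (iv D721)))
theorem Q723 : ∀ i, i < 723 → P i := stepQ 722 Q722 (allL N722 (tt N719 F1212) (tt N547 F1213) (tt N707 F1214) (tt N1012 D1012) (tt N504 (iv D722)) (tt N1011 (iv F1681)))
theorem Q724 : ∀ i, i < 724 → P i := stepQ 723 Q723 (allL N723 (tt N994 (iv F1648)) (tt N1013 D1013) (tt N505 (iv D723)) (tt N1014 D1014) (tt N1009 (iv F1676)) (tt N1015 D1015))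
theorem Q725 : ∀ i, i < 725 → P i := stepQ 724 Q724 (allL N724 (tt N995 (iv F1651)) (tt N1005 (iv F1670)) (tt N1015 (iv F1689)) (tt N506 F1215) (tt N1016 D1016) (tt N505 (iv D724)))
theorem Q726 : ∀ i, i < 726 → P i := stepQ 725 Q725 (allL N725 (tt N996 (iv F1654)) (tt N549 F1216) (tt N508 F1217) (tt N1017 D1017) (tt N506 (iv D725)) (tt N507 F1218))
theorem Q727 : ∀ i, i < 727 → P i := stepQ 726 Q726 (allL N726 (tt N997 (iv F1657)) (tt N548 F1219) (tt N1018 D1018) (tt N507 (iv D726)) (tt N1012 (iv F1684)) (tt N1017 (iv F1692)))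
theorem Q728 : ∀ i, i < 728 → P i := stepQ 727 Q727 (allL N727 (tt N998 (iv F1658)) (tt N902 (iv F1493)) (tt N509 (iv D727)) (tt N1019 D1019) (tt N510 F1220) (tt N890 (iv F1472)))
theorem Q729 : ∀ i, i < 729 → P i := stepQ 728 Q728 (allL N728 (tt N751 (iv F1262)) (tt N901 (iv F1491)) (tt N740 (iv F1249)) (tt N510 (iv D728)) (tt N1020 D1020) (tt N526 F1221))
theorem Q730 : ∀ i, i < 730 → P i := stepQ 729 Q729 (allL N729 (tt N512 F1222) (tt N583 F1223) (tt N1021 D1021) (tt N511 (iv D729)) (tt N545 F1224) (tt N1022 D1022))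
theorem Q731 : ∀ i, i < 731 → P i := stepQ 730 Q730 (allL N730 (tt N513 F1225) (tt N584 F1226) (tt N1001 (iv F1664)) (tt N1022 (iv F1697)) (tt N544 F1227) (tt N511 (iv D730)))
theorem Q732 : ∀ i, i < 732 → P i := stepQ 731 Q731 (allL N731 (tt N1021 (iv F1693)) (tt N1023 D1023) (tt N512 (iv D731)) (tt N1024 D1024) (tt N550 F1228) (tt N1025 D1025))
theorem Q733 : ∀ i, i < 733 → P i := stepQ 732 Q732 (allL N732 (tt N1022 (iv F1695)) (tt N515 F1229) (tt N1025 (iv F1702)) (tt N513 F1230) (tt N1026 D1026) (tt N512 (iv D732)))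
theorem Q734 : ∀ i, i < 734 → P i := stepQ 733 Q733 (allL N733 (tt N1027 D1027) (tt N514 (iv D733)) (tt N1023 (iv F1698)) (tt N628 F1231) (tt N551 F1232) (tt N627 F1233))
theorem Q735 : ∀ i, i < 735 → P i := stepQ 734 Q734 (allL N734 (tt N588 F1234) (tt N1026 (iv F1703)) (tt N591 F1235) (tt N539 F1236) (tt N515 (iv D734)) (tt N538 F1237))
theorem Q736 : ∀ i, i < 736 → P i := stepQ 735 Q735 (allL N735 (tt N521 F1238) (tt N517 F1239) (tt N1028 D1028) (tt N516 (iv D735)) (tt N517 F1240) (tt N1029 D1029))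
theorem Q737 : ∀ i, i < 737 → P i := stepQ 736 Q736 (allL N736 (tt N522 F1241) (tt N518 F1242) (tt N594 F1243) (tt N1029 (iv F1714)) (tt N742 (iv F1256)) (tt N516 (iv D736)))
theorem Q738 : ∀ i, i < 738 → P i := stepQ 737 Q737 (allL N737 (tt N523 F1244) (tt N1030 D1030) (tt N517 (iv D737)) (tt N1015 (iv F1690)) (tt N1028 (iv F1711)) (tt N1014 (iv F1687)))
theorem Q739 : ∀ i, i < 739 → P i := stepQ 738 Q738 (allL N738 (tt N524 F1245) (tt N1029 (iv F1713)) (tt N1014 (iv F1686)) (tt N518 F1246) (tt N1031 D1031) (tt N517 (iv D738)))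
theorem Q740 : ∀ i, i < 740 → P i := stepQ 739 Q739 (allL N739 (tt N1032 D1032) (tt N519 (iv D739)) (tt N601 F1247) (tt N1033 D1033) (tt N880 (iv F1456)) (tt N999 (iv F1661)))
theorem Q741 : ∀ i, i < 741 → P i := stepQ 740 Q740 (allL N740 (tt N526 F1248) (tt N1033 (iv F1718)) (tt N728 F1249) (tt N519 (iv D740)) (tt N1034 D1034) (tt N751 (iv F1263)))
theorem Q742 : ∀ i, i < 742 → P i := stepQ 741 Q741 (allL N741 (tt N593 F1250) (tt N603 F1251) (tt N1035 D1035) (tt N520 (iv D741)) (tt N603 F1252) (tt N1036 D1036))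
theorem Q743 : ∀ i, i < 743 → P i := stepQ 742 Q742 (allL N742 (tt N594 F1253) (tt N604 F1254) (tt N522 F1255) (tt N1036 (iv F1725)) (tt N736 F1256) (tt N520 (iv D742)))
theorem Q744 : ∀ i, i < 744 → P i := stepQ 743 Q743 (allL N743 (tt N1028 (iv F1710)) (tt N1037 D1037) (tt N521 (iv D743)) (tt N1038 D1038) (tt N523 F1257) (tt N1039 D1039))
theorem Q745 : ∀ i, i < 745 → P i := stepQ 744 Q744 (allL N744 (tt N1029 (iv F1712)) (tt N845 (iv F1415)) (tt N1039 (iv F1727)) (tt N522 F1258) (tt N1040 D1040) (tt N521 (iv D744)))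
theorem Q746 : ∀ i, i < 746 → P i := stepQ 745 Q745 (allL N745 (tt N1041 D1041) (tt N523 (iv D745)) (tt N866 (iv F1441)) (tt N1042 D1042) (tt N1037 (iv F1726)) (tt N1043 D1043))
theorem Q747 : ∀ i, i < 747 → P i := stepQ 746 Q746 (allL N746 (tt N1015 (iv F1688)) (tt N1042 (iv F1729)) (tt N995 (iv F1652)) (tt N523 (iv D746)) (tt N1044 D1044) (tt N994 F1650))
theorem Q748 : ∀ i, i < 748 → P i := stepQ 747 Q747 (allL N747 (tt N1014 (iv F1685)) (tt N1043 (iv F1730)) (tt N524 F1259) (tt N994 (iv F1649)) (tt N1045 D1045) (tt N523 (iv D747)))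
theorem Q749 : ∀ i, i < 749 → P i := stepQ 748 Q748 (allL N748 (tt N1031 (iv F1715)) (tt N864 (iv F1438)) (tt N1045 (iv F1731)) (tt N858 (iv F1434)) (tt N524 (iv D748)) (tt N1040 (iv F1728)))
theorem Q750 : ∀ i, i < 750 → P i := stepQ 749 Q749 (allL N749 (tt N525 (iv D749)) (tt N1032 (iv F1716)) (tt N527 F1260) (tt N1046 D1046) (tt N884 (iv F1465)) (tt N899 (iv F1488)))
theorem Q751 : ∀ i, i < 751 → P i := stepQ 750 Q750 (allL N750 (tt N1046 (iv F1732)) (tt N526 F1261) (tt N1047 D1047) (tt N525 (iv D750)) (tt N1048 D1048) (tt N901 (iv F1492)))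
theorem Q752 : ∀ i, i < 752 → P i := stepQ 751 Q751 (allL N751 (tt N728 F1262) (tt N1049 D1049) (tt N526 (iv D751)) (tt N713 F1264) (tt N1050 D1050) (tt N740 F1263))
theorem Q753 : ∀ i, i < 753 → P i := stepQ 752 Q752 (allL N752 (tt N1034 (iv F1719)) (tt N1048 (iv F1733)) (tt N1050 (iv F1737)) (tt N888 (iv F1469)) (tt N526 (iv D752)) (tt N1051 D1051))
theorem Q754 : ∀ i, i < 754 → P i := stepQ 753 Q753 (allL N753 (tt N1052 D1052) (tt N528 (iv D753)) (tt N958 (iv F1586)) (tt N1053 D1053) (tt N1054 D1054) (tt N1052 F1739))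
theorem Q755 : ∀ i, i < 755 → P i := stepQ 754 Q754 (allL N754 (tt N533 F1265) (tt N1053 (iv F1740)) (tt N760 (iv F1277)) (tt N528 (iv D754)) (tt N1055 D1055) (tt N762 (iv F1281)))
theorem Q756 : ∀ i, i < 756 → P i := stepQ 755 Q755 (allL N755 (tt N534 F1266) (tt N1054 (iv F1741)) (tt N529 F1267) (tt N1056 D1056) (tt N528 (iv D755)) (tt N1057 D1057))
theorem Q757 : ∀ i, i < 757 → P i := stepQ 756 Q756 (allL N756 (tt N532 F1268) (tt N1052 (iv F1738)) (tt N530 F1269) (tt N762 (iv F1282)) (tt N1058 D1058) (tt N528 (iv D756)))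
theorem Q758 : ∀ i, i < 758 → P i := stepQ 757 Q757 (allL N757 (tt N535 F1270) (tt N962 (iv F1593)) (tt N1057 (iv F1745)) (tt N544 F1271) (tt N1059 D1059) (tt N529 (iv D757)))
theorem Q759 : ∀ i, i < 759 → P i := stepQ 758 Q758 (allL N758 (tt N536 F1272) (tt N963 (iv F1596)) (tt N1058 (iv F1747)) (tt N1060 D1060) (tt N530 (iv D758)) (tt N1059 (iv F1749)))
theorem Q760 : ∀ i, i < 760 → P i := stepQ 759 Q759 (allL N759 (tt N537 F1273) (tt N964 (iv F1598)) (tt N1061 D1061) (tt N531 (iv D759)) (tt N1060 (iv F1751)) (tt N545 F1274))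
theorem Q761 : ∀ i, i < 761 → P i := stepQ 760 Q760 (allL N760 (tt N762 (iv F1280)) (tt N533 F1275) (tt N754 F1277) (tt N532 (iv D760)) (tt N1062 D1062) (tt N533 F1276))
theorem Q762 : ∀ i, i < 762 → P i := stepQ 761 Q761 (allL N761 (tt N1058 (iv F1746)) (tt N534 F1278) (tt N536 F1279) (tt N1063 D1063) (tt N532 (iv D761)) (tt N1064 D1064))
theorem Q763 : ∀ i, i < 763 → P i := stepQ 762 Q762 (allL N762 (tt N760 F1280) (tt N1065 D1065) (tt N533 (iv D762)) (tt N756 F1282) (tt N1066 D1066) (tt N754 F1281))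
theorem Q764 : ∀ i, i < 764 → P i := stepQ 763 Q763 (allL N763 (tt N1055 (iv F1742)) (tt N1062 (iv F1754)) (tt N1066 (iv F1765)) (tt N1067 D1067) (tt N533 (iv D763)) (tt N1068 D1068))
theorem Q765 : ∀ i, i < 765 → P i := stepQ 764 Q764 (allL N764 (tt N1056 (iv F1743)) (tt N1063 (iv F1756)) (tt N1069 D1069) (tt N534 (iv D764)) (tt N1067 (iv F1766)) (tt N1070 D1070))
theorem Q766 : ∀ i, i < 766 → P i := stepQ 765 Q765 (allL N765 (tt N1057 (iv F1744)) (tt N1064 (iv F1757)) (tt N535 F1283) (tt N1070 (iv F1767)) (tt N1064 (iv F1759)) (tt N534 (iv D765)))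
theorem Q767 : ∀ i, i < 767 → P i := stepQ 766 Q766 (allL N766 (tt N1059 (iv F1748)) (tt N539 F1284) (tt N1064 (iv F1758)) (tt N1026 (iv F1704)) (tt N535 (iv D766)) (tt N536 F1285))
theorem Q768 : ∀ i, i < 768 → P i := stepQ 767 Q767 (allL N767 (tt N1060 (iv F1750)) (tt N538 F1286) (tt N1071 D1071) (tt N536 (iv D767)) (tt N537 F1287) (tt N1026 (iv F1705)))
theorem Q769 : ∀ i, i < 769 → P i := stepQ 768 Q768 (allL N768 (tt N1061 (iv F1752)) (tt N1072 D1072) (tt N537 (iv D768)) (tt N1073 D1073) (tt N1071 (iv F1768)) (tt N550 F1288))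
theorem Q770 : ∀ i, i < 770 → P i := stepQ 769 Q769 (allL N769 (tt N787 (iv F1315)) (tt N1074 D1074) (tt N538 (iv D769)) (tt N589 F1289) (tt N540 F1290) (tt N591 F1291))
theorem Q771 : ∀ i, i < 771 → P i := stepQ 770 Q770 (allL N770 (tt N1075 D1075) (tt N540 (iv D770)) (tt N1072 (iv F1769)) (tt N702 F1292) (tt N1074 (iv F1773)) (tt N551 F1293))
theorem Q772 : ∀ i, i < 772 → P i := stepQ 771 Q771 (allL N771 (tt N718 F1294) (tt N542 F1295) (tt N718 F1296) (tt N541 (iv D771)) (tt N1076 D1076) (tt N777 (iv F1307)))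
theorem Q773 : ∀ i, i < 773 → P i := stepQ 772 Q772 (allL N772 (tt N991 (iv F1642)) (tt N543 F1297) (tt N974 (iv F1614)) (tt N1077 D1077) (tt N541 (iv D772)) (tt N1078 D1078))
theorem Q774 : ∀ i, i < 774 → P i := stepQ 773 Q773 (allL N773 (tt N547 F1298) (tt N1076 (iv F1778)) (tt N715 F1299) (tt N1079 D1079) (tt N542 (iv D773)) (tt N1080 D1080))
theorem Q775 : ∀ i, i < 775 → P i := stepQ 774 Q774 (allL N774 (tt N548 F1300) (tt N1077 (iv F1780)) (tt N1081 D1081) (tt N543 (iv D774)) (tt N1079 (iv F1783)) (tt N1082 D1082))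
theorem Q776 : ∀ i, i < 776 → P i := stepQ 775 Q775 (allL N775 (tt N549 F1301) (tt N1078 (iv F1781)) (tt N544 F1302) (tt N1082 (iv F1788)) (tt N1001 (iv F1665)) (tt N543 (iv D775)))
theorem Q777 : ∀ i, i < 777 → P i := stepQ 776 Q776 (allL N776 (tt N550 F1303) (tt N1083 D1083) (tt N545 (iv D776)) (tt N1084 D1084) (tt N1021 (iv F1694)) (tt N1061 (iv F1753)))
theorem Q778 : ∀ i, i < 778 → P i := stepQ 777 Q777 (allL N777 (tt N704 F1304) (tt N546 (iv D777)) (tt N704 F1305) (tt N703 F1306) (tt N1085 D1085) (tt N771 F1307))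
theorem Q779 : ∀ i, i < 779 → P i := stepQ 778 Q778 (allL N778 (tt N715 F1308) (tt N1085 (iv F1792)) (tt N547 F1309) (tt N1086 D1086) (tt N546 (iv D778)) (tt N1087 D1087))
theorem Q780 : ∀ i, i < 780 → P i := stepQ 779 Q779 (allL N779 (tt N1079 (iv F1782)) (tt N1012 (iv F1683)) (tt N1088 D1088) (tt N547 (iv D779)) (tt N548 F1310) (tt N1089 D1089))
theorem Q781 : ∀ i, i < 781 → P i := stepQ 780 Q780 (allL N780 (tt N1080 (iv F1784)) (tt N1011 (iv F1679)) (tt N1087 (iv F1797)) (tt N1089 (iv F1800)) (tt N1003 (iv F1669)) (tt N547 (iv D780)))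
theorem Q782 : ∀ i, i < 782 → P i := stepQ 781 Q781 (allL N781 (tt N1081 (iv F1786)) (tt N1090 D1090) (tt N548 (iv D781)) (tt N1091 D1091) (tt N1088 (iv F1799)) (tt N1092 D1092))
theorem Q783 : ∀ i, i < 783 → P i := stepQ 782 Q782 (allL N782 (tt N1082 (iv F1787)) (tt N1017 (iv F1691)) (tt N1092 (iv F1801)) (tt N549 F1311) (tt N1093 D1093) (tt N548 (iv D782)))
theorem Q784 : ∀ i, i < 784 → P i := stepQ 783 Q783 (allL N783 (tt N1094 D1094) (tt N550 (iv D783)) (tt N551 F1312) (tt N1095 D1095) (tt N1023 (iv F1699)) (tt N1072 (iv F1770)))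
theorem Q785 : ∀ i, i < 785 → P i := stepQ 784 Q784 (allL N784 (tt N1084 (iv F1789)) (tt N1095 (iv F1803)) (tt N1096 D1096) (tt N550 (iv D784)) (tt N1097 D1097) (tt N1073 (iv F1771)))
theorem Q786 : ∀ i, i < 786 → P i := stepQ 785 Q785 (allL N785 (tt N551 (iv D785)) (tt N986 (iv F1633)) (tt N1094 (iv F1802)) (tt N1098 D1098) (tt N1027 (iv F1708)) (tt N1075 (iv F1776)))
theorem Q787 : ∀ i, i < 787 → P i := stepQ 786 Q786 (allL N786 (tt N1098 (iv F1807)) (tt N552 F1313) (tt N1099 D1099) (tt N551 (iv D786)) (tt N1100 D1100) (tt N702 F1314))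
theorem Q788 : ∀ i, i < 788 → P i := stepQ 787 Q787 (allL N787 (tt N769 F1315) (tt N1100 (iv F1812)) (tt N690 F1316) (tt N629 F1317) (tt N552 (iv D787)) (tt N633 F1318))
theorem Q789 : ∀ i, i < 789 → P i := stepQ 788 Q788 (allL N788 (tt N554 F1319) (tt N564 F1320) (tt N650 F1321) (tt N553 (iv D788)) (tt N1101 D1101) (tt N650 F1322))
theorem Q790 : ∀ i, i < 790 → P i := stepQ 789 Q789 (allL N789 (tt N555 F1323) (tt N565 F1324) (tt N987 (iv F1637)) (tt N1102 D1102) (tt N553 (iv D789)) (tt N1103 D1103))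
theorem Q791 : ∀ i, i < 791 → P i := stepQ 790 Q790 (allL N790 (tt N1101 (iv F1815)) (tt N557 F1325) (tt N651 F1326) (tt N1104 D1104) (tt N554 (iv D790)) (tt N1105 D1105))
theorem Q792 : ∀ i, i < 792 → P i := stepQ 791 Q791 (allL N791 (tt N1102 (iv F1818)) (tt N558 F1327) (tt N1106 D1106) (tt N555 (iv D791)) (tt N1104 (iv F1823)) (tt N1107 D1107))
theorem Q793 : ∀ i, i < 793 → P i := stepQ 792 Q792 (allL N792 (tt N1103 (iv F1820)) (tt N559 F1328) (tt N990 (iv F1641)) (tt N1107 (iv F1828)) (tt N1108 D1108) (tt N555 (iv D792)))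
theorem Q794 : ∀ i, i < 794 → P i := stepQ 793 Q793 (allL N793 (tt N974 (iv F1612)) (tt N560 F1329) (tt N991 (iv F1644)) (tt N1109 D1109) (tt N556 (iv D793)) (tt N1108 (iv F1830)))
theorem Q795 : ∀ i, i < 795 → P i := stepQ 794 Q794 (allL N794 (tt N572 F1330) (tt N1104 (iv F1822)) (tt N1110 D1110) (tt N557 (iv D794)) (tt N558 F1331) (tt N1111 D1111))
theorem Q796 : ∀ i, i < 796 → P i := stepQ 795 Q795 (allL N795 (tt N573 F1332) (tt N1105 (iv F1824)) (tt N647 F1333) (tt N1111 (iv F1836)) (tt N653 F1334) (tt N557 (iv D795)))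
theorem Q797 : ∀ i, i < 797 → P i := stepQ 796 Q796 (allL N796 (tt N575 F1335) (tt N1112 D1112) (tt N558 (iv D796)) (tt N609 F1336) (tt N1110 (iv F1834)) (tt N608 (iv F1337)))
theorem Q798 : ∀ i, i < 798 → P i := stepQ 797 Q797 (allL N797 (tt N576 F1338) (tt N1107 (iv F1827)) (tt N608 F1339) (tt N559 F1340) (tt N1113 D1113) (tt N558 (iv D797)))
theorem Q799 : ∀ i, i < 799 → P i := stepQ 798 Q798 (allL N798 (tt N577 F1341) (tt N1108 (iv F1829)) (tt N561 F1342) (tt N1114 D1114) (tt N559 (iv D798)) (tt N560 F1343))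
theorem Q800 : ∀ i, i < 800 → P i := stepQ 799 Q799 (allL N799 (tt N578 F1344) (tt N1109 (iv F1831)) (tt N1115 D1115) (tt N560 (iv D799)) (tt N652 F1345) (tt N1114 (iv F1842)))
theorem Q801 : ∀ i, i < 801 → P i := stepQ 800 Q800 (allL N800 (tt N579 F1346) (tt N883 (iv F1461)) (tt N1116 D1116) (tt N561 (iv D800)) (tt N599 F1347) (tt N562 F1348))
theorem Q802 : ∀ i, i < 802 → P i := stepQ 801 Q801 (allL N801 (tt N580 F1349) (tt N1117 D1117) (tt N562 (iv D801)) (tt N1118 D1118) (tt N563 F1350) (tt N1116 (iv F1847)))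
theorem Q803 : ∀ i, i < 803 → P i := stepQ 802 Q802 (allL N802 (tt N1119 D1119) (tt N563 (iv D802)) (tt N999 (iv F1660)) (tt N656 F1351) (tt N1117 (iv F1848)) (tt N601 F1352))
theorem Q804 : ∀ i, i < 804 → P i := stepQ 803 Q803 (allL N803 (tt N567 F1353) (tt N1101 (iv F1816)) (tt N949 (iv F1576)) (tt N1120 D1120) (tt N564 (iv D803)) (tt N1121 D1121))
theorem Q805 : ∀ i, i < 805 → P i := stepQ 804 Q804 (allL N804 (tt N568 F1354) (tt N1102 (iv F1819)) (tt N1122 D1122) (tt N565 (iv D804)) (tt N1120 (iv F1855)) (tt N1123 D1123))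
theorem Q806 : ∀ i, i < 806 → P i := stepQ 805 Q805 (allL N805 (tt N569 F1355) (tt N1103 (iv F1821)) (tt N584 F1356) (tt N1123 (iv F1859)) (tt N977 (iv F1620)) (tt N565 (iv D805)))
theorem Q807 : ∀ i, i < 807 → P i := stepQ 806 Q806 (allL N806 (tt N638 (iv F1359)) (tt N566 (iv D806)) (tt N570 F1357) (tt N941 (iv F1554)) (tt N1124 D1124) (tt N638 F1358))
theorem Q808 : ∀ i, i < 808 → P i := stepQ 807 Q807 (allL N807 (tt N949 (iv F1575)) (tt N1124 (iv F1861)) (tt N567 F1360) (tt N1125 D1125) (tt N566 (iv D807)) (tt N1126 D1126))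
theorem Q809 : ∀ i, i < 809 → P i := stepQ 808 Q808 (allL N808 (tt N1120 (iv F1854)) (tt N572 F1361) (tt N1127 D1127) (tt N567 (iv D808)) (tt N568 F1362) (tt N1128 D1128))
theorem Q810 : ∀ i, i < 810 → P i := stepQ 809 Q809 (allL N809 (tt N1121 (iv F1856)) (tt N573 F1363) (tt N1126 (iv F1863)) (tt N1128 (iv F1866)) (tt N981 (iv F1628)) (tt N567 (iv D809)))
theorem Q811 : ∀ i, i < 811 → P i := stepQ 810 Q810 (allL N810 (tt N1122 (iv F1857)) (tt N1129 D1129) (tt N568 (iv D810)) (tt N1130 D1130) (tt N1127 (iv F1864)) (tt N1131 D1131))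
theorem Q812 : ∀ i, i < 812 → P i := stepQ 811 Q811 (allL N811 (tt N1123 (iv F1858)) (tt N576 F1364) (tt N1131 (iv F1868)) (tt N569 F1365) (tt N1132 D1132) (tt N568 (iv D811)))
theorem Q813 : ∀ i, i < 813 → P i := stepQ 812 Q812 (allL N812 (tt N639 F1366) (tt N571 F1367) (tt N1124 (iv F1862)) (tt N1133 D1133) (tt N570 (iv D812)) (tt N1134 D1134))
theorem Q814 : ∀ i, i < 814 → P i := stepQ 813 Q813 (allL N813 (tt N646 F1368) (tt N1133 (iv F1871)) (tt N1135 D1135) (tt N571 (iv D813)) (tt N645 F1369) (tt N1136 D1136))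
theorem Q815 : ∀ i, i < 815 → P i := stepQ 814 Q814 (allL N814 (tt N647 F1370) (tt N1134 (iv F1874)) (tt N573 F1371) (tt N1136 (iv F1879)) (tt N643 F1372) (tt N571 (iv D814)))
theorem Q816 : ∀ i, i < 816 → P i := stepQ 815 Q815 (allL N815 (tt N1110 (iv F1833)) (tt N1137 D1137) (tt N572 (iv D815)) (tt N1138 D1138) (tt N575 F1373) (tt N1139 D1139))
theorem Q817 : ∀ i, i < 817 → P i := stepQ 816 Q816 (allL N816 (tt N1111 (iv F1835)) (tt N1128 (iv F1865)) (tt N1139 (iv F1881)) (tt N573 F1374) (tt N1140 D1140) (tt N572 (iv D816)))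
theorem Q818 : ∀ i, i < 818 → P i := stepQ 817 Q817 (allL N817 (tt N653 F1375) (tt N981 (iv F1627)) (tt N643 F1376) (tt N1141 D1141) (tt N573 (iv D817)) (tt N574 F1377))
theorem Q819 : ∀ i, i < 819 → P i := stepQ 818 Q818 (allL N818 (tt N652 F1378) (tt N980 (iv F1625)) (tt N1142 D1142) (tt N574 (iv D818)) (tt N578 F1379) (tt N1141 (iv F1884)))
theorem Q820 : ∀ i, i < 820 → P i := stepQ 819 Q819 (allL N819 (tt N1143 D1143) (tt N575 (iv D819)) (tt N1129 (iv F1867)) (tt N1144 D1144) (tt N1137 (iv F1880)) (tt N1145 D1145))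
theorem Q821 : ∀ i, i < 821 → P i := stepQ 820 Q820 (allL N820 (tt N609 F1380) (tt N1144 (iv F1887)) (tt N596 F1381) (tt N575 (iv D820)) (tt N1146 D1146) (tt N595 F1382))
theorem Q822 : ∀ i, i < 822 → P i := stepQ 821 Q821 (allL N821 (tt N608 F1383) (tt N1145 (iv F1889)) (tt N576 F1384) (tt N595 F1385) (tt N1147 D1147) (tt N575 (iv D821)))
theorem Q823 : ∀ i, i < 823 → P i := stepQ 822 Q822 (allL N822 (tt N1113 (iv F1839)) (tt N1132 (iv F1869)) (tt N1147 (iv F1895)) (tt N1148 D1148) (tt N576 (iv D822)) (tt N1140 (iv F1882)))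
theorem Q824 : ∀ i, i < 824 → P i := stepQ 823 Q823 (allL N823 (tt N1114 (iv F1841)) (tt N983 (iv F1629)) (tt N1149 D1149) (tt N577 (iv D823)) (tt N1148 (iv F1897)) (tt N578 F1386))
theorem Q825 : ∀ i, i < 825 → P i := stepQ 824 Q824 (allL N824 (tt N1115 (iv F1843)) (tt N1150 D1150) (tt N578 (iv D824)) (tt N1151 D1151) (tt N1142 (iv F1886)) (tt N1149 (iv F1898)))
theorem Q826 : ∀ i, i < 826 → P i := stepQ 825 Q825 (allL N825 (tt N1116 (iv F1845)) (tt N1152 D1152) (tt N579 (iv D825)) (tt N1153 D1153) (tt N613 F1387) (tt N580 F1388))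
theorem Q827 : ∀ i, i < 827 → P i := stepQ 826 Q826 (allL N826 (tt N1154 D1154) (tt N580 (iv D826)) (tt N590 F1389) (tt N1155 D1155) (tt N581 F1390) (tt N1152 (iv F1901)))
theorem Q828 : ∀ i, i < 828 → P i := stepQ 827 Q827 (allL N827 (tt N1118 (iv F1849)) (tt N1155 (iv F1905)) (tt N1156 D1156) (tt N580 (iv D827)) (tt N1157 D1157) (tt N1153 (iv F1902)))
theorem Q829 : ∀ i, i < 829 → P i := stepQ 828 Q828 (allL N828 (tt N581 (iv D828)) (tt N1119 (iv F1851)) (tt N592 F1391) (tt N1158 D1158) (tt N1154 (iv F1904)) (tt N616 F1392))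
theorem Q830 : ∀ i, i < 830 → P i := stepQ 829 Q829 (allL N829 (tt N1158 (iv F1908)) (tt N582 F1393) (tt N1159 D1159) (tt N581 (iv D829)) (tt N1160 D1160) (tt N617 F1394))
theorem Q831 : ∀ i, i < 831 → P i := stepQ 830 Q830 (allL N830 (tt N654 F1395) (tt N1160 (iv F1913)) (tt N642 F1396) (tt N1157 (iv F1907)) (tt N582 (iv D830)) (tt N1161 D1161))
theorem Q832 : ∀ i, i < 832 → P i := stepQ 831 Q831 (allL N831 (tt N585 F1397) (tt N1162 D1162) (tt N583 (iv D831)) (tt N1163 D1163) (tt N978 (iv F1622)) (tt N1164 D1164))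
theorem Q833 : ∀ i, i < 833 → P i := stepQ 832 Q832 (allL N832 (tt N586 F1398) (tt N1022 (iv F1696)) (tt N1164 (iv F1919)) (tt N584 F1399) (tt N1165 D1165) (tt N583 (iv D832)))
theorem Q834 : ∀ i, i < 834 → P i := stepQ 833 Q833 (allL N833 (tt N1166 D1166) (tt N585 (iv D833)) (tt N587 F1400) (tt N1167 D1167) (tt N984 (iv F1632)) (tt N897 (iv F1484)))
theorem Q835 : ∀ i, i < 835 → P i := stepQ 834 Q834 (allL N834 (tt N1163 (iv F1917)) (tt N1167 (iv F1922)) (tt N1168 D1168) (tt N585 (iv D834)) (tt N1169 D1169) (tt N1170 D1170))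
theorem Q836 : ∀ i, i < 836 → P i := stepQ 835 Q835 (allL N835 (tt N1164 (iv F1918)) (tt N897 (iv F1483)) (tt N586 F1401) (tt N1170 (iv F1923)) (tt N1171 D1171) (tt N585 (iv D835)))
theorem Q837 : ∀ i, i < 837 → P i := stepQ 836 Q836 (allL N836 (tt N1165 (iv F1920)) (tt N588 F1402) (tt N1171 (iv F1924)) (tt N971 (iv F1606)) (tt N586 (iv D836)) (tt N972 (iv F1610)))
theorem Q838 : ∀ i, i < 838 → P i := stepQ 837 Q837 (allL N837 (tt N587 (iv D837)) (tt N1027 (iv F1706)) (tt N1166 (iv F1921)) (tt N895 (iv F1478)) (tt N986 (iv F1634)) (tt N896 (iv F1482)))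
theorem Q839 : ∀ i, i < 839 → P i := stepQ 838 Q838 (allL N838 (tt N1172 D1172) (tt N589 (iv D838)) (tt N1152 (iv F1899)) (tt N1074 (iv F1772)) (tt N630 F1403) (tt N590 F1404))
theorem Q840 : ∀ i, i < 840 → P i := stepQ 839 Q839 (allL N839 (tt N590 (iv D839)) (tt N900 (iv F1490)) (tt N1154 (iv F1903)) (tt N1173 D1173) (tt N592 F1405) (tt N1172 (iv F1926)))
theorem Q841 : ∀ i, i < 841 → P i := stepQ 840 Q840 (allL N840 (tt N1173 (iv F1927)) (tt N591 F1406) (tt N1174 D1174) (tt N590 (iv D840)) (tt N627 F1407) (tt N1074 (iv F1774)))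
theorem Q842 : ∀ i, i < 842 → P i := stepQ 841 Q841 (allL N841 (tt N1035 (iv F1721)) (tt N1175 D1175) (tt N593 (iv D841)) (tt N1176 D1176) (tt N605 F1408) (tt N1177 D1177))
theorem Q843 : ∀ i, i < 843 → P i := stepQ 842 Q842 (allL N842 (tt N1036 (iv F1723)) (tt N596 F1409) (tt N1177 (iv F1932)) (tt N594 F1410) (tt N1178 D1178) (tt N593 (iv D842)))
theorem Q844 : ∀ i, i < 844 → P i := stepQ 843 Q843 (allL N843 (tt N1179 D1179) (tt N595 (iv D843)) (tt N1175 (iv F1930)) (tt N1145 (iv F1890)) (tt N607 F1411) (tt N1144 F1888))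
theorem Q845 : ∀ i, i < 845 → P i := stepQ 844 Q844 (allL N844 (tt N610 F1412) (tt N1178 (iv F1933)) (tt N1146 (iv F1892)) (tt N1180 D1180) (tt N596 (iv D844)) (tt N610 F1413))
theorem Q846 : ∀ i, i < 846 → P i := stepQ 845 Q845 (allL N845 (tt N611 F1414) (tt N744 F1415) (tt N1181 D1181) (tt N597 (iv D845)) (tt N1180 (iv F1940)) (tt N598 F1416))
theorem Q847 : ∀ i, i < 847 → P i := stepQ 846 Q846 (allL N846 (tt N612 F1417) (tt N1182 D1182) (tt N598 (iv D846)) (tt N1183 D1183) (tt N612 F1418) (tt N1181 (iv F1943)))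
theorem Q848 : ∀ i, i < 848 → P i := stepQ 847 Q847 (allL N847 (tt N613 F1419) (tt N1184 D1184) (tt N599 (iv D847)) (tt N1185 D1185) (tt N1116 (iv F1846)) (tt N600 F1420))
theorem Q849 : ∀ i, i < 849 → P i := stepQ 848 Q848 (allL N848 (tt N1186 D1186) (tt N600 (iv D848)) (tt N880 (iv F1455)) (tt N1187 D1187) (tt N601 F1421) (tt N1184 (iv F1950)))
theorem Q850 : ∀ i, i < 850 → P i := stepQ 849 Q849 (allL N849 (tt N615 F1422) (tt N1187 (iv F1956)) (tt N1188 D1188) (tt N600 (iv D849)) (tt N1189 D1189) (tt N1185 (iv F1953)))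
theorem Q851 : ∀ i, i < 851 → P i := stepQ 850 Q850 (allL N850 (tt N601 (iv D850)) (tt N616 F1423) (tt N1032 (iv F1717)) (tt N1190 D1190) (tt N1186 (iv F1955)) (tt N1119 (iv F1853)))
theorem Q852 : ∀ i, i < 852 → P i := stepQ 851 Q851 (allL N851 (tt N1190 (iv F1962)) (tt N602 F1424) (tt N1191 D1191) (tt N601 (iv D851)) (tt N1192 D1192) (tt N656 F1425))
theorem Q853 : ∀ i, i < 853 → P i := stepQ 852 Q852 (allL N852 (tt N619 F1426) (tt N1192 (iv F1967)) (tt N657 F1427) (tt N1189 (iv F1961)) (tt N602 (iv D852)) (tt N1193 D1193))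
theorem Q854 : ∀ i, i < 854 → P i := stepQ 853 Q853 (allL N853 (tt N605 F1428) (tt N1194 D1194) (tt N603 (iv D853)) (tt N1195 D1195) (tt N1035 (iv F1722)) (tt N1196 D1196))
theorem Q855 : ∀ i, i < 855 → P i := stepQ 854 Q854 (allL N854 (tt N606 F1429) (tt N1036 (iv F1724)) (tt N1196 (iv F1975)) (tt N604 F1430) (tt N1197 D1197) (tt N603 (iv D854)))
theorem Q856 : ∀ i, i < 856 → P i := stepQ 855 Q855 (allL N855 (tt N1198 D1198) (tt N605 (iv D855)) (tt N607 F1431) (tt N1199 D1199) (tt N1175 (iv F1931)) (tt N1200 D1200))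
theorem Q857 : ∀ i, i < 857 → P i := stepQ 856 Q856 (allL N856 (tt N1195 (iv F1971)) (tt N1199 (iv F1980)) (tt N1201 D1201) (tt N605 (iv D856)) (tt N1202 D1202) (tt N1203 D1203))
theorem Q858 : ∀ i, i < 858 → P i := stepQ 857 Q857 (allL N857 (tt N1196 (iv F1974)) (tt N1200 (iv F1981)) (tt N606 F1432) (tt N1203 (iv F1988)) (tt N1204 D1204) (tt N605 (iv D857)))
theorem Q859 : ∀ i, i < 859 → P i := stepQ 858 Q858 (allL N858 (tt N1197 (iv F1977)) (tt N610 F1433) (tt N1204 (iv F1989)) (tt N748 F1434) (tt N606 (iv D858)) (tt N1178 (iv F1935)))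
theorem Q860 : ∀ i, i < 860 → P i := stepQ 859 Q859 (allL N859 (tt N607 (iv D859)) (tt N1179 (iv F1936)) (tt N1198 (iv F1979)) (tt N1205 D1205) (tt N1179 (iv F1937)) (tt N1206 D1206))
theorem Q861 : ∀ i, i < 861 → P i := stepQ 860 Q860 (allL N860 (tt N1205 (iv F1990)) (tt N608 F1435) (tt N1207 D1207) (tt N607 (iv D860)) (tt N1208 D1208) (tt N1112 (iv F1838)))
theorem Q862 : ∀ i, i < 862 → P i := stepQ 861 Q861 (allL N861 (tt N1206 (iv F1991)) (tt N609 F1436) (tt N1200 (iv F1982)) (tt N1112 (iv F1837)) (tt N1209 D1209) (tt N607 (iv D861)))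
theorem Q863 : ∀ i, i < 863 → P i := stepQ 862 Q862 (allL N862 (tt N1147 (iv F1894)) (tt N1208 (iv F1992)) (tt N1113 (iv F1840)) (tt N1147 (iv F1896)) (tt N608 (iv D862)) (tt N1210 D1210))
theorem Q864 : ∀ i, i < 864 → P i := stepQ 863 Q863 (allL N863 (tt N1146 (iv F1891)) (tt N1209 (iv F1993)) (tt N610 F1437) (tt N1211 D1211) (tt N609 (iv D863)) (tt N1146 (iv F1893)))
theorem Q865 : ∀ i, i < 865 → P i := stepQ 864 Q864 (allL N864 (tt N1180 (iv F1938)) (tt N748 F1438) (tt N1212 D1212) (tt N610 (iv D864)) (tt N611 F1439) (tt N1180 (iv F1941)))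
theorem Q866 : ∀ i, i < 866 → P i := stepQ 865 Q865 (allL N865 (tt N1181 (iv F1942)) (tt N1213 D1213) (tt N611 (iv D865)) (tt N1188 (iv F1958)) (tt N1212 (iv F1994)) (tt N612 F1440))
theorem Q867 : ∀ i, i < 867 → P i := stepQ 866 Q866 (allL N866 (tt N1214 D1214) (tt N612 (iv D866)) (tt N745 F1441) (tt N1215 D1215) (tt N1182 (iv F1946)) (tt N1213 (iv F1996)))
theorem Q868 : ∀ i, i < 868 → P i := stepQ 867 Q867 (allL N867 (tt N1183 (iv F1947)) (tt N1215 (iv F1998)) (tt N1185 (iv F1952)) (tt N612 (iv D867)) (tt N1216 D1216) (tt N1188 (iv F1959)))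
theorem Q869 : ∀ i, i < 869 → P i := stepQ 868 Q868 (allL N868 (tt N1217 D1217) (tt N613 (iv D868)) (tt N630 F1442) (tt N1218 D1218) (tt N1152 (iv F1900)) (tt N614 F1443))
theorem Q870 : ∀ i, i < 870 → P i := stepQ 869 Q869 (allL N869 (tt N1185 (iv F1951)) (tt N1218 (iv F2001)) (tt N1183 (iv F1949)) (tt N613 (iv D869)) (tt N1219 D1219) (tt N615 F1444))
theorem Q871 : ∀ i, i < 871 → P i := stepQ 870 Q870 (allL N870 (tt N614 (iv D870)) (tt N1186 (iv F1954)) (tt N631 F1445) (tt N1220 D1220) (tt N616 F1446) (tt N1217 (iv F2000)))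
theorem Q872 : ∀ i, i < 872 → P i := stepQ 871 Q871 (allL N871 (tt N1220 (iv F2003)) (tt N615 F1447) (tt N1221 D1221) (tt N614 (iv D871)) (tt N1222 D1222) (tt N1218 (iv F2002)))
theorem Q873 : ∀ i, i < 873 → P i := stepQ 872 Q872 (allL N872 (tt N1188 (iv F1957)) (tt N1223 D1223) (tt N615 (iv D872)) (tt N1181 (iv F1944)) (tt N1224 D1224) (tt N1183 (iv F1948)))
theorem Q874 : ∀ i, i < 874 → P i := stepQ 873 Q873 (allL N873 (tt N1189 (iv F1960)) (tt N1222 (iv F2004)) (tt N1224 (iv F2006)) (tt N619 F1448) (tt N615 (iv D873)) (tt N1225 D1225))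
theorem Q875 : ∀ i, i < 875 → P i := stepQ 874 Q874 (allL N874 (tt N617 F1449) (tt N1190 (iv F1963)) (tt N1226 D1226) (tt N616 (iv D874)) (tt N1227 D1227) (tt N1158 (iv F1910)))
theorem Q876 : ∀ i, i < 876 → P i := stepQ 875 Q875 (allL N875 (tt N1226 (iv F2008)) (tt N1228 D1228) (tt N617 (iv D875)) (tt N1229 D1229) (tt N1230 D1230) (tt N1159 (iv F1912)))
theorem Q877 : ∀ i, i < 877 → P i := stepQ 876 Q876 (allL N876 (tt N1227 (iv F2010)) (tt N619 F1450) (tt N1230 (iv F2015)) (tt N1222 (iv F2005)) (tt N617 (iv D876)) (tt N1231 D1231))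
theorem Q878 : ∀ i, i < 878 → P i := stepQ 877 Q877 (allL N877 (tt N1232 D1232) (tt N618 (iv D877)) (tt N1228 (iv F2011)) (tt N641 F1451) (tt N1233 D1233) (tt N640 F1452))
theorem Q879 : ∀ i, i < 879 → P i := stepQ 878 Q878 (allL N878 (tt N657 F1453) (tt N1233 (iv F2020)) (tt N619 F1454) (tt N1234 D1234) (tt N618 (iv D878)) (tt N1235 D1235))
theorem Q880 : ∀ i, i < 880 → P i := stepQ 879 Q879 (allL N879 (tt N1193 (iv F1968)) (tt N1231 (iv F2016)) (tt N1235 (iv F2024)) (tt N1225 (iv F2007)) (tt N1161 (iv F1916)) (tt N619 (iv D879)))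
theorem Q881 : ∀ i, i < 881 → P i := stepQ 880 Q880 (allL N880 (tt N1236 D1236) (tt N620 (iv D880)) (tt N848 F1455) (tt N1237 D1237) (tt N739 F1456) (tt N1238 D1238))
theorem Q882 : ∀ i, i < 882 → P i := stepQ 881 Q881 (allL N881 (tt N623 F1457) (tt N1237 (iv F2029)) (tt N1203 (iv F1987)) (tt N620 (iv D881)) (tt N1239 D1239) (tt N1201 F1985))
theorem Q883 : ∀ i, i < 883 → P i := stepQ 882 Q882 (allL N882 (tt N624 F1458) (tt N1238 (iv F2030)) (tt N621 F1459) (tt N1201 (iv F1984)) (tt N1240 D1240) (tt N620 (iv D882)))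
theorem Q884 : ∀ i, i < 884 → P i := stepQ 883 Q883 (allL N883 (tt N625 F1460) (tt N800 F1461) (tt N1240 (iv F2035)) (tt N711 F1462) (tt N621 (iv D883)) (tt N712 F1463))
theorem Q885 : ∀ i, i < 885 → P i := stepQ 884 Q884 (allL N884 (tt N622 (iv D884)) (tt N1236 (iv F2026)) (tt N626 F1464) (tt N1241 D1241) (tt N749 F1465) (tt N1242 D1242))
theorem Q886 : ∀ i, i < 886 → P i := stepQ 885 Q885 (allL N885 (tt N1241 (iv F2037)) (tt N623 F1466) (tt N1243 D1243) (tt N622 (iv D885)) (tt N1244 D1244) (tt N1245 D1245))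
theorem Q887 : ∀ i, i < 887 → P i := stepQ 886 Q886 (allL N886 (tt N1242 (iv F2038)) (tt N624 F1467) (tt N628 F1468) (tt N1245 (iv F2043)) (tt N1246 D1246) (tt N622 (iv D886)))
theorem Q888 : ∀ i, i < 888 → P i := stepQ 887 Q887 (allL N887 (tt N1203 (iv F1986)) (tt N1247 D1247) (tt N623 (iv D887)) (tt N1196 (iv F1976)) (tt N1248 D1248) (tt N1195 F1973))
theorem Q889 : ∀ i, i < 889 → P i := stepQ 888 Q888 (allL N888 (tt N1239 (iv F2032)) (tt N1244 (iv F2040)) (tt N1248 (iv F2047)) (tt N752 F1469) (tt N623 (iv D888)) (tt N1249 D1249))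
theorem Q890 : ∀ i, i < 890 → P i := stepQ 889 Q889 (allL N889 (tt N1201 (iv F1983)) (tt N1245 (iv F2042)) (tt N1195 (iv F1972)) (tt N624 F1470) (tt N1250 D1250) (tt N623 (iv D889)))
theorem Q891 : ∀ i, i < 891 → P i := stepQ 890 Q890 (allL N890 (tt N1240 (iv F2034)) (tt N1246 (iv F2044)) (tt N625 F1471) (tt N1251 D1251) (tt N624 (iv D890)) (tt N727 F1472))
theorem Q892 : ∀ i, i < 892 → P i := stepQ 891 Q891 (allL N891 (tt N627 F1473) (tt N896 (iv F1481)) (tt N1252 D1252) (tt N626 (iv D891)) (tt N1173 (iv F1928)) (tt N1027 (iv F1709)))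
theorem Q893 : ∀ i, i < 893 → P i := stepQ 892 Q892 (allL N892 (tt N628 F1474) (tt N895 (iv F1477)) (tt N1242 (iv F2039)) (tt N1027 (iv F1707)) (tt N1253 D1253) (tt N626 (iv D892)))
theorem Q894 : ∀ i, i < 894 → P i := stepQ 893 Q893 (allL N893 (tt N1252 (iv F2050)) (tt N1025 (iv F1701)) (tt N627 (iv D893)) (tt N1254 D1254) (tt N1174 (iv F1929)) (tt N1023 F1700))
theorem Q895 : ∀ i, i < 895 → P i := stepQ 894 Q894 (allL N894 (tt N1253 (iv F2051)) (tt N629 F1475) (tt N1246 (iv F2045)) (tt N1100 (iv F1813)) (tt N628 (iv D894)) (tt N636 F1476))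
theorem Q896 : ∀ i, i < 896 → P i := stepQ 895 Q895 (allL N895 (tt N630 (iv D895)) (tt N892 F1477) (tt N1217 (iv F1999)) (tt N837 F1478) (tt N1172 (iv F1925)) (tt N631 F1479))
theorem Q897 : ∀ i, i < 897 → P i := stepQ 896 Q896 (allL N896 (tt N632 F1480) (tt N891 F1481) (tt N1255 D1255) (tt N631 (iv D896)) (tt N1256 D1256) (tt N837 F1482))
theorem Q898 : ∀ i, i < 898 → P i := stepQ 897 Q897 (allL N897 (tt N1255 (iv F2054)) (tt N835 F1483) (tt N632 (iv D897)) (tt N1257 D1257) (tt N1258 D1258) (tt N833 F1484))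
theorem Q899 : ∀ i, i < 899 → P i := stepQ 898 Q898 (allL N898 (tt N1256 (iv F2056)) (tt N633 F1485) (tt N1258 (iv F2062)) (tt N636 F1486) (tt N632 (iv D898)) (tt N1100 (iv F1814)))
theorem Q900 : ∀ i, i < 900 → P i := stepQ 899 Q899 (allL N899 (tt N635 F1487) (tt N1259 D1259) (tt N634 (iv D899)) (tt N1260 D1260) (tt N1261 D1261) (tt N749 F1488))
theorem Q901 : ∀ i, i < 901 → P i := stepQ 900 Q900 (allL N900 (tt N636 F1489) (tt N839 F1490) (tt N1261 (iv F2069)) (tt N1256 (iv F2058)) (tt N634 (iv D900)) (tt N1253 (iv F2053)))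
theorem Q902 : ∀ i, i < 902 → P i := stepQ 901 Q901 (allL N901 (tt N1260 (iv F2066)) (tt N728 F1491) (tt N1262 D1262) (tt N635 (iv D901)) (tt N1263 D1263) (tt N750 F1492))
theorem Q903 : ∀ i, i < 903 → P i := stepQ 902 Q902 (allL N902 (tt N1261 (iv F2068)) (tt N727 F1493) (tt N636 F1494) (tt N1264 D1264) (tt N635 (iv D902)) (tt N1246 (iv F2046)))
theorem Q904 : ∀ i, i < 904 → P i := stepQ 903 Q903 (allL N903 (tt N640 F1495) (tt N645 F1496) (tt N1265 D1265) (tt N637 (iv D903)) (tt N1133 (iv F1872)) (tt N1232 (iv F2019)))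
theorem Q905 : ∀ i, i < 905 → P i := stepQ 904 Q904 (allL N904 (tt N641 F1497) (tt N644 F1498) (tt N904 F1499) (tt N1232 (iv F2018)) (tt N641 F1500) (tt N637 (iv D904)))
theorem Q906 : ∀ i, i < 906 → P i := stepQ 905 Q905 (allL N905 (tt N941 F1555) (tt N943 (iv F1560)) (tt N905 F1501) (tt N638 (iv D905)) (tt N1266 D1266) (tt N941 F1556))
theorem Q907 : ∀ i, i < 907 → P i := stepQ 906 Q906 (allL N906 (tt N1124 (iv F1860)) (tt N979 (iv F1623)) (tt N639 F1502) (tt N1267 D1267) (tt N638 (iv D906)) (tt N1268 D1268))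
theorem Q908 : ∀ i, i < 908 → P i := stepQ 907 Q907 (allL N907 (tt N1133 (iv F1870)) (tt N642 F1503) (tt N1269 D1269) (tt N639 (iv D907)) (tt N640 F1504) (tt N1270 D1270))
theorem Q909 : ∀ i, i < 909 → P i := stepQ 908 Q908 (allL N908 (tt N1134 (iv F1873)) (tt N643 F1505) (tt N1268 (iv F2075)) (tt N1270 (iv F2078)) (tt N1134 (iv F1875)) (tt N639 (iv D908)))
theorem Q910 : ∀ i, i < 910 → P i := stepQ 909 Q909 (allL N909 (tt N1265 (iv F2073)) (tt N1159 (iv F1911)) (tt N640 (iv D909)) (tt N1271 D1271) (tt N1269 (iv F2076)) (tt N1228 (iv F2012)))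
theorem Q911 : ∀ i, i < 911 → P i := stepQ 910 Q910 (allL N910 (tt N655 F1506) (tt N1270 (iv F2077)) (tt N1161 (iv F1915)) (tt N643 F1507) (tt N1235 (iv F2025)) (tt N642 (iv D910)))
theorem Q912 : ∀ i, i < 912 → P i := stepQ 911 Q911 (allL N911 (tt N649 F1508) (tt N1232 (iv F2017)) (tt N1272 D1272) (tt N644 (iv D911)) (tt N1234 (iv F2022)) (tt N645 F1509))
theorem Q913 : ∀ i, i < 913 → P i := stepQ 912 Q912 (allL N912 (tt N648 F1510) (tt N1273 D1273) (tt N645 (iv D912)) (tt N648 F1511) (tt N1135 (iv F1877)) (tt N1272 (iv F2081)))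
theorem Q914 : ∀ i, i < 914 → P i := stepQ 913 Q913 (allL N913 (tt N1135 (iv F1876)) (tt N1274 D1274) (tt N646 (iv D913)) (tt N1275 D1275) (tt N648 F1512) (tt N1276 D1276))
theorem Q915 : ∀ i, i < 915 → P i := stepQ 914 Q914 (allL N914 (tt N1136 (iv F1878)) (tt N655 F1513) (tt N1276 (iv F2085)) (tt N647 F1514) (tt N1277 D1277) (tt N646 (iv D914)))
theorem Q916 : ∀ i, i < 916 → P i := stepQ 915 Q915 (allL N915 (tt N1278 D1278) (tt N648 (iv D915)) (tt N656 F1515) (tt N1273 (iv F2082)) (tt N1274 (iv F2084)) (tt N1191 (iv F1966)))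
theorem Q917 : ∀ i, i < 917 → P i := stepQ 916 Q916 (allL N916 (tt N1272 (iv F2079)) (tt N1191 (iv F1965)) (tt N649 F1516) (tt N1272 (iv F2080)) (tt N1279 D1279) (tt N648 (iv D916)))
theorem Q918 : ∀ i, i < 918 → P i := stepQ 917 Q917 (allL N917 (tt N1234 (iv F2021)) (tt N657 F1517) (tt N1279 (iv F2090)) (tt N657 F1518) (tt N649 (iv D917)) (tt N1277 (iv F2088)))
theorem Q919 : ∀ i, i < 919 → P i := stepQ 918 Q918 (allL N918 (tt N651 F1519) (tt N975 (iv F1616)) (tt N1101 (iv F1817)) (tt N1280 D1280) (tt N650 (iv D918)) (tt N1281 D1281))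
theorem Q920 : ∀ i, i < 920 → P i := stepQ 919 Q919 (allL N919 (tt N1280 (iv F2091)) (tt N652 F1520) (tt N1282 D1282) (tt N651 (iv D919)) (tt N1109 (iv F1832)) (tt N1283 D1283))
theorem Q921 : ∀ i, i < 921 → P i := stepQ 920 Q920 (allL N920 (tt N1281 (iv F2092)) (tt N653 F1521) (tt N1105 (iv F1825)) (tt N1283 (iv F2094)) (tt N1105 (iv F1826)) (tt N651 (iv D920)))
theorem Q922 : ∀ i, i < 922 → P i := stepQ 921 Q921 (allL N921 (tt N1142 (iv F1885)) (tt N1284 D1284) (tt N652 (iv D921)) (tt N1285 D1285) (tt N1115 (iv F1844)) (tt N1286 D1286))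
theorem Q923 : ∀ i, i < 923 → P i := stepQ 922 Q922 (allL N922 (tt N1141 (iv F1883)) (tt N1283 (iv F2093)) (tt N1286 (iv F2095)) (tt N653 F1522) (tt N1287 D1287) (tt N652 (iv D922)))
theorem Q924 : ∀ i, i < 924 → P i := stepQ 923 Q923 (allL N923 (tt N1288 D1288) (tt N654 (iv D923)) (tt N1274 (iv F2083)) (tt N1289 D1289) (tt N656 F1523) (tt N1290 D1290))
theorem Q925 : ∀ i, i < 925 → P i := stepQ 924 Q924 (allL N924 (tt N1157 (iv F1906)) (tt N1289 (iv F2097)) (tt N1291 D1291) (tt N654 (iv D924)) (tt N1118 (iv F1850)) (tt N1292 D1292))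
theorem Q926 : ∀ i, i < 926 → P i := stepQ 925 Q925 (allL N925 (tt N1161 (iv F1914)) (tt N1290 (iv F2098)) (tt N655 F1524) (tt N1292 (iv F2099)) (tt N1193 (iv F1970)) (tt N654 (iv D925)))
theorem Q927 : ∀ i, i < 927 → P i := stepQ 926 Q926 (allL N926 (tt N1235 (iv F2023)) (tt N1277 (iv F2086)) (tt N1193 (iv F1969)) (tt N1277 (iv F2087)) (tt N655 (iv D926)) (tt N657 F1525))
theorem Q928 : ∀ i, i < 928 → P i := stepQ 927 Q927 (allL N927 (tt N656 (iv D927)) (tt N1158 (iv F1909)) (tt N1278 (iv F2089)) (tt N1119 (iv F1852)) (tt N1288 (iv F2096)) (tt N1190 (iv F1964)))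
theorem Q929 : ∀ i, i < 929 → P i := stepQ 928 Q928 (allL N928 (tt N660 F1526) (tt N1293 D1293) (tt N658 (iv D928)) (tt N1294 D1294) (tt N1295 D1295) (tt N1296 D1296))
theorem Q930 : ∀ i, i < 930 → P i := stepQ 929 Q929 (allL N929 (tt N661 F1527) (tt N929 F1528) (tt N1295 (iv F2105)) (tt N668 F1529) (tt N658 (iv D929)) (tt N1297 D1297))
theorem Q931 : ∀ i, i < 931 → P i := stepQ 930 Q930 (allL N930 (tt N662 F1530) (tt N930 F1531) (tt N1296 (iv F2107)) (tt N659 F1532) (tt N1298 D1298) (tt N658 (iv D930)))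
theorem Q932 : ∀ i, i < 932 → P i := stepQ 931 Q931 (allL N931 (tt N663 F1533) (tt N931 F1534) (tt N683 F1535) (tt N1299 D1299) (tt N659 (iv D931)) (tt N670 F1536))
theorem Q933 : ∀ i, i < 933 → P i := stepQ 932 Q932 (allL N932 (tt N1296 (iv F2106)) (tt N660 (iv D932)) (tt N662 F1537) (tt N1300 D1300) (tt N1301 D1301) (tt N660 (iv F1538)))
theorem Q934 : ∀ i, i < 934 → P i := stepQ 933 Q933 (allL N933 (tt N1294 (iv F2101)) (tt N1300 (iv F2118)) (tt N1302 D1302) (tt N660 (iv D933)) (tt N1303 D1303) (tt N1300 (iv F2120)))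
theorem Q935 : ∀ i, i < 935 → P i := stepQ 934 Q934 (allL N934 (tt N1295 (iv F2104)) (tt N1301 (iv F2121)) (tt N661 F1539) (tt N1304 D1304) (tt N660 (iv D934)) (tt N1305 D1305))
theorem Q936 : ∀ i, i < 936 → P i := stepQ 935 Q935 (allL N935 (tt N1297 (iv F2109)) (tt N665 F1540) (tt N1305 (iv F2126)) (tt N674 F1541) (tt N1306 D1306) (tt N661 (iv D935)))
theorem Q937 : ∀ i, i < 937 → P i := stepQ 936 Q936 (allL N936 (tt N1298 (iv F2112)) (tt N664 F1542) (tt N1301 (iv F2122)) (tt N1307 D1307) (tt N662 (iv D936)) (tt N1306 (iv F2128)))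
theorem Q938 : ∀ i, i < 938 → P i := stepQ 937 Q937 (allL N937 (tt N1299 (iv F2114)) (tt N666 F1543) (tt N1308 D1308) (tt N663 (iv D937)) (tt N1307 (iv F2130)) (tt N676 F1544))
theorem Q939 : ∀ i, i < 939 → P i := stepQ 938 Q938 (allL N938 (tt N938 F1545) (tt N1307 (iv F2129)) (tt N1309 D1309) (tt N664 (iv D938)) (tt N666 F1546) (tt N1310 D1310))
theorem Q940 : ∀ i, i < 940 → P i := stepQ 939 Q939 (allL N939 (tt N939 F1547) (tt N1306 (iv F2127)) (tt N665 F1548) (tt N1310 (iv F2135)) (tt N665 F1549) (tt N664 (iv D939)))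
theorem Q941 : ∀ i, i < 941 → P i := stepQ 940 Q940 (allL N940 (tt N940 F1550) (tt N1311 D1311) (tt N666 (iv D940)) (tt N679 F1552) (tt N1309 (iv F2133)) (tt N679 F1551))
theorem Q942 : ∀ i, i < 942 → P i := stepQ 941 Q941 (allL N941 (tt N905 (iv F1555)) (tt N667 (iv D941)) (tt N941 F1553) (tt N806 F1554) (tt N1312 D1312) (tt N905 (iv F1556)))
theorem Q943 : ∀ i, i < 943 → P i := stepQ 942 Q942 (allL N942 (tt N673 F1557) (tt N1312 (iv F2140)) (tt N668 F1558) (tt N1313 D1313) (tt N667 (iv D942)) (tt N1314 D1314))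
theorem Q944 : ∀ i, i < 944 → P i := stepQ 943 Q943 (allL N943 (tt N671 F1559) (tt N905 F1560) (tt N669 F1561) (tt N697 F1562) (tt N1315 D1315) (tt N667 (iv D943)))
theorem Q945 : ∀ i, i < 945 → P i := stepQ 944 Q944 (allL N944 (tt N674 F1563) (tt N944 F1564) (tt N1314 (iv F2145)) (tt N1297 (iv F2111)) (tt N1316 D1316) (tt N668 (iv D944)))
theorem Q946 : ∀ i, i < 946 → P i := stepQ 945 Q945 (allL N945 (tt N675 F1565) (tt N945 F1566) (tt N1315 (iv F2148)) (tt N1317 D1317) (tt N669 (iv D945)) (tt N1316 (iv F2151)))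
theorem Q947 : ∀ i, i < 947 → P i := stepQ 946 Q946 (allL N946 (tt N676 F1567) (tt N946 F1568) (tt N1318 D1318) (tt N670 (iv D946)) (tt N1317 (iv F2154)) (tt N1299 (iv F2116)))
theorem Q948 : ∀ i, i < 948 → P i := stepQ 947 Q947 (allL N947 (tt N697 F1569) (tt N672 F1570) (tt N693 F1571) (tt N671 (iv D947)) (tt N1319 D1319) (tt N672 F1572))
theorem Q949 : ∀ i, i < 949 → P i := stepQ 948 Q948 (allL N948 (tt N1315 (iv F2146)) (tt N673 F1573) (tt N675 F1574) (tt N1320 D1320) (tt N671 (iv D948)) (tt N1321 D1321))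
theorem Q950 : ∀ i, i < 950 → P i := stepQ 949 Q949 (allL N949 (tt N807 F1575) (tt N1319 (iv F2157)) (tt N803 F1576) (tt N1322 D1322) (tt N672 (iv D949)) (tt N1323 D1323))
theorem Q951 : ∀ i, i < 951 → P i := stepQ 950 Q950 (allL N950 (tt N1313 (iv F2142)) (tt N1320 (iv F2159)) (tt N1324 D1324) (tt N673 (iv D950)) (tt N1322 (iv F2164)) (tt N1325 D1325))
theorem Q952 : ∀ i, i < 952 → P i := stepQ 951 Q951 (allL N951 (tt N1314 (iv F2144)) (tt N1321 (iv F2160)) (tt N674 F1577) (tt N1325 (iv F2167)) (tt N1321 (iv F2162)) (tt N673 (iv D951)))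
theorem Q953 : ∀ i, i < 953 → P i := stepQ 952 Q952 (allL N952 (tt N1316 (iv F2149)) (tt N678 F1578) (tt N1321 (iv F2161)) (tt N1326 D1326) (tt N674 (iv D952)) (tt N675 F1579))
theorem Q954 : ∀ i, i < 954 → P i := stepQ 953 Q953 (allL N953 (tt N1317 (iv F2152)) (tt N677 F1580) (tt N1327 D1327) (tt N675 (iv D953)) (tt N676 F1581) (tt N1326 (iv F2169)))
theorem Q955 : ∀ i, i < 955 → P i := stepQ 954 Q954 (allL N954 (tt N1318 (iv F2155)) (tt N1328 D1328) (tt N676 (iv D954)) (tt N1329 D1329) (tt N1327 (iv F2170)) (tt N1308 (iv F2131)))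
theorem Q956 : ∀ i, i < 956 → P i := stepQ 955 Q955 (allL N955 (tt N955 F1582) (tt N1330 D1330) (tt N677 (iv D955)) (tt N1331 D1331) (tt N679 F1583) (tt N1332 D1332))
theorem Q957 : ∀ i, i < 957 → P i := stepQ 956 Q956 (allL N956 (tt N956 F1584) (tt N1326 (iv F2168)) (tt N1332 (iv F2177)) (tt N678 F1585) (tt N1310 (iv F2136)) (tt N677 (iv D956)))
theorem Q958 : ∀ i, i < 958 → P i := stepQ 957 Q957 (allL N957 (tt N1333 D1333) (tt N679 (iv D957)) (tt N1328 (iv F2171)) (tt N1311 (iv F2137)) (tt N1330 (iv F2172)) (tt N1311 (iv F2138)))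
theorem Q959 : ∀ i, i < 959 → P i := stepQ 958 Q958 (allL N958 (tt N1334 D1334) (tt N680 (iv D958)) (tt N753 F1586) (tt N1335 D1335) (tt N1336 D1336) (tt N1334 F2183))
theorem Q960 : ∀ i, i < 960 → P i := stepQ 959 Q959 (allL N959 (tt N685 F1587) (tt N1335 (iv F2184)) (tt N1300 (iv F2119)) (tt N680 (iv D959)) (tt N1337 D1337) (tt N1302 (iv F2125)))
theorem Q961 : ∀ i, i < 961 → P i := stepQ 960 Q960 (allL N960 (tt N686 F1588) (tt N1336 (iv F2185)) (tt N681 F1589) (tt N1338 D1338) (tt N680 (iv D960)) (tt N1339 D1339))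
theorem Q962 : ∀ i, i < 962 → P i := stepQ 961 Q961 (allL N961 (tt N684 F1590) (tt N1334 (iv F2181)) (tt N682 F1591) (tt N1302 (iv F2124)) (tt N1340 D1340) (tt N680 (iv D961)))
theorem Q963 : ∀ i, i < 963 → P i := stepQ 962 Q962 (allL N962 (tt N687 F1592) (tt N757 F1593) (tt N1339 (iv F2190)) (tt N695 F1594) (tt N1341 D1341) (tt N681 (iv D962)))
theorem Q964 : ∀ i, i < 964 → P i := stepQ 963 Q963 (allL N963 (tt N688 F1595) (tt N758 F1596) (tt N1340 (iv F2192)) (tt N1342 D1342) (tt N682 (iv D963)) (tt N1341 (iv F2196)))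
theorem Q965 : ∀ i, i < 965 → P i := stepQ 964 Q964 (allL N964 (tt N689 F1597) (tt N759 F1598) (tt N1343 D1343) (tt N683 (iv D964)) (tt N1342 (iv F2199)) (tt N696 F1599))
theorem Q966 : ∀ i, i < 966 → P i := stepQ 965 Q965 (allL N965 (tt N1302 (iv F2123)) (tt N685 F1600) (tt N1294 (iv F2102)) (tt N684 (iv D965)) (tt N1344 D1344) (tt N685 F1601))
theorem Q967 : ∀ i, i < 967 → P i := stepQ 966 Q966 (allL N966 (tt N1340 (iv F2191)) (tt N686 F1602) (tt N688 F1603) (tt N1345 D1345) (tt N684 (iv D966)) (tt N1346 D1346))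
theorem Q968 : ∀ i, i < 968 → P i := stepQ 967 Q967 (allL N967 (tt N1300 (iv F2117)) (tt N1347 D1347) (tt N685 (iv D967)) (tt N1296 (iv F2108)) (tt N1348 D1348) (tt N1294 F2103))
theorem Q969 : ∀ i, i < 969 → P i := stepQ 968 Q968 (allL N968 (tt N1337 (iv F2187)) (tt N1344 (iv F2203)) (tt N1348 (iv F2208)) (tt N1349 D1349) (tt N685 (iv D968)) (tt N1350 D1350))
theorem Q970 : ∀ i, i < 970 → P i := stepQ 969 Q969 (allL N969 (tt N1338 (iv F2188)) (tt N1345 (iv F2204)) (tt N1351 D1351) (tt N686 (iv D969)) (tt N1349 (iv F2209)) (tt N1352 D1352))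
theorem Q971 : ∀ i, i < 971 → P i := stepQ 970 Q970 (allL N970 (tt N1339 (iv F2189)) (tt N1346 (iv F2205)) (tt N687 F1604) (tt N1352 (iv F2210)) (tt N1346 (iv F2207)) (tt N686 (iv D970)))
theorem Q972 : ∀ i, i < 972 → P i := stepQ 971 Q971 (allL N971 (tt N1341 (iv F2193)) (tt N691 F1605) (tt N1346 (iv F2206)) (tt N836 F1606) (tt N687 (iv D971)) (tt N688 F1607))
theorem Q973 : ∀ i, i < 973 → P i := stepQ 972 Q972 (allL N972 (tt N1342 (iv F2197)) (tt N690 F1608) (tt N1353 D1353) (tt N688 (iv D972)) (tt N689 F1609) (tt N836 F1610))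
theorem Q974 : ∀ i, i < 974 → P i := stepQ 973 Q973 (allL N973 (tt N1343 (iv F2201)) (tt N1099 (iv F1810)) (tt N689 (iv D973)) (tt N1354 D1354) (tt N1353 (iv F2211)) (tt N701 F1611))
theorem Q975 : ∀ i, i < 975 → P i := stepQ 974 Q974 (allL N974 (tt N793 F1612) (tt N694 F1613) (tt N772 F1614) (tt N1355 D1355) (tt N692 (iv D974)) (tt N1356 D1356))
theorem Q976 : ∀ i, i < 976 → P i := stepQ 975 Q975 (allL N975 (tt N698 F1615) (tt N918 F1616) (tt N1319 (iv F2158)) (tt N1357 D1357) (tt N693 (iv D975)) (tt N1358 D1358))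
theorem Q977 : ∀ i, i < 977 → P i := stepQ 976 Q976 (allL N976 (tt N699 F1617) (tt N1355 (iv F2215)) (tt N1359 D1359) (tt N694 (iv D976)) (tt N1357 (iv F2223)) (tt N1360 D1360))
theorem Q978 : ∀ i, i < 978 → P i := stepQ 977 Q977 (allL N977 (tt N700 F1618) (tt N1356 (iv F2218)) (tt N695 F1619) (tt N1360 (iv F2229)) (tt N805 F1620) (tt N694 (iv D977)))
theorem Q979 : ∀ i, i < 979 → P i := stepQ 978 Q978 (allL N978 (tt N701 F1621) (tt N1361 D1361) (tt N696 (iv D978)) (tt N1362 D1362) (tt N831 F1622) (tt N1343 (iv F2202)))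
theorem Q980 : ∀ i, i < 980 → P i := stepQ 979 Q979 (allL N979 (tt N1319 (iv F2156)) (tt N906 F1623) (tt N698 F1624) (tt N1363 D1363) (tt N697 (iv D979)) (tt N1364 D1364))
theorem Q981 : ∀ i, i < 981 → P i := stepQ 980 Q980 (allL N980 (tt N1357 (iv F2221)) (tt N818 F1625) (tt N1365 D1365) (tt N698 (iv D980)) (tt N699 F1626) (tt N1366 D1366))
theorem Q982 : ∀ i, i < 982 → P i := stepQ 981 Q981 (allL N981 (tt N1358 (iv F2224)) (tt N817 F1627) (tt N1364 (iv F2235)) (tt N1366 (iv F2239)) (tt N809 F1628) (tt N698 (iv D981)))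
theorem Q983 : ∀ i, i < 983 → P i := stepQ 982 Q982 (allL N982 (tt N1359 (iv F2227)) (tt N1367 D1367) (tt N699 (iv D982)) (tt N1368 D1368) (tt N1365 (iv F2237)) (tt N1369 D1369))
theorem Q984 : ∀ i, i < 984 → P i := stepQ 983 Q983 (allL N983 (tt N1360 (iv F2228)) (tt N823 F1629) (tt N1369 (iv F2241)) (tt N700 F1630) (tt N1370 D1370) (tt N699 (iv D983)))
theorem Q985 : ∀ i, i < 985 → P i := stepQ 984 Q984 (allL N984 (tt N1371 D1371) (tt N701 (iv D984)) (tt N702 F1631) (tt N1372 D1372) (tt N833 F1632) (tt N1099 (iv F1811)))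
theorem Q986 : ∀ i, i < 986 → P i := stepQ 985 Q985 (allL N985 (tt N1362 (iv F2232)) (tt N1372 (iv F2246)) (tt N1373 D1373) (tt N701 (iv D985)) (tt N1374 D1374) (tt N1354 (iv F2213)))
theorem Q987 : ∀ i, i < 987 → P i := stepQ 986 Q986 (allL N986 (tt N702 (iv D986)) (tt N785 F1633) (tt N1371 (iv F2244)) (tt N1075 (iv F1775)) (tt N837 F1634) (tt N1098 (iv F1809)))
theorem Q988 : ∀ i, i < 988 → P i := stepQ 987 Q987 (allL N987 (tt N705 F1635) (tt N714 F1636) (tt N789 F1637) (tt N1375 D1375) (tt N703 (iv D987)) (tt N1376 D1376))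
theorem Q989 : ∀ i, i < 989 → P i := stepQ 988 Q988 (allL N988 (tt N1085 (iv F1791)) (tt N707 F1638) (tt N1085 (iv F1793)) (tt N1377 D1377) (tt N704 (iv D988)) (tt N1378 D1378))
theorem Q990 : ∀ i, i < 990 → P i := stepQ 989 Q989 (allL N989 (tt N1375 (iv F2248)) (tt N708 F1639) (tt N1379 D1379) (tt N705 (iv D989)) (tt N1377 (iv F2255)) (tt N1380 D1380))
theorem Q991 : ∀ i, i < 991 → P i := stepQ 990 Q990 (allL N990 (tt N1376 (iv F2250)) (tt N709 F1640) (tt N792 F1641) (tt N1380 (iv F2258)) (tt N1381 D1381) (tt N705 (iv D990)))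
theorem Q992 : ∀ i, i < 992 → P i := stepQ 991 Q991 (allL N991 (tt N772 F1642) (tt N710 F1643) (tt N793 F1644) (tt N1382 D1382) (tt N706 (iv D991)) (tt N1381 (iv F2262)))
theorem Q993 : ∀ i, i < 993 → P i := stepQ 992 Q992 (allL N992 (tt N720 F1645) (tt N1377 (iv F2254)) (tt N1383 D1383) (tt N707 (iv D992)) (tt N708 F1646) (tt N1384 D1384))
theorem Q994 : ∀ i, i < 994 → P i := stepQ 993 Q993 (allL N993 (tt N721 F1647) (tt N1378 (iv F2256)) (tt N1011 (iv F1680)) (tt N1384 (iv F2268)) (tt N1008 (iv F1675)) (tt N707 (iv D993)))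
theorem Q995 : ∀ i, i < 995 → P i := stepQ 994 Q994 (allL N994 (tt N723 F1648) (tt N1385 D1385) (tt N708 (iv D994)) (tt N747 F1649) (tt N1383 (iv F2266)) (tt N746 (iv F1650)))
theorem Q996 : ∀ i, i < 996 → P i := stepQ 995 Q995 (allL N995 (tt N724 F1651) (tt N1380 (iv F2257)) (tt N746 F1652) (tt N709 F1653) (tt N1386 D1386) (tt N708 (iv D995)))
theorem Q997 : ∀ i, i < 997 → P i := stepQ 996 Q996 (allL N996 (tt N725 F1654) (tt N1381 (iv F2260)) (tt N711 F1655) (tt N1387 D1387) (tt N709 (iv D996)) (tt N710 F1656))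
theorem Q998 : ∀ i, i < 998 → P i := stepQ 997 Q997 (allL N997 (tt N726 F1657) (tt N1382 (iv F2264)) (tt N1388 D1388) (tt N710 (iv D997)) (tt N1007 (iv F1673)) (tt N1387 (iv F2274)))
theorem Q999 : ∀ i, i < 999 → P i := stepQ 998 Q998 (allL N998 (tt N727 F1658) (tt N1389 D1389) (tt N712 (iv D998)) (tt N1390 D1390) (tt N713 F1659) (tt N1240 (iv F2036)))
theorem Q1000 : ∀ i, i < 1000 → P i := stepQ 999 Q999 (allL N999 (tt N1259 (iv F2063)) (tt N713 (iv D999)) (tt N802 F1660) (tt N1049 (iv F1734)) (tt N1389 (iv F2277)) (tt N739 F1661))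
theorem Q1001 : ∀ i, i < 1001 → P i := stepQ 1000 Q1000 (allL N1000 (tt N716 F1662) (tt N1375 (iv F2249)) (tt N1391 D1391) (tt N714 (iv D1000)) (tt N1086 (iv F1795)) (tt N1392 D1392))
theorem Q1002 : ∀ i, i < 1002 → P i := stepQ 1001 Q1001 (allL N1001 (tt N717 F1663) (tt N1376 (iv F2251)) (tt N730 F1664) (tt N1392 (iv F2281)) (tt N775 F1665) (tt N714 (iv D1001)))
theorem Q1003 : ∀ i, i < 1003 → P i := stepQ 1002 Q1002 (allL N1002 (tt N1086 (iv F1794)) (tt N720 F1666) (tt N1393 D1393) (tt N715 (iv D1002)) (tt N716 F1667) (tt N1394 D1394))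
theorem Q1004 : ∀ i, i < 1004 → P i := stepQ 1003 Q1003 (allL N1003 (tt N1087 (iv F1796)) (tt N721 F1668) (tt N1080 (iv F1785)) (tt N1394 (iv F2284)) (tt N780 F1669) (tt N715 (iv D1003)))
theorem Q1005 : ∀ i, i < 1005 → P i := stepQ 1004 Q1004 (allL N1004 (tt N1391 (iv F2279)) (tt N1395 D1395) (tt N716 (iv D1004)) (tt N1396 D1396) (tt N1393 (iv F2282)) (tt N1397 D1397))
theorem Q1006 : ∀ i, i < 1006 → P i := stepQ 1005 Q1005 (allL N1005 (tt N1392 (iv F2280)) (tt N724 F1670) (tt N1397 (iv F2286)) (tt N717 F1671) (tt N1398 D1398) (tt N716 (iv D1005)))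
theorem Q1007 : ∀ i, i < 1007 → P i := stepQ 1006 Q1006 (allL N1006 (tt N1076 (iv F1777)) (tt N719 F1672) (tt N1076 (iv F1779)) (tt N1399 D1399) (tt N718 (iv D1006)) (tt N1400 D1400))
theorem Q1008 : ∀ i, i < 1008 → P i := stepQ 1007 Q1007 (allL N1007 (tt N1012 (iv F1682)) (tt N1399 (iv F2289)) (tt N1401 D1401) (tt N719 (iv D1007)) (tt N997 F1673) (tt N1402 D1402))
theorem Q1009 : ∀ i, i < 1009 → P i := stepQ 1008 Q1008 (allL N1008 (tt N1011 (iv F1678)) (tt N1400 (iv F2291)) (tt N721 F1674) (tt N1402 (iv F2294)) (tt N993 F1675) (tt N719 (iv D1008)))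
theorem Q1010 : ∀ i, i < 1010 → P i := stepQ 1009 Q1009 (allL N1009 (tt N1383 (iv F2265)) (tt N1403 D1403) (tt N720 (iv D1009)) (tt N1404 D1404) (tt N723 F1676) (tt N1405 D1405))
theorem Q1011 : ∀ i, i < 1011 → P i := stepQ 1010 Q1010 (allL N1010 (tt N1384 (iv F2267)) (tt N1394 (iv F2283)) (tt N1405 (iv F2296)) (tt N721 F1677) (tt N1406 D1406) (tt N720 (iv D1010)))
theorem Q1012 : ∀ i, i < 1012 → P i := stepQ 1011 Q1011 (allL N1011 (tt N1008 F1678) (tt N780 F1679) (tt N993 F1680) (tt N1407 D1407) (tt N721 (iv D1011)) (tt N722 F1681))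
theorem Q1013 : ∀ i, i < 1013 → P i := stepQ 1012 Q1012 (allL N1012 (tt N1007 F1682) (tt N779 F1683) (tt N1408 D1408) (tt N722 (iv D1012)) (tt N726 F1684) (tt N1407 (iv F2300)))
theorem Q1014 : ∀ i, i < 1014 → P i := stepQ 1013 Q1013 (allL N1013 (tt N1409 D1409) (tt N723 (iv D1013)) (tt N1395 (iv F2285)) (tt N1410 D1410) (tt N1403 (iv F2295)) (tt N1411 D1411))
theorem Q1015 : ∀ i, i < 1015 → P i := stepQ 1014 Q1014 (allL N1014 (tt N747 F1685) (tt N1410 (iv F2303)) (tt N738 F1686) (tt N723 (iv D1014)) (tt N1412 D1412) (tt N737 F1687))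
theorem Q1016 : ∀ i, i < 1016 → P i := stepQ 1015 Q1015 (allL N1015 (tt N746 F1688) (tt N1411 (iv F2305)) (tt N724 F1689) (tt N737 F1690) (tt N1413 D1413) (tt N723 (iv D1015)))
theorem Q1017 : ∀ i, i < 1017 → P i := stepQ 1016 Q1016 (allL N1016 (tt N1386 (iv F2271)) (tt N1398 (iv F2287)) (tt N1413 (iv F2310)) (tt N1414 D1414) (tt N724 (iv D1016)) (tt N1406 (iv F2297)))
theorem Q1018 : ∀ i, i < 1018 → P i := stepQ 1017 Q1017 (allL N1017 (tt N1387 (iv F2273)) (tt N782 F1691) (tt N1415 D1415) (tt N725 (iv D1017)) (tt N1414 (iv F2312)) (tt N726 F1692))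
theorem Q1019 : ∀ i, i < 1019 → P i := stepQ 1018 Q1018 (allL N1018 (tt N1388 (iv F2275)) (tt N1416 D1416) (tt N726 (iv D1018)) (tt N1417 D1417) (tt N1408 (iv F2302)) (tt N1415 (iv F2313)))
theorem Q1020 : ∀ i, i < 1020 → P i := stepQ 1019 Q1019 (allL N1019 (tt N1390 (iv F2278)) (tt N1264 (iv F2072)) (tt N1418 D1418) (tt N727 (iv D1019)) (tt N1419 D1419) (tt N1251 (iv F2049)))
theorem Q1021 : ∀ i, i < 1021 → P i := stepQ 1020 Q1020 (allL N1020 (tt N1050 (iv F1736)) (tt N1263 (iv F2071)) (tt N1034 (iv F1720)) (tt N1419 (iv F2315)) (tt N728 (iv D1020)) (tt N1420 D1420))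
theorem Q1022 : ∀ i, i < 1022 → P i := stepQ 1021 Q1021 (allL N1021 (tt N731 F1693) (tt N1421 D1421) (tt N729 (iv D1021)) (tt N1422 D1422) (tt N776 F1694) (tt N1423 D1423))
theorem Q1023 : ∀ i, i < 1023 → P i := stepQ 1022 Q1022 (allL N1022 (tt N732 F1695) (tt N832 F1696) (tt N1423 (iv F2321)) (tt N730 F1697) (tt N1424 D1424) (tt N729 (iv D1022)))
theorem Q1024 : ∀ i, i < 1024 → P i := stepQ 1023 Q1023 (allL N1023 (tt N1425 D1425) (tt N731 (iv D1023)) (tt N733 F1698) (tt N1426 D1426) (tt N783 F1699) (tt N893 (iv F1700)))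
theorem Q1025 : ∀ i, i < 1025 → P i := stepQ 1024 Q1024 (allL N1024 (tt N1422 (iv F2319)) (tt N1426 (iv F2329)) (tt N1427 D1427) (tt N731 (iv D1024)) (tt N1428 D1428) (tt N1429 D1429))
theorem Q1026 : ∀ i, i < 1026 → P i := stepQ 1025 Q1025 (allL N1025 (tt N1423 (iv F2320)) (tt N893 F1701) (tt N732 F1702) (tt N1429 (iv F2333)) (tt N1430 D1430) (tt N731 (iv D1025)))
theorem Q1027 : ∀ i, i < 1027 → P i := stepQ 1026 Q1026 (allL N1026 (tt N1424 (iv F2322)) (tt N734 F1703) (tt N1430 (iv F2335)) (tt N766 F1704) (tt N732 (iv D1026)) (tt N767 F1705))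
theorem Q1028 : ∀ i, i < 1028 → P i := stepQ 1027 Q1027 (allL N1027 (tt N733 (iv D1027)) (tt N837 F1706) (tt N1425 (iv F2326)) (tt N892 F1707) (tt N785 F1708) (tt N891 F1709))
theorem Q1029 : ∀ i, i < 1029 → P i := stepQ 1028 Q1028 (allL N1028 (tt N743 F1710) (tt N1431 D1431) (tt N735 (iv D1028)) (tt N1432 D1432) (tt N737 F1711) (tt N1433 D1433))
theorem Q1030 : ∀ i, i < 1030 → P i := stepQ 1029 Q1029 (allL N1029 (tt N744 F1712) (tt N738 F1713) (tt N1433 (iv F2341)) (tt N736 F1714) (tt N1434 D1434) (tt N735 (iv D1029)))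
theorem Q1031 : ∀ i, i < 1031 → P i := stepQ 1030 Q1030 (allL N1030 (tt N1435 D1435) (tt N737 (iv D1030)) (tt N1431 (iv F2337)) (tt N1411 (iv F2306)) (tt N1431 (iv F2338)) (tt N1410 F2304))
theorem Q1032 : ∀ i, i < 1032 → P i := stepQ 1031 Q1031 (allL N1031 (tt N748 F1715) (tt N1434 (iv F2343)) (tt N1412 (iv F2308)) (tt N1197 (iv F1978)) (tt N738 (iv D1031)) (tt N1434 (iv F2344)))
theorem Q1033 : ∀ i, i < 1033 → P i := stepQ 1032 Q1032 (allL N1032 (tt N739 (iv D1032)) (tt N749 F1716) (tt N850 F1717) (tt N1436 D1436) (tt N1236 (iv F2028)) (tt N1259 (iv F2065)))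
theorem Q1034 : ∀ i, i < 1034 → P i := stepQ 1033 Q1033 (allL N1033 (tt N1436 (iv F2346)) (tt N740 F1718) (tt N1437 D1437) (tt N739 (iv D1033)) (tt N1438 D1438) (tt N1049 (iv F1735)))
theorem Q1035 : ∀ i, i < 1035 → P i := stepQ 1034 Q1034 (allL N1034 (tt N752 F1719) (tt N1438 (iv F2349)) (tt N1020 F1720) (tt N1239 (iv F2033)) (tt N740 (iv D1034)) (tt N1439 D1439))
theorem Q1036 : ∀ i, i < 1036 → P i := stepQ 1035 Q1035 (allL N1035 (tt N841 F1721) (tt N1440 D1440) (tt N741 (iv D1035)) (tt N1441 D1441) (tt N853 F1722) (tt N1442 D1442))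
theorem Q1037 : ∀ i, i < 1037 → P i := stepQ 1036 Q1036 (allL N1036 (tt N842 F1723) (tt N854 F1724) (tt N1442 (iv F2356)) (tt N742 F1725) (tt N1443 D1443) (tt N741 (iv D1036)))
theorem Q1038 : ∀ i, i < 1038 → P i := stepQ 1037 Q1037 (allL N1037 (tt N1444 D1444) (tt N743 (iv D1037)) (tt N1182 (iv F1945)) (tt N1445 D1445) (tt N745 F1726) (tt N1446 D1446))
theorem Q1039 : ∀ i, i < 1039 → P i := stepQ 1038 Q1038 (allL N1038 (tt N1432 (iv F2339)) (tt N1445 (iv F2362)) (tt N1447 D1447) (tt N743 (iv D1038)) (tt N1448 D1448) (tt N1449 D1449))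
theorem Q1040 : ∀ i, i < 1040 → P i := stepQ 1039 Q1039 (allL N1039 (tt N1433 (iv F2340)) (tt N1446 (iv F2363)) (tt N744 F1727) (tt N1449 (iv F2368)) (tt N1450 D1450) (tt N743 (iv D1039)))
theorem Q1041 : ∀ i, i < 1041 → P i := stepQ 1040 Q1040 (allL N1040 (tt N1434 (iv F2342)) (tt N1180 (iv F1939)) (tt N1450 (iv F2369)) (tt N1178 (iv F1934)) (tt N744 (iv D1040)) (tt N748 F1728))
theorem Q1042 : ∀ i, i < 1042 → P i := stepQ 1041 Q1041 (allL N1041 (tt N745 (iv D1041)) (tt N1435 (iv F2345)) (tt N1214 (iv F1997)) (tt N1451 D1451) (tt N1444 (iv F2361)) (tt N1452 D1452))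
theorem Q1043 : ∀ i, i < 1043 → P i := stepQ 1042 Q1042 (allL N1042 (tt N1451 (iv F2371)) (tt N746 F1729) (tt N1453 D1453) (tt N745 (iv D1042)) (tt N1454 D1454) (tt N1385 (iv F2270)))
theorem Q1044 : ∀ i, i < 1044 → P i := stepQ 1043 Q1043 (allL N1043 (tt N1452 (iv F2372)) (tt N747 F1730) (tt N1213 (iv F1995)) (tt N1385 (iv F2269)) (tt N1455 D1455) (tt N745 (iv D1043)))
theorem Q1045 : ∀ i, i < 1045 → P i := stepQ 1044 Q1044 (allL N1044 (tt N1413 (iv F2309)) (tt N1454 (iv F2373)) (tt N1386 (iv F2272)) (tt N1448 (iv F2366)) (tt N746 (iv D1044)) (tt N1456 D1456))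
theorem Q1046 : ∀ i, i < 1046 → P i := stepQ 1045 Q1045 (allL N1045 (tt N1412 (iv F2307)) (tt N1455 (iv F2374)) (tt N748 F1731) (tt N1457 D1457) (tt N747 (iv D1045)) (tt N1450 (iv F2370)))
theorem Q1047 : ∀ i, i < 1047 → P i := stepQ 1046 Q1046 (allL N1046 (tt N750 F1732) (tt N1436 (iv F2347)) (tt N1229 (iv F2014)) (tt N749 (iv D1046)) (tt N1458 D1458) (tt N1260 (iv F2067)))
theorem Q1048 : ∀ i, i < 1048 → P i := stepQ 1047 Q1047 (allL N1047 (tt N1229 (iv F2013)) (tt N1459 D1459) (tt N750 (iv D1047)) (tt N1226 (iv F2009)) (tt N1460 D1460) (tt N1262 (iv F2070)))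
theorem Q1049 : ∀ i, i < 1049 → P i := stepQ 1048 Q1048 (allL N1048 (tt N1458 (iv F2375)) (tt N752 F1733) (tt N1460 (iv F2378)) (tt N1244 (iv F2041)) (tt N750 (iv D1048)) (tt N1461 D1461))
theorem Q1050 : ∀ i, i < 1050 → P i := stepQ 1049 Q1049 (allL N1049 (tt N1462 D1462) (tt N751 (iv D1049)) (tt N1459 (iv F2376)) (tt N999 F1734) (tt N1463 D1463) (tt N1033 F1735))
theorem Q1051 : ∀ i, i < 1051 → P i := stepQ 1050 Q1050 (allL N1050 (tt N1020 F1736) (tt N1463 (iv F2383)) (tt N752 F1737) (tt N1464 D1464) (tt N751 (iv D1050)) (tt N1465 D1465))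
theorem Q1052 : ∀ i, i < 1052 → P i := stepQ 1051 Q1051 (allL N1051 (tt N1439 (iv F2350)) (tt N1461 (iv F2379)) (tt N1465 (iv F2387)) (tt N1249 (iv F2048)) (tt N1420 (iv F2316)) (tt N752 (iv D1051)))
theorem Q1053 : ∀ i, i < 1053 → P i := stepQ 1052 Q1052 (allL N1052 (tt N753 (iv D1052)) (tt N756 F1738) (tt N1334 (iv F2182)) (tt N1065 (iv F1762)) (tt N1466 D1466) (tt N753 (iv F1739)))
theorem Q1054 : ∀ i, i < 1054 → P i := stepQ 1053 Q1053 (allL N1053 (tt N1065 (iv F1760)) (tt N754 F1740) (tt N1065 (iv F1761)) (tt N753 (iv D1053)) (tt N1467 D1467) (tt N1065 (iv F1763)))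
theorem Q1055 : ∀ i, i < 1055 → P i := stepQ 1054 Q1054 (allL N1054 (tt N1466 (iv F2389)) (tt N755 F1741) (tt N1336 (iv F2186)) (tt N1468 D1468) (tt N753 (iv D1054)) (tt N1469 D1469))
theorem Q1056 : ∀ i, i < 1056 → P i := stepQ 1055 Q1055 (allL N1055 (tt N763 F1742) (tt N1467 (iv F2391)) (tt N1062 (iv F1755)) (tt N1470 D1470) (tt N754 (iv D1055)) (tt N1471 D1471))
theorem Q1057 : ∀ i, i < 1057 → P i := stepQ 1056 Q1056 (allL N1056 (tt N764 F1743) (tt N1468 (iv F2392)) (tt N1472 D1472) (tt N755 (iv D1056)) (tt N1470 (iv F2395)) (tt N1473 D1473))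
theorem Q1058 : ∀ i, i < 1058 → P i := stepQ 1057 Q1057 (allL N1057 (tt N765 F1744) (tt N1469 (iv F2393)) (tt N757 F1745) (tt N1473 (iv F2402)) (tt N1474 D1474) (tt N755 (iv D1057)))
theorem Q1059 : ∀ i, i < 1059 → P i := stepQ 1058 Q1058 (allL N1058 (tt N761 F1746) (tt N1466 (iv F2390)) (tt N758 F1747) (tt N1475 D1475) (tt N756 (iv D1058)) (tt N1474 (iv F2405)))
theorem Q1060 : ∀ i, i < 1060 → P i := stepQ 1059 Q1059 (allL N1059 (tt N766 F1748) (tt N1341 (iv F2194)) (tt N1474 (iv F2404)) (tt N1424 (iv F2324)) (tt N757 (iv D1059)) (tt N758 F1749))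
theorem Q1061 : ∀ i, i < 1061 → P i := stepQ 1060 Q1060 (allL N1060 (tt N767 F1750) (tt N1342 (iv F2198)) (tt N1476 D1476) (tt N758 (iv D1060)) (tt N759 F1751) (tt N1424 (iv F2325)))
theorem Q1062 : ∀ i, i < 1062 → P i := stepQ 1061 Q1061 (allL N1061 (tt N768 F1752) (tt N1477 D1477) (tt N759 (iv D1061)) (tt N1096 (iv F1806)) (tt N1476 (iv F2408)) (tt N776 F1753))
theorem Q1063 : ∀ i, i < 1063 → P i := stepQ 1062 Q1062 (allL N1062 (tt N1066 (iv F1764)) (tt N763 F1754) (tt N1055 F1755) (tt N1478 D1478) (tt N760 (iv D1062)) (tt N1479 D1479))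
theorem Q1064 : ∀ i, i < 1064 → P i := stepQ 1063 Q1063 (allL N1063 (tt N1475 (iv F2406)) (tt N764 F1756) (tt N1480 D1480) (tt N761 (iv D1063)) (tt N1478 (iv F2411)) (tt N1481 D1481))
theorem Q1065 : ∀ i, i < 1065 → P i := stepQ 1064 Q1064 (allL N1064 (tt N1474 (iv F2403)) (tt N765 F1757) (tt N766 F1758) (tt N1481 (iv F2416)) (tt N765 F1759) (tt N761 (iv D1064)))
theorem Q1066 : ∀ i, i < 1066 → P i := stepQ 1065 Q1065 (allL N1065 (tt N1053 F1760) (tt N762 (iv D1065)) (tt N1053 F1761) (tt N1052 F1762) (tt N1482 D1482) (tt N1053 F1763))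
theorem Q1067 : ∀ i, i < 1067 → P i := stepQ 1066 Q1066 (allL N1066 (tt N1062 F1764) (tt N1482 (iv F2418)) (tt N763 F1765) (tt N1483 D1483) (tt N762 (iv D1066)) (tt N1484 D1484))
theorem Q1068 : ∀ i, i < 1068 → P i := stepQ 1067 Q1067 (allL N1067 (tt N1470 (iv F2394)) (tt N1478 (iv F2410)) (tt N1485 D1485) (tt N763 (iv D1067)) (tt N764 F1766) (tt N1486 D1486))
theorem Q1069 : ∀ i, i < 1069 → P i := stepQ 1068 Q1068 (allL N1068 (tt N1471 (iv F2396)) (tt N1479 (iv F2412)) (tt N1484 (iv F2423)) (tt N1486 (iv F2426)) (tt N1479 (iv F2414)) (tt N763 (iv D1068)))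
theorem Q1070 : ∀ i, i < 1070 → P i := stepQ 1069 Q1069 (allL N1069 (tt N1472 (iv F2397)) (tt N1487 D1487) (tt N764 (iv D1069)) (tt N1488 D1488) (tt N1485 (iv F2425)) (tt N1489 D1489))
theorem Q1071 : ∀ i, i < 1071 → P i := stepQ 1070 Q1070 (allL N1070 (tt N1473 (iv F2400)) (tt N1481 (iv F2415)) (tt N1489 (iv F2431)) (tt N765 F1767) (tt N1490 D1490) (tt N764 (iv D1070)))
theorem Q1072 : ∀ i, i < 1072 → P i := stepQ 1071 Q1071 (allL N1071 (tt N1476 (iv F2407)) (tt N1491 D1491) (tt N767 (iv D1071)) (tt N1492 D1492) (tt N768 F1768) (tt N1430 (iv F2336)))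
theorem Q1073 : ∀ i, i < 1073 → P i := stepQ 1072 Q1072 (allL N1072 (tt N1493 D1493) (tt N768 (iv D1072)) (tt N770 F1769) (tt N1494 D1494) (tt N1491 (iv F2434)) (tt N783 F1770))
theorem Q1074 : ∀ i, i < 1074 → P i := stepQ 1073 Q1073 (allL N1073 (tt N1096 (iv F1804)) (tt N1494 (iv F2438)) (tt N1084 (iv F1790)) (tt N768 (iv D1073)) (tt N1495 D1495) (tt N784 F1771))
theorem Q1075 : ∀ i, i < 1075 → P i := stepQ 1074 Q1074 (allL N1074 (tt N1496 D1496) (tt N769 (iv D1074)) (tt N1491 (iv F2433)) (tt N838 F1772) (tt N770 F1773) (tt N840 F1774))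
theorem Q1076 : ∀ i, i < 1076 → P i := stepQ 1075 Q1075 (allL N1075 (tt N770 (iv D1075)) (tt N1098 (iv F1808)) (tt N1493 (iv F2436)) (tt N986 F1775) (tt N1496 (iv F2441)) (tt N785 F1776))
theorem Q1077 : ∀ i, i < 1077 → P i := stepQ 1076 Q1076 (allL N1076 (tt N1006 F1777) (tt N773 F1778) (tt N1006 F1779) (tt N1497 D1497) (tt N771 (iv D1076)) (tt N1498 D1498))
theorem Q1078 : ∀ i, i < 1078 → P i := stepQ 1077 Q1077 (allL N1077 (tt N1382 (iv F2263)) (tt N774 F1780) (tt N1499 D1499) (tt N772 (iv D1077)) (tt N1497 (iv F2445)) (tt N1500 D1500))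
theorem Q1079 : ∀ i, i < 1079 → P i := stepQ 1078 Q1078 (allL N1078 (tt N1381 (iv F2259)) (tt N775 F1781) (tt N1356 (iv F2219)) (tt N1500 (iv F2450)) (tt N1376 (iv F2253)) (tt N772 (iv D1078)))
theorem Q1080 : ∀ i, i < 1080 → P i := stepQ 1079 Q1079 (allL N1079 (tt N779 F1782) (tt N1497 (iv F2444)) (tt N1501 D1501) (tt N773 (iv D1079)) (tt N774 F1783) (tt N1502 D1502))
theorem Q1081 : ∀ i, i < 1081 → P i := stepQ 1080 Q1080 (allL N1080 (tt N780 F1784) (tt N1498 (iv F2447)) (tt N1003 F1785) (tt N1502 (iv F2454)) (tt N1087 (iv F1798)) (tt N773 (iv D1080)))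
theorem Q1082 : ∀ i, i < 1082 → P i := stepQ 1081 Q1081 (allL N1081 (tt N781 F1786) (tt N1503 D1503) (tt N774 (iv D1081)) (tt N1489 (iv F2432)) (tt N1501 (iv F2452)) (tt N1488 (iv F2429)))
theorem Q1083 : ∀ i, i < 1083 → P i := stepQ 1082 Q1082 (allL N1082 (tt N782 F1787) (tt N1500 (iv F2449)) (tt N1488 (iv F2428)) (tt N775 F1788) (tt N1504 D1504) (tt N774 (iv D1082)))
theorem Q1084 : ∀ i, i < 1084 → P i := stepQ 1083 Q1083 (allL N1083 (tt N1505 D1505) (tt N776 (iv D1083)) (tt N1361 (iv F2230)) (tt N1506 D1506) (tt N1421 (iv F2318)) (tt N1477 (iv F2409)))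
theorem Q1085 : ∀ i, i < 1085 → P i := stepQ 1084 Q1084 (allL N1084 (tt N784 F1789) (tt N1506 (iv F2457)) (tt N1073 F1790) (tt N776 (iv D1084)) (tt N1507 D1507) (tt N1096 (iv F1805)))
theorem Q1086 : ∀ i, i < 1086 → P i := stepQ 1085 Q1085 (allL N1085 (tt N988 F1791) (tt N778 F1792) (tt N988 F1793) (tt N1508 D1508) (tt N777 (iv D1085)) (tt N1509 D1509))
theorem Q1087 : ∀ i, i < 1087 → P i := stepQ 1086 Q1086 (allL N1086 (tt N1002 F1794) (tt N1508 (iv F2461)) (tt N1510 D1510) (tt N778 (iv D1086)) (tt N1000 F1795) (tt N1511 D1511))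
theorem Q1088 : ∀ i, i < 1088 → P i := stepQ 1087 Q1087 (allL N1087 (tt N1003 F1796) (tt N1509 (iv F2464)) (tt N780 F1797) (tt N1511 (iv F2470)) (tt N1080 F1798) (tt N778 (iv D1087)))
theorem Q1089 : ∀ i, i < 1089 → P i := stepQ 1088 Q1088 (allL N1088 (tt N1501 (iv F2451)) (tt N1512 D1512) (tt N779 (iv D1088)) (tt N1513 D1513) (tt N781 F1799) (tt N1514 D1514))
theorem Q1090 : ∀ i, i < 1090 → P i := stepQ 1089 Q1089 (allL N1089 (tt N1502 (iv F2453)) (tt N1407 (iv F2299)) (tt N1514 (iv F2472)) (tt N780 F1800) (tt N1515 D1515) (tt N779 (iv D1089)))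
theorem Q1091 : ∀ i, i < 1091 → P i := stepQ 1090 Q1090 (allL N1090 (tt N1516 D1516) (tt N781 (iv D1090)) (tt N1416 (iv F2314)) (tt N1517 D1517) (tt N1512 (iv F2471)) (tt N1518 D1518))
theorem Q1092 : ∀ i, i < 1092 → P i := stepQ 1091 Q1091 (allL N1091 (tt N1489 (iv F2430)) (tt N1517 (iv F2474)) (tt N1473 (iv F2401)) (tt N781 (iv D1091)) (tt N1519 D1519) (tt N1472 F2399))
theorem Q1093 : ∀ i, i < 1093 → P i := stepQ 1092 Q1092 (allL N1092 (tt N1488 (iv F2427)) (tt N1518 (iv F2475)) (tt N782 F1801) (tt N1472 (iv F2398)) (tt N1520 D1520) (tt N781 (iv D1092)))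
theorem Q1094 : ∀ i, i < 1094 → P i := stepQ 1093 Q1093 (allL N1093 (tt N1504 (iv F2455)) (tt N1414 (iv F2311)) (tt N1520 (iv F2476)) (tt N1398 (iv F2288)) (tt N782 (iv D1093)) (tt N1515 (iv F2473)))
theorem Q1095 : ∀ i, i < 1095 → P i := stepQ 1094 Q1094 (allL N1094 (tt N783 (iv D1094)) (tt N1505 (iv F2456)) (tt N785 F1802) (tt N1521 D1521) (tt N1425 (iv F2327)) (tt N1493 (iv F2437)))
theorem Q1096 : ∀ i, i < 1096 → P i := stepQ 1095 Q1095 (allL N1095 (tt N1521 (iv F2477)) (tt N784 F1803) (tt N1522 D1522) (tt N783 (iv D1095)) (tt N1523 D1523) (tt N1494 (iv F2439)))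
theorem Q1097 : ∀ i, i < 1097 → P i := stepQ 1096 Q1096 (allL N1096 (tt N1073 F1804) (tt N1524 D1524) (tt N784 (iv D1096)) (tt N1061 F1806) (tt N1525 D1525) (tt N1084 F1805))
theorem Q1098 : ∀ i, i < 1098 → P i := stepQ 1097 Q1097 (allL N1097 (tt N1507 (iv F2458)) (tt N1523 (iv F2478)) (tt N1525 (iv F2482)) (tt N1428 (iv F2331)) (tt N784 (iv D1097)) (tt N1526 D1526))
theorem Q1099 : ∀ i, i < 1099 → P i := stepQ 1098 Q1098 (allL N1098 (tt N786 F1807) (tt N1075 F1808) (tt N1527 D1527) (tt N785 (iv D1098)) (tt N1528 D1528) (tt N986 F1809))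
theorem Q1100 : ∀ i, i < 1100 → P i := stepQ 1099 Q1099 (allL N1099 (tt N1527 (iv F2483)) (tt N973 F1810) (tt N786 (iv D1099)) (tt N1529 D1529) (tt N1530 D1530) (tt N984 F1811))
theorem Q1101 : ∀ i, i < 1101 → P i := stepQ 1100 Q1100 (allL N1100 (tt N1528 (iv F2485)) (tt N787 F1812) (tt N1530 (iv F2492)) (tt N894 F1813) (tt N786 (iv D1100)) (tt N898 F1814))
theorem Q1102 : ∀ i, i < 1102 → P i := stepQ 1101 Q1101 (allL N1101 (tt N790 F1815) (tt N803 F1816) (tt N918 F1817) (tt N1531 D1531) (tt N788 (iv D1101)) (tt N1532 D1532))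
theorem Q1103 : ∀ i, i < 1103 → P i := stepQ 1102 Q1102 (allL N1102 (tt N791 F1818) (tt N804 F1819) (tt N1533 D1533) (tt N789 (iv D1102)) (tt N1531 (iv F2496)) (tt N1534 D1534))
theorem Q1104 : ∀ i, i < 1104 → P i := stepQ 1103 Q1103 (allL N1103 (tt N792 F1820) (tt N805 F1821) (tt N1376 (iv F2252)) (tt N1534 (iv F2504)) (tt N1356 (iv F2220)) (tt N789 (iv D1103)))
theorem Q1105 : ∀ i, i < 1105 → P i := stepQ 1104 Q1104 (allL N1104 (tt N1531 (iv F2494)) (tt N794 F1822) (tt N1535 D1535) (tt N790 (iv D1104)) (tt N791 F1823) (tt N1536 D1536))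
theorem Q1106 : ∀ i, i < 1106 → P i := stepQ 1105 Q1105 (allL N1105 (tt N1532 (iv F2497)) (tt N795 F1824) (tt N920 F1825) (tt N1536 (iv F2507)) (tt N920 F1826) (tt N790 (iv D1105)))
theorem Q1107 : ∀ i, i < 1107 → P i := stepQ 1106 Q1106 (allL N1106 (tt N1533 (iv F2501)) (tt N1537 D1537) (tt N791 (iv D1106)) (tt N1538 D1538) (tt N1535 (iv F2505)) (tt N1539 D1539))
theorem Q1108 : ∀ i, i < 1108 → P i := stepQ 1107 Q1107 (allL N1107 (tt N1534 (iv F2502)) (tt N797 F1827) (tt N1539 (iv F2511)) (tt N792 F1828) (tt N1540 D1540) (tt N791 (iv D1107)))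
theorem Q1109 : ∀ i, i < 1109 → P i := stepQ 1108 Q1108 (allL N1108 (tt N1356 (iv F2217)) (tt N798 F1829) (tt N1381 (iv F2261)) (tt N1541 D1541) (tt N792 (iv D1108)) (tt N793 F1830))
theorem Q1110 : ∀ i, i < 1110 → P i := stepQ 1109 Q1109 (allL N1109 (tt N1355 (iv F2214)) (tt N799 F1831) (tt N1542 D1542) (tt N793 (iv D1109)) (tt N919 F1832) (tt N1541 (iv F2514)))
theorem Q1111 : ∀ i, i < 1111 → P i := stepQ 1110 Q1110 (allL N1110 (tt N815 F1833) (tt N1543 D1543) (tt N794 (iv D1110)) (tt N1544 D1544) (tt N796 F1834) (tt N1545 D1545))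
theorem Q1112 : ∀ i, i < 1112 → P i := stepQ 1111 Q1111 (allL N1111 (tt N816 F1835) (tt N1536 (iv F2506)) (tt N1545 (iv F2520)) (tt N795 F1836) (tt N1546 D1546) (tt N794 (iv D1111)))
theorem Q1113 : ∀ i, i < 1113 → P i := stepQ 1112 Q1112 (allL N1112 (tt N1547 D1547) (tt N796 (iv D1112)) (tt N1537 (iv F2508)) (tt N861 F1837) (tt N1543 (iv F2516)) (tt N860 F1838))
theorem Q1114 : ∀ i, i < 1114 → P i := stepQ 1113 Q1113 (allL N1113 (tt N822 F1839) (tt N1540 (iv F2512)) (tt N862 F1840) (tt N1548 D1548) (tt N797 (iv D1113)) (tt N1546 (iv F2525)))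
theorem Q1115 : ∀ i, i < 1115 → P i := stepQ 1114 Q1114 (allL N1114 (tt N823 F1841) (tt N1541 (iv F2513)) (tt N1549 D1549) (tt N798 (iv D1114)) (tt N1548 (iv F2530)) (tt N799 F1842))
theorem Q1116 : ∀ i, i < 1116 → P i := stepQ 1115 Q1115 (allL N1115 (tt N824 F1843) (tt N1550 D1550) (tt N799 (iv D1115)) (tt N1551 D1551) (tt N921 F1844) (tt N1549 (iv F2533)))
theorem Q1117 : ∀ i, i < 1117 → P i := stepQ 1116 Q1116 (allL N1116 (tt N825 F1845) (tt N1552 D1552) (tt N800 (iv D1116)) (tt N1553 D1553) (tt N847 F1846) (tt N801 F1847))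
theorem Q1118 : ∀ i, i < 1118 → P i := stepQ 1117 Q1117 (allL N1117 (tt N1554 D1554) (tt N801 (iv D1117)) (tt N1389 (iv F2276)) (tt N1555 D1555) (tt N802 F1848) (tt N1552 (iv F2540)))
theorem Q1119 : ∀ i, i < 1119 → P i := stepQ 1118 Q1118 (allL N1118 (tt N827 F1849) (tt N1555 (iv F2546)) (tt N1556 D1556) (tt N801 (iv D1118)) (tt N924 F1850) (tt N1553 (iv F2543)))
theorem Q1120 : ∀ i, i < 1120 → P i := stepQ 1119 Q1119 (allL N1119 (tt N802 (iv D1119)) (tt N828 F1851) (tt N1259 (iv F2064)) (tt N927 F1852) (tt N1554 (iv F2545)) (tt N850 F1853))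
theorem Q1121 : ∀ i, i < 1121 → P i := stepQ 1120 Q1120 (allL N1120 (tt N808 F1854) (tt N1531 (iv F2495)) (tt N1557 D1557) (tt N803 (iv D1120)) (tt N804 F1855) (tt N1558 D1558))
theorem Q1122 : ∀ i, i < 1122 → P i := stepQ 1121 Q1121 (allL N1121 (tt N809 F1856) (tt N1532 (iv F2498)) (tt N1323 (iv F2166)) (tt N1558 (iv F2555)) (tt N1358 (iv F2226)) (tt N803 (iv D1121)))
theorem Q1123 : ∀ i, i < 1123 → P i := stepQ 1122 Q1122 (allL N1122 (tt N810 F1857) (tt N1559 D1559) (tt N804 (iv D1122)) (tt N1560 D1560) (tt N1557 (iv F2553)) (tt N1561 D1561))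
theorem Q1124 : ∀ i, i < 1124 → P i := stepQ 1123 Q1123 (allL N1123 (tt N811 F1858) (tt N1534 (iv F2503)) (tt N1561 (iv F2560)) (tt N805 F1859) (tt N1562 D1562) (tt N804 (iv D1123)))
theorem Q1125 : ∀ i, i < 1125 → P i := stepQ 1124 Q1124 (allL N1124 (tt N906 F1860) (tt N807 F1861) (tt N812 F1862) (tt N1563 D1563) (tt N806 (iv D1124)) (tt N1564 D1564))
theorem Q1126 : ∀ i, i < 1126 → P i := stepQ 1125 Q1125 (allL N1125 (tt N1322 (iv F2163)) (tt N1563 (iv F2564)) (tt N1565 D1565) (tt N807 (iv D1125)) (tt N1313 (iv F2143)) (tt N1566 D1566))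
theorem Q1127 : ∀ i, i < 1127 → P i := stepQ 1126 Q1126 (allL N1126 (tt N1323 (iv F2165)) (tt N1564 (iv F2566)) (tt N809 F1863) (tt N1566 (iv F2569)) (tt N1364 (iv F2236)) (tt N807 (iv D1126)))
theorem Q1128 : ∀ i, i < 1128 → P i := stepQ 1127 Q1127 (allL N1127 (tt N1557 (iv F2552)) (tt N1567 D1567) (tt N808 (iv D1127)) (tt N1568 D1568) (tt N810 F1864) (tt N1569 D1569))
theorem Q1129 : ∀ i, i < 1129 → P i := stepQ 1128 Q1128 (allL N1128 (tt N1558 (iv F2554)) (tt N816 F1865) (tt N1569 (iv F2572)) (tt N809 F1866) (tt N1570 D1570) (tt N808 (iv D1128)))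
theorem Q1130 : ∀ i, i < 1130 → P i := stepQ 1129 Q1129 (allL N1129 (tt N1571 D1571) (tt N810 (iv D1129)) (tt N819 F1867) (tt N1572 D1572) (tt N1567 (iv F2571)) (tt N1573 D1573))
theorem Q1131 : ∀ i, i < 1131 → P i := stepQ 1130 Q1130 (allL N1130 (tt N1560 (iv F2556)) (tt N1572 (iv F2576)) (tt N1574 D1574) (tt N810 (iv D1130)) (tt N1575 D1575) (tt N1576 D1576))
theorem Q1132 : ∀ i, i < 1132 → P i := stepQ 1131 Q1131 (allL N1131 (tt N1561 (iv F2559)) (tt N1573 (iv F2577)) (tt N811 F1868) (tt N1576 (iv F2584)) (tt N1577 D1577) (tt N810 (iv D1131)))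
theorem Q1133 : ∀ i, i < 1133 → P i := stepQ 1132 Q1132 (allL N1132 (tt N1562 (iv F2562)) (tt N822 F1869) (tt N1577 (iv F2585)) (tt N1370 (iv F2243)) (tt N811 (iv D1132)) (tt N1570 (iv F2574)))
theorem Q1134 : ∀ i, i < 1134 → P i := stepQ 1133 Q1133 (allL N1133 (tt N907 F1870) (tt N813 F1871) (tt N1578 D1578) (tt N812 (iv D1133)) (tt N903 F1872) (tt N1579 D1579))
theorem Q1135 : ∀ i, i < 1135 → P i := stepQ 1134 Q1134 (allL N1134 (tt N908 F1873) (tt N814 F1874) (tt N1564 (iv F2567)) (tt N1579 (iv F2590)) (tt N908 F1875) (tt N812 (iv D1134)))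
theorem Q1136 : ∀ i, i < 1136 → P i := stepQ 1135 Q1135 (allL N1135 (tt N913 F1876) (tt N1580 D1580) (tt N813 (iv D1135)) (tt N1581 D1581) (tt N912 F1877) (tt N1582 D1582))
theorem Q1137 : ∀ i, i < 1137 → P i := stepQ 1136 Q1136 (allL N1136 (tt N914 F1878) (tt N1579 (iv F2589)) (tt N1582 (iv F2595)) (tt N814 F1879) (tt N1583 D1583) (tt N813 (iv D1136)))
theorem Q1138 : ∀ i, i < 1138 → P i := stepQ 1137 Q1137 (allL N1137 (tt N1584 D1584) (tt N815 (iv D1137)) (tt N1567 (iv F2570)) (tt N1585 D1585) (tt N819 F1880) (tt N1586 D1586))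
theorem Q1139 : ∀ i, i < 1139 → P i := stepQ 1138 Q1138 (allL N1138 (tt N1544 (iv F2517)) (tt N1585 (iv F2600)) (tt N1587 D1587) (tt N815 (iv D1138)) (tt N1588 D1588) (tt N1589 D1589))
theorem Q1140 : ∀ i, i < 1140 → P i := stepQ 1139 Q1139 (allL N1139 (tt N1545 (iv F2519)) (tt N1586 (iv F2601)) (tt N816 F1881) (tt N1589 (iv F2608)) (tt N1590 D1590) (tt N815 (iv D1139)))
theorem Q1141 : ∀ i, i < 1141 → P i := stepQ 1140 Q1140 (allL N1140 (tt N1546 (iv F2522)) (tt N1570 (iv F2573)) (tt N1590 (iv F2610)) (tt N1591 D1591) (tt N816 (iv D1140)) (tt N822 F1882))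
theorem Q1142 : ∀ i, i < 1142 → P i := stepQ 1141 Q1141 (allL N1141 (tt N922 F1883) (tt N1366 (iv F2238)) (tt N1592 D1592) (tt N817 (iv D1141)) (tt N1591 (iv F2614)) (tt N818 F1884))
theorem Q1143 : ∀ i, i < 1143 → P i := stepQ 1142 Q1142 (allL N1142 (tt N921 F1885) (tt N1593 D1593) (tt N818 (iv D1142)) (tt N1594 D1594) (tt N824 F1886) (tt N1592 (iv F2617)))
theorem Q1144 : ∀ i, i < 1144 → P i := stepQ 1143 Q1143 (allL N1143 (tt N819 (iv D1143)) (tt N1547 (iv F2526)) (tt N1571 (iv F2575)) (tt N1595 D1595) (tt N1584 (iv F2599)) (tt N1596 D1596))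
theorem Q1145 : ∀ i, i < 1145 → P i := stepQ 1144 Q1144 (allL N1144 (tt N1595 (iv F2623)) (tt N820 F1887) (tt N1597 D1597) (tt N819 (iv D1144)) (tt N1598 D1598) (tt N843 (iv F1888)))
theorem Q1146 : ∀ i, i < 1146 → P i := stepQ 1145 Q1145 (allL N1145 (tt N1596 (iv F2626)) (tt N821 F1889) (tt N1573 (iv F2578)) (tt N843 F1890) (tt N1599 D1599) (tt N819 (iv D1145)))
theorem Q1147 : ∀ i, i < 1147 → P i := stepQ 1146 Q1146 (allL N1146 (tt N863 F1891) (tt N1598 (iv F2631)) (tt N844 F1892) (tt N1588 (iv F2605)) (tt N820 (iv D1146)) (tt N863 F1893))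
theorem Q1148 : ∀ i, i < 1148 → P i := stepQ 1147 Q1147 (allL N1147 (tt N862 F1894) (tt N1599 (iv F2633)) (tt N822 F1895) (tt N862 F1896) (tt N821 (iv D1147)) (tt N1590 (iv F2611)))
theorem Q1149 : ∀ i, i < 1149 → P i := stepQ 1148 Q1148 (allL N1148 (tt N1548 (iv F2529)) (tt N1370 (iv F2242)) (tt N1600 D1600) (tt N822 (iv D1148)) (tt N823 F1897) (tt N1591 (iv F2615)))
theorem Q1150 : ∀ i, i < 1150 → P i := stepQ 1149 Q1149 (allL N1149 (tt N1549 (iv F2532)) (tt N1601 D1601) (tt N823 (iv D1149)) (tt N1556 (iv F2549)) (tt N1600 (iv F2635)) (tt N824 F1898))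
theorem Q1151 : ∀ i, i < 1151 → P i := stepQ 1150 Q1150 (allL N1150 (tt N1602 D1602) (tt N824 (iv D1150)) (tt N1367 (iv F2240)) (tt N1603 D1603) (tt N1593 (iv F2619)) (tt N1601 (iv F2636)))
theorem Q1152 : ∀ i, i < 1152 → P i := stepQ 1151 Q1151 (allL N1151 (tt N1551 (iv F2536)) (tt N1603 (iv F2637)) (tt N1553 (iv F2542)) (tt N824 (iv D1151)) (tt N1604 D1604) (tt N1556 (iv F2551)))
theorem Q1153 : ∀ i, i < 1153 → P i := stepQ 1152 Q1152 (allL N1152 (tt N1605 D1605) (tt N825 (iv D1152)) (tt N838 F1899) (tt N1606 D1606) (tt N868 F1900) (tt N826 F1901))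
theorem Q1154 : ∀ i, i < 1154 → P i := stepQ 1153 Q1153 (allL N1153 (tt N1553 (iv F2541)) (tt N1606 (iv F2641)) (tt N1551 (iv F2538)) (tt N825 (iv D1153)) (tt N1607 D1607) (tt N827 F1902))
theorem Q1155 : ∀ i, i < 1155 → P i := stepQ 1154 Q1154 (allL N1154 (tt N826 (iv D1154)) (tt N1554 (iv F2544)) (tt N839 F1903) (tt N1608 D1608) (tt N828 F1904) (tt N1605 (iv F2640)))
theorem Q1156 : ∀ i, i < 1156 → P i := stepQ 1155 Q1155 (allL N1155 (tt N1608 (iv F2644)) (tt N827 F1905) (tt N1609 D1609) (tt N826 (iv D1155)) (tt N1610 D1610) (tt N1606 (iv F2642)))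
theorem Q1157 : ∀ i, i < 1157 → P i := stepQ 1156 Q1156 (allL N1156 (tt N1556 (iv F2548)) (tt N1611 D1611) (tt N827 (iv D1156)) (tt N1549 (iv F2534)) (tt N1612 D1612) (tt N1551 (iv F2537)))
theorem Q1158 : ∀ i, i < 1158 → P i := stepQ 1157 Q1157 (allL N1157 (tt N924 F1906) (tt N1610 (iv F2645)) (tt N1612 (iv F2648)) (tt N830 F1907) (tt N827 (iv D1157)) (tt N1613 D1613))
theorem Q1159 : ∀ i, i < 1159 → P i := stepQ 1158 Q1158 (allL N1158 (tt N829 F1908) (tt N927 F1909) (tt N1614 D1614) (tt N828 (iv D1158)) (tt N1615 D1615) (tt N874 F1910))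
theorem Q1160 : ∀ i, i < 1160 → P i := stepQ 1159 Q1159 (allL N1159 (tt N1614 (iv F2654)) (tt N909 F1911) (tt N829 (iv D1159)) (tt N1616 D1616) (tt N1617 D1617) (tt N875 F1912))
theorem Q1161 : ∀ i, i < 1161 → P i := stepQ 1160 Q1160 (allL N1160 (tt N1615 (iv F2657)) (tt N830 F1913) (tt N1617 (iv F2664)) (tt N1610 (iv F2646)) (tt N829 (iv D1160)) (tt N1618 D1618))
theorem Q1162 : ∀ i, i < 1162 → P i := stepQ 1161 Q1161 (allL N1161 (tt N925 F1914) (tt N1618 (iv F2665)) (tt N910 F1915) (tt N1613 (iv F2653)) (tt N879 F1916) (tt N830 (iv D1161)))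
theorem Q1163 : ∀ i, i < 1163 → P i := stepQ 1162 Q1162 (allL N1162 (tt N1619 D1619) (tt N831 (iv D1162)) (tt N1421 (iv F2317)) (tt N1620 D1620) (tt N1361 (iv F2231)) (tt N1621 D1621))
theorem Q1164 : ∀ i, i < 1164 → P i := stepQ 1163 Q1163 (allL N1163 (tt N834 F1917) (tt N1620 (iv F2668)) (tt N1576 (iv F2583)) (tt N831 (iv D1163)) (tt N1622 D1622) (tt N1574 F2581))
theorem Q1165 : ∀ i, i < 1165 → P i := stepQ 1164 Q1164 (allL N1164 (tt N835 F1918) (tt N1621 (iv F2669)) (tt N832 F1919) (tt N1574 (iv F2580)) (tt N1623 D1623) (tt N831 (iv D1164)))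
theorem Q1166 : ∀ i, i < 1166 → P i := stepQ 1165 Q1165 (allL N1165 (tt N836 F1920) (tt N1424 (iv F2323)) (tt N1623 (iv F2672)) (tt N1341 (iv F2195)) (tt N832 (iv D1165)) (tt N1342 (iv F2200)))
theorem Q1167 : ∀ i, i < 1167 → P i := stepQ 1166 Q1166 (allL N1166 (tt N833 (iv D1166)) (tt N1619 (iv F2667)) (tt N837 F1921) (tt N1624 D1624) (tt N1371 (iv F2245)) (tt N1255 (iv F2055)))
theorem Q1168 : ∀ i, i < 1168 → P i := stepQ 1167 Q1167 (allL N1167 (tt N1624 (iv F2673)) (tt N834 F1922) (tt N1625 D1625) (tt N833 (iv D1167)) (tt N1626 D1626) (tt N1257 (iv F2060)))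
theorem Q1169 : ∀ i, i < 1169 → P i := stepQ 1168 Q1168 (allL N1168 (tt N1576 (iv F2582)) (tt N1627 D1627) (tt N834 (iv D1168)) (tt N1561 (iv F2561)) (tt N1628 D1628) (tt N1560 F2558))
theorem Q1170 : ∀ i, i < 1170 → P i := stepQ 1169 Q1169 (allL N1169 (tt N1622 (iv F2670)) (tt N1626 (iv F2674)) (tt N1628 (iv F2675)) (tt N1374 (iv F2247)) (tt N834 (iv D1169)) (tt N1629 D1629))
theorem Q1171 : ∀ i, i < 1171 → P i := stepQ 1170 Q1170 (allL N1170 (tt N1574 (iv F2579)) (tt N1257 (iv F2059)) (tt N1560 (iv F2557)) (tt N835 F1923) (tt N1630 D1630) (tt N834 (iv D1170)))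
theorem Q1172 : ∀ i, i < 1172 → P i := stepQ 1171 Q1171 (allL N1171 (tt N1623 (iv F2671)) (tt N1258 (iv F2061)) (tt N836 F1924) (tt N1631 D1631) (tt N835 (iv D1171)) (tt N1353 (iv F2212)))
theorem Q1173 : ∀ i, i < 1173 → P i := stepQ 1172 Q1172 (allL N1172 (tt N838 (iv D1172)) (tt N1253 (iv F2052)) (tt N1605 (iv F2638)) (tt N1496 (iv F2440)) (tt N895 F1925) (tt N839 F1926))
theorem Q1174 : ∀ i, i < 1174 → P i := stepQ 1173 Q1173 (allL N1173 (tt N840 F1927) (tt N1256 (iv F2057)) (tt N1632 D1632) (tt N839 (iv D1173)) (tt N891 F1928) (tt N1496 (iv F2442)))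
theorem Q1175 : ∀ i, i < 1175 → P i := stepQ 1174 Q1174 (allL N1174 (tt N1632 (iv F2676)) (tt N1430 (iv F2334)) (tt N840 (iv D1174)) (tt N1633 D1633) (tt N893 F1929) (tt N1491 (iv F2435)))
theorem Q1176 : ∀ i, i < 1176 → P i := stepQ 1175 Q1175 (allL N1175 (tt N1634 D1634) (tt N841 (iv D1175)) (tt N843 F1930) (tt N1635 D1635) (tt N855 F1931) (tt N1597 (iv F2630)))
theorem Q1177 : ∀ i, i < 1177 → P i := stepQ 1176 Q1176 (allL N1176 (tt N1441 (iv F2354)) (tt N1635 (iv F2680)) (tt N1449 (iv F2367)) (tt N841 (iv D1176)) (tt N1636 D1636) (tt N1447 F2365))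
theorem Q1178 : ∀ i, i < 1178 → P i := stepQ 1177 Q1177 (allL N1177 (tt N1442 (iv F2355)) (tt N1597 (iv F2629)) (tt N842 F1932) (tt N1447 (iv F2364)) (tt N1637 D1637) (tt N841 (iv D1177)))
theorem Q1179 : ∀ i, i < 1179 → P i := stepQ 1178 Q1178 (allL N1178 (tt N1443 (iv F2357)) (tt N844 F1933) (tt N1637 (iv F2682)) (tt N1040 F1934) (tt N842 (iv D1178)) (tt N858 F1935))
theorem Q1180 : ∀ i, i < 1180 → P i := stepQ 1179 Q1179 (allL N1179 (tt N843 (iv D1179)) (tt N859 F1936) (tt N1634 (iv F2678)) (tt N1596 (iv F2628)) (tt N859 F1937) (tt N1595 F2625))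
theorem Q1181 : ∀ i, i < 1181 → P i := stepQ 1180 Q1180 (allL N1180 (tt N864 F1938) (tt N1040 F1939) (tt N1638 D1638) (tt N844 (iv D1180)) (tt N845 F1940) (tt N864 F1941))
theorem Q1182 : ∀ i, i < 1182 → P i := stepQ 1181 Q1181 (allL N1181 (tt N865 F1942) (tt N1639 D1639) (tt N845 (iv D1181)) (tt N872 F1944) (tt N1638 (iv F2685)) (tt N846 F1943))
theorem Q1183 : ∀ i, i < 1183 → P i := stepQ 1182 Q1182 (allL N1182 (tt N1640 D1640) (tt N846 (iv D1182)) (tt N1037 F1945) (tt N1641 D1641) (tt N866 F1946) (tt N1639 (iv F2689)))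
theorem Q1184 : ∀ i, i < 1184 → P i := stepQ 1183 Q1183 (allL N1183 (tt N867 F1947) (tt N1641 (iv F2693)) (tt N869 F1949) (tt N846 (iv D1183)) (tt N1642 D1642) (tt N872 F1948))
theorem Q1185 : ∀ i, i < 1185 → P i := stepQ 1184 Q1184 (allL N1184 (tt N1643 D1643) (tt N847 (iv D1184)) (tt N1238 (iv F2031)) (tt N1644 D1644) (tt N1552 (iv F2539)) (tt N848 F1950))
theorem Q1186 : ∀ i, i < 1186 → P i := stepQ 1185 Q1185 (allL N1185 (tt N869 F1951) (tt N1644 (iv F2700)) (tt N867 F1952) (tt N847 (iv D1185)) (tt N1645 D1645) (tt N849 F1953))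
theorem Q1187 : ∀ i, i < 1187 → P i := stepQ 1186 Q1186 (allL N1186 (tt N848 (iv D1186)) (tt N870 F1954) (tt N1236 (iv F2027)) (tt N1646 D1646) (tt N850 F1955) (tt N1643 (iv F2699)))
theorem Q1188 : ∀ i, i < 1188 → P i := stepQ 1187 Q1187 (allL N1187 (tt N1646 (iv F2704)) (tt N849 F1956) (tt N1647 D1647) (tt N848 (iv D1187)) (tt N1648 D1648) (tt N1644 (iv F2701)))
theorem Q1189 : ∀ i, i < 1189 → P i := stepQ 1188 Q1188 (allL N1188 (tt N872 F1957) (tt N1649 D1649) (tt N849 (iv D1188)) (tt N865 F1958) (tt N1650 D1650) (tt N867 F1959))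
theorem Q1190 : ∀ i, i < 1190 → P i := stepQ 1189 Q1189 (allL N1189 (tt N873 F1960) (tt N1648 (iv F2706)) (tt N1650 (iv F2711)) (tt N852 F1961) (tt N849 (iv D1189)) (tt N1651 D1651))
theorem Q1191 : ∀ i, i < 1191 → P i := stepQ 1190 Q1190 (allL N1190 (tt N851 F1962) (tt N874 F1963) (tt N1652 D1652) (tt N850 (iv D1190)) (tt N1653 D1653) (tt N927 F1964))
theorem Q1192 : ∀ i, i < 1192 → P i := stepQ 1191 Q1191 (allL N1191 (tt N1652 (iv F2714)) (tt N916 F1965) (tt N851 (iv D1191)) (tt N1654 D1654) (tt N1655 D1655) (tt N915 F1966))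
theorem Q1193 : ∀ i, i < 1193 → P i := stepQ 1192 Q1192 (allL N1192 (tt N1653 (iv F2716)) (tt N852 F1967) (tt N1655 (iv F2721)) (tt N1648 (iv F2707)) (tt N851 (iv D1192)) (tt N1656 D1656))
theorem Q1194 : ∀ i, i < 1194 → P i := stepQ 1193 Q1193 (allL N1193 (tt N879 F1968) (tt N1656 (iv F2722)) (tt N926 F1969) (tt N1651 (iv F2713)) (tt N925 F1970) (tt N852 (iv D1193)))
theorem Q1195 : ∀ i, i < 1195 → P i := stepQ 1194 Q1194 (allL N1194 (tt N1657 D1657) (tt N853 (iv D1194)) (tt N1440 (iv F2352)) (tt N1658 D1658) (tt N1440 (iv F2353)) (tt N1659 D1659))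
theorem Q1196 : ∀ i, i < 1196 → P i := stepQ 1195 Q1195 (allL N1195 (tt N856 F1971) (tt N1658 (iv F2725)) (tt N889 F1972) (tt N853 (iv D1195)) (tt N1660 D1660) (tt N887 (iv F1973)))
theorem Q1197 : ∀ i, i < 1197 → P i := stepQ 1196 Q1196 (allL N1196 (tt N857 F1974) (tt N1659 (iv F2727)) (tt N854 F1975) (tt N887 F1976) (tt N1661 D1661) (tt N853 (iv D1196)))
theorem Q1198 : ∀ i, i < 1198 → P i := stepQ 1197 Q1197 (allL N1197 (tt N858 F1977) (tt N1443 (iv F2358)) (tt N1661 (iv F2732)) (tt N1031 F1978) (tt N854 (iv D1197)) (tt N1443 (iv F2360)))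
theorem Q1199 : ∀ i, i < 1199 → P i := stepQ 1198 Q1198 (allL N1198 (tt N855 (iv D1198)) (tt N1657 (iv F2724)) (tt N859 F1979) (tt N1662 D1662) (tt N1634 (iv F2679)) (tt N1663 D1663))
theorem Q1200 : ∀ i, i < 1200 → P i := stepQ 1199 Q1199 (allL N1199 (tt N1662 (iv F2733)) (tt N856 F1980) (tt N1664 D1664) (tt N855 (iv D1199)) (tt N1665 D1665) (tt N1666 D1666))
theorem Q1201 : ∀ i, i < 1201 → P i := stepQ 1200 Q1200 (allL N1200 (tt N1663 (iv F2734)) (tt N857 F1981) (tt N861 F1982) (tt N1666 (iv F2738)) (tt N1667 D1667) (tt N855 (iv D1200)))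
theorem Q1202 : ∀ i, i < 1202 → P i := stepQ 1201 Q1201 (allL N1201 (tt N889 F1983) (tt N1668 D1668) (tt N856 (iv D1201)) (tt N882 F1984) (tt N1669 D1669) (tt N881 (iv F1985)))
theorem Q1203 : ∀ i, i < 1203 → P i := stepQ 1202 Q1202 (allL N1202 (tt N1660 (iv F2729)) (tt N1665 (iv F2736)) (tt N1669 (iv F2744)) (tt N1636 (iv F2681)) (tt N856 (iv D1202)) (tt N1670 D1670))
theorem Q1204 : ∀ i, i < 1204 → P i := stepQ 1203 Q1203 (allL N1203 (tt N887 F1986) (tt N1666 (iv F2737)) (tt N881 F1987) (tt N857 F1988) (tt N1671 D1671) (tt N856 (iv D1203)))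
theorem Q1205 : ∀ i, i < 1205 → P i := stepQ 1204 Q1204 (allL N1204 (tt N1661 (iv F2731)) (tt N1667 (iv F2739)) (tt N858 F1989) (tt N1672 D1672) (tt N857 (iv D1204)) (tt N1637 (iv F2683)))
theorem Q1206 : ∀ i, i < 1206 → P i := stepQ 1205 Q1205 (allL N1205 (tt N860 F1990) (tt N1596 (iv F2627)) (tt N1673 D1673) (tt N859 (iv D1205)) (tt N1674 D1674) (tt N1547 (iv F2528)))
theorem Q1207 : ∀ i, i < 1207 → P i := stepQ 1206 Q1206 (allL N1206 (tt N861 F1991) (tt N1595 (iv F2624)) (tt N1663 (iv F2735)) (tt N1547 (iv F2527)) (tt N1675 D1675) (tt N859 (iv D1206)))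
theorem Q1208 : ∀ i, i < 1208 → P i := stepQ 1207 Q1207 (allL N1207 (tt N1673 (iv F2747)) (tt N1539 (iv F2510)) (tt N860 (iv D1207)) (tt N1676 D1676) (tt N1677 D1677) (tt N1537 F2509))
theorem Q1209 : ∀ i, i < 1209 → P i := stepQ 1208 Q1208 (allL N1208 (tt N1674 (iv F2748)) (tt N862 F1992) (tt N1677 (iv F2750)) (tt N1599 (iv F2634)) (tt N860 (iv D1208)) (tt N1678 D1678))
theorem Q1210 : ∀ i, i < 1210 → P i := stepQ 1209 Q1209 (allL N1209 (tt N1675 (iv F2749)) (tt N863 F1993) (tt N1667 (iv F2740)) (tt N1679 D1679) (tt N861 (iv D1209)) (tt N1598 (iv F2632)))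
theorem Q1211 : ∀ i, i < 1211 → P i := stepQ 1210 Q1210 (allL N1210 (tt N1590 (iv F2609)) (tt N1678 (iv F2751)) (tt N1546 (iv F2523)) (tt N1590 F2612) (tt N1545 (iv F2521)) (tt N862 (iv D1210)))
theorem Q1212 : ∀ i, i < 1212 → P i := stepQ 1211 Q1211 (allL N1211 (tt N1588 (iv F2604)) (tt N1679 (iv F2752)) (tt N1680 D1680) (tt N863 (iv D1211)) (tt N1544 (iv F2518)) (tt N1588 F2606))
theorem Q1213 : ∀ i, i < 1213 → P i := stepQ 1212 Q1212 (allL N1212 (tt N1638 (iv F2684)) (tt N1681 D1681) (tt N864 (iv D1212)) (tt N1682 D1682) (tt N865 F1994) (tt N1638 (iv F2686)))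
theorem Q1214 : ∀ i, i < 1214 → P i := stepQ 1213 Q1213 (allL N1213 (tt N1683 D1683) (tt N865 (iv D1213)) (tt N1043 F1995) (tt N1649 (iv F2708)) (tt N1681 (iv F2754)) (tt N866 F1996))
theorem Q1215 : ∀ i, i < 1215 → P i := stepQ 1214 Q1214 (allL N1214 (tt N866 (iv D1214)) (tt N1640 (iv F2690)) (tt N1041 F1997) (tt N1684 D1684) (tt N1640 (iv F2692)) (tt N1683 (iv F2756)))
theorem Q1216 : ∀ i, i < 1216 → P i := stepQ 1215 Q1215 (allL N1215 (tt N1684 (iv F2757)) (tt N867 F1998) (tt N1685 D1685) (tt N866 (iv D1215)) (tt N1686 D1686) (tt N1649 (iv F2709)))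
theorem Q1217 : ∀ i, i < 1217 → P i := stepQ 1216 Q1216 (allL N1216 (tt N1642 (iv F2695)) (tt N1686 (iv F2758)) (tt N1645 (iv F2703)) (tt N1642 (iv F2697)) (tt N867 (iv D1216)) (tt N1687 D1687))
theorem Q1218 : ∀ i, i < 1218 → P i := stepQ 1217 Q1217 (allL N1217 (tt N868 (iv D1217)) (tt N1643 (iv F2698)) (tt N895 F1999) (tt N1688 D1688) (tt N1605 (iv F2639)) (tt N870 F2000))
theorem Q1219 : ∀ i, i < 1219 → P i := stepQ 1218 Q1218 (allL N1218 (tt N1688 (iv F2759)) (tt N869 F2001) (tt N1689 D1689) (tt N868 (iv D1218)) (tt N1690 D1690) (tt N871 F2002))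
theorem Q1220 : ∀ i, i < 1220 → P i := stepQ 1219 Q1219 (allL N1219 (tt N1645 (iv F2702)) (tt N1690 (iv F2762)) (tt N1642 (iv F2696)) (tt N1607 (iv F2643)) (tt N869 (iv D1219)) (tt N1691 D1691))
theorem Q1221 : ∀ i, i < 1221 → P i := stepQ 1220 Q1220 (allL N1220 (tt N871 F2003) (tt N1646 (iv F2705)) (tt N1692 D1692) (tt N870 (iv D1220)) (tt N1693 D1693) (tt N1688 (iv F2760)))
theorem Q1222 : ∀ i, i < 1222 → P i := stepQ 1221 Q1221 (allL N1221 (tt N1692 (iv F2764)) (tt N1694 D1694) (tt N871 (iv D1221)) (tt N1695 D1695) (tt N1696 D1696) (tt N1689 (iv F2761)))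
theorem Q1223 : ∀ i, i < 1223 → P i := stepQ 1222 Q1222 (allL N1222 (tt N1693 (iv F2766)) (tt N873 F2004) (tt N1696 (iv F2771)) (tt N876 F2005) (tt N871 (iv D1222)) (tt N1697 D1697))
theorem Q1224 : ∀ i, i < 1224 → P i := stepQ 1223 Q1223 (allL N1223 (tt N1698 D1698) (tt N872 (iv D1223)) (tt N1694 (iv F2768)) (tt N1639 (iv F2688)) (tt N1699 D1699) (tt N1641 (iv F2694)))
theorem Q1225 : ∀ i, i < 1225 → P i := stepQ 1224 Q1224 (allL N1224 (tt N1650 (iv F2710)) (tt N1699 (iv F2774)) (tt N873 F2006) (tt N1700 D1700) (tt N872 (iv D1224)) (tt N1701 D1701))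
theorem Q1226 : ∀ i, i < 1226 → P i := stepQ 1225 Q1225 (allL N1225 (tt N1651 (iv F2712)) (tt N1697 (iv F2772)) (tt N1701 (iv F2775)) (tt N879 F2007) (tt N1691 (iv F2763)) (tt N873 (iv D1225)))
theorem Q1227 : ∀ i, i < 1227 → P i := stepQ 1226 Q1226 (allL N1226 (tt N875 F2008) (tt N1702 D1702) (tt N874 (iv D1226)) (tt N1047 F2009) (tt N1703 D1703) (tt N1614 (iv F2656)))
theorem Q1228 : ∀ i, i < 1228 → P i := stepQ 1227 Q1227 (allL N1227 (tt N876 F2010) (tt N1653 (iv F2717)) (tt N1703 (iv F2778)) (tt N1693 (iv F2767)) (tt N874 (iv D1227)) (tt N1704 D1704))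
theorem Q1229 : ∀ i, i < 1229 → P i := stepQ 1228 Q1228 (allL N1228 (tt N1705 D1705) (tt N875 (iv D1228)) (tt N877 F2011) (tt N1706 D1706) (tt N1707 D1707) (tt N909 F2012))
theorem Q1230 : ∀ i, i < 1230 → P i := stepQ 1229 Q1229 (allL N1229 (tt N1047 F2013) (tt N1706 (iv F2782)) (tt N1046 F2014) (tt N875 (iv D1229)) (tt N1708 D1708) (tt N1616 (iv F2662)))
theorem Q1231 : ∀ i, i < 1231 → P i := stepQ 1230 Q1230 (allL N1230 (tt N1703 (iv F2777)) (tt N1707 (iv F2784)) (tt N876 F2015) (tt N1709 D1709) (tt N875 (iv D1230)) (tt N1710 D1710))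
theorem Q1232 : ∀ i, i < 1232 → P i := stepQ 1231 Q1231 (allL N1231 (tt N1704 (iv F2779)) (tt N879 F2016) (tt N1710 (iv F2788)) (tt N1697 (iv F2773)) (tt N1618 (iv F2666)) (tt N876 (iv D1231)))
theorem Q1233 : ∀ i, i < 1233 → P i := stepQ 1232 Q1232 (allL N1232 (tt N877 (iv D1232)) (tt N911 F2017) (tt N1705 (iv F2780)) (tt N904 F2018) (tt N1711 D1711) (tt N903 F2019))
theorem Q1234 : ∀ i, i < 1234 → P i := stepQ 1233 Q1233 (allL N1233 (tt N1711 (iv F2789)) (tt N878 F2020) (tt N1707 (iv F2785)) (tt N1711 (iv F2791)) (tt N877 (iv D1233)) (tt N1712 D1712))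
theorem Q1235 : ∀ i, i < 1235 → P i := stepQ 1234 Q1234 (allL N1234 (tt N917 F2021) (tt N1711 (iv F2790)) (tt N1713 D1713) (tt N878 (iv D1234)) (tt N911 F2022) (tt N1583 (iv F2598)))
theorem Q1236 : ∀ i, i < 1236 → P i := stepQ 1235 Q1235 (allL N1235 (tt N926 F2023) (tt N1712 (iv F2792)) (tt N879 F2024) (tt N1583 (iv F2597)) (tt N910 F2025) (tt N878 (iv D1235)))
theorem Q1237 : ∀ i, i < 1237 → P i := stepQ 1236 Q1236 (allL N1236 (tt N880 (iv D1236)) (tt N884 F2026) (tt N1186 F2027) (tt N1714 D1714) (tt N1032 F2028) (tt N1715 D1715))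
theorem Q1238 : ∀ i, i < 1238 → P i := stepQ 1237 Q1237 (allL N1237 (tt N1714 (iv F2796)) (tt N881 F2029) (tt N1716 D1716) (tt N880 (iv D1237)) (tt N1717 D1717) (tt N1668 (iv F2742)))
theorem Q1239 : ∀ i, i < 1239 → P i := stepQ 1238 Q1238 (allL N1238 (tt N1715 (iv F2798)) (tt N882 F2030) (tt N1184 F2031) (tt N1668 (iv F2741)) (tt N1718 D1718) (tt N880 (iv D1238)))
theorem Q1240 : ∀ i, i < 1240 → P i := stepQ 1239 Q1239 (allL N1239 (tt N888 F2032) (tt N1717 (iv F2801)) (tt N1671 (iv F2746)) (tt N1034 F2033) (tt N881 (iv D1239)) (tt N1719 D1719))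
theorem Q1241 : ∀ i, i < 1241 → P i := stepQ 1240 Q1240 (allL N1240 (tt N890 F2034) (tt N1718 (iv F2803)) (tt N883 F2035) (tt N1720 D1720) (tt N882 (iv D1240)) (tt N998 F2036))
theorem Q1242 : ∀ i, i < 1242 → P i := stepQ 1241 Q1241 (allL N1241 (tt N885 F2037) (tt N1714 (iv F2797)) (tt N1721 D1721) (tt N884 (iv D1241)) (tt N1722 D1722) (tt N1723 D1723))
theorem Q1243 : ∀ i, i < 1243 → P i := stepQ 1242 Q1242 (allL N1242 (tt N886 F2038) (tt N1715 (iv F2799)) (tt N892 F2039) (tt N1723 (iv F2815)) (tt N1724 D1724) (tt N884 (iv D1242)))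
theorem Q1244 : ∀ i, i < 1244 → P i := stepQ 1243 Q1243 (allL N1243 (tt N1721 (iv F2811)) (tt N1725 D1725) (tt N885 (iv D1243)) (tt N1726 D1726) (tt N1727 D1727) (tt N1728 D1728))
theorem Q1245 : ∀ i, i < 1245 → P i := stepQ 1244 Q1244 (allL N1244 (tt N1722 (iv F2812)) (tt N888 F2040) (tt N1727 (iv F2820)) (tt N1048 F2041) (tt N885 (iv D1244)) (tt N1729 D1729))
theorem Q1246 : ∀ i, i < 1246 → P i := stepQ 1245 Q1245 (allL N1245 (tt N1723 (iv F2814)) (tt N889 F2042) (tt N1728 (iv F2821)) (tt N886 F2043) (tt N1730 D1730) (tt N885 (iv D1245)))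
theorem Q1247 : ∀ i, i < 1247 → P i := stepQ 1246 Q1246 (allL N1246 (tt N1724 (iv F2816)) (tt N890 F2044) (tt N894 F2045) (tt N1731 D1731) (tt N886 (iv D1246)) (tt N902 F2046))
theorem Q1248 : ∀ i, i < 1248 → P i := stepQ 1247 Q1247 (allL N1247 (tt N1732 D1732) (tt N887 (iv D1247)) (tt N1725 (iv F2819)) (tt N1659 (iv F2728)) (tt N1733 D1733) (tt N1658 F2726))
theorem Q1249 : ∀ i, i < 1249 → P i := stepQ 1248 Q1248 (allL N1248 (tt N1671 (iv F2745)) (tt N1733 (iv F2827)) (tt N888 F2047) (tt N1734 D1734) (tt N887 (iv D1248)) (tt N1735 D1735))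
theorem Q1250 : ∀ i, i < 1250 → P i := stepQ 1249 Q1249 (allL N1249 (tt N1719 (iv F2806)) (tt N1729 (iv F2822)) (tt N1735 (iv F2828)) (tt N1051 F2048) (tt N1736 D1736) (tt N888 (iv D1249)))
theorem Q1251 : ∀ i, i < 1251 → P i := stepQ 1250 Q1250 (allL N1250 (tt N1669 (iv F2743)) (tt N1730 (iv F2824)) (tt N1660 (iv F2730)) (tt N1737 D1737) (tt N889 (iv D1250)) (tt N1736 (iv F2829)))
theorem Q1252 : ∀ i, i < 1252 → P i := stepQ 1251 Q1251 (allL N1251 (tt N1720 (iv F2808)) (tt N1731 (iv F2825)) (tt N1738 D1738) (tt N890 (iv D1251)) (tt N1737 (iv F2830)) (tt N1019 F2049))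
theorem Q1253 : ∀ i, i < 1253 → P i := stepQ 1252 Q1252 (allL N1252 (tt N893 F2050) (tt N1739 D1739) (tt N891 (iv D1252)) (tt N1740 D1740) (tt N1632 (iv F2677)) (tt N1425 (iv F2328)))
theorem Q1254 : ∀ i, i < 1254 → P i := stepQ 1253 Q1253 (allL N1253 (tt N894 F2051) (tt N1172 F2052) (tt N1724 (iv F2817)) (tt N1528 (iv F2487)) (tt N892 (iv D1253)) (tt N900 F2053))
theorem Q1255 : ∀ i, i < 1255 → P i := stepQ 1254 Q1254 (allL N1254 (tt N1740 (iv F2834)) (tt N1429 (iv F2332)) (tt N1741 D1741) (tt N893 (iv D1254)) (tt N1742 D1742) (tt N1426 (iv F2330)))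
theorem Q1256 : ∀ i, i < 1256 → P i := stepQ 1255 Q1255 (allL N1255 (tt N897 F2054) (tt N1743 D1743) (tt N896 (iv D1255)) (tt N1744 D1744) (tt N1745 D1745) (tt N1166 F2055))
theorem Q1257 : ∀ i, i < 1257 → P i := stepQ 1256 Q1256 (allL N1256 (tt N898 F2056) (tt N1173 F2057) (tt N1745 (iv F2841)) (tt N900 F2058) (tt N896 (iv D1256)) (tt N1528 (iv F2488)))
theorem Q1258 : ∀ i, i < 1258 → P i := stepQ 1257 Q1257 (allL N1257 (tt N1744 (iv F2838)) (tt N1170 F2059) (tt N1746 D1746) (tt N897 (iv D1257)) (tt N1747 D1747) (tt N1167 F2060))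
theorem Q1259 : ∀ i, i < 1259 → P i := stepQ 1258 Q1258 (allL N1258 (tt N1745 (iv F2840)) (tt N1171 F2061) (tt N898 F2062) (tt N1748 D1748) (tt N897 (iv D1258)) (tt N1530 (iv F2493)))
theorem Q1260 : ∀ i, i < 1260 → P i := stepQ 1259 Q1259 (allL N1259 (tt N999 F2063) (tt N899 (iv D1259)) (tt N1119 F2064) (tt N1462 (iv F2381)) (tt N1749 D1749) (tt N1032 F2065))
theorem Q1261 : ∀ i, i < 1261 → P i := stepQ 1260 Q1260 (allL N1260 (tt N901 F2066) (tt N1462 (iv F2380)) (tt N1616 (iv F2661)) (tt N899 (iv D1260)) (tt N1750 D1750) (tt N1046 F2067))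
theorem Q1262 : ∀ i, i < 1262 → P i := stepQ 1261 Q1261 (allL N1261 (tt N902 F2068) (tt N1749 (iv F2846)) (tt N900 F2069) (tt N1751 D1751) (tt N899 (iv D1261)) (tt N1724 (iv F2818)))
theorem Q1263 : ∀ i, i < 1263 → P i := stepQ 1262 Q1262 (allL N1262 (tt N1616 (iv F2659)) (tt N1437 (iv F2348)) (tt N901 (iv D1262)) (tt N1614 (iv F2655)) (tt N1752 D1752) (tt N1047 F2070))
theorem Q1264 : ∀ i, i < 1264 → P i := stepQ 1263 Q1263 (allL N1263 (tt N1750 (iv F2848)) (tt N1020 F2071) (tt N1752 (iv F2850)) (tt N1753 D1753) (tt N901 (iv D1263)) (tt N1754 D1754))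
theorem Q1265 : ∀ i, i < 1265 → P i := stepQ 1264 Q1264 (allL N1264 (tt N1751 (iv F2849)) (tt N1019 F2072) (tt N1755 D1755) (tt N902 (iv D1264)) (tt N1753 (iv F2852)) (tt N1731 (iv F2826)))
theorem Q1266 : ∀ i, i < 1266 → P i := stepQ 1265 Q1265 (allL N1265 (tt N909 F2073) (tt N1756 D1756) (tt N903 (iv D1265)) (tt N1757 D1757) (tt N1578 (iv F2587)) (tt N1705 (iv F2781)))
theorem Q1267 : ∀ i, i < 1267 → P i := stepQ 1266 Q1266 (allL N1266 (tt N1312 (iv F2139)) (tt N1315 (iv F2147)) (tt N1266 F2074) (tt N1758 D1758) (tt N905 (iv D1266)) (tt N1759 D1759))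
theorem Q1268 : ∀ i, i < 1268 → P i := stepQ 1267 Q1267 (allL N1267 (tt N1563 (iv F2563)) (tt N1363 (iv F2233)) (tt N1760 D1760) (tt N906 (iv D1267)) (tt N1758 (iv F2858)) (tt N1761 D1761))
theorem Q1269 : ∀ i, i < 1269 → P i := stepQ 1268 Q1268 (allL N1268 (tt N1564 (iv F2565)) (tt N1364 (iv F2234)) (tt N908 F2075) (tt N1761 (iv F2860)) (tt N1564 (iv F2568)) (tt N906 (iv D1268)))
theorem Q1270 : ∀ i, i < 1270 → P i := stepQ 1269 Q1269 (allL N1269 (tt N1578 (iv F2586)) (tt N1617 (iv F2663)) (tt N907 (iv D1269)) (tt N1762 D1762) (tt N909 F2076) (tt N1763 D1763))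
theorem Q1271 : ∀ i, i < 1271 → P i := stepQ 1270 Q1270 (allL N1270 (tt N1579 (iv F2588)) (tt N910 F2077) (tt N1763 (iv F2861)) (tt N908 F2078) (tt N1712 (iv F2793)) (tt N907 (iv D1270)))
theorem Q1272 : ∀ i, i < 1272 → P i := stepQ 1271 Q1271 (allL N1271 (tt N1757 (iv F2856)) (tt N1616 (iv F2660)) (tt N1764 D1764) (tt N909 (iv D1271)) (tt N1765 D1765) (tt N1706 (iv F2783)))
theorem Q1273 : ∀ i, i < 1273 → P i := stepQ 1272 Q1272 (allL N1272 (tt N916 F2079) (tt N1654 (iv F2718)) (tt N911 (iv D1272)) (tt N916 F2080) (tt N1713 (iv F2795)) (tt N912 F2081))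
theorem Q1274 : ∀ i, i < 1274 → P i := stepQ 1273 Q1273 (allL N1273 (tt N1766 D1766) (tt N912 (iv D1273)) (tt N1756 (iv F2855)) (tt N915 F2082) (tt N1580 (iv F2591)) (tt N1654 (iv F2719)))
theorem Q1275 : ∀ i, i < 1275 → P i := stepQ 1274 Q1274 (allL N1274 (tt N1767 D1767) (tt N913 (iv D1274)) (tt N923 F2083) (tt N1768 D1768) (tt N915 F2084) (tt N1769 D1769))
theorem Q1276 : ∀ i, i < 1276 → P i := stepQ 1275 Q1275 (allL N1275 (tt N1581 (iv F2592)) (tt N1768 (iv F2869)) (tt N1589 (iv F2607)) (tt N913 (iv D1275)) (tt N1581 (iv F2593)) (tt N1587 F2603))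
theorem Q1277 : ∀ i, i < 1277 → P i := stepQ 1276 Q1276 (allL N1276 (tt N1582 (iv F2594)) (tt N1769 (iv F2870)) (tt N914 F2085) (tt N1587 (iv F2602)) (tt N1770 D1770) (tt N913 (iv D1276)))
theorem Q1278 : ∀ i, i < 1278 → P i := stepQ 1277 Q1277 (allL N1277 (tt N1583 (iv F2596)) (tt N926 F2086) (tt N1770 (iv F2872)) (tt N926 F2087) (tt N914 (iv D1277)) (tt N917 F2088))
theorem Q1279 : ∀ i, i < 1279 → P i := stepQ 1278 Q1278 (allL N1278 (tt N915 (iv D1278)) (tt N1766 (iv F2865)) (tt N927 F2089) (tt N1766 (iv F2866)) (tt N1767 (iv F2868)) (tt N1652 (iv F2715)))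
theorem Q1280 : ∀ i, i < 1280 → P i := stepQ 1279 Q1279 (allL N1279 (tt N1713 (iv F2794)) (tt N1655 (iv F2720)) (tt N917 F2090) (tt N1771 D1771) (tt N916 (iv D1279)) (tt N1770 (iv F2873)))
theorem Q1281 : ∀ i, i < 1281 → P i := stepQ 1280 Q1280 (allL N1280 (tt N919 F2091) (tt N1357 (iv F2222)) (tt N1772 D1772) (tt N918 (iv D1280)) (tt N1355 (iv F2216)) (tt N1773 D1773))
theorem Q1282 : ∀ i, i < 1282 → P i := stepQ 1281 Q1281 (allL N1281 (tt N920 F2092) (tt N1358 (iv F2225)) (tt N1532 (iv F2499)) (tt N1773 (iv F2876)) (tt N1532 (iv F2500)) (tt N918 (iv D1281)))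
theorem Q1283 : ∀ i, i < 1283 → P i := stepQ 1282 Q1282 (allL N1282 (tt N1772 (iv F2874)) (tt N1774 D1774) (tt N919 (iv D1282)) (tt N1775 D1775) (tt N1542 (iv F2515)) (tt N1776 D1776))
theorem Q1284 : ∀ i, i < 1284 → P i := stepQ 1283 Q1283 (allL N1283 (tt N1773 (iv F2875)) (tt N922 F2093) (tt N1776 (iv F2878)) (tt N920 F2094) (tt N1777 D1777) (tt N919 (iv D1283)))
theorem Q1285 : ∀ i, i < 1285 → P i := stepQ 1284 Q1284 (allL N1284 (tt N1778 D1778) (tt N921 (iv D1284)) (tt N1774 (iv F2877)) (tt N1779 D1779) (tt N1550 (iv F2535)) (tt N1780 D1780))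
theorem Q1286 : ∀ i, i < 1286 → P i := stepQ 1285 Q1285 (allL N1285 (tt N1594 (iv F2620)) (tt N1779 (iv F2880)) (tt N1613 (iv F2652)) (tt N921 (iv D1285)) (tt N1781 D1781) (tt N1612 (iv F2650)))
theorem Q1287 : ∀ i, i < 1287 → P i := stepQ 1286 Q1286 (allL N1286 (tt N1592 (iv F2616)) (tt N1780 (iv F2881)) (tt N922 F2095) (tt N1612 F2649) (tt N1782 D1782) (tt N921 (iv D1286)))
theorem Q1288 : ∀ i, i < 1288 → P i := stepQ 1287 Q1287 (allL N1287 (tt N1591 (iv F2613)) (tt N1777 (iv F2879)) (tt N1782 (iv F2882)) (tt N1546 (iv F2524)) (tt N922 (iv D1287)) (tt N1548 (iv F2531)))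
theorem Q1289 : ∀ i, i < 1289 → P i := stepQ 1288 Q1288 (allL N1288 (tt N923 (iv D1288)) (tt N1615 (iv F2658)) (tt N1767 (iv F2867)) (tt N1783 D1783) (tt N927 F2096) (tt N1784 D1784))
theorem Q1290 : ∀ i, i < 1290 → P i := stepQ 1289 Q1289 (allL N1289 (tt N1783 (iv F2883)) (tt N924 F2097) (tt N1785 D1785) (tt N923 (iv D1289)) (tt N1555 (iv F2547)) (tt N1786 D1786))
theorem Q1291 : ∀ i, i < 1291 → P i := stepQ 1290 Q1290 (allL N1290 (tt N1784 (iv F2884)) (tt N925 F2098) (tt N1769 (iv F2871)) (tt N1786 (iv F2886)) (tt N1656 (iv F2723)) (tt N923 (iv D1290)))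
theorem Q1292 : ∀ i, i < 1292 → P i := stepQ 1291 Q1291 (allL N1291 (tt N1612 (iv F2647)) (tt N1787 D1787) (tt N924 (iv D1291)) (tt N1592 (iv F2618)) (tt N1556 (iv F2550)) (tt N1594 (iv F2621)))
theorem Q1293 : ∀ i, i < 1293 → P i := stepQ 1292 Q1292 (allL N1292 (tt N1613 (iv F2651)) (tt N1786 (iv F2885)) (tt N1594 (iv F2622)) (tt N925 F2099) (tt N1788 D1788) (tt N924 (iv D1292)))
theorem Q1294 : ∀ i, i < 1294 → P i := stepQ 1293 Q1293 (allL N1293 (tt N1789 D1789) (tt N928 (iv D1293)) (tt N1293 F2100) (tt N1790 D1790) (tt N1791 D1791) (tt N1789 F2890))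
theorem Q1295 : ∀ i, i < 1295 → P i := stepQ 1294 Q1294 (allL N1294 (tt N933 F2101) (tt N1790 (iv F2892)) (tt N965 F2102) (tt N928 (iv D1294)) (tt N1792 D1792) (tt N967 (iv F2103)))
theorem Q1296 : ∀ i, i < 1296 → P i := stepQ 1295 Q1295 (allL N1295 (tt N934 F2104) (tt N1791 (iv F2895)) (tt N929 F2105) (tt N1793 D1793) (tt N928 (iv D1295)) (tt N1794 D1794))
theorem Q1297 : ∀ i, i < 1297 → P i := stepQ 1296 Q1296 (allL N1296 (tt N932 F2106) (tt N1789 (iv F2887)) (tt N930 F2107) (tt N967 F2108) (tt N1795 D1795) (tt N928 (iv D1296)))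
theorem Q1298 : ∀ i, i < 1298 → P i := stepQ 1297 Q1297 (allL N1297 (tt N935 F2109) (tt N1297 F2110) (tt N1794 (iv F2901)) (tt N944 F2111) (tt N1796 D1796) (tt N929 (iv D1297)))
theorem Q1299 : ∀ i, i < 1299 → P i := stepQ 1298 Q1298 (allL N1298 (tt N936 F2112) (tt N1298 F2113) (tt N1795 (iv F2903)) (tt N1797 D1797) (tt N930 (iv D1298)) (tt N1796 (iv F2906)))
theorem Q1300 : ∀ i, i < 1300 → P i := stepQ 1299 Q1299 (allL N1299 (tt N937 F2114) (tt N1299 F2115) (tt N1798 D1798) (tt N931 (iv D1299)) (tt N1797 (iv F2909)) (tt N946 F2116))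
theorem Q1301 : ∀ i, i < 1301 → P i := stepQ 1300 Q1300 (allL N1300 (tt N967 F2117) (tt N933 F2118) (tt N959 F2119) (tt N932 (iv D1300)) (tt N1799 D1799) (tt N933 F2120))
theorem Q1302 : ∀ i, i < 1302 → P i := stepQ 1301 Q1301 (allL N1301 (tt N1795 (iv F2902)) (tt N934 F2121) (tt N936 F2122) (tt N1800 D1800) (tt N932 (iv D1301)) (tt N1801 D1801))
theorem Q1303 : ∀ i, i < 1303 → P i := stepQ 1302 Q1302 (allL N1302 (tt N965 F2123) (tt N1802 D1802) (tt N933 (iv D1302)) (tt N961 F2124) (tt N1803 D1803) (tt N959 F2125))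
theorem Q1304 : ∀ i, i < 1304 → P i := stepQ 1303 Q1303 (allL N1303 (tt N1792 (iv F2897)) (tt N1799 (iv F2914)) (tt N1803 (iv F2925)) (tt N1804 D1804) (tt N933 (iv D1303)) (tt N1805 D1805))
theorem Q1305 : ∀ i, i < 1305 → P i := stepQ 1304 Q1304 (allL N1304 (tt N1793 (iv F2899)) (tt N1800 (iv F2916)) (tt N1806 D1806) (tt N934 (iv D1304)) (tt N1804 (iv F2926)) (tt N1807 D1807))
theorem Q1306 : ∀ i, i < 1306 → P i := stepQ 1305 Q1305 (allL N1305 (tt N1794 (iv F2900)) (tt N1801 (iv F2917)) (tt N935 F2126) (tt N1807 (iv F2927)) (tt N1801 (iv F2919)) (tt N934 (iv D1305)))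
theorem Q1307 : ∀ i, i < 1307 → P i := stepQ 1306 Q1306 (allL N1306 (tt N1796 (iv F2904)) (tt N939 F2127) (tt N1801 (iv F2918)) (tt N1808 D1808) (tt N935 (iv D1306)) (tt N936 F2128))
theorem Q1308 : ∀ i, i < 1308 → P i := stepQ 1307 Q1307 (allL N1307 (tt N1797 (iv F2907)) (tt N938 F2129) (tt N1809 D1809) (tt N936 (iv D1307)) (tt N937 F2130) (tt N1808 (iv F2930)))
theorem Q1309 : ∀ i, i < 1309 → P i := stepQ 1308 Q1308 (allL N1308 (tt N1798 (iv F2910)) (tt N1810 D1810) (tt N937 (iv D1308)) (tt N1811 D1811) (tt N1809 (iv F2931)) (tt N954 F2131))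
theorem Q1310 : ∀ i, i < 1310 → P i := stepQ 1309 Q1309 (allL N1309 (tt N1309 F2132) (tt N1812 D1812) (tt N938 (iv D1309)) (tt N1332 (iv F2178)) (tt N940 F2133) (tt N1331 (iv F2175)))
theorem Q1311 : ∀ i, i < 1311 → P i := stepQ 1310 Q1310 (allL N1310 (tt N1310 F2134) (tt N1808 (iv F2928)) (tt N1331 (iv F2174)) (tt N939 F2135) (tt N956 F2136) (tt N938 (iv D1310)))
theorem Q1312 : ∀ i, i < 1312 → P i := stepQ 1311 Q1311 (allL N1311 (tt N1813 D1813) (tt N940 (iv D1311)) (tt N1810 (iv F2932)) (tt N957 F2137) (tt N1812 (iv F2937)) (tt N957 F2138))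
theorem Q1313 : ∀ i, i < 1313 → P i := stepQ 1312 Q1312 (allL N1312 (tt N1266 F2139) (tt N942 F2140) (tt N1312 F2141) (tt N1814 D1814) (tt N941 (iv D1312)) (tt N1815 D1815))
theorem Q1314 : ∀ i, i < 1314 → P i := stepQ 1313 Q1313 (allL N1313 (tt N950 F2142) (tt N1814 (iv F2942)) (tt N1816 D1816) (tt N942 (iv D1313)) (tt N1125 F2143) (tt N1817 D1817))
theorem Q1315 : ∀ i, i < 1315 → P i := stepQ 1314 Q1314 (allL N1314 (tt N951 F2144) (tt N1815 (iv F2945)) (tt N944 F2145) (tt N1817 (iv F2951)) (tt N1818 D1818) (tt N942 (iv D1314)))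
theorem Q1316 : ∀ i, i < 1316 → P i := stepQ 1315 Q1315 (allL N1315 (tt N948 F2146) (tt N1266 F2147) (tt N945 F2148) (tt N1819 D1819) (tt N943 (iv D1315)) (tt N1818 (iv F2955)))
theorem Q1317 : ∀ i, i < 1317 → P i := stepQ 1316 Q1316 (allL N1316 (tt N952 F2149) (tt N1316 F2150) (tt N1818 (iv F2954)) (tt N1820 D1820) (tt N944 (iv D1316)) (tt N945 F2151))
theorem Q1318 : ∀ i, i < 1318 → P i := stepQ 1317 Q1317 (allL N1317 (tt N953 F2152) (tt N1317 F2153) (tt N1821 D1821) (tt N945 (iv D1317)) (tt N946 F2154) (tt N1820 (iv F2961)))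
theorem Q1319 : ∀ i, i < 1319 → P i := stepQ 1318 Q1318 (allL N1318 (tt N954 F2155) (tt N1822 D1822) (tt N946 (iv D1318)) (tt N1823 D1823) (tt N1821 (iv F2963)) (tt N1798 (iv F2911)))
theorem Q1320 : ∀ i, i < 1320 → P i := stepQ 1319 Q1319 (allL N1319 (tt N979 F2156) (tt N949 F2157) (tt N975 F2158) (tt N1824 D1824) (tt N947 (iv D1319)) (tt N1825 D1825))
theorem Q1321 : ∀ i, i < 1321 → P i := stepQ 1320 Q1320 (allL N1320 (tt N1819 (iv F2956)) (tt N950 F2159) (tt N1826 D1826) (tt N948 (iv D1320)) (tt N1824 (iv F2970)) (tt N1827 D1827))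
theorem Q1322 : ∀ i, i < 1322 → P i := stepQ 1321 Q1321 (allL N1321 (tt N1818 (iv F2952)) (tt N951 F2160) (tt N952 F2161) (tt N1827 (iv F2976)) (tt N951 F2162) (tt N948 (iv D1321)))
theorem Q1323 : ∀ i, i < 1323 → P i := stepQ 1322 Q1322 (allL N1322 (tt N1125 F2163) (tt N1824 (iv F2969)) (tt N1828 D1828) (tt N949 (iv D1322)) (tt N950 F2164) (tt N1829 D1829))
theorem Q1324 : ∀ i, i < 1324 → P i := stepQ 1323 Q1323 (allL N1323 (tt N1126 F2165) (tt N1825 (iv F2972)) (tt N1121 F2166) (tt N1829 (iv F2980)) (tt N1825 (iv F2974)) (tt N949 (iv D1323)))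
theorem Q1325 : ∀ i, i < 1325 → P i := stepQ 1324 Q1324 (allL N1324 (tt N1816 (iv F2948)) (tt N1830 D1830) (tt N950 (iv D1324)) (tt N1831 D1831) (tt N1828 (iv F2978)) (tt N1832 D1832))
theorem Q1326 : ∀ i, i < 1326 → P i := stepQ 1325 Q1325 (allL N1325 (tt N1817 (iv F2950)) (tt N1827 (iv F2975)) (tt N1832 (iv F2981)) (tt N951 F2167) (tt N1833 D1833) (tt N950 (iv D1325)))
theorem Q1327 : ∀ i, i < 1327 → P i := stepQ 1326 Q1326 (allL N1326 (tt N1820 (iv F2959)) (tt N956 F2168) (tt N1834 D1834) (tt N952 (iv D1326)) (tt N1808 (iv F2929)) (tt N953 F2169))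
theorem Q1328 : ∀ i, i < 1328 → P i := stepQ 1327 Q1327 (allL N1327 (tt N1821 (iv F2962)) (tt N1835 D1835) (tt N953 (iv D1327)) (tt N1836 D1836) (tt N954 F2170) (tt N1834 (iv F2982)))
theorem Q1329 : ∀ i, i < 1329 → P i := stepQ 1328 Q1328 (allL N1328 (tt N1837 D1837) (tt N954 (iv D1328)) (tt N957 F2171) (tt N1838 D1838) (tt N1835 (iv F2984)) (tt N1810 (iv F2933)))
theorem Q1330 : ∀ i, i < 1330 → P i := stepQ 1329 Q1329 (allL N1329 (tt N1823 (iv F2965)) (tt N1838 (iv F2986)) (tt N1839 D1839) (tt N954 (iv D1329)) (tt N1840 D1840) (tt N1811 (iv F2935)))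
theorem Q1331 : ∀ i, i < 1331 → P i := stepQ 1330 Q1330 (allL N1330 (tt N1841 D1841) (tt N955 (iv D1330)) (tt N1835 (iv F2983)) (tt N1842 D1842) (tt N957 F2172) (tt N1843 D1843))
theorem Q1332 : ∀ i, i < 1332 → P i := stepQ 1331 Q1331 (allL N1331 (tt N1331 F2173) (tt N1842 (iv F2992)) (tt N1310 F2174) (tt N955 (iv D1331)) (tt N1332 (iv F2179)) (tt N1309 F2175))
theorem Q1333 : ∀ i, i < 1333 → P i := stepQ 1332 Q1332 (allL N1332 (tt N1332 F2176) (tt N1843 (iv F2994)) (tt N956 F2177) (tt N1309 F2178) (tt N1331 F2179) (tt N955 (iv D1332)))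
theorem Q1334 : ∀ i, i < 1334 → P i := stepQ 1333 Q1333 (allL N1333 (tt N957 (iv D1333)) (tt N1333 F2180) (tt N1837 (iv F2985)) (tt N1813 (iv F2939)) (tt N1841 (iv F2991)) (tt N1813 (iv F2940)))
theorem Q1335 : ∀ i, i < 1335 → P i := stepQ 1334 Q1334 (allL N1334 (tt N958 (iv D1334)) (tt N961 F2181) (tt N1052 F2182) (tt N1802 (iv F2922)) (tt N1844 D1844) (tt N958 (iv F2183)))
theorem Q1336 : ∀ i, i < 1336 → P i := stepQ 1335 Q1335 (allL N1335 (tt N1802 (iv F2920)) (tt N959 F2184) (tt N1802 (iv F2921)) (tt N958 (iv D1335)) (tt N1845 D1845) (tt N1802 (iv F2923)))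
theorem Q1337 : ∀ i, i < 1337 → P i := stepQ 1336 Q1336 (allL N1336 (tt N1844 (iv F2997)) (tt N960 F2185) (tt N1054 F2186) (tt N1846 D1846) (tt N958 (iv D1336)) (tt N1847 D1847))
theorem Q1338 : ∀ i, i < 1338 → P i := stepQ 1337 Q1337 (allL N1337 (tt N968 F2187) (tt N1845 (iv F3000)) (tt N1799 (iv F2915)) (tt N1848 D1848) (tt N959 (iv D1337)) (tt N1849 D1849))
theorem Q1339 : ∀ i, i < 1339 → P i := stepQ 1338 Q1338 (allL N1338 (tt N969 F2188) (tt N1846 (iv F3001)) (tt N1850 D1850) (tt N960 (iv D1338)) (tt N1848 (iv F3005)) (tt N1851 D1851))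
theorem Q1340 : ∀ i, i < 1340 → P i := stepQ 1339 Q1339 (allL N1339 (tt N970 F2189) (tt N1847 (iv F3002)) (tt N962 F2190) (tt N1851 (iv F3012)) (tt N1852 D1852) (tt N960 (iv D1339)))
theorem Q1341 : ∀ i, i < 1341 → P i := stepQ 1340 Q1340 (allL N1340 (tt N966 F2191) (tt N1844 (iv F2998)) (tt N963 F2192) (tt N1853 D1853) (tt N961 (iv D1340)) (tt N1852 (iv F3015)))
theorem Q1342 : ∀ i, i < 1342 → P i := stepQ 1341 Q1341 (allL N1341 (tt N971 F2193) (tt N1059 F2194) (tt N1852 (iv F3014)) (tt N1165 F2195) (tt N962 (iv D1341)) (tt N963 F2196))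
theorem Q1343 : ∀ i, i < 1343 → P i := stepQ 1342 Q1342 (allL N1342 (tt N972 F2197) (tt N1060 F2198) (tt N1854 D1854) (tt N963 (iv D1342)) (tt N964 F2199) (tt N1165 F2200))
theorem Q1344 : ∀ i, i < 1344 → P i := stepQ 1343 Q1343 (allL N1343 (tt N973 F2201) (tt N1855 D1855) (tt N964 (iv D1343)) (tt N1839 (iv F2988)) (tt N1854 (iv F3018)) (tt N978 F2202))
theorem Q1345 : ∀ i, i < 1345 → P i := stepQ 1344 Q1344 (allL N1344 (tt N1803 (iv F2924)) (tt N968 F2203) (tt N1792 (iv F2898)) (tt N1856 D1856) (tt N965 (iv D1344)) (tt N1857 D1857))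
theorem Q1346 : ∀ i, i < 1346 → P i := stepQ 1345 Q1345 (allL N1345 (tt N1853 (iv F3016)) (tt N969 F2204) (tt N1858 D1858) (tt N966 (iv D1345)) (tt N1856 (iv F3023)) (tt N1859 D1859))
theorem Q1347 : ∀ i, i < 1347 → P i := stepQ 1346 Q1346 (allL N1346 (tt N1852 (iv F3013)) (tt N970 F2205) (tt N971 F2206) (tt N1859 (iv F3027)) (tt N970 F2207) (tt N966 (iv D1346)))
theorem Q1348 : ∀ i, i < 1348 → P i := stepQ 1347 Q1347 (allL N1347 (tt N1790 (iv F2891)) (tt N967 (iv D1347)) (tt N1790 F2894) (tt N1789 F2889) (tt N1860 D1860) (tt N1790 (iv F2893)))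
theorem Q1349 : ∀ i, i < 1349 → P i := stepQ 1348 Q1348 (allL N1348 (tt N1799 (iv F2913)) (tt N1860 (iv F3028)) (tt N968 F2208) (tt N1861 D1861) (tt N967 (iv D1348)) (tt N1862 D1862))
theorem Q1350 : ∀ i, i < 1350 → P i := stepQ 1349 Q1349 (allL N1349 (tt N1848 (iv F3004)) (tt N1856 (iv F3022)) (tt N1863 D1863) (tt N968 (iv D1349)) (tt N969 F2209) (tt N1864 D1864))
theorem Q1351 : ∀ i, i < 1351 → P i := stepQ 1350 Q1350 (allL N1350 (tt N1849 (iv F3006)) (tt N1857 (iv F3024)) (tt N1862 (iv F3029)) (tt N1864 (iv F3031)) (tt N1857 (iv F3025)) (tt N968 (iv D1350)))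
theorem Q1352 : ∀ i, i < 1352 → P i := stepQ 1351 Q1351 (allL N1351 (tt N1850 (iv F3007)) (tt N1865 D1865) (tt N969 (iv D1351)) (tt N1866 D1866) (tt N1863 (iv F3030)) (tt N1867 D1867))
theorem Q1353 : ∀ i, i < 1353 → P i := stepQ 1352 Q1352 (allL N1352 (tt N1851 (iv F3010)) (tt N1859 (iv F3026)) (tt N1867 (iv F3036)) (tt N970 F2210) (tt N1868 D1868) (tt N969 (iv D1352)))
theorem Q1354 : ∀ i, i < 1354 → P i := stepQ 1353 Q1353 (allL N1353 (tt N1854 (iv F3017)) (tt N1530 (iv F2491)) (tt N972 (iv D1353)) (tt N1869 D1869) (tt N973 F2211) (tt N1171 F2212))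
theorem Q1355 : ∀ i, i < 1355 → P i := stepQ 1354 Q1354 (allL N1354 (tt N1839 (iv F2987)) (tt N1529 (iv F2489)) (tt N1823 (iv F2966)) (tt N973 (iv D1354)) (tt N1870 D1870) (tt N985 F2213))
theorem Q1356 : ∀ i, i < 1356 → P i := stepQ 1355 Q1355 (allL N1355 (tt N1109 F2214) (tt N976 F2215) (tt N1871 D1871) (tt N974 (iv D1355)) (tt N1280 F2216) (tt N1872 D1872))
theorem Q1357 : ∀ i, i < 1357 → P i := stepQ 1356 Q1356 (allL N1356 (tt N1108 F2217) (tt N977 F2218) (tt N1078 F2219) (tt N1872 (iv F3043)) (tt N1103 F2220) (tt N974 (iv D1356)))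
theorem Q1358 : ∀ i, i < 1358 → P i := stepQ 1357 Q1357 (allL N1357 (tt N980 F2221) (tt N1280 F2222) (tt N1873 D1873) (tt N975 (iv D1357)) (tt N976 F2223) (tt N1874 D1874))
theorem Q1359 : ∀ i, i < 1359 → P i := stepQ 1358 Q1358 (allL N1358 (tt N981 F2224) (tt N1281 F2225) (tt N1825 (iv F2973)) (tt N1874 (iv F3048)) (tt N1121 F2226) (tt N975 (iv D1358)))
theorem Q1360 : ∀ i, i < 1360 → P i := stepQ 1359 Q1359 (allL N1359 (tt N982 F2227) (tt N1875 D1875) (tt N976 (iv D1359)) (tt N1867 (iv F3037)) (tt N1873 (iv F3045)) (tt N1866 (iv F3034)))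
theorem Q1361 : ∀ i, i < 1361 → P i := stepQ 1360 Q1360 (allL N1360 (tt N983 F2228) (tt N1872 (iv F3042)) (tt N1866 (iv F3033)) (tt N977 F2229) (tt N1876 D1876) (tt N976 (iv D1360)))
theorem Q1362 : ∀ i, i < 1362 → P i := stepQ 1361 Q1361 (allL N1361 (tt N1877 D1877) (tt N978 (iv D1361)) (tt N1083 F2230) (tt N1878 D1878) (tt N1162 F2231) (tt N1855 (iv F3021)))
theorem Q1363 : ∀ i, i < 1363 → P i := stepQ 1362 Q1362 (allL N1362 (tt N985 F2232) (tt N1878 (iv F3054)) (tt N1811 (iv F2936)) (tt N978 (iv D1362)) (tt N1879 D1879) (tt N1839 (iv F2989)))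
theorem Q1364 : ∀ i, i < 1364 → P i := stepQ 1363 Q1363 (allL N1363 (tt N1824 (iv F2968)) (tt N1267 F2233) (tt N1880 D1880) (tt N979 (iv D1363)) (tt N1819 (iv F2958)) (tt N1881 D1881))
theorem Q1365 : ∀ i, i < 1365 → P i := stepQ 1364 Q1364 (allL N1364 (tt N1825 (iv F2971)) (tt N1268 F2234) (tt N981 F2235) (tt N1881 (iv F3058)) (tt N1126 F2236) (tt N979 (iv D1364)))
theorem Q1366 : ∀ i, i < 1366 → P i := stepQ 1365 Q1365 (allL N1365 (tt N1873 (iv F3044)) (tt N1882 D1882) (tt N980 (iv D1365)) (tt N1883 D1883) (tt N982 F2237) (tt N1884 D1884))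
theorem Q1367 : ∀ i, i < 1367 → P i := stepQ 1366 Q1366 (allL N1366 (tt N1874 (iv F3046)) (tt N1141 F2238) (tt N1884 (iv F3061)) (tt N981 F2239) (tt N1885 D1885) (tt N980 (iv D1366)))
theorem Q1368 : ∀ i, i < 1368 → P i := stepQ 1367 Q1367 (allL N1367 (tt N1886 D1886) (tt N982 (iv D1367)) (tt N1150 F2240) (tt N1887 D1887) (tt N1882 (iv F3060)) (tt N1888 D1888))
theorem Q1369 : ∀ i, i < 1369 → P i := stepQ 1368 Q1368 (allL N1368 (tt N1867 (iv F3035)) (tt N1887 (iv F3066)) (tt N1851 (iv F3011)) (tt N982 (iv D1368)) (tt N1889 D1889) (tt N1850 F3009))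
theorem Q1370 : ∀ i, i < 1370 → P i := stepQ 1369 Q1369 (allL N1369 (tt N1866 (iv F3032)) (tt N1888 (iv F3067)) (tt N983 F2241) (tt N1850 (iv F3008)) (tt N1890 D1890) (tt N982 (iv D1369)))
theorem Q1371 : ∀ i, i < 1371 → P i := stepQ 1370 Q1370 (allL N1370 (tt N1876 (iv F3049)) (tt N1148 F2242) (tt N1890 (iv F3069)) (tt N1132 F2243) (tt N983 (iv D1370)) (tt N1885 (iv F3064)))
theorem Q1372 : ∀ i, i < 1372 → P i := stepQ 1371 Q1371 (allL N1371 (tt N984 (iv D1371)) (tt N1877 (iv F3051)) (tt N986 F2244) (tt N1891 D1891) (tt N1166 F2245) (tt N1527 (iv F2484)))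
theorem Q1373 : ∀ i, i < 1373 → P i := stepQ 1372 Q1372 (allL N1372 (tt N1891 (iv F3070)) (tt N985 F2246) (tt N1892 D1892) (tt N984 (iv D1372)) (tt N1893 D1893) (tt N1529 (iv F2490)))
theorem Q1374 : ∀ i, i < 1374 → P i := stepQ 1373 Q1373 (allL N1373 (tt N1811 (iv F2934)) (tt N1894 D1894) (tt N985 (iv D1373)) (tt N1798 (iv F2912)) (tt N1895 D1895) (tt N1823 (iv F2967)))
theorem Q1375 : ∀ i, i < 1375 → P i := stepQ 1374 Q1374 (allL N1374 (tt N1879 (iv F3055)) (tt N1893 (iv F3071)) (tt N1895 (iv F3073)) (tt N1169 F2247) (tt N985 (iv D1374)) (tt N1896 D1896))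
theorem Q1376 : ∀ i, i < 1376 → P i := stepQ 1375 Q1375 (allL N1375 (tt N989 F2248) (tt N1000 F2249) (tt N1897 D1897) (tt N987 (iv D1375)) (tt N1508 (iv F2462)) (tt N1898 D1898))
theorem Q1377 : ∀ i, i < 1377 → P i := stepQ 1376 Q1376 (allL N1376 (tt N990 F2250) (tt N1001 F2251) (tt N1103 F2252) (tt N1898 (iv F3078)) (tt N1078 F2253) (tt N987 (iv D1376)))
theorem Q1378 : ∀ i, i < 1378 → P i := stepQ 1377 Q1377 (allL N1377 (tt N1508 (iv F2460)) (tt N992 F2254) (tt N1899 D1899) (tt N988 (iv D1377)) (tt N989 F2255) (tt N1900 D1900))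
theorem Q1379 : ∀ i, i < 1379 → P i := stepQ 1378 Q1378 (allL N1378 (tt N1509 (iv F2463)) (tt N993 F2256) (tt N1509 (iv F2465)) (tt N1900 (iv F3081)) (tt N1400 (iv F2292)) (tt N988 (iv D1378)))
theorem Q1380 : ∀ i, i < 1380 → P i := stepQ 1379 Q1379 (allL N1379 (tt N1897 (iv F3075)) (tt N1901 D1901) (tt N989 (iv D1379)) (tt N1902 D1902) (tt N1899 (iv F3079)) (tt N1903 D1903))
theorem Q1381 : ∀ i, i < 1381 → P i := stepQ 1380 Q1380 (allL N1380 (tt N1898 (iv F3076)) (tt N995 F2257) (tt N1903 (iv F3085)) (tt N990 F2258) (tt N1904 D1904) (tt N989 (iv D1380)))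
theorem Q1382 : ∀ i, i < 1382 → P i := stepQ 1381 Q1381 (allL N1381 (tt N1078 F2259) (tt N996 F2260) (tt N1108 F2261) (tt N1905 D1905) (tt N990 (iv D1381)) (tt N991 F2262))
theorem Q1383 : ∀ i, i < 1383 → P i := stepQ 1382 Q1382 (allL N1382 (tt N1077 F2263) (tt N997 F2264) (tt N1906 D1906) (tt N991 (iv D1382)) (tt N1399 (iv F2290)) (tt N1905 (iv F3089)))
theorem Q1384 : ∀ i, i < 1384 → P i := stepQ 1383 Q1383 (allL N1383 (tt N1009 F2265) (tt N1907 D1907) (tt N992 (iv D1383)) (tt N1908 D1908) (tt N994 F2266) (tt N1909 D1909))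
theorem Q1385 : ∀ i, i < 1385 → P i := stepQ 1384 Q1384 (allL N1384 (tt N1010 F2267) (tt N1900 (iv F3080)) (tt N1909 (iv F3095)) (tt N993 F2268) (tt N1910 D1910) (tt N992 (iv D1384)))
theorem Q1386 : ∀ i, i < 1386 → P i := stepQ 1385 Q1385 (allL N1385 (tt N1911 D1911) (tt N994 (iv D1385)) (tt N1901 (iv F3082)) (tt N1043 F2269) (tt N1907 (iv F3091)) (tt N1042 F2270))
theorem Q1387 : ∀ i, i < 1387 → P i := stepQ 1386 Q1386 (allL N1386 (tt N1016 F2271) (tt N1904 (iv F3086)) (tt N1044 F2272) (tt N1912 D1912) (tt N995 (iv D1386)) (tt N1910 (iv F3099)))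
theorem Q1388 : ∀ i, i < 1388 → P i := stepQ 1387 Q1387 (allL N1387 (tt N1017 F2273) (tt N1905 (iv F3088)) (tt N1913 D1913) (tt N996 (iv D1387)) (tt N1912 (iv F3104)) (tt N997 F2274))
theorem Q1389 : ∀ i, i < 1389 → P i := stepQ 1388 Q1388 (allL N1388 (tt N1018 F2275) (tt N1914 D1914) (tt N997 (iv D1388)) (tt N1738 (iv F2833)) (tt N1401 (iv F2293)) (tt N1913 (iv F3107)))
theorem Q1390 : ∀ i, i < 1390 → P i := stepQ 1389 Q1389 (allL N1389 (tt N1749 (iv F2845)) (tt N998 (iv D1389)) (tt N1117 F2276) (tt N1915 D1915) (tt N999 F2277) (tt N1718 (iv F2805)))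
theorem Q1391 : ∀ i, i < 1391 → P i := stepQ 1390 Q1390 (allL N1390 (tt N1019 F2278) (tt N1915 (iv F3108)) (tt N1916 D1916) (tt N998 (iv D1390)) (tt N1464 (iv F2385)) (tt N1720 (iv F2809)))
theorem Q1392 : ∀ i, i < 1392 → P i := stepQ 1391 Q1391 (allL N1391 (tt N1004 F2279) (tt N1917 D1917) (tt N1000 (iv D1391)) (tt N1918 D1918) (tt N1510 (iv F2468)) (tt N1919 D1919))
theorem Q1393 : ∀ i, i < 1393 → P i := stepQ 1392 Q1392 (allL N1392 (tt N1005 F2280) (tt N1898 (iv F3077)) (tt N1919 (iv F3116)) (tt N1001 F2281) (tt N1920 D1920) (tt N1000 (iv D1392)))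
theorem Q1394 : ∀ i, i < 1394 → P i := stepQ 1393 Q1393 (allL N1393 (tt N1510 (iv F2467)) (tt N1921 D1921) (tt N1002 (iv D1393)) (tt N1922 D1922) (tt N1004 F2282) (tt N1923 D1923))
theorem Q1395 : ∀ i, i < 1395 → P i := stepQ 1394 Q1394 (allL N1394 (tt N1511 (iv F2469)) (tt N1010 F2283) (tt N1923 (iv F3122)) (tt N1003 F2284) (tt N1924 D1924) (tt N1002 (iv D1394)))
theorem Q1396 : ∀ i, i < 1396 → P i := stepQ 1395 Q1395 (allL N1395 (tt N1925 D1925) (tt N1004 (iv D1395)) (tt N1013 F2285) (tt N1926 D1926) (tt N1921 (iv F3121)) (tt N1927 D1927))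
theorem Q1397 : ∀ i, i < 1397 → P i := stepQ 1396 Q1396 (allL N1396 (tt N1918 (iv F3112)) (tt N1926 (iv F3127)) (tt N1928 D1928) (tt N1004 (iv D1396)) (tt N1929 D1929) (tt N1930 D1930))
theorem Q1398 : ∀ i, i < 1398 → P i := stepQ 1397 Q1397 (allL N1397 (tt N1919 (iv F3115)) (tt N1927 (iv F3128)) (tt N1005 F2286) (tt N1930 (iv F3135)) (tt N1931 D1931) (tt N1004 (iv D1397)))
theorem Q1399 : ∀ i, i < 1399 → P i := stepQ 1398 Q1398 (allL N1398 (tt N1920 (iv F3118)) (tt N1016 F2287) (tt N1931 (iv F3136)) (tt N1093 F2288) (tt N1005 (iv D1398)) (tt N1924 (iv F3125)))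
theorem Q1400 : ∀ i, i < 1400 → P i := stepQ 1399 Q1399 (allL N1399 (tt N1497 (iv F2443)) (tt N1007 F2289) (tt N1932 D1932) (tt N1006 (iv D1399)) (tt N1382 F2290) (tt N1933 D1933))
theorem Q1401 : ∀ i, i < 1401 → P i := stepQ 1400 Q1400 (allL N1400 (tt N1498 (iv F2446)) (tt N1008 F2291) (tt N1498 (iv F2448)) (tt N1933 (iv F3139)) (tt N1378 F2292) (tt N1006 (iv D1400)))
theorem Q1402 : ∀ i, i < 1402 → P i := stepQ 1401 Q1401 (allL N1401 (tt N1408 (iv F2301)) (tt N1934 D1934) (tt N1007 (iv D1401)) (tt N1935 D1935) (tt N1388 F2293) (tt N1936 D1936))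
theorem Q1403 : ∀ i, i < 1403 → P i := stepQ 1402 Q1402 (allL N1402 (tt N1407 (iv F2298)) (tt N1933 (iv F3138)) (tt N1936 (iv F3141)) (tt N1008 F2294) (tt N1937 D1937) (tt N1007 (iv D1402)))
theorem Q1404 : ∀ i, i < 1404 → P i := stepQ 1403 Q1403 (allL N1403 (tt N1938 D1938) (tt N1009 (iv D1403)) (tt N1921 (iv F3120)) (tt N1939 D1939) (tt N1013 F2295) (tt N1940 D1940))
theorem Q1405 : ∀ i, i < 1405 → P i := stepQ 1404 Q1404 (allL N1404 (tt N1908 (iv F3092)) (tt N1939 (iv F3145)) (tt N1941 D1941) (tt N1009 (iv D1404)) (tt N1942 D1942) (tt N1943 D1943))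
theorem Q1406 : ∀ i, i < 1406 → P i := stepQ 1405 Q1405 (allL N1405 (tt N1909 (iv F3094)) (tt N1940 (iv F3146)) (tt N1010 F2296) (tt N1943 (iv F3149)) (tt N1944 D1944) (tt N1009 (iv D1405)))
theorem Q1407 : ∀ i, i < 1407 → P i := stepQ 1406 Q1406 (allL N1406 (tt N1910 (iv F3097)) (tt N1924 (iv F3123)) (tt N1944 (iv F3151)) (tt N1945 D1945) (tt N1010 (iv D1406)) (tt N1016 F2297))
theorem Q1408 : ∀ i, i < 1408 → P i := stepQ 1407 Q1407 (allL N1407 (tt N1402 F2298) (tt N1089 F2299) (tt N1946 D1946) (tt N1011 (iv D1407)) (tt N1945 (iv F3155)) (tt N1012 F2300))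
theorem Q1409 : ∀ i, i < 1409 → P i := stepQ 1408 Q1408 (allL N1408 (tt N1401 F2301) (tt N1947 D1947) (tt N1012 (iv D1408)) (tt N1948 D1948) (tt N1018 F2302) (tt N1946 (iv F3158)))
theorem Q1410 : ∀ i, i < 1410 → P i := stepQ 1409 Q1409 (allL N1409 (tt N1013 (iv D1409)) (tt N1911 (iv F3100)) (tt N1925 (iv F3126)) (tt N1949 D1949) (tt N1938 (iv F3144)) (tt N1950 D1950))
theorem Q1411 : ∀ i, i < 1411 → P i := stepQ 1410 Q1410 (allL N1410 (tt N1949 (iv F3165)) (tt N1014 F2303) (tt N1951 D1951) (tt N1013 (iv D1410)) (tt N1952 D1952) (tt N1030 (iv F2304)))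
theorem Q1412 : ∀ i, i < 1412 → P i := stepQ 1411 Q1411 (allL N1411 (tt N1950 (iv F3168)) (tt N1015 F2305) (tt N1927 (iv F3129)) (tt N1030 F2306) (tt N1953 D1953) (tt N1013 (iv D1411)))
theorem Q1413 : ∀ i, i < 1413 → P i := stepQ 1412 Q1412 (allL N1412 (tt N1045 F2307) (tt N1952 (iv F3173)) (tt N1031 F2308) (tt N1942 (iv F3148)) (tt N1014 (iv D1412)) (tt N1954 D1954))
theorem Q1414 : ∀ i, i < 1414 → P i := stepQ 1413 Q1413 (allL N1413 (tt N1044 F2309) (tt N1953 (iv F3174)) (tt N1016 F2310) (tt N1955 D1955) (tt N1015 (iv D1413)) (tt N1944 (iv F3152)))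
theorem Q1415 : ∀ i, i < 1415 → P i := stepQ 1414 Q1414 (allL N1414 (tt N1912 (iv F3103)) (tt N1093 F2311) (tt N1956 D1956) (tt N1016 (iv D1414)) (tt N1017 F2312) (tt N1945 (iv F3156)))
theorem Q1416 : ∀ i, i < 1416 → P i := stepQ 1415 Q1415 (allL N1415 (tt N1913 (iv F3105)) (tt N1957 D1957) (tt N1017 (iv D1415)) (tt N1916 (iv F3110)) (tt N1956 (iv F3180)) (tt N1018 F2313))
theorem Q1417 : ∀ i, i < 1417 → P i := stepQ 1416 Q1416 (allL N1416 (tt N1958 D1958) (tt N1018 (iv D1416)) (tt N1090 F2314) (tt N1959 D1959) (tt N1947 (iv F3161)) (tt N1957 (iv F3182)))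
theorem Q1418 : ∀ i, i < 1418 → P i := stepQ 1417 Q1417 (allL N1417 (tt N1738 (iv F2831)) (tt N1959 (iv F3184)) (tt N1720 (iv F2810)) (tt N1018 (iv D1417)) (tt N1960 D1960) (tt N1916 (iv F3111)))
theorem Q1419 : ∀ i, i < 1419 → P i := stepQ 1418 Q1418 (allL N1418 (tt N1916 (iv F3109)) (tt N1961 D1961) (tt N1019 (iv D1418)) (tt N1913 (iv F3106)) (tt N1962 D1962) (tt N1738 (iv F2832)))
theorem Q1420 : ∀ i, i < 1420 → P i := stepQ 1419 Q1419 (allL N1419 (tt N1464 (iv F2384)) (tt N1753 (iv F2851)) (tt N1962 (iv F3185)) (tt N1020 F2315) (tt N1019 (iv D1419)) (tt N1963 D1963))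
theorem Q1421 : ∀ i, i < 1421 → P i := stepQ 1420 Q1420 (allL N1420 (tt N1465 (iv F2386)) (tt N1754 (iv F2853)) (tt N1439 (iv F2351)) (tt N1963 (iv F3186)) (tt N1051 F2316) (tt N1020 (iv D1420)))
theorem Q1422 : ∀ i, i < 1422 → P i := stepQ 1421 Q1421 (allL N1421 (tt N1964 D1964) (tt N1021 (iv D1421)) (tt N1162 F2317) (tt N1965 D1965) (tt N1083 F2318) (tt N1966 D1966))
theorem Q1423 : ∀ i, i < 1423 → P i := stepQ 1422 Q1422 (allL N1422 (tt N1024 F2319) (tt N1965 (iv F3191)) (tt N1930 (iv F3134)) (tt N1021 (iv D1422)) (tt N1967 D1967) (tt N1928 F3132))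
theorem Q1424 : ∀ i, i < 1424 → P i := stepQ 1423 Q1423 (allL N1423 (tt N1025 F2320) (tt N1966 (iv F3193)) (tt N1022 F2321) (tt N1928 (iv F3131)) (tt N1968 D1968) (tt N1021 (iv D1423)))
theorem Q1425 : ∀ i, i < 1425 → P i := stepQ 1424 Q1424 (allL N1424 (tt N1026 F2322) (tt N1165 F2323) (tt N1968 (iv F3198)) (tt N1059 F2324) (tt N1022 (iv D1424)) (tt N1060 F2325))
theorem Q1426 : ∀ i, i < 1426 → P i := stepQ 1425 Q1425 (allL N1425 (tt N1023 (iv D1425)) (tt N1964 (iv F3187)) (tt N1027 F2326) (tt N1969 D1969) (tt N1094 F2327) (tt N1252 F2328))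
theorem Q1427 : ∀ i, i < 1427 → P i := stepQ 1426 Q1426 (allL N1426 (tt N1969 (iv F3200)) (tt N1024 F2329) (tt N1970 D1970) (tt N1023 (iv D1426)) (tt N1971 D1971) (tt N1254 F2330))
theorem Q1428 : ∀ i, i < 1428 → P i := stepQ 1427 Q1427 (allL N1427 (tt N1930 (iv F3133)) (tt N1972 D1972) (tt N1024 (iv D1427)) (tt N1919 (iv F3117)) (tt N1973 D1973) (tt N1918 F3114))
theorem Q1429 : ∀ i, i < 1429 → P i := stepQ 1428 Q1428 (allL N1428 (tt N1967 (iv F3195)) (tt N1971 (iv F3206)) (tt N1973 (iv F3208)) (tt N1097 F2331) (tt N1024 (iv D1428)) (tt N1974 D1974))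
theorem Q1430 : ∀ i, i < 1430 → P i := stepQ 1429 Q1429 (allL N1429 (tt N1928 (iv F3130)) (tt N1254 F2332) (tt N1918 (iv F3113)) (tt N1025 F2333) (tt N1975 D1975) (tt N1024 (iv D1429)))
theorem Q1431 : ∀ i, i < 1431 → P i := stepQ 1430 Q1430 (allL N1430 (tt N1968 (iv F3197)) (tt N1174 F2334) (tt N1026 F2335) (tt N1976 D1976) (tt N1025 (iv D1430)) (tt N1071 F2336))
theorem Q1432 : ∀ i, i < 1432 → P i := stepQ 1431 Q1431 (allL N1431 (tt N1977 D1977) (tt N1028 (iv D1431)) (tt N1030 F2337) (tt N1978 D1978) (tt N1030 F2338) (tt N1951 (iv F3172)))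
theorem Q1433 : ∀ i, i < 1433 → P i := stepQ 1432 Q1432 (allL N1432 (tt N1038 F2339) (tt N1978 (iv F3216)) (tt N1979 D1979) (tt N1028 (iv D1432)) (tt N1955 (iv F3179)) (tt N1980 D1980))
theorem Q1434 : ∀ i, i < 1434 → P i := stepQ 1433 Q1433 (allL N1433 (tt N1039 F2340) (tt N1951 (iv F3171)) (tt N1029 F2341) (tt N1980 (iv F3222)) (tt N1954 (iv F3177)) (tt N1028 (iv D1433)))
theorem Q1435 : ∀ i, i < 1435 → P i := stepQ 1434 Q1434 (allL N1434 (tt N1040 F2342) (tt N1031 F2343) (tt N1954 (iv F3176)) (tt N1443 (iv F2359)) (tt N1029 (iv D1434)) (tt N1031 F2344))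
theorem Q1436 : ∀ i, i < 1436 → P i := stepQ 1435 Q1435 (allL N1435 (tt N1030 (iv D1435)) (tt N1041 F2345) (tt N1977 (iv F3214)) (tt N1950 (iv F3170)) (tt N1977 (iv F3215)) (tt N1949 F3167))
theorem Q1437 : ∀ i, i < 1437 → P i := stepQ 1436 Q1436 (allL N1436 (tt N1033 F2346) (tt N1046 F2347) (tt N1981 D1981) (tt N1032 (iv D1436)) (tt N1982 D1982) (tt N1462 (iv F2382)))
theorem Q1438 : ∀ i, i < 1438 → P i := stepQ 1437 Q1437 (allL N1437 (tt N1981 (iv F3223)) (tt N1262 F2348) (tt N1033 (iv D1437)) (tt N1983 D1983) (tt N1984 D1984) (tt N1459 (iv F2377)))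
theorem Q1439 : ∀ i, i < 1439 → P i := stepQ 1438 Q1438 (allL N1438 (tt N1982 (iv F3226)) (tt N1034 F2349) (tt N1984 (iv F3233)) (tt N1717 (iv F2802)) (tt N1033 (iv D1438)) (tt N1985 D1985))
theorem Q1440 : ∀ i, i < 1440 → P i := stepQ 1439 Q1439 (allL N1439 (tt N1051 F2350) (tt N1985 (iv F3234)) (tt N1420 F2351) (tt N1719 (iv F2807)) (tt N1465 (iv F2388)) (tt N1034 (iv D1439)))
theorem Q1441 : ∀ i, i < 1441 → P i := stepQ 1440 Q1440 (allL N1440 (tt N1986 D1986) (tt N1035 (iv D1440)) (tt N1194 F2352) (tt N1987 D1987) (tt N1194 F2353) (tt N1988 D1988))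
theorem Q1442 : ∀ i, i < 1442 → P i := stepQ 1441 Q1441 (allL N1441 (tt N1176 F2354) (tt N1987 (iv F3238)) (tt N1980 (iv F3221)) (tt N1035 (iv D1441)) (tt N1989 D1989) (tt N1979 F3219))
theorem Q1443 : ∀ i, i < 1443 → P i := stepQ 1442 Q1442 (allL N1442 (tt N1177 F2355) (tt N1988 (iv F3239)) (tt N1036 F2356) (tt N1979 (iv F3218)) (tt N1990 D1990) (tt N1035 (iv D1442)))
theorem Q1444 : ∀ i, i < 1444 → P i := stepQ 1443 Q1443 (allL N1443 (tt N1178 F2357) (tt N1197 F2358) (tt N1990 (iv F3244)) (tt N1434 F2359) (tt N1036 (iv D1443)) (tt N1197 F2360))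
theorem Q1445 : ∀ i, i < 1445 → P i := stepQ 1444 Q1444 (allL N1444 (tt N1037 (iv D1444)) (tt N1977 (iv F3213)) (tt N1640 (iv F2691)) (tt N1991 D1991) (tt N1041 F2361) (tt N1992 D1992))
theorem Q1446 : ∀ i, i < 1446 → P i := stepQ 1445 Q1445 (allL N1445 (tt N1991 (iv F3246)) (tt N1038 F2362) (tt N1993 D1993) (tt N1037 (iv D1445)) (tt N1994 D1994) (tt N1995 D1995))
theorem Q1447 : ∀ i, i < 1447 → P i := stepQ 1446 Q1446 (allL N1446 (tt N1992 (iv F3247)) (tt N1039 F2363) (tt N1639 (iv F2687)) (tt N1995 (iv F3251)) (tt N1996 D1996) (tt N1037 (iv D1446)))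
theorem Q1448 : ∀ i, i < 1448 → P i := stepQ 1447 Q1447 (allL N1447 (tt N1979 (iv F3217)) (tt N1997 D1997) (tt N1038 (iv D1447)) (tt N1177 F2364) (tt N1998 D1998) (tt N1176 (iv F2365)))
theorem Q1449 : ∀ i, i < 1449 → P i := stepQ 1448 Q1448 (allL N1448 (tt N1955 (iv F3178)) (tt N1994 (iv F3248)) (tt N1998 (iv F3256)) (tt N1044 F2366) (tt N1038 (iv D1448)) (tt N1999 D1999))
theorem Q1450 : ∀ i, i < 1450 → P i := stepQ 1449 Q1449 (allL N1449 (tt N1980 (iv F3220)) (tt N1995 (iv F3250)) (tt N1176 F2367) (tt N1039 F2368) (tt N2000 D2000) (tt N1038 (iv D1449)))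
theorem Q1451 : ∀ i, i < 1451 → P i := stepQ 1450 Q1450 (allL N1450 (tt N1954 (iv F3175)) (tt N1996 (iv F3252)) (tt N1040 F2369) (tt N2001 D2001) (tt N1039 (iv D1450)) (tt N1045 F2370))
theorem Q1452 : ∀ i, i < 1452 → P i := stepQ 1451 Q1451 (allL N1451 (tt N1042 F2371) (tt N1950 (iv F3169)) (tt N2002 D2002) (tt N1041 (iv D1451)) (tt N2003 D2003) (tt N1911 (iv F3102)))
theorem Q1453 : ∀ i, i < 1453 → P i := stepQ 1452 Q1452 (allL N1452 (tt N1043 F2372) (tt N1949 (iv F3166)) (tt N1683 (iv F2755)) (tt N1911 (iv F3101)) (tt N2004 D2004) (tt N1041 (iv D1452)))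
theorem Q1454 : ∀ i, i < 1454 → P i := stepQ 1453 Q1453 (allL N1453 (tt N2002 (iv F3260)) (tt N1903 (iv F3084)) (tt N1042 (iv D1453)) (tt N2005 D2005) (tt N2006 D2006) (tt N1901 F3083))
theorem Q1455 : ∀ i, i < 1455 → P i := stepQ 1454 Q1454 (allL N1454 (tt N2003 (iv F3261)) (tt N1044 F2373) (tt N2006 (iv F3263)) (tt N1994 (iv F3249)) (tt N1042 (iv D1454)) (tt N2007 D2007))
theorem Q1456 : ∀ i, i < 1456 → P i := stepQ 1455 Q1455 (allL N1455 (tt N2004 (iv F3262)) (tt N1045 F2374) (tt N1681 (iv F2753)) (tt N2008 D2008) (tt N1043 (iv D1455)) (tt N1996 (iv F3253)))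
theorem Q1457 : ∀ i, i < 1457 → P i := stepQ 1456 Q1456 (allL N1456 (tt N1944 (iv F3150)) (tt N2007 (iv F3264)) (tt N1910 (iv F3098)) (tt N1999 (iv F3257)) (tt N1909 (iv F3096)) (tt N1044 (iv D1456)))
theorem Q1458 : ∀ i, i < 1458 → P i := stepQ 1457 Q1457 (allL N1457 (tt N1942 (iv F3147)) (tt N2008 (iv F3265)) (tt N2009 D2009) (tt N1045 (iv D1457)) (tt N1908 (iv F3093)) (tt N2001 (iv F3259)))
theorem Q1459 : ∀ i, i < 1459 → P i := stepQ 1458 Q1458 (allL N1458 (tt N1048 F2375) (tt N1982 (iv F3227)) (tt N1708 (iv F2787)) (tt N1722 (iv F2813)) (tt N1046 (iv D1458)) (tt N2010 D2010))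
theorem Q1460 : ∀ i, i < 1460 → P i := stepQ 1459 Q1459 (allL N1459 (tt N2011 D2011) (tt N1047 (iv D1459)) (tt N1049 F2376) (tt N1702 (iv F2776)) (tt N2012 D2012) (tt N1437 F2377))
theorem Q1461 : ∀ i, i < 1461 → P i := stepQ 1460 Q1460 (allL N1460 (tt N1708 (iv F2786)) (tt N2012 (iv F3270)) (tt N1048 F2378) (tt N2013 D2013) (tt N1047 (iv D1460)) (tt N2014 D2014))
theorem Q1462 : ∀ i, i < 1462 → P i := stepQ 1461 Q1461 (allL N1461 (tt N2010 (iv F3266)) (tt N1051 F2379) (tt N2014 (iv F3272)) (tt N1729 (iv F2823)) (tt N1754 (iv F2854)) (tt N1048 (iv D1461)))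
theorem Q1463 : ∀ i, i < 1463 → P i := stepQ 1462 Q1462 (allL N1462 (tt N1049 (iv D1462)) (tt N1260 F2380) (tt N2011 (iv F3268)) (tt N1259 F2381) (tt N2015 D2015) (tt N1436 F2382))
theorem Q1464 : ∀ i, i < 1464 → P i := stepQ 1463 Q1463 (allL N1463 (tt N2015 (iv F3273)) (tt N1050 F2383) (tt N2012 (iv F3271)) (tt N2016 D2016) (tt N1049 (iv D1463)) (tt N2017 D2017))
theorem Q1465 : ∀ i, i < 1465 → P i := stepQ 1464 Q1464 (allL N1464 (tt N1419 F2384) (tt N2016 (iv F3275)) (tt N2018 D2018) (tt N1050 (iv D1464)) (tt N1390 F2385) (tt N2019 D2019))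
theorem Q1466 : ∀ i, i < 1466 → P i := stepQ 1465 Q1465 (allL N1465 (tt N1420 F2386) (tt N2017 (iv F3277)) (tt N1051 F2387) (tt N2019 (iv F3282)) (tt N1439 F2388) (tt N1050 (iv D1465)))
theorem Q1467 : ∀ i, i < 1467 → P i := stepQ 1466 Q1466 (allL N1466 (tt N1054 F2389) (tt N1058 F2390) (tt N1844 (iv F2999)) (tt N2020 D2020) (tt N1052 (iv D1466)) (tt N2021 D2021))
theorem Q1468 : ∀ i, i < 1468 → P i := stepQ 1467 Q1467 (allL N1467 (tt N1482 (iv F2417)) (tt N1055 F2391) (tt N1482 (iv F2419)) (tt N2022 D2022) (tt N1053 (iv D1467)) (tt N2023 D2023))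
theorem Q1469 : ∀ i, i < 1469 → P i := stepQ 1468 Q1468 (allL N1468 (tt N2020 (iv F3283)) (tt N1056 F2392) (tt N2024 D2024) (tt N1054 (iv D1468)) (tt N2022 (iv F3289)) (tt N2025 D2025))
theorem Q1470 : ∀ i, i < 1470 → P i := stepQ 1469 Q1469 (allL N1469 (tt N2021 (iv F3285)) (tt N1057 F2393) (tt N1847 (iv F3003)) (tt N2025 (iv F3292)) (tt N2021 (iv F3287)) (tt N1054 (iv D1469)))
theorem Q1471 : ∀ i, i < 1471 → P i := stepQ 1470 Q1470 (allL N1470 (tt N1067 F2394) (tt N2022 (iv F3288)) (tt N2026 D2026) (tt N1055 (iv D1470)) (tt N1056 F2395) (tt N2027 D2027))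
theorem Q1472 : ∀ i, i < 1472 → P i := stepQ 1471 Q1471 (allL N1471 (tt N1068 F2396) (tt N2023 (iv F3290)) (tt N1479 (iv F2413)) (tt N2027 (iv F3296)) (tt N1484 (iv F2424)) (tt N1055 (iv D1471)))
theorem Q1473 : ∀ i, i < 1473 → P i := stepQ 1472 Q1472 (allL N1472 (tt N1069 F2397) (tt N2028 D2028) (tt N1056 (iv D1472)) (tt N1092 F2398) (tt N2026 (iv F3294)) (tt N1091 (iv F2399)))
theorem Q1474 : ∀ i, i < 1474 → P i := stepQ 1473 Q1473 (allL N1473 (tt N1070 F2400) (tt N2025 (iv F3291)) (tt N1091 F2401) (tt N1057 F2402) (tt N2029 D2029) (tt N1056 (iv D1473)))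
theorem Q1475 : ∀ i, i < 1475 → P i := stepQ 1474 Q1474 (allL N1474 (tt N1064 F2403) (tt N2021 (iv F3286)) (tt N1059 F2404) (tt N2030 D2030) (tt N1057 (iv D1474)) (tt N1058 F2405))
theorem Q1476 : ∀ i, i < 1476 → P i := stepQ 1475 Q1475 (allL N1475 (tt N1063 F2406) (tt N2020 (iv F3284)) (tt N2031 D2031) (tt N1058 (iv D1475)) (tt N1483 (iv F2421)) (tt N2030 (iv F3302)))
theorem Q1477 : ∀ i, i < 1477 → P i := stepQ 1476 Q1476 (allL N1476 (tt N1071 F2407) (tt N2032 D2032) (tt N1060 (iv D1476)) (tt N2033 D2033) (tt N1061 F2408) (tt N1968 (iv F3199)))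
theorem Q1478 : ∀ i, i < 1478 → P i := stepQ 1477 Q1477 (allL N1477 (tt N2034 D2034) (tt N1061 (iv D1477)) (tt N1855 (iv F3020)) (tt N1524 (iv F2479)) (tt N2032 (iv F3304)) (tt N1083 F2409))
theorem Q1479 : ∀ i, i < 1479 → P i := stepQ 1478 Q1478 (allL N1478 (tt N1483 (iv F2420)) (tt N1067 F2410) (tt N2035 D2035) (tt N1062 (iv D1478)) (tt N1063 F2411) (tt N2036 D2036))
theorem Q1480 : ∀ i, i < 1480 → P i := stepQ 1479 Q1479 (allL N1479 (tt N1484 (iv F2422)) (tt N1068 F2412) (tt N1471 F2413) (tt N2036 (iv F3310)) (tt N1068 F2414) (tt N1062 (iv D1479)))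
theorem Q1481 : ∀ i, i < 1481 → P i := stepQ 1480 Q1480 (allL N1480 (tt N2031 (iv F3303)) (tt N2037 D2037) (tt N1063 (iv D1480)) (tt N2038 D2038) (tt N2035 (iv F3308)) (tt N2039 D2039))
theorem Q1482 : ∀ i, i < 1482 → P i := stepQ 1481 Q1481 (allL N1481 (tt N2030 (iv F3301)) (tt N1070 F2415) (tt N2039 (iv F3312)) (tt N1064 F2416) (tt N2040 D2040) (tt N1063 (iv D1481)))
theorem Q1483 : ∀ i, i < 1483 → P i := stepQ 1482 Q1482 (allL N1482 (tt N1467 F2417) (tt N1066 F2418) (tt N1467 F2419) (tt N2041 D2041) (tt N1065 (iv D1482)) (tt N2042 D2042))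
theorem Q1484 : ∀ i, i < 1484 → P i := stepQ 1483 Q1483 (allL N1483 (tt N1478 F2420) (tt N2041 (iv F3316)) (tt N2043 D2043) (tt N1066 (iv D1483)) (tt N1475 F2421) (tt N2044 D2044))
theorem Q1485 : ∀ i, i < 1485 → P i := stepQ 1484 Q1484 (allL N1484 (tt N1479 F2422) (tt N2042 (iv F3319)) (tt N1068 F2423) (tt N2044 (iv F3325)) (tt N1471 F2424) (tt N1066 (iv D1484)))
theorem Q1486 : ∀ i, i < 1486 → P i := stepQ 1485 Q1485 (allL N1485 (tt N2026 (iv F3293)) (tt N2045 D2045) (tt N1067 (iv D1485)) (tt N2046 D2046) (tt N1069 F2425) (tt N2047 D2047))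
theorem Q1487 : ∀ i, i < 1487 → P i := stepQ 1486 Q1486 (allL N1486 (tt N2027 (iv F3295)) (tt N2036 (iv F3309)) (tt N2047 (iv F3327)) (tt N1068 F2426) (tt N2048 D2048) (tt N1067 (iv D1486)))
theorem Q1488 : ∀ i, i < 1488 → P i := stepQ 1487 Q1487 (allL N1487 (tt N2049 D2049) (tt N1069 (iv D1487)) (tt N2037 (iv F3311)) (tt N2050 D2050) (tt N2045 (iv F3326)) (tt N2051 D2051))
theorem Q1489 : ∀ i, i < 1489 → P i := stepQ 1488 Q1488 (allL N1488 (tt N1092 F2427) (tt N2050 (iv F3329)) (tt N1082 F2428) (tt N1069 (iv D1488)) (tt N2052 D2052) (tt N1081 F2429))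
theorem Q1490 : ∀ i, i < 1490 → P i := stepQ 1489 Q1489 (allL N1489 (tt N1091 F2430) (tt N2051 (iv F3331)) (tt N1070 F2431) (tt N1081 F2432) (tt N2053 D2053) (tt N1069 (iv D1489)))
theorem Q1491 : ∀ i, i < 1491 → P i := stepQ 1490 Q1490 (allL N1490 (tt N2029 (iv F3299)) (tt N2040 (iv F3313)) (tt N2053 (iv F3336)) (tt N2040 (iv F3314)) (tt N1070 (iv D1490)) (tt N2048 (iv F3328)))
theorem Q1492 : ∀ i, i < 1492 → P i := stepQ 1491 Q1491 (allL N1491 (tt N2054 D2054) (tt N1071 (iv D1491)) (tt N1074 F2433) (tt N2055 D2055) (tt N1072 F2434) (tt N1174 F2435))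
theorem Q1493 : ∀ i, i < 1493 → P i := stepQ 1492 Q1492 (allL N1492 (tt N2033 (iv F3305)) (tt N2055 (iv F3340)) (tt N2056 D2056) (tt N1071 (iv D1492)) (tt N2057 D2057) (tt N1976 (iv F3212)))
theorem Q1494 : ∀ i, i < 1494 → P i := stepQ 1493 Q1493 (allL N1493 (tt N1072 (iv D1493)) (tt N2034 (iv F3306)) (tt N1075 F2436) (tt N2058 D2058) (tt N2054 (iv F3338)) (tt N1094 F2437))
theorem Q1495 : ∀ i, i < 1495 → P i := stepQ 1494 Q1494 (allL N1494 (tt N2058 (iv F3343)) (tt N1073 F2438) (tt N2059 D2059) (tt N1072 (iv D1494)) (tt N2060 D2060) (tt N1095 F2439))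
theorem Q1496 : ∀ i, i < 1496 → P i := stepQ 1495 Q1495 (allL N1495 (tt N1525 (iv F2481)) (tt N2060 (iv F3346)) (tt N1507 (iv F2459)) (tt N2057 (iv F3342)) (tt N1073 (iv D1495)) (tt N2061 D2061))
theorem Q1497 : ∀ i, i < 1497 → P i := stepQ 1496 Q1496 (allL N1496 (tt N1074 (iv D1496)) (tt N1528 (iv F2486)) (tt N2054 (iv F3337)) (tt N1172 F2440) (tt N1075 F2441) (tt N1173 F2442))
theorem Q1498 : ∀ i, i < 1498 → P i := stepQ 1497 Q1497 (allL N1497 (tt N1399 F2443) (tt N1079 F2444) (tt N2062 D2062) (tt N1076 (iv D1497)) (tt N1077 F2445) (tt N2063 D2063))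
theorem Q1499 : ∀ i, i < 1499 → P i := stepQ 1498 Q1498 (allL N1498 (tt N1400 F2446) (tt N1080 F2447) (tt N1400 F2448) (tt N2063 (iv F3352)) (tt N1509 (iv F2466)) (tt N1076 (iv D1498)))
theorem Q1500 : ∀ i, i < 1500 → P i := stepQ 1499 Q1499 (allL N1499 (tt N1906 (iv F3090)) (tt N2064 D2064) (tt N1077 (iv D1499)) (tt N2065 D2065) (tt N2062 (iv F3349)) (tt N2066 D2066))
theorem Q1501 : ∀ i, i < 1501 → P i := stepQ 1500 Q1500 (allL N1500 (tt N1905 (iv F3087)) (tt N1082 F2449) (tt N2066 (iv F3354)) (tt N1078 F2450) (tt N2067 D2067) (tt N1077 (iv D1500)))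
theorem Q1502 : ∀ i, i < 1502 → P i := stepQ 1501 Q1501 (allL N1501 (tt N1088 F2451) (tt N2068 D2068) (tt N1079 (iv D1501)) (tt N2069 D2069) (tt N1081 F2452) (tt N2070 D2070))
theorem Q1503 : ∀ i, i < 1503 → P i := stepQ 1502 Q1502 (allL N1502 (tt N1089 F2453) (tt N2063 (iv F3351)) (tt N2070 (iv F3359)) (tt N1080 F2454) (tt N2071 D2071) (tt N1079 (iv D1502)))
theorem Q1504 : ∀ i, i < 1504 → P i := stepQ 1503 Q1503 (allL N1503 (tt N2072 D2072) (tt N1081 (iv D1503)) (tt N2064 (iv F3353)) (tt N2051 (iv F3332)) (tt N2068 (iv F3356)) (tt N2050 F3330))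
theorem Q1505 : ∀ i, i < 1505 → P i := stepQ 1504 Q1504 (allL N1504 (tt N1093 F2455) (tt N2067 (iv F3355)) (tt N2052 (iv F3334)) (tt N1920 (iv F3119)) (tt N1082 (iv D1504)) (tt N2071 (iv F3361)))
theorem Q1506 : ∀ i, i < 1506 → P i := stepQ 1505 Q1505 (allL N1505 (tt N1083 (iv D1505)) (tt N1094 F2456) (tt N1877 (iv F3052)) (tt N2073 D2073) (tt N1964 (iv F3189)) (tt N2034 (iv F3307)))
theorem Q1507 : ∀ i, i < 1507 → P i := stepQ 1506 Q1506 (allL N1506 (tt N2073 (iv F3363)) (tt N1084 F2457) (tt N2074 D2074) (tt N1083 (iv D1506)) (tt N2075 D2075) (tt N1524 (iv F2480)))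
theorem Q1508 : ∀ i, i < 1508 → P i := stepQ 1507 Q1507 (allL N1507 (tt N1097 F2458) (tt N2075 (iv F3366)) (tt N1495 F2459) (tt N1967 (iv F3196)) (tt N1084 (iv D1507)) (tt N2076 D2076))
theorem Q1509 : ∀ i, i < 1509 → P i := stepQ 1508 Q1508 (allL N1508 (tt N1377 F2460) (tt N1086 F2461) (tt N2077 D2077) (tt N1085 (iv D1508)) (tt N1375 F2462) (tt N2078 D2078))
theorem Q1510 : ∀ i, i < 1510 → P i := stepQ 1509 Q1509 (allL N1509 (tt N1378 F2463) (tt N1087 F2464) (tt N1378 F2465) (tt N2078 (iv F3373)) (tt N1498 F2466) (tt N1085 (iv D1509)))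
theorem Q1511 : ∀ i, i < 1511 → P i := stepQ 1510 Q1510 (allL N1510 (tt N1393 F2467) (tt N2079 D2079) (tt N1086 (iv D1510)) (tt N2080 D2080) (tt N1391 F2468) (tt N2081 D2081))
theorem Q1512 : ∀ i, i < 1512 → P i := stepQ 1511 Q1511 (allL N1511 (tt N1394 F2469) (tt N2078 (iv F3372)) (tt N2081 (iv F3377)) (tt N1087 F2470) (tt N2082 D2082) (tt N1086 (iv D1511)))
theorem Q1513 : ∀ i, i < 1513 → P i := stepQ 1512 Q1512 (allL N1512 (tt N2083 D2083) (tt N1088 (iv D1512)) (tt N1947 (iv F3160)) (tt N2084 D2084) (tt N1090 F2471) (tt N2085 D2085))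
theorem Q1514 : ∀ i, i < 1514 → P i := stepQ 1513 Q1513 (allL N1513 (tt N2069 (iv F3357)) (tt N2084 (iv F3382)) (tt N2086 D2086) (tt N1088 (iv D1513)) (tt N2087 D2087) (tt N2088 D2088))
theorem Q1515 : ∀ i, i < 1515 → P i := stepQ 1514 Q1514 (allL N1514 (tt N2070 (iv F3358)) (tt N2085 (iv F3383)) (tt N1089 F2472) (tt N2088 (iv F3388)) (tt N2089 D2089) (tt N1088 (iv D1514)))
theorem Q1516 : ∀ i, i < 1516 → P i := stepQ 1515 Q1515 (allL N1515 (tt N2071 (iv F3360)) (tt N1945 (iv F3154)) (tt N2089 (iv F3389)) (tt N1924 (iv F3124)) (tt N1089 (iv D1515)) (tt N1093 F2473))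
theorem Q1517 : ∀ i, i < 1517 → P i := stepQ 1516 Q1516 (allL N1516 (tt N1090 (iv D1516)) (tt N2072 (iv F3362)) (tt N1958 (iv F3183)) (tt N2090 D2090) (tt N2083 (iv F3381)) (tt N2091 D2091))
theorem Q1518 : ∀ i, i < 1518 → P i := stepQ 1517 Q1517 (allL N1517 (tt N2090 (iv F3391)) (tt N1091 F2474) (tt N2092 D2092) (tt N1090 (iv D1517)) (tt N2093 D2093) (tt N2028 (iv F3298)))
theorem Q1519 : ∀ i, i < 1519 → P i := stepQ 1518 Q1518 (allL N1518 (tt N2091 (iv F3392)) (tt N1092 F2475) (tt N1957 (iv F3181)) (tt N2028 (iv F3297)) (tt N2094 D2094) (tt N1090 (iv D1518)))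
theorem Q1520 : ∀ i, i < 1520 → P i := stepQ 1519 Q1519 (allL N1519 (tt N2053 (iv F3335)) (tt N2093 (iv F3393)) (tt N2029 (iv F3300)) (tt N2087 (iv F3386)) (tt N1091 (iv D1519)) (tt N2095 D2095))
theorem Q1521 : ∀ i, i < 1521 → P i := stepQ 1520 Q1520 (allL N1520 (tt N2052 (iv F3333)) (tt N2094 (iv F3394)) (tt N1093 F2476) (tt N2096 D2096) (tt N1092 (iv D1520)) (tt N2089 (iv F3390)))
theorem Q1522 : ∀ i, i < 1522 → P i := stepQ 1521 Q1521 (allL N1521 (tt N1095 F2477) (tt N2073 (iv F3364)) (tt N2097 D2097) (tt N1094 (iv D1521)) (tt N2098 D2098) (tt N2058 (iv F3344)))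
theorem Q1523 : ∀ i, i < 1523 → P i := stepQ 1522 Q1522 (allL N1522 (tt N2097 (iv F3395)) (tt N2099 D2099) (tt N1095 (iv D1522)) (tt N2100 D2100) (tt N2101 D2101) (tt N2059 (iv F3345)))
theorem Q1524 : ∀ i, i < 1524 → P i := stepQ 1523 Q1523 (allL N1523 (tt N2098 (iv F3397)) (tt N1097 F2478) (tt N2101 (iv F3402)) (tt N1971 (iv F3207)) (tt N1095 (iv D1523)) (tt N2102 D2102))
theorem Q1525 : ∀ i, i < 1525 → P i := stepQ 1524 Q1524 (allL N1524 (tt N2103 D2103) (tt N1096 (iv D1524)) (tt N2099 (iv F3398)) (tt N1477 F2479) (tt N2104 D2104) (tt N1506 F2480))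
theorem Q1526 : ∀ i, i < 1526 → P i := stepQ 1525 Q1525 (allL N1525 (tt N1495 F2481) (tt N2104 (iv F3407)) (tt N1097 F2482) (tt N2105 D2105) (tt N1096 (iv D1525)) (tt N2106 D2106))
theorem Q1527 : ∀ i, i < 1527 → P i := stepQ 1526 Q1526 (allL N1526 (tt N2076 (iv F3367)) (tt N2102 (iv F3403)) (tt N2106 (iv F3411)) (tt N1974 (iv F3209)) (tt N2061 (iv F3347)) (tt N1097 (iv D1526)))
theorem Q1528 : ∀ i, i < 1528 → P i := stepQ 1527 Q1527 (allL N1527 (tt N1099 F2483) (tt N2107 D2107) (tt N1098 (iv D1527)) (tt N2108 D2108) (tt N2109 D2109) (tt N1371 F2484))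
theorem Q1529 : ∀ i, i < 1529 → P i := stepQ 1528 Q1528 (allL N1528 (tt N1100 F2485) (tt N1496 F2486) (tt N2109 (iv F3419)) (tt N1253 F2487) (tt N1098 (iv D1528)) (tt N1256 F2488))
theorem Q1530 : ∀ i, i < 1530 → P i := stepQ 1529 Q1529 (allL N1529 (tt N2108 (iv F3416)) (tt N1354 F2489) (tt N2110 D2110) (tt N1099 (iv D1529)) (tt N2111 D2111) (tt N1372 F2490))
theorem Q1531 : ∀ i, i < 1531 → P i := stepQ 1530 Q1530 (allL N1530 (tt N2109 (iv F3418)) (tt N1353 F2491) (tt N1100 F2492) (tt N2112 D2112) (tt N1099 (iv D1530)) (tt N1258 F2493))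
theorem Q1532 : ∀ i, i < 1532 → P i := stepQ 1531 Q1531 (allL N1531 (tt N1104 F2494) (tt N1120 F2495) (tt N2113 D2113) (tt N1101 (iv D1531)) (tt N1102 F2496) (tt N2114 D2114))
theorem Q1533 : ∀ i, i < 1533 → P i := stepQ 1532 Q1532 (allL N1532 (tt N1105 F2497) (tt N1121 F2498) (tt N1281 F2499) (tt N2114 (iv F3429)) (tt N1281 F2500) (tt N1101 (iv D1532)))
theorem Q1534 : ∀ i, i < 1534 → P i := stepQ 1533 Q1533 (allL N1533 (tt N1106 F2501) (tt N2115 D2115) (tt N1102 (iv D1533)) (tt N2116 D2116) (tt N2113 (iv F3426)) (tt N2117 D2117))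
theorem Q1535 : ∀ i, i < 1535 → P i := stepQ 1534 Q1534 (allL N1534 (tt N1107 F2502) (tt N1123 F2503) (tt N2117 (iv F3433)) (tt N1103 F2504) (tt N2118 D2118) (tt N1102 (iv D1534)))
theorem Q1536 : ∀ i, i < 1536 → P i := stepQ 1535 Q1535 (allL N1535 (tt N2113 (iv F3425)) (tt N2119 D2119) (tt N1104 (iv D1535)) (tt N2120 D2120) (tt N1106 F2505) (tt N2121 D2121))
theorem Q1537 : ∀ i, i < 1537 → P i := stepQ 1536 Q1536 (allL N1536 (tt N2114 (iv F3427)) (tt N1111 F2506) (tt N2121 (iv F3438)) (tt N1105 F2507) (tt N2122 D2122) (tt N1104 (iv D1536)))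
theorem Q1538 : ∀ i, i < 1538 → P i := stepQ 1537 Q1537 (allL N1537 (tt N2123 D2123) (tt N1106 (iv D1537)) (tt N1112 F2508) (tt N2124 D2124) (tt N2119 (iv F3437)) (tt N1207 (iv F2509)))
theorem Q1539 : ∀ i, i < 1539 → P i := stepQ 1538 Q1538 (allL N1538 (tt N2116 (iv F3431)) (tt N2124 (iv F3444)) (tt N2125 D2125) (tt N1106 (iv D1538)) (tt N2126 D2126) (tt N2127 D2127))
theorem Q1540 : ∀ i, i < 1540 → P i := stepQ 1539 Q1539 (allL N1539 (tt N2117 (iv F3432)) (tt N1207 F2510) (tt N1107 F2511) (tt N2127 (iv F3447)) (tt N2128 D2128) (tt N1106 (iv D1539)))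
theorem Q1541 : ∀ i, i < 1541 → P i := stepQ 1540 Q1540 (allL N1540 (tt N2118 (iv F3434)) (tt N1113 F2512) (tt N2128 (iv F3449)) (tt N2129 D2129) (tt N1107 (iv D1540)) (tt N2122 (iv F3441)))
theorem Q1542 : ∀ i, i < 1542 → P i := stepQ 1541 Q1541 (allL N1541 (tt N1872 (iv F3041)) (tt N1114 F2513) (tt N2130 D2130) (tt N1108 (iv D1541)) (tt N2129 (iv F3451)) (tt N1109 F2514))
theorem Q1543 : ∀ i, i < 1543 → P i := stepQ 1542 Q1542 (allL N1542 (tt N1871 (iv F3039)) (tt N2131 D2131) (tt N1109 (iv D1542)) (tt N2132 D2132) (tt N1282 F2515) (tt N2130 (iv F3453)))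
theorem Q1544 : ∀ i, i < 1544 → P i := stepQ 1543 Q1543 (allL N1543 (tt N2133 D2133) (tt N1110 (iv D1543)) (tt N2119 (iv F3436)) (tt N2134 D2134) (tt N1112 F2516) (tt N2135 D2135))
theorem Q1545 : ∀ i, i < 1545 → P i := stepQ 1544 Q1544 (allL N1544 (tt N1138 F2517) (tt N2134 (iv F3458)) (tt N2136 D2136) (tt N1110 (iv D1544)) (tt N1211 F2518) (tt N2137 D2137))
theorem Q1546 : ∀ i, i < 1546 → P i := stepQ 1545 Q1545 (allL N1545 (tt N1139 F2519) (tt N2135 (iv F3460)) (tt N1111 F2520) (tt N2137 (iv F3468)) (tt N1210 F2521) (tt N1110 (iv D1545)))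
theorem Q1547 : ∀ i, i < 1547 → P i := stepQ 1546 Q1546 (allL N1546 (tt N1140 F2522) (tt N2122 (iv F3439)) (tt N1210 F2523) (tt N1287 F2524) (tt N1111 (iv D1546)) (tt N1113 F2525))
theorem Q1548 : ∀ i, i < 1548 → P i := stepQ 1547 Q1547 (allL N1547 (tt N1112 (iv D1547)) (tt N1143 F2526) (tt N2123 (iv F3442)) (tt N1206 F2527) (tt N2133 (iv F3457)) (tt N1205 F2528))
theorem Q1549 : ∀ i, i < 1549 → P i := stepQ 1548 Q1548 (allL N1548 (tt N1148 F2529) (tt N2129 (iv F3450)) (tt N2138 D2138) (tt N1113 (iv D1548)) (tt N1114 F2530) (tt N1287 F2531))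
theorem Q1550 : ∀ i, i < 1550 → P i := stepQ 1549 Q1549 (allL N1549 (tt N1149 F2532) (tt N2139 D2139) (tt N1114 (iv D1549)) (tt N1156 F2534) (tt N2138 (iv F3471)) (tt N1115 F2533))
theorem Q1551 : ∀ i, i < 1551 → P i := stepQ 1550 Q1550 (allL N1550 (tt N2140 D2140) (tt N1115 (iv D1550)) (tt N2131 (iv F3454)) (tt N2141 D2141) (tt N1284 F2535) (tt N2139 (iv F3475)))
theorem Q1552 : ∀ i, i < 1552 → P i := stepQ 1551 Q1551 (allL N1551 (tt N1151 F2536) (tt N2141 (iv F3478)) (tt N1153 F2538) (tt N1115 (iv D1551)) (tt N2142 D2142) (tt N1156 F2537))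
theorem Q1553 : ∀ i, i < 1553 → P i := stepQ 1552 Q1552 (allL N1552 (tt N2143 D2143) (tt N1116 (iv D1552)) (tt N1718 (iv F2804)) (tt N2144 D2144) (tt N1184 F2539) (tt N1117 F2540))
theorem Q1554 : ∀ i, i < 1554 → P i := stepQ 1553 Q1553 (allL N1553 (tt N1153 F2541) (tt N2144 (iv F3487)) (tt N1151 F2542) (tt N1116 (iv D1553)) (tt N2145 D2145) (tt N1118 F2543))
theorem Q1555 : ∀ i, i < 1555 → P i := stepQ 1554 Q1554 (allL N1554 (tt N1117 (iv D1554)) (tt N1154 F2544) (tt N1749 (iv F2847)) (tt N2146 D2146) (tt N1119 F2545) (tt N2143 (iv F3486)))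
theorem Q1556 : ∀ i, i < 1556 → P i := stepQ 1555 Q1555 (allL N1555 (tt N2146 (iv F3493)) (tt N1118 F2546) (tt N2147 D2147) (tt N1117 (iv D1555)) (tt N1289 F2547) (tt N2144 (iv F3488)))
theorem Q1557 : ∀ i, i < 1557 → P i := stepQ 1556 Q1556 (allL N1556 (tt N1156 F2548) (tt N2148 D2148) (tt N1118 (iv D1556)) (tt N1149 F2549) (tt N1291 F2550) (tt N1151 F2551))
theorem Q1558 : ∀ i, i < 1558 → P i := stepQ 1557 Q1557 (allL N1557 (tt N1127 F2552) (tt N2149 D2149) (tt N1120 (iv D1557)) (tt N2150 D2150) (tt N1122 F2553) (tt N2151 D2151))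
theorem Q1559 : ∀ i, i < 1559 → P i := stepQ 1558 Q1558 (allL N1558 (tt N1128 F2554) (tt N2114 (iv F3428)) (tt N2151 (iv F3503)) (tt N1121 F2555) (tt N2152 D2152) (tt N1120 (iv D1558)))
theorem Q1560 : ∀ i, i < 1560 → P i := stepQ 1559 Q1559 (allL N1559 (tt N2153 D2153) (tt N1122 (iv D1559)) (tt N2115 (iv F3430)) (tt N2154 D2154) (tt N2149 (iv F3500)) (tt N2155 D2155))
theorem Q1561 : ∀ i, i < 1561 → P i := stepQ 1560 Q1560 (allL N1560 (tt N1130 F2556) (tt N2154 (iv F3507)) (tt N1170 F2557) (tt N1122 (iv D1560)) (tt N2156 D2156) (tt N1168 (iv F2558)))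
theorem Q1562 : ∀ i, i < 1562 → P i := stepQ 1561 Q1561 (allL N1561 (tt N1131 F2559) (tt N2155 (iv F3509)) (tt N1123 F2560) (tt N1168 F2561) (tt N2157 D2157) (tt N1122 (iv D1561)))
theorem Q1563 : ∀ i, i < 1563 → P i := stepQ 1562 Q1562 (allL N1562 (tt N1132 F2562) (tt N2118 (iv F3435)) (tt N2157 (iv F3514)) (tt N1876 (iv F3050)) (tt N1123 (iv D1562)) (tt N2152 (iv F3505)))
theorem Q1564 : ∀ i, i < 1564 → P i := stepQ 1563 Q1563 (allL N1563 (tt N1267 F2563) (tt N1125 F2564) (tt N2158 D2158) (tt N1124 (iv D1563)) (tt N1814 (iv F2943)) (tt N2159 D2159))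
theorem Q1565 : ∀ i, i < 1565 → P i := stepQ 1564 Q1564 (allL N1564 (tt N1268 F2565) (tt N1126 F2566) (tt N1134 F2567) (tt N2159 (iv F3518)) (tt N1268 F2568) (tt N1124 (iv D1564)))
theorem Q1566 : ∀ i, i < 1566 → P i := stepQ 1565 Q1565 (allL N1565 (tt N1828 (iv F2977)) (tt N2160 D2160) (tt N1125 (iv D1565)) (tt N2161 D2161) (tt N1816 (iv F2949)) (tt N2162 D2162))
theorem Q1567 : ∀ i, i < 1567 → P i := stepQ 1566 Q1566 (allL N1566 (tt N1829 (iv F2979)) (tt N2159 (iv F3517)) (tt N2162 (iv F3519)) (tt N1126 F2569) (tt N2163 D2163) (tt N1125 (iv D1566)))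
theorem Q1568 : ∀ i, i < 1568 → P i := stepQ 1567 Q1567 (allL N1567 (tt N2164 D2164) (tt N1127 (iv D1567)) (tt N1137 F2570) (tt N2165 D2165) (tt N1129 F2571) (tt N2166 D2166))
theorem Q1569 : ∀ i, i < 1569 → P i := stepQ 1568 Q1568 (allL N1568 (tt N2150 (iv F3501)) (tt N2165 (iv F3522)) (tt N2167 D2167) (tt N1127 (iv D1568)) (tt N2168 D2168) (tt N2169 D2169))
theorem Q1570 : ∀ i, i < 1570 → P i := stepQ 1569 Q1569 (allL N1569 (tt N2151 (iv F3502)) (tt N2166 (iv F3523)) (tt N1128 F2572) (tt N2169 (iv F3526)) (tt N2170 D2170) (tt N1127 (iv D1569)))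
theorem Q1571 : ∀ i, i < 1571 → P i := stepQ 1570 Q1570 (allL N1570 (tt N2152 (iv F3504)) (tt N1140 F2573) (tt N2170 (iv F3527)) (tt N1885 (iv F3063)) (tt N1128 (iv D1570)) (tt N1132 F2574))
theorem Q1572 : ∀ i, i < 1572 → P i := stepQ 1571 Q1571 (allL N1571 (tt N1129 (iv D1571)) (tt N2153 (iv F3506)) (tt N1143 F2575) (tt N2171 D2171) (tt N2164 (iv F3521)) (tt N2172 D2172))
theorem Q1573 : ∀ i, i < 1573 → P i := stepQ 1572 Q1572 (allL N1572 (tt N2171 (iv F3529)) (tt N1130 F2576) (tt N2173 D2173) (tt N1129 (iv D1572)) (tt N2174 D2174) (tt N2175 D2175))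
theorem Q1574 : ∀ i, i < 1574 → P i := stepQ 1573 Q1573 (allL N1573 (tt N2172 (iv F3530)) (tt N1131 F2577) (tt N1145 F2578) (tt N2175 (iv F3534)) (tt N2176 D2176) (tt N1129 (iv D1573)))
theorem Q1575 : ∀ i, i < 1575 → P i := stepQ 1574 Q1574 (allL N1574 (tt N1170 F2579) (tt N2177 D2177) (tt N1130 (iv D1574)) (tt N1164 F2580) (tt N2178 D2178) (tt N1163 (iv F2581)))
theorem Q1576 : ∀ i, i < 1576 → P i := stepQ 1575 Q1575 (allL N1575 (tt N2156 (iv F3511)) (tt N2174 (iv F3532)) (tt N2178 (iv F3540)) (tt N2168 (iv F3525)) (tt N1130 (iv D1575)) (tt N2179 D2179))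
theorem Q1577 : ∀ i, i < 1577 → P i := stepQ 1576 Q1576 (allL N1576 (tt N1168 F2582) (tt N2175 (iv F3533)) (tt N1163 F2583) (tt N1131 F2584) (tt N2180 D2180) (tt N1130 (iv D1576)))
theorem Q1578 : ∀ i, i < 1578 → P i := stepQ 1577 Q1577 (allL N1577 (tt N2157 (iv F3513)) (tt N2176 (iv F3535)) (tt N1132 F2585) (tt N2181 D2181) (tt N1131 (iv D1577)) (tt N2170 (iv F3528)))
theorem Q1579 : ∀ i, i < 1579 → P i := stepQ 1578 Q1578 (allL N1578 (tt N1269 F2586) (tt N2182 D2182) (tt N1133 (iv D1578)) (tt N2183 D2183) (tt N1265 F2587) (tt N2184 D2184))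
theorem Q1580 : ∀ i, i < 1580 → P i := stepQ 1579 Q1579 (allL N1579 (tt N1270 F2588) (tt N1136 F2589) (tt N2184 (iv F3547)) (tt N1134 F2590) (tt N2185 D2185) (tt N1133 (iv D1579)))
theorem Q1581 : ∀ i, i < 1581 → P i := stepQ 1580 Q1580 (allL N1580 (tt N2186 D2186) (tt N1135 (iv D1580)) (tt N2182 (iv F3543)) (tt N2187 D2187) (tt N1273 F2591) (tt N2188 D2188))
theorem Q1582 : ∀ i, i < 1582 → P i := stepQ 1581 Q1581 (allL N1581 (tt N1275 F2592) (tt N2187 (iv F3554)) (tt N2137 (iv F3467)) (tt N1135 (iv D1581)) (tt N1275 F2593) (tt N2136 F3465))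
theorem Q1583 : ∀ i, i < 1583 → P i := stepQ 1582 Q1582 (allL N1582 (tt N1276 F2594) (tt N2188 (iv F3556)) (tt N1136 F2595) (tt N2136 (iv F3463)) (tt N2189 D2189) (tt N1135 (iv D1582)))
theorem Q1584 : ∀ i, i < 1584 → P i := stepQ 1583 Q1583 (allL N1583 (tt N1277 F2596) (tt N2185 (iv F3549)) (tt N2189 (iv F3558)) (tt N1235 F2597) (tt N1136 (iv D1583)) (tt N1234 F2598))
theorem Q1585 : ∀ i, i < 1585 → P i := stepQ 1584 Q1584 (allL N1584 (tt N1137 (iv D1584)) (tt N2133 (iv F3456)) (tt N2164 (iv F3520)) (tt N2190 D2190) (tt N1143 F2599) (tt N2191 D2191))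
theorem Q1586 : ∀ i, i < 1586 → P i := stepQ 1585 Q1585 (allL N1585 (tt N2190 (iv F3560)) (tt N1138 F2600) (tt N2192 D2192) (tt N1137 (iv D1585)) (tt N2193 D2193) (tt N2194 D2194))
theorem Q1587 : ∀ i, i < 1587 → P i := stepQ 1586 Q1586 (allL N1586 (tt N2191 (iv F3561)) (tt N1139 F2601) (tt N2166 (iv F3524)) (tt N2194 (iv F3566)) (tt N2195 D2195) (tt N1137 (iv D1586)))
theorem Q1588 : ∀ i, i < 1588 → P i := stepQ 1587 Q1587 (allL N1587 (tt N2136 (iv F3462)) (tt N2196 D2196) (tt N1138 (iv D1587)) (tt N1276 F2602) (tt N2197 D2197) (tt N1275 (iv F2603)))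
theorem Q1589 : ∀ i, i < 1589 → P i := stepQ 1588 Q1588 (allL N1588 (tt N1211 F2604) (tt N2193 (iv F3562)) (tt N2197 (iv F3573)) (tt N1146 F2605) (tt N1138 (iv D1588)) (tt N1211 (iv F2606)))
theorem Q1590 : ∀ i, i < 1590 → P i := stepQ 1589 Q1589 (allL N1589 (tt N2137 (iv F3466)) (tt N2194 (iv F3565)) (tt N1275 F2607) (tt N1139 F2608) (tt N2137 (iv F3469)) (tt N1138 (iv D1589)))
theorem Q1591 : ∀ i, i < 1591 → P i := stepQ 1590 Q1590 (allL N1590 (tt N1210 F2609) (tt N2195 (iv F3567)) (tt N1140 F2610) (tt N1210 (iv F2612)) (tt N1139 (iv D1590)) (tt N1147 F2611))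
theorem Q1592 : ∀ i, i < 1592 → P i := stepQ 1591 Q1591 (allL N1591 (tt N1287 F2613) (tt N1885 (iv F3062)) (tt N2198 D2198) (tt N1140 (iv D1591)) (tt N1141 F2614) (tt N1148 F2615))
theorem Q1593 : ∀ i, i < 1593 → P i := stepQ 1592 Q1592 (allL N1592 (tt N1286 F2616) (tt N2199 D2199) (tt N1141 (iv D1592)) (tt N1291 F2618) (tt N2198 (iv F3577)) (tt N1142 F2617))
theorem Q1594 : ∀ i, i < 1594 → P i := stepQ 1593 Q1593 (allL N1593 (tt N2200 D2200) (tt N1142 (iv D1593)) (tt N1882 (iv F3059)) (tt N2201 D2201) (tt N1150 F2619) (tt N2199 (iv F3580)))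
theorem Q1595 : ∀ i, i < 1595 → P i := stepQ 1594 Q1594 (allL N1594 (tt N1285 F2620) (tt N2201 (iv F3583)) (tt N1292 F2622) (tt N1142 (iv D1594)) (tt N2202 D2202) (tt N1291 F2621))
theorem Q1596 : ∀ i, i < 1596 → P i := stepQ 1595 Q1595 (allL N1595 (tt N1144 F2623) (tt N1206 F2624) (tt N2203 D2203) (tt N1143 (iv D1595)) (tt N2204 D2204) (tt N1179 (iv F2625)))
theorem Q1597 : ∀ i, i < 1597 → P i := stepQ 1596 Q1596 (allL N1596 (tt N1145 F2626) (tt N1205 F2627) (tt N2172 (iv F3531)) (tt N1179 F2628) (tt N2205 D2205) (tt N1143 (iv D1596)))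
theorem Q1598 : ∀ i, i < 1598 → P i := stepQ 1597 Q1597 (allL N1597 (tt N2203 (iv F3589)) (tt N1177 F2629) (tt N1144 (iv D1597)) (tt N1997 (iv F3254)) (tt N2206 D2206) (tt N1175 F2630))
theorem Q1599 : ∀ i, i < 1599 → P i := stepQ 1598 Q1598 (allL N1598 (tt N2204 (iv F3591)) (tt N1146 F2631) (tt N2206 (iv F3598)) (tt N2193 (iv F3563)) (tt N1144 (iv D1598)) (tt N1209 F2632))
theorem Q1600 : ∀ i, i < 1600 → P i := stepQ 1599 Q1599 (allL N1599 (tt N2205 (iv F3594)) (tt N1147 F2633) (tt N2176 (iv F3536)) (tt N1208 F2634) (tt N1145 (iv D1599)) (tt N2195 (iv F3568)))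
theorem Q1601 : ∀ i, i < 1601 → P i := stepQ 1600 Q1600 (allL N1600 (tt N2138 (iv F3470)) (tt N2207 D2207) (tt N1148 (iv D1600)) (tt N2198 (iv F3576)) (tt N1149 F2635) (tt N2198 (iv F3578)))
theorem Q1602 : ∀ i, i < 1602 → P i := stepQ 1601 Q1601 (allL N1601 (tt N2208 D2208) (tt N1149 (iv D1601)) (tt N1888 (iv F3068)) (tt N2148 (iv F3497)) (tt N2207 (iv F3600)) (tt N1150 F2636))
theorem Q1603 : ∀ i, i < 1603 → P i := stepQ 1602 Q1602 (allL N1602 (tt N1150 (iv D1602)) (tt N2140 (iv F3476)) (tt N1886 (iv F3065)) (tt N2209 D2209) (tt N2200 (iv F3582)) (tt N2208 (iv F3601)))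
theorem Q1604 : ∀ i, i < 1604 → P i := stepQ 1603 Q1603 (allL N1603 (tt N2209 (iv F3602)) (tt N1151 F2637) (tt N2210 D2210) (tt N1150 (iv D1603)) (tt N2211 D2211) (tt N2148 (iv F3499)))
theorem Q1605 : ∀ i, i < 1605 → P i := stepQ 1604 Q1604 (allL N1604 (tt N2142 (iv F3480)) (tt N2211 (iv F3603)) (tt N2145 (iv F3490)) (tt N2202 (iv F3587)) (tt N1151 (iv D1604)) (tt N2202 (iv F3588)))
theorem Q1606 : ∀ i, i < 1606 → P i := stepQ 1605 Q1605 (allL N1605 (tt N1152 (iv D1605)) (tt N2143 (iv F3484)) (tt N1172 F2638) (tt N2212 D2212) (tt N1217 F2639) (tt N1154 F2640))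
theorem Q1607 : ∀ i, i < 1607 → P i := stepQ 1606 Q1606 (allL N1606 (tt N2212 (iv F3604)) (tt N1153 F2641) (tt N2213 D2213) (tt N1152 (iv D1606)) (tt N2214 D2214) (tt N1155 F2642))
theorem Q1608 : ∀ i, i < 1608 → P i := stepQ 1607 Q1607 (allL N1607 (tt N2145 (iv F3489)) (tt N2214 (iv F3607)) (tt N2142 (iv F3481)) (tt N1219 F2643) (tt N1153 (iv D1607)) (tt N2215 D2215))
theorem Q1609 : ∀ i, i < 1609 → P i := stepQ 1608 Q1608 (allL N1608 (tt N1155 F2644) (tt N2146 (iv F3494)) (tt N2216 D2216) (tt N1154 (iv D1608)) (tt N2217 D2217) (tt N2212 (iv F3605)))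
theorem Q1610 : ∀ i, i < 1610 → P i := stepQ 1609 Q1609 (allL N1609 (tt N2216 (iv F3613)) (tt N2218 D2218) (tt N1155 (iv D1609)) (tt N2219 D2219) (tt N2220 D2220) (tt N2213 (iv F3606)))
theorem Q1611 : ∀ i, i < 1611 → P i := stepQ 1610 Q1610 (allL N1610 (tt N2217 (iv F3614)) (tt N1157 F2645) (tt N2220 (iv F3618)) (tt N1160 F2646) (tt N1155 (iv D1610)) (tt N2221 D2221))
theorem Q1612 : ∀ i, i < 1612 → P i := stepQ 1611 Q1611 (allL N1611 (tt N2222 D2222) (tt N1156 (iv D1611)) (tt N2218 (iv F3617)) (tt N2139 (iv F3474)) (tt N2223 D2223) (tt N2141 (iv F3479)))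
theorem Q1613 : ∀ i, i < 1613 → P i := stepQ 1612 Q1612 (allL N1612 (tt N1291 F2647) (tt N2223 (iv F3621)) (tt N1157 F2648) (tt N1286 (iv F2649)) (tt N1156 (iv D1612)) (tt N1285 F2650))
theorem Q1614 : ∀ i, i < 1614 → P i := stepQ 1613 Q1613 (allL N1613 (tt N1292 F2651) (tt N2221 (iv F3619)) (tt N1285 F2652) (tt N1161 F2653) (tt N2215 (iv F3612)) (tt N1157 (iv D1613)))
theorem Q1615 : ∀ i, i < 1615 → P i := stepQ 1614 Q1614 (allL N1614 (tt N1159 F2654) (tt N1983 (iv F3229)) (tt N1158 (iv D1614)) (tt N1262 F2655) (tt N2224 D2224) (tt N1226 F2656))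
theorem Q1616 : ∀ i, i < 1616 → P i := stepQ 1615 Q1615 (allL N1615 (tt N1160 F2657) (tt N1288 F2658) (tt N2224 (iv F3625)) (tt N2217 (iv F3616)) (tt N1158 (iv D1615)) (tt N2225 D2225))
theorem Q1617 : ∀ i, i < 1617 → P i := stepQ 1616 Q1616 (allL N1616 (tt N1262 F2659) (tt N1271 F2660) (tt N1260 F2661) (tt N1159 (iv D1616)) (tt N2226 D2226) (tt N1229 F2662))
theorem Q1618 : ∀ i, i < 1618 → P i := stepQ 1617 Q1617 (allL N1617 (tt N2224 (iv F3624)) (tt N1269 F2663) (tt N1160 F2664) (tt N2227 D2227) (tt N1159 (iv D1617)) (tt N2228 D2228))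
theorem Q1619 : ∀ i, i < 1619 → P i := stepQ 1618 Q1618 (allL N1618 (tt N2225 (iv F3626)) (tt N1161 F2665) (tt N2228 (iv F3634)) (tt N2221 (iv F3620)) (tt N1231 F2666) (tt N1160 (iv D1618)))
theorem Q1620 : ∀ i, i < 1620 → P i := stepQ 1619 Q1619 (allL N1619 (tt N1162 (iv D1619)) (tt N1166 F2667) (tt N1964 (iv F3188)) (tt N2229 D2229) (tt N1877 (iv F3053)) (tt N1743 (iv F2837)))
theorem Q1621 : ∀ i, i < 1621 → P i := stepQ 1620 Q1620 (allL N1620 (tt N2229 (iv F3636)) (tt N1163 F2668) (tt N2230 D2230) (tt N1162 (iv D1620)) (tt N2231 D2231) (tt N2177 (iv F3538)))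
theorem Q1622 : ∀ i, i < 1622 → P i := stepQ 1621 Q1621 (allL N1621 (tt N1743 (iv F2835)) (tt N1164 F2669) (tt N1966 (iv F3194)) (tt N2177 (iv F3537)) (tt N2232 D2232) (tt N1162 (iv D1621)))
theorem Q1623 : ∀ i, i < 1623 → P i := stepQ 1622 Q1622 (allL N1622 (tt N1169 F2670) (tt N2231 (iv F3638)) (tt N2180 (iv F3542)) (tt N1879 (iv F3056)) (tt N1163 (iv D1622)) (tt N2233 D2233))
theorem Q1624 : ∀ i, i < 1624 → P i := stepQ 1623 Q1623 (allL N1623 (tt N1171 F2671) (tt N2232 (iv F3639)) (tt N1165 F2672) (tt N2234 D2234) (tt N1164 (iv D1623)) (tt N1854 (iv F3019)))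
theorem Q1625 : ∀ i, i < 1625 → P i := stepQ 1624 Q1624 (allL N1624 (tt N1167 F2673) (tt N2229 (iv F3637)) (tt N1695 (iv F2770)) (tt N1166 (iv D1624)) (tt N2235 D2235) (tt N1744 (iv F2839)))
theorem Q1626 : ∀ i, i < 1626 → P i := stepQ 1625 Q1625 (allL N1625 (tt N1695 (iv F2769)) (tt N2236 D2236) (tt N1167 (iv D1625)) (tt N1692 (iv F2765)) (tt N2237 D2237) (tt N1746 (iv F2842)))
theorem Q1627 : ∀ i, i < 1627 → P i := stepQ 1626 Q1626 (allL N1626 (tt N2235 (iv F3642)) (tt N1169 F2674) (tt N2237 (iv F3644)) (tt N1893 (iv F3072)) (tt N1167 (iv D1626)) (tt N2238 D2238))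
theorem Q1628 : ∀ i, i < 1628 → P i := stepQ 1627 Q1627 (allL N1627 (tt N2239 D2239) (tt N1168 (iv D1627)) (tt N2236 (iv F3643)) (tt N2155 (iv F3510)) (tt N2240 D2240) (tt N2154 F3508))
theorem Q1629 : ∀ i, i < 1629 → P i := stepQ 1628 Q1628 (allL N1628 (tt N2180 (iv F3541)) (tt N2240 (iv F3646)) (tt N1169 F2675) (tt N2241 D2241) (tt N1168 (iv D1628)) (tt N2242 D2242))
theorem Q1630 : ∀ i, i < 1630 → P i := stepQ 1629 Q1629 (allL N1629 (tt N2233 (iv F3640)) (tt N2238 (iv F3645)) (tt N2242 (iv F3647)) (tt N1896 (iv F3074)) (tt N2243 D2243) (tt N1169 (iv D1629)))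
theorem Q1631 : ∀ i, i < 1631 → P i := stepQ 1630 Q1630 (allL N1630 (tt N2178 (iv F3539)) (tt N1747 (iv F2843)) (tt N2156 (iv F3512)) (tt N2244 D2244) (tt N1170 (iv D1630)) (tt N2243 (iv F3648)))
theorem Q1632 : ∀ i, i < 1632 → P i := stepQ 1631 Q1631 (allL N1631 (tt N2234 (iv F3641)) (tt N1748 (iv F2844)) (tt N2245 D2245) (tt N1171 (iv D1631)) (tt N2244 (iv F3649)) (tt N1869 (iv F3038)))
theorem Q1633 : ∀ i, i < 1633 → P i := stepQ 1632 Q1632 (allL N1632 (tt N1174 F2676) (tt N2246 D2246) (tt N1173 (iv D1632)) (tt N2247 D2247) (tt N1252 F2677) (tt N2054 (iv F3339)))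
theorem Q1634 : ∀ i, i < 1634 → P i := stepQ 1633 Q1633 (allL N1633 (tt N2247 (iv F3651)) (tt N1976 (iv F3211)) (tt N2248 D2248) (tt N1174 (iv D1633)) (tt N2249 D2249) (tt N2055 (iv F3341)))
theorem Q1635 : ∀ i, i < 1635 → P i := stepQ 1634 Q1634 (allL N1634 (tt N1175 (iv D1634)) (tt N1986 (iv F3235)) (tt N1179 F2678) (tt N2250 D2250) (tt N1198 F2679) (tt N2203 (iv F3590)))
theorem Q1636 : ∀ i, i < 1636 → P i := stepQ 1635 Q1635 (allL N1635 (tt N2250 (iv F3653)) (tt N1176 F2680) (tt N2251 D2251) (tt N1175 (iv D1635)) (tt N2252 D2252) (tt N1997 (iv F3255)))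
theorem Q1637 : ∀ i, i < 1637 → P i := stepQ 1636 Q1636 (allL N1636 (tt N1989 (iv F3241)) (tt N2252 (iv F3654)) (tt N2000 (iv F3258)) (tt N1202 F2681) (tt N1176 (iv D1636)) (tt N2253 D2253))
theorem Q1638 : ∀ i, i < 1638 → P i := stepQ 1637 Q1637 (allL N1637 (tt N1990 (iv F3243)) (tt N2206 (iv F3597)) (tt N1178 F2682) (tt N2254 D2254) (tt N1177 (iv D1637)) (tt N1204 F2683))
theorem Q1639 : ∀ i, i < 1639 → P i := stepQ 1638 Q1638 (allL N1638 (tt N1212 F2684) (tt N2255 D2255) (tt N1180 (iv D1638)) (tt N2256 D2256) (tt N1181 F2685) (tt N1212 F2686))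
theorem Q1640 : ∀ i, i < 1640 → P i := stepQ 1639 Q1639 (allL N1639 (tt N2257 D2257) (tt N1181 (iv D1639)) (tt N1446 F2687) (tt N1223 F2688) (tt N2255 (iv F3659)) (tt N1182 F2689))
theorem Q1641 : ∀ i, i < 1641 → P i := stepQ 1640 Q1640 (allL N1640 (tt N1182 (iv D1640)) (tt N1214 F2690) (tt N1444 F2691) (tt N2258 D2258) (tt N1214 F2692) (tt N2257 (iv F3667)))
theorem Q1642 : ∀ i, i < 1642 → P i := stepQ 1641 Q1641 (allL N1641 (tt N2258 (iv F3668)) (tt N1183 F2693) (tt N2259 D2259) (tt N1182 (iv D1641)) (tt N2260 D2260) (tt N1223 F2694))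
theorem Q1643 : ∀ i, i < 1643 → P i := stepQ 1642 Q1642 (allL N1642 (tt N1216 F2695) (tt N2260 (iv F3673)) (tt N1219 F2696) (tt N1216 F2697) (tt N1183 (iv D1642)) (tt N2261 D2261))
theorem Q1644 : ∀ i, i < 1644 → P i := stepQ 1643 Q1643 (allL N1643 (tt N1184 (iv D1643)) (tt N1217 F2698) (tt N1715 (iv F2800)) (tt N2262 D2262) (tt N2143 (iv F3485)) (tt N1186 F2699))
theorem Q1645 : ∀ i, i < 1645 → P i := stepQ 1644 Q1644 (allL N1644 (tt N2262 (iv F3679)) (tt N1185 F2700) (tt N2263 D2263) (tt N1184 (iv D1644)) (tt N2264 D2264) (tt N1187 F2701))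
theorem Q1646 : ∀ i, i < 1646 → P i := stepQ 1645 Q1645 (allL N1645 (tt N1219 F2702) (tt N2264 (iv F3684)) (tt N1216 F2703) (tt N2145 (iv F3491)) (tt N1185 (iv D1645)) (tt N2265 D2265))
theorem Q1647 : ∀ i, i < 1647 → P i := stepQ 1646 Q1646 (allL N1646 (tt N1187 F2704) (tt N1220 F2705) (tt N2266 D2266) (tt N1186 (iv D1646)) (tt N2267 D2267) (tt N2262 (iv F3681)))
theorem Q1648 : ∀ i, i < 1648 → P i := stepQ 1647 Q1647 (allL N1647 (tt N2266 (iv F3689)) (tt N2268 D2268) (tt N1187 (iv D1647)) (tt N2269 D2269) (tt N2270 D2270) (tt N2263 (iv F3683)))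
theorem Q1649 : ∀ i, i < 1649 → P i := stepQ 1648 Q1648 (allL N1648 (tt N2267 (iv F3690)) (tt N1189 F2706) (tt N2270 (iv F3695)) (tt N1192 F2707) (tt N1187 (iv D1648)) (tt N2271 D2271))
theorem Q1650 : ∀ i, i < 1650 → P i := stepQ 1649 Q1649 (allL N1649 (tt N2272 D2272) (tt N1188 (iv D1649)) (tt N2268 (iv F3693)) (tt N1213 F2708) (tt N2273 D2273) (tt N1215 F2709))
theorem Q1651 : ∀ i, i < 1651 → P i := stepQ 1650 Q1650 (allL N1650 (tt N1224 F2710) (tt N2273 (iv F3701)) (tt N1189 F2711) (tt N2274 D2274) (tt N1188 (iv D1650)) (tt N2275 D2275))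
theorem Q1652 : ∀ i, i < 1652 → P i := stepQ 1651 Q1651 (allL N1651 (tt N1225 F2712) (tt N2271 (iv F3696)) (tt N2275 (iv F3705)) (tt N1193 F2713) (tt N2265 (iv F3688)) (tt N1189 (iv D1651)))
theorem Q1653 : ∀ i, i < 1653 → P i := stepQ 1652 Q1652 (allL N1652 (tt N1191 F2714) (tt N2276 D2276) (tt N1190 (iv D1652)) (tt N2276 F3710) (tt N2277 D2277) (tt N1278 F2715))
theorem Q1654 : ∀ i, i < 1654 → P i := stepQ 1653 Q1653 (allL N1653 (tt N1192 F2716) (tt N1227 F2717) (tt N2277 (iv F3712)) (tt N2267 (iv F3692)) (tt N1190 (iv D1653)) (tt N2278 D2278))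
theorem Q1655 : ∀ i, i < 1655 → P i := stepQ 1654 Q1654 (allL N1654 (tt N2276 (iv F3707)) (tt N1272 F2718) (tt N2279 D2279) (tt N1191 (iv D1654)) (tt N2280 D2280) (tt N1273 F2719))
theorem Q1656 : ∀ i, i < 1656 → P i := stepQ 1655 Q1655 (allL N1655 (tt N2277 (iv F3711)) (tt N1279 F2720) (tt N1192 F2721) (tt N2281 D2281) (tt N1191 (iv D1655)) (tt N2282 D2282))
theorem Q1657 : ∀ i, i < 1657 → P i := stepQ 1656 Q1656 (allL N1656 (tt N2278 (iv F3713)) (tt N1193 F2722) (tt N2282 (iv F3723)) (tt N2271 (iv F3697)) (tt N1290 F2723) (tt N1192 (iv D1656)))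
theorem Q1658 : ∀ i, i < 1658 → P i := stepQ 1657 Q1657 (allL N1657 (tt N1194 (iv D1657)) (tt N1198 F2724) (tt N1986 (iv F3236)) (tt N2283 D2283) (tt N1986 (iv F3237)) (tt N2284 D2284))
theorem Q1659 : ∀ i, i < 1659 → P i := stepQ 1658 Q1658 (allL N1658 (tt N2283 (iv F3725)) (tt N1195 F2725) (tt N2285 D2285) (tt N1194 (iv D1658)) (tt N2286 D2286) (tt N1247 (iv F2726)))
theorem Q1660 : ∀ i, i < 1660 → P i := stepQ 1659 Q1659 (allL N1659 (tt N2284 (iv F3728)) (tt N1196 F2727) (tt N1988 (iv F3240)) (tt N1247 F2728) (tt N2287 D2287) (tt N1194 (iv D1659)))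
theorem Q1661 : ∀ i, i < 1661 → P i := stepQ 1660 Q1660 (allL N1660 (tt N1202 F2729) (tt N2286 (iv F3733)) (tt N1250 F2730) (tt N1989 (iv F3242)) (tt N1195 (iv D1660)) (tt N2288 D2288))
theorem Q1662 : ∀ i, i < 1662 → P i := stepQ 1661 Q1661 (allL N1661 (tt N1204 F2731) (tt N2287 (iv F3734)) (tt N1197 F2732) (tt N2289 D2289) (tt N1196 (iv D1661)) (tt N1990 (iv F3245)))
theorem Q1663 : ∀ i, i < 1663 → P i := stepQ 1662 Q1662 (allL N1662 (tt N1199 F2733) (tt N2283 (iv F3726)) (tt N2290 D2290) (tt N1198 (iv D1662)) (tt N2291 D2291) (tt N2292 D2292))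
theorem Q1664 : ∀ i, i < 1664 → P i := stepQ 1663 Q1663 (allL N1663 (tt N1200 F2734) (tt N2284 (iv F3729)) (tt N1206 F2735) (tt N2292 (iv F3744)) (tt N2293 D2293) (tt N1198 (iv D1663)))
theorem Q1665 : ∀ i, i < 1665 → P i := stepQ 1664 Q1664 (allL N1664 (tt N2290 (iv F3740)) (tt N2294 D2294) (tt N1199 (iv D1664)) (tt N2295 D2295) (tt N2296 D2296) (tt N2297 D2297))
theorem Q1666 : ∀ i, i < 1666 → P i := stepQ 1665 Q1665 (allL N1665 (tt N2291 (iv F3741)) (tt N1202 F2736) (tt N2296 (iv F3749)) (tt N2252 (iv F3655)) (tt N1199 (iv D1665)) (tt N2298 D2298))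
theorem Q1667 : ∀ i, i < 1667 → P i := stepQ 1666 Q1666 (allL N1666 (tt N2292 (iv F3742)) (tt N1203 F2737) (tt N2297 (iv F3751)) (tt N1200 F2738) (tt N2299 D2299) (tt N1199 (iv D1666)))
theorem Q1668 : ∀ i, i < 1668 → P i := stepQ 1667 Q1667 (allL N1667 (tt N2293 (iv F3745)) (tt N1204 F2739) (tt N1209 F2740) (tt N2300 D2300) (tt N1200 (iv D1667)) (tt N2206 (iv F3599)))
theorem Q1669 : ∀ i, i < 1669 → P i := stepQ 1668 Q1668 (allL N1668 (tt N2301 D2301) (tt N1201 (iv D1668)) (tt N2294 (iv F3747)) (tt N1238 F2741) (tt N2302 D2302) (tt N1237 F2742))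
theorem Q1670 : ∀ i, i < 1670 → P i := stepQ 1669 Q1669 (allL N1669 (tt N1250 F2743) (tt N2302 (iv F3758)) (tt N1202 F2744) (tt N2303 D2303) (tt N1201 (iv D1669)) (tt N2304 D2304))
theorem Q1671 : ∀ i, i < 1671 → P i := stepQ 1670 Q1670 (allL N1670 (tt N2288 (iv F3735)) (tt N2298 (iv F3752)) (tt N2304 (iv F3763)) (tt N2253 (iv F3656)) (tt N2305 D2305) (tt N1202 (iv D1670)))
theorem Q1672 : ∀ i, i < 1672 → P i := stepQ 1671 Q1671 (allL N1671 (tt N1248 F2745) (tt N2299 (iv F3753)) (tt N1239 F2746) (tt N2306 D2306) (tt N1203 (iv D1671)) (tt N2305 (iv F3767)))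
theorem Q1673 : ∀ i, i < 1673 → P i := stepQ 1672 Q1672 (allL N1672 (tt N2289 (iv F3738)) (tt N2300 (iv F3754)) (tt N2307 D2307) (tt N1204 (iv D1672)) (tt N2306 (iv F3769)) (tt N2254 (iv F3657)))
theorem Q1674 : ∀ i, i < 1674 → P i := stepQ 1673 Q1673 (allL N1673 (tt N1207 F2747) (tt N2308 D2308) (tt N1205 (iv D1673)) (tt N2309 D2309) (tt N2310 D2310) (tt N2123 (iv F3443)))
theorem Q1675 : ∀ i, i < 1675 → P i := stepQ 1674 Q1674 (allL N1674 (tt N1208 F2748) (tt N2205 (iv F3595)) (tt N2310 (iv F3772)) (tt N2205 (iv F3596)) (tt N1205 (iv D1674)) (tt N2311 D2311))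
theorem Q1676 : ∀ i, i < 1676 → P i := stepQ 1675 Q1675 (allL N1675 (tt N1209 F2749) (tt N2204 (iv F3592)) (tt N2293 (iv F3746)) (tt N2312 D2312) (tt N1206 (iv D1675)) (tt N2204 (iv F3593)))
theorem Q1677 : ∀ i, i < 1677 → P i := stepQ 1676 Q1676 (allL N1676 (tt N2309 (iv F3770)) (tt N2127 (iv F3446)) (tt N2313 D2313) (tt N1207 (iv D1676)) (tt N2314 D2314) (tt N2124 (iv F3445)))
theorem Q1678 : ∀ i, i < 1678 → P i := stepQ 1677 Q1677 (allL N1677 (tt N2310 (iv F3771)) (tt N2128 (iv F3448)) (tt N1208 F2750) (tt N2315 D2315) (tt N1207 (iv D1677)) (tt N2316 D2316))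
theorem Q1679 : ∀ i, i < 1679 → P i := stepQ 1678 Q1678 (allL N1678 (tt N2311 (iv F3773)) (tt N1210 F2751) (tt N2316 (iv F3775)) (tt N2195 F3569) (tt N2135 (iv F3461)) (tt N1208 (iv D1678)))
theorem Q1680 : ∀ i, i < 1680 → P i := stepQ 1679 Q1679 (allL N1679 (tt N2312 (iv F3774)) (tt N1211 F2752) (tt N2317 D2317) (tt N1209 (iv D1679)) (tt N2134 (iv F3459)) (tt N2193 F3564))
theorem Q1681 : ∀ i, i < 1681 → P i := stepQ 1680 Q1680 (allL N1680 (tt N2197 (iv F3572)) (tt N2318 D2318) (tt N1211 (iv D1680)) (tt N2319 D2319) (tt N2136 (iv F3464)) (tt N2197 (iv F3574)))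
theorem Q1682 : ∀ i, i < 1682 → P i := stepQ 1681 Q1681 (allL N1681 (tt N2320 D2320) (tt N1212 (iv D1681)) (tt N1455 F2753) (tt N2321 D2321) (tt N1213 F2754) (tt N2255 (iv F3660)))
theorem Q1683 : ∀ i, i < 1683 → P i := stepQ 1682 Q1682 (allL N1682 (tt N2256 (iv F3661)) (tt N2321 (iv F3779)) (tt N2319 (iv F3776)) (tt N1212 (iv D1682)) (tt N2274 (iv F3703)) (tt N2256 (iv F3663)))
theorem Q1684 : ∀ i, i < 1684 → P i := stepQ 1683 Q1683 (allL N1683 (tt N1213 (iv D1683)) (tt N2257 (iv F3664)) (tt N1452 F2755) (tt N2272 (iv F3699)) (tt N2320 (iv F3778)) (tt N1214 F2756))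
theorem Q1685 : ∀ i, i < 1685 → P i := stepQ 1684 Q1684 (allL N1684 (tt N1215 F2757) (tt N2258 (iv F3669)) (tt N2322 D2322) (tt N1214 (iv D1684)) (tt N2323 D2323) (tt N2272 (iv F3700)))
theorem Q1686 : ∀ i, i < 1686 → P i := stepQ 1685 Q1685 (allL N1685 (tt N2322 (iv F3780)) (tt N2263 (iv F3682)) (tt N1215 (iv D1685)) (tt N2324 D2324) (tt N2325 D2325) (tt N2268 (iv F3694)))
theorem Q1687 : ∀ i, i < 1687 → P i := stepQ 1686 Q1686 (allL N1686 (tt N2323 (iv F3781)) (tt N1216 F2758) (tt N2325 (iv F3782)) (tt N2260 (iv F3674)) (tt N1215 (iv D1686)) (tt N2326 D2326))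
theorem Q1688 : ∀ i, i < 1688 → P i := stepQ 1687 Q1687 (allL N1687 (tt N2261 (iv F3675)) (tt N2326 (iv F3783)) (tt N2265 (iv F3686)) (tt N2261 (iv F3677)) (tt N2275 (iv F3706)) (tt N1216 (iv D1687)))
theorem Q1689 : ∀ i, i < 1689 → P i := stepQ 1688 Q1688 (allL N1688 (tt N1218 F2759) (tt N2262 (iv F3680)) (tt N2327 D2327) (tt N1217 (iv D1688)) (tt N2328 D2328) (tt N1220 F2760))
theorem Q1690 : ∀ i, i < 1690 → P i := stepQ 1689 Q1689 (allL N1689 (tt N2327 (iv F3784)) (tt N2259 (iv F3671)) (tt N1218 (iv D1689)) (tt N2329 D2329) (tt N2330 D2330) (tt N1221 F2761))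
theorem Q1691 : ∀ i, i < 1691 → P i := stepQ 1690 Q1690 (allL N1690 (tt N2328 (iv F3787)) (tt N1219 F2762) (tt N2330 (iv F3791)) (tt N2214 (iv F3608)) (tt N1218 (iv D1690)) (tt N2331 D2331))
theorem Q1692 : ∀ i, i < 1692 → P i := stepQ 1691 Q1691 (allL N1691 (tt N2265 (iv F3685)) (tt N2331 (iv F3792)) (tt N2261 (iv F3676)) (tt N2215 (iv F3611)) (tt N1225 F2763) (tt N1219 (iv D1691)))
theorem Q1693 : ∀ i, i < 1693 → P i := stepQ 1692 Q1692 (allL N1692 (tt N1221 F2764) (tt N2332 D2332) (tt N1220 (iv D1692)) (tt N1625 F2765) (tt N2333 D2333) (tt N2327 (iv F3786)))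
theorem Q1694 : ∀ i, i < 1694 → P i := stepQ 1693 Q1693 (allL N1693 (tt N1222 F2766) (tt N2267 (iv F3691)) (tt N2333 (iv F3796)) (tt N1227 F2767) (tt N1220 (iv D1693)) (tt N2334 D2334))
theorem Q1695 : ∀ i, i < 1695 → P i := stepQ 1694 Q1694 (allL N1694 (tt N2335 D2335) (tt N1221 (iv D1694)) (tt N1223 F2768) (tt N2336 D2336) (tt N2337 D2337) (tt N2259 (iv F3672)))
theorem Q1696 : ∀ i, i < 1696 → P i := stepQ 1695 Q1695 (allL N1695 (tt N1625 F2769) (tt N2336 (iv F3800)) (tt N1624 F2770) (tt N1221 (iv D1695)) (tt N2338 D2338) (tt N2329 (iv F3790)))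
theorem Q1697 : ∀ i, i < 1697 → P i := stepQ 1696 Q1696 (allL N1696 (tt N2333 (iv F3795)) (tt N2337 (iv F3801)) (tt N1222 F2771) (tt N2339 D2339) (tt N1221 (iv D1696)) (tt N2340 D2340))
theorem Q1698 : ∀ i, i < 1698 → P i := stepQ 1697 Q1697 (allL N1697 (tt N2334 (iv F3797)) (tt N1225 F2772) (tt N2340 (iv F3805)) (tt N1231 F2773) (tt N2331 (iv F3793)) (tt N1222 (iv D1697)))
theorem Q1699 : ∀ i, i < 1699 → P i := stepQ 1698 Q1698 (allL N1698 (tt N1223 (iv D1698)) (tt N2272 (iv F3698)) (tt N2335 (iv F3799)) (tt N2257 (iv F3666)) (tt N2341 D2341) (tt N2258 (iv F3670)))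
theorem Q1700 : ∀ i, i < 1700 → P i := stepQ 1699 Q1699 (allL N1699 (tt N2341 (iv F3806)) (tt N1224 F2774) (tt N2337 (iv F3802)) (tt N2342 D2342) (tt N1223 (iv D1699)) (tt N2343 D2343))
theorem Q1701 : ∀ i, i < 1701 → P i := stepQ 1700 Q1700 (allL N1700 (tt N2274 (iv F3702)) (tt N2342 (iv F3807)) (tt N2344 D2344) (tt N1224 (iv D1700)) (tt N2256 (iv F3662)) (tt N2345 D2345))
theorem Q1702 : ∀ i, i < 1702 → P i := stepQ 1701 Q1701 (allL N1701 (tt N2275 (iv F3704)) (tt N2343 (iv F3808)) (tt N1225 F2775) (tt N2345 (iv F3812)) (tt N2261 (iv F3678)) (tt N1224 (iv D1701)))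
theorem Q1703 : ∀ i, i < 1703 → P i := stepQ 1702 Q1702 (allL N1702 (tt N2279 (iv F3716)) (tt N1226 (iv D1702)) (tt N2276 (iv F3708)) (tt N1459 F2776) (tt N2346 D2346) (tt N1983 (iv F3230)))
theorem Q1704 : ∀ i, i < 1704 → P i := stepQ 1703 Q1703 (allL N1703 (tt N1230 F2777) (tt N2346 (iv F3813)) (tt N1227 F2778) (tt N2347 D2347) (tt N1226 (iv D1703)) (tt N2348 D2348))
theorem Q1705 : ∀ i, i < 1705 → P i := stepQ 1704 Q1704 (allL N1704 (tt N1231 F2779) (tt N2278 (iv F3714)) (tt N2348 (iv F3817)) (tt N2334 (iv F3798)) (tt N2225 (iv F3628)) (tt N1227 (iv D1704)))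
theorem Q1706 : ∀ i, i < 1706 → P i := stepQ 1705 Q1705 (allL N1705 (tt N1228 (iv D1705)) (tt N2279 (iv F3717)) (tt N1232 F2780) (tt N1764 (iv F2864)) (tt N2349 D2349) (tt N1265 F2781))
theorem Q1707 : ∀ i, i < 1707 → P i := stepQ 1706 Q1706 (allL N1706 (tt N1764 (iv F2862)) (tt N1229 F2782) (tt N1757 (iv F2857)) (tt N1228 (iv D1706)) (tt N2350 D2350) (tt N1271 F2783))
theorem Q1708 : ∀ i, i < 1708 → P i := stepQ 1707 Q1707 (allL N1707 (tt N2349 (iv F3818)) (tt N1230 F2784) (tt N1233 F2785) (tt N2351 D2351) (tt N1228 (iv D1707)) (tt N2352 D2352))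
theorem Q1709 : ∀ i, i < 1709 → P i := stepQ 1708 Q1708 (allL N1708 (tt N1460 F2786) (tt N2350 (iv F3820)) (tt N1458 F2787) (tt N2353 D2353) (tt N1229 (iv D1708)) (tt N2354 D2354))
theorem Q1710 : ∀ i, i < 1710 → P i := stepQ 1709 Q1709 (allL N1709 (tt N2347 (iv F3814)) (tt N2351 (iv F3821)) (tt N2355 D2355) (tt N1230 (iv D1709)) (tt N2353 (iv F3826)) (tt N2356 D2356))
theorem Q1711 : ∀ i, i < 1711 → P i := stepQ 1710 Q1710 (allL N1710 (tt N2348 (iv F3816)) (tt N2352 (iv F3822)) (tt N1231 F2788) (tt N2356 (iv F3829)) (tt N2228 (iv F3635)) (tt N1230 (iv D1710)))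
theorem Q1712 : ∀ i, i < 1712 → P i := stepQ 1711 Q1711 (allL N1711 (tt N1233 F2789) (tt N1234 F2790) (tt N2349 (iv F3819)) (tt N1233 F2791) (tt N1232 (iv D1711)) (tt N2185 (iv F3551)))
theorem Q1713 : ∀ i, i < 1713 → P i := stepQ 1712 Q1712 (allL N1712 (tt N2185 (iv F3548)) (tt N1235 F2792) (tt N2352 (iv F3823)) (tt N2185 (iv F3550)) (tt N1270 F2793) (tt N1233 (iv D1712)))
theorem Q1714 : ∀ i, i < 1714 → P i := stepQ 1713 Q1713 (allL N1713 (tt N1279 F2794) (tt N2280 (iv F3720)) (tt N1234 (iv D1713)) (tt N2357 D2357) (tt N1272 F2795) (tt N2189 (iv F3559)))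
theorem Q1715 : ∀ i, i < 1715 → P i := stepQ 1714 Q1714 (allL N1714 (tt N1237 F2796) (tt N1241 F2797) (tt N2358 D2358) (tt N1236 (iv D1714)) (tt N2359 D2359) (tt N2301 (iv F3757)))
theorem Q1716 : ∀ i, i < 1716 → P i := stepQ 1715 Q1715 (allL N1715 (tt N1238 F2798) (tt N1242 F2799) (tt N1643 F2800) (tt N2301 (iv F3756)) (tt N2360 D2360) (tt N1236 (iv D1715)))
theorem Q1717 : ∀ i, i < 1717 → P i := stepQ 1716 Q1716 (allL N1716 (tt N2358 (iv F3832)) (tt N2297 (iv F3750)) (tt N1237 (iv D1716)) (tt N2361 D2361) (tt N2362 D2362) (tt N2294 F3748))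
theorem Q1718 : ∀ i, i < 1718 → P i := stepQ 1717 Q1717 (allL N1717 (tt N2359 (iv F3833)) (tt N1239 F2801) (tt N2362 (iv F3840)) (tt N1438 F2802) (tt N1237 (iv D1717)) (tt N2363 D2363))
theorem Q1719 : ∀ i, i < 1719 → P i := stepQ 1718 Q1718 (allL N1718 (tt N2360 (iv F3836)) (tt N1240 F2803) (tt N1552 F2804) (tt N2364 D2364) (tt N1238 (iv D1718)) (tt N1389 F2805))
theorem Q1720 : ∀ i, i < 1720 → P i := stepQ 1719 Q1719 (allL N1719 (tt N1249 F2806) (tt N2363 (iv F3841)) (tt N2305 (iv F3766)) (tt N1439 F2807) (tt N2304 (iv F3764)) (tt N1239 (iv D1719)))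
theorem Q1721 : ∀ i, i < 1721 → P i := stepQ 1720 Q1720 (allL N1720 (tt N1251 F2808) (tt N2364 (iv F3843)) (tt N1417 F2810) (tt N1240 (iv D1720)) (tt N2303 (iv F3760)) (tt N1390 F2809))
theorem Q1722 : ∀ i, i < 1722 → P i := stepQ 1721 Q1721 (allL N1721 (tt N1243 F2811) (tt N2365 D2365) (tt N1241 (iv D1721)) (tt N1970 (iv F3205)) (tt N2366 D2366) (tt N2367 D2367))
theorem Q1723 : ∀ i, i < 1723 → P i := stepQ 1722 Q1722 (allL N1722 (tt N1244 F2812) (tt N2359 (iv F3834)) (tt N2366 (iv F3846)) (tt N1458 F2813) (tt N1241 (iv D1722)) (tt N2368 D2368))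
theorem Q1724 : ∀ i, i < 1724 → P i := stepQ 1723 Q1723 (allL N1723 (tt N1245 F2814) (tt N2301 (iv F3755)) (tt N2367 (iv F3848)) (tt N1242 F2815) (tt N2369 D2369) (tt N1241 (iv D1723)))
theorem Q1725 : ∀ i, i < 1725 → P i := stepQ 1724 Q1724 (allL N1724 (tt N1246 F2816) (tt N2360 (iv F3837)) (tt N1253 F2817) (tt N2370 D2370) (tt N1242 (iv D1724)) (tt N1261 F2818))
theorem Q1726 : ∀ i, i < 1726 → P i := stepQ 1725 Q1725 (allL N1725 (tt N2371 D2371) (tt N1243 (iv D1725)) (tt N1247 F2819) (tt N2372 D2372) (tt N2373 D2373) (tt N2285 (iv F3732)))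
theorem Q1727 : ∀ i, i < 1727 → P i := stepQ 1726 Q1726 (allL N1726 (tt N1970 (iv F3203)) (tt N2372 (iv F3856)) (tt N1969 (iv F3202)) (tt N1243 (iv D1726)) (tt N2374 D2374) (tt N2375 D2375))
theorem Q1728 : ∀ i, i < 1728 → P i := stepQ 1727 Q1727 (allL N1727 (tt N2366 (iv F3845)) (tt N2373 (iv F3857)) (tt N1244 F2820) (tt N2376 D2376) (tt N1243 (iv D1727)) (tt N2377 D2377))
theorem Q1729 : ∀ i, i < 1729 → P i := stepQ 1728 Q1728 (allL N1728 (tt N2367 (iv F3847)) (tt N2285 (iv F3731)) (tt N1245 F2821) (tt N2375 (iv F3861)) (tt N2378 D2378) (tt N1243 (iv D1728)))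
theorem Q1730 : ∀ i, i < 1730 → P i := stepQ 1729 Q1729 (allL N1729 (tt N2368 (iv F3850)) (tt N1249 F2822) (tt N2377 (iv F3862)) (tt N1461 F2823) (tt N2379 D2379) (tt N1244 (iv D1729)))
theorem Q1731 : ∀ i, i < 1731 → P i := stepQ 1730 Q1730 (allL N1730 (tt N2369 (iv F3852)) (tt N1250 F2824) (tt N2378 (iv F3863)) (tt N2380 D2380) (tt N1245 (iv D1730)) (tt N2379 (iv F3865)))
theorem Q1732 : ∀ i, i < 1732 → P i := stepQ 1731 Q1731 (allL N1731 (tt N2370 (iv F3853)) (tt N1251 F2825) (tt N2381 D2381) (tt N1246 (iv D1731)) (tt N2380 (iv F3867)) (tt N1264 F2826))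
theorem Q1733 : ∀ i, i < 1733 → P i := stepQ 1732 Q1732 (allL N1732 (tt N1247 (iv D1732)) (tt N2292 (iv F3743)) (tt N2371 (iv F3855)) (tt N2284 (iv F3730)) (tt N2382 D2382) (tt N2283 F3727))
theorem Q1734 : ∀ i, i < 1734 → P i := stepQ 1733 Q1733 (allL N1733 (tt N2382 (iv F3869)) (tt N1248 F2827) (tt N2373 (iv F3858)) (tt N2383 D2383) (tt N1247 (iv D1733)) (tt N2384 D2384))
theorem Q1735 : ∀ i, i < 1735 → P i := stepQ 1734 Q1734 (allL N1734 (tt N2306 (iv F3768)) (tt N2383 (iv F3870)) (tt N2385 D2385) (tt N1248 (iv D1734)) (tt N2289 (iv F3739)) (tt N2386 D2386))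
theorem Q1736 : ∀ i, i < 1736 → P i := stepQ 1735 Q1735 (allL N1735 (tt N2305 (iv F3765)) (tt N2384 (iv F3871)) (tt N1249 F2828) (tt N2386 (iv F3872)) (tt N2288 (iv F3737)) (tt N1248 (iv D1735)))
theorem Q1737 : ∀ i, i < 1737 → P i := stepQ 1736 Q1736 (allL N1736 (tt N2304 (iv F3762)) (tt N2379 (iv F3864)) (tt N2288 (iv F3736)) (tt N2387 D2387) (tt N1249 (iv D1736)) (tt N1250 F2829))
theorem Q1738 : ∀ i, i < 1738 → P i := stepQ 1737 Q1737 (allL N1737 (tt N2303 (iv F3759)) (tt N2380 (iv F3866)) (tt N2388 D2388) (tt N1250 (iv D1737)) (tt N1251 F2830) (tt N2387 (iv F3874)))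
theorem Q1739 : ∀ i, i < 1739 → P i := stepQ 1738 Q1738 (allL N1738 (tt N1417 F2831) (tt N2389 D2389) (tt N1251 (iv D1738)) (tt N1388 F2833) (tt N2388 (iv F3876)) (tt N1418 F2832))
theorem Q1740 : ∀ i, i < 1740 → P i := stepQ 1739 Q1739 (allL N1739 (tt N1966 (iv F3192)) (tt N1252 (iv D1739)) (tt N1743 (iv F2836)) (tt N2390 D2390) (tt N2246 (iv F3650)) (tt N1964 F3190))
theorem Q1741 : ∀ i, i < 1741 → P i := stepQ 1740 Q1740 (allL N1740 (tt N1254 F2834) (tt N2390 (iv F3879)) (tt N2375 (iv F3860)) (tt N1252 (iv D1740)) (tt N2391 D2391) (tt N1969 (iv F3201)))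
theorem Q1742 : ∀ i, i < 1742 → P i := stepQ 1741 Q1741 (allL N1741 (tt N2375 (iv F3859)) (tt N2392 D2392) (tt N1254 (iv D1741)) (tt N2367 (iv F3849)) (tt N2393 D2393) (tt N1970 (iv F3204)))
theorem Q1743 : ∀ i, i < 1743 → P i := stepQ 1742 Q1742 (allL N1742 (tt N2391 (iv F3880)) (tt N1975 (iv F3210)) (tt N2393 (iv F3881)) (tt N2249 (iv F3652)) (tt N1254 (iv D1742)) (tt N2394 D2394))
theorem Q1744 : ∀ i, i < 1744 → P i := stepQ 1743 Q1743 (allL N1743 (tt N1621 F2835) (tt N1255 (iv D1743)) (tt N1739 F2836) (tt N2395 D2395) (tt N2396 D2396) (tt N1619 F2837))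
theorem Q1745 : ∀ i, i < 1745 → P i := stepQ 1744 Q1744 (allL N1744 (tt N1257 F2838) (tt N2395 (iv F3883)) (tt N2329 (iv F3789)) (tt N1255 (iv D1744)) (tt N2397 D2397) (tt N1624 F2839))
theorem Q1746 : ∀ i, i < 1746 → P i := stepQ 1745 Q1745 (allL N1745 (tt N1258 F2840) (tt N2396 (iv F3886)) (tt N1256 F2841) (tt N2398 D2398) (tt N1255 (iv D1745)) (tt N2109 (iv F3420)))
theorem Q1747 : ∀ i, i < 1747 → P i := stepQ 1746 Q1746 (allL N1746 (tt N2329 (iv F3788)) (tt N2399 D2399) (tt N1257 (iv D1746)) (tt N2327 (iv F3785)) (tt N2400 D2400) (tt N1625 F2842))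
theorem Q1748 : ∀ i, i < 1748 → P i := stepQ 1747 Q1747 (allL N1747 (tt N2397 (iv F3888)) (tt N1630 F2843) (tt N2400 (iv F3892)) (tt N2401 D2401) (tt N1257 (iv D1747)) (tt N2402 D2402))
theorem Q1749 : ∀ i, i < 1749 → P i := stepQ 1748 Q1748 (allL N1748 (tt N2398 (iv F3889)) (tt N1631 F2844) (tt N2403 D2403) (tt N1258 (iv D1748)) (tt N2401 (iv F3894)) (tt N2112 (iv F3424)))
theorem Q1750 : ∀ i, i < 1750 → P i := stepQ 1749 Q1749 (allL N1749 (tt N1389 F2845) (tt N1261 F2846) (tt N1554 F2847) (tt N2404 D2404) (tt N1259 (iv D1749)) (tt N2360 (iv F3839)))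
theorem Q1751 : ∀ i, i < 1751 → P i := stepQ 1750 Q1750 (allL N1750 (tt N1263 F2848) (tt N2015 (iv F3274)) (tt N2226 (iv F3631)) (tt N2405 D2405) (tt N1260 (iv D1750)) (tt N2406 D2406))
theorem Q1752 : ∀ i, i < 1752 → P i := stepQ 1751 Q1751 (allL N1751 (tt N1264 F2849) (tt N2404 (iv F3898)) (tt N2407 D2407) (tt N1261 (iv D1751)) (tt N2405 (iv F3900)) (tt N2370 (iv F3854)))
theorem Q1753 : ∀ i, i < 1753 → P i := stepQ 1752 Q1752 (allL N1752 (tt N2226 (iv F3629)) (tt N1984 (iv F3232)) (tt N1263 F2850) (tt N2408 D2408) (tt N1262 (iv D1752)) (tt N2409 D2409))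
theorem Q1754 : ∀ i, i < 1754 → P i := stepQ 1753 Q1753 (allL N1753 (tt N2405 (iv F3899)) (tt N1419 F2851) (tt N2410 D2410) (tt N1263 (iv D1753)) (tt N1264 F2852) (tt N2411 D2411))
theorem Q1755 : ∀ i, i < 1755 → P i := stepQ 1754 Q1754 (allL N1754 (tt N2406 (iv F3901)) (tt N1420 F2853) (tt N2409 (iv F3904)) (tt N2411 (iv F3908)) (tt N1461 F2854) (tt N1263 (iv D1754)))
theorem Q1756 : ∀ i, i < 1756 → P i := stepQ 1755 Q1755 (allL N1755 (tt N2407 (iv F3903)) (tt N2412 D2412) (tt N1264 (iv D1755)) (tt N2413 D2413) (tt N2410 (iv F3906)) (tt N2381 (iv F3868)))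
theorem Q1757 : ∀ i, i < 1757 → P i := stepQ 1756 Q1756 (allL N1756 (tt N1983 (iv F3228)) (tt N1265 (iv D1756)) (tt N1273 F2855) (tt N1981 (iv F3225)) (tt N2182 (iv F3544)) (tt N2279 (iv F3719)))
theorem Q1758 : ∀ i, i < 1758 → P i := stepQ 1757 Q1757 (allL N1757 (tt N1271 F2856) (tt N1981 (iv F3224)) (tt N1706 F2857) (tt N1265 (iv D1757)) (tt N2414 D2414) (tt N1764 (iv F2863)))
theorem Q1759 : ∀ i, i < 1759 → P i := stepQ 1758 Q1758 (allL N1758 (tt N1814 (iv F2941)) (tt N1819 (iv F2957)) (tt N2415 D2415) (tt N1266 (iv D1758)) (tt N1267 F2858) (tt N2416 D2416))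
theorem Q1760 : ∀ i, i < 1760 → P i := stepQ 1759 Q1759 (allL N1759 (tt N1815 (iv F2944)) (tt N1818 (iv F2953)) (tt N1759 F2859) (tt N2416 (iv F3913)) (tt N1815 (iv F2947)) (tt N1266 (iv D1759)))
theorem Q1761 : ∀ i, i < 1761 → P i := stepQ 1760 Q1760 (allL N1760 (tt N2158 (iv F3515)) (tt N2417 D2417) (tt N1267 (iv D1760)) (tt N2418 D2418) (tt N2415 (iv F3912)) (tt N2419 D2419))
theorem Q1762 : ∀ i, i < 1762 → P i := stepQ 1761 Q1761 (allL N1761 (tt N2159 (iv F3516)) (tt N1881 (iv F3057)) (tt N2419 (iv F3914)) (tt N1268 F2860) (tt N2420 D2420) (tt N1267 (iv D1761)))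
theorem Q1763 : ∀ i, i < 1763 → P i := stepQ 1762 Q1762 (allL N1762 (tt N2183 (iv F3545)) (tt N2227 (iv F3632)) (tt N2421 D2421) (tt N1269 (iv D1762)) (tt N2422 D2422) (tt N2423 D2423))
theorem Q1764 : ∀ i, i < 1764 → P i := stepQ 1763 Q1763 (allL N1763 (tt N2184 (iv F3546)) (tt N2228 (iv F3633)) (tt N1270 F2861) (tt N2423 (iv F3916)) (tt N2352 (iv F3824)) (tt N1269 (iv D1763)))
theorem Q1765 : ∀ i, i < 1765 → P i := stepQ 1764 Q1764 (allL N1764 (tt N1706 F2862) (tt N2011 (iv F3267)) (tt N1271 (iv D1764)) (tt N1705 F2864) (tt N2424 D2424) (tt N1757 F2863))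
theorem Q1766 : ∀ i, i < 1766 → P i := stepQ 1765 Q1765 (allL N1765 (tt N2414 (iv F3910)) (tt N2226 (iv F3630)) (tt N2424 (iv F3918)) (tt N2422 (iv F3915)) (tt N1271 (iv D1765)) (tt N2425 D2425))
theorem Q1767 : ∀ i, i < 1767 → P i := stepQ 1766 Q1766 (allL N1766 (tt N1273 (iv D1766)) (tt N1278 F2865) (tt N1983 (iv F3231)) (tt N1278 F2866) (tt N2186 (iv F3553)) (tt N2276 (iv F3709)))
theorem Q1768 : ∀ i, i < 1768 → P i := stepQ 1767 Q1767 (allL N1767 (tt N1274 (iv D1767)) (tt N2186 (iv F3552)) (tt N1288 F2867) (tt N2426 D2426) (tt N1278 F2868) (tt N2427 D2427))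
theorem Q1769 : ∀ i, i < 1769 → P i := stepQ 1768 Q1768 (allL N1768 (tt N2426 (iv F3919)) (tt N1275 F2869) (tt N2428 D2428) (tt N1274 (iv D1768)) (tt N2187 (iv F3555)) (tt N2196 (iv F3571)))
theorem Q1770 : ∀ i, i < 1770 → P i := stepQ 1769 Q1769 (allL N1769 (tt N2427 (iv F3920)) (tt N1276 F2870) (tt N1290 F2871) (tt N2196 (iv F3570)) (tt N2282 (iv F3724)) (tt N1274 (iv D1769)))
theorem Q1771 : ∀ i, i < 1771 → P i := stepQ 1770 Q1770 (allL N1770 (tt N2189 (iv F3557)) (tt N2282 (iv F3722)) (tt N1277 F2872) (tt N2344 (iv F3809)) (tt N1276 (iv D1770)) (tt N1279 F2873))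
theorem Q1772 : ∀ i, i < 1772 → P i := stepQ 1771 Q1771 (allL N1771 (tt N2357 (iv F3830)) (tt N2281 (iv F3721)) (tt N2345 (iv F3811)) (tt N1279 (iv D1771)) (tt N2357 (iv F3831)) (tt N2344 F3810))
theorem Q1773 : ∀ i, i < 1773 → P i := stepQ 1772 Q1772 (allL N1772 (tt N1282 F2874) (tt N2429 D2429) (tt N1280 (iv D1772)) (tt N2430 D2430) (tt N1871 (iv F3040)) (tt N2431 D2431))
theorem Q1774 : ∀ i, i < 1774 → P i := stepQ 1773 Q1773 (allL N1773 (tt N1283 F2875) (tt N1874 (iv F3047)) (tt N2431 (iv F3924)) (tt N1281 F2876) (tt N2432 D2432) (tt N1280 (iv D1773)))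
theorem Q1775 : ∀ i, i < 1775 → P i := stepQ 1774 Q1774 (allL N1774 (tt N2433 D2433) (tt N1282 (iv D1774)) (tt N1284 F2877) (tt N2434 D2434) (tt N2131 (iv F3455)) (tt N2435 D2435))
theorem Q1776 : ∀ i, i < 1776 → P i := stepQ 1775 Q1775 (allL N1775 (tt N2430 (iv F3922)) (tt N2434 (iv F3927)) (tt N2436 D2436) (tt N1282 (iv D1775)) (tt N2437 D2437) (tt N2438 D2438))
theorem Q1777 : ∀ i, i < 1777 → P i := stepQ 1776 Q1776 (allL N1776 (tt N2431 (iv F3923)) (tt N2435 (iv F3928)) (tt N1283 F2878) (tt N2438 (iv F3930)) (tt N2439 D2439) (tt N1282 (iv D1776)))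
theorem Q1778 : ∀ i, i < 1778 → P i := stepQ 1777 Q1777 (allL N1777 (tt N2432 (iv F3925)) (tt N1287 F2879) (tt N2439 (iv F3931)) (tt N2122 (iv F3440)) (tt N1283 (iv D1777)) (tt N2129 (iv F3452)))
theorem Q1779 : ∀ i, i < 1779 → P i := stepQ 1778 Q1778 (allL N1778 (tt N1284 (iv D1778)) (tt N2200 (iv F3581)) (tt N2433 (iv F3926)) (tt N2440 D2440) (tt N2140 (iv F3477)) (tt N2441 D2441))
theorem Q1780 : ∀ i, i < 1780 → P i := stepQ 1779 Q1779 (allL N1779 (tt N2440 (iv F3932)) (tt N1285 F2880) (tt N2442 D2442) (tt N1284 (iv D1779)) (tt N2443 D2443) (tt N2223 F3623))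
theorem Q1781 : ∀ i, i < 1781 → P i := stepQ 1780 Q1780 (allL N1780 (tt N2441 (iv F3933)) (tt N1286 F2881) (tt N2435 (iv F3929)) (tt N2223 F3622) (tt N2444 D2444) (tt N1284 (iv D1780)))
theorem Q1782 : ∀ i, i < 1782 → P i := stepQ 1781 Q1781 (allL N1781 (tt N2202 (iv F3585)) (tt N2443 (iv F3934)) (tt N2215 (iv F3610)) (tt N2142 (iv F3482)) (tt N1285 (iv D1781)) (tt N2142 (iv F3483)))
theorem Q1783 : ∀ i, i < 1783 → P i := stepQ 1782 Q1782 (allL N1782 (tt N2198 (iv F3575)) (tt N2444 (iv F3935)) (tt N1287 F2882) (tt N2138 (iv F3473)) (tt N1286 (iv D1782)) (tt N2138 (iv F3472)))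
theorem Q1784 : ∀ i, i < 1784 → P i := stepQ 1783 Q1783 (allL N1783 (tt N1289 F2883) (tt N2217 (iv F3615)) (tt N2445 D2445) (tt N1288 (iv D1783)) (tt N2146 (iv F3495)) (tt N2446 D2446))
theorem Q1785 : ∀ i, i < 1785 → P i := stepQ 1784 Q1784 (allL N1784 (tt N1290 F2884) (tt N2225 (iv F3627)) (tt N2427 (iv F3921)) (tt N2446 (iv F3938)) (tt N2278 (iv F3715)) (tt N1288 (iv D1784)))
theorem Q1786 : ∀ i, i < 1786 → P i := stepQ 1785 Q1785 (allL N1785 (tt N2445 (iv F3936)) (tt N2447 D2447) (tt N1289 (iv D1785)) (tt N2448 D2448) (tt N2147 (iv F3496)) (tt N2449 D2449))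
theorem Q1787 : ∀ i, i < 1787 → P i := stepQ 1786 Q1786 (allL N1786 (tt N2446 (iv F3937)) (tt N1292 F2885) (tt N2449 (iv F3940)) (tt N1290 F2886) (tt N2450 D2450) (tt N1289 (iv D1786)))
theorem Q1788 : ∀ i, i < 1788 → P i := stepQ 1787 Q1787 (allL N1787 (tt N2451 D2451) (tt N1291 (iv D1787)) (tt N2447 (iv F3939)) (tt N2199 (iv F3579)) (tt N2148 (iv F3498)) (tt N2201 (iv F3584)))
theorem Q1789 : ∀ i, i < 1789 → P i := stepQ 1788 Q1788 (allL N1788 (tt N2215 (iv F3609)) (tt N2450 (iv F3941)) (tt N2202 (iv F3586)) (tt N2265 (iv F3687)) (tt N1292 (iv D1788)) (tt N2145 (iv F3492)))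
theorem Q1790 : ∀ i, i < 1790 → P i := stepQ 1789 Q1789 (allL N1789 (tt N1293 (iv D1789)) (tt N1296 F2887) (tt N1789 F2888) (tt N1347 (iv F2889)) (tt N2452 D2452) (tt N1293 (iv F2890)))
theorem Q1791 : ∀ i, i < 1791 → P i := stepQ 1790 Q1790 (allL N1790 (tt N1347 F2891) (tt N1294 F2892) (tt N1347 (iv F2894)) (tt N1293 (iv D1790)) (tt N2453 D2453) (tt N1347 F2893))
theorem Q1792 : ∀ i, i < 1792 → P i := stepQ 1791 Q1791 (allL N1791 (tt N2452 (iv F3942)) (tt N1295 F2895) (tt N1791 F2896) (tt N2454 D2454) (tt N1293 (iv D1791)) (tt N2455 D2455))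
theorem Q1793 : ∀ i, i < 1793 → P i := stepQ 1792 Q1792 (allL N1792 (tt N1303 F2897) (tt N2453 (iv F3946)) (tt N1344 F2898) (tt N2456 D2456) (tt N1294 (iv D1792)) (tt N2457 D2457))
theorem Q1794 : ∀ i, i < 1794 → P i := stepQ 1793 Q1793 (allL N1793 (tt N1304 F2899) (tt N2454 (iv F3948)) (tt N2458 D2458) (tt N1295 (iv D1793)) (tt N2456 (iv F3952)) (tt N2459 D2459))
theorem Q1795 : ∀ i, i < 1795 → P i := stepQ 1794 Q1794 (allL N1794 (tt N1305 F2900) (tt N2455 (iv F3949)) (tt N1297 F2901) (tt N2459 (iv F3961)) (tt N2460 D2460) (tt N1295 (iv D1794)))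
theorem Q1796 : ∀ i, i < 1796 → P i := stepQ 1795 Q1795 (allL N1795 (tt N1301 F2902) (tt N2452 (iv F3943)) (tt N1298 F2903) (tt N2461 D2461) (tt N1296 (iv D1795)) (tt N2460 (iv F3964)))
theorem Q1797 : ∀ i, i < 1797 → P i := stepQ 1796 Q1796 (allL N1796 (tt N1306 F2904) (tt N1796 F2905) (tt N2460 (iv F3963)) (tt N2462 D2462) (tt N1297 (iv D1796)) (tt N1298 F2906))
theorem Q1798 : ∀ i, i < 1798 → P i := stepQ 1797 Q1797 (allL N1797 (tt N1307 F2907) (tt N1797 F2908) (tt N2463 D2463) (tt N1298 (iv D1797)) (tt N1299 F2909) (tt N2462 (iv F3970)))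
theorem Q1799 : ∀ i, i < 1799 → P i := stepQ 1798 Q1798 (allL N1798 (tt N1308 F2910) (tt N2464 D2464) (tt N1299 (iv D1798)) (tt N1373 F2912) (tt N2463 (iv F3972)) (tt N1318 F2911))
theorem Q1800 : ∀ i, i < 1800 → P i := stepQ 1799 Q1799 (allL N1799 (tt N1348 F2913) (tt N1303 F2914) (tt N1337 F2915) (tt N2465 D2465) (tt N1300 (iv D1799)) (tt N2466 D2466))
theorem Q1801 : ∀ i, i < 1801 → P i := stepQ 1800 Q1800 (allL N1800 (tt N2461 (iv F3965)) (tt N1304 F2916) (tt N2467 D2467) (tt N1301 (iv D1800)) (tt N2465 (iv F3978)) (tt N2468 D2468))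
theorem Q1802 : ∀ i, i < 1802 → P i := stepQ 1801 Q1801 (allL N1801 (tt N2460 (iv F3962)) (tt N1305 F2917) (tt N1306 F2918) (tt N2468 (iv F3984)) (tt N1305 F2919) (tt N1301 (iv D1801)))
theorem Q1803 : ∀ i, i < 1803 → P i := stepQ 1802 Q1802 (allL N1802 (tt N1335 F2920) (tt N1302 (iv D1802)) (tt N1335 F2921) (tt N1334 F2922) (tt N2469 D2469) (tt N1335 F2923))
theorem Q1804 : ∀ i, i < 1804 → P i := stepQ 1803 Q1803 (allL N1803 (tt N1344 F2924) (tt N2469 (iv F3986)) (tt N1303 F2925) (tt N2470 D2470) (tt N1302 (iv D1803)) (tt N2471 D2471))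
theorem Q1805 : ∀ i, i < 1805 → P i := stepQ 1804 Q1804 (allL N1804 (tt N2456 (iv F3951)) (tt N2465 (iv F3977)) (tt N2472 D2472) (tt N1303 (iv D1804)) (tt N1304 F2926) (tt N2473 D2473))
theorem Q1806 : ∀ i, i < 1806 → P i := stepQ 1805 Q1805 (allL N1805 (tt N2457 (iv F3953)) (tt N2466 (iv F3980)) (tt N2471 (iv F3991)) (tt N2473 (iv F3994)) (tt N2466 (iv F3982)) (tt N1303 (iv D1805)))
theorem Q1807 : ∀ i, i < 1807 → P i := stepQ 1806 Q1806 (allL N1806 (tt N2458 (iv F3956)) (tt N2474 D2474) (tt N1304 (iv D1806)) (tt N2475 D2475) (tt N2472 (iv F3993)) (tt N2476 D2476))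
theorem Q1808 : ∀ i, i < 1808 → P i := stepQ 1807 Q1807 (allL N1807 (tt N2459 (iv F3959)) (tt N2468 (iv F3983)) (tt N2476 (iv F3999)) (tt N1305 F2927) (tt N2477 D2477) (tt N1304 (iv D1807)))
theorem Q1809 : ∀ i, i < 1809 → P i := stepQ 1808 Q1808 (allL N1808 (tt N2462 (iv F3967)) (tt N1310 F2928) (tt N2478 D2478) (tt N1306 (iv D1808)) (tt N1326 F2929) (tt N1307 F2930))
theorem Q1810 : ∀ i, i < 1810 → P i := stepQ 1809 Q1809 (allL N1809 (tt N2463 (iv F3971)) (tt N2479 D2479) (tt N1307 (iv D1809)) (tt N2480 D2480) (tt N1308 F2931) (tt N2478 (iv F4002)))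
theorem Q1811 : ∀ i, i < 1811 → P i := stepQ 1810 Q1810 (allL N1810 (tt N2481 D2481) (tt N1308 (iv D1810)) (tt N1311 F2932) (tt N2482 D2482) (tt N2479 (iv F4004)) (tt N1328 F2933))
theorem Q1812 : ∀ i, i < 1812 → P i := stepQ 1811 Q1811 (allL N1811 (tt N1373 F2934) (tt N2482 (iv F4007)) (tt N1362 F2936) (tt N1308 (iv D1811)) (tt N2483 D2483) (tt N1329 F2935))
theorem Q1813 : ∀ i, i < 1813 → P i := stepQ 1812 Q1812 (allL N1812 (tt N2484 D2484) (tt N1309 (iv D1812)) (tt N2479 (iv F4003)) (tt N1843 (iv F2995)) (tt N1311 F2937) (tt N1842 F2993))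
theorem Q1814 : ∀ i, i < 1814 → P i := stepQ 1813 Q1813 (allL N1813 (tt N1311 (iv D1813)) (tt N1813 F2938) (tt N2481 (iv F4005)) (tt N1333 F2939) (tt N2484 (iv F4012)) (tt N1333 F2940))
theorem Q1815 : ∀ i, i < 1815 → P i := stepQ 1814 Q1814 (allL N1814 (tt N1758 F2941) (tt N1313 F2942) (tt N2485 D2485) (tt N1312 (iv D1814)) (tt N1563 F2943) (tt N2486 D2486))
theorem Q1816 : ∀ i, i < 1816 → P i := stepQ 1815 Q1815 (allL N1815 (tt N1759 F2944) (tt N1314 F2945) (tt N1815 F2946) (tt N2486 (iv F4017)) (tt N1759 F2947) (tt N1312 (iv D1815)))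
theorem Q1817 : ∀ i, i < 1817 → P i := stepQ 1816 Q1816 (allL N1816 (tt N1324 F2948) (tt N2487 D2487) (tt N1313 (iv D1816)) (tt N2476 (iv F4000)) (tt N1565 F2949) (tt N2475 (iv F3997)))
theorem Q1818 : ∀ i, i < 1818 → P i := stepQ 1817 Q1817 (allL N1817 (tt N1325 F2950) (tt N2486 (iv F4016)) (tt N2475 (iv F3996)) (tt N1314 F2951) (tt N2488 D2488) (tt N1313 (iv D1817)))
theorem Q1819 : ∀ i, i < 1819 → P i := stepQ 1818 Q1818 (allL N1818 (tt N1321 F2952) (tt N1759 F2953) (tt N1316 F2954) (tt N2489 D2489) (tt N1314 (iv D1818)) (tt N1315 F2955))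
theorem Q1820 : ∀ i, i < 1820 → P i := stepQ 1819 Q1819 (allL N1819 (tt N1320 F2956) (tt N1758 F2957) (tt N2490 D2490) (tt N1315 (iv D1819)) (tt N1363 F2958) (tt N2489 (iv F4023)))
theorem Q1821 : ∀ i, i < 1821 → P i := stepQ 1820 Q1820 (allL N1820 (tt N1326 F2959) (tt N1820 F2960) (tt N2491 D2491) (tt N1316 (iv D1820)) (tt N2462 (iv F3969)) (tt N1317 F2961))
theorem Q1822 : ∀ i, i < 1822 → P i := stepQ 1821 Q1821 (allL N1821 (tt N1327 F2962) (tt N2492 D2492) (tt N1317 (iv D1821)) (tt N2493 D2493) (tt N1318 F2963) (tt N2491 (iv F4027)))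
theorem Q1823 : ∀ i, i < 1823 → P i := stepQ 1822 Q1822 (allL N1822 (tt N2494 D2494) (tt N1318 (iv D1822)) (tt N1822 F2964) (tt N2495 D2495) (tt N2492 (iv F4029)) (tt N2464 (iv F3975)))
theorem Q1824 : ∀ i, i < 1824 → P i := stepQ 1823 Q1823 (allL N1823 (tt N1329 F2965) (tt N2495 (iv F4033)) (tt N1354 F2966) (tt N1318 (iv D1823)) (tt N2496 D2496) (tt N1373 F2967))
theorem Q1825 : ∀ i, i < 1825 → P i := stepQ 1824 Q1824 (allL N1824 (tt N1363 F2968) (tt N1322 F2969) (tt N2497 D2497) (tt N1319 (iv D1824)) (tt N1320 F2970) (tt N2498 D2498))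
theorem Q1826 : ∀ i, i < 1826 → P i := stepQ 1825 Q1825 (allL N1825 (tt N1364 F2971) (tt N1323 F2972) (tt N1358 F2973) (tt N2498 (iv F4041)) (tt N1323 F2974) (tt N1319 (iv D1825)))
theorem Q1827 : ∀ i, i < 1827 → P i := stepQ 1826 Q1826 (allL N1826 (tt N2490 (iv F4024)) (tt N2499 D2499) (tt N1320 (iv D1826)) (tt N2500 D2500) (tt N2497 (iv F4038)) (tt N2501 D2501))
theorem Q1828 : ∀ i, i < 1828 → P i := stepQ 1827 Q1827 (allL N1827 (tt N2489 (iv F4021)) (tt N1325 F2975) (tt N2501 (iv F4043)) (tt N1321 F2976) (tt N2502 D2502) (tt N1320 (iv D1827)))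
theorem Q1829 : ∀ i, i < 1829 → P i := stepQ 1828 Q1828 (allL N1828 (tt N1565 F2977) (tt N2503 D2503) (tt N1322 (iv D1828)) (tt N2504 D2504) (tt N1324 F2978) (tt N2505 D2505))
theorem Q1830 : ∀ i, i < 1830 → P i := stepQ 1829 Q1829 (allL N1829 (tt N1566 F2979) (tt N2498 (iv F4040)) (tt N2505 (iv F4051)) (tt N1323 F2980) (tt N2506 D2506) (tt N1322 (iv D1829)))
theorem Q1831 : ∀ i, i < 1831 → P i := stepQ 1830 Q1830 (allL N1830 (tt N2507 D2507) (tt N1324 (iv D1830)) (tt N2499 (iv F4042)) (tt N2508 D2508) (tt N2503 (iv F4046)) (tt N2509 D2509))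
theorem Q1832 : ∀ i, i < 1832 → P i := stepQ 1831 Q1831 (allL N1831 (tt N2476 (iv F3998)) (tt N2508 (iv F4055)) (tt N2459 (iv F3960)) (tt N1324 (iv D1831)) (tt N2510 D2510) (tt N2458 F3958))
theorem Q1833 : ∀ i, i < 1833 → P i := stepQ 1832 Q1832 (allL N1832 (tt N2475 (iv F3995)) (tt N2509 (iv F4056)) (tt N1325 F2981) (tt N2458 (iv F3957)) (tt N2511 D2511) (tt N1324 (iv D1832)))
theorem Q1834 : ∀ i, i < 1834 → P i := stepQ 1833 Q1833 (allL N1833 (tt N2488 (iv F4019)) (tt N2502 (iv F4044)) (tt N2511 (iv F4057)) (tt N2502 (iv F4045)) (tt N1325 (iv D1833)) (tt N2506 (iv F4054)))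
theorem Q1835 : ∀ i, i < 1835 → P i := stepQ 1834 Q1834 (allL N1834 (tt N2491 (iv F4026)) (tt N2512 D2512) (tt N1326 (iv D1834)) (tt N2513 D2513) (tt N2478 (iv F4001)) (tt N1327 F2982))
theorem Q1836 : ∀ i, i < 1836 → P i := stepQ 1835 Q1835 (allL N1835 (tt N2514 D2514) (tt N1327 (iv D1835)) (tt N1330 F2983) (tt N2515 D2515) (tt N1328 F2984) (tt N2512 (iv F4059)))
theorem Q1837 : ∀ i, i < 1837 → P i := stepQ 1836 Q1836 (allL N1836 (tt N2493 (iv F4030)) (tt N2515 (iv F4063)) (tt N2516 D2516) (tt N1327 (iv D1836)) (tt N2517 D2517) (tt N2513 (iv F4060)))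
theorem Q1838 : ∀ i, i < 1838 → P i := stepQ 1837 Q1837 (allL N1837 (tt N1328 (iv D1837)) (tt N2494 (iv F4031)) (tt N1333 F2985) (tt N2518 D2518) (tt N2514 (iv F4062)) (tt N2481 (iv F4006)))
theorem Q1839 : ∀ i, i < 1839 → P i := stepQ 1838 Q1838 (allL N1838 (tt N2518 (iv F4065)) (tt N1329 F2986) (tt N2519 D2519) (tt N1328 (iv D1838)) (tt N2520 D2520) (tt N2482 (iv F4008)))
theorem Q1840 : ∀ i, i < 1840 → P i := stepQ 1839 Q1839 (allL N1839 (tt N1354 F2987) (tt N2521 D2521) (tt N1329 (iv D1839)) (tt N1343 F2988) (tt N2522 D2522) (tt N1362 F2989))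
theorem Q1841 : ∀ i, i < 1841 → P i := stepQ 1840 Q1840 (allL N1840 (tt N2496 (iv F4035)) (tt N2520 (iv F4066)) (tt N2522 (iv F4070)) (tt N2517 (iv F4064)) (tt N1329 (iv D1840)) (tt N2523 D2523))
theorem Q1842 : ∀ i, i < 1842 → P i := stepQ 1841 Q1841 (allL N1841 (tt N1330 (iv D1841)) (tt N1841 F2990) (tt N2514 (iv F4061)) (tt N2524 D2524) (tt N1333 F2991) (tt N2525 D2525))
theorem Q1843 : ∀ i, i < 1843 → P i := stepQ 1842 Q1842 (allL N1842 (tt N2524 (iv F4071)) (tt N1331 F2992) (tt N2526 D2526) (tt N1330 (iv D1842)) (tt N1843 (iv F2996)) (tt N1812 (iv F2993)))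
theorem Q1844 : ∀ i, i < 1844 → P i := stepQ 1843 Q1843 (allL N1843 (tt N2525 (iv F4074)) (tt N1332 F2994) (tt N2512 (iv F4058)) (tt N1812 F2995) (tt N1842 F2996) (tt N1330 (iv D1843)))
theorem Q1845 : ∀ i, i < 1845 → P i := stepQ 1844 Q1844 (allL N1844 (tt N1336 F2997) (tt N1340 F2998) (tt N1466 F2999) (tt N2527 D2527) (tt N1334 (iv D1844)) (tt N2528 D2528))
theorem Q1846 : ∀ i, i < 1846 → P i := stepQ 1845 Q1845 (allL N1845 (tt N2469 (iv F3985)) (tt N1337 F3000) (tt N2469 (iv F3987)) (tt N2529 D2529) (tt N1335 (iv D1845)) (tt N2530 D2530))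
theorem Q1847 : ∀ i, i < 1847 → P i := stepQ 1846 Q1846 (allL N1846 (tt N2527 (iv F4081)) (tt N1338 F3001) (tt N2531 D2531) (tt N1336 (iv D1846)) (tt N2529 (iv F4088)) (tt N2532 D2532))
theorem Q1848 : ∀ i, i < 1848 → P i := stepQ 1847 Q1847 (allL N1847 (tt N2528 (iv F4083)) (tt N1339 F3002) (tt N1469 F3003) (tt N2532 (iv F4091)) (tt N2528 (iv F4086)) (tt N1336 (iv D1847)))
theorem Q1849 : ∀ i, i < 1849 → P i := stepQ 1848 Q1848 (allL N1848 (tt N1349 F3004) (tt N2529 (iv F4087)) (tt N2533 D2533) (tt N1337 (iv D1848)) (tt N1338 F3005) (tt N2534 D2534))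
theorem Q1850 : ∀ i, i < 1850 → P i := stepQ 1849 Q1849 (allL N1849 (tt N1350 F3006) (tt N2530 (iv F4089)) (tt N2466 (iv F3981)) (tt N2534 (iv F4095)) (tt N2471 (iv F3992)) (tt N1337 (iv D1849)))
theorem Q1851 : ∀ i, i < 1851 → P i := stepQ 1850 Q1850 (allL N1850 (tt N1351 F3007) (tt N2535 D2535) (tt N1338 (iv D1850)) (tt N1369 F3008) (tt N2533 (iv F4093)) (tt N1368 (iv F3009)))
theorem Q1852 : ∀ i, i < 1852 → P i := stepQ 1851 Q1851 (allL N1851 (tt N1352 F3010) (tt N2532 (iv F4090)) (tt N1368 F3011) (tt N1339 F3012) (tt N2536 D2536) (tt N1338 (iv D1851)))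
theorem Q1853 : ∀ i, i < 1853 → P i := stepQ 1852 Q1852 (allL N1852 (tt N1346 F3013) (tt N2528 (iv F4084)) (tt N1341 F3014) (tt N2537 D2537) (tt N1339 (iv D1852)) (tt N1340 F3015))
theorem Q1854 : ∀ i, i < 1854 → P i := stepQ 1853 Q1853 (allL N1853 (tt N1345 F3016) (tt N2527 (iv F4082)) (tt N2538 D2538) (tt N1340 (iv D1853)) (tt N2470 (iv F3989)) (tt N2537 (iv F4101)))
theorem Q1855 : ∀ i, i < 1855 → P i := stepQ 1854 Q1854 (allL N1854 (tt N1353 F3017) (tt N2539 D2539) (tt N1342 (iv D1854)) (tt N2540 D2540) (tt N1343 F3018) (tt N1623 F3019))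
theorem Q1856 : ∀ i, i < 1856 → P i := stepQ 1855 Q1855 (allL N1855 (tt N2107 (iv F3413)) (tt N1343 (iv D1855)) (tt N1477 F3020) (tt N2521 (iv F4067)) (tt N2539 (iv F4105)) (tt N1361 F3021))
theorem Q1857 : ∀ i, i < 1857 → P i := stepQ 1856 Q1856 (allL N1856 (tt N2470 (iv F3988)) (tt N1349 F3022) (tt N2541 D2541) (tt N1344 (iv D1856)) (tt N1345 F3023) (tt N2542 D2542))
theorem Q1858 : ∀ i, i < 1858 → P i := stepQ 1857 Q1857 (allL N1857 (tt N2471 (iv F3990)) (tt N1350 F3024) (tt N2457 (iv F3954)) (tt N2542 (iv F4111)) (tt N1350 F3025) (tt N1344 (iv D1857)))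
theorem Q1859 : ∀ i, i < 1859 → P i := stepQ 1858 Q1858 (allL N1858 (tt N2538 (iv F4102)) (tt N2543 D2543) (tt N1345 (iv D1858)) (tt N2544 D2544) (tt N2541 (iv F4109)) (tt N2545 D2545))
theorem Q1860 : ∀ i, i < 1860 → P i := stepQ 1859 Q1859 (allL N1859 (tt N2537 (iv F4100)) (tt N1352 F3026) (tt N2545 (iv F4115)) (tt N1346 F3027) (tt N2546 D2546) (tt N1345 (iv D1859)))
theorem Q1861 : ∀ i, i < 1861 → P i := stepQ 1860 Q1860 (allL N1860 (tt N2453 (iv F3945)) (tt N1348 F3028) (tt N2453 (iv F3947)) (tt N2547 D2547) (tt N1347 (iv D1860)) (tt N2548 D2548))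
theorem Q1862 : ∀ i, i < 1862 → P i := stepQ 1861 Q1861 (allL N1861 (tt N2465 (iv F3976)) (tt N2547 (iv F4118)) (tt N2549 D2549) (tt N1348 (iv D1861)) (tt N2461 (iv F3966)) (tt N2550 D2550))
theorem Q1863 : ∀ i, i < 1863 → P i := stepQ 1862 Q1862 (allL N1862 (tt N2466 (iv F3979)) (tt N2548 (iv F4119)) (tt N1350 F3029) (tt N2550 (iv F4120)) (tt N2457 (iv F3955)) (tt N1348 (iv D1862)))
theorem Q1864 : ∀ i, i < 1864 → P i := stepQ 1863 Q1863 (allL N1863 (tt N2533 (iv F4092)) (tt N2551 D2551) (tt N1349 (iv D1863)) (tt N2552 D2552) (tt N1351 F3030) (tt N2553 D2553))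
theorem Q1865 : ∀ i, i < 1865 → P i := stepQ 1864 Q1864 (allL N1864 (tt N2534 (iv F4094)) (tt N2542 (iv F4110)) (tt N2553 (iv F4122)) (tt N1350 F3031) (tt N2554 D2554) (tt N1349 (iv D1864)))
theorem Q1866 : ∀ i, i < 1866 → P i := stepQ 1865 Q1865 (allL N1865 (tt N2555 D2555) (tt N1351 (iv D1865)) (tt N2543 (iv F4112)) (tt N2556 D2556) (tt N2551 (iv F4121)) (tt N2557 D2557))
theorem Q1867 : ∀ i, i < 1867 → P i := stepQ 1866 Q1866 (allL N1866 (tt N1369 F3032) (tt N2556 (iv F4124)) (tt N1360 F3033) (tt N1351 (iv D1866)) (tt N2558 D2558) (tt N1359 F3034))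
theorem Q1868 : ∀ i, i < 1868 → P i := stepQ 1867 Q1867 (allL N1867 (tt N1368 F3035) (tt N2557 (iv F4126)) (tt N1352 F3036) (tt N1359 F3037) (tt N2559 D2559) (tt N1351 (iv D1867)))
theorem Q1869 : ∀ i, i < 1869 → P i := stepQ 1868 Q1868 (allL N1868 (tt N2536 (iv F4098)) (tt N2546 (iv F4116)) (tt N2559 (iv F4131)) (tt N2546 (iv F4117)) (tt N1352 (iv D1868)) (tt N2554 (iv F4123)))
theorem Q1870 : ∀ i, i < 1870 → P i := stepQ 1869 Q1869 (allL N1869 (tt N2540 (iv F4107)) (tt N2112 (iv F3423)) (tt N2560 D2560) (tt N1353 (iv D1869)) (tt N2561 D2561) (tt N1631 F3038))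
theorem Q1871 : ∀ i, i < 1871 → P i := stepQ 1870 Q1870 (allL N1870 (tt N2522 (iv F4069)) (tt N2111 (iv F3422)) (tt N2496 (iv F4036)) (tt N2561 (iv F4133)) (tt N1354 (iv D1870)) (tt N2562 D2562))
theorem Q1872 : ∀ i, i < 1872 → P i := stepQ 1871 Q1871 (allL N1871 (tt N1542 F3039) (tt N2563 D2563) (tt N1355 (iv D1871)) (tt N2564 D2564) (tt N1772 F3040) (tt N2565 D2565))
theorem Q1873 : ∀ i, i < 1873 → P i := stepQ 1872 Q1872 (allL N1872 (tt N1541 F3041) (tt N1360 F3042) (tt N2565 (iv F4139)) (tt N1356 F3043) (tt N2566 D2566) (tt N1355 (iv D1872)))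
theorem Q1874 : ∀ i, i < 1874 → P i := stepQ 1873 Q1873 (allL N1873 (tt N1365 F3044) (tt N2567 D2567) (tt N1357 (iv D1873)) (tt N2568 D2568) (tt N1359 F3045) (tt N2569 D2569))
theorem Q1875 : ∀ i, i < 1875 → P i := stepQ 1874 Q1874 (allL N1874 (tt N1366 F3046) (tt N1773 F3047) (tt N2569 (iv F4148)) (tt N1358 F3048) (tt N2570 D2570) (tt N1357 (iv D1874)))
theorem Q1876 : ∀ i, i < 1876 → P i := stepQ 1875 Q1875 (allL N1875 (tt N2571 D2571) (tt N1359 (iv D1875)) (tt N2563 (iv F4135)) (tt N2557 (iv F4127)) (tt N2567 (iv F4145)) (tt N2556 F4125))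
theorem Q1877 : ∀ i, i < 1877 → P i := stepQ 1876 Q1876 (allL N1876 (tt N1370 F3049) (tt N2566 (iv F4141)) (tt N2558 (iv F4129)) (tt N1562 F3050) (tt N1360 (iv D1876)) (tt N2570 (iv F4152)))
theorem Q1878 : ∀ i, i < 1878 → P i := stepQ 1877 Q1877 (allL N1877 (tt N1361 (iv D1877)) (tt N1371 F3051) (tt N1505 F3052) (tt N2572 D2572) (tt N1619 F3053) (tt N2107 (iv F3415)))
theorem Q1879 : ∀ i, i < 1879 → P i := stepQ 1878 Q1878 (allL N1878 (tt N2572 (iv F4154)) (tt N1362 F3054) (tt N2573 D2573) (tt N1361 (iv D1878)) (tt N2574 D2574) (tt N2521 (iv F4068)))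
theorem Q1880 : ∀ i, i < 1880 → P i := stepQ 1879 Q1879 (allL N1879 (tt N1374 F3055) (tt N2574 (iv F4156)) (tt N2483 (iv F4010)) (tt N1622 F3056) (tt N1362 (iv D1879)) (tt N2575 D2575))
theorem Q1881 : ∀ i, i < 1881 → P i := stepQ 1880 Q1880 (allL N1880 (tt N2497 (iv F4037)) (tt N2576 D2576) (tt N1363 (iv D1880)) (tt N2577 D2577) (tt N2490 (iv F4025)) (tt N2578 D2578))
theorem Q1882 : ∀ i, i < 1882 → P i := stepQ 1881 Q1881 (allL N1881 (tt N2498 (iv F4039)) (tt N1761 F3057) (tt N2578 (iv F4161)) (tt N1364 F3058) (tt N2579 D2579) (tt N1363 (iv D1881)))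
theorem Q1883 : ∀ i, i < 1883 → P i := stepQ 1882 Q1882 (allL N1882 (tt N2580 D2580) (tt N1365 (iv D1882)) (tt N1593 F3059) (tt N2581 D2581) (tt N1367 F3060) (tt N2582 D2582))
theorem Q1884 : ∀ i, i < 1884 → P i := stepQ 1883 Q1883 (allL N1883 (tt N2568 (iv F4146)) (tt N2581 (iv F4166)) (tt N2583 D2583) (tt N1365 (iv D1883)) (tt N2584 D2584) (tt N2585 D2585))
theorem Q1885 : ∀ i, i < 1885 → P i := stepQ 1884 Q1884 (allL N1884 (tt N2569 (iv F4147)) (tt N2582 (iv F4167)) (tt N1366 F3061) (tt N2585 (iv F4170)) (tt N2586 D2586) (tt N1365 (iv D1884)))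
theorem Q1886 : ∀ i, i < 1886 → P i := stepQ 1885 Q1885 (allL N1885 (tt N2570 (iv F4149)) (tt N1591 F3062) (tt N2586 (iv F4171)) (tt N1570 F3063) (tt N1366 (iv D1885)) (tt N1370 F3064))
theorem Q1887 : ∀ i, i < 1887 → P i := stepQ 1886 Q1886 (allL N1886 (tt N1367 (iv D1886)) (tt N2571 (iv F4153)) (tt N1602 F3065) (tt N2587 D2587) (tt N2580 (iv F4165)) (tt N2588 D2588))
theorem Q1888 : ∀ i, i < 1888 → P i := stepQ 1887 Q1887 (allL N1887 (tt N2587 (iv F4173)) (tt N1368 F3066) (tt N2589 D2589) (tt N1367 (iv D1887)) (tt N2590 D2590) (tt N2535 (iv F4097)))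
theorem Q1889 : ∀ i, i < 1889 → P i := stepQ 1888 Q1888 (allL N1888 (tt N2588 (iv F4174)) (tt N1369 F3067) (tt N1601 F3068) (tt N2535 (iv F4096)) (tt N2591 D2591) (tt N1367 (iv D1888)))
theorem Q1890 : ∀ i, i < 1890 → P i := stepQ 1889 Q1889 (allL N1889 (tt N2559 (iv F4130)) (tt N2590 (iv F4176)) (tt N2536 (iv F4099)) (tt N2584 (iv F4169)) (tt N1368 (iv D1889)) (tt N2592 D2592))
theorem Q1891 : ∀ i, i < 1891 → P i := stepQ 1890 Q1890 (allL N1890 (tt N2558 (iv F4128)) (tt N2591 (iv F4177)) (tt N1370 F3069) (tt N2593 D2593) (tt N1369 (iv D1890)) (tt N2586 (iv F4172)))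
theorem Q1892 : ∀ i, i < 1892 → P i := stepQ 1891 Q1891 (allL N1891 (tt N1372 F3070) (tt N2572 (iv F4155)) (tt N2100 (iv F3401)) (tt N1371 (iv D1891)) (tt N2594 D2594) (tt N2108 (iv F3417)))
theorem Q1893 : ∀ i, i < 1893 → P i := stepQ 1892 Q1892 (allL N1892 (tt N2100 (iv F3400)) (tt N2595 D2595) (tt N1372 (iv D1892)) (tt N2097 (iv F3396)) (tt N2596 D2596) (tt N2110 (iv F3421)))
theorem Q1894 : ∀ i, i < 1894 → P i := stepQ 1893 Q1893 (allL N1893 (tt N2594 (iv F4179)) (tt N1374 F3071) (tt N2596 (iv F4182)) (tt N1626 F3072) (tt N1372 (iv D1893)) (tt N2597 D2597))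
theorem Q1895 : ∀ i, i < 1895 → P i := stepQ 1894 Q1894 (allL N1894 (tt N2598 D2598) (tt N1373 (iv D1894)) (tt N2595 (iv F4181)) (tt N2464 (iv F3974)) (tt N2599 D2599) (tt N2495 (iv F4034)))
theorem Q1896 : ∀ i, i < 1896 → P i := stepQ 1895 Q1895 (allL N1895 (tt N2483 (iv F4009)) (tt N2599 (iv F4185)) (tt N1374 F3073) (tt N2600 D2600) (tt N1373 (iv D1895)) (tt N2601 D2601))
theorem Q1897 : ∀ i, i < 1897 → P i := stepQ 1896 Q1896 (allL N1896 (tt N2575 (iv F4158)) (tt N2597 (iv F4183)) (tt N2601 (iv F4186)) (tt N1629 F3074) (tt N2562 (iv F4134)) (tt N1374 (iv D1896)))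
theorem Q1898 : ∀ i, i < 1898 → P i := stepQ 1897 Q1897 (allL N1897 (tt N1379 F3075) (tt N2602 D2602) (tt N1375 (iv D1897)) (tt N2603 D2603) (tt N2077 (iv F3370)) (tt N2604 D2604))
theorem Q1899 : ∀ i, i < 1899 → P i := stepQ 1898 Q1898 (allL N1898 (tt N1380 F3076) (tt N1392 F3077) (tt N2604 (iv F4192)) (tt N1376 F3078) (tt N2605 D2605) (tt N1375 (iv D1898)))
theorem Q1900 : ∀ i, i < 1900 → P i := stepQ 1899 Q1899 (allL N1899 (tt N2077 (iv F3369)) (tt N2606 D2606) (tt N1377 (iv D1899)) (tt N2607 D2607) (tt N1379 F3079) (tt N2608 D2608))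
theorem Q1901 : ∀ i, i < 1901 → P i := stepQ 1900 Q1900 (allL N1900 (tt N2078 (iv F3371)) (tt N1384 F3080) (tt N2608 (iv F4199)) (tt N1378 F3081) (tt N2609 D2609) (tt N1377 (iv D1900)))
theorem Q1902 : ∀ i, i < 1902 → P i := stepQ 1901 Q1901 (allL N1901 (tt N2610 D2610) (tt N1379 (iv D1901)) (tt N1385 F3082) (tt N2611 D2611) (tt N2606 (iv F4198)) (tt N1453 (iv F3083)))
theorem Q1903 : ∀ i, i < 1903 → P i := stepQ 1902 Q1902 (allL N1902 (tt N2603 (iv F4188)) (tt N2611 (iv F4204)) (tt N2612 D2612) (tt N1379 (iv D1902)) (tt N2613 D2613) (tt N2614 D2614))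
theorem Q1904 : ∀ i, i < 1904 → P i := stepQ 1903 Q1903 (allL N1903 (tt N2604 (iv F4191)) (tt N1453 F3084) (tt N1380 F3085) (tt N2614 (iv F4212)) (tt N2615 D2615) (tt N1379 (iv D1903)))
theorem Q1905 : ∀ i, i < 1905 → P i := stepQ 1904 Q1904 (allL N1904 (tt N2605 (iv F4194)) (tt N1386 F3086) (tt N2615 (iv F4214)) (tt N2616 D2616) (tt N1380 (iv D1904)) (tt N2609 (iv F4201)))
theorem Q1906 : ∀ i, i < 1906 → P i := stepQ 1905 Q1905 (allL N1905 (tt N1500 F3087) (tt N1387 F3088) (tt N2617 D2617) (tt N1381 (iv D1905)) (tt N2616 (iv F4217)) (tt N1382 F3089))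
theorem Q1907 : ∀ i, i < 1907 → P i := stepQ 1906 Q1906 (allL N1906 (tt N1499 F3090) (tt N2618 D2618) (tt N1382 (iv D1906)) (tt N2619 D2619) (tt N1932 (iv F3137)) (tt N2617 (iv F4219)))
theorem Q1908 : ∀ i, i < 1908 → P i := stepQ 1907 Q1907 (allL N1907 (tt N2620 D2620) (tt N1383 (iv D1907)) (tt N2606 (iv F4197)) (tt N2621 D2621) (tt N1385 F3091) (tt N2622 D2622))
theorem Q1909 : ∀ i, i < 1909 → P i := stepQ 1908 Q1908 (allL N1908 (tt N1404 F3092) (tt N2621 (iv F4224)) (tt N2623 D2623) (tt N1383 (iv D1908)) (tt N1457 F3093) (tt N2624 D2624))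
theorem Q1910 : ∀ i, i < 1910 → P i := stepQ 1909 Q1909 (allL N1909 (tt N1405 F3094) (tt N2622 (iv F4226)) (tt N1384 F3095) (tt N2624 (iv F4234)) (tt N1456 F3096) (tt N1383 (iv D1909)))
theorem Q1911 : ∀ i, i < 1911 → P i := stepQ 1910 Q1910 (allL N1910 (tt N1406 F3097) (tt N2609 (iv F4200)) (tt N1456 F3098) (tt N1937 (iv F3142)) (tt N1384 (iv D1910)) (tt N1386 F3099))
theorem Q1912 : ∀ i, i < 1912 → P i := stepQ 1911 Q1911 (allL N1911 (tt N1385 (iv D1911)) (tt N1409 F3100) (tt N2610 (iv F4202)) (tt N1452 F3101) (tt N2620 (iv F4223)) (tt N1451 F3102))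
theorem Q1913 : ∀ i, i < 1913 → P i := stepQ 1912 Q1912 (allL N1912 (tt N1414 F3103) (tt N2616 (iv F4216)) (tt N2625 D2625) (tt N1386 (iv D1912)) (tt N1387 F3104) (tt N1937 (iv F3143)))
theorem Q1914 : ∀ i, i < 1914 → P i := stepQ 1913 Q1913 (allL N1913 (tt N1415 F3105) (tt N2626 D2626) (tt N1387 (iv D1913)) (tt N1418 F3106) (tt N2625 (iv F4236)) (tt N1388 F3107))
theorem Q1915 : ∀ i, i < 1915 → P i := stepQ 1914 Q1914 (allL N1914 (tt N2627 D2627) (tt N1388 (iv D1914)) (tt N2618 (iv F4220)) (tt N2389 (iv F3877)) (tt N1934 (iv F3140)) (tt N2626 (iv F4238)))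
theorem Q1916 : ∀ i, i < 1916 → P i := stepQ 1915 Q1915 (allL N1915 (tt N2404 (iv F3897)) (tt N1390 F3108) (tt N2628 D2628) (tt N1389 (iv D1915)) (tt N2016 (iv F3276)) (tt N2364 (iv F3844)))
theorem Q1917 : ∀ i, i < 1917 → P i := stepQ 1916 Q1916 (allL N1916 (tt N1418 F3109) (tt N2629 D2629) (tt N1390 (iv D1916)) (tt N1415 F3110) (tt N2018 (iv F3280)) (tt N1417 F3111))
theorem Q1918 : ∀ i, i < 1918 → P i := stepQ 1917 Q1917 (allL N1917 (tt N2630 D2630) (tt N1391 (iv D1917)) (tt N2602 (iv F4187)) (tt N2631 D2631) (tt N2079 (iv F3374)) (tt N2632 D2632))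
theorem Q1919 : ∀ i, i < 1919 → P i := stepQ 1918 Q1918 (allL N1918 (tt N1396 F3112) (tt N2631 (iv F4243)) (tt N1429 F3113) (tt N1391 (iv D1918)) (tt N2633 D2633) (tt N1427 (iv F3114)))
theorem Q1920 : ∀ i, i < 1920 → P i := stepQ 1919 Q1919 (allL N1919 (tt N1397 F3115) (tt N2632 (iv F4246)) (tt N1392 F3116) (tt N1427 F3117) (tt N2634 D2634) (tt N1391 (iv D1919)))
theorem Q1921 : ∀ i, i < 1921 → P i := stepQ 1920 Q1920 (allL N1920 (tt N1398 F3118) (tt N2605 (iv F4195)) (tt N2634 (iv F4251)) (tt N1504 F3119) (tt N1392 (iv D1920)) (tt N2082 (iv F3380)))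
theorem Q1922 : ∀ i, i < 1922 → P i := stepQ 1921 Q1921 (allL N1921 (tt N2635 D2635) (tt N1393 (iv D1921)) (tt N1403 F3120) (tt N2636 D2636) (tt N1395 F3121) (tt N2637 D2637))
theorem Q1923 : ∀ i, i < 1923 → P i := stepQ 1922 Q1922 (allL N1922 (tt N2080 (iv F3375)) (tt N2636 (iv F4254)) (tt N2088 (iv F3387)) (tt N1393 (iv D1922)) (tt N2638 D2638) (tt N2086 F3385))
theorem Q1924 : ∀ i, i < 1924 → P i := stepQ 1923 Q1923 (allL N1923 (tt N2081 (iv F3376)) (tt N2637 (iv F4255)) (tt N1394 F3122) (tt N2086 (iv F3384)) (tt N2639 D2639) (tt N1393 (iv D1923)))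
theorem Q1925 : ∀ i, i < 1925 → P i := stepQ 1924 Q1924 (allL N1924 (tt N2082 (iv F3378)) (tt N1406 F3123) (tt N2639 (iv F4258)) (tt N1515 F3124) (tt N1394 (iv D1924)) (tt N1398 F3125))
theorem Q1926 : ∀ i, i < 1926 → P i := stepQ 1925 Q1925 (allL N1925 (tt N1395 (iv D1925)) (tt N2630 (iv F4242)) (tt N1409 F3126) (tt N2640 D2640) (tt N2635 (iv F4253)) (tt N2641 D2641))
theorem Q1927 : ∀ i, i < 1927 → P i := stepQ 1926 Q1926 (allL N1926 (tt N2640 (iv F4260)) (tt N1396 F3127) (tt N2642 D2642) (tt N1395 (iv D1926)) (tt N2643 D2643) (tt N2644 D2644))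
theorem Q1928 : ∀ i, i < 1928 → P i := stepQ 1927 Q1927 (allL N1927 (tt N2641 (iv F4261)) (tt N1397 F3128) (tt N1411 F3129) (tt N2644 (iv F4265)) (tt N2645 D2645) (tt N1395 (iv D1927)))
theorem Q1929 : ∀ i, i < 1929 → P i := stepQ 1928 Q1928 (allL N1928 (tt N1429 F3130) (tt N2646 D2646) (tt N1396 (iv D1928)) (tt N1423 F3131) (tt N2647 D2647) (tt N1422 (iv F3132)))
theorem Q1930 : ∀ i, i < 1930 → P i := stepQ 1929 Q1929 (allL N1929 (tt N2633 (iv F4248)) (tt N2643 (iv F4263)) (tt N2647 (iv F4272)) (tt N2638 (iv F4257)) (tt N1396 (iv D1929)) (tt N2648 D2648))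
theorem Q1931 : ∀ i, i < 1931 → P i := stepQ 1930 Q1930 (allL N1930 (tt N1427 F3133) (tt N2644 (iv F4264)) (tt N1422 F3134) (tt N1397 F3135) (tt N2649 D2649) (tt N1396 (iv D1930)))
theorem Q1932 : ∀ i, i < 1932 → P i := stepQ 1931 Q1931 (allL N1931 (tt N2634 (iv F4250)) (tt N2645 (iv F4266)) (tt N1398 F3136) (tt N2650 D2650) (tt N1397 (iv D1931)) (tt N2639 (iv F4259)))
theorem Q1933 : ∀ i, i < 1933 → P i := stepQ 1932 Q1932 (allL N1932 (tt N2062 (iv F3348)) (tt N2651 D2651) (tt N1399 (iv D1932)) (tt N2652 D2652) (tt N1906 F3137) (tt N2653 D2653))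
theorem Q1934 : ∀ i, i < 1934 → P i := stepQ 1933 Q1933 (allL N1933 (tt N2063 (iv F3350)) (tt N1402 F3138) (tt N2653 (iv F4277)) (tt N1400 F3139) (tt N2654 D2654) (tt N1399 (iv D1933)))
theorem Q1935 : ∀ i, i < 1935 → P i := stepQ 1934 Q1934 (allL N1934 (tt N2655 D2655) (tt N1401 (iv D1934)) (tt N2651 (iv F4275)) (tt N2656 D2656) (tt N1914 F3140) (tt N2657 D2657))
theorem Q1936 : ∀ i, i < 1936 → P i := stepQ 1935 Q1935 (allL N1935 (tt N1948 (iv F3162)) (tt N2656 (iv F4282)) (tt N2624 (iv F4233)) (tt N1401 (iv D1935)) (tt N2658 D2658) (tt N2623 F4231))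
theorem Q1937 : ∀ i, i < 1937 → P i := stepQ 1936 Q1936 (allL N1936 (tt N1946 (iv F3157)) (tt N2657 (iv F4283)) (tt N1402 F3141) (tt N2623 (iv F4229)) (tt N2659 D2659) (tt N1401 (iv D1936)))
theorem Q1938 : ∀ i, i < 1938 → P i := stepQ 1937 Q1937 (allL N1937 (tt N1945 (iv F3153)) (tt N2654 (iv F4278)) (tt N2659 (iv F4285)) (tt N1910 F3142) (tt N1402 (iv D1937)) (tt N1912 F3143))
theorem Q1939 : ∀ i, i < 1939 → P i := stepQ 1938 Q1938 (allL N1938 (tt N1403 (iv D1938)) (tt N2620 (iv F4222)) (tt N2635 (iv F4252)) (tt N2660 D2660) (tt N1409 F3144) (tt N2661 D2661))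
theorem Q1940 : ∀ i, i < 1940 → P i := stepQ 1939 Q1939 (allL N1939 (tt N2660 (iv F4287)) (tt N1404 F3145) (tt N2662 D2662) (tt N1403 (iv D1939)) (tt N2663 D2663) (tt N2664 D2664))
theorem Q1941 : ∀ i, i < 1941 → P i := stepQ 1940 Q1940 (allL N1940 (tt N2661 (iv F4288)) (tt N1405 F3146) (tt N2637 (iv F4256)) (tt N2664 (iv F4292)) (tt N2665 D2665) (tt N1403 (iv D1940)))
theorem Q1942 : ∀ i, i < 1942 → P i := stepQ 1941 Q1941 (allL N1941 (tt N2623 (iv F4228)) (tt N2666 D2666) (tt N1404 (iv D1941)) (tt N1946 (iv F3159)) (tt N2667 D2667) (tt N1948 (iv F3163)))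
theorem Q1943 : ∀ i, i < 1943 → P i := stepQ 1942 Q1942 (allL N1942 (tt N1457 F3147) (tt N2663 (iv F4289)) (tt N2667 (iv F4296)) (tt N1412 F3148) (tt N1404 (iv D1942)) (tt N2668 D2668))
theorem Q1944 : ∀ i, i < 1944 → P i := stepQ 1943 Q1943 (allL N1943 (tt N2624 (iv F4232)) (tt N2664 (iv F4291)) (tt N1948 (iv F3164)) (tt N1405 F3149) (tt N2669 D2669) (tt N1404 (iv D1943)))
theorem Q1945 : ∀ i, i < 1945 → P i := stepQ 1944 Q1944 (allL N1944 (tt N1456 F3150) (tt N2665 (iv F4293)) (tt N1406 F3151) (tt N2670 D2670) (tt N1405 (iv D1944)) (tt N1413 F3152))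
theorem Q1946 : ∀ i, i < 1946 → P i := stepQ 1945 Q1945 (allL N1945 (tt N1937 F3153) (tt N1515 F3154) (tt N2671 D2671) (tt N1406 (iv D1945)) (tt N1407 F3155) (tt N1414 F3156))
theorem Q1947 : ∀ i, i < 1947 → P i := stepQ 1946 Q1946 (allL N1946 (tt N1936 F3157) (tt N2672 D2672) (tt N1407 (iv D1946)) (tt N1941 F3159) (tt N2671 (iv F4302)) (tt N1408 F3158))
theorem Q1948 : ∀ i, i < 1948 → P i := stepQ 1947 Q1947 (allL N1947 (tt N2673 D2673) (tt N1408 (iv D1947)) (tt N1512 F3160) (tt N2674 D2674) (tt N1416 F3161) (tt N2672 (iv F4306)))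
theorem Q1949 : ∀ i, i < 1949 → P i := stepQ 1948 Q1948 (allL N1948 (tt N1935 F3162) (tt N2674 (iv F4310)) (tt N1943 F3164) (tt N1408 (iv D1948)) (tt N2675 D2675) (tt N1941 F3163))
theorem Q1950 : ∀ i, i < 1950 → P i := stepQ 1949 Q1949 (allL N1949 (tt N1410 F3165) (tt N1452 F3166) (tt N2676 D2676) (tt N1409 (iv D1949)) (tt N2677 D2677) (tt N1435 (iv F3167)))
theorem Q1951 : ∀ i, i < 1951 → P i := stepQ 1950 Q1950 (allL N1950 (tt N1411 F3168) (tt N1451 F3169) (tt N2641 (iv F4262)) (tt N1435 F3170) (tt N2678 D2678) (tt N1409 (iv D1950)))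
theorem Q1952 : ∀ i, i < 1952 → P i := stepQ 1951 Q1951 (allL N1951 (tt N2676 (iv F4315)) (tt N1433 F3171) (tt N1410 (iv D1951)) (tt N2679 D2679) (tt N2680 D2680) (tt N1431 F3172))
theorem Q1953 : ∀ i, i < 1953 → P i := stepQ 1952 Q1952 (allL N1952 (tt N2677 (iv F4318)) (tt N1412 F3173) (tt N2680 (iv F4325)) (tt N2663 (iv F4290)) (tt N1410 (iv D1952)) (tt N2680 (iv F4326)))
theorem Q1954 : ∀ i, i < 1954 → P i := stepQ 1953 Q1953 (allL N1953 (tt N2678 (iv F4320)) (tt N1413 F3174) (tt N2645 (iv F4267)) (tt N2681 D2681) (tt N1411 (iv D1953)) (tt N2665 (iv F4294)))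
theorem Q1955 : ∀ i, i < 1955 → P i := stepQ 1954 Q1954 (allL N1954 (tt N1450 F3175) (tt N2680 (iv F4324)) (tt N1434 F3176) (tt N2668 (iv F4298)) (tt N1433 F3177) (tt N1412 (iv D1954)))
theorem Q1956 : ∀ i, i < 1956 → P i := stepQ 1955 Q1955 (allL N1955 (tt N1448 F3178) (tt N2681 (iv F4327)) (tt N2682 D2682) (tt N1413 (iv D1955)) (tt N1432 F3179) (tt N2670 (iv F4300)))
theorem Q1957 : ∀ i, i < 1957 → P i := stepQ 1956 Q1956 (allL N1956 (tt N2625 (iv F4235)) (tt N2683 D2683) (tt N1414 (iv D1956)) (tt N2684 D2684) (tt N1415 F3180) (tt N2671 (iv F4303)))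
theorem Q1958 : ∀ i, i < 1958 → P i := stepQ 1957 Q1957 (allL N1957 (tt N2685 D2685) (tt N1415 (iv D1957)) (tt N1518 F3181) (tt N2629 (iv F4240)) (tt N2683 (iv F4332)) (tt N1416 F3182))
theorem Q1959 : ∀ i, i < 1959 → P i := stepQ 1958 Q1958 (allL N1958 (tt N1416 (iv D1958)) (tt N2627 (iv F4239)) (tt N1516 F3183) (tt N2686 D2686) (tt N2673 (iv F4309)) (tt N2685 (iv F4334)))
theorem Q1960 : ∀ i, i < 1960 → P i := stepQ 1959 Q1959 (allL N1959 (tt N2686 (iv F4335)) (tt N1417 F3184) (tt N2687 D2687) (tt N1416 (iv D1959)) (tt N2688 D2688) (tt N2629 (iv F4241)))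
theorem Q1961 : ∀ i, i < 1961 → P i := stepQ 1960 Q1960 (allL N1960 (tt N2388 (iv F3875)) (tt N2688 (iv F4336)) (tt N2303 F3761) (tt N2675 (iv F4314)) (tt N1417 (iv D1960)) (tt N2689 D2689))
theorem Q1962 : ∀ i, i < 1962 → P i := stepQ 1961 Q1961 (allL N1961 (tt N2690 D2690) (tt N1418 (iv D1961)) (tt N2412 (iv F3909)) (tt N2626 (iv F4237)) (tt N2691 D2691) (tt N2389 (iv F3878)))
theorem Q1963 : ∀ i, i < 1963 → P i := stepQ 1962 Q1962 (allL N1962 (tt N2018 (iv F3279)) (tt N2691 (iv F4337)) (tt N1419 F3185) (tt N2692 D2692) (tt N1418 (iv D1962)) (tt N2693 D2693))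
theorem Q1964 : ∀ i, i < 1964 → P i := stepQ 1963 Q1963 (allL N1963 (tt N2019 (iv F3281)) (tt N2411 (iv F3907)) (tt N2693 (iv F4340)) (tt N1420 F3186) (tt N2387 (iv F3873)) (tt N1419 (iv D1963)))
theorem Q1965 : ∀ i, i < 1965 → P i := stepQ 1964 Q1964 (allL N1964 (tt N1421 (iv D1964)) (tt N1425 F3187) (tt N1619 F3188) (tt N2694 D2694) (tt N1505 F3189) (tt N1739 (iv F3190)))
theorem Q1966 : ∀ i, i < 1966 → P i := stepQ 1965 Q1965 (allL N1965 (tt N2694 (iv F4342)) (tt N1422 F3191) (tt N2695 D2695) (tt N1421 (iv D1965)) (tt N2696 D2696) (tt N2646 (iv F4270)))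
theorem Q1967 : ∀ i, i < 1967 → P i := stepQ 1966 Q1966 (allL N1966 (tt N1739 F3192) (tt N1423 F3193) (tt N1621 F3194) (tt N2646 (iv F4269)) (tt N2697 D2697) (tt N1421 (iv D1966)))
theorem Q1968 : ∀ i, i < 1968 → P i := stepQ 1967 Q1967 (allL N1967 (tt N1428 F3195) (tt N2696 (iv F4345)) (tt N2649 (iv F4274)) (tt N1507 F3196) (tt N1422 (iv D1967)) (tt N2698 D2698))
theorem Q1969 : ∀ i, i < 1969 → P i := stepQ 1968 Q1968 (allL N1968 (tt N1430 F3197) (tt N2697 (iv F4348)) (tt N1424 F3198) (tt N2699 D2699) (tt N1423 (iv D1968)) (tt N1476 F3199))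
theorem Q1970 : ∀ i, i < 1970 → P i := stepQ 1969 Q1969 (allL N1969 (tt N1426 F3200) (tt N2694 (iv F4343)) (tt N1726 F3202) (tt N1425 (iv D1969)) (tt N2700 D2700) (tt N1740 F3201))
theorem Q1971 : ∀ i, i < 1971 → P i := stepQ 1970 Q1970 (allL N1970 (tt N1726 F3203) (tt N2701 D2701) (tt N1426 (iv D1970)) (tt N1721 F3205) (tt N2702 D2702) (tt N1741 F3204))
theorem Q1972 : ∀ i, i < 1972 → P i := stepQ 1971 Q1971 (allL N1971 (tt N2700 (iv F4356)) (tt N1428 F3206) (tt N2702 (iv F4363)) (tt N1523 F3207) (tt N1426 (iv D1971)) (tt N2703 D2703))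
theorem Q1973 : ∀ i, i < 1973 → P i := stepQ 1972 Q1972 (allL N1972 (tt N2704 D2704) (tt N1427 (iv D1972)) (tt N2701 (iv F4359)) (tt N2632 (iv F4247)) (tt N2705 D2705) (tt N2631 F4245))
theorem Q1974 : ∀ i, i < 1974 → P i := stepQ 1973 Q1973 (allL N1973 (tt N2649 (iv F4273)) (tt N2705 (iv F4367)) (tt N1428 F3208) (tt N2706 D2706) (tt N1427 (iv D1973)) (tt N2707 D2707))
theorem Q1975 : ∀ i, i < 1975 → P i := stepQ 1974 Q1974 (allL N1974 (tt N2698 (iv F4351)) (tt N2703 (iv F4364)) (tt N2707 (iv F4368)) (tt N1526 F3209) (tt N2708 D2708) (tt N1428 (iv D1974)))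
theorem Q1976 : ∀ i, i < 1976 → P i := stepQ 1975 Q1975 (allL N1975 (tt N2647 (iv F4271)) (tt N1742 F3210) (tt N2633 (iv F4249)) (tt N2709 D2709) (tt N1429 (iv D1975)) (tt N2708 (iv F4370)))
theorem Q1977 : ∀ i, i < 1977 → P i := stepQ 1976 Q1976 (allL N1976 (tt N2699 (iv F4353)) (tt N1633 F3211) (tt N2710 D2710) (tt N1430 (iv D1976)) (tt N2709 (iv F4372)) (tt N1492 F3212))
theorem Q1978 : ∀ i, i < 1978 → P i := stepQ 1977 Q1977 (allL N1977 (tt N1431 (iv D1977)) (tt N1444 F3213) (tt N1435 F3214) (tt N2711 D2711) (tt N1435 F3215) (tt N2676 (iv F4317)))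
theorem Q1979 : ∀ i, i < 1979 → P i := stepQ 1978 Q1978 (allL N1978 (tt N2711 (iv F4376)) (tt N1432 F3216) (tt N2712 D2712) (tt N1431 (iv D1978)) (tt N2681 (iv F4328)) (tt N2679 (iv F4323)))
theorem Q1980 : ∀ i, i < 1980 → P i := stepQ 1979 Q1979 (allL N1979 (tt N1447 F3217) (tt N2713 D2713) (tt N1432 (iv D1979)) (tt N1442 F3218) (tt N2682 (iv F4330)) (tt N1441 (iv F3219)))
theorem Q1981 : ∀ i, i < 1981 → P i := stepQ 1980 Q1980 (allL N1980 (tt N1449 F3220) (tt N2679 (iv F4322)) (tt N1441 F3221) (tt N1433 F3222) (tt N2714 D2714) (tt N1432 (iv D1980)))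
theorem Q1982 : ∀ i, i < 1982 → P i := stepQ 1981 Q1981 (allL N1981 (tt N1437 F3223) (tt N1757 F3224) (tt N1436 (iv D1981)) (tt N1756 F3225) (tt N2715 D2715) (tt N2011 (iv F3269)))
theorem Q1983 : ∀ i, i < 1983 → P i := stepQ 1982 Q1982 (allL N1982 (tt N1438 F3226) (tt N1458 F3227) (tt N2715 (iv F4384)) (tt N2359 (iv F3835)) (tt N1436 (iv D1982)) (tt N2716 D2716))
theorem Q1984 : ∀ i, i < 1984 → P i := stepQ 1983 Q1983 (allL N1983 (tt N1756 F3228) (tt N1614 F3229) (tt N1766 F3231) (tt N1437 (iv D1983)) (tt N2717 D2717) (tt N1702 F3230))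
theorem Q1985 : ∀ i, i < 1985 → P i := stepQ 1984 Q1984 (allL N1984 (tt N2715 (iv F4382)) (tt N1752 F3232) (tt N1438 F3233) (tt N2718 D2718) (tt N1437 (iv D1984)) (tt N2719 D2719))
theorem Q1986 : ∀ i, i < 1986 → P i := stepQ 1985 Q1985 (allL N1985 (tt N2716 (iv F4385)) (tt N1439 F3234) (tt N2719 (iv F4392)) (tt N2363 (iv F3842)) (tt N2017 (iv F3278)) (tt N1438 (iv D1985)))
theorem Q1987 : ∀ i, i < 1987 → P i := stepQ 1986 Q1986 (allL N1986 (tt N1440 (iv D1986)) (tt N1634 F3235) (tt N1657 F3236) (tt N2720 D2720) (tt N1657 F3237) (tt N2721 D2721))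
theorem Q1988 : ∀ i, i < 1988 → P i := stepQ 1987 Q1987 (allL N1987 (tt N2720 (iv F4393)) (tt N1441 F3238) (tt N2722 D2722) (tt N1440 (iv D1987)) (tt N2723 D2723) (tt N2713 (iv F4379)))
theorem Q1989 : ∀ i, i < 1989 → P i := stepQ 1988 Q1988 (allL N1988 (tt N2721 (iv F4395)) (tt N1442 F3239) (tt N1659 F3240) (tt N2713 (iv F4378)) (tt N2724 D2724) (tt N1440 (iv D1988)))
theorem Q1990 : ∀ i, i < 1990 → P i := stepQ 1989 Q1989 (allL N1989 (tt N1636 F3241) (tt N2723 (iv F4398)) (tt N2714 (iv F4381)) (tt N1660 F3242) (tt N1441 (iv D1989)) (tt N2725 D2725))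
theorem Q1991 : ∀ i, i < 1991 → P i := stepQ 1990 Q1990 (allL N1990 (tt N1637 F3243) (tt N2724 (iv F4400)) (tt N1443 F3244) (tt N2726 D2726) (tt N1442 (iv D1990)) (tt N1661 F3245))
theorem Q1992 : ∀ i, i < 1992 → P i := stepQ 1991 Q1991 (allL N1991 (tt N1445 F3246) (tt N2711 (iv F4377)) (tt N2727 D2727) (tt N1444 (iv D1991)) (tt N2728 D2728) (tt N2729 D2729))
theorem Q1993 : ∀ i, i < 1993 → P i := stepQ 1992 Q1992 (allL N1992 (tt N1446 F3247) (tt N2676 (iv F4316)) (tt N2257 (iv F3665)) (tt N2729 (iv F4411)) (tt N2730 D2730) (tt N1444 (iv D1992)))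
theorem Q1994 : ∀ i, i < 1994 → P i := stepQ 1993 Q1993 (allL N1993 (tt N2727 (iv F4407)) (tt N2731 D2731) (tt N1445 (iv D1993)) (tt N2732 D2732) (tt N2733 D2733) (tt N2734 D2734))
theorem Q1995 : ∀ i, i < 1995 → P i := stepQ 1994 Q1994 (allL N1994 (tt N2728 (iv F4408)) (tt N1448 F3248) (tt N2733 (iv F4416)) (tt N1454 F3249) (tt N1445 (iv D1994)) (tt N2735 D2735))
theorem Q1996 : ∀ i, i < 1996 → P i := stepQ 1995 Q1995 (allL N1995 (tt N2729 (iv F4410)) (tt N1449 F3250) (tt N2734 (iv F4418)) (tt N1446 F3251) (tt N2736 D2736) (tt N1445 (iv D1995)))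
theorem Q1997 : ∀ i, i < 1997 → P i := stepQ 1996 Q1996 (allL N1996 (tt N2730 (iv F4412)) (tt N1450 F3252) (tt N2255 (iv F3658)) (tt N2737 D2737) (tt N1446 (iv D1996)) (tt N1455 F3253))
theorem Q1998 : ∀ i, i < 1998 → P i := stepQ 1997 Q1997 (allL N1997 (tt N2738 D2738) (tt N1447 (iv D1997)) (tt N2731 (iv F4414)) (tt N1597 F3254) (tt N2739 D2739) (tt N1635 F3255))
theorem Q1999 : ∀ i, i < 1999 → P i := stepQ 1998 Q1998 (allL N1998 (tt N2682 (iv F4329)) (tt N2739 (iv F4426)) (tt N1448 F3256) (tt N2740 D2740) (tt N1447 (iv D1998)) (tt N2741 D2741))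
theorem Q2000 : ∀ i, i < 2000 → P i := stepQ 1999 Q1999 (allL N1999 (tt N2670 (iv F4299)) (tt N2735 (iv F4419)) (tt N2741 (iv F4428)) (tt N1456 F3257) (tt N2742 D2742) (tt N1448 (iv D1999)))
theorem Q2001 : ∀ i, i < 2001 → P i := stepQ 2000 Q2000 (allL N2000 (tt N2714 (iv F4380)) (tt N2736 (iv F4421)) (tt N1636 F3258) (tt N2743 D2743) (tt N1449 (iv D2000)) (tt N2742 (iv F4431)))
theorem Q2002 : ∀ i, i < 2002 → P i := stepQ 2001 Q2001 (allL N2001 (tt N2668 (iv F4297)) (tt N2737 (iv F4422)) (tt N2744 D2744) (tt N1450 (iv D2001)) (tt N2743 (iv F4432)) (tt N1457 F3259))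
theorem Q2003 : ∀ i, i < 2003 → P i := stepQ 2002 Q2002 (allL N2002 (tt N1453 F3260) (tt N2745 D2745) (tt N1451 (iv D2002)) (tt N2746 D2746) (tt N2747 D2747) (tt N2610 (iv F4203)))
theorem Q2004 : ∀ i, i < 2004 → P i := stepQ 2003 Q2003 (allL N2003 (tt N1454 F3261) (tt N2678 (iv F4321)) (tt N2747 (iv F4436)) (tt N2728 (iv F4409)) (tt N1451 (iv D2003)) (tt N2748 D2748))
theorem Q2005 : ∀ i, i < 2005 → P i := stepQ 2004 Q2004 (allL N2004 (tt N1455 F3262) (tt N2677 (iv F4319)) (tt N2320 (iv F3777)) (tt N2749 D2749) (tt N1452 (iv D2004)) (tt N2730 (iv F4413)))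
theorem Q2006 : ∀ i, i < 2006 → P i := stepQ 2005 Q2005 (allL N2005 (tt N2746 (iv F4434)) (tt N2614 (iv F4210)) (tt N2750 D2750) (tt N1453 (iv D2005)) (tt N2751 D2751) (tt N2611 (iv F4205)))
theorem Q2007 : ∀ i, i < 2007 → P i := stepQ 2006 Q2006 (allL N2006 (tt N2747 (iv F4435)) (tt N2615 (iv F4213)) (tt N1454 F3263) (tt N2752 D2752) (tt N1453 (iv D2006)) (tt N2753 D2753))
theorem Q2008 : ∀ i, i < 2008 → P i := stepQ 2007 Q2007 (allL N2007 (tt N2748 (iv F4437)) (tt N1456 F3264) (tt N2753 (iv F4439)) (tt N2735 (iv F4420)) (tt N2622 (iv F4227)) (tt N1454 (iv D2007)))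
theorem Q2009 : ∀ i, i < 2009 → P i := stepQ 2008 Q2008 (allL N2008 (tt N2749 (iv F4438)) (tt N1457 F3265) (tt N2754 D2754) (tt N1455 (iv D2008)) (tt N2621 (iv F4225)) (tt N2737 (iv F4423)))
theorem Q2010 : ∀ i, i < 2010 → P i := stepQ 2009 Q2009 (allL N2009 (tt N2667 (iv F4295)) (tt N2755 D2755) (tt N1457 (iv D2009)) (tt N2756 D2756) (tt N2623 (iv F4230)) (tt N2744 (iv F4433)))
theorem Q2011 : ∀ i, i < 2011 → P i := stepQ 2010 Q2010 (allL N2010 (tt N1461 F3266) (tt N2716 (iv F4386)) (tt N2354 (iv F3828)) (tt N2368 (iv F3851)) (tt N2406 (iv F3902)) (tt N1458 (iv D2010)))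
theorem Q2012 : ∀ i, i < 2012 → P i := stepQ 2011 Q2011 (allL N2011 (tt N1459 (iv D2011)) (tt N1764 F3267) (tt N1462 F3268) (tt N2279 (iv F3718)) (tt N2757 D2757) (tt N1981 F3269))
theorem Q2013 : ∀ i, i < 2013 → P i := stepQ 2012 Q2012 (allL N2012 (tt N2757 (iv F4441)) (tt N1460 F3270) (tt N1463 F3271) (tt N2758 D2758) (tt N1459 (iv D2012)) (tt N2759 D2759))
theorem Q2014 : ∀ i, i < 2014 → P i := stepQ 2013 Q2013 (allL N2013 (tt N2353 (iv F3825)) (tt N2758 (iv F4444)) (tt N2760 D2760) (tt N1460 (iv D2013)) (tt N2347 (iv F3815)) (tt N2761 D2761))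
theorem Q2015 : ∀ i, i < 2015 → P i := stepQ 2014 Q2014 (allL N2014 (tt N2354 (iv F3827)) (tt N2759 (iv F4445)) (tt N1461 F3272) (tt N2761 (iv F4448)) (tt N2409 (iv F3905)) (tt N1460 (iv D2014)))
theorem Q2016 : ∀ i, i < 2016 → P i := stepQ 2015 Q2015 (allL N2015 (tt N1463 F3273) (tt N1750 F3274) (tt N2757 (iv F4443)) (tt N2762 D2762) (tt N1462 (iv D2015)) (tt N2763 D2763))
theorem Q2017 : ∀ i, i < 2017 → P i := stepQ 2016 Q2016 (allL N2016 (tt N2762 (iv F4449)) (tt N1464 F3275) (tt N2764 D2764) (tt N1463 (iv D2016)) (tt N1915 F3276) (tt N2765 D2765))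
theorem Q2018 : ∀ i, i < 2018 → P i := stepQ 2017 Q2017 (allL N2017 (tt N2763 (iv F4452)) (tt N1465 F3277) (tt N2759 (iv F4446)) (tt N2765 (iv F4457)) (tt N1985 F3278) (tt N1463 (iv D2017)))
theorem Q2019 : ∀ i, i < 2019 → P i := stepQ 2018 Q2018 (allL N2018 (tt N1962 F3279) (tt N2766 D2766) (tt N1464 (iv D2018)) (tt N2767 D2767) (tt N1916 F3280) (tt N2768 D2768))
theorem Q2020 : ∀ i, i < 2020 → P i := stepQ 2019 Q2019 (allL N2019 (tt N1963 F3281) (tt N2765 (iv F4456)) (tt N2768 (iv F4462)) (tt N1465 F3282) (tt N2769 D2769) (tt N1464 (iv D2019)))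
theorem Q2021 : ∀ i, i < 2021 → P i := stepQ 2020 Q2020 (allL N2020 (tt N1468 F3283) (tt N1475 F3284) (tt N2770 D2770) (tt N1466 (iv D2020)) (tt N2041 (iv F3317)) (tt N2771 D2771))
theorem Q2022 : ∀ i, i < 2022 → P i := stepQ 2021 Q2021 (allL N2021 (tt N1469 F3285) (tt N1474 F3286) (tt N2528 (iv F4085)) (tt N2771 (iv F4471)) (tt N1469 F3287) (tt N1466 (iv D2021)))
theorem Q2023 : ∀ i, i < 2023 → P i := stepQ 2022 Q2022 (allL N2022 (tt N2041 (iv F3315)) (tt N1470 F3288) (tt N2772 D2772) (tt N1467 (iv D2022)) (tt N1468 F3289) (tt N2773 D2773))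
theorem Q2024 : ∀ i, i < 2024 → P i := stepQ 2023 Q2023 (allL N2023 (tt N2042 (iv F3318)) (tt N1471 F3290) (tt N2042 (iv F3320)) (tt N2773 (iv F4474)) (tt N2042 (iv F3321)) (tt N1467 (iv D2023)))
theorem Q2025 : ∀ i, i < 2025 → P i := stepQ 2024 Q2024 (allL N2024 (tt N2770 (iv F4468)) (tt N2774 D2774) (tt N1468 (iv D2024)) (tt N2775 D2775) (tt N2772 (iv F4472)) (tt N2776 D2776))
theorem Q2026 : ∀ i, i < 2026 → P i := stepQ 2025 Q2025 (allL N2025 (tt N2771 (iv F4469)) (tt N1473 F3291) (tt N2776 (iv F4478)) (tt N1469 F3292) (tt N2777 D2777) (tt N1468 (iv D2025)))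
theorem Q2027 : ∀ i, i < 2027 → P i := stepQ 2026 Q2026 (allL N2026 (tt N1485 F3293) (tt N2778 D2778) (tt N1470 (iv D2026)) (tt N2779 D2779) (tt N1472 F3294) (tt N2780 D2780))
theorem Q2028 : ∀ i, i < 2028 → P i := stepQ 2027 Q2027 (allL N2027 (tt N1486 F3295) (tt N2773 (iv F4473)) (tt N2780 (iv F4484)) (tt N1471 F3296) (tt N2781 D2781) (tt N1470 (iv D2027)))
theorem Q2029 : ∀ i, i < 2029 → P i := stepQ 2028 Q2028 (allL N2028 (tt N2782 D2782) (tt N1472 (iv D2028)) (tt N2774 (iv F4475)) (tt N1518 F3297) (tt N2778 (iv F4480)) (tt N1517 F3298))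
theorem Q2030 : ∀ i, i < 2030 → P i := stepQ 2029 Q2029 (allL N2029 (tt N1490 F3299) (tt N2777 (iv F4479)) (tt N1519 F3300) (tt N2783 D2783) (tt N1473 (iv D2029)) (tt N2781 (iv F4488)))
theorem Q2031 : ∀ i, i < 2031 → P i := stepQ 2030 Q2030 (allL N2030 (tt N1481 F3301) (tt N2771 (iv F4470)) (tt N2784 D2784) (tt N1474 (iv D2030)) (tt N2783 (iv F4493)) (tt N1475 F3302))
theorem Q2032 : ∀ i, i < 2032 → P i := stepQ 2031 Q2031 (allL N2031 (tt N1480 F3303) (tt N2785 D2785) (tt N1475 (iv D2031)) (tt N2710 (iv F4375)) (tt N2043 (iv F3323)) (tt N2784 (iv F4496)))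
theorem Q2033 : ∀ i, i < 2033 → P i := stepQ 2032 Q2032 (allL N2032 (tt N2786 D2786) (tt N1476 (iv D2032)) (tt N2539 (iv F4104)) (tt N2787 D2787) (tt N1477 F3304) (tt N2697 (iv F4350)))
theorem Q2034 : ∀ i, i < 2034 → P i := stepQ 2033 Q2033 (allL N2033 (tt N1492 F3305) (tt N2787 (iv F4500)) (tt N2788 D2788) (tt N1476 (iv D2033)) (tt N2105 (iv F3409)) (tt N2699 (iv F4354)))
theorem Q2035 : ∀ i, i < 2035 → P i := stepQ 2034 Q2034 (allL N2034 (tt N1477 (iv D2034)) (tt N1493 F3306) (tt N2107 (iv F3414)) (tt N2103 (iv F3405)) (tt N2786 (iv F4498)) (tt N1505 F3307))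
theorem Q2036 : ∀ i, i < 2036 → P i := stepQ 2035 Q2035 (allL N2035 (tt N2043 (iv F3322)) (tt N2789 D2789) (tt N1478 (iv D2035)) (tt N2790 D2790) (tt N1480 F3308) (tt N2791 D2791))
theorem Q2037 : ∀ i, i < 2037 → P i := stepQ 2036 Q2036 (allL N2036 (tt N2044 (iv F3324)) (tt N1486 F3309) (tt N2791 (iv F4506)) (tt N1479 F3310) (tt N2792 D2792) (tt N1478 (iv D2036)))
theorem Q2038 : ∀ i, i < 2038 → P i := stepQ 2037 Q2037 (allL N2037 (tt N2793 D2793) (tt N1480 (iv D2037)) (tt N1487 F3311) (tt N2794 D2794) (tt N2789 (iv F4505)) (tt N2795 D2795))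
theorem Q2039 : ∀ i, i < 2039 → P i := stepQ 2038 Q2038 (allL N2038 (tt N2710 (iv F4373)) (tt N2794 (iv F4511)) (tt N2699 (iv F4355)) (tt N1480 (iv D2038)) (tt N2796 D2796) (tt N2788 (iv F4503)))
theorem Q2040 : ∀ i, i < 2040 → P i := stepQ 2039 Q2039 (allL N2039 (tt N2784 (iv F4494)) (tt N2795 (iv F4512)) (tt N1481 F3312) (tt N2788 (iv F4502)) (tt N2797 D2797) (tt N1480 (iv D2039)))
theorem Q2041 : ∀ i, i < 2041 → P i := stepQ 2040 Q2040 (allL N2040 (tt N2783 (iv F4492)) (tt N1490 F3313) (tt N2797 (iv F4514)) (tt N1490 F3314) (tt N1481 (iv D2040)) (tt N2792 (iv F4509)))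
theorem Q2042 : ∀ i, i < 2042 → P i := stepQ 2041 Q2041 (allL N2041 (tt N2022 F3315) (tt N1483 F3316) (tt N2798 D2798) (tt N1482 (iv D2041)) (tt N2020 F3317) (tt N2799 D2799))
theorem Q2043 : ∀ i, i < 2043 → P i := stepQ 2042 Q2042 (allL N2042 (tt N2023 F3318) (tt N1484 F3319) (tt N2023 F3320) (tt N2799 (iv F4519)) (tt N2023 F3321) (tt N1482 (iv D2042)))
theorem Q2044 : ∀ i, i < 2044 → P i := stepQ 2043 Q2043 (allL N2043 (tt N2035 F3322) (tt N2800 D2800) (tt N1483 (iv D2043)) (tt N2801 D2801) (tt N2031 F3323) (tt N2802 D2802))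
theorem Q2045 : ∀ i, i < 2045 → P i := stepQ 2044 Q2044 (allL N2044 (tt N2036 F3324) (tt N2799 (iv F4518)) (tt N2802 (iv F4523)) (tt N1484 F3325) (tt N2803 D2803) (tt N1483 (iv D2044)))
theorem Q2046 : ∀ i, i < 2046 → P i := stepQ 2045 Q2045 (allL N2045 (tt N2804 D2804) (tt N1485 (iv D2045)) (tt N2789 (iv F4504)) (tt N2805 D2805) (tt N1487 F3326) (tt N2806 D2806))
theorem Q2047 : ∀ i, i < 2047 → P i := stepQ 2046 Q2046 (allL N2046 (tt N2779 (iv F4481)) (tt N2805 (iv F4528)) (tt N2807 D2807) (tt N1485 (iv D2046)) (tt N2808 D2808) (tt N2809 D2809))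
theorem Q2048 : ∀ i, i < 2048 → P i := stepQ 2047 Q2047 (allL N2047 (tt N2780 (iv F4483)) (tt N2806 (iv F4529)) (tt N1486 F3327) (tt N2809 (iv F4535)) (tt N2810 D2810) (tt N1485 (iv D2047)))
theorem Q2049 : ∀ i, i < 2049 → P i := stepQ 2048 Q2048 (allL N2048 (tt N2781 (iv F4486)) (tt N2792 (iv F4507)) (tt N2810 (iv F4537)) (tt N2792 (iv F4508)) (tt N1486 (iv D2048)) (tt N1490 F3328))
theorem Q2050 : ∀ i, i < 2050 → P i := stepQ 2049 Q2049 (allL N2049 (tt N1487 (iv D2049)) (tt N2782 (iv F4489)) (tt N2793 (iv F4510)) (tt N2811 D2811) (tt N2804 (iv F4527)) (tt N2812 D2812))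
theorem Q2051 : ∀ i, i < 2051 → P i := stepQ 2050 Q2050 (allL N2050 (tt N2811 (iv F4539)) (tt N1488 F3329) (tt N2813 D2813) (tt N1487 (iv D2050)) (tt N2814 D2814) (tt N1503 (iv F3330)))
theorem Q2052 : ∀ i, i < 2052 → P i := stepQ 2051 Q2051 (allL N2051 (tt N2812 (iv F4542)) (tt N1489 F3331) (tt N2795 (iv F4513)) (tt N1503 F3332) (tt N2815 D2815) (tt N1487 (iv D2051)))
theorem Q2053 : ∀ i, i < 2053 → P i := stepQ 2052 Q2052 (allL N2052 (tt N1520 F3333) (tt N2814 (iv F4547)) (tt N1504 F3334) (tt N2808 (iv F4533)) (tt N1488 (iv D2052)) (tt N2816 D2816))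
theorem Q2054 : ∀ i, i < 2054 → P i := stepQ 2053 Q2053 (allL N2053 (tt N1519 F3335) (tt N2815 (iv F4548)) (tt N1490 F3336) (tt N2817 D2817) (tt N1489 (iv D2053)) (tt N2810 (iv F4538)))
theorem Q2055 : ∀ i, i < 2055 → P i := stepQ 2054 Q2054 (allL N2054 (tt N1491 (iv D2054)) (tt N2786 (iv F4497)) (tt N1496 F3337) (tt N2818 D2818) (tt N1493 F3338) (tt N1632 F3339))
theorem Q2056 : ∀ i, i < 2056 → P i := stepQ 2055 Q2055 (allL N2055 (tt N2818 (iv F4554)) (tt N1492 F3340) (tt N2819 D2819) (tt N1491 (iv D2055)) (tt N2820 D2820) (tt N1633 F3341))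
theorem Q2057 : ∀ i, i < 2057 → P i := stepQ 2056 Q2056 (allL N2056 (tt N2788 (iv F4501)) (tt N2821 D2821) (tt N1492 (iv D2056)) (tt N2784 (iv F4495)) (tt N2822 D2822) (tt N2710 (iv F4374)))
theorem Q2058 : ∀ i, i < 2058 → P i := stepQ 2057 Q2057 (allL N2057 (tt N2105 (iv F3408)) (tt N2820 (iv F4560)) (tt N2822 (iv F4562)) (tt N1495 F3342) (tt N1492 (iv D2057)) (tt N2823 D2823))
theorem Q2059 : ∀ i, i < 2059 → P i := stepQ 2058 Q2058 (allL N2058 (tt N1494 F3343) (tt N2103 (iv F3404)) (tt N2824 D2824) (tt N1493 (iv D2058)) (tt N2825 D2825) (tt N1521 F3344))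
theorem Q2060 : ∀ i, i < 2060 → P i := stepQ 2059 Q2059 (allL N2059 (tt N2824 (iv F4564)) (tt N2074 (iv F3365)) (tt N1494 (iv D2059)) (tt N2826 D2826) (tt N2827 D2827) (tt N1522 F3345))
theorem Q2061 : ∀ i, i < 2061 → P i := stepQ 2060 Q2060 (allL N2060 (tt N2825 (iv F4567)) (tt N1495 F3346) (tt N2827 (iv F4571)) (tt N2820 (iv F4561)) (tt N1494 (iv D2060)) (tt N2828 D2828))
theorem Q2062 : ∀ i, i < 2062 → P i := stepQ 2061 Q2061 (allL N2061 (tt N2106 (iv F3410)) (tt N2828 (iv F4572)) (tt N2076 (iv F3368)) (tt N2823 (iv F4563)) (tt N1526 F3347) (tt N1495 (iv D2061)))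
theorem Q2063 : ∀ i, i < 2063 → P i := stepQ 2062 Q2062 (allL N2062 (tt N1932 F3348) (tt N2829 D2829) (tt N1497 (iv D2062)) (tt N2830 D2830) (tt N1499 F3349) (tt N2831 D2831))
theorem Q2064 : ∀ i, i < 2064 → P i := stepQ 2063 Q2063 (allL N2063 (tt N1933 F3350) (tt N1502 F3351) (tt N2831 (iv F4578)) (tt N1498 F3352) (tt N2832 D2832) (tt N1497 (iv D2063)))
theorem Q2065 : ∀ i, i < 2065 → P i := stepQ 2064 Q2064 (allL N2064 (tt N2833 D2833) (tt N1499 (iv D2064)) (tt N1503 F3353) (tt N2834 D2834) (tt N2829 (iv F4575)) (tt N2813 (iv F4546)))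
theorem Q2066 : ∀ i, i < 2066 → P i := stepQ 2065 Q2065 (allL N2065 (tt N2619 (iv F4221)) (tt N2834 (iv F4583)) (tt N2835 D2835) (tt N1499 (iv D2065)) (tt N2836 D2836) (tt N2837 D2837))
theorem Q2067 : ∀ i, i < 2067 → P i := stepQ 2066 Q2066 (allL N2066 (tt N2617 (iv F4218)) (tt N2813 (iv F4545)) (tt N1500 F3354) (tt N2837 (iv F4587)) (tt N2838 D2838) (tt N1499 (iv D2066)))
theorem Q2068 : ∀ i, i < 2068 → P i := stepQ 2067 Q2067 (allL N2067 (tt N2616 (iv F4215)) (tt N1504 F3355) (tt N2838 (iv F4588)) (tt N2605 (iv F4196)) (tt N1500 (iv D2067)) (tt N2832 (iv F4581)))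
theorem Q2069 : ∀ i, i < 2069 → P i := stepQ 2068 Q2068 (allL N2068 (tt N2839 D2839) (tt N1501 (iv D2068)) (tt N2829 (iv F4574)) (tt N2840 D2840) (tt N1503 F3356) (tt N2841 D2841))
theorem Q2070 : ∀ i, i < 2070 → P i := stepQ 2069 Q2069 (allL N2069 (tt N1513 F3357) (tt N2840 (iv F4591)) (tt N2842 D2842) (tt N1501 (iv D2069)) (tt N2817 (iv F4553)) (tt N2843 D2843))
theorem Q2071 : ∀ i, i < 2071 → P i := stepQ 2070 Q2070 (allL N2070 (tt N1514 F3358) (tt N2841 (iv F4592)) (tt N1502 F3359) (tt N2843 (iv F4598)) (tt N2816 (iv F4551)) (tt N1501 (iv D2070)))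
theorem Q2072 : ∀ i, i < 2072 → P i := stepQ 2071 Q2071 (allL N2071 (tt N1515 F3360) (tt N2832 (iv F4580)) (tt N2816 (iv F4550)) (tt N2082 (iv F3379)) (tt N1502 (iv D2071)) (tt N1504 F3361))
theorem Q2073 : ∀ i, i < 2073 → P i := stepQ 2072 Q2072 (allL N2072 (tt N1503 (iv D2072)) (tt N1516 F3362) (tt N2833 (iv F4582)) (tt N2812 (iv F4544)) (tt N2839 (iv F4590)) (tt N2811 F4541))
theorem Q2074 : ∀ i, i < 2074 → P i := stepQ 2073 Q2073 (allL N2073 (tt N1506 F3363) (tt N1521 F3364) (tt N2844 D2844) (tt N1505 (iv D2073)) (tt N2845 D2845) (tt N2103 (iv F3406)))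
theorem Q2075 : ∀ i, i < 2075 → P i := stepQ 2074 Q2074 (allL N2074 (tt N2844 (iv F4599)) (tt N2059 F3365) (tt N1506 (iv D2074)) (tt N2846 D2846) (tt N2847 D2847) (tt N2099 (iv F3399)))
theorem Q2076 : ∀ i, i < 2076 → P i := stepQ 2075 Q2075 (allL N2075 (tt N2845 (iv F4600)) (tt N1507 F3366) (tt N2847 (iv F4604)) (tt N2696 (iv F4346)) (tt N1506 (iv D2075)) (tt N2848 D2848))
theorem Q2077 : ∀ i, i < 2077 → P i := stepQ 2076 Q2076 (allL N2076 (tt N1526 F3367) (tt N2848 (iv F4605)) (tt N2061 F3368) (tt N2698 (iv F4352)) (tt N2106 (iv F3412)) (tt N1507 (iv D2076)))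
theorem Q2078 : ∀ i, i < 2078 → P i := stepQ 2077 Q2077 (allL N2077 (tt N1899 F3369) (tt N2849 D2849) (tt N1508 (iv D2077)) (tt N2850 D2850) (tt N1897 F3370) (tt N2851 D2851))
theorem Q2079 : ∀ i, i < 2079 → P i := stepQ 2078 Q2078 (allL N2078 (tt N1900 F3371) (tt N1511 F3372) (tt N2851 (iv F4610)) (tt N1509 F3373) (tt N2852 D2852) (tt N1508 (iv D2078)))
theorem Q2080 : ∀ i, i < 2080 → P i := stepQ 2079 Q2079 (allL N2079 (tt N2853 D2853) (tt N1510 (iv D2079)) (tt N2849 (iv F4606)) (tt N2854 D2854) (tt N1917 F3374) (tt N2855 D2855))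
theorem Q2081 : ∀ i, i < 2081 → P i := stepQ 2080 Q2080 (allL N2080 (tt N1922 F3375) (tt N2854 (iv F4617)) (tt N2843 (iv F4597)) (tt N1510 (iv D2080)) (tt N2856 D2856) (tt N2842 F4595))
theorem Q2082 : ∀ i, i < 2082 → P i := stepQ 2081 Q2081 (allL N2081 (tt N1923 F3376) (tt N2855 (iv F4618)) (tt N1511 F3377) (tt N2842 (iv F4594)) (tt N2857 D2857) (tt N1510 (iv D2081)))
theorem Q2083 : ∀ i, i < 2083 → P i := stepQ 2082 Q2082 (allL N2082 (tt N1924 F3378) (tt N2852 (iv F4612)) (tt N2857 (iv F4622)) (tt N2071 F3379) (tt N1511 (iv D2082)) (tt N1920 F3380))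
theorem Q2084 : ∀ i, i < 2084 → P i := stepQ 2083 Q2083 (allL N2083 (tt N1512 (iv D2083)) (tt N2839 (iv F4589)) (tt N2673 (iv F4308)) (tt N2858 D2858) (tt N1516 F3381) (tt N2859 D2859))
theorem Q2085 : ∀ i, i < 2085 → P i := stepQ 2084 Q2084 (allL N2084 (tt N2858 (iv F4624)) (tt N1513 F3382) (tt N2860 D2860) (tt N1512 (iv D2084)) (tt N2861 D2861) (tt N2862 D2862))
theorem Q2086 : ∀ i, i < 2086 → P i := stepQ 2085 Q2085 (allL N2085 (tt N2859 (iv F4625)) (tt N1514 F3383) (tt N2672 (iv F4304)) (tt N2862 (iv F4629)) (tt N2863 D2863) (tt N1512 (iv D2085)))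
theorem Q2087 : ∀ i, i < 2087 → P i := stepQ 2086 Q2086 (allL N2086 (tt N2842 (iv F4593)) (tt N2864 D2864) (tt N1513 (iv D2086)) (tt N1923 F3384) (tt N2865 D2865) (tt N1922 (iv F3385)))
theorem Q2088 : ∀ i, i < 2088 → P i := stepQ 2087 Q2087 (allL N2087 (tt N2817 (iv F4552)) (tt N2861 (iv F4626)) (tt N2865 (iv F4634)) (tt N1519 F3386) (tt N1513 (iv D2087)) (tt N2866 D2866))
theorem Q2089 : ∀ i, i < 2089 → P i := stepQ 2088 Q2088 (allL N2088 (tt N2843 (iv F4596)) (tt N2862 (iv F4628)) (tt N1922 F3387) (tt N1514 F3388) (tt N2867 D2867) (tt N1513 (iv D2088)))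
theorem Q2090 : ∀ i, i < 2090 → P i := stepQ 2089 Q2089 (allL N2089 (tt N2816 (iv F4549)) (tt N2863 (iv F4630)) (tt N1515 F3389) (tt N2868 D2868) (tt N1514 (iv D2089)) (tt N1520 F3390))
theorem Q2091 : ∀ i, i < 2091 → P i := stepQ 2090 Q2090 (allL N2090 (tt N1517 F3391) (tt N2812 (iv F4543)) (tt N2869 D2869) (tt N1516 (iv D2090)) (tt N2870 D2870) (tt N2782 (iv F4491)))
theorem Q2092 : ∀ i, i < 2092 → P i := stepQ 2091 Q2091 (allL N2091 (tt N1518 F3392) (tt N2811 (iv F4540)) (tt N2685 (iv F4333)) (tt N2782 (iv F4490)) (tt N2871 D2871) (tt N1516 (iv D2091)))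
theorem Q2093 : ∀ i, i < 2093 → P i := stepQ 2092 Q2092 (allL N2092 (tt N2869 (iv F4638)) (tt N2776 (iv F4477)) (tt N1517 (iv D2092)) (tt N2872 D2872) (tt N2873 D2873) (tt N2774 F4476))
theorem Q2094 : ∀ i, i < 2094 → P i := stepQ 2093 Q2093 (allL N2093 (tt N2870 (iv F4639)) (tt N1519 F3393) (tt N2873 (iv F4641)) (tt N2861 (iv F4627)) (tt N1517 (iv D2093)) (tt N2874 D2874))
theorem Q2095 : ∀ i, i < 2095 → P i := stepQ 2094 Q2094 (allL N2094 (tt N2871 (iv F4640)) (tt N1520 F3394) (tt N2683 (iv F4331)) (tt N2875 D2875) (tt N1518 (iv D2094)) (tt N2863 (iv F4631)))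
theorem Q2096 : ∀ i, i < 2096 → P i := stepQ 2095 Q2095 (allL N2095 (tt N2810 (iv F4536)) (tt N2874 (iv F4642)) (tt N2781 (iv F4487)) (tt N2866 (iv F4635)) (tt N2780 (iv F4485)) (tt N1519 (iv D2095)))
theorem Q2097 : ∀ i, i < 2097 → P i := stepQ 2096 Q2096 (allL N2096 (tt N2808 (iv F4532)) (tt N2875 (iv F4643)) (tt N2876 D2876) (tt N1520 (iv D2096)) (tt N2779 (iv F4482)) (tt N2868 (iv F4637)))
theorem Q2098 : ∀ i, i < 2098 → P i := stepQ 2097 Q2097 (allL N2097 (tt N1522 F3395) (tt N2877 D2877) (tt N1521 (iv D2097)) (tt N1892 F3396) (tt N2878 D2878) (tt N2824 (iv F4566)))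
theorem Q2099 : ∀ i, i < 2099 → P i := stepQ 2098 Q2098 (allL N2098 (tt N1523 F3397) (tt N2845 (iv F4601)) (tt N2878 (iv F4646)) (tt N2700 (iv F4358)) (tt N1521 (iv D2098)) (tt N2879 D2879))
theorem Q2100 : ∀ i, i < 2100 → P i := stepQ 2099 Q2099 (allL N2099 (tt N2880 D2880) (tt N1522 (iv D2099)) (tt N1524 F3398) (tt N2881 D2881) (tt N2882 D2882) (tt N2074 F3399))
theorem Q2101 : ∀ i, i < 2101 → P i := stepQ 2100 Q2100 (allL N2100 (tt N1892 F3400) (tt N2881 (iv F4650)) (tt N1891 F3401) (tt N1522 (iv D2100)) (tt N2883 D2883) (tt N2826 (iv F4570)))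
theorem Q2102 : ∀ i, i < 2102 → P i := stepQ 2101 Q2101 (allL N2101 (tt N2878 (iv F4645)) (tt N2882 (iv F4652)) (tt N1523 F3402) (tt N2884 D2884) (tt N1522 (iv D2101)) (tt N2885 D2885))
theorem Q2103 : ∀ i, i < 2103 → P i := stepQ 2102 Q2102 (allL N2102 (tt N2879 (iv F4647)) (tt N1526 F3403) (tt N2885 (iv F4656)) (tt N2703 (iv F4365)) (tt N2828 (iv F4573)) (tt N1523 (iv D2102)))
theorem Q2104 : ∀ i, i < 2104 → P i := stepQ 2103 Q2103 (allL N2103 (tt N1524 (iv D2103)) (tt N2058 F3404) (tt N2880 (iv F4648)) (tt N2034 F3405) (tt N2886 D2886) (tt N2073 F3406))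
theorem Q2105 : ∀ i, i < 2105 → P i := stepQ 2104 Q2104 (allL N2104 (tt N2886 (iv F4657)) (tt N1525 F3407) (tt N2882 (iv F4653)) (tt N2887 D2887) (tt N1524 (iv D2104)) (tt N2888 D2888))
theorem Q2106 : ∀ i, i < 2106 → P i := stepQ 2105 Q2105 (allL N2105 (tt N2057 F3408) (tt N2887 (iv F4659)) (tt N2889 D2889) (tt N1525 (iv D2105)) (tt N2033 F3409) (tt N2890 D2890))
theorem Q2107 : ∀ i, i < 2107 → P i := stepQ 2106 Q2106 (allL N2106 (tt N2061 F3410) (tt N2888 (iv F4661)) (tt N1526 F3411) (tt N2890 (iv F4666)) (tt N2076 F3412) (tt N1525 (iv D2106)))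
theorem Q2108 : ∀ i, i < 2108 → P i := stepQ 2107 Q2107 (allL N2107 (tt N1855 F3413) (tt N1527 (iv D2107)) (tt N2034 F3414) (tt N2891 D2891) (tt N2892 D2892) (tt N1877 F3415))
theorem Q2109 : ∀ i, i < 2109 → P i := stepQ 2108 Q2108 (allL N2108 (tt N1529 F3416) (tt N2891 (iv F4668)) (tt N2826 (iv F4569)) (tt N1527 (iv D2108)) (tt N2893 D2893) (tt N1891 F3417))
theorem Q2110 : ∀ i, i < 2110 → P i := stepQ 2109 Q2109 (allL N2109 (tt N1530 F3418) (tt N2892 (iv F4671)) (tt N1528 F3419) (tt N2894 D2894) (tt N1527 (iv D2109)) (tt N1745 F3420))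
theorem Q2111 : ∀ i, i < 2111 → P i := stepQ 2110 Q2110 (allL N2110 (tt N2826 (iv F4568)) (tt N2895 D2895) (tt N1529 (iv D2110)) (tt N2824 (iv F4565)) (tt N2896 D2896) (tt N1892 F3421))
theorem Q2112 : ∀ i, i < 2112 → P i := stepQ 2111 Q2111 (allL N2111 (tt N2893 (iv F4674)) (tt N1870 F3422) (tt N2896 (iv F4680)) (tt N2897 D2897) (tt N1529 (iv D2111)) (tt N2898 D2898))
theorem Q2113 : ∀ i, i < 2113 → P i := stepQ 2112 Q2112 (allL N2112 (tt N2894 (iv F4675)) (tt N1869 F3423) (tt N2899 D2899) (tt N1530 (iv D2112)) (tt N2897 (iv F4682)) (tt N1748 F3424))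
theorem Q2114 : ∀ i, i < 2114 → P i := stepQ 2113 Q2113 (allL N2113 (tt N1535 F3425) (tt N2900 D2900) (tt N1531 (iv D2113)) (tt N2901 D2901) (tt N1533 F3426) (tt N2902 D2902))
theorem Q2115 : ∀ i, i < 2115 → P i := stepQ 2114 Q2114 (allL N2114 (tt N1536 F3427) (tt N1558 F3428) (tt N2902 (iv F4694)) (tt N1532 F3429) (tt N2903 D2903) (tt N1531 (iv D2114)))
theorem Q2116 : ∀ i, i < 2116 → P i := stepQ 2115 Q2115 (allL N2115 (tt N2904 D2904) (tt N1533 (iv D2115)) (tt N1559 F3430) (tt N2905 D2905) (tt N2900 (iv F4689)) (tt N2906 D2906))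
theorem Q2117 : ∀ i, i < 2117 → P i := stepQ 2116 Q2116 (allL N2116 (tt N1538 F3431) (tt N2905 (iv F4703)) (tt N2614 (iv F4211)) (tt N1533 (iv D2116)) (tt N2907 D2907) (tt N2612 F4208))
theorem Q2118 : ∀ i, i < 2118 → P i := stepQ 2117 Q2117 (allL N2117 (tt N1539 F3432) (tt N2906 (iv F4705)) (tt N1534 F3433) (tt N2612 (iv F4207)) (tt N2908 D2908) (tt N1533 (iv D2117)))
theorem Q2119 : ∀ i, i < 2119 → P i := stepQ 2118 Q2118 (allL N2118 (tt N1540 F3434) (tt N1562 F3435) (tt N2908 (iv F4709)) (tt N2566 (iv F4142)) (tt N1534 (iv D2118)) (tt N2903 (iv F4699)))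
theorem Q2120 : ∀ i, i < 2120 → P i := stepQ 2119 Q2119 (allL N2119 (tt N2909 D2909) (tt N1535 (iv D2119)) (tt N1543 F3436) (tt N2910 D2910) (tt N1537 F3437) (tt N2911 D2911))
theorem Q2121 : ∀ i, i < 2121 → P i := stepQ 2120 Q2120 (allL N2120 (tt N2901 (iv F4690)) (tt N2910 (iv F4712)) (tt N2912 D2912) (tt N1535 (iv D2120)) (tt N2913 D2913) (tt N2914 D2914))
theorem Q2122 : ∀ i, i < 2122 → P i := stepQ 2121 Q2121 (allL N2121 (tt N2902 (iv F4693)) (tt N2911 (iv F4713)) (tt N1536 F3438) (tt N2914 (iv F4722)) (tt N2915 D2915) (tt N1535 (iv D2121)))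
theorem Q2123 : ∀ i, i < 2123 → P i := stepQ 2122 Q2122 (allL N2122 (tt N2903 (iv F4696)) (tt N1546 F3439) (tt N2915 (iv F4724)) (tt N1777 F3440) (tt N1536 (iv D2122)) (tt N1540 F3441))
theorem Q2124 : ∀ i, i < 2124 → P i := stepQ 2123 Q2123 (allL N2123 (tt N1537 (iv D2123)) (tt N2904 (iv F4700)) (tt N1547 F3442) (tt N2916 D2916) (tt N2909 (iv F4711)) (tt N1673 F3443))
theorem Q2125 : ∀ i, i < 2125 → P i := stepQ 2124 Q2124 (allL N2124 (tt N2916 (iv F4726)) (tt N1538 F3444) (tt N2917 D2917) (tt N1537 (iv D2124)) (tt N2918 D2918) (tt N1676 F3445))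
theorem Q2126 : ∀ i, i < 2126 → P i := stepQ 2125 Q2125 (allL N2125 (tt N2614 (iv F4209)) (tt N2919 D2919) (tt N1538 (iv D2125)) (tt N2604 (iv F4193)) (tt N2920 D2920) (tt N2603 F4190))
theorem Q2127 : ∀ i, i < 2127 → P i := stepQ 2126 Q2126 (allL N2126 (tt N2907 (iv F4707)) (tt N2918 (iv F4732)) (tt N2920 (iv F4733)) (tt N2913 (iv F4719)) (tt N1538 (iv D2126)) (tt N2921 D2921))
theorem Q2128 : ∀ i, i < 2128 → P i := stepQ 2127 Q2127 (allL N2127 (tt N2612 (iv F4206)) (tt N1676 F3446) (tt N2603 (iv F4189)) (tt N1539 F3447) (tt N2922 D2922) (tt N1538 (iv D2127)))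
theorem Q2129 : ∀ i, i < 2129 → P i := stepQ 2128 Q2128 (allL N2128 (tt N2908 (iv F4708)) (tt N1677 F3448) (tt N1540 F3449) (tt N2923 D2923) (tt N1539 (iv D2128)) (tt N2915 (iv F4725)))
theorem Q2130 : ∀ i, i < 2130 → P i := stepQ 2129 Q2129 (allL N2129 (tt N2566 (iv F4140)) (tt N1548 F3450) (tt N2924 D2924) (tt N1540 (iv D2129)) (tt N1541 F3451) (tt N1777 F3452))
theorem Q2131 : ∀ i, i < 2131 → P i := stepQ 2130 Q2130 (allL N2130 (tt N2565 (iv F4138)) (tt N2925 D2925) (tt N1541 (iv D2130)) (tt N2835 (iv F4584)) (tt N2924 (iv F4736)) (tt N1542 F3453))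
theorem Q2132 : ∀ i, i < 2132 → P i := stepQ 2131 Q2131 (allL N2131 (tt N2926 D2926) (tt N1542 (iv D2131)) (tt N1550 F3454) (tt N2927 D2927) (tt N1774 F3455) (tt N2925 (iv F4739)))
theorem Q2133 : ∀ i, i < 2133 → P i := stepQ 2132 Q2132 (allL N2132 (tt N2564 (iv F4137)) (tt N2927 (iv F4742)) (tt N2837 (iv F4586)) (tt N1542 (iv D2132)) (tt N2928 D2928) (tt N2835 F4585))
theorem Q2134 : ∀ i, i < 2134 → P i := stepQ 2133 Q2133 (allL N2133 (tt N1543 (iv D2133)) (tt N1584 F3456) (tt N2909 (iv F4710)) (tt N2929 D2929) (tt N1547 F3457) (tt N2930 D2930))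
theorem Q2135 : ∀ i, i < 2135 → P i := stepQ 2134 Q2134 (allL N2134 (tt N2929 (iv F4744)) (tt N1544 F3458) (tt N2931 D2931) (tt N1543 (iv D2134)) (tt N1679 F3459) (tt N2932 D2932))
theorem Q2136 : ∀ i, i < 2136 → P i := stepQ 2135 Q2135 (allL N2135 (tt N2930 (iv F4747)) (tt N1545 F3460) (tt N2911 (iv F4714)) (tt N2932 (iv F4752)) (tt N1678 F3461) (tt N1543 (iv D2135)))
theorem Q2137 : ∀ i, i < 2137 → P i := stepQ 2136 Q2136 (allL N2136 (tt N1587 F3462) (tt N2933 D2933) (tt N1544 (iv D2136)) (tt N1582 F3463) (tt N1680 F3464) (tt N1581 (iv F3465)))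
theorem Q2138 : ∀ i, i < 2138 → P i := stepQ 2137 Q2137 (allL N2137 (tt N1589 F3466) (tt N2932 (iv F4751)) (tt N1581 F3467) (tt N1545 F3468) (tt N1589 F3469) (tt N1544 (iv D2137)))
theorem Q2139 : ∀ i, i < 2139 → P i := stepQ 2138 Q2138 (allL N2138 (tt N1600 F3470) (tt N2934 D2934) (tt N1548 (iv D2138)) (tt N1782 F3473) (tt N1549 F3471) (tt N1782 F3472))
theorem Q2140 : ∀ i, i < 2140 → P i := stepQ 2139 Q2139 (allL N2139 (tt N2935 D2935) (tt N1549 (iv D2139)) (tt N2925 (iv F4738)) (tt N1611 F3474) (tt N2934 (iv F4758)) (tt N1550 F3475))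
theorem Q2141 : ∀ i, i < 2141 → P i := stepQ 2140 Q2140 (allL N2140 (tt N1550 (iv D2140)) (tt N1602 F3476) (tt N2926 (iv F4740)) (tt N2936 D2936) (tt N1778 F3477) (tt N2935 (iv F4762)))
theorem Q2142 : ∀ i, i < 2142 → P i := stepQ 2141 Q2141 (allL N2141 (tt N2936 (iv F4763)) (tt N1551 F3478) (tt N2937 D2937) (tt N1550 (iv D2141)) (tt N2938 D2938) (tt N1611 F3479))
theorem Q2143 : ∀ i, i < 2143 → P i := stepQ 2142 Q2142 (allL N2142 (tt N1604 F3480) (tt N2938 (iv F4768)) (tt N1607 F3481) (tt N1781 F3482) (tt N1551 (iv D2142)) (tt N1781 F3483))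
theorem Q2144 : ∀ i, i < 2144 → P i := stepQ 2143 Q2143 (allL N2143 (tt N1552 (iv D2143)) (tt N1605 F3484) (tt N2360 (iv F3838)) (tt N2939 D2939) (tt N1643 F3485) (tt N1554 F3486))
theorem Q2145 : ∀ i, i < 2145 → P i := stepQ 2144 Q2144 (allL N2144 (tt N2939 (iv F4771)) (tt N1553 F3487) (tt N2940 D2940) (tt N1552 (iv D2144)) (tt N2941 D2941) (tt N1555 F3488))
theorem Q2146 : ∀ i, i < 2146 → P i := stepQ 2145 Q2145 (allL N2145 (tt N1607 F3489) (tt N2941 (iv F4776)) (tt N1604 F3490) (tt N1645 F3491) (tt N1553 (iv D2145)) (tt N1788 F3492))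
theorem Q2147 : ∀ i, i < 2147 → P i := stepQ 2146 Q2146 (allL N2146 (tt N1555 F3493) (tt N1608 F3494) (tt N2942 D2942) (tt N1554 (iv D2146)) (tt N1783 F3495) (tt N2939 (iv F4773)))
theorem Q2148 : ∀ i, i < 2148 → P i := stepQ 2147 Q2147 (allL N2147 (tt N2942 (iv F4779)) (tt N2943 D2943) (tt N1555 (iv D2147)) (tt N2944 D2944) (tt N1785 F3496) (tt N2940 (iv F4775)))
theorem Q2149 : ∀ i, i < 2149 → P i := stepQ 2148 Q2148 (allL N2148 (tt N2945 D2945) (tt N1556 (iv D2148)) (tt N2943 (iv F4781)) (tt N1601 F3497) (tt N1787 F3498) (tt N1603 F3499))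
theorem Q2150 : ∀ i, i < 2150 → P i := stepQ 2149 Q2149 (allL N2149 (tt N2946 D2946) (tt N1557 (iv D2149)) (tt N2900 (iv F4688)) (tt N2947 D2947) (tt N1559 F3500) (tt N2948 D2948))
theorem Q2151 : ∀ i, i < 2151 → P i := stepQ 2150 Q2150 (allL N2150 (tt N1568 F3501) (tt N2947 (iv F4790)) (tt N2949 D2949) (tt N1557 (iv D2150)) (tt N2950 D2950) (tt N2951 D2951))
theorem Q2152 : ∀ i, i < 2152 → P i := stepQ 2151 Q2151 (allL N2151 (tt N1569 F3502) (tt N2948 (iv F4791)) (tt N1558 F3503) (tt N2951 (iv F4799)) (tt N2952 D2952) (tt N1557 (iv D2151)))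
theorem Q2153 : ∀ i, i < 2153 → P i := stepQ 2152 Q2152 (allL N2152 (tt N1570 F3504) (tt N2903 (iv F4697)) (tt N2952 (iv F4801)) (tt N2570 (iv F4151)) (tt N1558 (iv D2152)) (tt N1562 F3505))
theorem Q2154 : ∀ i, i < 2154 → P i := stepQ 2153 Q2153 (allL N2153 (tt N1559 (iv D2153)) (tt N1571 F3506) (tt N2904 (iv F4701)) (tt N2953 D2953) (tt N2946 (iv F4789)) (tt N2954 D2954))
theorem Q2155 : ∀ i, i < 2155 → P i := stepQ 2154 Q2154 (allL N2154 (tt N2953 (iv F4803)) (tt N1560 F3507) (tt N2399 (iv F3890)) (tt N1559 (iv D2154)) (tt N2955 D2955) (tt N1627 (iv F3508)))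
theorem Q2156 : ∀ i, i < 2156 → P i := stepQ 2155 Q2155 (allL N2155 (tt N2954 (iv F4806)) (tt N1561 F3509) (tt N2906 (iv F4706)) (tt N1627 F3510) (tt N2956 D2956) (tt N1559 (iv D2155)))
theorem Q2157 : ∀ i, i < 2157 → P i := stepQ 2156 Q2156 (allL N2156 (tt N1575 F3511) (tt N2955 (iv F4810)) (tt N1630 F3512) (tt N2950 (iv F4796)) (tt N1560 (iv D2156)) (tt N2957 D2957))
theorem Q2158 : ∀ i, i < 2158 → P i := stepQ 2157 Q2157 (allL N2157 (tt N1577 F3513) (tt N2956 (iv F4811)) (tt N1562 F3514) (tt N2958 D2958) (tt N1561 (iv D2157)) (tt N2952 (iv F4802)))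
theorem Q2159 : ∀ i, i < 2159 → P i := stepQ 2158 Q2158 (allL N2158 (tt N1760 F3515) (tt N2959 D2959) (tt N1563 (iv D2158)) (tt N2960 D2960) (tt N2485 (iv F4014)) (tt N2961 D2961))
theorem Q2160 : ∀ i, i < 2160 → P i := stepQ 2159 Q2159 (allL N2159 (tt N1761 F3516) (tt N1566 F3517) (tt N2961 (iv F4822)) (tt N1564 F3518) (tt N2962 D2962) (tt N1563 (iv D2159)))
theorem Q2161 : ∀ i, i < 2161 → P i := stepQ 2160 Q2160 (allL N2160 (tt N2963 D2963) (tt N1565 (iv D2160)) (tt N2959 (iv F4817)) (tt N2964 D2964) (tt N2487 (iv F4018)) (tt N2965 D2965))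
theorem Q2162 : ∀ i, i < 2162 → P i := stepQ 2161 Q2161 (allL N2161 (tt N2504 (iv F4047)) (tt N2964 (iv F4827)) (tt N2951 (iv F4798)) (tt N1565 (iv D2161)) (tt N2966 D2966) (tt N2949 F4794))
theorem Q2163 : ∀ i, i < 2163 → P i := stepQ 2162 Q2162 (allL N2162 (tt N2505 (iv F4050)) (tt N2965 (iv F4828)) (tt N1566 F3519) (tt N2949 (iv F4793)) (tt N2967 D2967) (tt N1565 (iv D2162)))
theorem Q2164 : ∀ i, i < 2164 → P i := stepQ 2163 Q2163 (allL N2163 (tt N2506 (iv F4053)) (tt N2962 (iv F4825)) (tt N2967 (iv F4829)) (tt N2579 (iv F4163)) (tt N1566 (iv D2163)) (tt N2488 (iv F4020)))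
theorem Q2165 : ∀ i, i < 2165 → P i := stepQ 2164 Q2164 (allL N2164 (tt N1567 (iv D2164)) (tt N2946 (iv F4788)) (tt N1584 F3520) (tt N2968 D2968) (tt N1571 F3521) (tt N2969 D2969))
theorem Q2166 : ∀ i, i < 2166 → P i := stepQ 2165 Q2165 (allL N2165 (tt N2968 (iv F4830)) (tt N1568 F3522) (tt N2970 D2970) (tt N1567 (iv D2165)) (tt N2971 D2971) (tt N2972 D2972))
theorem Q2167 : ∀ i, i < 2167 → P i := stepQ 2166 Q2166 (allL N2166 (tt N2969 (iv F4831)) (tt N1569 F3523) (tt N1586 F3524) (tt N2972 (iv F4836)) (tt N2973 D2973) (tt N1567 (iv D2166)))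
theorem Q2168 : ∀ i, i < 2168 → P i := stepQ 2167 Q2167 (allL N2167 (tt N2949 (iv F4792)) (tt N2974 D2974) (tt N1568 (iv D2167)) (tt N2505 (iv F4052)) (tt N2975 D2975) (tt N2504 F4049))
theorem Q2169 : ∀ i, i < 2169 → P i := stepQ 2168 Q2168 (allL N2168 (tt N2950 (iv F4795)) (tt N2971 (iv F4833)) (tt N2975 (iv F4840)) (tt N1575 F3525) (tt N1568 (iv D2168)) (tt N2976 D2976))
theorem Q2170 : ∀ i, i < 2170 → P i := stepQ 2169 Q2169 (allL N2169 (tt N2951 (iv F4797)) (tt N2972 (iv F4835)) (tt N2504 (iv F4048)) (tt N1569 F3526) (tt N2977 D2977) (tt N1568 (iv D2169)))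
theorem Q2171 : ∀ i, i < 2171 → P i := stepQ 2170 Q2170 (allL N2170 (tt N2952 (iv F4800)) (tt N2973 (iv F4837)) (tt N1570 F3527) (tt N2978 D2978) (tt N1569 (iv D2170)) (tt N1577 F3528))
theorem Q2172 : ∀ i, i < 2172 → P i := stepQ 2171 Q2171 (allL N2171 (tt N1572 F3529) (tt N2953 (iv F4804)) (tt N2979 D2979) (tt N1571 (iv D2171)) (tt N2980 D2980) (tt N2981 D2981))
theorem Q2173 : ∀ i, i < 2173 → P i := stepQ 2172 Q2172 (allL N2172 (tt N1573 F3530) (tt N2954 (iv F4807)) (tt N1596 F3531) (tt N2981 (iv F4848)) (tt N2982 D2982) (tt N1571 (iv D2172)))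
theorem Q2174 : ∀ i, i < 2174 → P i := stepQ 2173 Q2173 (allL N2173 (tt N2979 (iv F4843)) (tt N2983 D2983) (tt N1572 (iv D2173)) (tt N2984 D2984) (tt N2985 D2985) (tt N2986 D2986))
theorem Q2175 : ∀ i, i < 2175 → P i := stepQ 2174 Q2174 (allL N2174 (tt N2980 (iv F4845)) (tt N1575 F3532) (tt N2985 (iv F4855)) (tt N2971 (iv F4834)) (tt N1572 (iv D2174)) (tt N2987 D2987))
theorem Q2176 : ∀ i, i < 2176 → P i := stepQ 2175 Q2175 (allL N2175 (tt N2981 (iv F4846)) (tt N1576 F3533) (tt N2986 (iv F4857)) (tt N1573 F3534) (tt N2988 D2988) (tt N1572 (iv D2175)))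
theorem Q2177 : ∀ i, i < 2177 → P i := stepQ 2176 Q2176 (allL N2176 (tt N2982 (iv F4849)) (tt N1577 F3535) (tt N1599 F3536) (tt N2989 D2989) (tt N1573 (iv D2176)) (tt N2973 (iv F4839)))
theorem Q2178 : ∀ i, i < 2178 → P i := stepQ 2177 Q2177 (allL N2177 (tt N2395 (iv F3882)) (tt N1574 (iv D2177)) (tt N2983 (iv F4851)) (tt N1621 F3537) (tt N2990 D2990) (tt N1620 F3538))
theorem Q2179 : ∀ i, i < 2179 → P i := stepQ 2178 Q2178 (allL N2178 (tt N1630 F3539) (tt N2990 (iv F4861)) (tt N1575 F3540) (tt N2991 D2991) (tt N1574 (iv D2178)) (tt N2992 D2992))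
theorem Q2180 : ∀ i, i < 2180 → P i := stepQ 2179 Q2179 (allL N2179 (tt N2957 (iv F4812)) (tt N2987 (iv F4858)) (tt N2992 (iv F4865)) (tt N2976 (iv F4841)) (tt N2993 D2993) (tt N1575 (iv D2179)))
theorem Q2181 : ∀ i, i < 2181 → P i := stepQ 2180 Q2180 (allL N2180 (tt N1628 F3541) (tt N2988 (iv F4859)) (tt N1622 F3542) (tt N2994 D2994) (tt N1576 (iv D2180)) (tt N2993 (iv F4869)))
theorem Q2182 : ∀ i, i < 2182 → P i := stepQ 2181 Q2181 (allL N2181 (tt N2958 (iv F4815)) (tt N2989 (iv F4860)) (tt N2995 D2995) (tt N1577 (iv D2181)) (tt N2994 (iv F4871)) (tt N2978 (iv F4842)))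
theorem Q2183 : ∀ i, i < 2183 → P i := stepQ 2182 Q2182 (allL N2182 (tt N2717 (iv F4387)) (tt N1578 (iv D2182)) (tt N1580 F3543) (tt N2996 D2996) (tt N1756 F3544) (tt N2997 D2997))
theorem Q2184 : ∀ i, i < 2184 → P i := stepQ 2183 Q2183 (allL N2183 (tt N1762 F3545) (tt N2996 (iv F4872)) (tt N2998 D2998) (tt N1578 (iv D2183)) (tt N2999 D2999) (tt N3000 D3000))
theorem Q2185 : ∀ i, i < 2185 → P i := stepQ 2184 Q2184 (allL N2184 (tt N1763 F3546) (tt N2997 (iv F4873)) (tt N1579 F3547) (tt N3000 (iv F4882)) (tt N3001 D3001) (tt N1578 (iv D2184)))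
theorem Q2186 : ∀ i, i < 2186 → P i := stepQ 2185 Q2185 (allL N2185 (tt N1712 F3548) (tt N1583 F3549) (tt N3001 (iv F4884)) (tt N1712 F3550) (tt N1579 (iv D2185)) (tt N1711 F3551))
theorem Q2187 : ∀ i, i < 2187 → P i := stepQ 2186 Q2186 (allL N2186 (tt N1580 (iv D2186)) (tt N1767 F3552) (tt N2717 (iv F4389)) (tt N3002 D3002) (tt N1766 F3553) (tt N3003 D3003))
theorem Q2188 : ∀ i, i < 2188 → P i := stepQ 2187 Q2187 (allL N2187 (tt N3002 (iv F4886)) (tt N1581 F3554) (tt N3004 D3004) (tt N1580 (iv D2187)) (tt N1768 F3555) (tt N2933 (iv F4756)))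
theorem Q2189 : ∀ i, i < 2189 → P i := stepQ 2188 Q2188 (allL N2188 (tt N3003 (iv F4889)) (tt N1582 F3556) (tt N2997 (iv F4874)) (tt N2933 (iv F4754)) (tt N3005 D3005) (tt N1580 (iv D2188)))
theorem Q2190 : ∀ i, i < 2190 → P i := stepQ 2189 Q2189 (allL N2189 (tt N1770 F3557) (tt N3005 (iv F4892)) (tt N1583 F3558) (tt N3006 D3006) (tt N1582 (iv D2189)) (tt N1713 F3559))
theorem Q2191 : ∀ i, i < 2191 → P i := stepQ 2190 Q2190 (allL N2190 (tt N1585 F3560) (tt N2929 (iv F4745)) (tt N3007 D3007) (tt N1584 (iv D2190)) (tt N3008 D3008) (tt N3009 D3009))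
theorem Q2192 : ∀ i, i < 2192 → P i := stepQ 2191 Q2191 (allL N2191 (tt N1586 F3561) (tt N2930 (iv F4748)) (tt N2969 (iv F4832)) (tt N3009 (iv F4904)) (tt N3010 D3010) (tt N1584 (iv D2191)))
theorem Q2193 : ∀ i, i < 2193 → P i := stepQ 2192 Q2192 (allL N2192 (tt N3007 (iv F4898)) (tt N3011 D3011) (tt N1585 (iv D2192)) (tt N3012 D3012) (tt N3013 D3013) (tt N3014 D3014))
theorem Q2194 : ∀ i, i < 2194 → P i := stepQ 2193 Q2193 (allL N2193 (tt N3008 (iv F4899)) (tt N1588 F3562) (tt N3013 (iv F4911)) (tt N1598 F3563) (tt N1585 (iv D2193)) (tt N1679 (iv F3564)))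
theorem Q2195 : ∀ i, i < 2195 → P i := stepQ 2194 Q2194 (allL N2194 (tt N3009 (iv F4903)) (tt N1589 F3565) (tt N3014 (iv F4914)) (tt N1586 F3566) (tt N2932 (iv F4753)) (tt N1585 (iv D2194)))
theorem Q2196 : ∀ i, i < 2196 → P i := stepQ 2195 Q2195 (allL N2195 (tt N3010 (iv F4905)) (tt N1590 F3567) (tt N2973 (iv F4838)) (tt N1678 (iv F3569)) (tt N1586 (iv D2195)) (tt N1599 F3568))
theorem Q2197 : ∀ i, i < 2197 → P i := stepQ 2196 Q2196 (allL N2196 (tt N3015 D3015) (tt N1587 (iv D2196)) (tt N3011 (iv F4909)) (tt N1769 F3570) (tt N3016 D3016) (tt N1768 F3571))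
theorem Q2198 : ∀ i, i < 2198 → P i := stepQ 2197 Q2197 (allL N2197 (tt N1680 F3572) (tt N3016 (iv F4917)) (tt N1588 F3573) (tt N3017 D3017) (tt N1587 (iv D2197)) (tt N1680 F3574))
theorem Q2199 : ∀ i, i < 2199 → P i := stepQ 2198 Q2198 (allL N2198 (tt N1782 F3575) (tt N3018 D3018) (tt N1591 (iv D2198)) (tt N1600 F3576) (tt N1592 F3577) (tt N1600 F3578))
theorem Q2200 : ∀ i, i < 2200 → P i := stepQ 2199 Q2199 (allL N2199 (tt N3019 D3019) (tt N1592 (iv D2199)) (tt N2582 (iv F4168)) (tt N1787 F3579) (tt N3018 (iv F4924)) (tt N1593 F3580))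
theorem Q2201 : ∀ i, i < 2201 → P i := stepQ 2200 Q2200 (allL N2200 (tt N1593 (iv D2200)) (tt N1778 F3581) (tt N2580 (iv F4164)) (tt N3020 D3020) (tt N1602 F3582) (tt N3019 (iv F4928)))
theorem Q2202 : ∀ i, i < 2202 → P i := stepQ 2201 Q2201 (allL N2201 (tt N3020 (iv F4929)) (tt N1594 F3583) (tt N3021 D3021) (tt N1593 (iv D2201)) (tt N3022 D3022) (tt N1787 F3584))
theorem Q2203 : ∀ i, i < 2203 → P i := stepQ 2202 Q2202 (allL N2202 (tt N1781 F3585) (tt N3022 (iv F4934)) (tt N1788 F3586) (tt N1604 F3587) (tt N1594 (iv D2202)) (tt N1604 F3588))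
theorem Q2204 : ∀ i, i < 2204 → P i := stepQ 2203 Q2203 (allL N2203 (tt N1597 F3589) (tt N2721 (iv F4396)) (tt N1595 (iv D2203)) (tt N2738 (iv F4424)) (tt N3023 D3023) (tt N1634 F3590))
theorem Q2205 : ∀ i, i < 2205 → P i := stepQ 2204 Q2204 (allL N2204 (tt N1598 F3591) (tt N1675 F3592) (tt N3023 (iv F4938)) (tt N3008 (iv F4901)) (tt N1595 (iv D2204)) (tt N1675 F3593))
theorem Q2206 : ∀ i, i < 2206 → P i := stepQ 2205 Q2205 (allL N2205 (tt N1599 F3594) (tt N1674 F3595) (tt N2982 (iv F4850)) (tt N1674 F3596) (tt N1596 (iv D2205)) (tt N3010 (iv F4907)))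
theorem Q2207 : ∀ i, i < 2207 → P i := stepQ 2206 Q2206 (allL N2206 (tt N3023 (iv F4937)) (tt N1637 F3597) (tt N1598 F3598) (tt N3024 D3024) (tt N1597 (iv D2206)) (tt N1667 F3599))
theorem Q2208 : ∀ i, i < 2208 → P i := stepQ 2207 Q2207 (allL N2207 (tt N3025 D3025) (tt N1600 (iv D2207)) (tt N2591 (iv F4178)) (tt N3018 (iv F4923)) (tt N1601 F3600) (tt N3018 (iv F4925)))
theorem Q2209 : ∀ i, i < 2209 → P i := stepQ 2208 Q2208 (allL N2208 (tt N1601 (iv D2208)) (tt N2935 (iv F4760)) (tt N2588 (iv F4175)) (tt N2945 (iv F4785)) (tt N3025 (iv F4942)) (tt N1602 F3601))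
theorem Q2210 : ∀ i, i < 2210 → P i := stepQ 2209 Q2209 (allL N2209 (tt N1603 F3602) (tt N2936 (iv F4764)) (tt N3026 D3026) (tt N1602 (iv D2209)) (tt N3027 D3027) (tt N2945 (iv F4787)))
theorem Q2211 : ∀ i, i < 2211 → P i := stepQ 2210 Q2210 (allL N2210 (tt N3026 (iv F4943)) (tt N2940 (iv F4774)) (tt N1603 (iv D2210)) (tt N3028 D3028) (tt N3029 D3029) (tt N2943 (iv F4783)))
theorem Q2212 : ∀ i, i < 2212 → P i := stepQ 2211 Q2211 (allL N2211 (tt N3027 (iv F4944)) (tt N1604 F3603) (tt N3029 (iv F4945)) (tt N3022 (iv F4935)) (tt N1603 (iv D2211)) (tt N3022 (iv F4936)))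
theorem Q2213 : ∀ i, i < 2213 → P i := stepQ 2212 Q2212 (allL N2212 (tt N1606 F3604) (tt N2939 (iv F4772)) (tt N3030 D3030) (tt N1605 (iv D2212)) (tt N3031 D3031) (tt N1608 F3605))
theorem Q2214 : ∀ i, i < 2214 → P i := stepQ 2213 Q2213 (allL N2213 (tt N3030 (iv F4946)) (tt N2937 (iv F4766)) (tt N1606 (iv D2213)) (tt N3032 D3032) (tt N3033 D3033) (tt N1609 F3606))
theorem Q2215 : ∀ i, i < 2215 → P i := stepQ 2214 Q2214 (allL N2214 (tt N3031 (iv F4949)) (tt N1607 F3607) (tt N3033 (iv F4954)) (tt N1690 F3608) (tt N1606 (iv D2214)) (tt N3034 D3034))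
theorem Q2216 : ∀ i, i < 2216 → P i := stepQ 2215 Q2215 (allL N2215 (tt N1788 F3609) (tt N3034 (iv F4955)) (tt N1781 F3610) (tt N1691 F3611) (tt N1613 F3612) (tt N1607 (iv D2215)))
theorem Q2217 : ∀ i, i < 2217 → P i := stepQ 2216 Q2216 (allL N2216 (tt N1609 F3613) (tt N3035 D3035) (tt N1608 (iv D2216)) (tt N2819 (iv F4559)) (tt N3036 D3036) (tt N3030 (iv F4948)))
theorem Q2218 : ∀ i, i < 2218 → P i := stepQ 2217 Q2217 (allL N2217 (tt N1610 F3614) (tt N1783 F3615) (tt N3036 (iv F4959)) (tt N1615 F3616) (tt N1608 (iv D2217)) (tt N3037 D3037))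
theorem Q2219 : ∀ i, i < 2219 → P i := stepQ 2218 Q2218 (allL N2218 (tt N3038 D3038) (tt N1609 (iv D2218)) (tt N1611 F3617) (tt N3039 D3039) (tt N3040 D3040) (tt N2937 (iv F4767)))
theorem Q2220 : ∀ i, i < 2220 → P i := stepQ 2219 Q2219 (allL N2219 (tt N2819 (iv F4557)) (tt N3039 (iv F4964)) (tt N2818 (iv F4556)) (tt N1609 (iv D2219)) (tt N3041 D3041) (tt N3032 (iv F4953)))
theorem Q2221 : ∀ i, i < 2221 → P i := stepQ 2220 Q2220 (allL N2220 (tt N3036 (iv F4958)) (tt N3040 (iv F4965)) (tt N1610 F3618) (tt N3042 D3042) (tt N1609 (iv D2220)) (tt N3043 D3043))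
theorem Q2222 : ∀ i, i < 2222 → P i := stepQ 2221 Q2221 (allL N2221 (tt N3037 (iv F4960)) (tt N1613 F3619) (tt N3043 (iv F4969)) (tt N1618 F3620) (tt N3034 (iv F4957)) (tt N1610 (iv D2221)))
theorem Q2223 : ∀ i, i < 2223 → P i := stepQ 2222 Q2222 (allL N2222 (tt N1611 (iv D2222)) (tt N2945 (iv F4784)) (tt N3038 (iv F4963)) (tt N2935 (iv F4761)) (tt N3044 D3044) (tt N2936 (iv F4765)))
theorem Q2224 : ∀ i, i < 2224 → P i := stepQ 2223 Q2223 (allL N2223 (tt N3044 (iv F4970)) (tt N1612 F3621) (tt N3040 (iv F4966)) (tt N1780 (iv F3622)) (tt N1611 (iv D2223)) (tt N1779 (iv F3623)))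
theorem Q2225 : ∀ i, i < 2225 → P i := stepQ 2224 Q2224 (allL N2224 (tt N1617 F3624) (tt N2717 (iv F4388)) (tt N1615 F3625) (tt N3045 D3045) (tt N1614 (iv D2224)) (tt N3046 D3046))
theorem Q2226 : ∀ i, i < 2226 → P i := stepQ 2225 Q2225 (allL N2225 (tt N1618 F3626) (tt N1784 F3627) (tt N3046 (iv F4977)) (tt N3037 (iv F4962)) (tt N1704 F3628) (tt N1615 (iv D2225)))
theorem Q2227 : ∀ i, i < 2227 → P i := stepQ 2226 Q2226 (allL N2226 (tt N1752 F3629) (tt N1765 F3630) (tt N1750 F3631) (tt N3047 D3047) (tt N1616 (iv D2226)) (tt N3048 D3048))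
theorem Q2228 : ∀ i, i < 2228 → P i := stepQ 2227 Q2227 (allL N2227 (tt N3045 (iv F4974)) (tt N1762 F3632) (tt N3049 D3049) (tt N1617 (iv D2227)) (tt N3047 (iv F4981)) (tt N3050 D3050))
theorem Q2229 : ∀ i, i < 2229 → P i := stepQ 2228 Q2228 (allL N2228 (tt N3046 (iv F4976)) (tt N1763 F3633) (tt N1618 F3634) (tt N3050 (iv F4987)) (tt N1710 F3635) (tt N1617 (iv D2228)))
theorem Q2230 : ∀ i, i < 2230 → P i := stepQ 2229 Q2229 (allL N2229 (tt N1620 F3636) (tt N1624 F3637) (tt N3051 D3051) (tt N1619 (iv D2229)) (tt N3052 D3052) (tt N2395 (iv F3884)))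
theorem Q2231 : ∀ i, i < 2231 → P i := stepQ 2230 Q2230 (allL N2230 (tt N3051 (iv F4988)) (tt N2986 (iv F4856)) (tt N1620 (iv D2230)) (tt N3053 D3053) (tt N3054 D3054) (tt N2983 F4852))
theorem Q2232 : ∀ i, i < 2232 → P i := stepQ 2231 Q2231 (allL N2231 (tt N3052 (iv F4989)) (tt N1622 F3638) (tt N3054 (iv F4991)) (tt N2574 (iv F4157)) (tt N1620 (iv D2231)) (tt N3055 D3055))
theorem Q2233 : ∀ i, i < 2233 → P i := stepQ 2232 Q2232 (allL N2232 (tt N2396 (iv F3885)) (tt N1623 F3639) (tt N2697 (iv F4349)) (tt N3056 D3056) (tt N1621 (iv D2232)) (tt N2539 (iv F4106)))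
theorem Q2234 : ∀ i, i < 2234 → P i := stepQ 2233 Q2233 (allL N2233 (tt N1629 F3640) (tt N3055 (iv F4992)) (tt N2993 (iv F4868)) (tt N2575 (iv F4159)) (tt N2992 (iv F4866)) (tt N1622 (iv D2233)))
theorem Q2235 : ∀ i, i < 2235 → P i := stepQ 2234 Q2234 (allL N2234 (tt N1631 F3641) (tt N3056 (iv F4993)) (tt N2544 (iv F4114)) (tt N1623 (iv D2234)) (tt N2991 (iv F4863)) (tt N2540 (iv F4108)))
theorem Q2236 : ∀ i, i < 2236 → P i := stepQ 2235 Q2235 (allL N2235 (tt N1626 F3642) (tt N3052 (iv F4990)) (tt N2338 (iv F3804)) (tt N2594 (iv F4180)) (tt N1624 (iv D2235)) (tt N3057 D3057))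
theorem Q2237 : ∀ i, i < 2237 → P i := stepQ 2236 Q2236 (allL N2236 (tt N3058 D3058) (tt N1625 (iv D2236)) (tt N1627 F3643) (tt N2332 (iv F3794)) (tt N3059 D3059) (tt N2399 (iv F3891)))
theorem Q2238 : ∀ i, i < 2238 → P i := stepQ 2237 Q2237 (allL N2237 (tt N2338 (iv F3803)) (tt N3059 (iv F4996)) (tt N1626 F3644) (tt N3060 D3060) (tt N1625 (iv D2237)) (tt N3061 D3061))
theorem Q2239 : ∀ i, i < 2239 → P i := stepQ 2238 Q2238 (allL N2238 (tt N3057 (iv F4994)) (tt N1629 F3645) (tt N3061 (iv F4998)) (tt N2597 (iv F4184)) (tt N2402 (iv F3896)) (tt N1626 (iv D2238)))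
theorem Q2240 : ∀ i, i < 2240 → P i := stepQ 2239 Q2239 (allL N2239 (tt N1627 (iv D2239)) (tt N2981 (iv F4847)) (tt N3058 (iv F4995)) (tt N2954 (iv F4809)) (tt N3062 D3062) (tt N2953 F4805))
theorem Q2241 : ∀ i, i < 2241 → P i := stepQ 2240 Q2240 (allL N2240 (tt N3062 (iv F4999)) (tt N1628 F3646) (tt N3059 (iv F4997)) (tt N3063 D3063) (tt N1627 (iv D2240)) (tt N3064 D3064))
theorem Q2242 : ∀ i, i < 2242 → P i := stepQ 2241 Q2241 (allL N2241 (tt N2994 (iv F4870)) (tt N3063 (iv F5000)) (tt N3065 D3065) (tt N1628 (iv D2241)) (tt N2958 (iv F4816)) (tt N3066 D3066))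
theorem Q2243 : ∀ i, i < 2243 → P i := stepQ 2242 Q2242 (allL N2242 (tt N2993 (iv F4867)) (tt N3064 (iv F5001)) (tt N1629 F3647) (tt N3066 (iv F5002)) (tt N2957 (iv F4814)) (tt N1628 (iv D2242)))
theorem Q2244 : ∀ i, i < 2244 → P i := stepQ 2243 Q2243 (allL N2243 (tt N2992 (iv F4864)) (tt N2402 (iv F3895)) (tt N2957 (iv F4813)) (tt N3067 D3067) (tt N1629 (iv D2243)) (tt N1630 F3648))
theorem Q2245 : ∀ i, i < 2245 → P i := stepQ 2244 Q2244 (allL N2244 (tt N2991 (iv F4862)) (tt N2401 (iv F3893)) (tt N3068 D3068) (tt N1630 (iv D2244)) (tt N1631 F3649) (tt N3067 (iv F5003)))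
theorem Q2246 : ∀ i, i < 2246 → P i := stepQ 2245 Q2245 (allL N2245 (tt N2544 (iv F4113)) (tt N3069 D3069) (tt N1631 (iv D2245)) (tt N2538 (iv F4103)) (tt N3068 (iv F5004)) (tt N2560 (iv F4132)))
theorem Q2247 : ∀ i, i < 2247 → P i := stepQ 2246 Q2246 (allL N2246 (tt N2697 (iv F4347)) (tt N1632 (iv D2246)) (tt N2396 (iv F3887)) (tt N3070 D3070) (tt N1739 F3650) (tt N2786 (iv F4499)))
theorem Q2248 : ∀ i, i < 2248 → P i := stepQ 2247 Q2247 (allL N2247 (tt N1633 F3651) (tt N3070 (iv F5005)) (tt N3032 (iv F4952)) (tt N1632 (iv D2247)) (tt N3071 D3071) (tt N2818 (iv F4555)))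
theorem Q2249 : ∀ i, i < 2249 → P i := stepQ 2248 Q2248 (allL N2248 (tt N3032 (iv F4951)) (tt N3072 D3072) (tt N1633 (iv D2248)) (tt N3030 (iv F4947)) (tt N3073 D3073) (tt N2819 (iv F4558)))
theorem Q2250 : ∀ i, i < 2250 → P i := stepQ 2249 Q2249 (allL N2249 (tt N3071 (iv F5006)) (tt N2709 (iv F4371)) (tt N3073 (iv F5008)) (tt N1742 F3652) (tt N1633 (iv D2249)) (tt N3074 D3074))
theorem Q2251 : ∀ i, i < 2251 → P i := stepQ 2250 Q2250 (allL N2250 (tt N1635 F3653) (tt N2720 (iv F4394)) (tt N2984 (iv F4854)) (tt N1634 (iv D2250)) (tt N3075 D3075) (tt N2738 (iv F4425)))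
theorem Q2252 : ∀ i, i < 2252 → P i := stepQ 2251 Q2251 (allL N2251 (tt N2984 (iv F4853)) (tt N2734 (iv F4417)) (tt N1635 (iv D2251)) (tt N2979 (iv F4844)) (tt N3076 D3076) (tt N2731 F4415))
theorem Q2253 : ∀ i, i < 2253 → P i := stepQ 2252 Q2252 (allL N2252 (tt N3075 (iv F5010)) (tt N1636 F3654) (tt N3076 (iv F5012)) (tt N1665 F3655) (tt N1635 (iv D2252)) (tt N3077 D3077))
theorem Q2254 : ∀ i, i < 2254 → P i := stepQ 2253 Q2253 (allL N2253 (tt N2725 (iv F4403)) (tt N3077 (iv F5013)) (tt N2742 (iv F4430)) (tt N1670 F3656) (tt N2741 (iv F4429)) (tt N1636 (iv D2253)))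
theorem Q2255 : ∀ i, i < 2255 → P i := stepQ 2254 Q2254 (allL N2254 (tt N2726 (iv F4405)) (tt N3024 (iv F4940)) (tt N3078 D3078) (tt N1637 (iv D2254)) (tt N2740 (iv F4427)) (tt N1672 F3657))
theorem Q2256 : ∀ i, i < 2256 → P i := stepQ 2255 Q2255 (allL N2255 (tt N3079 D3079) (tt N1638 (iv D2255)) (tt N1996 F3658) (tt N3080 D3080) (tt N1639 F3659) (tt N1681 F3660))
theorem Q2257 : ∀ i, i < 2257 → P i := stepQ 2256 Q2256 (allL N2256 (tt N1682 F3661) (tt N3080 (iv F5022)) (tt N3017 (iv F4922)) (tt N1638 (iv D2256)) (tt N1700 F3662) (tt N1682 F3663))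
theorem Q2258 : ∀ i, i < 2258 → P i := stepQ 2257 Q2257 (allL N2257 (tt N1639 (iv D2257)) (tt N1683 F3664) (tt N1992 F3665) (tt N1698 F3666) (tt N3079 (iv F5020)) (tt N1640 F3667))
theorem Q2259 : ∀ i, i < 2259 → P i := stepQ 2258 Q2258 (allL N2258 (tt N1641 F3668) (tt N1684 F3669) (tt N3081 D3081) (tt N1640 (iv D2258)) (tt N3082 D3082) (tt N1698 F3670))
theorem Q2260 : ∀ i, i < 2260 → P i := stepQ 2259 Q2259 (allL N2259 (tt N3081 (iv F5025)) (tt N1689 F3671) (tt N1641 (iv D2259)) (tt N3083 D3083) (tt N3084 D3084) (tt N1694 F3672))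
theorem Q2261 : ∀ i, i < 2261 → P i := stepQ 2260 Q2260 (allL N2260 (tt N3082 (iv F5027)) (tt N1642 F3673) (tt N3084 (iv F5033)) (tt N1686 F3674) (tt N1641 (iv D2260)) (tt N3085 D3085))
theorem Q2262 : ∀ i, i < 2262 → P i := stepQ 2261 Q2261 (allL N2261 (tt N1687 F3675) (tt N3085 (iv F5034)) (tt N1691 F3676) (tt N1687 F3677) (tt N1701 F3678) (tt N1642 (iv D2261)))
theorem Q2263 : ∀ i, i < 2263 → P i := stepQ 2262 Q2262 (allL N2262 (tt N1644 F3679) (tt N1688 F3680) (tt N3086 D3086) (tt N1643 (iv D2262)) (tt N3087 D3087) (tt N1646 F3681))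
theorem Q2264 : ∀ i, i < 2264 → P i := stepQ 2263 Q2263 (allL N2263 (tt N3086 (iv F5037)) (tt N1685 F3682) (tt N1644 (iv D2263)) (tt N3088 D3088) (tt N3089 D3089) (tt N1647 F3683))
theorem Q2265 : ∀ i, i < 2265 → P i := stepQ 2264 Q2264 (allL N2264 (tt N3087 (iv F5039)) (tt N1645 F3684) (tt N3089 (iv F5044)) (tt N2941 (iv F4777)) (tt N1644 (iv D2264)) (tt N3090 D3090))
theorem Q2266 : ∀ i, i < 2266 → P i := stepQ 2265 Q2265 (allL N2265 (tt N1691 F3685) (tt N3090 (iv F5045)) (tt N1687 F3686) (tt N1788 F3687) (tt N1651 F3688) (tt N1645 (iv D2265)))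
theorem Q2267 : ∀ i, i < 2267 → P i := stepQ 2266 Q2266 (allL N2266 (tt N1647 F3689) (tt N3091 D3091) (tt N1646 (iv D2266)) (tt N3092 D3092) (tt N3093 D3093) (tt N3086 (iv F5038)))
theorem Q2268 : ∀ i, i < 2268 → P i := stepQ 2267 Q2267 (allL N2267 (tt N1648 F3690) (tt N1693 F3691) (tt N3093 (iv F5051)) (tt N1653 F3692) (tt N1646 (iv D2267)) (tt N3094 D3094))
theorem Q2269 : ∀ i, i < 2269 → P i := stepQ 2268 Q2268 (allL N2268 (tt N3095 D3095) (tt N1647 (iv D2268)) (tt N1649 F3693) (tt N3096 D3096) (tt N3097 D3097) (tt N1685 F3694))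
theorem Q2270 : ∀ i, i < 2270 → P i := stepQ 2269 Q2269 (allL N2269 (tt N3092 (iv F5049)) (tt N3096 (iv F5059)) (tt N3098 D3098) (tt N1647 (iv D2269)) (tt N3099 D3099) (tt N3088 (iv F5042)))
theorem Q2271 : ∀ i, i < 2271 → P i := stepQ 2270 Q2270 (allL N2270 (tt N3093 (iv F5050)) (tt N3097 (iv F5062)) (tt N1648 F3695) (tt N3100 D3100) (tt N1647 (iv D2270)) (tt N3101 D3101))
theorem Q2272 : ∀ i, i < 2272 → P i := stepQ 2271 Q2271 (allL N2271 (tt N3094 (iv F5052)) (tt N1651 F3696) (tt N3101 (iv F5064)) (tt N1656 F3697) (tt N3090 (iv F5047)) (tt N1648 (iv D2271)))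
theorem Q2273 : ∀ i, i < 2273 → P i := stepQ 2272 Q2272 (allL N2272 (tt N1649 (iv D2272)) (tt N1698 F3698) (tt N3095 (iv F5055)) (tt N1683 F3699) (tt N3102 D3102) (tt N1684 F3700))
theorem Q2274 : ∀ i, i < 2274 → P i := stepQ 2273 Q2273 (allL N2273 (tt N3102 (iv F5065)) (tt N1650 F3701) (tt N3097 (iv F5063)) (tt N3103 D3103) (tt N1649 (iv D2273)) (tt N3104 D3104))
theorem Q2275 : ∀ i, i < 2275 → P i := stepQ 2274 Q2274 (allL N2274 (tt N1700 F3702) (tt N3103 (iv F5067)) (tt N3006 (iv F4895)) (tt N1650 (iv D2274)) (tt N1682 F3703) (tt N3105 D3105))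
theorem Q2276 : ∀ i, i < 2276 → P i := stepQ 2275 Q2275 (allL N2275 (tt N1701 F3704) (tt N3104 (iv F5069)) (tt N1651 F3705) (tt N3105 (iv F5073)) (tt N1687 F3706) (tt N1650 (iv D2275)))
theorem Q2277 : ∀ i, i < 2277 → P i := stepQ 2276 Q2276 (allL N2276 (tt N1654 F3707) (tt N1652 (iv D2276)) (tt N1702 F3708) (tt N1652 (iv F3710)) (tt N3106 D3106) (tt N1766 F3709))
theorem Q2278 : ∀ i, i < 2278 → P i := stepQ 2277 Q2277 (allL N2277 (tt N1655 F3711) (tt N3106 (iv F5076)) (tt N1653 F3712) (tt N3107 D3107) (tt N1652 (iv D2277)) (tt N3108 D3108))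
theorem Q2279 : ∀ i, i < 2279 → P i := stepQ 2278 Q2278 (allL N2278 (tt N1656 F3713) (tt N1704 F3714) (tt N3108 (iv F5080)) (tt N3094 (iv F5054)) (tt N1784 F3715) (tt N1653 (iv D2278)))
theorem Q2280 : ∀ i, i < 2280 → P i := stepQ 2279 Q2279 (allL N2279 (tt N1702 F3716) (tt N1705 F3717) (tt N1654 (iv D2279)) (tt N2011 F3718) (tt N3109 D3109) (tt N1756 F3719))
theorem Q2281 : ∀ i, i < 2281 → P i := stepQ 2280 Q2280 (allL N2280 (tt N3106 (iv F5075)) (tt N1713 F3720) (tt N3109 (iv F5084)) (tt N3110 D3110) (tt N1654 (iv D2280)) (tt N3005 (iv F4893)))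
theorem Q2282 : ∀ i, i < 2282 → P i := stepQ 2281 Q2281 (allL N2281 (tt N3107 (iv F5078)) (tt N1771 F3721) (tt N3111 D3111) (tt N1655 (iv D2281)) (tt N3110 (iv F5086)) (tt N3112 D3112))
theorem Q2283 : ∀ i, i < 2283 → P i := stepQ 2282 Q2282 (allL N2282 (tt N3108 (iv F5079)) (tt N1770 F3722) (tt N1656 F3723) (tt N3112 (iv F5088)) (tt N1769 F3724) (tt N1655 (iv D2282)))
theorem Q2284 : ∀ i, i < 2284 → P i := stepQ 2283 Q2283 (allL N2283 (tt N1658 F3725) (tt N1662 F3726) (tt N3113 D3113) (tt N1657 (iv D2283)) (tt N3114 D3114) (tt N1732 (iv F3727)))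
theorem Q2285 : ∀ i, i < 2285 → P i := stepQ 2284 Q2284 (allL N2284 (tt N1659 F3728) (tt N1663 F3729) (tt N2721 (iv F4397)) (tt N1732 F3730) (tt N3115 D3115) (tt N1657 (iv D2284)))
theorem Q2286 : ∀ i, i < 2286 → P i := stepQ 2285 Q2285 (allL N2285 (tt N3113 (iv F5089)) (tt N1728 F3731) (tt N1658 (iv D2285)) (tt N3116 D3116) (tt N3117 D3117) (tt N1725 F3732))
theorem Q2287 : ∀ i, i < 2287 → P i := stepQ 2286 Q2286 (allL N2286 (tt N3114 (iv F5091)) (tt N1660 F3733) (tt N3117 (iv F5098)) (tt N2723 (iv F4399)) (tt N1658 (iv D2286)) (tt N3118 D3118))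
theorem Q2288 : ∀ i, i < 2288 → P i := stepQ 2287 Q2287 (allL N2287 (tt N3115 (iv F5093)) (tt N1661 F3734) (tt N2724 (iv F4401)) (tt N3119 D3119) (tt N1659 (iv D2287)) (tt N2724 (iv F4402)))
theorem Q2289 : ∀ i, i < 2289 → P i := stepQ 2288 Q2288 (allL N2288 (tt N1670 F3735) (tt N3118 (iv F5099)) (tt N1736 F3736) (tt N2725 (iv F4404)) (tt N1735 F3737) (tt N1660 (iv D2288)))
theorem Q2290 : ∀ i, i < 2290 → P i := stepQ 2289 Q2289 (allL N2289 (tt N1672 F3738) (tt N3119 (iv F5101)) (tt N3120 D3120) (tt N1661 (iv D2289)) (tt N1734 F3739) (tt N2726 (iv F4406)))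
theorem Q2291 : ∀ i, i < 2291 → P i := stepQ 2290 Q2290 (allL N2290 (tt N1664 F3740) (tt N3121 D3121) (tt N1662 (iv D2290)) (tt N2917 (iv F4731)) (tt N3122 D3122) (tt N3123 D3123))
theorem Q2292 : ∀ i, i < 2292 → P i := stepQ 2291 Q2291 (allL N2291 (tt N1665 F3741) (tt N3114 (iv F5092)) (tt N3122 (iv F5108)) (tt N3075 (iv F5011)) (tt N1662 (iv D2291)) (tt N3124 D3124))
theorem Q2293 : ∀ i, i < 2293 → P i := stepQ 2292 Q2292 (allL N2292 (tt N1666 F3742) (tt N1732 F3743) (tt N3123 (iv F5110)) (tt N1663 F3744) (tt N3125 D3125) (tt N1662 (iv D2292)))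
theorem Q2294 : ∀ i, i < 2294 → P i := stepQ 2293 Q2293 (allL N2293 (tt N1667 F3745) (tt N3115 (iv F5094)) (tt N1675 F3746) (tt N3126 D3126) (tt N1663 (iv D2293)) (tt N3023 (iv F4939)))
theorem Q2295 : ∀ i, i < 2295 → P i := stepQ 2294 Q2294 (allL N2294 (tt N3127 D3127) (tt N1664 (iv D2294)) (tt N1668 F3747) (tt N3128 D3128) (tt N3129 D3129) (tt N1716 (iv F3748)))
theorem Q2296 : ∀ i, i < 2296 → P i := stepQ 2295 Q2295 (allL N2295 (tt N2917 (iv F4729)) (tt N3128 (iv F5120)) (tt N2916 (iv F4728)) (tt N1664 (iv D2295)) (tt N3130 D3130) (tt N3131 D3131))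
theorem Q2297 : ∀ i, i < 2297 → P i := stepQ 2296 Q2296 (allL N2296 (tt N3122 (iv F5107)) (tt N3129 (iv F5123)) (tt N1665 F3749) (tt N3132 D3132) (tt N1664 (iv D2296)) (tt N3133 D3133))
theorem Q2298 : ∀ i, i < 2298 → P i := stepQ 2297 Q2297 (allL N2297 (tt N3123 (iv F5109)) (tt N1716 F3750) (tt N1666 F3751) (tt N3131 (iv F5128)) (tt N3134 D3134) (tt N1664 (iv D2297)))
theorem Q2299 : ∀ i, i < 2299 → P i := stepQ 2298 Q2298 (allL N2298 (tt N3124 (iv F5112)) (tt N1670 F3752) (tt N3133 (iv F5129)) (tt N3077 (iv F5014)) (tt N3135 D3135) (tt N1665 (iv D2298)))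
theorem Q2300 : ∀ i, i < 2300 → P i := stepQ 2299 Q2299 (allL N2299 (tt N3125 (iv F5113)) (tt N1671 F3753) (tt N3134 (iv F5131)) (tt N3136 D3136) (tt N1666 (iv D2299)) (tt N3135 (iv F5133)))
theorem Q2301 : ∀ i, i < 2301 → P i := stepQ 2300 Q2300 (allL N2300 (tt N3126 (iv F5115)) (tt N1672 F3754) (tt N3137 D3137) (tt N1667 (iv D2300)) (tt N3136 (iv F5135)) (tt N3024 (iv F4941)))
theorem Q2302 : ∀ i, i < 2302 → P i := stepQ 2301 Q2301 (allL N2301 (tt N1668 (iv D2301)) (tt N1723 F3755) (tt N3127 (iv F5116)) (tt N1715 F3756) (tt N3138 D3138) (tt N1714 F3757))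
theorem Q2303 : ∀ i, i < 2303 → P i := stepQ 2302 Q2302 (allL N2302 (tt N3138 (iv F5136)) (tt N1669 F3758) (tt N3129 (iv F5124)) (tt N3139 D3139) (tt N1668 (iv D2302)) (tt N3140 D3140))
theorem Q2304 : ∀ i, i < 2304 → P i := stepQ 2303 Q2303 (allL N2303 (tt N1737 F3759) (tt N3139 (iv F5138)) (tt N1960 (iv F3761)) (tt N1669 (iv D2303)) (tt N1720 F3760) (tt N2769 (iv F4467)))
theorem Q2305 : ∀ i, i < 2305 → P i := stepQ 2304 Q2304 (allL N2304 (tt N1736 F3762) (tt N3140 (iv F5140)) (tt N1670 F3763) (tt N2769 (iv F4466)) (tt N1719 F3764) (tt N1669 (iv D2304)))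
theorem Q2306 : ∀ i, i < 2306 → P i := stepQ 2305 Q2305 (allL N2305 (tt N1735 F3765) (tt N3135 (iv F5132)) (tt N1719 F3766) (tt N3141 D3141) (tt N1670 (iv D2305)) (tt N1671 F3767))
theorem Q2307 : ∀ i, i < 2307 → P i := stepQ 2306 Q2306 (allL N2306 (tt N1734 F3768) (tt N3136 (iv F5134)) (tt N3142 D3142) (tt N1671 (iv D2306)) (tt N1672 F3769) (tt N3141 (iv F5144)))
theorem Q2308 : ∀ i, i < 2308 → P i := stepQ 2307 Q2307 (allL N2307 (tt N3120 (iv F5103)) (tt N3143 D3143) (tt N1672 (iv D2307)) (tt N3144 D3144) (tt N3142 (iv F5147)) (tt N3078 (iv F5016)))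
theorem Q2309 : ∀ i, i < 2309 → P i := stepQ 2308 Q2308 (allL N2308 (tt N2906 (iv F4704)) (tt N1673 (iv D2308)) (tt N2954 (iv F4808)) (tt N3145 D3145) (tt N3146 D3146) (tt N2904 F4702))
theorem Q2310 : ∀ i, i < 2310 → P i := stepQ 2309 Q2309 (allL N2309 (tt N1676 F3770) (tt N3145 (iv F5152)) (tt N3131 (iv F5127)) (tt N1673 (iv D2309)) (tt N3147 D3147) (tt N2916 (iv F4727)))
theorem Q2311 : ∀ i, i < 2311 → P i := stepQ 2310 Q2310 (allL N2310 (tt N1677 F3771) (tt N3146 (iv F5153)) (tt N1674 F3772) (tt N3148 D3148) (tt N1673 (iv D2310)) (tt N3149 D3149))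
theorem Q2312 : ∀ i, i < 2312 → P i := stepQ 2311 Q2311 (allL N2311 (tt N1678 F3773) (tt N3010 (iv F4906)) (tt N3149 (iv F5157)) (tt N3010 F4908) (tt N2930 (iv F4749)) (tt N1674 (iv D2311)))
theorem Q2313 : ∀ i, i < 2313 → P i := stepQ 2312 Q2312 (allL N2312 (tt N1679 F3774) (tt N3008 (iv F4900)) (tt N3150 D3150) (tt N1675 (iv D2312)) (tt N2929 (iv F4746)) (tt N3008 F4902))
theorem Q2314 : ∀ i, i < 2314 → P i := stepQ 2313 Q2313 (allL N2313 (tt N3131 (iv F5125)) (tt N3151 D3151) (tt N1676 (iv D2313)) (tt N3123 (iv F5111)) (tt N3152 D3152) (tt N2917 (iv F4730)))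
theorem Q2315 : ∀ i, i < 2315 → P i := stepQ 2314 Q2314 (allL N2314 (tt N3147 (iv F5154)) (tt N2922 (iv F4734)) (tt N3152 (iv F5159)) (tt N3153 D3153) (tt N1676 (iv D2314)) (tt N3154 D3154))
theorem Q2316 : ∀ i, i < 2316 → P i := stepQ 2315 Q2315 (allL N2315 (tt N3148 (iv F5155)) (tt N2923 (iv F4735)) (tt N3155 D3155) (tt N1677 (iv D2315)) (tt N3153 (iv F5160)) (tt N3156 D3156))
theorem Q2317 : ∀ i, i < 2317 → P i := stepQ 2316 Q2316 (allL N2316 (tt N3149 (iv F5156)) (tt N2915 (iv F4723)) (tt N1678 F3775) (tt N3156 (iv F5161)) (tt N2911 (iv F4715)) (tt N1677 (iv D2316)))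
theorem Q2318 : ∀ i, i < 2318 → P i := stepQ 2317 Q2317 (allL N2317 (tt N3150 (iv F5158)) (tt N3157 D3157) (tt N1679 (iv D2317)) (tt N3158 D3158) (tt N2931 (iv F4750)) (tt N3013 F4912))
theorem Q2319 : ∀ i, i < 2319 → P i := stepQ 2318 Q2318 (allL N2318 (tt N3159 D3159) (tt N1680 (iv D2318)) (tt N3157 (iv F5162)) (tt N3160 D3160) (tt N2933 (iv F4755)) (tt N3016 (iv F4918)))
theorem Q2320 : ∀ i, i < 2320 → P i := stepQ 2319 Q2319 (allL N2319 (tt N3017 (iv F4919)) (tt N3160 (iv F5163)) (tt N1682 F3776) (tt N1680 (iv D2319)) (tt N3006 (iv F4896)) (tt N3017 (iv F4921)))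
theorem Q2321 : ∀ i, i < 2321 → P i := stepQ 2320 Q2320 (allL N2320 (tt N1681 (iv D2320)) (tt N3079 (iv F5018)) (tt N2004 F3777) (tt N3161 D3161) (tt N1683 F3778) (tt N3079 (iv F5021)))
theorem Q2322 : ∀ i, i < 2322 → P i := stepQ 2321 Q2321 (allL N2321 (tt N3161 (iv F5164)) (tt N1682 F3779) (tt N3162 D3162) (tt N1681 (iv D2321)) (tt N3103 (iv F5068)) (tt N3080 (iv F5024)))
theorem Q2323 : ∀ i, i < 2323 → P i := stepQ 2322 Q2322 (allL N2322 (tt N1685 F3780) (tt N3163 D3163) (tt N1684 (iv D2322)) (tt N3164 D3164) (tt N3165 D3165) (tt N3095 (iv F5056)))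
theorem Q2324 : ∀ i, i < 2324 → P i := stepQ 2323 Q2323 (allL N2323 (tt N1686 F3781) (tt N3082 (iv F5028)) (tt N3165 (iv F5169)) (tt N3082 (iv F5029)) (tt N1684 (iv D2323)) (tt N3166 D3166))
theorem Q2325 : ∀ i, i < 2325 → P i := stepQ 2324 Q2324 (allL N2324 (tt N3164 (iv F5165)) (tt N3088 (iv F5041)) (tt N3167 D3167) (tt N1685 (iv D2324)) (tt N3168 D3168) (tt N3096 (iv F5060)))
theorem Q2326 : ∀ i, i < 2326 → P i := stepQ 2325 Q2325 (allL N2325 (tt N3165 (iv F5168)) (tt N3089 (iv F5043)) (tt N1686 F3782) (tt N3169 D3169) (tt N1685 (iv D2325)) (tt N3170 D3170))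
theorem Q2327 : ∀ i, i < 2327 → P i := stepQ 2326 Q2326 (allL N2326 (tt N3166 (iv F5170)) (tt N1687 F3783) (tt N3170 (iv F5174)) (tt N3085 (iv F5035)) (tt N3104 (iv F5070)) (tt N1686 (iv D2326)))
theorem Q2328 : ∀ i, i < 2328 → P i := stepQ 2327 Q2327 (allL N2327 (tt N1689 F3784) (tt N3171 D3171) (tt N1688 (iv D2327)) (tt N1746 F3785) (tt N3172 D3172) (tt N1692 F3786))
theorem Q2329 : ∀ i, i < 2329 → P i := stepQ 2328 Q2328 (allL N2328 (tt N1690 F3787) (tt N3087 (iv F5040)) (tt N3172 (iv F5178)) (tt N3031 (iv F4950)) (tt N1688 (iv D2328)) (tt N3173 D3173))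
theorem Q2330 : ∀ i, i < 2330 → P i := stepQ 2329 Q2329 (allL N2329 (tt N1746 F3788) (tt N3083 (iv F5030)) (tt N1744 F3789) (tt N1689 (iv D2329)) (tt N3174 D3174) (tt N1695 F3790))
theorem Q2331 : ∀ i, i < 2331 → P i := stepQ 2330 Q2330 (allL N2330 (tt N3172 (iv F5177)) (tt N3084 (iv F5032)) (tt N1690 F3791) (tt N3175 D3175) (tt N1689 (iv D2330)) (tt N3176 D3176))
theorem Q2332 : ∀ i, i < 2332 → P i := stepQ 2331 Q2331 (allL N2331 (tt N3173 (iv F5179)) (tt N1691 F3792) (tt N3176 (iv F5183)) (tt N3034 (iv F4956)) (tt N1697 F3793) (tt N1690 (iv D2331)))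
theorem Q2333 : ∀ i, i < 2333 → P i := stepQ 2332 Q2332 (allL N2332 (tt N3177 D3177) (tt N1692 (iv D2332)) (tt N3091 (iv F5048)) (tt N2236 F3794) (tt N3178 D3178) (tt N3171 (iv F5176)))
theorem Q2334 : ∀ i, i < 2334 → P i := stepQ 2333 Q2333 (allL N2333 (tt N1696 F3795) (tt N3178 (iv F5187)) (tt N1693 F3796) (tt N3179 D3179) (tt N1692 (iv D2333)) (tt N3180 D3180))
theorem Q2335 : ∀ i, i < 2335 → P i := stepQ 2334 Q2334 (allL N2334 (tt N1697 F3797) (tt N3094 (iv F5053)) (tt N3180 (iv F5191)) (tt N1704 F3798) (tt N3173 (iv F5180)) (tt N1693 (iv D2334)))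
theorem Q2336 : ∀ i, i < 2336 → P i := stepQ 2335 Q2335 (allL N2335 (tt N1694 (iv D2335)) (tt N3177 (iv F5185)) (tt N1698 F3799) (tt N3181 D3181) (tt N3182 D3182) (tt N3081 (iv F5026)))
theorem Q2337 : ∀ i, i < 2337 → P i := stepQ 2336 Q2336 (allL N2336 (tt N3181 (iv F5192)) (tt N1695 F3800) (tt N3183 D3183) (tt N1694 (iv D2336)) (tt N3184 D3184) (tt N3083 (iv F5031)))
theorem Q2338 : ∀ i, i < 2338 → P i := stepQ 2337 Q2337 (allL N2337 (tt N3182 (iv F5195)) (tt N1696 F3801) (tt N1699 F3802) (tt N3185 D3185) (tt N1694 (iv D2337)) (tt N3186 D3186))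
theorem Q2339 : ∀ i, i < 2339 → P i := stepQ 2338 Q2338 (allL N2338 (tt N2237 F3803) (tt N3184 (iv F5200)) (tt N2235 F3804) (tt N3187 D3187) (tt N1695 (iv D2338)) (tt N3188 D3188))
theorem Q2340 : ∀ i, i < 2340 → P i := stepQ 2339 Q2339 (allL N2339 (tt N3179 (iv F5188)) (tt N3185 (iv F5201)) (tt N3189 D3189) (tt N1696 (iv D2339)) (tt N3187 (iv F5205)) (tt N3190 D3190))
theorem Q2341 : ∀ i, i < 2341 → P i := stepQ 2340 Q2340 (allL N2340 (tt N3180 (iv F5190)) (tt N3186 (iv F5202)) (tt N1697 F3805) (tt N3190 (iv F5208)) (tt N3176 (iv F5184)) (tt N1696 (iv D2340)))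
theorem Q2342 : ∀ i, i < 2342 → P i := stepQ 2341 Q2341 (allL N2341 (tt N1699 F3806) (tt N3102 (iv F5066)) (tt N3182 (iv F5196)) (tt N3191 D3191) (tt N1698 (iv D2341)) (tt N3192 D3192))
theorem Q2343 : ∀ i, i < 2343 → P i := stepQ 2342 Q2342 (allL N2342 (tt N3191 (iv F5209)) (tt N1700 F3807) (tt N3193 D3193) (tt N1699 (iv D2342)) (tt N3080 (iv F5023)) (tt N3194 D3194))
theorem Q2344 : ∀ i, i < 2344 → P i := stepQ 2343 Q2343 (allL N2343 (tt N3192 (iv F5210)) (tt N1701 F3808) (tt N3186 (iv F5203)) (tt N3194 (iv F5212)) (tt N3085 (iv F5036)) (tt N1699 (iv D2343)))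
theorem Q2345 : ∀ i, i < 2345 → P i := stepQ 2344 Q2344 (allL N2344 (tt N3006 (iv F4894)) (tt N3112 (iv F5087)) (tt N1700 (iv D2344)) (tt N1770 F3809) (tt N3017 (iv F4920)) (tt N1771 (iv F3810)))
theorem Q2346 : ∀ i, i < 2346 → P i := stepQ 2345 Q2345 (allL N2345 (tt N3105 (iv F5071)) (tt N3194 (iv F5211)) (tt N1771 F3811) (tt N1701 F3812) (tt N3105 (iv F5074)) (tt N1700 (iv D2345)))
theorem Q2347 : ∀ i, i < 2347 → P i := stepQ 2346 Q2346 (allL N2346 (tt N3109 (iv F5082)) (tt N1703 F3813) (tt N3106 (iv F5077)) (tt N3195 D3195) (tt N1702 (iv D2346)) (tt N3196 D3196))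
theorem Q2348 : ∀ i, i < 2348 → P i := stepQ 2347 Q2347 (allL N2347 (tt N1709 F3814) (tt N3195 (iv F5213)) (tt N3197 D3197) (tt N1703 (iv D2347)) (tt N2013 F3815) (tt N3198 D3198))
theorem Q2349 : ∀ i, i < 2349 → P i := stepQ 2348 Q2348 (allL N2348 (tt N1710 F3816) (tt N3196 (iv F5215)) (tt N1704 F3817) (tt N3198 (iv F5219)) (tt N3046 (iv F4978)) (tt N1703 (iv D2348)))
theorem Q2350 : ∀ i, i < 2350 → P i := stepQ 2349 Q2349 (allL N2349 (tt N1707 F3818) (tt N3109 (iv F5083)) (tt N1711 F3819) (tt N3199 D3199) (tt N1705 (iv D2349)) (tt N3001 (iv F4885)))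
theorem Q2351 : ∀ i, i < 2351 → P i := stepQ 2350 Q2350 (allL N2350 (tt N2424 (iv F3917)) (tt N1708 F3820) (tt N2414 (iv F3911)) (tt N3200 D3200) (tt N1706 (iv D2350)) (tt N3201 D3201))
theorem Q2352 : ∀ i, i < 2352 → P i := stepQ 2351 Q2351 (allL N2351 (tt N3199 (iv F5220)) (tt N1709 F3821) (tt N3202 D3202) (tt N1707 (iv D2351)) (tt N3200 (iv F5222)) (tt N3203 D3203))
theorem Q2353 : ∀ i, i < 2353 → P i := stepQ 2352 Q2352 (allL N2352 (tt N3001 (iv F4883)) (tt N1710 F3822) (tt N1712 F3823) (tt N3203 (iv F5226)) (tt N1763 F3824) (tt N1707 (iv D2352)))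
theorem Q2354 : ∀ i, i < 2354 → P i := stepQ 2353 Q2353 (allL N2353 (tt N2013 F3825) (tt N3200 (iv F5221)) (tt N3204 D3204) (tt N1708 (iv D2353)) (tt N1709 F3826) (tt N3205 D3205))
theorem Q2355 : ∀ i, i < 2355 → P i := stepQ 2354 Q2354 (allL N2354 (tt N2014 F3827) (tt N3201 (iv F5223)) (tt N2010 F3828) (tt N3205 (iv F5230)) (tt N3048 (iv F4985)) (tt N1708 (iv D2354)))
theorem Q2356 : ∀ i, i < 2356 → P i := stepQ 2355 Q2355 (allL N2355 (tt N3197 (iv F5216)) (tt N3206 D3206) (tt N1709 (iv D2355)) (tt N3207 D3207) (tt N3204 (iv F5228)) (tt N3208 D3208))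
theorem Q2357 : ∀ i, i < 2357 → P i := stepQ 2356 Q2356 (allL N2356 (tt N3198 (iv F5218)) (tt N3203 (iv F5225)) (tt N3208 (iv F5231)) (tt N1710 F3829) (tt N3209 D3209) (tt N1709 (iv D2356)))
theorem Q2358 : ∀ i, i < 2358 → P i := stepQ 2357 Q2357 (allL N2357 (tt N1771 F3830) (tt N3110 (iv F5085)) (tt N3105 (iv F5072)) (tt N1713 (iv D2357)) (tt N1771 F3831) (tt N3006 (iv F4897)))
theorem Q2359 : ∀ i, i < 2359 → P i := stepQ 2358 Q2358 (allL N2358 (tt N1716 F3832) (tt N3210 D3210) (tt N1714 (iv D2358)) (tt N3211 D3211) (tt N3212 D3212) (tt N3127 (iv F5117)))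
theorem Q2360 : ∀ i, i < 2360 → P i := stepQ 2359 Q2359 (allL N2359 (tt N1717 F3833) (tt N1722 F3834) (tt N3212 (iv F5237)) (tt N1982 F3835) (tt N1714 (iv D2359)) (tt N3213 D3213))
theorem Q2361 : ∀ i, i < 2361 → P i := stepQ 2360 Q2360 (allL N2360 (tt N1718 F3836) (tt N1724 F3837) (tt N2143 F3838) (tt N3214 D3214) (tt N1715 (iv D2360)) (tt N1749 F3839))
theorem Q2362 : ∀ i, i < 2362 → P i := stepQ 2361 Q2361 (allL N2361 (tt N3211 (iv F5233)) (tt N3131 (iv F5126)) (tt N3215 D3215) (tt N1716 (iv D2361)) (tt N3216 D3216) (tt N3128 (iv F5121)))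
theorem Q2363 : ∀ i, i < 2363 → P i := stepQ 2362 Q2362 (allL N2362 (tt N3212 (iv F5236)) (tt N3134 (iv F5130)) (tt N1717 F3840) (tt N3217 D3217) (tt N1716 (iv D2362)) (tt N3218 D3218))
theorem Q2364 : ∀ i, i < 2364 → P i := stepQ 2363 Q2363 (allL N2363 (tt N3213 (iv F5238)) (tt N1719 F3841) (tt N3218 (iv F5247)) (tt N1985 F3842) (tt N3140 (iv F5141)) (tt N1717 (iv D2363)))
theorem Q2365 : ∀ i, i < 2365 → P i := stepQ 2364 Q2364 (allL N2364 (tt N3214 (iv F5241)) (tt N1720 F3843) (tt N3219 D3219) (tt N1718 (iv D2364)) (tt N3139 (iv F5139)) (tt N1915 F3844))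
theorem Q2366 : ∀ i, i < 2366 → P i := stepQ 2365 Q2365 (allL N2365 (tt N3220 D3220) (tt N1721 (iv D2365)) (tt N3210 (iv F5232)) (tt N2701 (iv F4360)) (tt N3221 D3221) (tt N3222 D3222))
theorem Q2367 : ∀ i, i < 2367 → P i := stepQ 2366 Q2366 (allL N2366 (tt N1727 F3845) (tt N3221 (iv F5251)) (tt N1722 F3846) (tt N3223 D3223) (tt N1721 (iv D2366)) (tt N3224 D3224))
theorem Q2368 : ∀ i, i < 2368 → P i := stepQ 2367 Q2367 (allL N2367 (tt N1728 F3847) (tt N3222 (iv F5252)) (tt N1723 F3848) (tt N1741 F3849) (tt N3225 D3225) (tt N1721 (iv D2367)))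
theorem Q2369 : ∀ i, i < 2369 → P i := stepQ 2368 Q2368 (allL N2368 (tt N1729 F3850) (tt N3213 (iv F5239)) (tt N3224 (iv F5256)) (tt N2010 F3851) (tt N3226 D3226) (tt N1722 (iv D2368)))
theorem Q2370 : ∀ i, i < 2370 → P i := stepQ 2369 Q2369 (allL N2369 (tt N1730 F3852) (tt N3138 (iv F5137)) (tt N3225 (iv F5258)) (tt N3227 D3227) (tt N1723 (iv D2369)) (tt N3226 (iv F5260)))
theorem Q2371 : ∀ i, i < 2371 → P i := stepQ 2370 Q2370 (allL N2370 (tt N1731 F3853) (tt N3214 (iv F5242)) (tt N3228 D3228) (tt N1724 (iv D2370)) (tt N3227 (iv F5262)) (tt N1751 F3854))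
theorem Q2372 : ∀ i, i < 2372 → P i := stepQ 2371 Q2371 (allL N2371 (tt N1725 (iv D2371)) (tt N3220 (iv F5250)) (tt N1732 F3855) (tt N3229 D3229) (tt N3230 D3230) (tt N3113 (iv F5090)))
theorem Q2373 : ∀ i, i < 2373 → P i := stepQ 2372 Q2372 (allL N2372 (tt N3229 (iv F5266)) (tt N1726 F3856) (tt N3231 D3231) (tt N1725 (iv D2372)) (tt N3232 D3232) (tt N3116 (iv F5096)))
theorem Q2374 : ∀ i, i < 2374 → P i := stepQ 2373 Q2373 (allL N2373 (tt N3230 (iv F5267)) (tt N1727 F3857) (tt N1733 F3858) (tt N3233 D3233) (tt N1725 (iv D2373)) (tt N3234 D3234))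
theorem Q2375 : ∀ i, i < 2375 → P i := stepQ 2374 Q2374 (allL N2374 (tt N2702 (iv F4362)) (tt N3232 (iv F5269)) (tt N2700 (iv F4357)) (tt N3235 D3235) (tt N1726 (iv D2374)) (tt N3236 D3236))
theorem Q2376 : ∀ i, i < 2376 → P i := stepQ 2375 Q2375 (allL N2375 (tt N1741 F3859) (tt N3116 (iv F5095)) (tt N1740 F3860) (tt N1728 F3861) (tt N3237 D3237) (tt N1726 (iv D2375)))
theorem Q2377 : ∀ i, i < 2377 → P i := stepQ 2376 Q2376 (allL N2376 (tt N3223 (iv F5254)) (tt N3233 (iv F5270)) (tt N3238 D3238) (tt N1727 (iv D2376)) (tt N3235 (iv F5273)) (tt N3239 D3239))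
theorem Q2378 : ∀ i, i < 2378 → P i := stepQ 2377 Q2377 (allL N2377 (tt N3224 (iv F5255)) (tt N3234 (iv F5271)) (tt N1729 F3862) (tt N3239 (iv F5276)) (tt N3240 D3240) (tt N1727 (iv D2377)))
theorem Q2379 : ∀ i, i < 2379 → P i := stepQ 2378 Q2378 (allL N2378 (tt N3225 (iv F5257)) (tt N3117 (iv F5097)) (tt N1730 F3863) (tt N3241 D3241) (tt N1728 (iv D2378)) (tt N3240 (iv F5278)))
theorem Q2380 : ∀ i, i < 2380 → P i := stepQ 2379 Q2379 (allL N2379 (tt N3226 (iv F5259)) (tt N1736 F3864) (tt N3240 (iv F5277)) (tt N3242 D3242) (tt N1729 (iv D2379)) (tt N1730 F3865))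
theorem Q2381 : ∀ i, i < 2381 → P i := stepQ 2380 Q2380 (allL N2380 (tt N3227 (iv F5261)) (tt N1737 F3866) (tt N3243 D3243) (tt N1730 (iv D2380)) (tt N1731 F3867) (tt N3242 (iv F5281)))
theorem Q2382 : ∀ i, i < 2382 → P i := stepQ 2381 Q2381 (allL N2381 (tt N3228 (iv F5263)) (tt N3244 D3244) (tt N1731 (iv D2381)) (tt N3245 D3245) (tt N3243 (iv F5282)) (tt N1755 F3868))
theorem Q2383 : ∀ i, i < 2383 → P i := stepQ 2382 Q2382 (allL N2382 (tt N1733 F3869) (tt N3125 (iv F5114)) (tt N3230 (iv F5268)) (tt N3246 D3246) (tt N1732 (iv D2382)) (tt N3247 D3247))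
theorem Q2384 : ∀ i, i < 2384 → P i := stepQ 2383 Q2383 (allL N2383 (tt N3246 (iv F5288)) (tt N1734 F3870) (tt N3248 D3248) (tt N1733 (iv D2383)) (tt N3119 (iv F5102)) (tt N3249 D3249))
theorem Q2385 : ∀ i, i < 2385 → P i := stepQ 2384 Q2384 (allL N2384 (tt N3247 (iv F5289)) (tt N1735 F3871) (tt N3234 (iv F5272)) (tt N3249 (iv F5291)) (tt N3118 (iv F5100)) (tt N1733 (iv D2384)))
theorem Q2386 : ∀ i, i < 2386 → P i := stepQ 2385 Q2385 (allL N2385 (tt N3142 (iv F5145)) (tt N3250 D3250) (tt N1734 (iv D2385)) (tt N2693 (iv F4341)) (tt N3120 (iv F5105)) (tt N2692 F4339))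
theorem Q2387 : ∀ i, i < 2387 → P i := stepQ 2386 Q2386 (allL N2386 (tt N3141 (iv F5142)) (tt N3249 (iv F5290)) (tt N2692 (iv F4338)) (tt N1735 F3872) (tt N3251 D3251) (tt N1734 (iv D2386)))
theorem Q2388 : ∀ i, i < 2388 → P i := stepQ 2387 Q2387 (allL N2387 (tt N2769 (iv F4464)) (tt N3242 (iv F5279)) (tt N3252 D3252) (tt N1736 (iv D2387)) (tt N1963 F3873) (tt N1737 F3874))
theorem Q2389 : ∀ i, i < 2389 → P i := stepQ 2388 Q2388 (allL N2388 (tt N1960 F3875) (tt N3253 D3253) (tt N1737 (iv D2388)) (tt N2658 (iv F4284)) (tt N1738 F3876) (tt N3252 (iv F5294)))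
theorem Q2390 : ∀ i, i < 2390 → P i := stepQ 2389 Q2389 (allL N2389 (tt N3254 D3254) (tt N1738 (iv D2389)) (tt N3244 (iv F5283)) (tt N1914 F3877) (tt N3253 (iv F5295)) (tt N1961 F3878))
theorem Q2391 : ∀ i, i < 2391 → P i := stepQ 2390 Q2390 (allL N2390 (tt N2646 (iv F4268)) (tt N1740 F3879) (tt N3255 D3255) (tt N1739 (iv D2390)) (tt N3256 D3256) (tt N2694 (iv F4344)))
theorem Q2392 : ∀ i, i < 2392 → P i := stepQ 2391 Q2391 (allL N2391 (tt N1742 F3880) (tt N3256 (iv F5299)) (tt N3237 (iv F5275)) (tt N3071 (iv F5007)) (tt N1740 (iv D2391)) (tt N3257 D3257))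
theorem Q2393 : ∀ i, i < 2393 → P i := stepQ 2392 Q2392 (allL N2392 (tt N3258 D3258) (tt N1741 (iv D2392)) (tt N2631 F4244) (tt N3222 (iv F5253)) (tt N3259 D3259) (tt N2701 (iv F4361)))
theorem Q2394 : ∀ i, i < 2394 → P i := stepQ 2393 Q2393 (allL N2393 (tt N3237 (iv F5274)) (tt N3259 (iv F5301)) (tt N1742 F3881) (tt N3260 D3260) (tt N1741 (iv D2393)) (tt N3261 D3261))
theorem Q2395 : ∀ i, i < 2395 → P i := stepQ 2394 Q2394 (allL N2394 (tt N3257 (iv F5300)) (tt N2708 (iv F4369)) (tt N3261 (iv F5302)) (tt N3074 (iv F5009)) (tt N2703 (iv F4366)) (tt N1742 (iv D2394)))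
theorem Q2396 : ∀ i, i < 2396 → P i := stepQ 2395 Q2395 (allL N2395 (tt N2177 F3882) (tt N1744 F3883) (tt N3262 D3262) (tt N1743 (iv D2395)) (tt N3263 D3263) (tt N2229 F3884))
theorem Q2397 : ∀ i, i < 2397 → P i := stepQ 2396 Q2396 (allL N2396 (tt N2232 F3885) (tt N1745 F3886) (tt N2246 F3887) (tt N3264 D3264) (tt N1743 (iv D2396)) (tt N2892 (iv F4673)))
theorem Q2398 : ∀ i, i < 2398 → P i := stepQ 2397 Q2397 (allL N2397 (tt N1747 F3888) (tt N3263 (iv F5306)) (tt N3174 (iv F5182)) (tt N3265 D3265) (tt N1744 (iv D2397)) (tt N3266 D3266))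
theorem Q2399 : ∀ i, i < 2399 → P i := stepQ 2398 Q2398 (allL N2398 (tt N1748 F3889) (tt N3264 (iv F5308)) (tt N3245 (iv F5286)) (tt N1745 (iv D2398)) (tt N3265 (iv F5310)) (tt N2894 (iv F4676)))
theorem Q2400 : ∀ i, i < 2400 → P i := stepQ 2399 Q2399 (allL N2399 (tt N3267 D3267) (tt N1746 (iv D2399)) (tt N2154 F3890) (tt N3171 (iv F5175)) (tt N3268 D3268) (tt N2236 F3891))
theorem Q2401 : ∀ i, i < 2401 → P i := stepQ 2400 Q2400 (allL N2400 (tt N3174 (iv F5181)) (tt N3268 (iv F5315)) (tt N1747 F3892) (tt N3269 D3269) (tt N1746 (iv D2400)) (tt N3270 D3270))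
theorem Q2402 : ∀ i, i < 2402 → P i := stepQ 2401 Q2401 (allL N2401 (tt N3265 (iv F5309)) (tt N2244 F3893) (tt N3271 D3271) (tt N1747 (iv D2401)) (tt N1748 F3894) (tt N3272 D3272))
theorem Q2403 : ∀ i, i < 2403 → P i := stepQ 2402 Q2402 (allL N2402 (tt N3266 (iv F5311)) (tt N2243 F3895) (tt N3270 (iv F5317)) (tt N3272 (iv F5321)) (tt N2238 F3896) (tt N1747 (iv D2402)))
theorem Q2404 : ∀ i, i < 2404 → P i := stepQ 2403 Q2403 (allL N2403 (tt N3245 (iv F5285)) (tt N3273 D3273) (tt N1748 (iv D2403)) (tt N3228 (iv F5264)) (tt N3271 (iv F5319)) (tt N2899 (iv F4686)))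
theorem Q2405 : ∀ i, i < 2405 → P i := stepQ 2404 Q2404 (allL N2404 (tt N1915 F3897) (tt N1751 F3898) (tt N3274 D3274) (tt N1749 (iv D2404)) (tt N2762 (iv F4451)) (tt N3214 (iv F5243)))
theorem Q2406 : ∀ i, i < 2406 → P i := stepQ 2405 Q2405 (allL N2405 (tt N1753 F3899) (tt N2762 (iv F4450)) (tt N3275 D3275) (tt N1750 (iv D2405)) (tt N1751 F3900) (tt N3276 D3276))
theorem Q2407 : ∀ i, i < 2407 → P i := stepQ 2406 Q2406 (allL N2406 (tt N1754 F3901) (tt N2763 (iv F4453)) (tt N3048 (iv F4984)) (tt N3276 (iv F5327)) (tt N2010 F3902) (tt N1750 (iv D2406)))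
theorem Q2408 : ∀ i, i < 2408 → P i := stepQ 2407 Q2407 (allL N2407 (tt N1755 F3903) (tt N3277 D3277) (tt N1751 (iv D2407)) (tt N2899 (iv F4687)) (tt N3275 (iv F5325)) (tt N3228 (iv F5265)))
theorem Q2409 : ∀ i, i < 2409 → P i := stepQ 2408 Q2408 (allL N2408 (tt N3047 (iv F4979)) (tt N2718 (iv F4390)) (tt N3278 D3278) (tt N1752 (iv D2408)) (tt N3045 (iv F4975)) (tt N3279 D3279))
theorem Q2410 : ∀ i, i < 2410 → P i := stepQ 2409 Q2409 (allL N2409 (tt N3048 (iv F4982)) (tt N2719 (iv F4391)) (tt N1754 F3904) (tt N3279 (iv F5328)) (tt N2014 F3905) (tt N1752 (iv D2409)))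
theorem Q2411 : ∀ i, i < 2411 → P i := stepQ 2410 Q2410 (allL N2410 (tt N3275 (iv F5324)) (tt N3280 D3280) (tt N1753 (iv D2410)) (tt N3281 D3281) (tt N1755 F3906) (tt N3282 D3282))
theorem Q2412 : ∀ i, i < 2412 → P i := stepQ 2411 Q2411 (allL N2411 (tt N3276 (iv F5326)) (tt N1963 F3907) (tt N3282 (iv F5331)) (tt N1754 F3908) (tt N3242 (iv F5280)) (tt N1753 (iv D2411)))
theorem Q2413 : ∀ i, i < 2413 → P i := stepQ 2412 Q2412 (allL N2412 (tt N3283 D3283) (tt N1755 (iv D2412)) (tt N1961 F3909) (tt N3284 D3284) (tt N3280 (iv F5330)) (tt N3244 (iv F5284)))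
theorem Q2414 : ∀ i, i < 2414 → P i := stepQ 2413 Q2413 (allL N2413 (tt N2899 (iv F4685)) (tt N3284 (iv F5333)) (tt N2894 (iv F4677)) (tt N1755 (iv D2413)) (tt N3285 D3285) (tt N3245 (iv F5287)))
theorem Q2415 : ∀ i, i < 2415 → P i := stepQ 2414 Q2414 (allL N2414 (tt N1765 F3910) (tt N2715 (iv F4383)) (tt N2350 F3911) (tt N2999 (iv F4879)) (tt N1757 (iv D2414)) (tt N3286 D3286))
theorem Q2416 : ∀ i, i < 2416 → P i := stepQ 2415 Q2415 (allL N2415 (tt N2485 (iv F4013)) (tt N3287 D3287) (tt N1758 (iv D2415)) (tt N3288 D3288) (tt N1760 F3912) (tt N3289 D3289))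
theorem Q2417 : ∀ i, i < 2417 → P i := stepQ 2416 Q2416 (allL N2416 (tt N2486 (iv F4015)) (tt N2489 (iv F4022)) (tt N3289 (iv F5337)) (tt N1759 F3913) (tt N3290 D3290) (tt N1758 (iv D2416)))
theorem Q2418 : ∀ i, i < 2418 → P i := stepQ 2417 Q2417 (allL N2417 (tt N3291 D3291) (tt N1760 (iv D2417)) (tt N2576 (iv F4160)) (tt N3292 D3292) (tt N3287 (iv F5336)) (tt N3293 D3293))
theorem Q2419 : ∀ i, i < 2419 → P i := stepQ 2418 Q2418 (allL N2418 (tt N2960 (iv F4818)) (tt N3292 (iv F5339)) (tt N3000 (iv F4881)) (tt N1760 (iv D2418)) (tt N3294 D3294) (tt N2998 F4877))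
theorem Q2420 : ∀ i, i < 2420 → P i := stepQ 2419 Q2419 (allL N2419 (tt N2961 (iv F4821)) (tt N3293 (iv F5340)) (tt N1761 F3914) (tt N2998 (iv F4876)) (tt N3295 D3295) (tt N1760 (iv D2419)))
theorem Q2421 : ∀ i, i < 2421 → P i := stepQ 2420 Q2420 (allL N2420 (tt N2962 (iv F4824)) (tt N2579 (iv F4162)) (tt N3295 (iv F5341)) (tt N2962 (iv F4826)) (tt N1761 (iv D2420)) (tt N3290 (iv F5338)))
theorem Q2422 : ∀ i, i < 2422 → P i := stepQ 2421 Q2421 (allL N2421 (tt N2998 (iv F4875)) (tt N3296 D3296) (tt N1762 (iv D2421)) (tt N2961 (iv F4823)) (tt N3297 D3297) (tt N2960 F4820))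
theorem Q2423 : ∀ i, i < 2423 → P i := stepQ 2422 Q2422 (allL N2422 (tt N2999 (iv F4878)) (tt N3047 (iv F4980)) (tt N3297 (iv F5342)) (tt N1765 F3915) (tt N1762 (iv D2422)) (tt N3298 D3298))
theorem Q2424 : ∀ i, i < 2424 → P i := stepQ 2423 Q2423 (allL N2423 (tt N3000 (iv F4880)) (tt N3050 (iv F4986)) (tt N2960 (iv F4819)) (tt N1763 F3916) (tt N3299 D3299) (tt N1762 (iv D2423)))
theorem Q2425 : ∀ i, i < 2425 → P i := stepQ 2424 Q2424 (allL N2424 (tt N2350 F3917) (tt N2757 (iv F4442)) (tt N1765 F3918) (tt N3300 D3300) (tt N1764 (iv D2424)) (tt N3301 D3301))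
theorem Q2426 : ∀ i, i < 2426 → P i := stepQ 2425 Q2425 (allL N2425 (tt N3286 (iv F5334)) (tt N3048 (iv F4983)) (tt N3301 (iv F5347)) (tt N3298 (iv F5343)) (tt N3201 (iv F5224)) (tt N1765 (iv D2425)))
theorem Q2427 : ∀ i, i < 2427 → P i := stepQ 2426 Q2426 (allL N2426 (tt N1768 F3919) (tt N3002 (iv F4887)) (tt N3302 D3302) (tt N1767 (iv D2426)) (tt N3002 (iv F4888)) (tt N3015 (iv F4916)))
theorem Q2428 : ∀ i, i < 2428 → P i := stepQ 2427 Q2427 (allL N2427 (tt N1769 F3920) (tt N3003 (iv F4890)) (tt N1784 F3921) (tt N3015 (iv F4915)) (tt N3108 (iv F5081)) (tt N1767 (iv D2427)))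
theorem Q2429 : ∀ i, i < 2429 → P i := stepQ 2428 Q2428 (allL N2428 (tt N3302 (iv F5349)) (tt N3014 (iv F4913)) (tt N1768 (iv D2428)) (tt N3303 D3303) (tt N3004 (iv F4891)) (tt N3011 F4910))
theorem Q2430 : ∀ i, i < 2430 → P i := stepQ 2429 Q2429 (allL N2429 (tt N3304 D3304) (tt N1772 (iv D2429)) (tt N2567 (iv F4144)) (tt N3305 D3305) (tt N2563 (iv F4136)) (tt N3306 D3306))
theorem Q2431 : ∀ i, i < 2431 → P i := stepQ 2430 Q2430 (allL N2430 (tt N1775 F3922) (tt N3305 (iv F5351)) (tt N2914 (iv F4721)) (tt N1772 (iv D2430)) (tt N3307 D3307) (tt N2912 F4718))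
theorem Q2432 : ∀ i, i < 2432 → P i := stepQ 2431 Q2431 (allL N2431 (tt N1776 F3923) (tt N3306 (iv F5352)) (tt N1773 F3924) (tt N2912 (iv F4717)) (tt N3308 D3308) (tt N1772 (iv D2431)))
theorem Q2433 : ∀ i, i < 2433 → P i := stepQ 2432 Q2432 (allL N2432 (tt N1777 F3925) (tt N2570 (iv F4150)) (tt N3308 (iv F5355)) (tt N2903 (iv F4698)) (tt N1773 (iv D2432)) (tt N2566 (iv F4143)))
theorem Q2434 : ∀ i, i < 2434 → P i := stepQ 2433 Q2433 (allL N2433 (tt N1774 (iv D2433)) (tt N3304 (iv F5350)) (tt N1778 F3926) (tt N3309 D3309) (tt N2926 (iv F4741)) (tt N3310 D3310))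
theorem Q2435 : ∀ i, i < 2435 → P i := stepQ 2434 Q2434 (allL N2434 (tt N3309 (iv F5356)) (tt N1775 F3927) (tt N3311 D3311) (tt N1774 (iv D2434)) (tt N3312 D3312) (tt N3313 D3313))
theorem Q2436 : ∀ i, i < 2436 → P i := stepQ 2435 Q2435 (allL N2435 (tt N3310 (iv F5357)) (tt N1776 F3928) (tt N1780 F3929) (tt N3313 (iv F5361)) (tt N3314 D3314) (tt N1774 (iv D2435)))
theorem Q2437 : ∀ i, i < 2437 → P i := stepQ 2436 Q2436 (allL N2436 (tt N2914 (iv F4720)) (tt N3315 D3315) (tt N1775 (iv D2436)) (tt N2902 (iv F4695)) (tt N3316 D3316) (tt N2901 F4692))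
theorem Q2438 : ∀ i, i < 2438 → P i := stepQ 2437 Q2437 (allL N2437 (tt N3307 (iv F5353)) (tt N3312 (iv F5359)) (tt N3316 (iv F5364)) (tt N2928 (iv F4743)) (tt N1775 (iv D2437)) (tt N3317 D3317))
theorem Q2439 : ∀ i, i < 2439 → P i := stepQ 2438 Q2438 (allL N2438 (tt N2912 (iv F4716)) (tt N3313 (iv F5360)) (tt N2901 (iv F4691)) (tt N1776 F3930) (tt N3318 D3318) (tt N1775 (iv D2438)))
theorem Q2440 : ∀ i, i < 2440 → P i := stepQ 2439 Q2439 (allL N2439 (tt N3308 (iv F5354)) (tt N3314 (iv F5362)) (tt N1777 F3931) (tt N3319 D3319) (tt N1776 (iv D2439)) (tt N2924 (iv F4737)))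
theorem Q2441 : ∀ i, i < 2441 → P i := stepQ 2440 Q2440 (allL N2440 (tt N1779 F3932) (tt N3020 (iv F4930)) (tt N3320 D3320) (tt N1778 (iv D2440)) (tt N3321 D3321) (tt N3044 F4973))
theorem Q2442 : ∀ i, i < 2442 → P i := stepQ 2441 Q2441 (allL N2441 (tt N1780 F3933) (tt N3019 (iv F4926)) (tt N3310 (iv F5358)) (tt N3044 F4972) (tt N3322 D3322) (tt N1778 (iv D2441)))
theorem Q2443 : ∀ i, i < 2443 → P i := stepQ 2442 Q2442 (allL N2442 (tt N3320 (iv F5365)) (tt N3043 (iv F4968)) (tt N1779 (iv D2442)) (tt N3323 D3323) (tt N3324 D3324) (tt N3040 F4967))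
theorem Q2444 : ∀ i, i < 2444 → P i := stepQ 2443 Q2443 (allL N2443 (tt N3321 (iv F5366)) (tt N1781 F3934) (tt N3324 (iv F5368)) (tt N2938 (iv F4769)) (tt N1779 (iv D2443)) (tt N2938 (iv F4770)))
theorem Q2445 : ∀ i, i < 2445 → P i := stepQ 2444 Q2444 (allL N2444 (tt N3322 (iv F5367)) (tt N1782 F3935) (tt N3314 (iv F5363)) (tt N2934 (iv F4757)) (tt N1780 (iv D2444)) (tt N2934 (iv F4759)))
theorem Q2446 : ∀ i, i < 2446 → P i := stepQ 2445 Q2445 (allL N2445 (tt N1785 F3936) (tt N3325 D3325) (tt N1783 (iv D2445)) (tt N3326 D3326) (tt N2942 (iv F4780)) (tt N3327 D3327))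
theorem Q2447 : ∀ i, i < 2447 → P i := stepQ 2446 Q2446 (allL N2446 (tt N1786 F3937) (tt N3037 (iv F4961)) (tt N3327 (iv F5371)) (tt N1784 F3938) (tt N3328 D3328) (tt N1783 (iv D2446)))
theorem Q2448 : ∀ i, i < 2448 → P i := stepQ 2447 Q2447 (allL N2447 (tt N3329 D3329) (tt N1785 (iv D2447)) (tt N1787 F3939) (tt N3330 D3330) (tt N2943 (iv F4782)) (tt N3021 (iv F4933)))
theorem Q2449 : ∀ i, i < 2449 → P i := stepQ 2448 Q2448 (allL N2448 (tt N3326 (iv F5369)) (tt N3330 (iv F5374)) (tt N3331 D3331) (tt N1785 (iv D2448)) (tt N3332 D3332) (tt N3333 D3333))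
theorem Q2450 : ∀ i, i < 2450 → P i := stepQ 2449 Q2449 (allL N2449 (tt N3327 (iv F5370)) (tt N3021 (iv F4932)) (tt N1786 F3940) (tt N3333 (iv F5375)) (tt N3334 D3334) (tt N1785 (iv D2449)))
theorem Q2451 : ∀ i, i < 2451 → P i := stepQ 2450 Q2450 (allL N2450 (tt N3328 (iv F5372)) (tt N1788 F3941) (tt N3334 (iv F5376)) (tt N3090 (iv F5046)) (tt N1786 (iv D2450)) (tt N2941 (iv F4778)))
theorem Q2452 : ∀ i, i < 2452 → P i := stepQ 2451 Q2451 (allL N2451 (tt N1787 (iv D2451)) (tt N3044 (iv F4971)) (tt N3329 (iv F5373)) (tt N3019 (iv F4927)) (tt N2945 (iv F4786)) (tt N3020 (iv F4931)))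
theorem Q2453 : ∀ i, i < 2453 → P i := stepQ 2452 Q2452 (allL N2452 (tt N1791 F3942) (tt N1795 F3943) (tt N2452 F3944) (tt N3335 D3335) (tt N1789 (iv D2452)) (tt N3336 D3336))
theorem Q2454 : ∀ i, i < 2454 → P i := stepQ 2453 Q2453 (allL N2453 (tt N1860 F3945) (tt N1792 F3946) (tt N1860 F3947) (tt N3337 D3337) (tt N1790 (iv D2453)) (tt N3338 D3338))
theorem Q2455 : ∀ i, i < 2455 → P i := stepQ 2454 Q2454 (allL N2454 (tt N3335 (iv F5377)) (tt N1793 F3948) (tt N3339 D3339) (tt N1791 (iv D2454)) (tt N3337 (iv F5386)) (tt N3340 D3340))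
theorem Q2456 : ∀ i, i < 2456 → P i := stepQ 2455 Q2455 (allL N2455 (tt N3336 (iv F5380)) (tt N1794 F3949) (tt N2455 F3950) (tt N3340 (iv F5392)) (tt N3336 (iv F5383)) (tt N1791 (iv D2455)))
theorem Q2457 : ∀ i, i < 2457 → P i := stepQ 2456 Q2456 (allL N2456 (tt N1804 F3951) (tt N3337 (iv F5385)) (tt N3341 D3341) (tt N1792 (iv D2456)) (tt N1793 F3952) (tt N3342 D3342))
theorem Q2458 : ∀ i, i < 2458 → P i := stepQ 2457 Q2457 (allL N2457 (tt N1805 F3953) (tt N3338 (iv F5388)) (tt N1857 F3954) (tt N3342 (iv F5396)) (tt N1862 F3955) (tt N1792 (iv D2457)))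
theorem Q2459 : ∀ i, i < 2459 → P i := stepQ 2458 Q2458 (allL N2458 (tt N1806 F3956) (tt N3343 D3343) (tt N1793 (iv D2458)) (tt N1832 F3957) (tt N3341 (iv F5394)) (tt N1831 (iv F3958)))
theorem Q2460 : ∀ i, i < 2460 → P i := stepQ 2459 Q2459 (allL N2459 (tt N1807 F3959) (tt N3340 (iv F5391)) (tt N1831 F3960) (tt N1794 F3961) (tt N3344 D3344) (tt N1793 (iv D2459)))
theorem Q2461 : ∀ i, i < 2461 → P i := stepQ 2460 Q2460 (allL N2460 (tt N1801 F3962) (tt N3336 (iv F5381)) (tt N1796 F3963) (tt N3345 D3345) (tt N1794 (iv D2460)) (tt N1795 F3964))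
theorem Q2462 : ∀ i, i < 2462 → P i := stepQ 2461 Q2461 (allL N2461 (tt N1800 F3965) (tt N3335 (iv F5378)) (tt N3346 D3346) (tt N1795 (iv D2461)) (tt N1861 F3966) (tt N3345 (iv F5402)))
theorem Q2463 : ∀ i, i < 2463 → P i := stepQ 2462 Q2462 (allL N2462 (tt N1808 F3967) (tt N2462 F3968) (tt N3347 D3347) (tt N1796 (iv D2462)) (tt N1820 F3969) (tt N1797 F3970))
theorem Q2464 : ∀ i, i < 2464 → P i := stepQ 2463 Q2463 (allL N2463 (tt N1809 F3971) (tt N3348 D3348) (tt N1797 (iv D2463)) (tt N3349 D3349) (tt N1798 F3972) (tt N3347 (iv F5407)))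
theorem Q2465 : ∀ i, i < 2465 → P i := stepQ 2464 Q2464 (allL N2464 (tt N3350 D3350) (tt N1798 (iv D2464)) (tt N2464 F3973) (tt N1894 F3974) (tt N3348 (iv F5409)) (tt N1822 F3975))
theorem Q2466 : ∀ i, i < 2466 → P i := stepQ 2465 Q2465 (allL N2465 (tt N1861 F3976) (tt N1804 F3977) (tt N3351 D3351) (tt N1799 (iv D2465)) (tt N1800 F3978) (tt N3352 D3352))
theorem Q2467 : ∀ i, i < 2467 → P i := stepQ 2466 Q2466 (allL N2466 (tt N1862 F3979) (tt N1805 F3980) (tt N1849 F3981) (tt N3352 (iv F5420)) (tt N1805 F3982) (tt N1799 (iv D2466)))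
theorem Q2468 : ∀ i, i < 2468 → P i := stepQ 2467 Q2467 (allL N2467 (tt N3346 (iv F5403)) (tt N3353 D3353) (tt N1800 (iv D2467)) (tt N3354 D3354) (tt N3351 (iv F5417)) (tt N3355 D3355))
theorem Q2469 : ∀ i, i < 2469 → P i := stepQ 2468 Q2468 (allL N2468 (tt N3345 (iv F5401)) (tt N1807 F3983) (tt N3355 (iv F5422)) (tt N1801 F3984) (tt N3356 D3356) (tt N1800 (iv D2468)))
theorem Q2470 : ∀ i, i < 2470 → P i := stepQ 2469 Q2469 (allL N2469 (tt N1845 F3985) (tt N1803 F3986) (tt N1845 F3987) (tt N3357 D3357) (tt N1802 (iv D2469)) (tt N3358 D3358))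
theorem Q2471 : ∀ i, i < 2471 → P i := stepQ 2470 Q2470 (allL N2470 (tt N1856 F3988) (tt N3357 (iv F5426)) (tt N3359 D3359) (tt N1803 (iv D2470)) (tt N1853 F3989) (tt N3360 D3360))
theorem Q2472 : ∀ i, i < 2472 → P i := stepQ 2471 Q2471 (allL N2471 (tt N1857 F3990) (tt N3358 (iv F5429)) (tt N1805 F3991) (tt N3360 (iv F5435)) (tt N1849 F3992) (tt N1803 (iv D2471)))
theorem Q2473 : ∀ i, i < 2473 → P i := stepQ 2472 Q2472 (allL N2472 (tt N3341 (iv F5393)) (tt N3361 D3361) (tt N1804 (iv D2472)) (tt N3362 D3362) (tt N1806 F3993) (tt N3363 D3363))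
theorem Q2474 : ∀ i, i < 2474 → P i := stepQ 2473 Q2473 (allL N2473 (tt N3342 (iv F5395)) (tt N3352 (iv F5419)) (tt N3363 (iv F5437)) (tt N1805 F3994) (tt N3364 D3364) (tt N1804 (iv D2473)))
theorem Q2475 : ∀ i, i < 2475 → P i := stepQ 2474 Q2474 (allL N2474 (tt N3365 D3365) (tt N1806 (iv D2474)) (tt N3353 (iv F5421)) (tt N3366 D3366) (tt N3361 (iv F5436)) (tt N3367 D3367))
theorem Q2476 : ∀ i, i < 2476 → P i := stepQ 2475 Q2475 (allL N2475 (tt N1832 F3995) (tt N3366 (iv F5439)) (tt N1817 F3996) (tt N1806 (iv D2475)) (tt N3368 D3368) (tt N1816 F3997))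
theorem Q2477 : ∀ i, i < 2477 → P i := stepQ 2476 Q2476 (allL N2476 (tt N1831 F3998) (tt N3367 (iv F5441)) (tt N1807 F3999) (tt N1816 F4000) (tt N3369 D3369) (tt N1806 (iv D2476)))
theorem Q2478 : ∀ i, i < 2478 → P i := stepQ 2477 Q2477 (allL N2477 (tt N3344 (iv F5399)) (tt N3356 (iv F5423)) (tt N3369 (iv F5447)) (tt N3356 (iv F5424)) (tt N1807 (iv D2477)) (tt N3364 (iv F5438)))
theorem Q2479 : ∀ i, i < 2479 → P i := stepQ 2478 Q2478 (allL N2478 (tt N3347 (iv F5405)) (tt N2526 (iv F4078)) (tt N1808 (iv D2478)) (tt N3370 D3370) (tt N1834 F4001) (tt N1809 F4002))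
theorem Q2480 : ∀ i, i < 2480 → P i := stepQ 2479 Q2479 (allL N2479 (tt N3371 D3371) (tt N1809 (iv D2479)) (tt N1812 F4003) (tt N3372 D3372) (tt N1810 F4004) (tt N2526 (iv F4080)))
theorem Q2481 : ∀ i, i < 2481 → P i := stepQ 2480 Q2480 (allL N2480 (tt N3349 (iv F5410)) (tt N3372 (iv F5452)) (tt N3373 D3373) (tt N1809 (iv D2480)) (tt N3374 D3374) (tt N3370 (iv F5449)))
theorem Q2482 : ∀ i, i < 2482 → P i := stepQ 2481 Q2481 (allL N2481 (tt N1810 (iv D2481)) (tt N3350 (iv F5412)) (tt N1813 F4005) (tt N3375 D3375) (tt N3371 (iv F5451)) (tt N1837 F4006))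
theorem Q2483 : ∀ i, i < 2483 → P i := stepQ 2482 Q2482 (allL N2482 (tt N3375 (iv F5455)) (tt N1811 F4007) (tt N3376 D3376) (tt N1810 (iv D2482)) (tt N3377 D3377) (tt N1838 F4008))
theorem Q2484 : ∀ i, i < 2484 → P i := stepQ 2483 Q2483 (allL N2483 (tt N1895 F4009) (tt N3377 (iv F5460)) (tt N1879 F4010) (tt N3374 (iv F5454)) (tt N1811 (iv D2483)) (tt N3378 D3378))
theorem Q2485 : ∀ i, i < 2485 → P i := stepQ 2484 Q2484 (allL N2484 (tt N1812 (iv D2484)) (tt N2484 F4011) (tt N3371 (iv F5450)) (tt N2525 (iv F4076)) (tt N1813 F4012) (tt N2524 F4073))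
theorem Q2486 : ∀ i, i < 2486 → P i := stepQ 2485 Q2485 (allL N2485 (tt N2415 F4013) (tt N3379 D3379) (tt N1814 (iv D2485)) (tt N3380 D3380) (tt N2158 F4014) (tt N3381 D3381))
theorem Q2487 : ∀ i, i < 2487 → P i := stepQ 2486 Q2486 (allL N2486 (tt N2416 F4015) (tt N1817 F4016) (tt N3381 (iv F5468)) (tt N1815 F4017) (tt N3382 D3382) (tt N1814 (iv D2486)))
theorem Q2488 : ∀ i, i < 2488 → P i := stepQ 2487 Q2487 (allL N2487 (tt N3383 D3383) (tt N1816 (iv D2487)) (tt N3379 (iv F5464)) (tt N3367 (iv F5442)) (tt N2160 F4018) (tt N3366 F5440))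
theorem Q2489 : ∀ i, i < 2489 → P i := stepQ 2488 Q2488 (allL N2488 (tt N1833 F4019) (tt N3382 (iv F5470)) (tt N3368 (iv F5444)) (tt N3384 D3384) (tt N1817 (iv D2488)) (tt N2163 F4020))
theorem Q2490 : ∀ i, i < 2490 → P i := stepQ 2489 Q2489 (allL N2489 (tt N1827 F4021) (tt N2416 F4022) (tt N3385 D3385) (tt N1818 (iv D2489)) (tt N3384 (iv F5477)) (tt N1819 F4023))
theorem Q2491 : ∀ i, i < 2491 → P i := stepQ 2490 Q2490 (allL N2490 (tt N1826 F4024) (tt N3386 D3386) (tt N1819 (iv D2490)) (tt N3387 D3387) (tt N1880 F4025) (tt N3385 (iv F5480)))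
theorem Q2492 : ∀ i, i < 2492 → P i := stepQ 2491 Q2491 (allL N2491 (tt N1834 F4026) (tt N3388 D3388) (tt N1820 (iv D2491)) (tt N3389 D3389) (tt N3347 (iv F5406)) (tt N1821 F4027))
theorem Q2493 : ∀ i, i < 2493 → P i := stepQ 2492 Q2492 (allL N2492 (tt N3390 D3390) (tt N1821 (iv D2492)) (tt N2492 F4028) (tt N3391 D3391) (tt N1822 F4029) (tt N3388 (iv F5488)))
theorem Q2494 : ∀ i, i < 2494 → P i := stepQ 2493 Q2493 (allL N2493 (tt N1836 F4030) (tt N3391 (iv F5495)) (tt N3392 D3392) (tt N1821 (iv D2493)) (tt N3393 D3393) (tt N3389 (iv F5491)))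
theorem Q2495 : ∀ i, i < 2495 → P i := stepQ 2494 Q2494 (allL N2494 (tt N1822 (iv D2494)) (tt N1837 F4031) (tt N2494 F4032) (tt N3394 D3394) (tt N3390 (iv F5494)) (tt N3350 (iv F5415)))
theorem Q2496 : ∀ i, i < 2496 → P i := stepQ 2495 Q2495 (allL N2495 (tt N3394 (iv F5501)) (tt N1823 F4033) (tt N2895 (iv F4678)) (tt N1822 (iv D2495)) (tt N3395 D3395) (tt N1894 F4034))
theorem Q2497 : ∀ i, i < 2497 → P i := stepQ 2496 Q2496 (allL N2496 (tt N1840 F4035) (tt N3395 (iv F5504)) (tt N1870 F4036) (tt N3393 (iv F5500)) (tt N1823 (iv D2496)) (tt N3396 D3396))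
theorem Q2498 : ∀ i, i < 2498 → P i := stepQ 2497 Q2497 (allL N2497 (tt N1880 F4037) (tt N3397 D3397) (tt N1824 (iv D2497)) (tt N3398 D3398) (tt N1826 F4038) (tt N3399 D3399))
theorem Q2499 : ∀ i, i < 2499 → P i := stepQ 2498 Q2498 (allL N2498 (tt N1881 F4039) (tt N1829 F4040) (tt N3399 (iv F5514)) (tt N1825 F4041) (tt N3400 D3400) (tt N1824 (iv D2498)))
theorem Q2500 : ∀ i, i < 2500 → P i := stepQ 2499 Q2499 (allL N2499 (tt N3401 D3401) (tt N1826 (iv D2499)) (tt N1830 F4042) (tt N3402 D3402) (tt N3397 (iv F5509)) (tt N3403 D3403))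
theorem Q2501 : ∀ i, i < 2501 → P i := stepQ 2500 Q2500 (allL N2500 (tt N3387 (iv F5484)) (tt N3402 (iv F5521)) (tt N3389 (iv F5490)) (tt N1826 (iv D2500)) (tt N3404 D3404) (tt N3392 (iv F5498)))
theorem Q2502 : ∀ i, i < 2502 → P i := stepQ 2501 Q2501 (allL N2501 (tt N3385 (iv F5479)) (tt N3403 (iv F5522)) (tt N1827 F4043) (tt N3392 (iv F5497)) (tt N3405 D3405) (tt N1826 (iv D2501)))
theorem Q2503 : ∀ i, i < 2503 → P i := stepQ 2502 Q2502 (allL N2502 (tt N3384 (iv F5475)) (tt N1833 F4044) (tt N3405 (iv F5524)) (tt N1833 F4045) (tt N1827 (iv D2502)) (tt N3400 (iv F5519)))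
theorem Q2504 : ∀ i, i < 2504 → P i := stepQ 2503 Q2503 (allL N2503 (tt N3406 D3406) (tt N1828 (iv D2503)) (tt N3397 (iv F5508)) (tt N3407 D3407) (tt N1830 F4046) (tt N3408 D3408))
theorem Q2505 : ∀ i, i < 2505 → P i := stepQ 2504 Q2504 (allL N2504 (tt N2161 F4047) (tt N3407 (iv F5527)) (tt N2169 F4048) (tt N1828 (iv D2504)) (tt N3409 D3409) (tt N2167 (iv F4049)))
theorem Q2506 : ∀ i, i < 2506 → P i := stepQ 2505 Q2505 (allL N2505 (tt N2162 F4050) (tt N3408 (iv F5529)) (tt N1829 F4051) (tt N2167 F4052) (tt N3410 D3410) (tt N1828 (iv D2505)))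
theorem Q2507 : ∀ i, i < 2507 → P i := stepQ 2506 Q2506 (allL N2506 (tt N2163 F4053) (tt N3400 (iv F5517)) (tt N3410 (iv F5535)) (tt N3400 (iv F5518)) (tt N1829 (iv D2506)) (tt N1833 F4054))
theorem Q2508 : ∀ i, i < 2508 → P i := stepQ 2507 Q2507 (allL N2507 (tt N1830 (iv D2507)) (tt N3383 (iv F5473)) (tt N3401 (iv F5520)) (tt N3411 D3411) (tt N3406 (iv F5526)) (tt N3412 D3412))
theorem Q2509 : ∀ i, i < 2509 → P i := stepQ 2508 Q2508 (allL N2508 (tt N3411 (iv F5537)) (tt N1831 F4055) (tt N3413 D3413) (tt N1830 (iv D2508)) (tt N3414 D3414) (tt N3343 (iv F5398)))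
theorem Q2510 : ∀ i, i < 2510 → P i := stepQ 2509 Q2509 (allL N2509 (tt N3412 (iv F5538)) (tt N1832 F4056) (tt N3403 (iv F5523)) (tt N3343 (iv F5397)) (tt N3415 D3415) (tt N1830 (iv D2509)))
theorem Q2511 : ∀ i, i < 2511 → P i := stepQ 2510 Q2510 (allL N2510 (tt N3369 (iv F5446)) (tt N3414 (iv F5539)) (tt N3344 (iv F5400)) (tt N3409 (iv F5533)) (tt N1831 (iv D2510)) (tt N3416 D3416))
theorem Q2512 : ∀ i, i < 2512 → P i := stepQ 2511 Q2511 (allL N2511 (tt N3368 (iv F5443)) (tt N3415 (iv F5540)) (tt N1833 F4057) (tt N3417 D3417) (tt N1832 (iv D2511)) (tt N3410 (iv F5536)))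
theorem Q2513 : ∀ i, i < 2513 → P i := stepQ 2512 Q2512 (allL N2512 (tt N3418 D3418) (tt N1834 (iv D2512)) (tt N1843 F4058) (tt N3419 D3419) (tt N2526 (iv F4079)) (tt N1835 F4059))
theorem Q2514 : ∀ i, i < 2514 → P i := stepQ 2513 Q2513 (allL N2513 (tt N3389 (iv F5489)) (tt N3419 (iv F5543)) (tt N3387 (iv F5486)) (tt N1834 (iv D2513)) (tt N3420 D3420) (tt N1836 F4060))
theorem Q2515 : ∀ i, i < 2515 → P i := stepQ 2514 Q2514 (allL N2514 (tt N1835 (iv D2514)) (tt N3390 (iv F5492)) (tt N1841 F4061) (tt N3421 D3421) (tt N1837 F4062) (tt N3418 (iv F5542)))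
theorem Q2516 : ∀ i, i < 2516 → P i := stepQ 2515 Q2515 (allL N2515 (tt N3421 (iv F5545)) (tt N1836 F4063) (tt N3422 D3422) (tt N1835 (iv D2515)) (tt N3423 D3423) (tt N3419 (iv F5544)))
theorem Q2517 : ∀ i, i < 2517 → P i := stepQ 2516 Q2516 (allL N2516 (tt N3392 (iv F5496)) (tt N3424 D3424) (tt N1836 (iv D2516)) (tt N3385 (iv F5481)) (tt N3425 D3425) (tt N3387 (iv F5485)))
theorem Q2518 : ∀ i, i < 2518 → P i := stepQ 2517 Q2517 (allL N2517 (tt N3393 (iv F5499)) (tt N3423 (iv F5546)) (tt N3425 (iv F5548)) (tt N1840 F4064) (tt N1836 (iv D2517)) (tt N3426 D3426))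
theorem Q2519 : ∀ i, i < 2519 → P i := stepQ 2518 Q2518 (allL N2518 (tt N1838 F4065) (tt N3394 (iv F5502)) (tt N3427 D3427) (tt N1837 (iv D2518)) (tt N3428 D3428) (tt N3375 (iv F5457)))
theorem Q2520 : ∀ i, i < 2520 → P i := stepQ 2519 Q2519 (allL N2519 (tt N3427 (iv F5550)) (tt N3429 D3429) (tt N1838 (iv D2519)) (tt N3427 (iv F5551)) (tt N3430 D3430) (tt N3376 (iv F5459)))
theorem Q2521 : ∀ i, i < 2521 → P i := stepQ 2520 Q2520 (allL N2520 (tt N3428 (iv F5552)) (tt N1840 F4066) (tt N3430 (iv F5555)) (tt N3423 (iv F5547)) (tt N1838 (iv D2520)) (tt N3431 D3431))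
theorem Q2522 : ∀ i, i < 2522 → P i := stepQ 2521 Q2521 (allL N2521 (tt N2891 (iv F4667)) (tt N1839 (iv D2521)) (tt N3429 (iv F5553)) (tt N1855 F4067) (tt N3432 D3432) (tt N1878 F4068))
theorem Q2523 : ∀ i, i < 2523 → P i := stepQ 2522 Q2522 (allL N2522 (tt N1870 F4069) (tt N3432 (iv F5557)) (tt N1840 F4070) (tt N3433 D3433) (tt N1839 (iv D2522)) (tt N3434 D3434))
theorem Q2524 : ∀ i, i < 2524 → P i := stepQ 2523 Q2523 (allL N2523 (tt N3396 (iv F5505)) (tt N3431 (iv F5556)) (tt N3434 (iv F5561)) (tt N3426 (iv F5549)) (tt N3378 (iv F5463)) (tt N1840 (iv D2523)))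
theorem Q2525 : ∀ i, i < 2525 → P i := stepQ 2524 Q2524 (allL N2524 (tt N1842 F4071) (tt N2524 F4072) (tt N3435 D3435) (tt N1841 (iv D2524)) (tt N2525 (iv F4077)) (tt N2484 (iv F4073)))
theorem Q2526 : ∀ i, i < 2526 → P i := stepQ 2525 Q2525 (allL N2525 (tt N1843 F4074) (tt N2525 F4075) (tt N3418 (iv F5541)) (tt N2484 F4076) (tt N2524 F4077) (tt N1841 (iv D2525)))
theorem Q2527 : ∀ i, i < 2527 → P i := stepQ 2526 Q2526 (allL N2526 (tt N3435 (iv F5563)) (tt N2478 F4078) (tt N1842 (iv D2526)) (tt N3436 D3436) (tt N2512 F4079) (tt N2479 F4080))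
theorem Q2528 : ∀ i, i < 2528 → P i := stepQ 2527 Q2527 (allL N2527 (tt N1846 F4081) (tt N1853 F4082) (tt N3437 D3437) (tt N1844 (iv D2527)) (tt N3357 (iv F5427)) (tt N3438 D3438))
theorem Q2529 : ∀ i, i < 2529 → P i := stepQ 2528 Q2528 (allL N2528 (tt N1847 F4083) (tt N1852 F4084) (tt N2021 F4085) (tt N3438 (iv F5571)) (tt N1847 F4086) (tt N1844 (iv D2528)))
theorem Q2530 : ∀ i, i < 2530 → P i := stepQ 2529 Q2529 (allL N2529 (tt N3357 (iv F5425)) (tt N1848 F4087) (tt N3439 D3439) (tt N1845 (iv D2529)) (tt N1846 F4088) (tt N3440 D3440))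
theorem Q2531 : ∀ i, i < 2531 → P i := stepQ 2530 Q2530 (allL N2530 (tt N3358 (iv F5428)) (tt N1849 F4089) (tt N3358 (iv F5430)) (tt N3440 (iv F5574)) (tt N3358 (iv F5431)) (tt N1845 (iv D2530)))
theorem Q2532 : ∀ i, i < 2532 → P i := stepQ 2531 Q2531 (allL N2531 (tt N3437 (iv F5568)) (tt N3441 D3441) (tt N1846 (iv D2531)) (tt N3442 D3442) (tt N3439 (iv F5572)) (tt N3443 D3443))
theorem Q2533 : ∀ i, i < 2533 → P i := stepQ 2532 Q2532 (allL N2532 (tt N3438 (iv F5569)) (tt N1851 F4090) (tt N3443 (iv F5578)) (tt N1847 F4091) (tt N3444 D3444) (tt N1846 (iv D2532)))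
theorem Q2534 : ∀ i, i < 2534 → P i := stepQ 2533 Q2533 (allL N2533 (tt N1863 F4092) (tt N3445 D3445) (tt N1848 (iv D2533)) (tt N3446 D3446) (tt N1850 F4093) (tt N3447 D3447))
theorem Q2535 : ∀ i, i < 2535 → P i := stepQ 2534 Q2534 (allL N2534 (tt N1864 F4094) (tt N3440 (iv F5573)) (tt N3447 (iv F5584)) (tt N1849 F4095) (tt N3448 D3448) (tt N1848 (iv D2534)))
theorem Q2536 : ∀ i, i < 2536 → P i := stepQ 2535 Q2535 (allL N2535 (tt N3449 D3449) (tt N1850 (iv D2535)) (tt N3441 (iv F5575)) (tt N1888 F4096) (tt N3445 (iv F5580)) (tt N1887 F4097))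
theorem Q2537 : ∀ i, i < 2537 → P i := stepQ 2536 Q2536 (allL N2536 (tt N1868 F4098) (tt N3444 (iv F5579)) (tt N1889 F4099) (tt N3450 D3450) (tt N1851 (iv D2536)) (tt N3448 (iv F5588)))
theorem Q2538 : ∀ i, i < 2538 → P i := stepQ 2537 Q2537 (allL N2537 (tt N1859 F4100) (tt N3438 (iv F5570)) (tt N3451 D3451) (tt N1852 (iv D2537)) (tt N3450 (iv F5593)) (tt N1853 F4101))
theorem Q2539 : ∀ i, i < 2539 → P i := stepQ 2538 Q2538 (allL N2538 (tt N1858 F4102) (tt N3452 D3452) (tt N1853 (iv D2538)) (tt N2245 F4103) (tt N3359 (iv F5433)) (tt N3451 (iv F5596)))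
theorem Q2540 : ∀ i, i < 2540 → P i := stepQ 2539 Q2539 (allL N2539 (tt N2892 (iv F4670)) (tt N1854 (iv D2539)) (tt N2032 F4104) (tt N3453 D3453) (tt N1855 F4105) (tt N2232 F4106))
theorem Q2541 : ∀ i, i < 2541 → P i := stepQ 2540 Q2540 (allL N2540 (tt N1869 F4107) (tt N3453 (iv F5598)) (tt N3454 D3454) (tt N1854 (iv D2540)) (tt N3433 (iv F5559)) (tt N2234 F4108))
theorem Q2542 : ∀ i, i < 2542 → P i := stepQ 2541 Q2541 (allL N2541 (tt N3359 (iv F5432)) (tt N3455 D3455) (tt N1856 (iv D2541)) (tt N3456 D3456) (tt N1858 F4109) (tt N3457 D3457))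
theorem Q2543 : ∀ i, i < 2543 → P i := stepQ 2542 Q2542 (allL N2542 (tt N3360 (iv F5434)) (tt N1864 F4110) (tt N3457 (iv F5605)) (tt N1857 F4111) (tt N3458 D3458) (tt N1856 (iv D2542)))
theorem Q2544 : ∀ i, i < 2544 → P i := stepQ 2543 Q2543 (allL N2543 (tt N3459 D3459) (tt N1858 (iv D2543)) (tt N1865 F4112) (tt N3460 D3460) (tt N3455 (iv F5604)) (tt N3461 D3461))
theorem Q2545 : ∀ i, i < 2545 → P i := stepQ 2544 Q2544 (allL N2544 (tt N2245 F4113) (tt N3460 (iv F5610)) (tt N2234 F4114) (tt N1858 (iv D2544)) (tt N3462 D3462) (tt N3454 (iv F5602)))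
theorem Q2546 : ∀ i, i < 2546 → P i := stepQ 2545 Q2545 (allL N2545 (tt N3451 (iv F5594)) (tt N3461 (iv F5611)) (tt N1859 F4115) (tt N3454 (iv F5601)) (tt N3463 D3463) (tt N1858 (iv D2545)))
theorem Q2547 : ∀ i, i < 2547 → P i := stepQ 2546 Q2546 (allL N2546 (tt N3450 (iv F5592)) (tt N1868 F4116) (tt N3463 (iv F5615)) (tt N1868 F4117) (tt N1859 (iv D2546)) (tt N3458 (iv F5608)))
theorem Q2548 : ∀ i, i < 2548 → P i := stepQ 2547 Q2547 (allL N2547 (tt N3337 (iv F5384)) (tt N1861 F4118) (tt N3464 D3464) (tt N1860 (iv D2547)) (tt N3335 (iv F5379)) (tt N3465 D3465))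
theorem Q2549 : ∀ i, i < 2549 → P i := stepQ 2548 Q2548 (allL N2548 (tt N3338 (iv F5387)) (tt N1862 F4119) (tt N3338 (iv F5389)) (tt N3465 (iv F5617)) (tt N3338 (iv F5390)) (tt N1860 (iv D2548)))
theorem Q2550 : ∀ i, i < 2550 → P i := stepQ 2549 Q2549 (allL N2549 (tt N3351 (iv F5416)) (tt N3466 D3466) (tt N1861 (iv D2549)) (tt N3467 D3467) (tt N3346 (iv F5404)) (tt N3468 D3468))
theorem Q2551 : ∀ i, i < 2551 → P i := stepQ 2550 Q2550 (allL N2550 (tt N3352 (iv F5418)) (tt N3465 (iv F5616)) (tt N3468 (iv F5618)) (tt N1862 F4120) (tt N3469 D3469) (tt N1861 (iv D2550)))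
theorem Q2552 : ∀ i, i < 2552 → P i := stepQ 2551 Q2551 (allL N2551 (tt N3470 D3470) (tt N1863 (iv D2551)) (tt N3455 (iv F5603)) (tt N3471 D3471) (tt N1865 F4121) (tt N3472 D3472))
theorem Q2553 : ∀ i, i < 2553 → P i := stepQ 2552 Q2552 (allL N2552 (tt N3446 (iv F5581)) (tt N3471 (iv F5620)) (tt N3473 D3473) (tt N1863 (iv D2552)) (tt N3474 D3474) (tt N3475 D3475))
theorem Q2554 : ∀ i, i < 2554 → P i := stepQ 2553 Q2553 (allL N2553 (tt N3447 (iv F5583)) (tt N3472 (iv F5621)) (tt N1864 F4122) (tt N3475 (iv F5624)) (tt N3476 D3476) (tt N1863 (iv D2553)))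
theorem Q2555 : ∀ i, i < 2555 → P i := stepQ 2554 Q2554 (allL N2554 (tt N3448 (iv F5586)) (tt N3458 (iv F5606)) (tt N3476 (iv F5626)) (tt N3458 (iv F5607)) (tt N1864 (iv D2554)) (tt N1868 F4123))
theorem Q2556 : ∀ i, i < 2556 → P i := stepQ 2555 Q2555 (allL N2555 (tt N1865 (iv D2555)) (tt N3449 (iv F5589)) (tt N3459 (iv F5609)) (tt N3477 D3477) (tt N3470 (iv F5619)) (tt N3478 D3478))
theorem Q2557 : ∀ i, i < 2557 → P i := stepQ 2556 Q2556 (allL N2556 (tt N3477 (iv F5628)) (tt N1866 F4124) (tt N3479 D3479) (tt N1865 (iv D2556)) (tt N3480 D3480) (tt N1875 (iv F4125)))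
theorem Q2558 : ∀ i, i < 2558 → P i := stepQ 2557 Q2557 (allL N2557 (tt N3478 (iv F5631)) (tt N1867 F4126) (tt N3461 (iv F5612)) (tt N1875 F4127) (tt N3481 D3481) (tt N1865 (iv D2557)))
theorem Q2559 : ∀ i, i < 2559 → P i := stepQ 2558 Q2558 (allL N2558 (tt N1890 F4128) (tt N3480 (iv F5636)) (tt N1876 F4129) (tt N3474 (iv F5623)) (tt N1866 (iv D2558)) (tt N3482 D3482))
theorem Q2560 : ∀ i, i < 2560 → P i := stepQ 2559 Q2559 (allL N2559 (tt N1889 F4130) (tt N3481 (iv F5637)) (tt N1868 F4131) (tt N3483 D3483) (tt N1867 (iv D2559)) (tt N3476 (iv F5627)))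
theorem Q2561 : ∀ i, i < 2561 → P i := stepQ 2560 Q2560 (allL N2560 (tt N3454 (iv F5600)) (tt N3484 D3484) (tt N1869 (iv D2560)) (tt N3451 (iv F5595)) (tt N3485 D3485) (tt N2245 F4132))
theorem Q2562 : ∀ i, i < 2562 → P i := stepQ 2561 Q2561 (allL N2561 (tt N3433 (iv F5558)) (tt N2897 (iv F4681)) (tt N3485 (iv F5644)) (tt N1870 F4133) (tt N1869 (iv D2561)) (tt N3486 D3486))
theorem Q2563 : ∀ i, i < 2563 → P i := stepQ 2562 Q2562 (allL N2562 (tt N3434 (iv F5560)) (tt N2898 (iv F4683)) (tt N3396 (iv F5506)) (tt N3486 (iv F5645)) (tt N1896 F4134) (tt N1870 (iv D2562)))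
theorem Q2564 : ∀ i, i < 2564 → P i := stepQ 2563 Q2563 (allL N2563 (tt N3487 D3487) (tt N1871 (iv D2563)) (tt N1875 F4135) (tt N3488 D3488) (tt N2429 F4136) (tt N3479 (iv F5635)))
theorem Q2565 : ∀ i, i < 2565 → P i := stepQ 2564 Q2564 (allL N2564 (tt N2132 F4137) (tt N3488 (iv F5650)) (tt N3489 D3489) (tt N1871 (iv D2564)) (tt N3490 D3490) (tt N3491 D3491))
theorem Q2566 : ∀ i, i < 2566 → P i := stepQ 2565 Q2565 (allL N2565 (tt N2130 F4138) (tt N3479 (iv F5634)) (tt N1872 F4139) (tt N3491 (iv F5658)) (tt N3492 D3492) (tt N1871 (iv D2565)))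
theorem Q2567 : ∀ i, i < 2567 → P i := stepQ 2566 Q2566 (allL N2566 (tt N2129 F4140) (tt N1876 F4141) (tt N3492 (iv F5660)) (tt N2118 F4142) (tt N1872 (iv D2566)) (tt N2432 F4143))
theorem Q2568 : ∀ i, i < 2568 → P i := stepQ 2567 Q2567 (allL N2567 (tt N3493 D3493) (tt N1873 (iv D2567)) (tt N2429 F4144) (tt N3494 D3494) (tt N1875 F4145) (tt N3495 D3495))
theorem Q2569 : ∀ i, i < 2569 → P i := stepQ 2568 Q2568 (allL N2568 (tt N1883 F4146) (tt N3494 (iv F5665)) (tt N3496 D3496) (tt N1873 (iv D2568)) (tt N3483 (iv F5642)) (tt N3497 D3497))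
theorem Q2570 : ∀ i, i < 2570 → P i := stepQ 2569 Q2569 (allL N2569 (tt N1884 F4147) (tt N3495 (iv F5666)) (tt N1874 F4148) (tt N3497 (iv F5673)) (tt N3482 (iv F5640)) (tt N1873 (iv D2569)))
theorem Q2571 : ∀ i, i < 2571 → P i := stepQ 2570 Q2570 (allL N2570 (tt N1885 F4149) (tt N2432 F4150) (tt N3482 (iv F5639)) (tt N2152 F4151) (tt N1874 (iv D2570)) (tt N1876 F4152))
theorem Q2572 : ∀ i, i < 2572 → P i := stepQ 2571 Q2571 (allL N2571 (tt N1875 (iv D2571)) (tt N1886 F4153) (tt N3487 (iv F5648)) (tt N3478 (iv F5633)) (tt N3493 (iv F5664)) (tt N3477 F5630))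
theorem Q2573 : ∀ i, i < 2573 → P i := stepQ 2572 Q2572 (allL N2572 (tt N1878 F4154) (tt N1891 F4155) (tt N3498 D3498) (tt N1877 (iv D2572)) (tt N3499 D3499) (tt N2891 (iv F4669)))
theorem Q2574 : ∀ i, i < 2574 → P i := stepQ 2573 Q2573 (allL N2573 (tt N3498 (iv F5674)) (tt N3376 (iv F5458)) (tt N1878 (iv D2573)) (tt N3500 D3500) (tt N3501 D3501) (tt N3429 (iv F5554)))
theorem Q2575 : ∀ i, i < 2575 → P i := stepQ 2574 Q2574 (allL N2574 (tt N3499 (iv F5675)) (tt N1879 F4156) (tt N3501 (iv F5678)) (tt N2231 F4157) (tt N1878 (iv D2574)) (tt N3502 D3502))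
theorem Q2576 : ∀ i, i < 2576 → P i := stepQ 2575 Q2575 (allL N2575 (tt N1896 F4158) (tt N3502 (iv F5679)) (tt N3378 (iv F5462)) (tt N2233 F4159) (tt N3434 (iv F5562)) (tt N1879 (iv D2575)))
theorem Q2577 : ∀ i, i < 2577 → P i := stepQ 2576 Q2576 (allL N2576 (tt N3503 D3503) (tt N1880 (iv D2576)) (tt N2417 F4160) (tt N3504 D3504) (tt N3386 (iv F5483)) (tt N3505 D3505))
theorem Q2578 : ∀ i, i < 2578 → P i := stepQ 2577 Q2577 (allL N2577 (tt N3398 (iv F5510)) (tt N3504 (iv F5682)) (tt N3497 (iv F5672)) (tt N1880 (iv D2577)) (tt N3506 D3506) (tt N3496 F5670))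
theorem Q2579 : ∀ i, i < 2579 → P i := stepQ 2578 Q2578 (allL N2578 (tt N3399 (iv F5513)) (tt N3505 (iv F5683)) (tt N1881 F4161) (tt N3496 (iv F5669)) (tt N3507 D3507) (tt N1880 (iv D2578)))
theorem Q2580 : ∀ i, i < 2580 → P i := stepQ 2579 Q2579 (allL N2579 (tt N3400 (iv F5516)) (tt N2420 F4162) (tt N3507 (iv F5685)) (tt N2163 F4163) (tt N1881 (iv D2579)) (tt N3384 (iv F5478)))
theorem Q2581 : ∀ i, i < 2581 → P i := stepQ 2580 Q2580 (allL N2580 (tt N1882 (iv D2580)) (tt N3493 (iv F5662)) (tt N2200 F4164) (tt N3508 D3508) (tt N1886 F4165) (tt N3509 D3509))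
theorem Q2582 : ∀ i, i < 2582 → P i := stepQ 2581 Q2581 (allL N2581 (tt N3508 (iv F5686)) (tt N1883 F4166) (tt N3510 D3510) (tt N1882 (iv D2581)) (tt N3511 D3511) (tt N3512 D3512))
theorem Q2583 : ∀ i, i < 2583 → P i := stepQ 2582 Q2582 (allL N2582 (tt N3509 (iv F5687)) (tt N1884 F4167) (tt N2199 F4168) (tt N3512 (iv F5692)) (tt N3513 D3513) (tt N1882 (iv D2582)))
theorem Q2584 : ∀ i, i < 2584 → P i := stepQ 2583 Q2583 (allL N2583 (tt N3496 (iv F5668)) (tt N3514 D3514) (tt N1883 (iv D2583)) (tt N3399 (iv F5515)) (tt N3515 D3515) (tt N3398 F5512))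
theorem Q2585 : ∀ i, i < 2585 → P i := stepQ 2584 Q2584 (allL N2584 (tt N3483 (iv F5641)) (tt N3511 (iv F5689)) (tt N3515 (iv F5696)) (tt N1889 F4169) (tt N1883 (iv D2584)) (tt N3516 D3516))
theorem Q2586 : ∀ i, i < 2586 → P i := stepQ 2585 Q2585 (allL N2585 (tt N3497 (iv F5671)) (tt N3512 (iv F5691)) (tt N3398 (iv F5511)) (tt N1884 F4170) (tt N3517 D3517) (tt N1883 (iv D2585)))
theorem Q2587 : ∀ i, i < 2587 → P i := stepQ 2586 Q2586 (allL N2586 (tt N3482 (iv F5638)) (tt N3513 (iv F5693)) (tt N1885 F4171) (tt N3518 D3518) (tt N1884 (iv D2586)) (tt N1890 F4172))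
theorem Q2588 : ∀ i, i < 2588 → P i := stepQ 2587 Q2587 (allL N2587 (tt N1887 F4173) (tt N3478 (iv F5632)) (tt N3519 D3519) (tt N1886 (iv D2587)) (tt N3520 D3520) (tt N3449 (iv F5591)))
theorem Q2589 : ∀ i, i < 2589 → P i := stepQ 2588 Q2588 (allL N2588 (tt N1888 F4174) (tt N3477 (iv F5629)) (tt N2208 F4175) (tt N3449 (iv F5590)) (tt N3521 D3521) (tt N1886 (iv D2588)))
theorem Q2590 : ∀ i, i < 2590 → P i := stepQ 2589 Q2589 (allL N2589 (tt N3519 (iv F5699)) (tt N3443 (iv F5577)) (tt N1887 (iv D2589)) (tt N3522 D3522) (tt N3523 D3523) (tt N3441 F5576))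
theorem Q2591 : ∀ i, i < 2591 → P i := stepQ 2590 Q2590 (allL N2590 (tt N3520 (iv F5700)) (tt N1889 F4176) (tt N3523 (iv F5703)) (tt N3511 (iv F5690)) (tt N1887 (iv D2590)) (tt N3524 D3524))
theorem Q2592 : ∀ i, i < 2592 → P i := stepQ 2591 Q2591 (allL N2591 (tt N3521 (iv F5701)) (tt N1890 F4177) (tt N2207 F4178) (tt N3525 D3525) (tt N1888 (iv D2591)) (tt N3513 (iv F5695)))
theorem Q2593 : ∀ i, i < 2593 → P i := stepQ 2592 Q2592 (allL N2592 (tt N3476 (iv F5625)) (tt N3524 (iv F5704)) (tt N3448 (iv F5587)) (tt N3516 (iv F5697)) (tt N3447 (iv F5585)) (tt N1889 (iv D2592)))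
theorem Q2594 : ∀ i, i < 2594 → P i := stepQ 2593 Q2593 (allL N2593 (tt N3474 (iv F5622)) (tt N3525 (iv F5705)) (tt N3526 D3526) (tt N1890 (iv D2593)) (tt N3446 (iv F5582)) (tt N3518 (iv F5698)))
theorem Q2595 : ∀ i, i < 2595 → P i := stepQ 2594 Q2594 (allL N2594 (tt N1893 F4179) (tt N3499 (iv F5676)) (tt N2883 (iv F4655)) (tt N2235 F4180) (tt N1891 (iv D2594)) (tt N3527 D3527))
theorem Q2596 : ∀ i, i < 2596 → P i := stepQ 2595 Q2595 (allL N2595 (tt N3528 D3528) (tt N1892 (iv D2595)) (tt N1894 F4181) (tt N2877 (iv F4644)) (tt N3529 D3529) (tt N2895 (iv F4679)))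
theorem Q2597 : ∀ i, i < 2597 → P i := stepQ 2596 Q2596 (allL N2596 (tt N2883 (iv F4654)) (tt N3529 (iv F5709)) (tt N1893 F4182) (tt N3530 D3530) (tt N1892 (iv D2596)) (tt N3531 D3531))
theorem Q2598 : ∀ i, i < 2598 → P i := stepQ 2597 Q2597 (allL N2597 (tt N3527 (iv F5706)) (tt N1896 F4183) (tt N3531 (iv F5711)) (tt N2238 F4184) (tt N2898 (iv F4684)) (tt N1893 (iv D2597)))
theorem Q2599 : ∀ i, i < 2599 → P i := stepQ 2598 Q2598 (allL N2598 (tt N1894 (iv D2598)) (tt N3375 (iv F5456)) (tt N3528 (iv F5708)) (tt N3350 (iv F5414)) (tt N3532 D3532) (tt N3394 (iv F5503)))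
theorem Q2600 : ∀ i, i < 2600 → P i := stepQ 2599 Q2599 (allL N2599 (tt N3532 (iv F5712)) (tt N1895 F4185) (tt N3529 (iv F5710)) (tt N3533 D3533) (tt N1894 (iv D2599)) (tt N3534 D3534))
theorem Q2601 : ∀ i, i < 2601 → P i := stepQ 2600 Q2600 (allL N2600 (tt N3374 (iv F5453)) (tt N3533 (iv F5713)) (tt N3535 D3535) (tt N1895 (iv D2600)) (tt N3349 (iv F5411)) (tt N3536 D3536))
theorem Q2602 : ∀ i, i < 2602 → P i := stepQ 2601 Q2601 (allL N2601 (tt N3378 (iv F5461)) (tt N3534 (iv F5714)) (tt N1896 F4186) (tt N3536 (iv F5715)) (tt N3396 (iv F5507)) (tt N1895 (iv D2601)))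
theorem Q2603 : ∀ i, i < 2603 → P i := stepQ 2602 Q2602 (allL N2602 (tt N3537 D3537) (tt N1897 (iv D2602)) (tt N1917 F4187) (tt N3538 D3538) (tt N2849 (iv F4607)) (tt N3539 D3539))
theorem Q2604 : ∀ i, i < 2604 → P i := stepQ 2603 Q2603 (allL N2603 (tt N1902 F4188) (tt N3538 (iv F5719)) (tt N2127 F4189) (tt N1897 (iv D2603)) (tt N3540 D3540) (tt N2125 (iv F4190)))
theorem Q2605 : ∀ i, i < 2605 → P i := stepQ 2604 Q2604 (allL N2604 (tt N1903 F4191) (tt N3539 (iv F5723)) (tt N1898 F4192) (tt N2125 F4193) (tt N3541 D3541) (tt N1897 (iv D2604)))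
theorem Q2606 : ∀ i, i < 2606 → P i := stepQ 2605 Q2605 (allL N2605 (tt N1904 F4194) (tt N1920 F4195) (tt N3541 (iv F5729)) (tt N2067 F4196) (tt N1898 (iv D2605)) (tt N2852 (iv F4614)))
theorem Q2607 : ∀ i, i < 2607 → P i := stepQ 2606 Q2606 (allL N2606 (tt N3542 D3542) (tt N1899 (iv D2606)) (tt N1907 F4197) (tt N3543 D3543) (tt N1901 F4198) (tt N3544 D3544))
theorem Q2608 : ∀ i, i < 2608 → P i := stepQ 2607 Q2607 (allL N2607 (tt N2850 (iv F4608)) (tt N3543 (iv F5732)) (tt N3545 D3545) (tt N1899 (iv D2607)) (tt N3546 D3546) (tt N3545 F5737))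
theorem Q2609 : ∀ i, i < 2609 → P i := stepQ 2608 Q2608 (allL N2608 (tt N2851 (iv F4609)) (tt N3544 (iv F5733)) (tt N1900 F4199) (tt N3545 (iv F5736)) (tt N3547 D3547) (tt N1899 (iv D2608)))
theorem Q2610 : ∀ i, i < 2610 → P i := stepQ 2609 Q2609 (allL N2609 (tt N2852 (iv F4611)) (tt N1910 F4200) (tt N3547 (iv F5740)) (tt N2654 (iv F4279)) (tt N1900 (iv D2609)) (tt N1904 F4201))
theorem Q2611 : ∀ i, i < 2611 → P i := stepQ 2610 Q2610 (allL N2610 (tt N1901 (iv D2610)) (tt N3537 (iv F5716)) (tt N1911 F4202) (tt N3167 (iv F5172)) (tt N3542 (iv F5731)) (tt N2002 F4203))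
theorem Q2612 : ∀ i, i < 2612 → P i := stepQ 2611 Q2611 (allL N2611 (tt N3167 (iv F5171)) (tt N1902 F4204) (tt N3164 (iv F5166)) (tt N1901 (iv D2611)) (tt N3548 D3548) (tt N2005 F4205))
theorem Q2613 : ∀ i, i < 2613 → P i := stepQ 2612 Q2612 (allL N2612 (tt N2127 F4206) (tt N3549 D3549) (tt N1902 (iv D2612)) (tt N2117 F4207) (tt N3550 D3550) (tt N2116 (iv F4208)))
theorem Q2614 : ∀ i, i < 2614 → P i := stepQ 2613 Q2613 (allL N2613 (tt N3540 (iv F5726)) (tt N3548 (iv F5742)) (tt N3550 (iv F5747)) (tt N3546 (iv F5738)) (tt N1902 (iv D2613)) (tt N3551 D3551))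
theorem Q2615 : ∀ i, i < 2615 → P i := stepQ 2614 Q2614 (allL N2614 (tt N2125 F4209) (tt N2005 F4210) (tt N2116 F4211) (tt N1903 F4212) (tt N3552 D3552) (tt N1902 (iv D2614)))
theorem Q2616 : ∀ i, i < 2616 → P i := stepQ 2615 Q2615 (allL N2615 (tt N3541 (iv F5728)) (tt N2006 F4213) (tt N1904 F4214) (tt N3553 D3553) (tt N1903 (iv D2615)) (tt N3547 (iv F5741)))
theorem Q2617 : ∀ i, i < 2617 → P i := stepQ 2616 Q2616 (allL N2616 (tt N2067 F4215) (tt N1912 F4216) (tt N3554 D3554) (tt N1904 (iv D2616)) (tt N1905 F4217) (tt N2654 (iv F4280)))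
theorem Q2618 : ∀ i, i < 2618 → P i := stepQ 2617 Q2617 (allL N2617 (tt N2066 F4218) (tt N3555 D3555) (tt N1905 (iv D2617)) (tt N3489 (iv F5652)) (tt N3554 (iv F5753)) (tt N1906 F4219))
theorem Q2619 : ∀ i, i < 2619 → P i := stepQ 2618 Q2618 (allL N2618 (tt N3556 D3556) (tt N1906 (iv D2618)) (tt N1914 F4220) (tt N3557 D3557) (tt N2651 (iv F4276)) (tt N3555 (iv F5755)))
theorem Q2620 : ∀ i, i < 2620 → P i := stepQ 2619 Q2619 (allL N2619 (tt N2065 F4221) (tt N3557 (iv F5758)) (tt N3491 (iv F5657)) (tt N1906 (iv D2619)) (tt N3558 D3558) (tt N3489 F5653))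
theorem Q2621 : ∀ i, i < 2621 → P i := stepQ 2620 Q2620 (allL N2620 (tt N1907 (iv D2620)) (tt N1938 F4222) (tt N3542 (iv F5730)) (tt N3559 D3559) (tt N1911 F4223) (tt N3560 D3560))
theorem Q2622 : ∀ i, i < 2622 → P i := stepQ 2621 Q2621 (allL N2621 (tt N3559 (iv F5760)) (tt N1908 F4224) (tt N3561 D3561) (tt N1907 (iv D2621)) (tt N2008 F4225) (tt N3562 D3562))
theorem Q2623 : ∀ i, i < 2623 → P i := stepQ 2622 Q2622 (allL N2622 (tt N3560 (iv F5763)) (tt N1909 F4226) (tt N3544 (iv F5734)) (tt N3562 (iv F5768)) (tt N2007 F4227) (tt N1907 (iv D2622)))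
theorem Q2624 : ∀ i, i < 2624 → P i := stepQ 2623 Q2623 (allL N2623 (tt N1941 F4228) (tt N3563 D3563) (tt N1908 (iv D2623)) (tt N1936 F4229) (tt N2009 F4230) (tt N1935 (iv F4231)))
theorem Q2625 : ∀ i, i < 2625 → P i := stepQ 2624 Q2624 (allL N2624 (tt N1943 F4232) (tt N3562 (iv F5767)) (tt N1935 F4233) (tt N1909 F4234) (tt N3564 D3564) (tt N1908 (iv D2624)))
theorem Q2626 : ∀ i, i < 2626 → P i := stepQ 2625 Q2625 (allL N2625 (tt N1956 F4235) (tt N3565 D3565) (tt N1912 (iv D2625)) (tt N3566 D3566) (tt N1913 F4236) (tt N2659 (iv F4286)))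
theorem Q2627 : ∀ i, i < 2627 → P i := stepQ 2626 Q2626 (allL N2626 (tt N3567 D3567) (tt N1913 (iv D2626)) (tt N3555 (iv F5754)) (tt N1961 F4237) (tt N3565 (iv F5776)) (tt N1914 F4238))
theorem Q2628 : ∀ i, i < 2628 → P i := stepQ 2627 Q2627 (allL N2627 (tt N1914 (iv D2627)) (tt N1958 F4239) (tt N3556 (iv F5757)) (tt N3254 (iv F5297)) (tt N2655 (iv F4281)) (tt N3567 (iv F5782)))
theorem Q2629 : ∀ i, i < 2629 → P i := stepQ 2628 Q2628 (allL N2628 (tt N3274 (iv F5323)) (tt N3568 D3568) (tt N1915 (iv D2628)) (tt N3569 D3569) (tt N2764 (iv F4455)) (tt N3219 (iv F5249)))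
theorem Q2630 : ∀ i, i < 2630 → P i := stepQ 2629 Q2629 (allL N2629 (tt N3570 D3570) (tt N1916 (iv D2629)) (tt N3568 (iv F5783)) (tt N1957 F4240) (tt N2766 (iv F4458)) (tt N1959 F4241))
theorem Q2631 : ∀ i, i < 2631 → P i := stepQ 2630 Q2630 (allL N2630 (tt N1917 (iv D2630)) (tt N1925 F4242) (tt N3537 (iv F5717)) (tt N3571 D3571) (tt N2853 (iv F4616)) (tt N3572 D3572))
theorem Q2632 : ∀ i, i < 2632 → P i := stepQ 2631 Q2631 (allL N2631 (tt N3571 (iv F5788)) (tt N1918 F4243) (tt N2392 (iv F4244)) (tt N1917 (iv D2631)) (tt N3573 D3573) (tt N1972 (iv F4245)))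
theorem Q2633 : ∀ i, i < 2633 → P i := stepQ 2632 Q2632 (allL N2632 (tt N3572 (iv F5792)) (tt N1919 F4246) (tt N3539 (iv F5724)) (tt N1972 F4247) (tt N3574 D3574) (tt N1917 (iv D2632)))
theorem Q2634 : ∀ i, i < 2634 → P i := stepQ 2633 Q2633 (allL N2633 (tt N1929 F4248) (tt N3573 (iv F5796)) (tt N1975 F4249) (tt N2856 (iv F4620)) (tt N1918 (iv D2633)) (tt N3575 D3575))
theorem Q2635 : ∀ i, i < 2635 → P i := stepQ 2634 Q2634 (allL N2634 (tt N1931 F4250) (tt N3574 (iv F5798)) (tt N1920 F4251) (tt N3576 D3576) (tt N1919 (iv D2634)) (tt N2857 (iv F4623)))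
theorem Q2636 : ∀ i, i < 2636 → P i := stepQ 2635 Q2635 (allL N2635 (tt N1921 (iv D2635)) (tt N2853 (iv F4615)) (tt N1938 F4252) (tt N3577 D3577) (tt N1925 F4253) (tt N3578 D3578))
theorem Q2637 : ∀ i, i < 2637 → P i := stepQ 2636 Q2636 (allL N2636 (tt N3577 (iv F5804)) (tt N1922 F4254) (tt N3579 D3579) (tt N1921 (iv D2636)) (tt N3580 D3580) (tt N2864 (iv F4633)))
theorem Q2638 : ∀ i, i < 2638 → P i := stepQ 2637 Q2637 (allL N2637 (tt N3578 (iv F5805)) (tt N1923 F4255) (tt N1940 F4256) (tt N2864 (iv F4632)) (tt N3581 D3581) (tt N1921 (iv D2637)))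
theorem Q2639 : ∀ i, i < 2639 → P i := stepQ 2638 Q2638 (allL N2638 (tt N2856 (iv F4619)) (tt N3580 (iv F5807)) (tt N2867 (iv F4636)) (tt N1929 F4257) (tt N1922 (iv D2638)) (tt N3582 D3582))
theorem Q2640 : ∀ i, i < 2640 → P i := stepQ 2639 Q2639 (allL N2639 (tt N2857 (iv F4621)) (tt N3581 (iv F5809)) (tt N1924 F4258) (tt N3583 D3583) (tt N1923 (iv D2639)) (tt N1931 F4259))
theorem Q2641 : ∀ i, i < 2641 → P i := stepQ 2640 Q2640 (allL N2640 (tt N1926 F4260) (tt N3571 (iv F5789)) (tt N3584 D3584) (tt N1925 (iv D2640)) (tt N3585 D3585) (tt N3586 D3586))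
theorem Q2642 : ∀ i, i < 2642 → P i := stepQ 2641 Q2641 (allL N2641 (tt N1927 F4261) (tt N3572 (iv F5793)) (tt N1950 F4262) (tt N3586 (iv F5819)) (tt N3587 D3587) (tt N1925 (iv D2641)))
theorem Q2643 : ∀ i, i < 2643 → P i := stepQ 2642 Q2642 (allL N2642 (tt N3584 (iv F5814)) (tt N3588 D3588) (tt N1926 (iv D2642)) (tt N3589 D3589) (tt N3590 D3590) (tt N3591 D3591))
theorem Q2644 : ∀ i, i < 2644 → P i := stepQ 2643 Q2643 (allL N2643 (tt N3585 (iv F5816)) (tt N1929 F4263) (tt N3590 (iv F5827)) (tt N3580 (iv F5808)) (tt N1926 (iv D2643)) (tt N3592 D3592))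
theorem Q2645 : ∀ i, i < 2645 → P i := stepQ 2644 Q2644 (allL N2644 (tt N3586 (iv F5817)) (tt N1930 F4264) (tt N3591 (iv F5829)) (tt N1927 F4265) (tt N3593 D3593) (tt N1926 (iv D2644)))
theorem Q2646 : ∀ i, i < 2646 → P i := stepQ 2645 Q2645 (allL N2645 (tt N3587 (iv F5820)) (tt N1931 F4266) (tt N1953 F4267) (tt N3594 D3594) (tt N1927 (iv D2645)) (tt N3581 (iv F5811)))
theorem Q2647 : ∀ i, i < 2647 → P i := stepQ 2646 Q2646 (allL N2646 (tt N2390 F4268) (tt N1928 (iv D2646)) (tt N3588 (iv F5822)) (tt N1966 F4269) (tt N3595 D3595) (tt N1965 F4270))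
theorem Q2648 : ∀ i, i < 2648 → P i := stepQ 2647 Q2647 (allL N2647 (tt N1975 F4271) (tt N3595 (iv F5834)) (tt N1929 F4272) (tt N3596 D3596) (tt N1928 (iv D2647)) (tt N3597 D3597))
theorem Q2649 : ∀ i, i < 2649 → P i := stepQ 2648 Q2648 (allL N2648 (tt N3575 (iv F5799)) (tt N3592 (iv F5830)) (tt N3597 (iv F5839)) (tt N3582 (iv F5812)) (tt N3598 D3598) (tt N1929 (iv D2648)))
theorem Q2650 : ∀ i, i < 2650 → P i := stepQ 2649 Q2649 (allL N2649 (tt N1973 F4273) (tt N3593 (iv F5831)) (tt N1967 F4274) (tt N3599 D3599) (tt N1930 (iv D2649)) (tt N3598 (iv F5843)))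
theorem Q2651 : ∀ i, i < 2651 → P i := stepQ 2650 Q2650 (allL N2650 (tt N3576 (iv F5802)) (tt N3594 (iv F5832)) (tt N3600 D3600) (tt N1931 (iv D2650)) (tt N3599 (iv F5845)) (tt N3583 (iv F5813)))
theorem Q2652 : ∀ i, i < 2652 → P i := stepQ 2651 Q2651 (allL N2651 (tt N3601 D3601) (tt N1932 (iv D2651)) (tt N1934 F4275) (tt N3602 D3602) (tt N2618 F4276) (tt N3603 D3603))
theorem Q2653 : ∀ i, i < 2653 → P i := stepQ 2652 Q2652 (allL N2652 (tt N2830 (iv F4576)) (tt N3602 (iv F5848)) (tt N3604 D3604) (tt N1932 (iv D2652)) (tt N3605 D3605) (tt N3604 F5852))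
theorem Q2654 : ∀ i, i < 2654 → P i := stepQ 2653 Q2653 (allL N2653 (tt N2831 (iv F4577)) (tt N3603 (iv F5849)) (tt N1933 F4277) (tt N3604 (iv F5851)) (tt N3606 D3606) (tt N1932 (iv D2653)))
theorem Q2655 : ∀ i, i < 2655 → P i := stepQ 2654 Q2654 (allL N2654 (tt N2832 (iv F4579)) (tt N1937 F4278) (tt N3606 (iv F5854)) (tt N2609 F4279) (tt N1933 (iv D2654)) (tt N2616 F4280))
theorem Q2656 : ∀ i, i < 2656 → P i := stepQ 2655 Q2655 (allL N2655 (tt N1934 (iv D2655)) (tt N2673 (iv F4307)) (tt N3601 (iv F5846)) (tt N3607 D3607) (tt N2627 F4281) (tt N3608 D3608))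
theorem Q2657 : ∀ i, i < 2657 → P i := stepQ 2656 Q2656 (allL N2656 (tt N3607 (iv F5856)) (tt N1935 F4282) (tt N3609 D3609) (tt N1934 (iv D2656)) (tt N3610 D3610) (tt N3563 (iv F5771)))
theorem Q2658 : ∀ i, i < 2658 → P i := stepQ 2657 Q2657 (allL N2657 (tt N3608 (iv F5857)) (tt N1936 F4283) (tt N3603 (iv F5850)) (tt N3563 (iv F5769)) (tt N3611 D3611) (tt N1934 (iv D2657)))
theorem Q2659 : ∀ i, i < 2659 → P i := stepQ 2658 Q2658 (allL N2658 (tt N2675 (iv F4312)) (tt N3610 (iv F5858)) (tt N3564 (iv F5773)) (tt N2388 F4284) (tt N1935 (iv D2658)) (tt N3612 D3612))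
theorem Q2660 : ∀ i, i < 2660 → P i := stepQ 2659 Q2659 (allL N2659 (tt N2671 (iv F4301)) (tt N3611 (iv F5860)) (tt N1937 F4285) (tt N3613 D3613) (tt N1936 (iv D2659)) (tt N2625 F4286))
theorem Q2661 : ∀ i, i < 2661 → P i := stepQ 2660 Q2660 (allL N2660 (tt N1939 F4287) (tt N3559 (iv F5761)) (tt N3614 D3614) (tt N1938 (iv D2660)) (tt N3615 D3615) (tt N3616 D3616))
theorem Q2662 : ∀ i, i < 2662 → P i := stepQ 2661 Q2661 (allL N2661 (tt N1940 F4288) (tt N3560 (iv F5764)) (tt N3578 (iv F5806)) (tt N3616 (iv F5872)) (tt N3617 D3617) (tt N1938 (iv D2661)))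
theorem Q2663 : ∀ i, i < 2663 → P i := stepQ 2662 Q2662 (allL N2662 (tt N3614 (iv F5867)) (tt N3618 D3618) (tt N1939 (iv D2662)) (tt N3619 D3619) (tt N3620 D3620) (tt N3621 D3621))
theorem Q2664 : ∀ i, i < 2664 → P i := stepQ 2663 Q2663 (allL N2663 (tt N3615 (iv F5868)) (tt N1942 F4289) (tt N3620 (iv F5877)) (tt N1952 F4290) (tt N1939 (iv D2663)) (tt N3622 D3622))
theorem Q2665 : ∀ i, i < 2665 → P i := stepQ 2664 Q2664 (allL N2664 (tt N3616 (iv F5871)) (tt N1943 F4291) (tt N3621 (iv F5878)) (tt N1940 F4292) (tt N3623 D3623) (tt N1939 (iv D2664)))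
theorem Q2666 : ∀ i, i < 2666 → P i := stepQ 2665 Q2665 (allL N2665 (tt N3617 (iv F5873)) (tt N1944 F4293) (tt N3581 (iv F5810)) (tt N3624 D3624) (tt N1940 (iv D2665)) (tt N1953 F4294))
theorem Q2667 : ∀ i, i < 2667 → P i := stepQ 2666 Q2666 (allL N2666 (tt N3625 D3625) (tt N1941 (iv D2666)) (tt N3618 (iv F5876)) (tt N2672 (iv F4305)) (tt N3626 D3626) (tt N2674 (iv F4311)))
theorem Q2668 : ∀ i, i < 2668 → P i := stepQ 2667 Q2667 (allL N2667 (tt N2009 F4295) (tt N3626 (iv F5884)) (tt N1942 F4296) (tt N3078 (iv F5017)) (tt N1941 (iv D2667)) (tt N3144 (iv F5151)))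
theorem Q2669 : ∀ i, i < 2669 → P i := stepQ 2668 Q2668 (allL N2668 (tt N2001 F4297) (tt N3622 (iv F5879)) (tt N3144 (iv F5150)) (tt N1954 F4298) (tt N3627 D3627) (tt N1942 (iv D2668)))
theorem Q2670 : ∀ i, i < 2670 → P i := stepQ 2669 Q2669 (allL N2669 (tt N3564 (iv F5772)) (tt N3623 (iv F5881)) (tt N2675 (iv F4313)) (tt N3628 D3628) (tt N1943 (iv D2669)) (tt N3627 (iv F5887)))
theorem Q2671 : ∀ i, i < 2671 → P i := stepQ 2670 Q2670 (allL N2670 (tt N1999 F4299) (tt N3624 (iv F5882)) (tt N3629 D3629) (tt N1944 (iv D2670)) (tt N3628 (iv F5890)) (tt N1955 F4300))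
theorem Q2672 : ∀ i, i < 2672 → P i := stepQ 2671 Q2671 (allL N2671 (tt N2659 F4301) (tt N3630 D3630) (tt N1945 (iv D2671)) (tt N3631 D3631) (tt N1946 F4302) (tt N1956 F4303))
theorem Q2673 : ∀ i, i < 2673 → P i := stepQ 2672 Q2672 (allL N2672 (tt N3632 D3632) (tt N1946 (iv D2672)) (tt N2085 F4304) (tt N2666 F4305) (tt N3630 (iv F5897)) (tt N1947 F4306))
theorem Q2674 : ∀ i, i < 2674 → P i := stepQ 2673 Q2673 (allL N2673 (tt N1947 (iv D2673)) (tt N2655 F4307) (tt N2083 F4308) (tt N3633 D3633) (tt N1958 F4309) (tt N3632 (iv F5906)))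
theorem Q2675 : ∀ i, i < 2675 → P i := stepQ 2674 Q2674 (allL N2674 (tt N3633 (iv F5907)) (tt N1948 F4310) (tt N3634 D3634) (tt N1947 (iv D2674)) (tt N3635 D3635) (tt N2666 F4311))
theorem Q2676 : ∀ i, i < 2676 → P i := stepQ 2675 Q2675 (allL N2675 (tt N2658 F4312) (tt N3635 (iv F5912)) (tt N2669 F4313) (tt N1960 F4314) (tt N1948 (iv D2675)) (tt N3636 D3636))
theorem Q2677 : ∀ i, i < 2677 → P i := stepQ 2676 Q2676 (allL N2676 (tt N1951 F4315) (tt N1992 F4316) (tt N1949 (iv D2676)) (tt N3637 D3637) (tt N3638 D3638) (tt N1977 F4317))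
theorem Q2678 : ∀ i, i < 2678 → P i := stepQ 2677 Q2677 (allL N2677 (tt N1952 F4318) (tt N2004 F4319) (tt N3638 (iv F5923)) (tt N3615 (iv F5870)) (tt N1949 (iv D2677)) (tt N3638 (iv F5924)))
theorem Q2679 : ∀ i, i < 2679 → P i := stepQ 2678 Q2678 (allL N2678 (tt N1953 F4320) (tt N2003 F4321) (tt N3587 (iv F5821)) (tt N3639 D3639) (tt N1950 (iv D2678)) (tt N3617 (iv F5875)))
theorem Q2680 : ∀ i, i < 2680 → P i := stepQ 2679 Q2679 (allL N2679 (tt N3637 (iv F5918)) (tt N1980 F4322) (tt N3640 D3640) (tt N1951 (iv D2679)) (tt N3641 D3641) (tt N1978 F4323))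
theorem Q2681 : ∀ i, i < 2681 → P i := stepQ 2680 Q2680 (allL N2680 (tt N3638 (iv F5921)) (tt N1954 F4324) (tt N1952 F4325) (tt N3622 (iv F5880)) (tt N1951 (iv D2680)) (tt N1952 F4326))
theorem Q2682 : ∀ i, i < 2682 → P i := stepQ 2681 Q2681 (allL N2681 (tt N3639 (iv F5925)) (tt N1955 F4327) (tt N3642 D3642) (tt N1953 (iv D2681)) (tt N1978 F4328) (tt N3624 (iv F5883)))
theorem Q2683 : ∀ i, i < 2683 → P i := stepQ 2682 Q2682 (allL N2682 (tt N1998 F4329) (tt N3643 D3643) (tt N1955 (iv D2682)) (tt N3644 D3644) (tt N1979 F4330) (tt N3629 (iv F5894)))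
theorem Q2684 : ∀ i, i < 2684 → P i := stepQ 2683 Q2683 (allL N2683 (tt N3645 D3645) (tt N1956 (iv D2683)) (tt N2094 F4331) (tt N3646 D3646) (tt N1957 F4332) (tt N3630 (iv F5898)))
theorem Q2685 : ∀ i, i < 2685 → P i := stepQ 2684 Q2684 (allL N2684 (tt N3566 (iv F5777)) (tt N3646 (iv F5939)) (tt N3647 D3647) (tt N1956 (iv D2684)) (tt N2767 (iv F4460)) (tt N3631 (iv F5902)))
theorem Q2686 : ∀ i, i < 2686 → P i := stepQ 2685 Q2685 (allL N2685 (tt N1957 (iv D2685)) (tt N3567 (iv F5780)) (tt N2091 F4333) (tt N3570 (iv F5786)) (tt N3645 (iv F5938)) (tt N1958 F4334))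
theorem Q2687 : ∀ i, i < 2687 → P i := stepQ 2686 Q2686 (allL N2686 (tt N1959 F4335) (tt N3254 (iv F5296)) (tt N3648 D3648) (tt N1958 (iv D2686)) (tt N3649 D3649) (tt N3570 (iv F5787)))
theorem Q2688 : ∀ i, i < 2688 → P i := stepQ 2687 Q2687 (allL N2687 (tt N3648 (iv F5944)) (tt N3219 (iv F5248)) (tt N1959 (iv D2687)) (tt N3650 D3650) (tt N3651 D3651) (tt N3568 (iv F5784)))
theorem Q2689 : ∀ i, i < 2689 → P i := stepQ 2688 Q2688 (allL N2688 (tt N3649 (iv F5945)) (tt N1960 F4336) (tt N3651 (iv F5946)) (tt N3635 (iv F5913)) (tt N1959 (iv D2688)) (tt N3652 D3652))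
theorem Q2690 : ∀ i, i < 2690 → P i := stepQ 2689 Q2689 (allL N2689 (tt N3252 (iv F5292)) (tt N3652 (iv F5947)) (tt N2769 (iv F4465)) (tt N3636 (iv F5916)) (tt N2768 (iv F4463)) (tt N1960 (iv D2689)))
theorem Q2691 : ∀ i, i < 2691 → P i := stepQ 2690 Q2690 (allL N2690 (tt N1961 (iv D2690)) (tt N3570 (iv F5785)) (tt N3283 (iv F5332)) (tt N3567 (iv F5781)) (tt N3653 D3653) (tt N3254 (iv F5298)))
theorem Q2692 : ∀ i, i < 2692 → P i := stepQ 2691 Q2691 (allL N2691 (tt N3653 (iv F5948)) (tt N1962 F4337) (tt N3280 (iv F5329)) (tt N3654 D3654) (tt N1961 (iv D2691)) (tt N3655 D3655))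
theorem Q2693 : ∀ i, i < 2693 → P i := stepQ 2692 Q2692 (allL N2692 (tt N2767 (iv F4459)) (tt N3654 (iv F5949)) (tt N2386 F4338) (tt N1962 (iv D2692)) (tt N3566 (iv F5778)) (tt N2385 (iv F4339)))
theorem Q2694 : ∀ i, i < 2694 → P i := stepQ 2693 Q2693 (allL N2693 (tt N2768 (iv F4461)) (tt N3655 (iv F5951)) (tt N1963 F4340) (tt N2385 F4341) (tt N3252 (iv F5293)) (tt N1962 (iv D2693)))
theorem Q2695 : ∀ i, i < 2695 → P i := stepQ 2694 Q2694 (allL N2694 (tt N1965 F4342) (tt N1969 F4343) (tt N3656 D3656) (tt N1964 (iv D2694)) (tt N3657 D3657) (tt N2390 F4344))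
theorem Q2696 : ∀ i, i < 2696 → P i := stepQ 2695 Q2695 (allL N2695 (tt N3656 (iv F5953)) (tt N3591 (iv F5828)) (tt N1965 (iv D2695)) (tt N3658 D3658) (tt N3659 D3659) (tt N3588 F5824))
theorem Q2697 : ∀ i, i < 2697 → P i := stepQ 2696 Q2696 (allL N2696 (tt N3657 (iv F5956)) (tt N1967 F4345) (tt N3659 (iv F5959)) (tt N2075 F4346) (tt N1965 (iv D2696)) (tt N3660 D3660))
theorem Q2698 : ∀ i, i < 2698 → P i := stepQ 2697 Q2697 (allL N2697 (tt N2246 F4347) (tt N1968 F4348) (tt N2232 F4349) (tt N3661 D3661) (tt N1966 (iv D2697)) (tt N2032 F4350))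
theorem Q2699 : ∀ i, i < 2699 → P i := stepQ 2698 Q2698 (allL N2698 (tt N1974 F4351) (tt N3660 (iv F5960)) (tt N3598 (iv F5842)) (tt N2076 F4352) (tt N3597 (iv F5840)) (tt N1967 (iv D2698)))
theorem Q2700 : ∀ i, i < 2700 → P i := stepQ 2699 Q2699 (allL N2699 (tt N1976 F4353) (tt N3661 (iv F5963)) (tt N2038 F4355) (tt N1968 (iv D2699)) (tt N3596 (iv F5836)) (tt N2033 F4354))
theorem Q2701 : ∀ i, i < 2701 → P i := stepQ 2700 Q2700 (allL N2700 (tt N1971 F4356) (tt N3657 (iv F5957)) (tt N2374 F4357) (tt N2098 F4358) (tt N1969 (iv D2700)) (tt N3662 D3662))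
theorem Q2702 : ∀ i, i < 2702 → P i := stepQ 2701 Q2701 (allL N2701 (tt N3663 D3663) (tt N1970 (iv D2701)) (tt N1972 F4359) (tt N2365 F4360) (tt N3664 D3664) (tt N2392 F4361))
theorem Q2703 : ∀ i, i < 2703 → P i := stepQ 2702 Q2702 (allL N2702 (tt N2374 F4362) (tt N3664 (iv F5973)) (tt N1971 F4363) (tt N3665 D3665) (tt N1970 (iv D2702)) (tt N3666 D3666))
theorem Q2704 : ∀ i, i < 2704 → P i := stepQ 2703 Q2703 (allL N2703 (tt N3662 (iv F5965)) (tt N1974 F4364) (tt N3666 (iv F5978)) (tt N2102 F4365) (tt N2394 F4366) (tt N1971 (iv D2703)))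
theorem Q2705 : ∀ i, i < 2705 → P i := stepQ 2704 Q2704 (allL N2704 (tt N1972 (iv D2704)) (tt N3586 (iv F5818)) (tt N3663 (iv F5970)) (tt N3572 (iv F5795)) (tt N3667 D3667) (tt N3571 F5791))
theorem Q2706 : ∀ i, i < 2706 → P i := stepQ 2705 Q2705 (allL N2705 (tt N3667 (iv F5980)) (tt N1973 F4367) (tt N3664 (iv F5974)) (tt N3668 D3668) (tt N1972 (iv D2705)) (tt N3669 D3669))
theorem Q2707 : ∀ i, i < 2707 → P i := stepQ 2706 Q2706 (allL N2706 (tt N3599 (iv F5844)) (tt N3668 (iv F5981)) (tt N3670 D3670) (tt N1973 (iv D2706)) (tt N3576 (iv F5803)) (tt N3671 D3671))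
theorem Q2708 : ∀ i, i < 2708 → P i := stepQ 2707 Q2707 (allL N2707 (tt N3598 (iv F5841)) (tt N3669 (iv F5982)) (tt N1974 F4368) (tt N3671 (iv F5983)) (tt N3575 (iv F5801)) (tt N1973 (iv D2707)))
theorem Q2709 : ∀ i, i < 2709 → P i := stepQ 2708 Q2708 (allL N2708 (tt N3597 (iv F5838)) (tt N2394 F4369) (tt N3575 (iv F5800)) (tt N3672 D3672) (tt N1974 (iv D2708)) (tt N1975 F4370))
theorem Q2710 : ∀ i, i < 2710 → P i := stepQ 2709 Q2709 (allL N2709 (tt N3596 (iv F5835)) (tt N2249 F4371) (tt N3673 D3673) (tt N1975 (iv D2709)) (tt N1976 F4372) (tt N3672 (iv F5986)))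
theorem Q2711 : ∀ i, i < 2711 → P i := stepQ 2710 Q2710 (allL N2710 (tt N2038 F4373) (tt N3674 D3674) (tt N1976 (iv D2710)) (tt N2031 F4375) (tt N3673 (iv F5988)) (tt N2056 F4374))
theorem Q2712 : ∀ i, i < 2712 → P i := stepQ 2711 Q2711 (allL N2711 (tt N1978 F4376) (tt N1991 F4377) (tt N3589 (iv F5826)) (tt N1977 (iv D2711)) (tt N3639 (iv F5927)) (tt N3637 (iv F5920)))
theorem Q2713 : ∀ i, i < 2713 → P i := stepQ 2712 Q2712 (allL N2712 (tt N3589 (iv F5825)) (tt N3675 D3675) (tt N1978 (iv D2712)) (tt N3584 (iv F5815)) (tt N3642 (iv F5931)) (tt N3640 (iv F5929)))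
theorem Q2714 : ∀ i, i < 2714 → P i := stepQ 2713 Q2713 (allL N2713 (tt N3676 D3676) (tt N1979 (iv D2713)) (tt N3675 (iv F5992)) (tt N1988 F4378) (tt N3643 (iv F5932)) (tt N1987 F4379))
theorem Q2715 : ∀ i, i < 2715 → P i := stepQ 2714 Q2714 (allL N2714 (tt N2000 F4380) (tt N3641 (iv F5930)) (tt N1989 F4381) (tt N3627 (iv F5886)) (tt N1980 (iv D2714)) (tt N3628 (iv F5891)))
theorem Q2716 : ∀ i, i < 2716 → P i := stepQ 2715 Q2715 (allL N2715 (tt N1984 F4382) (tt N2414 F4383) (tt N1982 F4384) (tt N3677 D3677) (tt N1981 (iv D2715)) (tt N3678 D3678))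
theorem Q2717 : ∀ i, i < 2717 → P i := stepQ 2716 Q2716 (allL N2716 (tt N1985 F4385) (tt N2010 F4386) (tt N3678 (iv F6002)) (tt N3213 (iv F5240)) (tt N2763 (iv F4454)) (tt N1982 (iv D2716)))
theorem Q2718 : ∀ i, i < 2718 → P i := stepQ 2717 Q2717 (allL N2717 (tt N2182 F4387) (tt N2224 F4388) (tt N2186 F4389) (tt N3679 D3679) (tt N1983 (iv D2717)) (tt N3680 D3680))
theorem Q2719 : ∀ i, i < 2719 → P i := stepQ 2718 Q2718 (allL N2718 (tt N3677 (iv F5997)) (tt N2408 F4390) (tt N3681 D3681) (tt N1984 (iv D2718)) (tt N3679 (iv F6005)) (tt N3682 D3682))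
theorem Q2720 : ∀ i, i < 2720 → P i := stepQ 2719 Q2719 (allL N2719 (tt N3678 (iv F6000)) (tt N2409 F4391) (tt N1985 F4392) (tt N3682 (iv F6011)) (tt N2759 (iv F4447)) (tt N1984 (iv D2719)))
theorem Q2721 : ∀ i, i < 2721 → P i := stepQ 2720 Q2720 (allL N2720 (tt N1987 F4393) (tt N2250 F4394) (tt N3683 D3683) (tt N1986 (iv D2720)) (tt N3684 D3684) (tt N3676 (iv F5996)))
theorem Q2722 : ∀ i, i < 2722 → P i := stepQ 2721 Q2721 (allL N2721 (tt N1988 F4395) (tt N2203 F4396) (tt N2284 F4397) (tt N3676 (iv F5995)) (tt N3685 D3685) (tt N1986 (iv D2721)))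
theorem Q2723 : ∀ i, i < 2723 → P i := stepQ 2722 Q2722 (allL N2722 (tt N3683 (iv F6012)) (tt N3640 (iv F5928)) (tt N1987 (iv D2722)) (tt N3686 D3686) (tt N3687 D3687) (tt N3675 (iv F5993)))
theorem Q2724 : ∀ i, i < 2724 → P i := stepQ 2723 Q2723 (allL N2723 (tt N3684 (iv F6014)) (tt N1989 F4398) (tt N3687 (iv F6023)) (tt N2286 F4399) (tt N1987 (iv D2723)) (tt N3688 D3688))
theorem Q2725 : ∀ i, i < 2725 → P i := stepQ 2724 Q2724 (allL N2724 (tt N3685 (iv F6017)) (tt N1990 F4400) (tt N2287 F4401) (tt N3689 D3689) (tt N1988 (iv D2724)) (tt N2287 F4402))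
theorem Q2726 : ∀ i, i < 2726 → P i := stepQ 2725 Q2725 (allL N2725 (tt N2253 F4403) (tt N3688 (iv F6024)) (tt N3628 (iv F5889)) (tt N2288 F4404) (tt N3629 (iv F5893)) (tt N1989 (iv D2725)))
theorem Q2727 : ∀ i, i < 2727 → P i := stepQ 2726 Q2726 (allL N2726 (tt N2254 F4405) (tt N3689 (iv F6026)) (tt N2756 (iv F4440)) (tt N1990 (iv D2726)) (tt N3644 (iv F5934)) (tt N2289 F4406))
theorem Q2728 : ∀ i, i < 2728 → P i := stepQ 2727 Q2727 (allL N2727 (tt N1993 F4407) (tt N3690 D3690) (tt N1991 (iv D2727)) (tt N3183 (iv F5199)) (tt N3691 D3691) (tt N3692 D3692))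
theorem Q2729 : ∀ i, i < 2729 → P i := stepQ 2728 Q2728 (allL N2728 (tt N1994 F4408) (tt N3639 (iv F5926)) (tt N3691 (iv F6031)) (tt N2003 F4409) (tt N1991 (iv D2728)) (tt N3693 D3693))
theorem Q2730 : ∀ i, i < 2730 → P i := stepQ 2729 Q2729 (allL N2729 (tt N1995 F4410) (tt N3637 (iv F5919)) (tt N3692 (iv F6033)) (tt N1992 F4411) (tt N3694 D3694) (tt N1991 (iv D2729)))
theorem Q2731 : ∀ i, i < 2731 → P i := stepQ 2730 Q2730 (allL N2730 (tt N1996 F4412) (tt N3638 (iv F5922)) (tt N3079 (iv F5019)) (tt N3695 D3695) (tt N1992 (iv D2730)) (tt N2004 F4413))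
theorem Q2732 : ∀ i, i < 2732 → P i := stepQ 2731 Q2731 (allL N2731 (tt N3696 D3696) (tt N1993 (iv D2731)) (tt N1997 F4414) (tt N3697 D3697) (tt N3698 D3698) (tt N2251 (iv F4415)))
theorem Q2733 : ∀ i, i < 2733 → P i := stepQ 2732 Q2732 (allL N2732 (tt N3183 (iv F5197)) (tt N3697 (iv F6044)) (tt N3181 (iv F5194)) (tt N1993 (iv D2732)) (tt N3699 D3699) (tt N3700 D3700))
theorem Q2734 : ∀ i, i < 2734 → P i := stepQ 2733 Q2733 (allL N2733 (tt N3691 (iv F6030)) (tt N3698 (iv F6047)) (tt N1994 F4416) (tt N3701 D3701) (tt N1993 (iv D2733)) (tt N3702 D3702))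
theorem Q2735 : ∀ i, i < 2735 → P i := stepQ 2734 Q2734 (allL N2734 (tt N3692 (iv F6032)) (tt N2251 F4417) (tt N1995 F4418) (tt N3700 (iv F6050)) (tt N3703 D3703) (tt N1993 (iv D2734)))
theorem Q2736 : ∀ i, i < 2736 → P i := stepQ 2735 Q2735 (allL N2735 (tt N3693 (iv F6034)) (tt N1999 F4419) (tt N3702 (iv F6051)) (tt N2007 F4420) (tt N3704 D3704) (tt N1994 (iv D2735)))
theorem Q2737 : ∀ i, i < 2737 → P i := stepQ 2736 Q2736 (allL N2736 (tt N3694 (iv F6036)) (tt N2000 F4421) (tt N3703 (iv F6053)) (tt N3705 D3705) (tt N1995 (iv D2736)) (tt N3704 (iv F6055)))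
theorem Q2738 : ∀ i, i < 2738 → P i := stepQ 2737 Q2737 (allL N2737 (tt N3695 (iv F6037)) (tt N2001 F4422) (tt N3706 D3706) (tt N1996 (iv D2737)) (tt N3705 (iv F6057)) (tt N2008 F4423))
theorem Q2739 : ∀ i, i < 2739 → P i := stepQ 2738 Q2738 (allL N2738 (tt N1997 (iv D2738)) (tt N3676 (iv F5994)) (tt N3696 (iv F6040)) (tt N2203 F4424) (tt N3707 D3707) (tt N2250 F4425))
theorem Q2740 : ∀ i, i < 2740 → P i := stepQ 2739 Q2739 (allL N2739 (tt N3707 (iv F6059)) (tt N1998 F4426) (tt N3698 (iv F6048)) (tt N3708 D3708) (tt N1997 (iv D2739)) (tt N3709 D3709))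
theorem Q2741 : ∀ i, i < 2741 → P i := stepQ 2740 Q2740 (allL N2740 (tt N3644 (iv F5933)) (tt N3708 (iv F6060)) (tt N3631 (iv F5900)) (tt N1998 (iv D2740)) (tt N2254 F4427) (tt N3647 (iv F5943)))
theorem Q2742 : ∀ i, i < 2742 → P i := stepQ 2741 Q2741 (allL N2741 (tt N3629 (iv F5892)) (tt N3709 (iv F6062)) (tt N1999 F4428) (tt N3647 (iv F5941)) (tt N2253 F4429) (tt N1998 (iv D2741)))
theorem Q2743 : ∀ i, i < 2743 → P i := stepQ 2742 Q2742 (allL N2742 (tt N3628 (iv F5888)) (tt N3704 (iv F6054)) (tt N2253 F4430) (tt N3564 (iv F5774)) (tt N1999 (iv D2742)) (tt N2000 F4431))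
theorem Q2744 : ∀ i, i < 2744 → P i := stepQ 2743 Q2743 (allL N2743 (tt N3627 (iv F5885)) (tt N3705 (iv F6056)) (tt N3612 (iv F5862)) (tt N2000 (iv D2743)) (tt N2001 F4432) (tt N3564 (iv F5775)))
theorem Q2745 : ∀ i, i < 2745 → P i := stepQ 2744 Q2744 (allL N2744 (tt N3144 (iv F5149)) (tt N3710 D3710) (tt N2001 (iv D2744)) (tt N3120 (iv F5104)) (tt N3612 (iv F5864)) (tt N2009 F4433))
theorem Q2746 : ∀ i, i < 2746 → P i := stepQ 2745 Q2745 (allL N2745 (tt N3539 (iv F5722)) (tt N2002 (iv D2745)) (tt N3572 (iv F5794)) (tt N3711 D3711) (tt N3712 D3712) (tt N3537 F5718))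
theorem Q2747 : ∀ i, i < 2747 → P i := stepQ 2746 Q2746 (allL N2746 (tt N2005 F4434) (tt N3711 (iv F6066)) (tt N3096 (iv F5061)) (tt N2002 (iv D2746)) (tt N3713 D3713) (tt N3167 (iv F5173)))
theorem Q2748 : ∀ i, i < 2748 → P i := stepQ 2747 Q2747 (allL N2747 (tt N2006 F4435) (tt N3712 (iv F6067)) (tt N2003 F4436) (tt N3714 D3714) (tt N2002 (iv D2747)) (tt N3715 D3715))
theorem Q2749 : ∀ i, i < 2749 → P i := stepQ 2748 Q2748 (allL N2748 (tt N2007 F4437) (tt N3617 (iv F5874)) (tt N3715 (iv F6071)) (tt N3693 (iv F6035)) (tt N3560 (iv F5765)) (tt N2003 (iv D2748)))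
theorem Q2750 : ∀ i, i < 2750 → P i := stepQ 2749 Q2749 (allL N2749 (tt N2008 F4438) (tt N3615 (iv F5869)) (tt N3716 D3716) (tt N2004 (iv D2749)) (tt N3559 (iv F5762)) (tt N3695 (iv F6038)))
theorem Q2751 : ∀ i, i < 2751 → P i := stepQ 2750 Q2750 (allL N2750 (tt N3096 (iv F5058)) (tt N3717 D3717) (tt N2005 (iv D2750)) (tt N3095 F5057) (tt N3718 D3718) (tt N3164 (iv F5167)))
theorem Q2752 : ∀ i, i < 2752 → P i := stepQ 2751 Q2751 (allL N2751 (tt N3713 (iv F6068)) (tt N3552 (iv F5749)) (tt N3718 (iv F6074)) (tt N3719 D3719) (tt N2005 (iv D2751)) (tt N3720 D3720))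
theorem Q2753 : ∀ i, i < 2753 → P i := stepQ 2752 Q2752 (allL N2752 (tt N3714 (iv F6069)) (tt N3553 (iv F5751)) (tt N3721 D3721) (tt N2006 (iv D2752)) (tt N3719 (iv F6075)) (tt N3722 D3722))
theorem Q2754 : ∀ i, i < 2754 → P i := stepQ 2753 Q2753 (allL N2753 (tt N3715 (iv F6070)) (tt N3547 (iv F5739)) (tt N2007 F4439) (tt N3722 (iv F6076)) (tt N3544 (iv F5735)) (tt N2006 (iv D2753)))
theorem Q2755 : ∀ i, i < 2755 → P i := stepQ 2754 Q2754 (allL N2754 (tt N3716 (iv F6072)) (tt N3723 D3723) (tt N2008 (iv D2754)) (tt N3724 D3724) (tt N3561 (iv F5766)) (tt N3706 (iv F6058)))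
theorem Q2756 : ∀ i, i < 2756 → P i := stepQ 2755 Q2755 (allL N2755 (tt N3725 D3725) (tt N2009 (iv D2755)) (tt N3723 (iv F6077)) (tt N3726 D3726) (tt N3563 (iv F5770)) (tt N3710 (iv F6064)))
theorem Q2757 : ∀ i, i < 2757 → P i := stepQ 2756 Q2756 (allL N2756 (tt N3078 (iv F5015)) (tt N3726 (iv F6078)) (tt N2726 F4440) (tt N2009 (iv D2756)) (tt N3613 (iv F5865)) (tt N3120 (iv F5106)))
theorem Q2758 : ∀ i, i < 2758 → P i := stepQ 2757 Q2757 (allL N2757 (tt N2012 F4441) (tt N2424 F4442) (tt N2015 F4443) (tt N3727 D3727) (tt N2011 (iv D2757)) (tt N3728 D3728))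
theorem Q2759 : ∀ i, i < 2759 → P i := stepQ 2758 Q2758 (allL N2758 (tt N3727 (iv F6079)) (tt N2013 F4444) (tt N3729 D3729) (tt N2012 (iv D2758)) (tt N3195 (iv F5214)) (tt N3730 D3730))
theorem Q2760 : ∀ i, i < 2760 → P i := stepQ 2759 Q2759 (allL N2759 (tt N3728 (iv F6081)) (tt N2014 F4445) (tt N2017 F4446) (tt N3730 (iv F6086)) (tt N2719 F4447) (tt N2012 (iv D2759)))
theorem Q2761 : ∀ i, i < 2761 → P i := stepQ 2760 Q2760 (allL N2760 (tt N3204 (iv F5227)) (tt N3731 D3731) (tt N2013 (iv D2760)) (tt N3732 D3732) (tt N3197 (iv F5217)) (tt N3733 D3733))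
theorem Q2762 : ∀ i, i < 2762 → P i := stepQ 2761 Q2761 (allL N2761 (tt N3205 (iv F5229)) (tt N3730 (iv F6085)) (tt N3733 (iv F6087)) (tt N2014 F4448) (tt N3734 D3734) (tt N2013 (iv D2761)))
theorem Q2763 : ∀ i, i < 2763 → P i := stepQ 2762 Q2762 (allL N2762 (tt N2016 F4449) (tt N2405 F4450) (tt N3735 D3735) (tt N2015 (iv D2762)) (tt N2404 F4451) (tt N3736 D3736))
theorem Q2764 : ∀ i, i < 2764 → P i := stepQ 2763 Q2763 (allL N2763 (tt N2017 F4452) (tt N2406 F4453) (tt N3728 (iv F6083)) (tt N3736 (iv F6092)) (tt N2716 F4454) (tt N2015 (iv D2763)))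
theorem Q2765 : ∀ i, i < 2765 → P i := stepQ 2764 Q2764 (allL N2764 (tt N3735 (iv F6088)) (tt N3737 D3737) (tt N2016 (iv D2764)) (tt N3738 D3738) (tt N2628 F4455) (tt N3739 D3739))
theorem Q2766 : ∀ i, i < 2766 → P i := stepQ 2765 Q2765 (allL N2765 (tt N3736 (iv F6090)) (tt N2019 F4456) (tt N3739 (iv F6095)) (tt N2017 F4457) (tt N3740 D3740) (tt N2016 (iv D2765)))
theorem Q2767 : ∀ i, i < 2767 → P i := stepQ 2766 Q2766 (allL N2766 (tt N3741 D3741) (tt N2018 (iv D2766)) (tt N3737 (iv F6093)) (tt N3742 D3742) (tt N2629 F4458) (tt N3743 D3743))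
theorem Q2768 : ∀ i, i < 2768 → P i := stepQ 2767 Q2767 (allL N2767 (tt N2692 F4459) (tt N3742 (iv F6101)) (tt N3141 (iv F5143)) (tt N2018 (iv D2767)) (tt N2684 F4460) (tt N3142 (iv F5148)))
theorem Q2769 : ∀ i, i < 2769 → P i := stepQ 2768 Q2768 (allL N2768 (tt N2693 F4461) (tt N3743 (iv F6103)) (tt N2019 F4462) (tt N3142 (iv F5146)) (tt N2689 F4463) (tt N2018 (iv D2768)))
theorem Q2770 : ∀ i, i < 2770 → P i := stepQ 2769 Q2769 (allL N2769 (tt N2387 F4464) (tt N3740 (iv F6096)) (tt N2689 F4465) (tt N2304 F4466) (tt N2019 (iv D2769)) (tt N2303 F4467))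
theorem Q2771 : ∀ i, i < 2771 → P i := stepQ 2770 Q2770 (allL N2770 (tt N2024 F4468) (tt N3744 D3744) (tt N2020 (iv D2770)) (tt N3745 D3745) (tt N2798 (iv F4516)) (tt N3746 D3746))
theorem Q2772 : ∀ i, i < 2772 → P i := stepQ 2771 Q2771 (allL N2771 (tt N2025 F4469) (tt N2030 F4470) (tt N3746 (iv F6108)) (tt N2021 F4471) (tt N3747 D3747) (tt N2020 (iv D2771)))
theorem Q2773 : ∀ i, i < 2773 → P i := stepQ 2772 Q2772 (allL N2772 (tt N2798 (iv F4515)) (tt N3748 D3748) (tt N2022 (iv D2772)) (tt N3749 D3749) (tt N2024 F4472) (tt N3750 D3750))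
theorem Q2774 : ∀ i, i < 2774 → P i := stepQ 2773 Q2773 (allL N2773 (tt N2799 (iv F4517)) (tt N2027 F4473) (tt N3750 (iv F6114)) (tt N2023 F4474) (tt N3751 D3751) (tt N2022 (iv D2773)))
theorem Q2775 : ∀ i, i < 2775 → P i := stepQ 2774 Q2774 (allL N2774 (tt N3752 D3752) (tt N2024 (iv D2774)) (tt N2028 F4475) (tt N3753 D3753) (tt N3748 (iv F6113)) (tt N2092 (iv F4476)))
theorem Q2776 : ∀ i, i < 2776 → P i := stepQ 2775 Q2775 (allL N2775 (tt N3745 (iv F6106)) (tt N3753 (iv F6119)) (tt N3754 D3754) (tt N2024 (iv D2775)) (tt N3755 D3755) (tt N3756 D3756))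
theorem Q2777 : ∀ i, i < 2777 → P i := stepQ 2776 Q2776 (allL N2776 (tt N3746 (iv F6107)) (tt N2092 F4477) (tt N2025 F4478) (tt N3756 (iv F6122)) (tt N3757 D3757) (tt N2024 (iv D2776)))
theorem Q2778 : ∀ i, i < 2778 → P i := stepQ 2777 Q2777 (allL N2777 (tt N3747 (iv F6109)) (tt N2029 F4479) (tt N3757 (iv F6124)) (tt N3747 (iv F6111)) (tt N2025 (iv D2777)) (tt N3751 (iv F6116)))
theorem Q2779 : ∀ i, i < 2779 → P i := stepQ 2778 Q2778 (allL N2778 (tt N3758 D3758) (tt N2026 (iv D2778)) (tt N3748 (iv F6112)) (tt N3759 D3759) (tt N2028 F4480) (tt N3760 D3760))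
theorem Q2780 : ∀ i, i < 2780 → P i := stepQ 2779 Q2779 (allL N2779 (tt N2046 F4481) (tt N3759 (iv F6127)) (tt N3761 D3761) (tt N2026 (iv D2779)) (tt N2096 F4482) (tt N3762 D3762))
theorem Q2781 : ∀ i, i < 2781 → P i := stepQ 2780 Q2780 (allL N2780 (tt N2047 F4483) (tt N3760 (iv F6129)) (tt N2027 F4484) (tt N3762 (iv F6137)) (tt N2095 F4485) (tt N2026 (iv D2780)))
theorem Q2782 : ∀ i, i < 2782 → P i := stepQ 2781 Q2781 (allL N2781 (tt N2048 F4486) (tt N3751 (iv F6115)) (tt N2095 F4487) (tt N2803 (iv F4525)) (tt N2027 (iv D2781)) (tt N2029 F4488))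
theorem Q2783 : ∀ i, i < 2783 → P i := stepQ 2782 Q2782 (allL N2782 (tt N2028 (iv D2782)) (tt N2049 F4489) (tt N3752 (iv F6117)) (tt N2091 F4490) (tt N3758 (iv F6126)) (tt N2090 F4491))
theorem Q2784 : ∀ i, i < 2784 → P i := stepQ 2783 Q2783 (allL N2783 (tt N2040 F4492) (tt N3747 (iv F6110)) (tt N3763 D3763) (tt N2029 (iv D2783)) (tt N2030 F4493) (tt N2803 (iv F4526)))
theorem Q2785 : ∀ i, i < 2785 → P i := stepQ 2784 Q2784 (allL N2784 (tt N2039 F4494) (tt N3764 D3764) (tt N2030 (iv D2784)) (tt N2056 F4495) (tt N3763 (iv F6139)) (tt N2031 F4496))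
theorem Q2786 : ∀ i, i < 2786 → P i := stepQ 2785 Q2785 (allL N2785 (tt N3765 D3765) (tt N2031 (iv D2785)) (tt N3744 (iv F6105)) (tt N3674 (iv F5990)) (tt N2800 (iv F4520)) (tt N3764 (iv F6141)))
theorem Q2787 : ∀ i, i < 2787 → P i := stepQ 2786 Q2786 (allL N2786 (tt N2032 (iv D2786)) (tt N2054 F4497) (tt N2892 (iv F4672)) (tt N3766 D3766) (tt N2034 F4498) (tt N2246 F4499))
theorem Q2788 : ∀ i, i < 2788 → P i := stepQ 2787 Q2787 (allL N2787 (tt N3766 (iv F6143)) (tt N2033 F4500) (tt N3767 D3767) (tt N2032 (iv D2787)) (tt N2887 (iv F4660)) (tt N3661 (iv F5964)))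
theorem Q2789 : ∀ i, i < 2789 → P i := stepQ 2788 Q2788 (allL N2788 (tt N2056 F4501) (tt N3768 D3768) (tt N2033 (iv D2788)) (tt N2039 F4502) (tt N2889 (iv F4664)) (tt N2038 F4503))
theorem Q2790 : ∀ i, i < 2790 → P i := stepQ 2789 Q2789 (allL N2789 (tt N3769 D3769) (tt N2035 (iv D2789)) (tt N2045 F4504) (tt N3770 D3770) (tt N2037 F4505) (tt N3771 D3771))
theorem Q2791 : ∀ i, i < 2791 → P i := stepQ 2790 Q2790 (allL N2790 (tt N2801 (iv F4521)) (tt N3770 (iv F6150)) (tt N2809 (iv F4534)) (tt N2035 (iv D2790)) (tt N3772 D3772) (tt N2807 F4531))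
theorem Q2792 : ∀ i, i < 2792 → P i := stepQ 2791 Q2791 (allL N2791 (tt N2802 (iv F4522)) (tt N3771 (iv F6151)) (tt N2036 F4506) (tt N2807 (iv F4530)) (tt N3773 D3773) (tt N2035 (iv D2791)))
theorem Q2793 : ∀ i, i < 2793 → P i := stepQ 2792 Q2792 (allL N2792 (tt N2803 (iv F4524)) (tt N2048 F4507) (tt N3773 (iv F6154)) (tt N2048 F4508) (tt N2036 (iv D2792)) (tt N2040 F4509))
theorem Q2794 : ∀ i, i < 2794 → P i := stepQ 2793 Q2793 (allL N2793 (tt N2037 (iv D2793)) (tt N3765 (iv F6142)) (tt N2049 F4510) (tt N3774 D3774) (tt N3769 (iv F6149)) (tt N3775 D3775))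
theorem Q2795 : ∀ i, i < 2795 → P i := stepQ 2794 Q2794 (allL N2794 (tt N3774 (iv F6156)) (tt N2038 F4511) (tt N3776 D3776) (tt N2037 (iv D2794)) (tt N3777 D3777) (tt N3768 (iv F6147)))
theorem Q2796 : ∀ i, i < 2796 → P i := stepQ 2795 Q2795 (allL N2795 (tt N3775 (iv F6157)) (tt N2039 F4512) (tt N2051 F4513) (tt N3768 (iv F6146)) (tt N3778 D3778) (tt N2037 (iv D2795)))
theorem Q2797 : ∀ i, i < 2797 → P i := stepQ 2796 Q2796 (allL N2796 (tt N3673 (iv F5987)) (tt N3777 (iv F6159)) (tt N3596 F5837) (tt N3772 (iv F6153)) (tt N2038 (iv D2796)) (tt N3779 D3779))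
theorem Q2798 : ∀ i, i < 2798 → P i := stepQ 2797 Q2797 (allL N2797 (tt N3763 (iv F6138)) (tt N3778 (iv F6160)) (tt N2040 F4514) (tt N3780 D3780) (tt N2039 (iv D2797)) (tt N3773 (iv F6155)))
theorem Q2799 : ∀ i, i < 2799 → P i := stepQ 2798 Q2798 (allL N2798 (tt N2772 F4515) (tt N3781 D3781) (tt N2041 (iv D2798)) (tt N3782 D3782) (tt N2770 F4516) (tt N3783 D3783))
theorem Q2800 : ∀ i, i < 2800 → P i := stepQ 2799 Q2799 (allL N2799 (tt N2773 F4517) (tt N2044 F4518) (tt N3783 (iv F6166)) (tt N2042 F4519) (tt N3784 D3784) (tt N2041 (iv D2799)))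
theorem Q2801 : ∀ i, i < 2801 → P i := stepQ 2800 Q2800 (allL N2800 (tt N3785 D3785) (tt N2043 (iv D2800)) (tt N3781 (iv F6162)) (tt N3786 D3786) (tt N2785 F4520) (tt N3787 D3787))
theorem Q2802 : ∀ i, i < 2802 → P i := stepQ 2801 Q2801 (allL N2801 (tt N2790 F4521) (tt N3786 (iv F6173)) (tt N3762 (iv F6136)) (tt N2043 (iv D2801)) (tt N3788 D3788) (tt N3761 F6134))
theorem Q2803 : ∀ i, i < 2803 → P i := stepQ 2802 Q2802 (allL N2802 (tt N2791 F4522) (tt N3787 (iv F6174)) (tt N2044 F4523) (tt N3761 (iv F6132)) (tt N3789 D3789) (tt N2043 (iv D2802)))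
theorem Q2804 : ∀ i, i < 2804 → P i := stepQ 2803 Q2803 (allL N2803 (tt N2792 F4524) (tt N3784 (iv F6168)) (tt N3789 (iv F6178)) (tt N2781 F4525) (tt N2044 (iv D2803)) (tt N2783 F4526))
theorem Q2805 : ∀ i, i < 2805 → P i := stepQ 2804 Q2804 (allL N2804 (tt N2045 (iv D2804)) (tt N3758 (iv F6125)) (tt N3769 (iv F6148)) (tt N3790 D3790) (tt N2049 F4527) (tt N3791 D3791))
theorem Q2806 : ∀ i, i < 2806 → P i := stepQ 2805 Q2805 (allL N2805 (tt N3790 (iv F6180)) (tt N2046 F4528) (tt N3792 D3792) (tt N2045 (iv D2805)) (tt N3793 D3793) (tt N3794 D3794))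
theorem Q2807 : ∀ i, i < 2807 → P i := stepQ 2806 Q2806 (allL N2806 (tt N3791 (iv F6181)) (tt N2047 F4529) (tt N3771 (iv F6152)) (tt N3794 (iv F6185)) (tt N3795 D3795) (tt N2045 (iv D2806)))
theorem Q2808 : ∀ i, i < 2808 → P i := stepQ 2807 Q2807 (allL N2807 (tt N3761 (iv F6131)) (tt N3796 D3796) (tt N2046 (iv D2807)) (tt N2791 F4530) (tt N3797 D3797) (tt N2790 (iv F4531)))
theorem Q2809 : ∀ i, i < 2809 → P i := stepQ 2808 Q2808 (allL N2808 (tt N2096 F4532) (tt N3793 (iv F6182)) (tt N3797 (iv F6191)) (tt N2052 F4533) (tt N2046 (iv D2808)) (tt N3798 D3798))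
theorem Q2810 : ∀ i, i < 2810 → P i := stepQ 2809 Q2809 (allL N2809 (tt N3762 (iv F6135)) (tt N3794 (iv F6184)) (tt N2790 F4534) (tt N2047 F4535) (tt N3799 D3799) (tt N2046 (iv D2809)))
theorem Q2811 : ∀ i, i < 2811 → P i := stepQ 2810 Q2810 (allL N2810 (tt N2095 F4536) (tt N3795 (iv F6186)) (tt N2048 F4537) (tt N3800 D3800) (tt N2047 (iv D2810)) (tt N2053 F4538))
theorem Q2812 : ∀ i, i < 2812 → P i := stepQ 2811 Q2811 (allL N2811 (tt N2050 F4539) (tt N2091 F4540) (tt N3801 D3801) (tt N2049 (iv D2811)) (tt N3802 D3802) (tt N2072 (iv F4541)))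
theorem Q2813 : ∀ i, i < 2813 → P i := stepQ 2812 Q2812 (allL N2812 (tt N2051 F4542) (tt N2090 F4543) (tt N3775 (iv F6158)) (tt N2072 F4544) (tt N3803 D3803) (tt N2049 (iv D2812)))
theorem Q2814 : ∀ i, i < 2814 → P i := stepQ 2813 Q2813 (allL N2813 (tt N3801 (iv F6197)) (tt N2066 F4545) (tt N2050 (iv D2813)) (tt N3804 D3804) (tt N3805 D3805) (tt N2064 F4546))
theorem Q2815 : ∀ i, i < 2815 → P i := stepQ 2814 Q2814 (allL N2814 (tt N3802 (iv F6199)) (tt N2052 F4547) (tt N3805 (iv F6206)) (tt N3793 (iv F6183)) (tt N2050 (iv D2814)) (tt N3806 D3806))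
theorem Q2816 : ∀ i, i < 2816 → P i := stepQ 2815 Q2815 (allL N2815 (tt N3803 (iv F6201)) (tt N2053 F4548) (tt N3778 (iv F6161)) (tt N3807 D3807) (tt N2051 (iv D2815)) (tt N3795 (iv F6187)))
theorem Q2817 : ∀ i, i < 2817 → P i := stepQ 2816 Q2816 (allL N2816 (tt N2089 F4549) (tt N3806 (iv F6207)) (tt N2071 F4550) (tt N3798 (iv F6193)) (tt N2070 F4551) (tt N2052 (iv D2816)))
theorem Q2818 : ∀ i, i < 2818 → P i := stepQ 2817 Q2817 (allL N2817 (tt N2087 F4552) (tt N3807 (iv F6209)) (tt N3808 D3808) (tt N2053 (iv D2817)) (tt N2069 F4553) (tt N3800 (iv F6196)))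
theorem Q2819 : ∀ i, i < 2819 → P i := stepQ 2818 Q2818 (allL N2818 (tt N2055 F4554) (tt N3766 (iv F6144)) (tt N2219 F4556) (tt N2054 (iv D2818)) (tt N3809 D3809) (tt N2247 F4555))
theorem Q2820 : ∀ i, i < 2820 → P i := stepQ 2819 Q2819 (allL N2819 (tt N2219 F4557) (tt N3810 D3810) (tt N2055 (iv D2819)) (tt N2216 F4559) (tt N3811 D3811) (tt N2248 F4558))
theorem Q2821 : ∀ i, i < 2821 → P i := stepQ 2820 Q2820 (allL N2820 (tt N3809 (iv F6213)) (tt N2057 F4560) (tt N3811 (iv F6220)) (tt N2060 F4561) (tt N2055 (iv D2820)) (tt N3812 D3812))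
theorem Q2822 : ∀ i, i < 2822 → P i := stepQ 2821 Q2821 (allL N2821 (tt N3813 D3813) (tt N2056 (iv D2821)) (tt N3810 (iv F6216)) (tt N3764 (iv F6140)) (tt N3814 D3814) (tt N3674 (iv F5991)))
theorem Q2823 : ∀ i, i < 2823 → P i := stepQ 2822 Q2822 (allL N2822 (tt N2889 (iv F4663)) (tt N3814 (iv F6224)) (tt N2057 F4562) (tt N3815 D3815) (tt N2056 (iv D2822)) (tt N3816 D3816))
theorem Q2824 : ∀ i, i < 2824 → P i := stepQ 2823 Q2823 (allL N2823 (tt N2890 (iv F4665)) (tt N3812 (iv F6221)) (tt N3816 (iv F6227)) (tt N2061 F4563) (tt N3672 (iv F5985)) (tt N2057 (iv D2823)))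
theorem Q2825 : ∀ i, i < 2825 → P i := stepQ 2824 Q2824 (allL N2824 (tt N2059 F4564) (tt N3817 D3817) (tt N2058 (iv D2824)) (tt N2110 F4565) (tt N3818 D3818) (tt N2097 F4566))
theorem Q2826 : ∀ i, i < 2826 → P i := stepQ 2825 Q2825 (allL N2825 (tt N2060 F4567) (tt N2886 (iv F4658)) (tt N3818 (iv F6232)) (tt N3809 (iv F6215)) (tt N2058 (iv D2825)) (tt N3819 D3819))
theorem Q2827 : ∀ i, i < 2827 → P i := stepQ 2826 Q2826 (allL N2826 (tt N2110 F4568) (tt N2846 (iv F4602)) (tt N2108 F4569) (tt N2059 (iv D2826)) (tt N3820 D3820) (tt N2100 F4570))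
theorem Q2828 : ∀ i, i < 2828 → P i := stepQ 2827 Q2827 (allL N2827 (tt N3818 (iv F6231)) (tt N2847 (iv F4603)) (tt N2060 F4571) (tt N3821 D3821) (tt N2059 (iv D2827)) (tt N3822 D3822))
theorem Q2829 : ∀ i, i < 2829 → P i := stepQ 2828 Q2828 (allL N2828 (tt N3819 (iv F6233)) (tt N2061 F4572) (tt N3822 (iv F6237)) (tt N3812 (iv F6222)) (tt N2102 F4573) (tt N2060 (iv D2828)))
theorem Q2830 : ∀ i, i < 2830 → P i := stepQ 2829 Q2829 (allL N2829 (tt N3823 D3823) (tt N2062 (iv D2829)) (tt N2068 F4574) (tt N3824 D3824) (tt N2064 F4575) (tt N3825 D3825))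
theorem Q2831 : ∀ i, i < 2831 → P i := stepQ 2830 Q2830 (allL N2830 (tt N2652 F4576) (tt N3824 (iv F6242)) (tt N3826 D3826) (tt N2062 (iv D2830)) (tt N3827 D3827) (tt N3826 F6247))
theorem Q2832 : ∀ i, i < 2832 → P i := stepQ 2831 Q2831 (allL N2831 (tt N2653 F4577) (tt N3825 (iv F6243)) (tt N2063 F4578) (tt N3826 (iv F6246)) (tt N3828 D3828) (tt N2062 (iv D2831)))
theorem Q2833 : ∀ i, i < 2833 → P i := stepQ 2832 Q2832 (allL N2832 (tt N2654 F4579) (tt N2071 F4580) (tt N3828 (iv F6251)) (tt N2852 (iv F4613)) (tt N2063 (iv D2832)) (tt N2067 F4581))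
theorem Q2834 : ∀ i, i < 2834 → P i := stepQ 2833 Q2833 (allL N2833 (tt N2064 (iv D2833)) (tt N3556 (iv F5756)) (tt N2072 F4582) (tt N3829 D3829) (tt N3823 (iv F6241)) (tt N3801 (iv F6198)))
theorem Q2835 : ∀ i, i < 2835 → P i := stepQ 2834 Q2834 (allL N2834 (tt N3829 (iv F6253)) (tt N2065 F4583) (tt N3830 D3830) (tt N2064 (iv D2834)) (tt N3831 D3831) (tt N3804 (iv F6204)))
theorem Q2836 : ∀ i, i < 2836 → P i := stepQ 2835 Q2835 (allL N2835 (tt N3491 (iv F5656)) (tt N3832 D3832) (tt N2065 (iv D2835)) (tt N2130 F4584) (tt N3833 D3833) (tt N2132 (iv F4585)))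
theorem Q2837 : ∀ i, i < 2837 → P i := stepQ 2836 Q2836 (allL N2836 (tt N3558 (iv F5759)) (tt N3831 (iv F6254)) (tt N3833 (iv F6257)) (tt N3827 (iv F6249)) (tt N2065 (iv D2836)) (tt N3834 D3834))
theorem Q2838 : ∀ i, i < 2838 → P i := stepQ 2837 Q2837 (allL N2837 (tt N3489 (iv F5651)) (tt N3804 (iv F6203)) (tt N2132 F4586) (tt N2066 F4587) (tt N3835 D3835) (tt N2065 (iv D2837)))
theorem Q2839 : ∀ i, i < 2839 → P i := stepQ 2838 Q2838 (allL N2838 (tt N3554 (iv F5752)) (tt N3805 (iv F6205)) (tt N2067 F4588) (tt N3836 D3836) (tt N2066 (iv D2838)) (tt N3828 (iv F6252)))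
theorem Q2840 : ∀ i, i < 2840 → P i := stepQ 2839 Q2839 (allL N2839 (tt N2068 (iv D2839)) (tt N2083 F4589) (tt N3823 (iv F6240)) (tt N3837 D3837) (tt N2072 F4590) (tt N3838 D3838))
theorem Q2841 : ∀ i, i < 2841 → P i := stepQ 2840 Q2840 (allL N2840 (tt N3837 (iv F6259)) (tt N2069 F4591) (tt N3839 D3839) (tt N2068 (iv D2840)) (tt N3807 (iv F6210)) (tt N3840 D3840))
theorem Q2842 : ∀ i, i < 2842 → P i := stepQ 2841 Q2841 (allL N2841 (tt N3838 (iv F6261)) (tt N2070 F4592) (tt N3825 (iv F6244)) (tt N3840 (iv F6264)) (tt N3806 (iv F6208)) (tt N2068 (iv D2841)))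
theorem Q2843 : ∀ i, i < 2843 → P i := stepQ 2842 Q2842 (allL N2842 (tt N2086 F4593) (tt N3841 D3841) (tt N2069 (iv D2842)) (tt N2081 F4594) (tt N3808 (iv F6212)) (tt N2080 (iv F4595)))
theorem Q2844 : ∀ i, i < 2844 → P i := stepQ 2843 Q2843 (allL N2843 (tt N2088 F4596) (tt N3840 (iv F6263)) (tt N2080 F4597) (tt N2070 F4598) (tt N3842 D3842) (tt N2069 (iv D2843)))
theorem Q2845 : ∀ i, i < 2845 → P i := stepQ 2844 Q2844 (allL N2844 (tt N2074 F4599) (tt N3843 D3843) (tt N2073 (iv D2844)) (tt N3844 D3844) (tt N3845 D3845) (tt N2880 (iv F4649)))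
theorem Q2846 : ∀ i, i < 2846 → P i := stepQ 2845 Q2845 (allL N2845 (tt N2075 F4600) (tt N2098 F4601) (tt N3845 (iv F6273)) (tt N3657 (iv F5958)) (tt N2073 (iv D2845)) (tt N3846 D3846))
theorem Q2847 : ∀ i, i < 2847 → P i := stepQ 2846 Q2846 (allL N2846 (tt N3844 (iv F6271)) (tt N2826 F4602) (tt N3847 D3847) (tt N2074 (iv D2846)) (tt N3848 D3848) (tt N2881 (iv F4651)))
theorem Q2848 : ∀ i, i < 2848 → P i := stepQ 2847 Q2847 (allL N2847 (tt N3845 (iv F6272)) (tt N2827 F4603) (tt N2075 F4604) (tt N3849 D3849) (tt N2074 (iv D2847)) (tt N3850 D3850))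
theorem Q2849 : ∀ i, i < 2849 → P i := stepQ 2848 Q2848 (allL N2848 (tt N3846 (iv F6274)) (tt N2076 F4605) (tt N3850 (iv F6279)) (tt N3660 (iv F5961)) (tt N2888 (iv F4662)) (tt N2075 (iv D2848)))
theorem Q2850 : ∀ i, i < 2850 → P i := stepQ 2849 Q2849 (allL N2849 (tt N3851 D3851) (tt N2077 (iv D2849)) (tt N2079 F4606) (tt N3852 D3852) (tt N2602 F4607) (tt N3853 D3853))
theorem Q2851 : ∀ i, i < 2851 → P i := stepQ 2850 Q2850 (allL N2850 (tt N2607 F4608) (tt N3852 (iv F6283)) (tt N3854 D3854) (tt N2077 (iv D2850)) (tt N3855 D3855) (tt N3854 F6288))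
theorem Q2852 : ∀ i, i < 2852 → P i := stepQ 2851 Q2851 (allL N2851 (tt N2608 F4609) (tt N3853 (iv F6284)) (tt N2078 F4610) (tt N3854 (iv F6287)) (tt N3856 D3856) (tt N2077 (iv D2851)))
theorem Q2853 : ∀ i, i < 2853 → P i := stepQ 2852 Q2852 (allL N2852 (tt N2609 F4611) (tt N2082 F4612) (tt N3856 (iv F6292)) (tt N2832 F4613) (tt N2078 (iv D2852)) (tt N2605 F4614))
theorem Q2854 : ∀ i, i < 2854 → P i := stepQ 2853 Q2853 (allL N2853 (tt N2079 (iv D2853)) (tt N2635 F4615) (tt N3851 (iv F6281)) (tt N3857 D3857) (tt N2630 F4616) (tt N3858 D3858))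
theorem Q2855 : ∀ i, i < 2855 → P i := stepQ 2854 Q2854 (allL N2854 (tt N3857 (iv F6294)) (tt N2080 F4617) (tt N3859 D3859) (tt N2079 (iv D2854)) (tt N3860 D3860) (tt N3841 (iv F6266)))
theorem Q2856 : ∀ i, i < 2856 → P i := stepQ 2855 Q2855 (allL N2855 (tt N3858 (iv F6296)) (tt N2081 F4618) (tt N3853 (iv F6285)) (tt N3841 (iv F6265)) (tt N3861 D3861) (tt N2079 (iv D2855)))
theorem Q2857 : ∀ i, i < 2857 → P i := stepQ 2856 Q2856 (allL N2856 (tt N2638 F4619) (tt N3860 (iv F6298)) (tt N3842 (iv F6268)) (tt N2633 F4620) (tt N2080 (iv D2856)) (tt N3862 D3862))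
theorem Q2858 : ∀ i, i < 2858 → P i := stepQ 2857 Q2857 (allL N2857 (tt N2639 F4621) (tt N3861 (iv F6300)) (tt N2082 F4622) (tt N3863 D3863) (tt N2081 (iv D2857)) (tt N2634 F4623))
theorem Q2859 : ∀ i, i < 2859 → P i := stepQ 2858 Q2858 (allL N2858 (tt N2084 F4624) (tt N3837 (iv F6260)) (tt N3864 D3864) (tt N2083 (iv D2858)) (tt N3865 D3865) (tt N3866 D3866))
theorem Q2860 : ∀ i, i < 2860 → P i := stepQ 2859 Q2859 (allL N2859 (tt N2085 F4625) (tt N3838 (iv F6262)) (tt N3632 (iv F5904)) (tt N3866 (iv F6310)) (tt N3867 D3867) (tt N2083 (iv D2859)))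
theorem Q2861 : ∀ i, i < 2861 → P i := stepQ 2860 Q2860 (allL N2860 (tt N3864 (iv F6306)) (tt N3868 D3868) (tt N2084 (iv D2860)) (tt N3869 D3869) (tt N3870 D3870) (tt N3871 D3871))
theorem Q2862 : ∀ i, i < 2862 → P i := stepQ 2861 Q2861 (allL N2861 (tt N3865 (iv F6307)) (tt N2087 F4626) (tt N3870 (iv F6315)) (tt N2093 F4627) (tt N2084 (iv D2861)) (tt N3872 D3872))
theorem Q2863 : ∀ i, i < 2863 → P i := stepQ 2862 Q2862 (allL N2862 (tt N3866 (iv F6309)) (tt N2088 F4628) (tt N3871 (iv F6317)) (tt N2085 F4629) (tt N3873 D3873) (tt N2084 (iv D2862)))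
theorem Q2864 : ∀ i, i < 2864 → P i := stepQ 2863 Q2863 (allL N2863 (tt N3867 (iv F6311)) (tt N2089 F4630) (tt N3630 (iv F5896)) (tt N3874 D3874) (tt N2085 (iv D2863)) (tt N2094 F4631))
theorem Q2865 : ∀ i, i < 2865 → P i := stepQ 2864 Q2864 (allL N2864 (tt N3875 D3875) (tt N2086 (iv D2864)) (tt N3868 (iv F6313)) (tt N2637 F4632) (tt N3876 D3876) (tt N2636 F4633))
theorem Q2866 : ∀ i, i < 2866 → P i := stepQ 2865 Q2865 (allL N2865 (tt N3808 (iv F6211)) (tt N3876 (iv F6325)) (tt N2087 F4634) (tt N3877 D3877) (tt N2086 (iv D2865)) (tt N3878 D3878))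
theorem Q2867 : ∀ i, i < 2867 → P i := stepQ 2866 Q2866 (allL N2866 (tt N3800 (iv F6195)) (tt N3872 (iv F6318)) (tt N3878 (iv F6327)) (tt N2095 F4635) (tt N3879 D3879) (tt N2087 (iv D2866)))
theorem Q2868 : ∀ i, i < 2868 → P i := stepQ 2867 Q2867 (allL N2867 (tt N3842 (iv F6267)) (tt N3873 (iv F6320)) (tt N2638 F4636) (tt N3880 D3880) (tt N2088 (iv D2867)) (tt N3879 (iv F6330)))
theorem Q2869 : ∀ i, i < 2869 → P i := stepQ 2868 Q2868 (allL N2868 (tt N3798 (iv F6192)) (tt N3874 (iv F6321)) (tt N3881 D3881) (tt N2089 (iv D2868)) (tt N3880 (iv F6331)) (tt N2096 F4637))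
theorem Q2870 : ∀ i, i < 2870 → P i := stepQ 2869 Q2869 (allL N2869 (tt N2092 F4638) (tt N3882 D3882) (tt N2090 (iv D2869)) (tt N3883 D3883) (tt N3884 D3884) (tt N3752 (iv F6118)))
theorem Q2871 : ∀ i, i < 2871 → P i := stepQ 2870 Q2870 (allL N2870 (tt N2093 F4639) (tt N3803 (iv F6202)) (tt N3884 (iv F6335)) (tt N3865 (iv F6308)) (tt N2090 (iv D2870)) (tt N3885 D3885))
theorem Q2872 : ∀ i, i < 2872 → P i := stepQ 2871 Q2871 (allL N2871 (tt N2094 F4640) (tt N3802 (iv F6200)) (tt N3645 (iv F5937)) (tt N3886 D3886) (tt N2091 (iv D2871)) (tt N3867 (iv F6312)))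
theorem Q2873 : ∀ i, i < 2873 → P i := stepQ 2872 Q2872 (allL N2872 (tt N3883 (iv F6333)) (tt N3756 (iv F6121)) (tt N3887 D3887) (tt N2092 (iv D2872)) (tt N3888 D3888) (tt N3753 (iv F6120)))
theorem Q2874 : ∀ i, i < 2874 → P i := stepQ 2873 Q2873 (allL N2873 (tt N3884 (iv F6334)) (tt N3757 (iv F6123)) (tt N2093 F4641) (tt N3889 D3889) (tt N2092 (iv D2873)) (tt N3890 D3890))
theorem Q2875 : ∀ i, i < 2875 → P i := stepQ 2874 Q2874 (allL N2874 (tt N3885 (iv F6336)) (tt N2095 F4642) (tt N3890 (iv F6338)) (tt N3872 (iv F6319)) (tt N3760 (iv F6130)) (tt N2093 (iv D2874)))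
theorem Q2876 : ∀ i, i < 2876 → P i := stepQ 2875 Q2875 (allL N2875 (tt N3886 (iv F6337)) (tt N2096 F4643) (tt N3891 D3891) (tt N2094 (iv D2875)) (tt N3759 (iv F6128)) (tt N3874 (iv F6322)))
theorem Q2877 : ∀ i, i < 2877 → P i := stepQ 2876 Q2876 (allL N2876 (tt N3797 (iv F6190)) (tt N3892 D3892) (tt N2096 (iv D2876)) (tt N3893 D3893) (tt N3761 (iv F6133)) (tt N3881 (iv F6332)))
theorem Q2878 : ∀ i, i < 2878 → P i := stepQ 2877 Q2877 (allL N2877 (tt N3894 D3894) (tt N2097 (iv D2877)) (tt N3843 (iv F6270)) (tt N2595 F4644) (tt N3895 D3895) (tt N3817 (iv F6230)))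
theorem Q2879 : ∀ i, i < 2879 → P i := stepQ 2878 Q2878 (allL N2878 (tt N2101 F4645) (tt N3895 (iv F6344)) (tt N2098 F4646) (tt N3896 D3896) (tt N2097 (iv D2878)) (tt N3897 D3897))
theorem Q2880 : ∀ i, i < 2880 → P i := stepQ 2879 Q2879 (allL N2879 (tt N2102 F4647) (tt N3846 (iv F6275)) (tt N3897 (iv F6348)) (tt N3662 (iv F5967)) (tt N3819 (iv F6234)) (tt N2098 (iv D2879)))
theorem Q2881 : ∀ i, i < 2881 → P i := stepQ 2880 Q2880 (allL N2880 (tt N2099 (iv D2880)) (tt N3894 (iv F6340)) (tt N2103 F4648) (tt N3898 D3898) (tt N3899 D3899) (tt N2844 F4649))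
theorem Q2882 : ∀ i, i < 2882 → P i := stepQ 2881 Q2881 (allL N2881 (tt N3898 (iv F6349)) (tt N2100 F4650) (tt N3900 D3900) (tt N2099 (iv D2881)) (tt N3901 D3901) (tt N2846 F4651))
theorem Q2883 : ∀ i, i < 2883 → P i := stepQ 2882 Q2882 (allL N2882 (tt N3899 (iv F6353)) (tt N2101 F4652) (tt N2104 F4653) (tt N3902 D3902) (tt N2099 (iv D2882)) (tt N3903 D3903))
theorem Q2884 : ∀ i, i < 2884 → P i := stepQ 2883 Q2883 (allL N2883 (tt N2596 F4654) (tt N3901 (iv F6359)) (tt N2594 F4655) (tt N3904 D3904) (tt N2100 (iv D2883)) (tt N3905 D3905))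
theorem Q2885 : ∀ i, i < 2885 → P i := stepQ 2884 Q2884 (allL N2884 (tt N3896 (iv F6345)) (tt N3902 (iv F6360)) (tt N3906 D3906) (tt N2101 (iv D2884)) (tt N3904 (iv F6365)) (tt N3907 D3907))
theorem Q2886 : ∀ i, i < 2886 → P i := stepQ 2885 Q2885 (allL N2885 (tt N3897 (iv F6347)) (tt N3903 (iv F6361)) (tt N2102 F4656) (tt N3907 (iv F6368)) (tt N3822 (iv F6238)) (tt N2101 (iv D2885)))
theorem Q2887 : ∀ i, i < 2887 → P i := stepQ 2886 Q2886 (allL N2886 (tt N2104 F4657) (tt N2825 F4658) (tt N3899 (iv F6354)) (tt N3908 D3908) (tt N2103 (iv D2886)) (tt N3909 D3909))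
theorem Q2888 : ∀ i, i < 2888 → P i := stepQ 2887 Q2887 (allL N2887 (tt N3908 (iv F6369)) (tt N2105 F4659) (tt N3910 D3910) (tt N2104 (iv D2887)) (tt N2787 F4660) (tt N3911 D3911))
theorem Q2889 : ∀ i, i < 2889 → P i := stepQ 2888 Q2888 (allL N2888 (tt N3909 (iv F6372)) (tt N2106 F4661) (tt N3903 (iv F6362)) (tt N3911 (iv F6377)) (tt N2848 F4662) (tt N2104 (iv D2888)))
theorem Q2890 : ∀ i, i < 2890 → P i := stepQ 2889 Q2889 (allL N2889 (tt N2822 F4663) (tt N3912 D3912) (tt N2105 (iv D2889)) (tt N3913 D3913) (tt N2788 F4664) (tt N3914 D3914))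
theorem Q2891 : ∀ i, i < 2891 → P i := stepQ 2890 Q2890 (allL N2890 (tt N2823 F4665) (tt N3911 (iv F6376)) (tt N3914 (iv F6382)) (tt N2106 F4666) (tt N3915 D3915) (tt N2105 (iv D2890)))
theorem Q2892 : ∀ i, i < 2892 → P i := stepQ 2891 Q2891 (allL N2891 (tt N2521 F4667) (tt N2108 F4668) (tt N3916 D3916) (tt N2107 (iv D2891)) (tt N3917 D3917) (tt N2572 F4669))
theorem Q2893 : ∀ i, i < 2893 → P i := stepQ 2892 Q2892 (allL N2892 (tt N2539 F4670) (tt N2109 F4671) (tt N2786 F4672) (tt N3918 D3918) (tt N2107 (iv D2892)) (tt N2396 F4673))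
theorem Q2894 : ∀ i, i < 2894 → P i := stepQ 2893 Q2893 (allL N2893 (tt N2111 F4674) (tt N3917 (iv F6393)) (tt N3820 (iv F6236)) (tt N3919 D3919) (tt N2108 (iv D2893)) (tt N3920 D3920))
theorem Q2895 : ∀ i, i < 2895 → P i := stepQ 2894 Q2894 (allL N2894 (tt N2112 F4675) (tt N3918 (iv F6395)) (tt N2413 F4677) (tt N2109 (iv D2894)) (tt N3919 (iv F6398)) (tt N2398 F4676))
theorem Q2896 : ∀ i, i < 2896 → P i := stepQ 2895 Q2895 (allL N2895 (tt N3921 D3921) (tt N2110 (iv D2895)) (tt N2495 F4678) (tt N3817 (iv F6229)) (tt N3922 D3922) (tt N2595 F4679))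
theorem Q2897 : ∀ i, i < 2897 → P i := stepQ 2896 Q2896 (allL N2896 (tt N3820 (iv F6235)) (tt N3922 (iv F6406)) (tt N2111 F4680) (tt N3923 D3923) (tt N2110 (iv D2896)) (tt N3924 D3924))
theorem Q2898 : ∀ i, i < 2898 → P i := stepQ 2897 Q2897 (allL N2897 (tt N3919 (iv F6397)) (tt N2561 F4681) (tt N3925 D3925) (tt N2111 (iv D2897)) (tt N2112 F4682) (tt N3926 D3926))
theorem Q2899 : ∀ i, i < 2899 → P i := stepQ 2898 Q2898 (allL N2898 (tt N3920 (iv F6400)) (tt N2562 F4683) (tt N3924 (iv F6408)) (tt N3926 (iv F6413)) (tt N2597 F4684) (tt N2111 (iv D2898)))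
theorem Q2900 : ∀ i, i < 2900 → P i := stepQ 2899 Q2899 (allL N2899 (tt N2413 F4685) (tt N3927 D3927) (tt N2112 (iv D2899)) (tt N2407 F4687) (tt N3925 (iv F6411)) (tt N2403 F4686))
theorem Q2901 : ∀ i, i < 2901 → P i := stepQ 2900 Q2900 (allL N2900 (tt N3928 D3928) (tt N2113 (iv D2900)) (tt N2149 F4688) (tt N3929 D3929) (tt N2115 F4689) (tt N3930 D3930))
theorem Q2902 : ∀ i, i < 2902 → P i := stepQ 2901 Q2901 (allL N2901 (tt N2120 F4690) (tt N3929 (iv F6421)) (tt N2438 F4691) (tt N2113 (iv D2901)) (tt N3931 D3931) (tt N2436 (iv F4692)))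
theorem Q2903 : ∀ i, i < 2903 → P i := stepQ 2902 Q2902 (allL N2902 (tt N2121 F4693) (tt N3930 (iv F6423)) (tt N2114 F4694) (tt N2436 F4695) (tt N3932 D3932) (tt N2113 (iv D2902)))
theorem Q2904 : ∀ i, i < 2904 → P i := stepQ 2903 Q2903 (allL N2903 (tt N2122 F4696) (tt N2152 F4697) (tt N3932 (iv F6430)) (tt N2432 F4698) (tt N2114 (iv D2903)) (tt N2118 F4699))
theorem Q2905 : ∀ i, i < 2905 → P i := stepQ 2904 Q2904 (allL N2904 (tt N2115 (iv D2904)) (tt N2123 F4700) (tt N2153 F4701) (tt N3933 D3933) (tt N3928 (iv F6420)) (tt N2308 (iv F4702)))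
theorem Q2906 : ∀ i, i < 2906 → P i := stepQ 2905 Q2905 (allL N2905 (tt N3933 (iv F6432)) (tt N2116 F4703) (tt N3717 (iv F6073)) (tt N2115 (iv D2905)) (tt N3934 D3934) (tt N3549 (iv F5745)))
theorem Q2907 : ∀ i, i < 2907 → P i := stepQ 2906 Q2906 (allL N2906 (tt N2308 F4704) (tt N2117 F4705) (tt N2155 F4706) (tt N3549 (iv F5744)) (tt N3935 D3935) (tt N2115 (iv D2906)))
theorem Q2908 : ∀ i, i < 2908 → P i := stepQ 2907 Q2907 (allL N2907 (tt N2126 F4707) (tt N3934 (iv F6435)) (tt N3552 (iv F5750)) (tt N3931 (iv F6428)) (tt N2116 (iv D2907)) (tt N3936 D3936))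
theorem Q2909 : ∀ i, i < 2909 → P i := stepQ 2908 Q2908 (allL N2908 (tt N2128 F4708) (tt N3935 (iv F6437)) (tt N2118 F4709) (tt N3937 D3937) (tt N2117 (iv D2908)) (tt N3932 (iv F6431)))
theorem Q2910 : ∀ i, i < 2910 → P i := stepQ 2909 Q2909 (allL N2909 (tt N2119 (iv D2909)) (tt N3928 (iv F6418)) (tt N2133 F4710) (tt N3938 D3938) (tt N2123 F4711) (tt N3939 D3939))
theorem Q2911 : ∀ i, i < 2911 → P i := stepQ 2910 Q2910 (allL N2910 (tt N3938 (iv F6441)) (tt N2120 F4712) (tt N3940 D3940) (tt N2119 (iv D2910)) (tt N3941 D3941) (tt N3942 D3942))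
theorem Q2912 : ∀ i, i < 2912 → P i := stepQ 2911 Q2911 (allL N2911 (tt N3939 (iv F6442)) (tt N2121 F4713) (tt N2135 F4714) (tt N3942 (iv F6448)) (tt N2316 F4715) (tt N2119 (iv D2911)))
theorem Q2913 : ∀ i, i < 2913 → P i := stepQ 2912 Q2912 (allL N2912 (tt N2438 F4716) (tt N3943 D3943) (tt N2120 (iv D2912)) (tt N2431 F4717) (tt N3944 D3944) (tt N2430 (iv F4718)))
theorem Q2914 : ∀ i, i < 2914 → P i := stepQ 2913 Q2913 (allL N2913 (tt N3931 (iv F6426)) (tt N3941 (iv F6445)) (tt N3944 (iv F6452)) (tt N2126 F4719) (tt N2120 (iv D2913)) (tt N3945 D3945))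
theorem Q2915 : ∀ i, i < 2915 → P i := stepQ 2914 Q2914 (allL N2914 (tt N2436 F4720) (tt N3942 (iv F6447)) (tt N2430 F4721) (tt N2121 F4722) (tt N3946 D3946) (tt N2120 (iv D2914)))
theorem Q2916 : ∀ i, i < 2916 → P i := stepQ 2915 Q2915 (allL N2915 (tt N3932 (iv F6429)) (tt N2316 F4723) (tt N2122 F4724) (tt N3947 D3947) (tt N2121 (iv D2915)) (tt N2128 F4725))
theorem Q2917 : ∀ i, i < 2917 → P i := stepQ 2916 Q2916 (allL N2916 (tt N2124 F4726) (tt N3933 (iv F6433)) (tt N2295 F4728) (tt N2123 (iv D2916)) (tt N3948 D3948) (tt N2309 F4727))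
theorem Q2918 : ∀ i, i < 2918 → P i := stepQ 2917 Q2917 (allL N2917 (tt N2295 F4729) (tt N3949 D3949) (tt N2124 (iv D2917)) (tt N2290 F4731) (tt N3950 D3950) (tt N2313 F4730))
theorem Q2919 : ∀ i, i < 2919 → P i := stepQ 2918 Q2918 (allL N2918 (tt N3948 (iv F6458)) (tt N2126 F4732) (tt N3950 (iv F6464)) (tt N3941 (iv F6446)) (tt N2124 (iv D2918)) (tt N3951 D3951))
theorem Q2920 : ∀ i, i < 2920 → P i := stepQ 2919 Q2919 (allL N2919 (tt N3711 (iv F6065)) (tt N2125 (iv D2919)) (tt N3949 (iv F6460)) (tt N3539 (iv F5725)) (tt N3952 D3952) (tt N3538 F5721))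
theorem Q2921 : ∀ i, i < 2921 → P i := stepQ 2920 Q2920 (allL N2920 (tt N3552 (iv F5748)) (tt N3952 (iv F6467)) (tt N2126 F4733) (tt N3953 D3953) (tt N2125 (iv D2920)) (tt N3954 D3954))
theorem Q2922 : ∀ i, i < 2922 → P i := stepQ 2921 Q2921 (allL N2921 (tt N3936 (iv F6439)) (tt N3951 (iv F6465)) (tt N3954 (iv F6468)) (tt N3945 (iv F6453)) (tt N3955 D3955) (tt N2126 (iv D2921)))
theorem Q2923 : ∀ i, i < 2923 → P i := stepQ 2922 Q2922 (allL N2922 (tt N3550 (iv F5746)) (tt N2314 F4734) (tt N3540 (iv F5727)) (tt N3956 D3956) (tt N2127 (iv D2922)) (tt N3955 (iv F6470)))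
theorem Q2924 : ∀ i, i < 2924 → P i := stepQ 2923 Q2923 (allL N2923 (tt N3937 (iv F6440)) (tt N2315 F4735) (tt N3957 D3957) (tt N2128 (iv D2923)) (tt N3956 (iv F6472)) (tt N3947 (iv F6457)))
theorem Q2925 : ∀ i, i < 2925 → P i := stepQ 2924 Q2924 (allL N2924 (tt N3492 (iv F5659)) (tt N3958 D3958) (tt N2129 (iv D2924)) (tt N3959 D3959) (tt N2130 F4736) (tt N2439 F4737))
theorem Q2926 : ∀ i, i < 2926 → P i := stepQ 2925 Q2925 (allL N2925 (tt N3960 D3960) (tt N2130 (iv D2925)) (tt N2139 F4738) (tt N3832 (iv F6255)) (tt N3958 (iv F6474)) (tt N2131 F4739))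
theorem Q2927 : ∀ i, i < 2927 → P i := stepQ 2926 Q2926 (allL N2926 (tt N2131 (iv D2926)) (tt N3487 (iv F5647)) (tt N2140 F4740) (tt N3961 D3961) (tt N2433 F4741) (tt N3960 (iv F6478)))
theorem Q2928 : ∀ i, i < 2928 → P i := stepQ 2927 Q2927 (allL N2927 (tt N3961 (iv F6479)) (tt N2132 F4742) (tt N3962 D3962) (tt N2131 (iv D2927)) (tt N3963 D3963) (tt N3832 (iv F6256)))
theorem Q2929 : ∀ i, i < 2929 → P i := stepQ 2928 Q2928 (allL N2928 (tt N3490 (iv F5654)) (tt N3963 (iv F6480)) (tt N3835 (iv F6258)) (tt N2437 F4743) (tt N2132 (iv D2928)) (tt N3964 D3964))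
theorem Q2930 : ∀ i, i < 2930 → P i := stepQ 2929 Q2929 (allL N2929 (tt N2134 F4744) (tt N2190 F4745) (tt N3965 D3965) (tt N2133 (iv D2929)) (tt N2312 F4746) (tt N3966 D3966))
theorem Q2931 : ∀ i, i < 2931 → P i := stepQ 2930 Q2930 (allL N2930 (tt N2135 F4747) (tt N2191 F4748) (tt N3939 (iv F6443)) (tt N3966 (iv F6487)) (tt N2311 F4749) (tt N2133 (iv D2930)))
theorem Q2932 : ∀ i, i < 2932 → P i := stepQ 2931 Q2931 (allL N2931 (tt N3965 (iv F6483)) (tt N3967 D3967) (tt N2134 (iv D2931)) (tt N3968 D3968) (tt N2317 F4750) (tt N3969 D3969))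
theorem Q2933 : ∀ i, i < 2933 → P i := stepQ 2932 Q2932 (allL N2932 (tt N3966 (iv F6485)) (tt N2137 F4751) (tt N3969 (iv F6493)) (tt N2135 F4752) (tt N2194 F4753) (tt N2134 (iv D2932)))
theorem Q2934 : ∀ i, i < 2934 → P i := stepQ 2933 Q2933 (allL N2933 (tt N3970 D3970) (tt N2136 (iv D2933)) (tt N3967 (iv F6489)) (tt N2188 F4754) (tt N2318 F4755) (tt N2187 F4756))
theorem Q2935 : ∀ i, i < 2935 → P i := stepQ 2934 Q2934 (allL N2934 (tt N3971 D3971) (tt N2138 (iv D2934)) (tt N3958 (iv F6473)) (tt N2444 F4757) (tt N2139 F4758) (tt N2444 F4759))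
theorem Q2936 : ∀ i, i < 2936 → P i := stepQ 2935 Q2935 (allL N2935 (tt N2139 (iv D2935)) (tt N2208 F4760) (tt N3960 (iv F6477)) (tt N2222 F4761) (tt N3971 (iv F6501)) (tt N2140 F4762))
theorem Q2937 : ∀ i, i < 2937 → P i := stepQ 2936 Q2936 (allL N2936 (tt N2141 F4763) (tt N2209 F4764) (tt N3972 D3972) (tt N2140 (iv D2936)) (tt N3973 D3973) (tt N2222 F4765))
theorem Q2938 : ∀ i, i < 2938 → P i := stepQ 2937 Q2937 (allL N2937 (tt N3972 (iv F6503)) (tt N2213 F4766) (tt N2141 (iv D2937)) (tt N3974 D3974) (tt N3975 D3975) (tt N2218 F4767))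
theorem Q2939 : ∀ i, i < 2939 → P i := stepQ 2938 Q2938 (allL N2938 (tt N3973 (iv F6505)) (tt N2142 F4768) (tt N3975 (iv F6512)) (tt N2443 F4769) (tt N2141 (iv D2938)) (tt N2443 F4770))
theorem Q2940 : ∀ i, i < 2940 → P i := stepQ 2939 Q2939 (allL N2939 (tt N2144 F4771) (tt N2212 F4772) (tt N3976 D3976) (tt N2143 (iv D2939)) (tt N3977 D3977) (tt N2146 F4773))
theorem Q2941 : ∀ i, i < 2941 → P i := stepQ 2940 Q2940 (allL N2940 (tt N3976 (iv F6514)) (tt N2210 F4774) (tt N2144 (iv D2940)) (tt N3978 D3978) (tt N3979 D3979) (tt N2147 F4775))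
theorem Q2942 : ∀ i, i < 2942 → P i := stepQ 2941 Q2941 (allL N2941 (tt N3977 (iv F6516)) (tt N2145 F4776) (tt N3979 (iv F6523)) (tt N2264 F4777) (tt N2144 (iv D2941)) (tt N2450 F4778))
theorem Q2943 : ∀ i, i < 2943 → P i := stepQ 2942 Q2942 (allL N2942 (tt N2147 F4779) (tt N3980 D3980) (tt N2146 (iv D2942)) (tt N3981 D3981) (tt N2445 F4780) (tt N3976 (iv F6515)))
theorem Q2944 : ∀ i, i < 2944 → P i := stepQ 2943 Q2943 (allL N2943 (tt N3982 D3982) (tt N2147 (iv D2943)) (tt N2148 F4781) (tt N3983 D3983) (tt N2447 F4782) (tt N2210 F4783))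
theorem Q2945 : ∀ i, i < 2945 → P i := stepQ 2944 Q2944 (allL N2944 (tt N3981 (iv F6527)) (tt N3983 (iv F6531)) (tt N3984 D3984) (tt N2147 (iv D2944)) (tt N3985 D3985) (tt N3978 (iv F6521)))
theorem Q2946 : ∀ i, i < 2946 → P i := stepQ 2945 Q2945 (allL N2945 (tt N2148 (iv D2945)) (tt N2222 F4784) (tt N3982 (iv F6528)) (tt N2208 F4785) (tt N2451 F4786) (tt N2209 F4787))
theorem Q2947 : ∀ i, i < 2947 → P i := stepQ 2946 Q2946 (allL N2946 (tt N2149 (iv D2946)) (tt N2164 F4788) (tt N3928 (iv F6419)) (tt N3986 D3986) (tt N2153 F4789) (tt N3987 D3987))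
theorem Q2948 : ∀ i, i < 2948 → P i := stepQ 2947 Q2947 (allL N2947 (tt N3986 (iv F6534)) (tt N2150 F4790) (tt N3988 D3988) (tt N2149 (iv D2947)) (tt N3989 D3989) (tt N3990 D3990))
theorem Q2949 : ∀ i, i < 2949 → P i := stepQ 2948 Q2948 (allL N2948 (tt N3987 (iv F6536)) (tt N2151 F4791) (tt N3930 (iv F6424)) (tt N3990 (iv F6541)) (tt N3991 D3991) (tt N2149 (iv D2948)))
theorem Q2950 : ∀ i, i < 2950 → P i := stepQ 2949 Q2949 (allL N2949 (tt N2167 F4792) (tt N3992 D3992) (tt N2150 (iv D2949)) (tt N2162 F4793) (tt N3993 D3993) (tt N2161 (iv F4794)))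
theorem Q2951 : ∀ i, i < 2951 → P i := stepQ 2950 Q2950 (allL N2950 (tt N2168 F4795) (tt N3989 (iv F6538)) (tt N3993 (iv F6547)) (tt N2156 F4796) (tt N2150 (iv D2950)) (tt N3994 D3994))
theorem Q2952 : ∀ i, i < 2952 → P i := stepQ 2951 Q2951 (allL N2951 (tt N2169 F4797) (tt N3990 (iv F6540)) (tt N2161 F4798) (tt N2151 F4799) (tt N3995 D3995) (tt N2150 (iv D2951)))
theorem Q2953 : ∀ i, i < 2953 → P i := stepQ 2952 Q2952 (allL N2952 (tt N2170 F4800) (tt N3991 (iv F6542)) (tt N2152 F4801) (tt N3996 D3996) (tt N2151 (iv D2952)) (tt N2157 F4802))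
theorem Q2954 : ∀ i, i < 2954 → P i := stepQ 2953 Q2953 (allL N2953 (tt N2154 F4803) (tt N2171 F4804) (tt N3267 (iv F5313)) (tt N2153 (iv D2953)) (tt N3997 D3997) (tt N2239 (iv F4805)))
theorem Q2955 : ∀ i, i < 2955 → P i := stepQ 2954 Q2954 (allL N2954 (tt N2155 F4806) (tt N2172 F4807) (tt N2308 F4808) (tt N2239 F4809) (tt N3998 D3998) (tt N2153 (iv D2954)))
theorem Q2956 : ∀ i, i < 2956 → P i := stepQ 2955 Q2955 (allL N2955 (tt N3997 (iv F6554)) (tt N2156 F4810) (tt N3268 (iv F5316)) (tt N3989 (iv F6539)) (tt N2154 (iv D2955)) (tt N3999 D3999))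
theorem Q2957 : ∀ i, i < 2957 → P i := stepQ 2956 Q2956 (allL N2956 (tt N3998 (iv F6556)) (tt N2157 F4811) (tt N3935 (iv F6438)) (tt N4000 D4000) (tt N2155 (iv D2956)) (tt N3991 (iv F6543)))
theorem Q2958 : ∀ i, i < 2958 → P i := stepQ 2957 Q2957 (allL N2957 (tt N2179 F4812) (tt N3999 (iv F6559)) (tt N2243 F4813) (tt N3994 (iv F6549)) (tt N2242 F4814) (tt N2156 (iv D2957)))
theorem Q2959 : ∀ i, i < 2959 → P i := stepQ 2958 Q2958 (allL N2958 (tt N2181 F4815) (tt N4000 (iv F6561)) (tt N4001 D4001) (tt N2157 (iv D2958)) (tt N2241 F4816) (tt N3996 (iv F6553)))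
theorem Q2960 : ∀ i, i < 2960 → P i := stepQ 2959 Q2959 (allL N2959 (tt N4002 D4002) (tt N2158 (iv D2959)) (tt N2160 F4817) (tt N4003 D4003) (tt N3379 (iv F5465)) (tt N4004 D4004))
theorem Q2961 : ∀ i, i < 2961 → P i := stepQ 2960 Q2960 (allL N2960 (tt N2418 F4818) (tt N4003 (iv F6567)) (tt N2423 F4819) (tt N2158 (iv D2960)) (tt N4005 D4005) (tt N2421 (iv F4820)))
theorem Q2962 : ∀ i, i < 2962 → P i := stepQ 2961 Q2961 (allL N2961 (tt N2419 F4821) (tt N4004 (iv F6569)) (tt N2159 F4822) (tt N2421 F4823) (tt N4006 D4006) (tt N2158 (iv D2961)))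
theorem Q2963 : ∀ i, i < 2963 → P i := stepQ 2962 Q2962 (allL N2962 (tt N2420 F4824) (tt N2163 F4825) (tt N4006 (iv F6575)) (tt N2420 F4826) (tt N2159 (iv D2962)) (tt N3382 (iv F5472)))
theorem Q2964 : ∀ i, i < 2964 → P i := stepQ 2963 Q2963 (allL N2963 (tt N2160 (iv D2963)) (tt N3406 (iv F5525)) (tt N4002 (iv F6566)) (tt N4007 D4007) (tt N3383 (iv F5474)) (tt N4008 D4008))
theorem Q2965 : ∀ i, i < 2965 → P i := stepQ 2964 Q2964 (allL N2964 (tt N4007 (iv F6576)) (tt N2161 F4827) (tt N4009 D4009) (tt N2160 (iv D2964)) (tt N4010 D4010) (tt N3992 (iv F6545)))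
theorem Q2966 : ∀ i, i < 2966 → P i := stepQ 2965 Q2965 (allL N2965 (tt N4008 (iv F6577)) (tt N2162 F4828) (tt N4004 (iv F6570)) (tt N3992 (iv F6544)) (tt N4011 D4011) (tt N2160 (iv D2965)))
theorem Q2967 : ∀ i, i < 2967 → P i := stepQ 2966 Q2966 (allL N2966 (tt N3409 (iv F5531)) (tt N4010 (iv F6578)) (tt N3995 (iv F6551)) (tt N3369 (iv F5448)) (tt N2161 (iv D2966)) (tt N4012 D4012))
theorem Q2968 : ∀ i, i < 2968 → P i := stepQ 2967 Q2967 (allL N2967 (tt N3410 (iv F5534)) (tt N4011 (iv F6579)) (tt N2163 F4829) (tt N4013 D4013) (tt N2162 (iv D2967)) (tt N3368 (iv F5445)))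
theorem Q2969 : ∀ i, i < 2969 → P i := stepQ 2968 Q2968 (allL N2968 (tt N2165 F4830) (tt N3986 (iv F6535)) (tt N4014 D4014) (tt N2164 (iv D2968)) (tt N4015 D4015) (tt N4016 D4016))
theorem Q2970 : ∀ i, i < 2970 → P i := stepQ 2969 Q2969 (allL N2969 (tt N2166 F4831) (tt N3987 (iv F6537)) (tt N2191 F4832) (tt N4016 (iv F6584)) (tt N4017 D4017) (tt N2164 (iv D2969)))
theorem Q2971 : ∀ i, i < 2971 → P i := stepQ 2970 Q2970 (allL N2970 (tt N4014 (iv F6580)) (tt N4018 D4018) (tt N2165 (iv D2970)) (tt N4019 D4019) (tt N4020 D4020) (tt N4021 D4021))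
theorem Q2972 : ∀ i, i < 2972 → P i := stepQ 2971 Q2971 (allL N2971 (tt N4015 (iv F6581)) (tt N2168 F4833) (tt N4020 (iv F6589)) (tt N2174 F4834) (tt N2165 (iv D2971)) (tt N4022 D4022))
theorem Q2973 : ∀ i, i < 2973 → P i := stepQ 2972 Q2972 (allL N2972 (tt N4016 (iv F6583)) (tt N2169 F4835) (tt N4021 (iv F6590)) (tt N2166 F4836) (tt N4023 D4023) (tt N2165 (iv D2972)))
theorem Q2974 : ∀ i, i < 2974 → P i := stepQ 2973 Q2973 (allL N2973 (tt N4017 (iv F6585)) (tt N2170 F4837) (tt N2195 F4838) (tt N4024 D4024) (tt N2166 (iv D2973)) (tt N2176 F4839))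
theorem Q2975 : ∀ i, i < 2975 → P i := stepQ 2974 Q2974 (allL N2974 (tt N4025 D4025) (tt N2167 (iv D2974)) (tt N4018 (iv F6588)) (tt N3408 (iv F5530)) (tt N4026 D4026) (tt N3407 F5528))
theorem Q2976 : ∀ i, i < 2976 → P i := stepQ 2975 Q2975 (allL N2975 (tt N3993 (iv F6546)) (tt N4026 (iv F6596)) (tt N2168 F4840) (tt N4027 D4027) (tt N2167 (iv D2975)) (tt N4028 D4028))
theorem Q2977 : ∀ i, i < 2977 → P i := stepQ 2976 Q2976 (allL N2976 (tt N3994 (iv F6548)) (tt N4022 (iv F6591)) (tt N4028 (iv F6597)) (tt N2179 F4841) (tt N4029 D4029) (tt N2168 (iv D2976)))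
theorem Q2978 : ∀ i, i < 2978 → P i := stepQ 2977 Q2977 (allL N2977 (tt N3995 (iv F6550)) (tt N4023 (iv F6593)) (tt N3409 (iv F5532)) (tt N4030 D4030) (tt N2169 (iv D2977)) (tt N4029 (iv F6598)))
theorem Q2979 : ∀ i, i < 2979 → P i := stepQ 2978 Q2978 (allL N2978 (tt N3996 (iv F6552)) (tt N4024 (iv F6594)) (tt N4031 D4031) (tt N2170 (iv D2978)) (tt N4030 (iv F6599)) (tt N2181 F4842))
theorem Q2980 : ∀ i, i < 2980 → P i := stepQ 2979 Q2979 (allL N2979 (tt N2173 F4843) (tt N3700 (iv F6049)) (tt N2171 (iv D2979)) (tt N2251 F4844) (tt N4032 D4032) (tt N3697 (iv F6046)))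
theorem Q2981 : ∀ i, i < 2981 → P i := stepQ 2980 Q2980 (allL N2980 (tt N2174 F4845) (tt N3997 (iv F6555)) (tt N4032 (iv F6602)) (tt N4015 (iv F6582)) (tt N2171 (iv D2980)) (tt N4033 D4033))
theorem Q2982 : ∀ i, i < 2982 → P i := stepQ 2981 Q2981 (allL N2981 (tt N2175 F4846) (tt N2239 F4847) (tt N3697 (iv F6045)) (tt N2172 F4848) (tt N4034 D4034) (tt N2171 (iv D2981)))
theorem Q2983 : ∀ i, i < 2983 → P i := stepQ 2982 Q2982 (allL N2982 (tt N2176 F4849) (tt N3998 (iv F6557)) (tt N2205 F4850) (tt N4035 D4035) (tt N2172 (iv D2982)) (tt N4017 (iv F6587)))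
theorem Q2984 : ∀ i, i < 2984 → P i := stepQ 2983 Q2983 (allL N2983 (tt N3262 (iv F5303)) (tt N2173 (iv D2983)) (tt N2177 F4851) (tt N4036 D4036) (tt N4037 D4037) (tt N2230 (iv F4852)))
theorem Q2985 : ∀ i, i < 2985 → P i := stepQ 2984 Q2984 (allL N2984 (tt N2251 F4853) (tt N4036 (iv F6607)) (tt N2250 F4854) (tt N2173 (iv D2984)) (tt N4038 D4038) (tt N3696 (iv F6041)))
theorem Q2986 : ∀ i, i < 2986 → P i := stepQ 2985 Q2985 (allL N2985 (tt N4032 (iv F6601)) (tt N4037 (iv F6609)) (tt N2174 F4855) (tt N4039 D4039) (tt N2173 (iv D2985)) (tt N4040 D4040))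
theorem Q2987 : ∀ i, i < 2987 → P i := stepQ 2986 Q2986 (allL N2986 (tt N3697 (iv F6043)) (tt N2230 F4856) (tt N2175 F4857) (tt N3696 F6042) (tt N4041 D4041) (tt N2173 (iv D2986)))
theorem Q2988 : ∀ i, i < 2988 → P i := stepQ 2987 Q2987 (allL N2987 (tt N4033 (iv F6603)) (tt N2179 F4858) (tt N4040 (iv F6613)) (tt N4022 (iv F6592)) (tt N4042 D4042) (tt N2174 (iv D2987)))
theorem Q2989 : ∀ i, i < 2989 → P i := stepQ 2988 Q2988 (allL N2988 (tt N4034 (iv F6604)) (tt N2180 F4859) (tt N4041 (iv F6615)) (tt N4043 D4043) (tt N2175 (iv D2988)) (tt N4042 (iv F6617)))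
theorem Q2990 : ∀ i, i < 2990 → P i := stepQ 2989 Q2989 (allL N2989 (tt N4035 (iv F6606)) (tt N2181 F4860) (tt N4044 D4044) (tt N2176 (iv D2989)) (tt N4043 (iv F6619)) (tt N4024 (iv F6595)))
theorem Q2991 : ∀ i, i < 2991 → P i := stepQ 2990 Q2990 (allL N2990 (tt N3263 (iv F5305)) (tt N2178 F4861) (tt N4037 (iv F6610)) (tt N4045 D4045) (tt N2177 (iv D2990)) (tt N4046 D4046))
theorem Q2992 : ∀ i, i < 2992 → P i := stepQ 2991 Q2991 (allL N2991 (tt N2244 F4862) (tt N4045 (iv F6620)) (tt N3462 (iv F5614)) (tt N2178 (iv D2991)) (tt N2234 F4863) (tt N4047 D4047))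
theorem Q2993 : ∀ i, i < 2993 → P i := stepQ 2992 Q2992 (allL N2992 (tt N2243 F4864) (tt N4046 (iv F6622)) (tt N2179 F4865) (tt N4047 (iv F6625)) (tt N2233 F4866) (tt N2178 (iv D2992)))
theorem Q2994 : ∀ i, i < 2994 → P i := stepQ 2993 Q2993 (allL N2993 (tt N2242 F4867) (tt N4042 (iv F6616)) (tt N2233 F4868) (tt N4048 D4048) (tt N2179 (iv D2993)) (tt N2180 F4869))
theorem Q2995 : ∀ i, i < 2995 → P i := stepQ 2994 Q2994 (allL N2994 (tt N2241 F4870) (tt N4043 (iv F6618)) (tt N4049 D4049) (tt N2180 (iv D2994)) (tt N2181 F4871) (tt N4048 (iv F6627)))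
theorem Q2996 : ∀ i, i < 2996 → P i := stepQ 2995 Q2995 (allL N2995 (tt N4001 (iv F6563)) (tt N4050 D4050) (tt N2181 (iv D2995)) (tt N4051 D4051) (tt N4049 (iv F6629)) (tt N4031 (iv F6600)))
theorem Q2997 : ∀ i, i < 2997 → P i := stepQ 2996 Q2996 (allL N2996 (tt N3679 (iv F6003)) (tt N2183 F4872) (tt N4052 D4052) (tt N2182 (iv D2996)) (tt N3677 (iv F5999)) (tt N4053 D4053))
theorem Q2998 : ∀ i, i < 2998 → P i := stepQ 2997 Q2997 (allL N2997 (tt N3680 (iv F6006)) (tt N2184 F4873) (tt N2188 F4874) (tt N4053 (iv F6631)) (tt N4054 D4054) (tt N2182 (iv D2997)))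
theorem Q2999 : ∀ i, i < 2999 → P i := stepQ 2998 Q2998 (allL N2998 (tt N2421 F4875) (tt N4055 D4055) (tt N2183 (iv D2998)) (tt N2419 F4876) (tt N4056 D4056) (tt N2418 (iv F4877)))
theorem Q3000 : ∀ i, i < 3000 → P i := stepQ 2999 Q2999 (allL N2999 (tt N2422 F4878) (tt N3677 (iv F5998)) (tt N4056 (iv F6639)) (tt N2414 F4879) (tt N2183 (iv D2999)) (tt N4057 D4057))
theorem Q3001 : ∀ i, i < 3001 → P i := stepQ 3000 Q3000 (allL N3000 (tt N2423 F4880) (tt N4053 (iv F6630)) (tt N2418 F4881) (tt N2184 F4882) (tt N4058 D4058) (tt N2183 (iv D3000)))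
theorem Q3002 : ∀ i, i < 3002 → P i := stepQ 3001 Q3001 (allL N3001 (tt N2352 F4883) (tt N4054 (iv F6633)) (tt N2185 F4884) (tt N4059 D4059) (tt N2184 (iv D3001)) (tt N2349 F4885))
theorem Q3003 : ∀ i, i < 3003 → P i := stepQ 3002 Q3002 (allL N3002 (tt N2187 F4886) (tt N2426 F4887) (tt N4060 D4060) (tt N2186 (iv D3002)) (tt N2426 F4888) (tt N3970 (iv F6498)))
theorem Q3004 : ∀ i, i < 3004 → P i := stepQ 3003 Q3003 (allL N3003 (tt N2188 F4889) (tt N2427 F4890) (tt N3680 (iv F6008)) (tt N3970 (iv F6496)) (tt N4061 D4061) (tt N2186 (iv D3003)))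
theorem Q3005 : ∀ i, i < 3005 → P i := stepQ 3004 Q3004 (allL N3004 (tt N4060 (iv F6646)) (tt N3969 (iv F6492)) (tt N2187 (iv D3004)) (tt N4062 D4062) (tt N2428 F4891) (tt N3967 F6491))
theorem Q3006 : ∀ i, i < 3006 → P i := stepQ 3005 Q3005 (allL N3005 (tt N4061 (iv F6648)) (tt N2189 F4892) (tt N4054 (iv F6634)) (tt N4063 D4063) (tt N2188 (iv D3005)) (tt N2280 F4893))
theorem Q3007 : ∀ i, i < 3007 → P i := stepQ 3006 Q3006 (allL N3006 (tt N2344 F4894) (tt N4063 (iv F6652)) (tt N2274 F4895) (tt N2189 (iv D3006)) (tt N2319 F4896) (tt N2357 F4897))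
theorem Q3008 : ∀ i, i < 3008 → P i := stepQ 3007 Q3007 (allL N3007 (tt N2192 F4898) (tt N4064 D4064) (tt N2190 (iv D3007)) (tt N4065 D4065) (tt N4066 D4066) (tt N4067 D4067))
theorem Q3009 : ∀ i, i < 3009 → P i := stepQ 3008 Q3008 (allL N3008 (tt N2193 F4899) (tt N2312 F4900) (tt N4066 (iv F6657)) (tt N2204 F4901) (tt N2190 (iv D3008)) (tt N2312 (iv F4902)))
theorem Q3010 : ∀ i, i < 3010 → P i := stepQ 3009 Q3009 (allL N3009 (tt N2194 F4903) (tt N3966 (iv F6486)) (tt N4067 (iv F6660)) (tt N2191 F4904) (tt N3966 (iv F6488)) (tt N2190 (iv D3009)))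
theorem Q3011 : ∀ i, i < 3011 → P i := stepQ 3010 Q3010 (allL N3010 (tt N2195 F4905) (tt N2311 F4906) (tt N4017 (iv F6586)) (tt N2311 (iv F4908)) (tt N2191 (iv D3010)) (tt N2205 F4907))
theorem Q3012 : ∀ i, i < 3012 → P i := stepQ 3011 Q3011 (allL N3011 (tt N4068 D4068) (tt N2192 (iv D3011)) (tt N2196 F4909) (tt N4069 D4069) (tt N4070 D4070) (tt N2428 (iv F4910)))
theorem Q3013 : ∀ i, i < 3013 → P i := stepQ 3012 Q3012 (allL N3012 (tt N4065 (iv F6655)) (tt N4069 (iv F6665)) (tt N4071 D4071) (tt N2192 (iv D3012)) (tt N4072 D4072) (tt N4073 D4073))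
theorem Q3014 : ∀ i, i < 3014 → P i := stepQ 3013 Q3013 (allL N3013 (tt N4066 (iv F6656)) (tt N4070 (iv F6668)) (tt N2193 F4911) (tt N4074 D4074) (tt N2192 (iv D3013)) (tt N2317 (iv F4912)))
theorem Q3015 : ∀ i, i < 3015 → P i := stepQ 3014 Q3014 (allL N3014 (tt N4067 (iv F6659)) (tt N2428 F4913) (tt N2194 F4914) (tt N4073 (iv F6672)) (tt N3969 (iv F6494)) (tt N2192 (iv D3014)))
theorem Q3016 : ∀ i, i < 3016 → P i := stepQ 3015 Q3015 (allL N3015 (tt N2196 (iv D3015)) (tt N3970 (iv F6495)) (tt N4068 (iv F6661)) (tt N2427 F4915) (tt N4075 D4075) (tt N2426 F4916))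
theorem Q3017 : ∀ i, i < 3017 → P i := stepQ 3016 Q3016 (allL N3016 (tt N4075 (iv F6674)) (tt N2197 F4917) (tt N4070 (iv F6669)) (tt N4076 D4076) (tt N2196 (iv D3016)) (tt N2318 F4918))
theorem Q3018 : ∀ i, i < 3018 → P i := stepQ 3017 Q3017 (allL N3017 (tt N2319 F4919) (tt N4076 (iv F6677)) (tt N2256 F4922) (tt N2197 (iv D3017)) (tt N2344 F4920) (tt N2319 F4921))
theorem Q3019 : ∀ i, i < 3019 → P i := stepQ 3018 Q3018 (allL N3018 (tt N4077 D4077) (tt N2198 (iv D3018)) (tt N3513 (iv F5694)) (tt N2207 F4923) (tt N2199 F4924) (tt N2207 F4925))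
theorem Q3020 : ∀ i, i < 3020 → P i := stepQ 3019 Q3019 (allL N3019 (tt N2199 (iv D3019)) (tt N2441 F4926) (tt N3509 (iv F5688)) (tt N2451 F4927) (tt N4077 (iv F6682)) (tt N2200 F4928))
theorem Q3021 : ∀ i, i < 3021 → P i := stepQ 3020 Q3020 (allL N3020 (tt N2201 F4929) (tt N2440 F4930) (tt N4078 D4078) (tt N2200 (iv D3020)) (tt N4079 D4079) (tt N2451 F4931))
theorem Q3022 : ∀ i, i < 3022 → P i := stepQ 3021 Q3021 (allL N3021 (tt N4078 (iv F6684)) (tt N2449 F4932) (tt N2201 (iv D3021)) (tt N4080 D4080) (tt N4081 D4081) (tt N2447 F4933))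
theorem Q3023 : ∀ i, i < 3023 → P i := stepQ 3022 Q3022 (allL N3022 (tt N4079 (iv F6686)) (tt N2202 F4934) (tt N4081 (iv F6693)) (tt N2211 F4935) (tt N2201 (iv D3022)) (tt N2211 F4936))
theorem Q3024 : ∀ i, i < 3024 → P i := stepQ 3023 Q3023 (allL N3023 (tt N2206 F4937) (tt N3685 (iv F6018)) (tt N2204 F4938) (tt N4082 D4082) (tt N2203 (iv D3023)) (tt N2293 F4939))
theorem Q3025 : ∀ i, i < 3025 → P i := stepQ 3024 Q3024 (allL N3024 (tt N4082 (iv F6695)) (tt N2254 F4940) (tt N4083 D4083) (tt N2206 (iv D3024)) (tt N3708 (iv F6061)) (tt N2300 F4941))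
theorem Q3026 : ∀ i, i < 3026 → P i := stepQ 3025 Q3025 (allL N3025 (tt N2207 (iv D3025)) (tt N3971 (iv F6499)) (tt N3521 (iv F5702)) (tt N4077 (iv F6681)) (tt N2208 F4942) (tt N4077 (iv F6683)))
theorem Q3027 : ∀ i, i < 3027 → P i := stepQ 3026 Q3026 (allL N3026 (tt N2210 F4943) (tt N4084 D4084) (tt N2209 (iv D3026)) (tt N4085 D4085) (tt N4086 D4086) (tt N3982 (iv F6530)))
theorem Q3028 : ∀ i, i < 3028 → P i := stepQ 3027 Q3027 (allL N3027 (tt N2211 F4944) (tt N3973 (iv F6506)) (tt N4086 (iv F6700)) (tt N4079 (iv F6688)) (tt N2209 (iv D3027)) (tt N4079 (iv F6689)))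
theorem Q3029 : ∀ i, i < 3029 → P i := stepQ 3028 Q3028 (allL N3028 (tt N4085 (iv F6698)) (tt N3978 (iv F6520)) (tt N4087 D4087) (tt N2210 (iv D3028)) (tt N4088 D4088) (tt N3983 (iv F6532)))
theorem Q3030 : ∀ i, i < 3030 → P i := stepQ 3029 Q3029 (allL N3029 (tt N4086 (iv F6699)) (tt N3979 (iv F6522)) (tt N2211 F4945) (tt N4089 D4089) (tt N2210 (iv D3029)) (tt N4081 (iv F6694)))
theorem Q3031 : ∀ i, i < 3031 → P i := stepQ 3030 Q3030 (allL N3030 (tt N2213 F4946) (tt N4090 D4090) (tt N2212 (iv D3030)) (tt N2248 F4947) (tt N4091 D4091) (tt N2216 F4948))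
theorem Q3032 : ∀ i, i < 3032 → P i := stepQ 3031 Q3031 (allL N3031 (tt N2214 F4949) (tt N3977 (iv F6517)) (tt N4091 (iv F6704)) (tt N2328 F4950) (tt N2212 (iv D3031)) (tt N4092 D4092))
theorem Q3033 : ∀ i, i < 3033 → P i := stepQ 3032 Q3032 (allL N3032 (tt N2248 F4951) (tt N3974 (iv F6509)) (tt N2247 F4952) (tt N2213 (iv D3032)) (tt N4093 D4093) (tt N2219 F4953))
theorem Q3034 : ∀ i, i < 3034 → P i := stepQ 3033 Q3033 (allL N3033 (tt N4091 (iv F6703)) (tt N3975 (iv F6511)) (tt N2214 F4954) (tt N4094 D4094) (tt N2213 (iv D3033)) (tt N4095 D4095))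
theorem Q3035 : ∀ i, i < 3035 → P i := stepQ 3034 Q3034 (allL N3034 (tt N4092 (iv F6705)) (tt N2215 F4955) (tt N4095 (iv F6712)) (tt N2331 F4956) (tt N2221 F4957) (tt N2214 (iv D3034)))
theorem Q3036 : ∀ i, i < 3036 → P i := stepQ 3035 Q3035 (allL N3035 (tt N4096 D4096) (tt N2216 (iv D3035)) (tt N3980 (iv F6525)) (tt N3810 (iv F6217)) (tt N4097 D4097) (tt N4090 (iv F6702)))
theorem Q3037 : ∀ i, i < 3037 → P i := stepQ 3036 Q3036 (allL N3036 (tt N2220 F4958) (tt N4097 (iv F6715)) (tt N2217 F4959) (tt N4098 D4098) (tt N2216 (iv D3036)) (tt N4099 D4099))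
theorem Q3038 : ∀ i, i < 3038 → P i := stepQ 3037 Q3037 (allL N3037 (tt N2221 F4960) (tt N2446 F4961) (tt N4099 (iv F6719)) (tt N2225 F4962) (tt N4092 (iv F6708)) (tt N2217 (iv D3037)))
theorem Q3039 : ∀ i, i < 3039 → P i := stepQ 3038 Q3038 (allL N3038 (tt N2218 (iv D3038)) (tt N4096 (iv F6714)) (tt N2222 F4963) (tt N4100 D4100) (tt N4101 D4101) (tt N3972 (iv F6504)))
theorem Q3040 : ∀ i, i < 3040 → P i := stepQ 3039 Q3039 (allL N3039 (tt N4100 (iv F6720)) (tt N2219 F4964) (tt N4102 D4102) (tt N2218 (iv D3039)) (tt N4103 D4103) (tt N3974 (iv F6510)))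
theorem Q3041 : ∀ i, i < 3041 → P i := stepQ 3040 Q3040 (allL N3040 (tt N4101 (iv F6721)) (tt N2220 F4965) (tt N2223 F4966) (tt N4104 D4104) (tt N2218 (iv D3040)) (tt N2442 (iv F4967)))
theorem Q3042 : ∀ i, i < 3042 → P i := stepQ 3041 Q3041 (allL N3041 (tt N3811 (iv F6219)) (tt N4103 (iv F6724)) (tt N3809 (iv F6214)) (tt N4105 D4105) (tt N2219 (iv D3041)) (tt N4106 D4106))
theorem Q3043 : ∀ i, i < 3043 → P i := stepQ 3042 Q3042 (allL N3042 (tt N4098 (iv F6717)) (tt N4104 (iv F6725)) (tt N4107 D4107) (tt N2220 (iv D3042)) (tt N4105 (iv F6727)) (tt N4108 D4108))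
theorem Q3044 : ∀ i, i < 3044 → P i := stepQ 3043 Q3043 (allL N3043 (tt N4099 (iv F6718)) (tt N2442 F4968) (tt N2221 F4969) (tt N4108 (iv F6729)) (tt N4095 (iv F6713)) (tt N2220 (iv D3043)))
theorem Q3045 : ∀ i, i < 3045 → P i := stepQ 3044 Q3044 (allL N3044 (tt N2223 F4970) (tt N2451 F4971) (tt N4101 (iv F6722)) (tt N2441 (iv F4972)) (tt N2222 (iv D3044)) (tt N2440 (iv F4973)))
theorem Q3046 : ∀ i, i < 3046 → P i := stepQ 3045 Q3045 (allL N3045 (tt N2227 F4974) (tt N3679 (iv F6004)) (tt N4109 D4109) (tt N2224 (iv D3045)) (tt N2408 F4975) (tt N4110 D4110))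
theorem Q3047 : ∀ i, i < 3047 → P i := stepQ 3046 Q3046 (allL N3046 (tt N2228 F4976) (tt N3680 (iv F6007)) (tt N2225 F4977) (tt N4110 (iv F6733)) (tt N2348 F4978) (tt N2224 (iv D3046)))
theorem Q3048 : ∀ i, i < 3048 → P i := stepQ 3047 Q3047 (allL N3047 (tt N2408 F4979) (tt N2422 F4980) (tt N4111 D4111) (tt N2226 (iv D3047)) (tt N2227 F4981) (tt N4112 D4112))
theorem Q3049 : ∀ i, i < 3049 → P i := stepQ 3048 Q3048 (allL N3048 (tt N2409 F4982) (tt N2425 F4983) (tt N2406 F4984) (tt N4112 (iv F6738)) (tt N2354 F4985) (tt N2226 (iv D3048)))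
theorem Q3050 : ∀ i, i < 3050 → P i := stepQ 3049 Q3049 (allL N3049 (tt N4109 (iv F6730)) (tt N4113 D4113) (tt N2227 (iv D3049)) (tt N4114 D4114) (tt N4111 (iv F6735)) (tt N4115 D4115))
theorem Q3051 : ∀ i, i < 3051 → P i := stepQ 3050 Q3050 (allL N3050 (tt N4110 (iv F6732)) (tt N2423 F4986) (tt N4115 (iv F6740)) (tt N2228 F4987) (tt N4116 D4116) (tt N2227 (iv D3050)))
theorem Q3052 : ∀ i, i < 3052 → P i := stepQ 3051 Q3051 (allL N3051 (tt N2230 F4988) (tt N3183 (iv F5198)) (tt N2229 (iv D3051)) (tt N3690 (iv F6028)) (tt N4117 D4117) (tt N3262 (iv F5304)))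
theorem Q3053 : ∀ i, i < 3053 → P i := stepQ 3052 Q3052 (allL N3052 (tt N2231 F4989) (tt N2235 F4990) (tt N4117 (iv F6744)) (tt N3499 (iv F5677)) (tt N2229 (iv D3052)) (tt N4118 D4118))
theorem Q3054 : ∀ i, i < 3054 → P i := stepQ 3053 Q3053 (allL N3053 (tt N3690 F6029) (tt N3696 (iv F6039)) (tt N4119 D4119) (tt N2230 (iv D3053)) (tt N4120 D4120) (tt N4036 (iv F6608)))
theorem Q3055 : ∀ i, i < 3055 → P i := stepQ 3054 Q3054 (allL N3054 (tt N4117 (iv F6743)) (tt N4041 (iv F6614)) (tt N2231 F4991) (tt N4121 D4121) (tt N2230 (iv D3054)) (tt N4122 D4122))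
theorem Q3056 : ∀ i, i < 3056 → P i := stepQ 3055 Q3055 (allL N3055 (tt N4118 (iv F6745)) (tt N2233 F4992) (tt N4122 (iv F6748)) (tt N3502 (iv F5680)) (tt N4046 (iv F6623)) (tt N2231 (iv D3055)))
theorem Q3057 : ∀ i, i < 3057 → P i := stepQ 3056 Q3056 (allL N3056 (tt N3264 (iv F5307)) (tt N2234 F4993) (tt N4123 D4123) (tt N2232 (iv D3056)) (tt N4045 (iv F6621)) (tt N3453 (iv F5599)))
theorem Q3058 : ∀ i, i < 3058 → P i := stepQ 3057 Q3057 (allL N3057 (tt N2238 F4994) (tt N4118 (iv F6746)) (tt N3188 (iv F5207)) (tt N3527 (iv F5707)) (tt N3266 (iv F5312)) (tt N2235 (iv D3057)))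
theorem Q3059 : ∀ i, i < 3059 → P i := stepQ 3058 Q3058 (allL N3058 (tt N2236 (iv D3058)) (tt N3181 (iv F5193)) (tt N2239 F4995) (tt N3177 (iv F5186)) (tt N4124 D4124) (tt N3267 (iv F5314)))
theorem Q3060 : ∀ i, i < 3060 → P i := stepQ 3059 Q3059 (allL N3059 (tt N4124 (iv F6749)) (tt N2237 F4996) (tt N2240 F4997) (tt N4125 D4125) (tt N2236 (iv D3059)) (tt N4126 D4126))
theorem Q3061 : ∀ i, i < 3061 → P i := stepQ 3060 Q3060 (allL N3060 (tt N3187 (iv F5204)) (tt N4125 (iv F6751)) (tt N4127 D4127) (tt N2237 (iv D3060)) (tt N3179 (iv F5189)) (tt N4128 D4128))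
theorem Q3062 : ∀ i, i < 3062 → P i := stepQ 3061 Q3061 (allL N3061 (tt N3188 (iv F5206)) (tt N4126 (iv F6752)) (tt N2238 F4998) (tt N4128 (iv F6754)) (tt N3270 (iv F5318)) (tt N2237 (iv D3061)))
theorem Q3063 : ∀ i, i < 3063 → P i := stepQ 3062 Q3062 (allL N3062 (tt N2240 F4999) (tt N4034 (iv F6605)) (tt N4124 (iv F6750)) (tt N4129 D4129) (tt N2239 (iv D3062)) (tt N4130 D4130))
theorem Q3064 : ∀ i, i < 3064 → P i := stepQ 3063 Q3063 (allL N3063 (tt N4129 (iv F6755)) (tt N2241 F5000) (tt N4131 D4131) (tt N2240 (iv D3063)) (tt N4000 (iv F6562)) (tt N4132 D4132))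
theorem Q3065 : ∀ i, i < 3065 → P i := stepQ 3064 Q3064 (allL N3064 (tt N4130 (iv F6756)) (tt N2242 F5001) (tt N4126 (iv F6753)) (tt N4132 (iv F6758)) (tt N3999 (iv F6560)) (tt N2240 (iv D3064)))
theorem Q3066 : ∀ i, i < 3066 → P i := stepQ 3065 Q3065 (allL N3065 (tt N4049 (iv F6628)) (tt N4133 D4133) (tt N2241 (iv D3065)) (tt N4134 D4134) (tt N4001 (iv F6564)) (tt N4135 D4135))
theorem Q3067 : ∀ i, i < 3067 → P i := stepQ 3066 Q3066 (allL N3066 (tt N4048 (iv F6626)) (tt N4132 (iv F6757)) (tt N4135 (iv F6759)) (tt N2242 F5002) (tt N4136 D4136) (tt N2241 (iv D3066)))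
theorem Q3068 : ∀ i, i < 3068 → P i := stepQ 3067 Q3067 (allL N3067 (tt N4047 (iv F6624)) (tt N3272 (iv F5320)) (tt N4137 D4137) (tt N2243 (iv D3067)) (tt N3486 (iv F5646)) (tt N2244 F5003))
theorem Q3069 : ∀ i, i < 3069 → P i := stepQ 3068 Q3068 (allL N3068 (tt N3462 (iv F5613)) (tt N4138 D4138) (tt N2244 (iv D3068)) (tt N4139 D4139) (tt N2245 F5004) (tt N4137 (iv F6760)))
theorem Q3070 : ∀ i, i < 3070 → P i := stepQ 3069 Q3069 (allL N3069 (tt N4140 D4140) (tt N2245 (iv D3069)) (tt N3273 (iv F5322)) (tt N3452 (iv F5597)) (tt N4138 (iv F6761)) (tt N3484 (iv F5643)))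
theorem Q3071 : ∀ i, i < 3071 → P i := stepQ 3070 Q3070 (allL N3070 (tt N3661 (iv F5962)) (tt N2247 F5005) (tt N4141 D4141) (tt N2246 (iv D3070)) (tt N4142 D4142) (tt N3766 (iv F6145)))
theorem Q3072 : ∀ i, i < 3072 → P i := stepQ 3071 Q3071 (allL N3071 (tt N2249 F5006) (tt N4142 (iv F6762)) (tt N4093 (iv F6710)) (tt N2391 F5007) (tt N2247 (iv D3071)) (tt N4143 D4143))
theorem Q3073 : ∀ i, i < 3073 → P i := stepQ 3072 Q3072 (allL N3072 (tt N4144 D4144) (tt N2248 (iv D3072)) (tt N3674 (iv F5989)) (tt N4090 (iv F6701)) (tt N4145 D4145) (tt N3810 (iv F6218)))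
theorem Q3074 : ∀ i, i < 3074 → P i := stepQ 3073 Q3073 (allL N3073 (tt N4093 (iv F6709)) (tt N4145 (iv F6766)) (tt N2249 F5008) (tt N4146 D4146) (tt N2248 (iv D3073)) (tt N4147 D4147))
theorem Q3075 : ∀ i, i < 3075 → P i := stepQ 3074 Q3074 (allL N3074 (tt N4143 (iv F6764)) (tt N3672 (iv F5984)) (tt N4147 (iv F6767)) (tt N2394 F5009) (tt N3812 (iv F6223)) (tt N2249 (iv D3074)))
theorem Q3076 : ∀ i, i < 3076 → P i := stepQ 3075 Q3075 (allL N3075 (tt N2252 F5010) (tt N3684 (iv F6015)) (tt N4038 (iv F6612)) (tt N2291 F5011) (tt N2250 (iv D3075)) (tt N4148 D4148))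
theorem Q3077 : ∀ i, i < 3077 → P i := stepQ 3076 Q3076 (allL N3076 (tt N4038 (iv F6611)) (tt N3703 (iv F6052)) (tt N2252 F5012) (tt N4149 D4149) (tt N2251 (iv D3076)) (tt N4150 D4150))
theorem Q3078 : ∀ i, i < 3078 → P i := stepQ 3077 Q3077 (allL N3077 (tt N4148 (iv F6768)) (tt N2253 F5013) (tt N4150 (iv F6770)) (tt N2298 F5014) (tt N3709 (iv F6063)) (tt N2252 (iv D3077)))
theorem Q3079 : ∀ i, i < 3079 → P i := stepQ 3078 Q3078 (allL N3078 (tt N2756 F5015) (tt N4151 D4151) (tt N2254 (iv D3078)) (tt N2667 F5017) (tt N3631 (iv F5901)) (tt N2307 F5016))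
theorem Q3080 : ∀ i, i < 3080 → P i := stepQ 3079 Q3079 (allL N3079 (tt N2255 (iv D3079)) (tt N2320 F5018) (tt N2730 F5019) (tt N4152 D4152) (tt N2257 F5020) (tt N2320 F5021))
theorem Q3081 : ∀ i, i < 3081 → P i := stepQ 3080 Q3080 (allL N3080 (tt N4152 (iv F6773)) (tt N2256 F5022) (tt N4153 D4153) (tt N2255 (iv D3080)) (tt N2342 F5023) (tt N2321 F5024))
theorem Q3082 : ∀ i, i < 3082 → P i := stepQ 3081 Q3081 (allL N3081 (tt N2259 F5025) (tt N4154 D4154) (tt N2258 (iv D3081)) (tt N4155 D4155) (tt N4156 D4156) (tt N2335 F5026))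
theorem Q3083 : ∀ i, i < 3083 → P i := stepQ 3082 Q3082 (allL N3082 (tt N2260 F5027) (tt N2323 F5028) (tt N4156 (iv F6788)) (tt N2323 F5029) (tt N2258 (iv D3082)) (tt N4157 D4157))
theorem Q3084 : ∀ i, i < 3084 → P i := stepQ 3083 Q3083 (allL N3083 (tt N4155 (iv F6783)) (tt N2329 F5030) (tt N4158 D4158) (tt N2259 (iv D3083)) (tt N4159 D4159) (tt N2336 F5031))
theorem Q3085 : ∀ i, i < 3085 → P i := stepQ 3084 Q3084 (allL N3084 (tt N4156 (iv F6787)) (tt N2330 F5032) (tt N2260 F5033) (tt N4160 D4160) (tt N2259 (iv D3084)) (tt N4161 D4161))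
theorem Q3086 : ∀ i, i < 3086 → P i := stepQ 3085 Q3085 (allL N3085 (tt N4157 (iv F6789)) (tt N2261 F5034) (tt N4161 (iv F6800)) (tt N2326 F5035) (tt N2343 F5036) (tt N2260 (iv D3085)))
theorem Q3087 : ∀ i, i < 3087 → P i := stepQ 3086 Q3086 (allL N3086 (tt N2263 F5037) (tt N4162 D4162) (tt N2262 (iv D3086)) (tt N3215 (iv F5245)) (tt N4163 D4163) (tt N2266 F5038))
theorem Q3088 : ∀ i, i < 3088 → P i := stepQ 3087 Q3087 (allL N3087 (tt N2264 F5039) (tt N2328 F5040) (tt N4163 (iv F6806)) (tt N3977 (iv F6518)) (tt N2262 (iv D3087)) (tt N4164 D4164))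
theorem Q3089 : ∀ i, i < 3089 → P i := stepQ 3088 Q3088 (allL N3088 (tt N3215 (iv F5244)) (tt N2324 F5041) (tt N3211 (iv F5234)) (tt N2263 (iv D3088)) (tt N4165 D4165) (tt N2269 F5042))
theorem Q3090 : ∀ i, i < 3090 → P i := stepQ 3089 Q3089 (allL N3089 (tt N4163 (iv F6805)) (tt N2325 F5043) (tt N2264 F5044) (tt N4166 D4166) (tt N2263 (iv D3089)) (tt N4167 D4167))
theorem Q3091 : ∀ i, i < 3091 → P i := stepQ 3090 Q3090 (allL N3090 (tt N4164 (iv F6807)) (tt N2265 F5045) (tt N4167 (iv F6814)) (tt N2450 F5046) (tt N2271 F5047) (tt N2264 (iv D3090)))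
theorem Q3092 : ∀ i, i < 3092 → P i := stepQ 3091 Q3091 (allL N3091 (tt N4168 D4168) (tt N2266 (iv D3091)) (tt N2332 F5048) (tt N4169 D4169) (tt N4170 D4170) (tt N4162 (iv F6804)))
theorem Q3093 : ∀ i, i < 3093 → P i := stepQ 3092 Q3092 (allL N3092 (tt N2269 F5049) (tt N4169 (iv F6821)) (tt N3128 (iv F5122)) (tt N2266 (iv D3092)) (tt N4171 D4171) (tt N3215 (iv F5246)))
theorem Q3094 : ∀ i, i < 3094 → P i := stepQ 3093 Q3093 (allL N3093 (tt N2270 F5050) (tt N4170 (iv F6823)) (tt N2267 F5051) (tt N4172 D4172) (tt N2266 (iv D3093)) (tt N4173 D4173))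
theorem Q3095 : ∀ i, i < 3095 → P i := stepQ 3094 Q3094 (allL N3094 (tt N2271 F5052) (tt N2334 F5053) (tt N4173 (iv F6828)) (tt N2278 F5054) (tt N4164 (iv F6810)) (tt N2267 (iv D3094)))
theorem Q3096 : ∀ i, i < 3096 → P i := stepQ 3095 Q3095 (allL N3095 (tt N2268 (iv D3095)) (tt N4168 (iv F6816)) (tt N2272 F5055) (tt N2750 (iv F5057)) (tt N4174 D4174) (tt N2322 F5056))
theorem Q3097 : ∀ i, i < 3097 → P i := stepQ 3096 Q3096 (allL N3096 (tt N2750 F5058) (tt N2269 F5059) (tt N2746 F5061) (tt N2268 (iv D3096)) (tt N4175 D4175) (tt N2324 F5060))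
theorem Q3098 : ∀ i, i < 3098 → P i := stepQ 3097 Q3097 (allL N3097 (tt N4174 (iv F6829)) (tt N2270 F5062) (tt N2273 F5063) (tt N4176 D4176) (tt N2268 (iv D3097)) (tt N4177 D4177))
theorem Q3099 : ∀ i, i < 3099 → P i := stepQ 3098 Q3098 (allL N3098 (tt N3128 (iv F5119)) (tt N4178 D4178) (tt N2269 (iv D3098)) (tt N3127 F5118) (tt N4179 D4179) (tt N3211 (iv F5235)))
theorem Q3100 : ∀ i, i < 3100 → P i := stepQ 3099 Q3099 (allL N3099 (tt N4171 (iv F6825)) (tt N4175 (iv F6832)) (tt N4179 (iv F6840)) (tt N4180 D4180) (tt N2269 (iv D3099)) (tt N4181 D4181))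
theorem Q3101 : ∀ i, i < 3101 → P i := stepQ 3100 Q3100 (allL N3100 (tt N4172 (iv F6826)) (tt N4176 (iv F6834)) (tt N4182 D4182) (tt N2270 (iv D3100)) (tt N4180 (iv F6841)) (tt N4183 D4183))
theorem Q3102 : ∀ i, i < 3102 → P i := stepQ 3101 Q3101 (allL N3101 (tt N4173 (iv F6827)) (tt N4177 (iv F6835)) (tt N2271 F5064) (tt N4183 (iv F6842)) (tt N4167 (iv F6815)) (tt N2270 (iv D3101)))
theorem Q3103 : ∀ i, i < 3103 → P i := stepQ 3102 Q3102 (allL N3102 (tt N2273 F5065) (tt N2341 F5066) (tt N4174 (iv F6830)) (tt N4184 D4184) (tt N2272 (iv D3102)) (tt N4185 D4185))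
theorem Q3104 : ∀ i, i < 3104 → P i := stepQ 3103 Q3103 (allL N3103 (tt N4184 (iv F6843)) (tt N2274 F5067) (tt N4186 D4186) (tt N2273 (iv D3103)) (tt N2321 F5068) (tt N4187 D4187))
theorem Q3105 : ∀ i, i < 3105 → P i := stepQ 3104 Q3104 (allL N3104 (tt N4185 (iv F6846)) (tt N2275 F5069) (tt N4177 (iv F6836)) (tt N4187 (iv F6851)) (tt N2326 F5070) (tt N2273 (iv D3104)))
theorem Q3106 : ∀ i, i < 3106 → P i := stepQ 3105 Q3105 (allL N3105 (tt N2345 F5071) (tt N4187 (iv F6850)) (tt N2357 F5072) (tt N2275 F5073) (tt N2345 F5074) (tt N2274 (iv D3105)))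
theorem Q3107 : ∀ i, i < 3107 → P i := stepQ 3106 Q3106 (allL N3106 (tt N2280 F5075) (tt N2277 F5076) (tt N2346 F5077) (tt N4188 D4188) (tt N2276 (iv D3106)) (tt N4061 (iv F6651)))
theorem Q3108 : ∀ i, i < 3108 → P i := stepQ 3107 Q3107 (allL N3107 (tt N2281 F5078) (tt N4188 (iv F6854)) (tt N4189 D4189) (tt N2277 (iv D3107)) (tt N4188 (iv F6855)) (tt N4190 D4190))
theorem Q3109 : ∀ i, i < 3109 → P i := stepQ 3108 Q3108 (allL N3108 (tt N2282 F5079) (tt N4061 (iv F6649)) (tt N2278 F5080) (tt N4190 (iv F6858)) (tt N2427 F5081) (tt N2277 (iv D3108)))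
theorem Q3110 : ∀ i, i < 3110 → P i := stepQ 3109 Q3109 (allL N3109 (tt N2346 F5082) (tt N2349 F5083) (tt N2280 F5084) (tt N4191 D4191) (tt N2279 (iv D3109)) (tt N4054 (iv F6635)))
theorem Q3111 : ∀ i, i < 3111 → P i := stepQ 3110 Q3110 (allL N3110 (tt N4188 (iv F6853)) (tt N2357 F5085) (tt N4192 D4192) (tt N2280 (iv D3110)) (tt N2281 F5086) (tt N4063 (iv F6654)))
theorem Q3112 : ∀ i, i < 3112 → P i := stepQ 3111 Q3111 (allL N3111 (tt N4189 (iv F6856)) (tt N4193 D4193) (tt N2281 (iv D3111)) (tt N4194 D4194) (tt N4192 (iv F6862)) (tt N4195 D4195))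
theorem Q3113 : ∀ i, i < 3113 → P i := stepQ 3112 Q3112 (allL N3112 (tt N4190 (iv F6857)) (tt N2344 F5087) (tt N4195 (iv F6866)) (tt N2282 F5088) (tt N4076 (iv F6678)) (tt N2281 (iv D3112)))
theorem Q3114 : ∀ i, i < 3114 → P i := stepQ 3113 Q3113 (allL N3113 (tt N2285 F5089) (tt N4196 D4196) (tt N2283 (iv D3113)) (tt N4197 D4197) (tt N4198 D4198) (tt N2371 F5090))
theorem Q3115 : ∀ i, i < 3115 → P i := stepQ 3114 Q3114 (allL N3114 (tt N2286 F5091) (tt N2291 F5092) (tt N4198 (iv F6875)) (tt N3684 (iv F6016)) (tt N2283 (iv D3114)) (tt N4199 D4199))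
theorem Q3116 : ∀ i, i < 3116 → P i := stepQ 3115 Q3115 (allL N3115 (tt N2287 F5093) (tt N2293 F5094) (tt N3685 (iv F6019)) (tt N4200 D4200) (tt N2284 (iv D3115)) (tt N3685 (iv F6020)))
theorem Q3117 : ∀ i, i < 3117 → P i := stepQ 3116 Q3116 (allL N3116 (tt N4197 (iv F6871)) (tt N2375 F5095) (tt N4201 D4201) (tt N2285 (iv D3116)) (tt N4202 D4202) (tt N2372 F5096))
theorem Q3118 : ∀ i, i < 3118 → P i := stepQ 3117 Q3117 (allL N3117 (tt N4198 (iv F6874)) (tt N2378 F5097) (tt N2286 F5098) (tt N4203 D4203) (tt N2285 (iv D3117)) (tt N4204 D4204))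
theorem Q3119 : ∀ i, i < 3119 → P i := stepQ 3118 Q3118 (allL N3118 (tt N4199 (iv F6876)) (tt N2288 F5099) (tt N4204 (iv F6887)) (tt N3688 (iv F6025)) (tt N2384 F5100) (tt N2286 (iv D3118)))
theorem Q3120 : ∀ i, i < 3120 → P i := stepQ 3119 Q3119 (allL N3119 (tt N4200 (iv F6879)) (tt N2289 F5101) (tt N4205 D4205) (tt N2287 (iv D3119)) (tt N2383 F5102) (tt N3689 (iv F6027)))
theorem Q3121 : ∀ i, i < 3121 → P i := stepQ 3120 Q3120 (allL N3120 (tt N2307 F5103) (tt N4206 D4206) (tt N2289 (iv D3120)) (tt N2744 F5104) (tt N2385 F5105) (tt N2756 F5106))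
theorem Q3122 : ∀ i, i < 3122 → P i := stepQ 3121 Q3121 (allL N3121 (tt N4207 D4207) (tt N2290 (iv D3121)) (tt N4196 (iv F6868)) (tt N3949 (iv F6461)) (tt N4208 D4208) (tt N4209 D4209))
theorem Q3123 : ∀ i, i < 3123 → P i := stepQ 3122 Q3122 (allL N3122 (tt N2296 F5107) (tt N4208 (iv F6897)) (tt N2291 F5108) (tt N4210 D4210) (tt N2290 (iv D3122)) (tt N4211 D4211))
theorem Q3124 : ∀ i, i < 3124 → P i := stepQ 3123 Q3123 (allL N3123 (tt N2297 F5109) (tt N4209 (iv F6899)) (tt N2292 F5110) (tt N2313 F5111) (tt N4212 D4212) (tt N2290 (iv D3123)))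
theorem Q3125 : ∀ i, i < 3125 → P i := stepQ 3124 Q3124 (allL N3124 (tt N2298 F5112) (tt N4199 (iv F6877)) (tt N4211 (iv F6904)) (tt N4148 (iv F6769)) (tt N4213 D4213) (tt N2291 (iv D3124)))
theorem Q3126 : ∀ i, i < 3126 → P i := stepQ 3125 Q3125 (allL N3125 (tt N2299 F5113) (tt N2382 F5114) (tt N4212 (iv F6906)) (tt N4214 D4214) (tt N2292 (iv D3125)) (tt N4213 (iv F6909)))
theorem Q3127 : ∀ i, i < 3127 → P i := stepQ 3126 Q3126 (allL N3126 (tt N2300 F5115) (tt N4200 (iv F6880)) (tt N4215 D4215) (tt N2293 (iv D3126)) (tt N4214 (iv F6912)) (tt N4082 (iv F6696)))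
theorem Q3128 : ∀ i, i < 3128 → P i := stepQ 3127 Q3127 (allL N3127 (tt N2294 (iv D3127)) (tt N4207 (iv F6893)) (tt N2301 F5116) (tt N3098 (iv F5118)) (tt N4216 D4216) (tt N2358 F5117))
theorem Q3129 : ∀ i, i < 3129 → P i := stepQ 3128 Q3128 (allL N3128 (tt N3098 F5119) (tt N2295 F5120) (tt N3092 F5122) (tt N2294 (iv D3128)) (tt N4217 D4217) (tt N2361 F5121))
theorem Q3130 : ∀ i, i < 3130 → P i := stepQ 3129 Q3129 (allL N3129 (tt N4216 (iv F6914)) (tt N2296 F5123) (tt N2302 F5124) (tt N4218 D4218) (tt N2294 (iv D3129)) (tt N4219 D4219))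
theorem Q3131 : ∀ i, i < 3131 → P i := stepQ 3130 Q3130 (allL N3130 (tt N3950 (iv F6463)) (tt N4217 (iv F6917)) (tt N3948 (iv F6459)) (tt N4220 D4220) (tt N2295 (iv D3130)) (tt N4221 D4221))
theorem Q3132 : ∀ i, i < 3132 → P i := stepQ 3131 Q3131 (allL N3131 (tt N2313 F5125) (tt N2361 F5126) (tt N2309 F5127) (tt N2297 F5128) (tt N4222 D4222) (tt N2295 (iv D3131)))
theorem Q3133 : ∀ i, i < 3133 → P i := stepQ 3132 Q3132 (allL N3132 (tt N4210 (iv F6902)) (tt N4218 (iv F6919)) (tt N4223 D4223) (tt N2296 (iv D3132)) (tt N4220 (iv F6923)) (tt N4224 D4224))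
theorem Q3134 : ∀ i, i < 3134 → P i := stepQ 3133 Q3133 (allL N3133 (tt N4211 (iv F6903)) (tt N4219 (iv F6920)) (tt N2298 F5129) (tt N4224 (iv F6927)) (tt N4225 D4225) (tt N2296 (iv D3133)))
theorem Q3135 : ∀ i, i < 3135 → P i := stepQ 3134 Q3134 (allL N3134 (tt N4212 (iv F6905)) (tt N2362 F5130) (tt N2299 F5131) (tt N4226 D4226) (tt N2297 (iv D3134)) (tt N4225 (iv F6930)))
theorem Q3136 : ∀ i, i < 3136 → P i := stepQ 3135 Q3135 (allL N3135 (tt N4213 (iv F6907)) (tt N2305 F5132) (tt N4225 (iv F6929)) (tt N4227 D4227) (tt N2298 (iv D3135)) (tt N2299 F5133))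
theorem Q3137 : ∀ i, i < 3137 → P i := stepQ 3136 Q3136 (allL N3136 (tt N4214 (iv F6910)) (tt N2306 F5134) (tt N4228 D4228) (tt N2299 (iv D3136)) (tt N2300 F5135) (tt N4227 (iv F6933)))
theorem Q3138 : ∀ i, i < 3138 → P i := stepQ 3137 Q3137 (allL N3137 (tt N4215 (iv F6913)) (tt N4229 D4229) (tt N2300 (iv D3137)) (tt N4230 D4230) (tt N4228 (iv F6934)) (tt N4083 (iv F6697)))
theorem Q3139 : ∀ i, i < 3139 → P i := stepQ 3138 Q3138 (allL N3138 (tt N2302 F5136) (tt N2369 F5137) (tt N4216 (iv F6915)) (tt N4231 D4231) (tt N2301 (iv D3138)) (tt N4232 D4232))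
theorem Q3140 : ∀ i, i < 3140 → P i := stepQ 3139 Q3139 (allL N3139 (tt N4231 (iv F6936)) (tt N2303 F5138) (tt N4233 D4233) (tt N2302 (iv D3139)) (tt N2364 F5139) (tt N3740 (iv F6098)))
theorem Q3141 : ∀ i, i < 3141 → P i := stepQ 3140 Q3140 (allL N3140 (tt N4232 (iv F6939)) (tt N2304 F5140) (tt N4219 (iv F6921)) (tt N3740 (iv F6097)) (tt N2363 F5141) (tt N2302 (iv D3140)))
theorem Q3142 : ∀ i, i < 3142 → P i := stepQ 3141 Q3141 (allL N3141 (tt N2386 F5142) (tt N4227 (iv F6932)) (tt N2767 F5143) (tt N2305 (iv D3141)) (tt N3647 (iv F5942)) (tt N2306 F5144))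
theorem Q3143 : ∀ i, i < 3143 → P i := stepQ 3142 Q3142 (allL N3142 (tt N2385 F5145) (tt N4234 D4234) (tt N2306 (iv D3142)) (tt N2768 F5146) (tt N2307 F5147) (tt N2767 F5148))
theorem Q3144 : ∀ i, i < 3144 → P i := stepQ 3143 Q3143 (allL N3143 (tt N4235 D4235) (tt N2307 (iv D3143)) (tt N4229 (iv F6935)) (tt N4236 D4236) (tt N4234 (iv F6945)) (tt N4151 (iv F6772)))
theorem Q3145 : ∀ i, i < 3145 → P i := stepQ 3144 Q3144 (allL N3144 (tt N2744 F5149) (tt N4236 (iv F6947)) (tt N2668 F5150) (tt N2307 (iv D3144)) (tt N3636 (iv F5917)) (tt N2667 F5151))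
theorem Q3146 : ∀ i, i < 3146 → P i := stepQ 3145 Q3145 (allL N3145 (tt N3549 (iv F5743)) (tt N2309 F5152) (tt N4237 D4237) (tt N2308 (iv D3145)) (tt N4238 D4238) (tt N3933 (iv F6434)))
theorem Q3147 : ∀ i, i < 3147 → P i := stepQ 3146 Q3146 (allL N3146 (tt N3935 (iv F6436)) (tt N2310 F5153) (tt N3998 (iv F6558)) (tt N4239 D4239) (tt N2308 (iv D3146)) (tt N4240 D4240))
theorem Q3148 : ∀ i, i < 3148 → P i := stepQ 3147 Q3147 (allL N3147 (tt N2314 F5154) (tt N4238 (iv F6952)) (tt N4222 (iv F6926)) (tt N4241 D4241) (tt N2309 (iv D3147)) (tt N4242 D4242))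
theorem Q3149 : ∀ i, i < 3149 → P i := stepQ 3148 Q3148 (allL N3148 (tt N2315 F5155) (tt N4239 (iv F6953)) (tt N4243 D4243) (tt N2310 (iv D3148)) (tt N4241 (iv F6956)) (tt N4244 D4244))
theorem Q3150 : ∀ i, i < 3150 → P i := stepQ 3149 Q3149 (allL N3149 (tt N2316 F5156) (tt N4240 (iv F6954)) (tt N2311 F5157) (tt N4244 (iv F6960)) (tt N3939 (iv F6444)) (tt N2310 (iv D3149)))
theorem Q3151 : ∀ i, i < 3151 → P i := stepQ 3150 Q3150 (allL N3150 (tt N2317 F5158) (tt N4245 D4245) (tt N2312 (iv D3150)) (tt N4246 D4246) (tt N3965 (iv F6484)) (tt N4066 F6658))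
theorem Q3152 : ∀ i, i < 3152 → P i := stepQ 3151 Q3151 (allL N3151 (tt N4247 D4247) (tt N2313 (iv D3151)) (tt N3538 F5720) (tt N4209 (iv F6901)) (tt N4248 D4248) (tt N3949 (iv F6462)))
theorem Q3153 : ∀ i, i < 3153 → P i := stepQ 3152 Q3152 (allL N3152 (tt N4222 (iv F6924)) (tt N4248 (iv F6965)) (tt N2314 F5159) (tt N4249 D4249) (tt N2313 (iv D3152)) (tt N4250 D4250))
theorem Q3154 : ∀ i, i < 3154 → P i := stepQ 3153 Q3153 (allL N3153 (tt N4241 (iv F6955)) (tt N3956 (iv F6471)) (tt N4251 D4251) (tt N2314 (iv D3153)) (tt N2315 F5160) (tt N4252 D4252))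
theorem Q3155 : ∀ i, i < 3155 → P i := stepQ 3154 Q3154 (allL N3154 (tt N4242 (iv F6957)) (tt N3955 (iv F6469)) (tt N4250 (iv F6966)) (tt N4252 (iv F6968)) (tt N3951 (iv F6466)) (tt N2314 (iv D3154)))
theorem Q3156 : ∀ i, i < 3156 → P i := stepQ 3155 Q3155 (allL N3155 (tt N4243 (iv F6958)) (tt N4253 D4253) (tt N2315 (iv D3155)) (tt N4254 D4254) (tt N4251 (iv F6967)) (tt N4255 D4255))
theorem Q3157 : ∀ i, i < 3157 → P i := stepQ 3156 Q3156 (allL N3156 (tt N4244 (iv F6959)) (tt N3947 (iv F6456)) (tt N4255 (iv F6969)) (tt N2316 F5161) (tt N4256 D4256) (tt N2315 (iv D3156)))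
theorem Q3158 : ∀ i, i < 3158 → P i := stepQ 3157 Q3157 (allL N3157 (tt N4257 D4257) (tt N2317 (iv D3157)) (tt N2318 F5162) (tt N4258 D4258) (tt N3967 (iv F6490)) (tt N4070 (iv F6670)))
theorem Q3159 : ∀ i, i < 3159 → P i := stepQ 3158 Q3158 (allL N3158 (tt N4246 (iv F6961)) (tt N4258 (iv F6971)) (tt N4259 D4259) (tt N2317 (iv D3158)) (tt N4260 D4260) (tt N4074 (iv F6673)))
theorem Q3160 : ∀ i, i < 3160 → P i := stepQ 3159 Q3159 (allL N3159 (tt N2318 (iv D3159)) (tt N4075 (iv F6675)) (tt N4257 (iv F6970)) (tt N4261 D4261) (tt N3970 (iv F6497)) (tt N4075 (iv F6676)))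
theorem Q3161 : ∀ i, i < 3161 → P i := stepQ 3160 Q3160 (allL N3160 (tt N4261 (iv F6972)) (tt N2319 F5163) (tt N4262 D4262) (tt N2318 (iv D3160)) (tt N4063 (iv F6653)) (tt N4076 (iv F6679)))
theorem Q3162 : ∀ i, i < 3162 → P i := stepQ 3161 Q3161 (allL N3161 (tt N2321 F5164) (tt N4152 (iv F6774)) (tt N4263 D4263) (tt N2320 (iv D3161)) (tt N4184 (iv F6845)) (tt N4152 (iv F6776)))
theorem Q3163 : ∀ i, i < 3163 → P i := stepQ 3162 Q3162 (allL N3162 (tt N4263 (iv F6974)) (tt N4262 (iv F6973)) (tt N2321 (iv D3162)) (tt N4264 D4264) (tt N4186 (iv F6849)) (tt N4153 (iv F6778)))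
theorem Q3164 : ∀ i, i < 3164 → P i := stepQ 3163 Q3163 (allL N3163 (tt N4162 (iv F6802)) (tt N2322 (iv D3163)) (tt N4154 (iv F6780)) (tt N4265 D4265) (tt N4266 D4266) (tt N4168 (iv F6818)))
theorem Q3165 : ∀ i, i < 3165 → P i := stepQ 3164 Q3164 (allL N3164 (tt N2324 F5165) (tt N4265 (iv F6976)) (tt N2611 F5166) (tt N2322 (iv D3164)) (tt N4267 D4267) (tt N2750 F5167))
theorem Q3166 : ∀ i, i < 3166 → P i := stepQ 3165 Q3165 (allL N3165 (tt N2325 F5168) (tt N4266 (iv F6979)) (tt N2323 F5169) (tt N4268 D4268) (tt N2322 (iv D3165)) (tt N4269 D4269))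
theorem Q3167 : ∀ i, i < 3167 → P i := stepQ 3166 Q3166 (allL N3166 (tt N2326 F5170) (tt N4157 (iv F6790)) (tt N4269 (iv F6984)) (tt N4157 (iv F6791)) (tt N4185 (iv F6848)) (tt N2323 (iv D3166)))
theorem Q3168 : ∀ i, i < 3168 → P i := stepQ 3167 Q3167 (allL N3167 (tt N2611 F5171) (tt N4270 D4270) (tt N2324 (iv D3167)) (tt N2610 F5172) (tt N4271 D4271) (tt N2746 F5173))
theorem Q3169 : ∀ i, i < 3169 → P i := stepQ 3168 Q3168 (allL N3168 (tt N4267 (iv F6980)) (tt N4165 (iv F6811)) (tt N4271 (iv F6990)) (tt N4272 D4272) (tt N2324 (iv D3168)) (tt N4273 D4273))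
theorem Q3170 : ∀ i, i < 3170 → P i := stepQ 3169 Q3169 (allL N3169 (tt N4268 (iv F6982)) (tt N4166 (iv F6812)) (tt N4274 D4274) (tt N2325 (iv D3169)) (tt N4272 (iv F6991)) (tt N4275 D4275))
theorem Q3171 : ∀ i, i < 3171 → P i := stepQ 3170 Q3170 (allL N3170 (tt N4269 (iv F6983)) (tt N4167 (iv F6813)) (tt N2326 F5174) (tt N4275 (iv F6992)) (tt N4177 (iv F6837)) (tt N2325 (iv D3170)))
theorem Q3172 : ∀ i, i < 3172 → P i := stepQ 3171 Q3171 (allL N3171 (tt N4154 (iv F6779)) (tt N2327 (iv D3171)) (tt N4162 (iv F6803)) (tt N2399 F5175) (tt N4276 D4276) (tt N2332 F5176))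
theorem Q3173 : ∀ i, i < 3173 → P i := stepQ 3172 Q3172 (allL N3172 (tt N2330 F5177) (tt N4276 (iv F6993)) (tt N2328 F5178) (tt N4277 D4277) (tt N2327 (iv D3172)) (tt N4278 D4278))
theorem Q3174 : ∀ i, i < 3174 → P i := stepQ 3173 Q3173 (allL N3173 (tt N2331 F5179) (tt N4164 (iv F6808)) (tt N4278 (iv F6997)) (tt N4092 (iv F6707)) (tt N2334 F5180) (tt N2328 (iv D3173)))
theorem Q3175 : ∀ i, i < 3175 → P i := stepQ 3174 Q3174 (allL N3174 (tt N2400 F5181) (tt N4159 (iv F6797)) (tt N2397 F5182) (tt N4279 D4279) (tt N2329 (iv D3174)) (tt N4280 D4280))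
theorem Q3176 : ∀ i, i < 3176 → P i := stepQ 3175 Q3175 (allL N3175 (tt N4277 (iv F6994)) (tt N4160 (iv F6798)) (tt N4281 D4281) (tt N2330 (iv D3175)) (tt N4279 (iv F7000)) (tt N4282 D4282))
theorem Q3177 : ∀ i, i < 3177 → P i := stepQ 3176 Q3176 (allL N3176 (tt N4278 (iv F6996)) (tt N4161 (iv F6799)) (tt N2331 F5183) (tt N4282 (iv F7004)) (tt N2340 F5184) (tt N2330 (iv D3176)))
theorem Q3178 : ∀ i, i < 3178 → P i := stepQ 3177 Q3177 (allL N3177 (tt N2332 (iv D3177)) (tt N2335 F5185) (tt N4168 (iv F6817)) (tt N3058 F5186) (tt N4283 D4283) (tt N4154 (iv F6781)))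
theorem Q3179 : ∀ i, i < 3179 → P i := stepQ 3178 Q3178 (allL N3178 (tt N4283 (iv F7005)) (tt N2333 F5187) (tt N4170 (iv F6824)) (tt N4284 D4284) (tt N2332 (iv D3178)) (tt N4285 D4285))
theorem Q3180 : ∀ i, i < 3180 → P i := stepQ 3179 Q3179 (allL N3179 (tt N2339 F5188) (tt N4284 (iv F7007)) (tt N4286 D4286) (tt N2333 (iv D3179)) (tt N3060 F5189) (tt N4287 D4287))
theorem Q3181 : ∀ i, i < 3181 → P i := stepQ 3180 Q3180 (allL N3180 (tt N2340 F5190) (tt N4285 (iv F7009)) (tt N2334 F5191) (tt N4287 (iv F7016)) (tt N4278 (iv F6998)) (tt N2333 (iv D3180)))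
theorem Q3182 : ∀ i, i < 3182 → P i := stepQ 3181 Q3181 (allL N3181 (tt N2336 F5192) (tt N3058 F5193) (tt N2732 F5194) (tt N2335 (iv D3181)) (tt N4288 D4288) (tt N4155 (iv F6786)))
theorem Q3183 : ∀ i, i < 3183 → P i := stepQ 3182 Q3182 (allL N3182 (tt N2337 F5195) (tt N4283 (iv F7006)) (tt N2341 F5196) (tt N4289 D4289) (tt N2335 (iv D3182)) (tt N4290 D4290))
theorem Q3184 : ∀ i, i < 3184 → P i := stepQ 3183 Q3183 (allL N3183 (tt N2732 F5197) (tt N3051 F5198) (tt N2336 (iv D3183)) (tt N2727 F5199) (tt N4291 D4291) (tt N4158 (iv F6796)))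
theorem Q3185 : ∀ i, i < 3185 → P i := stepQ 3184 Q3184 (allL N3184 (tt N4288 (iv F7017)) (tt N2338 F5200) (tt N4291 (iv F7025)) (tt N4292 D4292) (tt N2336 (iv D3184)) (tt N4293 D4293))
theorem Q3186 : ∀ i, i < 3186 → P i := stepQ 3185 Q3185 (allL N3185 (tt N4289 (iv F7020)) (tt N2339 F5201) (tt N4294 D4294) (tt N2337 (iv D3185)) (tt N4292 (iv F7027)) (tt N4295 D4295))
theorem Q3187 : ∀ i, i < 3187 → P i := stepQ 3186 Q3186 (allL N3186 (tt N4290 (iv F7021)) (tt N2340 F5202) (tt N2343 F5203) (tt N4295 (iv F7030)) (tt N4161 (iv F6801)) (tt N2337 (iv D3186)))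
theorem Q3188 : ∀ i, i < 3188 → P i := stepQ 3187 Q3187 (allL N3187 (tt N3060 F5204) (tt N4292 (iv F7026)) (tt N4296 D4296) (tt N2338 (iv D3187)) (tt N2339 F5205) (tt N4297 D4297))
theorem Q3189 : ∀ i, i < 3189 → P i := stepQ 3188 Q3188 (allL N3188 (tt N3061 F5206) (tt N4293 (iv F7028)) (tt N3057 F5207) (tt N4297 (iv F7034)) (tt N4280 (iv F7003)) (tt N2338 (iv D3188)))
theorem Q3190 : ∀ i, i < 3190 → P i := stepQ 3189 Q3189 (allL N3189 (tt N4286 (iv F7010)) (tt N4298 D4298) (tt N2339 (iv D3189)) (tt N4299 D4299) (tt N4296 (iv F7032)) (tt N4300 D4300))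
theorem Q3191 : ∀ i, i < 3191 → P i := stepQ 3190 Q3190 (allL N3190 (tt N4287 (iv F7014)) (tt N4295 (iv F7029)) (tt N4300 (iv F7039)) (tt N2340 F5208) (tt N4301 D4301) (tt N2339 (iv D3190)))
theorem Q3192 : ∀ i, i < 3192 → P i := stepQ 3191 Q3191 (allL N3191 (tt N2342 F5209) (tt N4184 (iv F6844)) (tt N4302 D4302) (tt N2341 (iv D3191)) (tt N4152 (iv F6775)) (tt N4303 D4303))
theorem Q3193 : ∀ i, i < 3193 → P i := stepQ 3192 Q3192 (allL N3192 (tt N2343 F5210) (tt N4185 (iv F6847)) (tt N4290 (iv F7022)) (tt N4303 (iv F7043)) (tt N4157 (iv F6792)) (tt N2341 (iv D3192)))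
theorem Q3194 : ∀ i, i < 3194 → P i := stepQ 3193 Q3193 (allL N3193 (tt N4302 (iv F7041)) (tt N4195 (iv F6865)) (tt N2342 (iv D3193)) (tt N4304 D4304) (tt N4153 (iv F6777)) (tt N4193 F6864))
theorem Q3195 : ∀ i, i < 3195 → P i := stepQ 3194 Q3194 (allL N3194 (tt N4303 (iv F7042)) (tt N2345 F5211) (tt N4193 (iv F6863)) (tt N2343 F5212) (tt N4187 (iv F6852)) (tt N2342 (iv D3194)))
theorem Q3196 : ∀ i, i < 3196 → P i := stepQ 3195 Q3195 (allL N3195 (tt N4191 (iv F6859)) (tt N2347 F5213) (tt N4305 D4305) (tt N2346 (iv D3195)) (tt N2758 F5214) (tt N4306 D4306))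
theorem Q3197 : ∀ i, i < 3197 → P i := stepQ 3196 Q3196 (allL N3196 (tt N4054 (iv F6632)) (tt N2348 F5215) (tt N4061 (iv F6650)) (tt N4306 (iv F7046)) (tt N3680 (iv F6009)) (tt N2346 (iv D3196)))
theorem Q3198 : ∀ i, i < 3198 → P i := stepQ 3197 Q3197 (allL N3197 (tt N2355 F5216) (tt N4307 D4307) (tt N2347 (iv D3197)) (tt N4300 (iv F7040)) (tt N2760 F5217) (tt N4299 (iv F7037)))
theorem Q3199 : ∀ i, i < 3199 → P i := stepQ 3198 Q3198 (allL N3198 (tt N2356 F5218) (tt N4306 (iv F7045)) (tt N4299 (iv F7036)) (tt N2348 F5219) (tt N4308 D4308) (tt N2347 (iv D3198)))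
theorem Q3200 : ∀ i, i < 3200 → P i := stepQ 3199 Q3199 (allL N3199 (tt N2351 F5220) (tt N4191 (iv F6860)) (tt N4309 D4309) (tt N2349 (iv D3199)) (tt N3300 (iv F5345)) (tt N4059 (iv F6645)))
theorem Q3201 : ∀ i, i < 3201 → P i := stepQ 3200 Q3200 (allL N3200 (tt N3300 (iv F5344)) (tt N2353 F5221) (tt N4310 D4310) (tt N2350 (iv D3200)) (tt N2351 F5222) (tt N4311 D4311))
theorem Q3202 : ∀ i, i < 3202 → P i := stepQ 3201 Q3201 (allL N3201 (tt N3301 (iv F5346)) (tt N2354 F5223) (tt N3286 (iv F5335)) (tt N4311 (iv F7053)) (tt N2425 F5224) (tt N2350 (iv D3201)))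
theorem Q3203 : ∀ i, i < 3203 → P i := stepQ 3202 Q3202 (allL N3202 (tt N4309 (iv F7050)) (tt N4312 D4312) (tt N2351 (iv D3202)) (tt N4313 D4313) (tt N4310 (iv F7051)) (tt N4313 (iv F7056)))
theorem Q3204 : ∀ i, i < 3204 → P i := stepQ 3203 Q3203 (allL N3203 (tt N4059 (iv F6644)) (tt N2356 F5225) (tt N4313 (iv F7055)) (tt N2352 F5226) (tt N4314 D4314) (tt N2351 (iv D3203)))
theorem Q3205 : ∀ i, i < 3205 → P i := stepQ 3204 Q3204 (allL N3204 (tt N2760 F5227) (tt N4315 D4315) (tt N2353 (iv D3204)) (tt N4316 D4316) (tt N2355 F5228) (tt N4317 D4317))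
theorem Q3206 : ∀ i, i < 3206 → P i := stepQ 3205 Q3205 (allL N3205 (tt N2761 F5229) (tt N4311 (iv F7052)) (tt N4317 (iv F7064)) (tt N2354 F5230) (tt N4318 D4318) (tt N2353 (iv D3205)))
theorem Q3207 : ∀ i, i < 3207 → P i := stepQ 3206 Q3206 (allL N3206 (tt N4319 D4319) (tt N2355 (iv D3206)) (tt N4312 (iv F7054)) (tt N4320 D4320) (tt N4315 (iv F7059)) (tt N4321 D4321))
theorem Q3208 : ∀ i, i < 3208 → P i := stepQ 3207 Q3207 (allL N3207 (tt N4300 (iv F7038)) (tt N4320 (iv F7068)) (tt N4287 (iv F7015)) (tt N2355 (iv D3207)) (tt N4322 D4322) (tt N4286 F7013))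
theorem Q3209 : ∀ i, i < 3209 → P i := stepQ 3208 Q3208 (allL N3208 (tt N4299 (iv F7035)) (tt N4321 (iv F7069)) (tt N2356 F5231) (tt N4286 (iv F7012)) (tt N4323 D4323) (tt N2355 (iv D3208)))
theorem Q3210 : ∀ i, i < 3210 → P i := stepQ 3209 Q3209 (allL N3209 (tt N4308 (iv F7048)) (tt N4314 (iv F7057)) (tt N4323 (iv F7070)) (tt N4116 (iv F6742)) (tt N2356 (iv D3209)) (tt N4318 (iv F7067)))
theorem Q3211 : ∀ i, i < 3211 → P i := stepQ 3210 Q3210 (allL N3210 (tt N4209 (iv F6898)) (tt N2358 (iv D3210)) (tt N2365 F5232) (tt N4247 (iv F6963)) (tt N4324 D4324) (tt N4207 F6896))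
theorem Q3212 : ∀ i, i < 3212 → P i := stepQ 3211 Q3211 (allL N3211 (tt N2361 F5233) (tt N4247 (iv F6962)) (tt N3088 F5234) (tt N2358 (iv D3211)) (tt N4325 D4325) (tt N3098 F5235))
theorem Q3213 : ∀ i, i < 3213 → P i := stepQ 3212 Q3212 (allL N3212 (tt N2362 F5236) (tt N4324 (iv F7071)) (tt N2359 F5237) (tt N4326 D4326) (tt N2358 (iv D3212)) (tt N4327 D4327))
theorem Q3214 : ∀ i, i < 3214 → P i := stepQ 3213 Q3213 (allL N3213 (tt N2363 F5238) (tt N2368 F5239) (tt N4327 (iv F7077)) (tt N2716 F5240) (tt N4232 (iv F6941)) (tt N2359 (iv D3213)))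
theorem Q3215 : ∀ i, i < 3215 → P i := stepQ 3214 Q3214 (allL N3214 (tt N2364 F5241) (tt N2370 F5242) (tt N4328 D4328) (tt N2360 (iv D3214)) (tt N4231 (iv F6938)) (tt N2404 F5243))
theorem Q3216 : ∀ i, i < 3216 → P i := stepQ 3215 Q3215 (allL N3215 (tt N3088 F5244) (tt N4237 (iv F6949)) (tt N2361 (iv D3215)) (tt N3086 F5245) (tt N4329 D4329) (tt N3092 F5246))
theorem Q3217 : ∀ i, i < 3217 → P i := stepQ 3216 Q3216 (allL N3216 (tt N4325 (iv F7073)) (tt N4222 (iv F6925)) (tt N4329 (iv F7082)) (tt N4330 D4330) (tt N2361 (iv D3216)) (tt N4331 D4331))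
theorem Q3218 : ∀ i, i < 3218 → P i := stepQ 3217 Q3217 (allL N3217 (tt N4326 (iv F7075)) (tt N4226 (iv F6931)) (tt N4332 D4332) (tt N2362 (iv D3217)) (tt N4330 (iv F7083)) (tt N4333 D4333))
theorem Q3219 : ∀ i, i < 3219 → P i := stepQ 3218 Q3218 (allL N3218 (tt N4327 (iv F7076)) (tt N4225 (iv F6928)) (tt N2363 F5247) (tt N4333 (iv F7084)) (tt N4219 (iv F6922)) (tt N2362 (iv D3218)))
theorem Q3220 : ∀ i, i < 3220 → P i := stepQ 3219 Q3219 (allL N3219 (tt N4328 (iv F7078)) (tt N2687 F5248) (tt N2364 (iv D3219)) (tt N4334 D4334) (tt N4233 (iv F6943)) (tt N2628 F5249))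
theorem Q3221 : ∀ i, i < 3221 → P i := stepQ 3220 Q3220 (allL N3220 (tt N2365 (iv D3220)) (tt N2371 F5250) (tt N4209 (iv F6900)) (tt N3663 (iv F5971)) (tt N4335 D4335) (tt N4196 (iv F6869)))
theorem Q3222 : ∀ i, i < 3222 → P i := stepQ 3221 Q3221 (allL N3221 (tt N4335 (iv F7089)) (tt N2366 F5251) (tt N4324 (iv F7072)) (tt N4336 D4336) (tt N2365 (iv D3221)) (tt N4337 D4337))
theorem Q3223 : ∀ i, i < 3223 → P i := stepQ 3222 Q3222 (allL N3222 (tt N4196 (iv F6867)) (tt N2367 F5252) (tt N4207 (iv F6894)) (tt N2392 F5253) (tt N4338 D4338) (tt N2365 (iv D3222)))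
theorem Q3224 : ∀ i, i < 3224 → P i := stepQ 3223 Q3223 (allL N3223 (tt N2376 F5254) (tt N4336 (iv F7091)) (tt N4339 D4339) (tt N2366 (iv D3223)) (tt N3665 (iv F5976)) (tt N4340 D4340))
theorem Q3225 : ∀ i, i < 3225 → P i := stepQ 3224 Q3224 (allL N3224 (tt N2377 F5255) (tt N4337 (iv F7092)) (tt N2368 F5256) (tt N4340 (iv F7099)) (tt N4341 D4341) (tt N2366 (iv D3224)))
theorem Q3226 : ∀ i, i < 3226 → P i := stepQ 3225 Q3225 (allL N3225 (tt N2378 F5257) (tt N4338 (iv F7093)) (tt N2369 F5258) (tt N4342 D4342) (tt N2367 (iv D3225)) (tt N4341 (iv F7102)))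
theorem Q3227 : ∀ i, i < 3227 → P i := stepQ 3226 Q3226 (allL N3226 (tt N2379 F5259) (tt N4232 (iv F6940)) (tt N4341 (iv F7101)) (tt N4343 D4343) (tt N2368 (iv D3226)) (tt N2369 F5260))
theorem Q3228 : ∀ i, i < 3228 → P i := stepQ 3227 Q3227 (allL N3227 (tt N2380 F5261) (tt N4231 (iv F6937)) (tt N4344 D4344) (tt N2369 (iv D3227)) (tt N2370 F5262) (tt N4343 (iv F7107)))
theorem Q3229 : ∀ i, i < 3229 → P i := stepQ 3228 Q3228 (allL N3228 (tt N2381 F5263) (tt N4345 D4345) (tt N2370 (iv D3228)) (tt N2403 F5264) (tt N4344 (iv F7109)) (tt N2407 F5265))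
theorem Q3230 : ∀ i, i < 3230 → P i := stepQ 3229 Q3229 (allL N3229 (tt N2372 F5266) (tt N3663 (iv F5969)) (tt N3686 (iv F6022)) (tt N2371 (iv D3229)) (tt N4346 D4346) (tt N4197 (iv F6873)))
theorem Q3231 : ∀ i, i < 3231 → P i := stepQ 3230 Q3230 (allL N3230 (tt N2373 F5267) (tt N4335 (iv F7090)) (tt N2382 F5268) (tt N4347 D4347) (tt N2371 (iv D3230)) (tt N4348 D4348))
theorem Q3232 : ∀ i, i < 3232 → P i := stepQ 3231 Q3231 (allL N3231 (tt N3686 (iv F6021)) (tt N3656 (iv F5954)) (tt N2372 (iv D3231)) (tt N3683 (iv F6013)) (tt N4349 D4349) (tt N4201 (iv F6883)))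
theorem Q3233 : ∀ i, i < 3233 → P i := stepQ 3232 Q3232 (allL N3232 (tt N4346 (iv F7112)) (tt N2374 F5269) (tt N4349 (iv F7116)) (tt N4350 D4350) (tt N2372 (iv D3232)) (tt N4351 D4351))
theorem Q3234 : ∀ i, i < 3234 → P i := stepQ 3233 Q3233 (allL N3233 (tt N4347 (iv F7113)) (tt N2376 F5270) (tt N4352 D4352) (tt N2373 (iv D3233)) (tt N4350 (iv F7118)) (tt N4353 D4353))
theorem Q3235 : ∀ i, i < 3235 → P i := stepQ 3234 Q3234 (allL N3234 (tt N4348 (iv F7114)) (tt N2377 F5271) (tt N2384 F5272) (tt N4353 (iv F7121)) (tt N4204 (iv F6888)) (tt N2373 (iv D3234)))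
theorem Q3236 : ∀ i, i < 3236 → P i := stepQ 3235 Q3235 (allL N3235 (tt N3665 (iv F5975)) (tt N4350 (iv F7117)) (tt N4354 D4354) (tt N2374 (iv D3235)) (tt N2376 F5273) (tt N4355 D4355))
theorem Q3237 : ∀ i, i < 3237 → P i := stepQ 3236 Q3236 (allL N3236 (tt N3666 (iv F5977)) (tt N4351 (iv F7119)) (tt N3662 (iv F5966)) (tt N4355 (iv F7123)) (tt N4356 D4356) (tt N2374 (iv D3236)))
theorem Q3238 : ∀ i, i < 3238 → P i := stepQ 3237 Q3237 (allL N3237 (tt N2393 F5274) (tt N4202 (iv F6884)) (tt N2391 F5275) (tt N4357 D4357) (tt N2375 (iv D3237)) (tt N4356 (iv F7126)))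
theorem Q3239 : ∀ i, i < 3239 → P i := stepQ 3238 Q3238 (allL N3238 (tt N4339 (iv F7094)) (tt N4358 D4358) (tt N2376 (iv D3238)) (tt N4317 (iv F7065)) (tt N4354 (iv F7122)) (tt N4316 F7062))
theorem Q3240 : ∀ i, i < 3240 → P i := stepQ 3239 Q3239 (allL N3239 (tt N4340 (iv F7097)) (tt N4353 (iv F7120)) (tt N4316 (iv F7061)) (tt N2377 F5276) (tt N4359 D4359) (tt N2376 (iv D3239)))
theorem Q3241 : ∀ i, i < 3241 → P i := stepQ 3240 Q3240 (allL N3240 (tt N4341 (iv F7100)) (tt N4204 (iv F6886)) (tt N2379 F5277) (tt N4360 D4360) (tt N2377 (iv D3240)) (tt N2378 F5278))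
theorem Q3242 : ∀ i, i < 3242 → P i := stepQ 3241 Q3241 (allL N3241 (tt N4342 (iv F7103)) (tt N4203 (iv F6885)) (tt N4361 D4361) (tt N2378 (iv D3241)) (tt N4357 (iv F7128)) (tt N4360 (iv F7129)))
theorem Q3243 : ∀ i, i < 3243 → P i := stepQ 3242 Q3242 (allL N3242 (tt N4343 (iv F7105)) (tt N2387 F5279) (tt N4362 D4362) (tt N2379 (iv D3242)) (tt N2411 F5280) (tt N2380 F5281))
theorem Q3244 : ∀ i, i < 3244 → P i := stepQ 3243 Q3243 (allL N3243 (tt N4344 (iv F7108)) (tt N4363 D4363) (tt N2380 (iv D3243)) (tt N4364 D4364) (tt N2381 F5282) (tt N4362 (iv F7131)))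
theorem Q3245 : ∀ i, i < 3245 → P i := stepQ 3244 Q3244 (allL N3244 (tt N4365 D4365) (tt N2381 (iv D3244)) (tt N2389 F5283) (tt N4366 D4366) (tt N4363 (iv F7133)) (tt N2412 F5284))
theorem Q3246 : ∀ i, i < 3246 → P i := stepQ 3245 Q3245 (allL N3245 (tt N2403 F5285) (tt N4366 (iv F7136)) (tt N2398 F5286) (tt N2381 (iv D3245)) (tt N4367 D4367) (tt N2413 F5287))
theorem Q3247 : ∀ i, i < 3247 → P i := stepQ 3246 Q3246 (allL N3246 (tt N2383 F5288) (tt N4214 (iv F6911)) (tt N4368 D4368) (tt N2382 (iv D3246)) (tt N4200 (iv F6881)) (tt N4369 D4369))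
theorem Q3248 : ∀ i, i < 3248 → P i := stepQ 3247 Q3247 (allL N3247 (tt N2384 F5289) (tt N4213 (iv F6908)) (tt N4348 (iv F7115)) (tt N4369 (iv F7142)) (tt N4199 (iv F6878)) (tt N2382 (iv D3247)))
theorem Q3249 : ∀ i, i < 3249 → P i := stepQ 3248 Q3248 (allL N3248 (tt N4368 (iv F7140)) (tt N4370 D4370) (tt N2383 (iv D3248)) (tt N4371 D4371) (tt N4205 (iv F6889)) (tt N4372 D4372))
theorem Q3250 : ∀ i, i < 3250 → P i := stepQ 3249 Q3249 (allL N3249 (tt N4369 (iv F7141)) (tt N2386 F5290) (tt N4372 (iv F7144)) (tt N2384 F5291) (tt N4373 D4373) (tt N2383 (iv D3249)))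
theorem Q3251 : ∀ i, i < 3251 → P i := stepQ 3250 Q3250 (allL N3250 (tt N4374 D4374) (tt N2385 (iv D3250)) (tt N4370 (iv F7143)) (tt N3655 (iv F5952)) (tt N4206 (iv F6891)) (tt N3654 F5950))
theorem Q3252 : ∀ i, i < 3252 → P i := stepQ 3251 Q3251 (allL N3251 (tt N3647 (iv F5940)) (tt N4373 (iv F7145)) (tt N3566 F5779) (tt N3629 (iv F5895)) (tt N2386 (iv D3251)) (tt N3644 (iv F5935)))
theorem Q3253 : ∀ i, i < 3253 → P i := stepQ 3252 Q3252 (allL N3252 (tt N2689 F5292) (tt N4375 D4375) (tt N2387 (iv D3252)) (tt N3612 (iv F5863)) (tt N2693 F5293) (tt N2388 F5294))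
theorem Q3254 : ∀ i, i < 3254 → P i := stepQ 3253 Q3253 (allL N3253 (tt N4376 D4376) (tt N2388 (iv D3253)) (tt N4363 (iv F7132)) (tt N3610 (iv F5859)) (tt N2389 F5295) (tt N4375 (iv F7147)))
theorem Q3255 : ∀ i, i < 3255 → P i := stepQ 3254 Q3254 (allL N3254 (tt N2389 (iv D3254)) (tt N2686 F5296) (tt N4365 (iv F7134)) (tt N2627 F5297) (tt N4376 (iv F7149)) (tt N2690 F5298))
theorem Q3256 : ∀ i, i < 3256 → P i := stepQ 3255 Q3255 (allL N3255 (tt N3588 F5823) (tt N4201 (iv F6882)) (tt N2390 (iv D3255)) (tt N4119 (iv F6747)) (tt N4377 D4377) (tt N3656 (iv F5955)))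
theorem Q3257 : ∀ i, i < 3257 → P i := stepQ 3256 Q3256 (allL N3256 (tt N3595 (iv F5833)) (tt N2391 F5299) (tt N4377 (iv F7150)) (tt N4142 (iv F6763)) (tt N2390 (iv D3256)) (tt N4378 D4378))
theorem Q3258 : ∀ i, i < 3258 → P i := stepQ 3257 Q3257 (allL N3257 (tt N2394 F5300) (tt N4378 (iv F7151)) (tt N4356 (iv F7125)) (tt N4143 (iv F6765)) (tt N3662 (iv F5968)) (tt N2391 (iv D3257)))
theorem Q3259 : ∀ i, i < 3259 → P i := stepQ 3258 Q3258 (allL N3258 (tt N2392 (iv D3258)) (tt N4197 (iv F6872)) (tt N3571 F5790) (tt N4196 F6870) (tt N4379 D4379) (tt N3663 (iv F5972)))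
theorem Q3260 : ∀ i, i < 3260 → P i := stepQ 3259 Q3259 (allL N3259 (tt N4379 (iv F7152)) (tt N2393 F5301) (tt N3573 (iv F5797)) (tt N4380 D4380) (tt N2392 (iv D3259)) (tt N4381 D4381))
theorem Q3261 : ∀ i, i < 3261 → P i := stepQ 3260 Q3260 (allL N3260 (tt N4357 (iv F7127)) (tt N4380 (iv F7153)) (tt N4382 D4382) (tt N2393 (iv D3260)) (tt N4342 (iv F7104)) (tt N4383 D4383))
theorem Q3262 : ∀ i, i < 3262 → P i := stepQ 3261 Q3261 (allL N3261 (tt N4356 (iv F7124)) (tt N4381 (iv F7154)) (tt N2394 F5302) (tt N4383 (iv F7155)) (tt N3666 (iv F5979)) (tt N2393 (iv D3261)))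
theorem Q3263 : ∀ i, i < 3263 → P i := stepQ 3262 Q3262 (allL N3262 (tt N2983 F5303) (tt N4158 (iv F6794)) (tt N2395 (iv D3262)) (tt N4384 D4384) (tt N4385 D4385) (tt N3051 F5304))
theorem Q3264 : ∀ i, i < 3264 → P i := stepQ 3263 Q3263 (allL N3263 (tt N2990 F5305) (tt N2397 F5306) (tt N4385 (iv F7161)) (tt N4386 D4386) (tt N2395 (iv D3263)) (tt N4387 D4387))
theorem Q3265 : ∀ i, i < 3265 → P i := stepQ 3264 Q3264 (allL N3264 (tt N3056 F5307) (tt N2398 F5308) (tt N4388 D4388) (tt N2396 (iv D3264)) (tt N4386 (iv F7164)) (tt N3918 (iv F6396)))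
theorem Q3266 : ∀ i, i < 3266 → P i := stepQ 3265 Q3265 (allL N3265 (tt N2401 F5309) (tt N4386 (iv F7163)) (tt N4367 (iv F7139)) (tt N2397 (iv D3265)) (tt N2398 F5310) (tt N4389 D4389))
theorem Q3267 : ∀ i, i < 3267 → P i := stepQ 3266 Q3266 (allL N3266 (tt N2402 F5311) (tt N4387 (iv F7166)) (tt N4280 (iv F7002)) (tt N4389 (iv F7170)) (tt N3057 F5312) (tt N2397 (iv D3266)))
theorem Q3268 : ∀ i, i < 3268 → P i := stepQ 3267 Q3267 (allL N3267 (tt N2399 (iv D3267)) (tt N4155 (iv F6784)) (tt N2953 F5313) (tt N4154 F6782) (tt N4390 D4390) (tt N3058 F5314))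
theorem Q3269 : ∀ i, i < 3269 → P i := stepQ 3268 Q3268 (allL N3268 (tt N4390 (iv F7171)) (tt N2400 F5315) (tt N2955 F5316) (tt N4391 D4391) (tt N2399 (iv D3268)) (tt N4392 D4392))
theorem Q3270 : ∀ i, i < 3270 → P i := stepQ 3269 Q3269 (allL N3269 (tt N4279 (iv F6999)) (tt N4391 (iv F7173)) (tt N4393 D4393) (tt N2400 (iv D3269)) (tt N4277 (iv F6995)) (tt N4394 D4394))
theorem Q3271 : ∀ i, i < 3271 → P i := stepQ 3270 Q3270 (allL N3270 (tt N4280 (iv F7001)) (tt N4392 (iv F7174)) (tt N2402 F5317) (tt N4394 (iv F7177)) (tt N3061 F5318) (tt N2400 (iv D3270)))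
theorem Q3272 : ∀ i, i < 3272 → P i := stepQ 3271 Q3271 (allL N3271 (tt N4367 (iv F7138)) (tt N4395 D4395) (tt N2401 (iv D3271)) (tt N4396 D4396) (tt N2403 F5319) (tt N4397 D4397))
theorem Q3273 : ∀ i, i < 3273 → P i := stepQ 3272 Q3272 (allL N3272 (tt N4389 (iv F7169)) (tt N3067 F5320) (tt N4397 (iv F7180)) (tt N2402 F5321) (tt N3926 (iv F6414)) (tt N2401 (iv D3272)))
theorem Q3274 : ∀ i, i < 3274 → P i := stepQ 3273 Q3273 (allL N3273 (tt N4398 D4398) (tt N2403 (iv D3273)) (tt N3069 F5322) (tt N4345 (iv F7110)) (tt N4395 (iv F7179)) (tt N3927 (iv F6417)))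
theorem Q3275 : ∀ i, i < 3275 → P i := stepQ 3274 Q3274 (allL N3274 (tt N2628 F5323) (tt N4399 D4399) (tt N2404 (iv D3274)) (tt N4400 D4400) (tt N3735 (iv F6089)) (tt N4328 (iv F7079)))
theorem Q3276 : ∀ i, i < 3276 → P i := stepQ 3275 Q3275 (allL N3275 (tt N2410 F5324) (tt N4401 D4401) (tt N2405 (iv D3275)) (tt N4402 D4402) (tt N2407 F5325) (tt N4403 D4403))
theorem Q3277 : ∀ i, i < 3277 → P i := stepQ 3276 Q3276 (allL N3276 (tt N2411 F5326) (tt N3736 (iv F6091)) (tt N4403 (iv F7189)) (tt N2406 F5327) (tt N4343 (iv F7106)) (tt N2405 (iv D3276)))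
theorem Q3278 : ∀ i, i < 3278 → P i := stepQ 3277 Q3277 (allL N3277 (tt N4404 D4404) (tt N2407 (iv D3277)) (tt N4399 (iv F7182)) (tt N3927 (iv F6416)) (tt N4401 (iv F7186)) (tt N4345 (iv F7111)))
theorem Q3279 : ∀ i, i < 3279 → P i := stepQ 3278 Q3278 (allL N3278 (tt N4111 (iv F6734)) (tt N4405 D4405) (tt N2408 (iv D3278)) (tt N4406 D4406) (tt N4109 (iv F6731)) (tt N4407 D4407))
theorem Q3280 : ∀ i, i < 3280 → P i := stepQ 3279 Q3279 (allL N3279 (tt N4112 (iv F6736)) (tt N3682 (iv F6010)) (tt N4407 (iv F7191)) (tt N2409 F5328) (tt N4408 D4408) (tt N2408 (iv D3279)))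
theorem Q3281 : ∀ i, i < 3281 → P i := stepQ 3280 Q3280 (allL N3280 (tt N4409 D4409) (tt N2410 (iv D3280)) (tt N2691 F5329) (tt N4410 D4410) (tt N2412 F5330) (tt N4411 D4411))
theorem Q3282 : ∀ i, i < 3282 → P i := stepQ 3281 Q3281 (allL N3281 (tt N4402 (iv F7187)) (tt N4410 (iv F7195)) (tt N4412 D4412) (tt N2410 (iv D3281)) (tt N4413 D4413) (tt N4414 D4414))
theorem Q3283 : ∀ i, i < 3283 → P i := stepQ 3282 Q3282 (allL N3282 (tt N4403 (iv F7188)) (tt N4411 (iv F7196)) (tt N2411 F5331) (tt N4414 (iv F7199)) (tt N4362 (iv F7130)) (tt N2410 (iv D3282)))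
theorem Q3284 : ∀ i, i < 3284 → P i := stepQ 3283 Q3283 (allL N3283 (tt N2412 (iv D3283)) (tt N4404 (iv F7190)) (tt N2690 F5332) (tt N4415 D4415) (tt N4409 (iv F7194)) (tt N4365 (iv F7135)))
theorem Q3285 : ∀ i, i < 3285 → P i := stepQ 3284 Q3284 (allL N3284 (tt N4415 (iv F7200)) (tt N2413 F5333) (tt N4416 D4416) (tt N2412 (iv D3284)) (tt N4417 D4417) (tt N4366 (iv F7137)))
theorem Q3286 : ∀ i, i < 3286 → P i := stepQ 3285 Q3285 (allL N3285 (tt N3925 (iv F6410)) (tt N4417 (iv F7201)) (tt N3919 F6399) (tt N4413 (iv F7198)) (tt N2413 (iv D3285)) (tt N4418 D4418))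
theorem Q3287 : ∀ i, i < 3287 → P i := stepQ 3286 Q3286 (allL N3286 (tt N2425 F5334) (tt N3678 (iv F6001)) (tt N3201 F5335) (tt N4057 (iv F6641)) (tt N3301 (iv F5348)) (tt N2414 (iv D3286)))
theorem Q3288 : ∀ i, i < 3288 → P i := stepQ 3287 Q3287 (allL N3287 (tt N4419 D4419) (tt N2415 (iv D3287)) (tt N3386 (iv F5482)) (tt N4420 D4420) (tt N2417 F5336) (tt N4421 D4421))
theorem Q3289 : ∀ i, i < 3289 → P i := stepQ 3288 Q3288 (allL N3288 (tt N3380 (iv F5466)) (tt N4420 (iv F7203)) (tt N4422 D4422) (tt N2415 (iv D3288)) (tt N4423 D4423) (tt N4424 D4424))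
theorem Q3290 : ∀ i, i < 3290 → P i := stepQ 3289 Q3289 (allL N3289 (tt N3381 (iv F5467)) (tt N4421 (iv F7204)) (tt N2416 F5337) (tt N4424 (iv F7210)) (tt N4425 D4425) (tt N2415 (iv D3289)))
theorem Q3291 : ∀ i, i < 3291 → P i := stepQ 3290 Q3290 (allL N3290 (tt N3382 (iv F5469)) (tt N3384 (iv F5476)) (tt N4425 (iv F7211)) (tt N3382 (iv F5471)) (tt N2416 (iv D3290)) (tt N2420 F5338))
theorem Q3292 : ∀ i, i < 3292 → P i := stepQ 3291 Q3291 (allL N3291 (tt N2417 (iv D3291)) (tt N4002 (iv F6565)) (tt N3503 (iv F5681)) (tt N4426 D4426) (tt N4419 (iv F7202)) (tt N4427 D4427))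
theorem Q3293 : ∀ i, i < 3293 → P i := stepQ 3292 Q3292 (allL N3292 (tt N4426 (iv F7213)) (tt N2418 F5339) (tt N4428 D4428) (tt N2417 (iv D3292)) (tt N4429 D4429) (tt N4055 (iv F6637)))
theorem Q3294 : ∀ i, i < 3294 → P i := stepQ 3293 Q3293 (allL N3293 (tt N4427 (iv F7214)) (tt N2419 F5340) (tt N3505 (iv F5684)) (tt N4055 (iv F6636)) (tt N4430 D4430) (tt N2417 (iv D3293)))
theorem Q3295 : ∀ i, i < 3295 → P i := stepQ 3294 Q3294 (allL N3294 (tt N4005 (iv F6572)) (tt N4429 (iv F7215)) (tt N4058 (iv F6643)) (tt N4423 (iv F7207)) (tt N2418 (iv D3294)) (tt N4431 D4431))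
theorem Q3296 : ∀ i, i < 3296 → P i := stepQ 3295 Q3295 (allL N3295 (tt N4006 (iv F6574)) (tt N4430 (iv F7216)) (tt N2420 F5341) (tt N4432 D4432) (tt N2419 (iv D3295)) (tt N4425 (iv F7212)))
theorem Q3297 : ∀ i, i < 3297 → P i := stepQ 3296 Q3296 (allL N3296 (tt N4433 D4433) (tt N2421 (iv D3296)) (tt N4113 (iv F6739)) (tt N4004 (iv F6571)) (tt N4434 D4434) (tt N4003 F6568))
theorem Q3298 : ∀ i, i < 3298 → P i := stepQ 3297 Q3297 (allL N3297 (tt N4056 (iv F6638)) (tt N4434 (iv F7217)) (tt N2422 F5342) (tt N4435 D4435) (tt N2421 (iv D3297)) (tt N4436 D4436))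
theorem Q3299 : ∀ i, i < 3299 → P i := stepQ 3298 Q3298 (allL N3298 (tt N4057 (iv F6640)) (tt N4112 (iv F6737)) (tt N4436 (iv F7218)) (tt N2425 F5343) (tt N4437 D4437) (tt N2422 (iv D3298)))
theorem Q3300 : ∀ i, i < 3300 → P i := stepQ 3299 Q3299 (allL N3299 (tt N4058 (iv F6642)) (tt N4116 (iv F6741)) (tt N4005 (iv F6573)) (tt N4314 (iv F7058)) (tt N2423 (iv D3299)) (tt N4437 (iv F7219)))
theorem Q3301 : ∀ i, i < 3301 → P i := stepQ 3300 Q3300 (allL N3300 (tt N3200 F5344) (tt N3727 (iv F6080)) (tt N4438 D4438) (tt N2424 (iv D3300)) (tt N3199 F5345) (tt N4439 D4439))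
theorem Q3302 : ∀ i, i < 3302 → P i := stepQ 3301 Q3301 (allL N3301 (tt N3201 F5346) (tt N3728 (iv F6082)) (tt N2425 F5347) (tt N4439 (iv F7223)) (tt N3286 F5348) (tt N2424 (iv D3301)))
theorem Q3303 : ∀ i, i < 3303 → P i := stepQ 3302 Q3302 (allL N3302 (tt N2428 F5349) (tt N4440 D4440) (tt N2426 (iv D3302)) (tt N4441 D4441) (tt N4060 (iv F6647)) (tt N4068 (iv F6662)))
theorem Q3304 : ∀ i, i < 3304 → P i := stepQ 3303 Q3303 (allL N3303 (tt N4441 (iv F7224)) (tt N4073 (iv F6671)) (tt N4442 D4442) (tt N2428 (iv D3303)) (tt N4443 D4443) (tt N4069 (iv F6666)))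
theorem Q3305 : ∀ i, i < 3305 → P i := stepQ 3304 Q3304 (allL N3304 (tt N2429 (iv D3304)) (tt N2433 F5350) (tt N3493 (iv F5663)) (tt N4444 D4444) (tt N3487 (iv F5649)) (tt N4445 D4445))
theorem Q3306 : ∀ i, i < 3306 → P i := stepQ 3305 Q3305 (allL N3305 (tt N4444 (iv F7230)) (tt N2430 F5351) (tt N4446 D4446) (tt N2429 (iv D3305)) (tt N4447 D4447) (tt N3943 (iv F6450)))
theorem Q3307 : ∀ i, i < 3307 → P i := stepQ 3306 Q3306 (allL N3306 (tt N4445 (iv F7232)) (tt N2431 F5352) (tt N3495 (iv F5667)) (tt N3943 (iv F6449)) (tt N4448 D4448) (tt N2429 (iv D3306)))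
theorem Q3308 : ∀ i, i < 3308 → P i := stepQ 3307 Q3307 (allL N3307 (tt N2437 F5353) (tt N4447 (iv F7234)) (tt N3946 (iv F6455)) (tt N3490 (iv F5655)) (tt N2430 (iv D3307)) (tt N4449 D4449))
theorem Q3309 : ∀ i, i < 3309 → P i := stepQ 3308 Q3308 (allL N3308 (tt N2439 F5354) (tt N4448 (iv F7235)) (tt N2432 F5355) (tt N4450 D4450) (tt N2431 (iv D3308)) (tt N3492 (iv F5661)))
theorem Q3310 : ∀ i, i < 3310 → P i := stepQ 3309 Q3309 (allL N3309 (tt N2434 F5356) (tt N4444 (iv F7231)) (tt N4451 D4451) (tt N2433 (iv D3309)) (tt N4452 D4452) (tt N4453 D4453))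
theorem Q3311 : ∀ i, i < 3311 → P i := stepQ 3310 Q3310 (allL N3310 (tt N2435 F5357) (tt N4445 (iv F7233)) (tt N2441 F5358) (tt N4453 (iv F7241)) (tt N4454 D4454) (tt N2433 (iv D3310)))
theorem Q3312 : ∀ i, i < 3312 → P i := stepQ 3311 Q3311 (allL N3311 (tt N4451 (iv F7238)) (tt N4455 D4455) (tt N2434 (iv D3311)) (tt N4456 D4456) (tt N4457 D4457) (tt N4458 D4458))
theorem Q3313 : ∀ i, i < 3313 → P i := stepQ 3312 Q3312 (allL N3312 (tt N4452 (iv F7239)) (tt N2437 F5359) (tt N4457 (iv F7245)) (tt N3963 (iv F6481)) (tt N2434 (iv D3312)) (tt N4459 D4459))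
theorem Q3314 : ∀ i, i < 3314 → P i := stepQ 3313 Q3313 (allL N3313 (tt N4453 (iv F7240)) (tt N2438 F5360) (tt N4458 (iv F7246)) (tt N2435 F5361) (tt N4460 D4460) (tt N2434 (iv D3313)))
theorem Q3315 : ∀ i, i < 3315 → P i := stepQ 3314 Q3314 (allL N3314 (tt N4454 (iv F7242)) (tt N2439 F5362) (tt N2444 F5363) (tt N4461 D4461) (tt N2435 (iv D3314)) (tt N3958 (iv F6475)))
theorem Q3316 : ∀ i, i < 3316 → P i := stepQ 3315 Q3315 (allL N3315 (tt N4462 D4462) (tt N2436 (iv D3315)) (tt N4455 (iv F7244)) (tt N3930 (iv F6425)) (tt N4463 D4463) (tt N3929 F6422))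
theorem Q3317 : ∀ i, i < 3317 → P i := stepQ 3316 Q3316 (allL N3316 (tt N3946 (iv F6454)) (tt N4463 (iv F7250)) (tt N2437 F5364) (tt N4464 D4464) (tt N2436 (iv D3316)) (tt N4465 D4465))
theorem Q3318 : ∀ i, i < 3318 → P i := stepQ 3317 Q3317 (allL N3317 (tt N4449 (iv F7236)) (tt N4459 (iv F7247)) (tt N4465 (iv F7251)) (tt N3964 (iv F6482)) (tt N4466 D4466) (tt N2437 (iv D3317)))
theorem Q3319 : ∀ i, i < 3319 → P i := stepQ 3318 Q3318 (allL N3318 (tt N3944 (iv F6451)) (tt N4460 (iv F7248)) (tt N3931 (iv F6427)) (tt N4467 D4467) (tt N2438 (iv D3318)) (tt N4466 (iv F7252)))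
theorem Q3320 : ∀ i, i < 3320 → P i := stepQ 3319 Q3319 (allL N3319 (tt N4450 (iv F7237)) (tt N4461 (iv F7249)) (tt N4468 D4468) (tt N2439 (iv D3319)) (tt N4467 (iv F7253)) (tt N3959 (iv F6476)))
theorem Q3321 : ∀ i, i < 3321 → P i := stepQ 3320 Q3320 (allL N3320 (tt N2442 F5365) (tt N4469 D4469) (tt N2440 (iv D3320)) (tt N4470 D4470) (tt N4471 D4471) (tt N4101 F6723))
theorem Q3322 : ∀ i, i < 3322 → P i := stepQ 3321 Q3321 (allL N3321 (tt N2443 F5366) (tt N4079 (iv F6687)) (tt N4471 (iv F7256)) (tt N3973 (iv F6507)) (tt N2440 (iv D3321)) (tt N3973 (iv F6508)))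
theorem Q3323 : ∀ i, i < 3323 → P i := stepQ 3322 Q3322 (allL N3322 (tt N2444 F5367) (tt N4077 (iv F6680)) (tt N4454 (iv F7243)) (tt N3971 (iv F6500)) (tt N2441 (iv D3322)) (tt N3971 (iv F6502)))
theorem Q3324 : ∀ i, i < 3324 → P i := stepQ 3323 Q3323 (allL N3323 (tt N4470 (iv F7254)) (tt N4108 (iv F6728)) (tt N4472 D4472) (tt N2442 (iv D3323)) (tt N4473 D4473) (tt N4104 (iv F6726)))
theorem Q3325 : ∀ i, i < 3325 → P i := stepQ 3324 Q3324 (allL N3324 (tt N4471 (iv F7255)) (tt N4095 (iv F6711)) (tt N2443 F5368) (tt N4474 D4474) (tt N2442 (iv D3324)) (tt N3975 (iv F6513)))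
theorem Q3326 : ∀ i, i < 3326 → P i := stepQ 3325 Q3325 (allL N3325 (tt N4475 D4475) (tt N2445 (iv D3325)) (tt N4097 (iv F6716)) (tt N4476 D4476) (tt N3980 (iv F6526)) (tt N4477 D4477))
theorem Q3327 : ∀ i, i < 3327 → P i := stepQ 3326 Q3326 (allL N3326 (tt N2448 F5369) (tt N4476 (iv F7258)) (tt N4069 (iv F6667)) (tt N2445 (iv D3326)) (tt N4478 D4478) (tt N4442 (iv F7229)))
theorem Q3328 : ∀ i, i < 3328 → P i := stepQ 3327 Q3327 (allL N3327 (tt N2449 F5370) (tt N4477 (iv F7259)) (tt N2446 F5371) (tt N4442 (iv F7228)) (tt N4479 D4479) (tt N2445 (iv D3327)))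
theorem Q3329 : ∀ i, i < 3329 → P i := stepQ 3328 Q3328 (allL N3328 (tt N2450 F5372) (tt N4092 (iv F6706)) (tt N4479 (iv F7262)) (tt N4164 (iv F6809)) (tt N2446 (iv D3328)) (tt N3977 (iv F6519)))
theorem Q3330 : ∀ i, i < 3330 → P i := stepQ 3329 Q3329 (allL N3329 (tt N2447 (iv D3329)) (tt N4475 (iv F7257)) (tt N2451 F5373) (tt N4480 D4480) (tt N3982 (iv F6529)) (tt N4078 (iv F6685)))
theorem Q3331 : ∀ i, i < 3331 → P i := stepQ 3330 Q3330 (allL N3330 (tt N4480 (iv F7263)) (tt N2448 F5374) (tt N4481 D4481) (tt N2447 (iv D3330)) (tt N4482 D4482) (tt N4080 (iv F6691)))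
theorem Q3332 : ∀ i, i < 3332 → P i := stepQ 3331 Q3331 (allL N3331 (tt N4069 (iv F6664)) (tt N4483 D4483) (tt N2448 (iv D3331)) (tt N4068 F6663) (tt N4484 D4484) (tt N4441 (iv F7226)))
theorem Q3333 : ∀ i, i < 3333 → P i := stepQ 3332 Q3332 (allL N3332 (tt N4478 (iv F7260)) (tt N4482 (iv F7264)) (tt N4484 (iv F7265)) (tt N3985 (iv F6533)) (tt N2448 (iv D3332)) (tt N4485 D4485))
theorem Q3334 : ∀ i, i < 3334 → P i := stepQ 3333 Q3333 (allL N3333 (tt N4442 (iv F7227)) (tt N4080 (iv F6690)) (tt N4441 (iv F7225)) (tt N2449 F5375) (tt N4486 D4486) (tt N2448 (iv D3333)))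
theorem Q3335 : ∀ i, i < 3335 → P i := stepQ 3334 Q3334 (allL N3334 (tt N4479 (iv F7261)) (tt N4081 (iv F6692)) (tt N2450 F5376) (tt N4487 D4487) (tt N2449 (iv D3334)) (tt N3979 (iv F6524)))
theorem Q3336 : ∀ i, i < 3336 → P i := stepQ 3335 Q3335 (allL N3335 (tt N2454 F5377) (tt N2461 F5378) (tt N4488 D4488) (tt N2452 (iv D3335)) (tt N2547 F5379) (tt N4489 D4489))
theorem Q3337 : ∀ i, i < 3337 → P i := stepQ 3336 Q3336 (allL N3336 (tt N2455 F5380) (tt N2460 F5381) (tt N3336 F5382) (tt N4489 (iv F7270)) (tt N2455 F5383) (tt N2452 (iv D3336)))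
theorem Q3338 : ∀ i, i < 3338 → P i := stepQ 3337 Q3337 (allL N3337 (tt N2547 F5384) (tt N2456 F5385) (tt N4490 D4490) (tt N2453 (iv D3337)) (tt N2454 F5386) (tt N4491 D4491))
theorem Q3339 : ∀ i, i < 3339 → P i := stepQ 3338 Q3338 (allL N3338 (tt N2548 F5387) (tt N2457 F5388) (tt N2548 F5389) (tt N4491 (iv F7275)) (tt N2548 F5390) (tt N2453 (iv D3338)))
theorem Q3340 : ∀ i, i < 3340 → P i := stepQ 3339 Q3339 (allL N3339 (tt N4488 (iv F7266)) (tt N4492 D4492) (tt N2454 (iv D3339)) (tt N4493 D4493) (tt N4490 (iv F7272)) (tt N4494 D4494))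
theorem Q3341 : ∀ i, i < 3341 → P i := stepQ 3340 Q3340 (allL N3340 (tt N4489 (iv F7268)) (tt N2459 F5391) (tt N4494 (iv F7279)) (tt N2455 F5392) (tt N4495 D4495) (tt N2454 (iv D3340)))
theorem Q3342 : ∀ i, i < 3342 → P i := stepQ 3341 Q3341 (allL N3341 (tt N2472 F5393) (tt N4496 D4496) (tt N2456 (iv D3341)) (tt N4497 D4497) (tt N2458 F5394) (tt N4498 D4498))
theorem Q3343 : ∀ i, i < 3343 → P i := stepQ 3342 Q3342 (allL N3342 (tt N2473 F5395) (tt N4491 (iv F7274)) (tt N4498 (iv F7285)) (tt N2457 F5396) (tt N4499 D4499) (tt N2456 (iv D3342)))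
theorem Q3344 : ∀ i, i < 3344 → P i := stepQ 3343 Q3343 (allL N3343 (tt N4500 D4500) (tt N2458 (iv D3343)) (tt N4492 (iv F7276)) (tt N2509 F5397) (tt N4496 (iv F7281)) (tt N2508 F5398))
theorem Q3345 : ∀ i, i < 3345 → P i := stepQ 3344 Q3344 (allL N3344 (tt N2477 F5399) (tt N4495 (iv F7280)) (tt N2510 F5400) (tt N4501 D4501) (tt N2459 (iv D3344)) (tt N4499 (iv F7290)))
theorem Q3346 : ∀ i, i < 3346 → P i := stepQ 3345 Q3345 (allL N3345 (tt N2468 F5401) (tt N4489 (iv F7269)) (tt N4502 D4502) (tt N2460 (iv D3345)) (tt N4501 (iv F7295)) (tt N2461 F5402))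
theorem Q3347 : ∀ i, i < 3347 → P i := stepQ 3346 Q3346 (allL N3346 (tt N2467 F5403) (tt N4503 D4503) (tt N2461 (iv D3346)) (tt N4504 D4504) (tt N2549 F5404) (tt N4502 (iv F7298)))
theorem Q3348 : ∀ i, i < 3348 → P i := stepQ 3347 Q3347 (allL N3347 (tt N2478 F5405) (tt N4505 D4505) (tt N2462 (iv D3347)) (tt N4506 D4506) (tt N2491 F5406) (tt N2463 F5407))
theorem Q3349 : ∀ i, i < 3349 → P i := stepQ 3348 Q3348 (allL N3348 (tt N4507 D4507) (tt N2463 (iv D3348)) (tt N3348 F5408) (tt N4508 D4508) (tt N2464 F5409) (tt N4505 (iv F7306)))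
theorem Q3350 : ∀ i, i < 3350 → P i := stepQ 3349 Q3349 (allL N3349 (tt N2480 F5410) (tt N4508 (iv F7313)) (tt N4509 D4509) (tt N2463 (iv D3349)) (tt N2600 F5411) (tt N4506 (iv F7309)))
theorem Q3351 : ∀ i, i < 3351 → P i := stepQ 3350 Q3350 (allL N3350 (tt N2464 (iv D3350)) (tt N2481 F5412) (tt N3350 F5413) (tt N2598 F5414) (tt N4507 (iv F7312)) (tt N2494 F5415))
theorem Q3352 : ∀ i, i < 3352 → P i := stepQ 3351 Q3351 (allL N3351 (tt N2549 F5416) (tt N4510 D4510) (tt N2465 (iv D3351)) (tt N4511 D4511) (tt N2467 F5417) (tt N4512 D4512))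
theorem Q3353 : ∀ i, i < 3353 → P i := stepQ 3352 Q3352 (allL N3352 (tt N2550 F5418) (tt N2473 F5419) (tt N4512 (iv F7325)) (tt N2466 F5420) (tt N4513 D4513) (tt N2465 (iv D3352)))
theorem Q3354 : ∀ i, i < 3354 → P i := stepQ 3353 Q3353 (allL N3353 (tt N4514 D4514) (tt N2467 (iv D3353)) (tt N2474 F5421) (tt N4515 D4515) (tt N4510 (iv F7320)) (tt N4516 D4516))
theorem Q3355 : ∀ i, i < 3355 → P i := stepQ 3354 Q3354 (allL N3354 (tt N4504 (iv F7301)) (tt N4515 (iv F7332)) (tt N4506 (iv F7308)) (tt N2467 (iv D3354)) (tt N4517 D4517) (tt N4509 (iv F7318)))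
theorem Q3356 : ∀ i, i < 3356 → P i := stepQ 3355 Q3355 (allL N3355 (tt N4502 (iv F7297)) (tt N4516 (iv F7333)) (tt N2468 F5422) (tt N4509 (iv F7316)) (tt N4518 D4518) (tt N2467 (iv D3355)))
theorem Q3357 : ∀ i, i < 3357 → P i := stepQ 3356 Q3356 (allL N3356 (tt N4501 (iv F7294)) (tt N2477 F5423) (tt N4518 (iv F7335)) (tt N2477 F5424) (tt N2468 (iv D3356)) (tt N4513 (iv F7330)))
theorem Q3358 : ∀ i, i < 3358 → P i := stepQ 3357 Q3357 (allL N3357 (tt N2529 F5425) (tt N2470 F5426) (tt N4519 D4519) (tt N2469 (iv D3357)) (tt N2527 F5427) (tt N4520 D4520))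
theorem Q3359 : ∀ i, i < 3359 → P i := stepQ 3358 Q3358 (allL N3358 (tt N2530 F5428) (tt N2471 F5429) (tt N2530 F5430) (tt N4520 (iv F7340)) (tt N2530 F5431) (tt N2469 (iv D3358)))
theorem Q3360 : ∀ i, i < 3360 → P i := stepQ 3359 Q3359 (allL N3359 (tt N2541 F5432) (tt N4521 D4521) (tt N2470 (iv D3359)) (tt N4522 D4522) (tt N2538 F5433) (tt N4523 D4523))
theorem Q3361 : ∀ i, i < 3361 → P i := stepQ 3360 Q3360 (allL N3360 (tt N2542 F5434) (tt N4520 (iv F7339)) (tt N4523 (iv F7345)) (tt N2471 F5435) (tt N4524 D4524) (tt N2470 (iv D3360)))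
theorem Q3362 : ∀ i, i < 3362 → P i := stepQ 3361 Q3361 (allL N3361 (tt N4525 D4525) (tt N2472 (iv D3361)) (tt N4510 (iv F7319)) (tt N4526 D4526) (tt N2474 F5436) (tt N4527 D4527))
theorem Q3363 : ∀ i, i < 3363 → P i := stepQ 3362 Q3362 (allL N3362 (tt N4497 (iv F7282)) (tt N4526 (iv F7350)) (tt N4528 D4528) (tt N2472 (iv D3362)) (tt N4529 D4529) (tt N4530 D4530))
theorem Q3364 : ∀ i, i < 3364 → P i := stepQ 3363 Q3363 (allL N3363 (tt N4498 (iv F7284)) (tt N4527 (iv F7351)) (tt N2473 F5437) (tt N4530 (iv F7358)) (tt N4531 D4531) (tt N2472 (iv D3363)))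
theorem Q3365 : ∀ i, i < 3365 → P i := stepQ 3364 Q3364 (allL N3364 (tt N4499 (iv F7287)) (tt N4513 (iv F7328)) (tt N4531 (iv F7360)) (tt N4513 (iv F7329)) (tt N2473 (iv D3364)) (tt N2477 F5438))
theorem Q3366 : ∀ i, i < 3366 → P i := stepQ 3365 Q3365 (allL N3365 (tt N2474 (iv D3365)) (tt N4500 (iv F7291)) (tt N4514 (iv F7331)) (tt N4532 D4532) (tt N4525 (iv F7349)) (tt N4533 D4533))
theorem Q3367 : ∀ i, i < 3367 → P i := stepQ 3366 Q3366 (allL N3366 (tt N4532 (iv F7363)) (tt N2475 F5439) (tt N4534 D4534) (tt N2474 (iv D3366)) (tt N4535 D4535) (tt N2487 (iv F5440)))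
theorem Q3368 : ∀ i, i < 3368 → P i := stepQ 3367 Q3367 (allL N3367 (tt N4533 (iv F7366)) (tt N2476 F5441) (tt N4516 (iv F7334)) (tt N2487 F5442) (tt N4536 D4536) (tt N2474 (iv D3367)))
theorem Q3369 : ∀ i, i < 3369 → P i := stepQ 3368 Q3368 (allL N3368 (tt N2511 F5443) (tt N4535 (iv F7371)) (tt N2488 F5444) (tt N4529 (iv F7355)) (tt N2475 (iv D3368)) (tt N2967 F5445))
theorem Q3370 : ∀ i, i < 3370 → P i := stepQ 3369 Q3369 (allL N3369 (tt N2510 F5446) (tt N4536 (iv F7373)) (tt N2477 F5447) (tt N2966 F5448) (tt N2476 (iv D3369)) (tt N4531 (iv F7361)))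
theorem Q3371 : ∀ i, i < 3371 → P i := stepQ 3370 Q3370 (allL N3370 (tt N4506 (iv F7307)) (tt N3436 (iv F5566)) (tt N4504 (iv F7303)) (tt N2478 (iv D3370)) (tt N4537 D4537) (tt N2480 F5449))
theorem Q3372 : ∀ i, i < 3372 → P i := stepQ 3371 Q3371 (allL N3371 (tt N2479 (iv D3371)) (tt N4507 (iv F7310)) (tt N2484 F5450) (tt N4538 D4538) (tt N2481 F5451) (tt N3435 (iv F5565)))
theorem Q3373 : ∀ i, i < 3373 → P i := stepQ 3372 Q3372 (allL N3372 (tt N4538 (iv F7376)) (tt N2480 F5452) (tt N4539 D4539) (tt N2479 (iv D3372)) (tt N4540 D4540) (tt N3436 (iv F5567)))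
theorem Q3374 : ∀ i, i < 3374 → P i := stepQ 3373 Q3373 (allL N3373 (tt N4509 (iv F7315)) (tt N4541 D4541) (tt N2480 (iv D3373)) (tt N4502 (iv F7299)) (tt N4542 D4542) (tt N4504 (iv F7302)))
theorem Q3375 : ∀ i, i < 3375 → P i := stepQ 3374 Q3374 (allL N3374 (tt N2600 F5453) (tt N4540 (iv F7377)) (tt N4542 (iv F7380)) (tt N2483 F5454) (tt N2480 (iv D3374)) (tt N4543 D4543))
theorem Q3376 : ∀ i, i < 3376 → P i := stepQ 3375 Q3375 (allL N3375 (tt N2482 F5455) (tt N2598 F5456) (tt N4544 D4544) (tt N2481 (iv D3375)) (tt N4545 D4545) (tt N2518 F5457))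
theorem Q3377 : ∀ i, i < 3377 → P i := stepQ 3376 Q3376 (allL N3376 (tt N4544 (iv F7386)) (tt N2573 F5458) (tt N2482 (iv D3376)) (tt N4544 (iv F7388)) (tt N4546 D4546) (tt N2519 F5459))
theorem Q3378 : ∀ i, i < 3378 → P i := stepQ 3377 Q3377 (allL N3377 (tt N4545 (iv F7390)) (tt N2483 F5460) (tt N4546 (iv F7393)) (tt N4540 (iv F7378)) (tt N2482 (iv D3377)) (tt N4547 D4547))
theorem Q3379 : ∀ i, i < 3379 → P i := stepQ 3378 Q3378 (allL N3378 (tt N2601 F5461) (tt N4547 (iv F7394)) (tt N2575 F5462) (tt N4543 (iv F7385)) (tt N2523 F5463) (tt N2483 (iv D3378)))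
theorem Q3380 : ∀ i, i < 3380 → P i := stepQ 3379 Q3379 (allL N3379 (tt N4548 D4548) (tt N2485 (iv D3379)) (tt N2487 F5464) (tt N4549 D4549) (tt N2959 F5465) (tt N4534 (iv F7370)))
theorem Q3381 : ∀ i, i < 3381 → P i := stepQ 3380 Q3380 (allL N3380 (tt N3288 F5466) (tt N4549 (iv F7399)) (tt N4424 (iv F7209)) (tt N2485 (iv D3380)) (tt N4550 D4550) (tt N4422 F7206))
theorem Q3382 : ∀ i, i < 3382 → P i := stepQ 3381 Q3381 (allL N3381 (tt N3289 F5467) (tt N4534 (iv F7369)) (tt N2486 F5468) (tt N4422 (iv F7205)) (tt N4551 D4551) (tt N2485 (iv D3381)))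
theorem Q3383 : ∀ i, i < 3383 → P i := stepQ 3382 Q3382 (allL N3382 (tt N3290 F5469) (tt N2488 F5470) (tt N4551 (iv F7403)) (tt N3290 F5471) (tt N2486 (iv D3382)) (tt N2962 F5472))
theorem Q3384 : ∀ i, i < 3384 → P i := stepQ 3383 Q3383 (allL N3383 (tt N2487 (iv D3383)) (tt N2507 F5473) (tt N4548 (iv F7397)) (tt N4533 (iv F7368)) (tt N2963 F5474) (tt N4532 F7365))
theorem Q3385 : ∀ i, i < 3385 → P i := stepQ 3384 Q3384 (allL N3384 (tt N2502 F5475) (tt N3290 F5476) (tt N4552 D4552) (tt N2488 (iv D3384)) (tt N2489 F5477) (tt N2579 F5478))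
theorem Q3386 : ∀ i, i < 3386 → P i := stepQ 3385 Q3385 (allL N3385 (tt N2501 F5479) (tt N4553 D4553) (tt N2489 (iv D3385)) (tt N2516 F5481) (tt N4552 (iv F7406)) (tt N2490 F5480))
theorem Q3387 : ∀ i, i < 3387 → P i := stepQ 3386 Q3386 (allL N3386 (tt N4554 D4554) (tt N2490 (iv D3386)) (tt N3287 F5482) (tt N4555 D4555) (tt N2576 F5483) (tt N4553 (iv F7410)))
theorem Q3388 : ∀ i, i < 3388 → P i := stepQ 3387 Q3387 (allL N3387 (tt N2500 F5484) (tt N4555 (iv F7414)) (tt N2513 F5486) (tt N2490 (iv D3387)) (tt N4556 D4556) (tt N2516 F5485))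
theorem Q3389 : ∀ i, i < 3389 → P i := stepQ 3388 Q3388 (allL N3388 (tt N4557 D4557) (tt N2491 (iv D3388)) (tt N3388 F5487) (tt N4558 D4558) (tt N4505 (iv F7305)) (tt N2492 F5488))
theorem Q3390 : ∀ i, i < 3390 → P i := stepQ 3389 Q3389 (allL N3389 (tt N2513 F5489) (tt N4558 (iv F7422)) (tt N2500 F5490) (tt N2491 (iv D3389)) (tt N4559 D4559) (tt N2493 F5491))
theorem Q3391 : ∀ i, i < 3391 → P i := stepQ 3390 Q3390 (allL N3390 (tt N2492 (iv D3390)) (tt N2514 F5492) (tt N3390 F5493) (tt N4560 D4560) (tt N2494 F5494) (tt N4557 (iv F7421)))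
theorem Q3392 : ∀ i, i < 3392 → P i := stepQ 3391 Q3391 (allL N3391 (tt N4560 (iv F7426)) (tt N2493 F5495) (tt N4561 D4561) (tt N2492 (iv D3391)) (tt N4562 D4562) (tt N4558 (iv F7423)))
theorem Q3393 : ∀ i, i < 3393 → P i := stepQ 3392 Q3392 (allL N3392 (tt N2516 F5496) (tt N4563 D4563) (tt N2493 (iv D3392)) (tt N2501 F5497) (tt N4564 D4564) (tt N2500 F5498))
theorem Q3394 : ∀ i, i < 3394 → P i := stepQ 3393 Q3393 (allL N3393 (tt N2517 F5499) (tt N4562 (iv F7428)) (tt N4564 (iv F7433)) (tt N2496 F5500) (tt N2493 (iv D3393)) (tt N4565 D4565))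
theorem Q3395 : ∀ i, i < 3395 → P i := stepQ 3394 Q3394 (allL N3394 (tt N2495 F5501) (tt N2518 F5502) (tt N3921 (iv F6403)) (tt N2494 (iv D3394)) (tt N4566 D4566) (tt N2598 F5503))
theorem Q3396 : ∀ i, i < 3396 → P i := stepQ 3395 Q3395 (allL N3395 (tt N4566 (iv F7436)) (tt N2496 F5504) (tt N3922 (iv F6407)) (tt N4562 (iv F7429)) (tt N2495 (iv D3395)) (tt N4567 D4567))
theorem Q3397 : ∀ i, i < 3397 → P i := stepQ 3396 Q3396 (allL N3396 (tt N2523 F5505) (tt N4567 (iv F7438)) (tt N2562 F5506) (tt N4565 (iv F7435)) (tt N2601 F5507) (tt N2496 (iv D3396)))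
theorem Q3398 : ∀ i, i < 3398 → P i := stepQ 3397 Q3397 (allL N3397 (tt N4568 D4568) (tt N2497 (iv D3397)) (tt N2503 F5508) (tt N4569 D4569) (tt N2499 F5509) (tt N4570 D4570))
theorem Q3399 : ∀ i, i < 3399 → P i := stepQ 3398 Q3398 (allL N3398 (tt N2577 F5510) (tt N4569 (iv F7443)) (tt N2585 F5511) (tt N2497 (iv D3398)) (tt N4571 D4571) (tt N2583 (iv F5512)))
theorem Q3400 : ∀ i, i < 3400 → P i := stepQ 3399 Q3399 (allL N3399 (tt N2578 F5513) (tt N4570 (iv F7445)) (tt N2498 F5514) (tt N2583 F5515) (tt N4572 D4572) (tt N2497 (iv D3399)))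
theorem Q3401 : ∀ i, i < 3401 → P i := stepQ 3400 Q3400 (allL N3400 (tt N2579 F5516) (tt N2506 F5517) (tt N4572 (iv F7452)) (tt N2506 F5518) (tt N2498 (iv D3400)) (tt N2502 F5519))
theorem Q3402 : ∀ i, i < 3402 → P i := stepQ 3401 Q3401 (allL N3401 (tt N2499 (iv D3401)) (tt N4554 (iv F7411)) (tt N2507 F5520) (tt N4573 D4573) (tt N4568 (iv F7442)) (tt N4574 D4574))
theorem Q3403 : ∀ i, i < 3403 → P i := stepQ 3402 Q3402 (allL N3402 (tt N4573 (iv F7454)) (tt N2500 F5521) (tt N4575 D4575) (tt N2499 (iv D3402)) (tt N4576 D4576) (tt N4563 (iv F7431)))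
theorem Q3404 : ∀ i, i < 3404 → P i := stepQ 3403 Q3403 (allL N3403 (tt N4574 (iv F7455)) (tt N2501 F5522) (tt N2509 F5523) (tt N4563 (iv F7430)) (tt N4577 D4577) (tt N2499 (iv D3403)))
theorem Q3405 : ∀ i, i < 3405 → P i := stepQ 3404 Q3404 (allL N3404 (tt N4556 (iv F7416)) (tt N4576 (iv F7457)) (tt N4559 (iv F7425)) (tt N4571 (iv F7450)) (tt N2500 (iv D3404)) (tt N4578 D4578))
theorem Q3406 : ∀ i, i < 3406 → P i := stepQ 3405 Q3405 (allL N3405 (tt N4552 (iv F7405)) (tt N4577 (iv F7458)) (tt N2502 F5524) (tt N4579 D4579) (tt N2501 (iv D3405)) (tt N4572 (iv F7453)))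
theorem Q3407 : ∀ i, i < 3407 → P i := stepQ 3406 Q3406 (allL N3406 (tt N2503 (iv D3406)) (tt N2963 F5525) (tt N4568 (iv F7441)) (tt N4580 D4580) (tt N2507 F5526) (tt N4581 D4581))
theorem Q3408 : ∀ i, i < 3408 → P i := stepQ 3407 Q3407 (allL N3407 (tt N4580 (iv F7460)) (tt N2504 F5527) (tt N4582 D4582) (tt N2503 (iv D3407)) (tt N4583 D4583) (tt N2974 (iv F5528)))
theorem Q3409 : ∀ i, i < 3409 → P i := stepQ 3408 Q3408 (allL N3408 (tt N4581 (iv F7463)) (tt N2505 F5529) (tt N4570 (iv F7446)) (tt N2974 F5530) (tt N4584 D4584) (tt N2503 (iv D3408)))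
theorem Q3410 : ∀ i, i < 3410 → P i := stepQ 3409 Q3409 (allL N3409 (tt N2966 F5531) (tt N4583 (iv F7468)) (tt N2977 F5532) (tt N2510 F5533) (tt N2504 (iv D3409)) (tt N4585 D4585))
theorem Q3411 : ∀ i, i < 3411 → P i := stepQ 3410 Q3410 (allL N3410 (tt N2967 F5534) (tt N4584 (iv F7470)) (tt N2506 F5535) (tt N4586 D4586) (tt N2505 (iv D3410)) (tt N2511 F5536))
theorem Q3412 : ∀ i, i < 3412 → P i := stepQ 3411 Q3411 (allL N3411 (tt N2508 F5537) (tt N4533 (iv F7367)) (tt N4587 D4587) (tt N2507 (iv D3411)) (tt N4588 D4588) (tt N4500 (iv F7293)))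
theorem Q3413 : ∀ i, i < 3413 → P i := stepQ 3412 Q3412 (allL N3412 (tt N2509 F5538) (tt N4532 (iv F7364)) (tt N4574 (iv F7456)) (tt N4500 (iv F7292)) (tt N4589 D4589) (tt N2507 (iv D3412)))
theorem Q3414 : ∀ i, i < 3414 → P i := stepQ 3413 Q3413 (allL N3413 (tt N4587 (iv F7479)) (tt N4494 (iv F7278)) (tt N2508 (iv D3413)) (tt N4590 D4590) (tt N4591 D4591) (tt N4492 F7277))
theorem Q3415 : ∀ i, i < 3415 → P i := stepQ 3414 Q3414 (allL N3414 (tt N4588 (iv F7480)) (tt N2510 F5539) (tt N4591 (iv F7482)) (tt N4583 (iv F7469)) (tt N2508 (iv D3414)) (tt N4592 D4592))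
theorem Q3416 : ∀ i, i < 3416 → P i := stepQ 3415 Q3415 (allL N3415 (tt N4589 (iv F7481)) (tt N2511 F5540) (tt N4577 (iv F7459)) (tt N4593 D4593) (tt N2509 (iv D3415)) (tt N4584 (iv F7471)))
theorem Q3417 : ∀ i, i < 3417 → P i := stepQ 3416 Q3416 (allL N3416 (tt N4531 (iv F7359)) (tt N4592 (iv F7483)) (tt N4499 (iv F7288)) (tt N4585 (iv F7474)) (tt N4498 (iv F7286)) (tt N2510 (iv D3416)))
theorem Q3418 : ∀ i, i < 3418 → P i := stepQ 3417 Q3417 (allL N3417 (tt N4529 (iv F7354)) (tt N4593 (iv F7484)) (tt N4594 D4594) (tt N2511 (iv D3417)) (tt N4497 (iv F7283)) (tt N4586 (iv F7478)))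
theorem Q3419 : ∀ i, i < 3419 → P i := stepQ 3418 Q3418 (allL N3418 (tt N2512 (iv D3418)) (tt N4557 (iv F7419)) (tt N2525 F5541) (tt N4595 D4595) (tt N3435 (iv F5564)) (tt N2514 F5542))
theorem Q3420 : ∀ i, i < 3420 → P i := stepQ 3419 Q3419 (allL N3419 (tt N4595 (iv F7485)) (tt N2513 F5543) (tt N4596 D4596) (tt N2512 (iv D3419)) (tt N4597 D4597) (tt N2515 F5544))
theorem Q3421 : ∀ i, i < 3421 → P i := stepQ 3420 Q3420 (allL N3420 (tt N4559 (iv F7424)) (tt N4597 (iv F7488)) (tt N4556 (iv F7417)) (tt N4537 (iv F7375)) (tt N2513 (iv D3420)) (tt N4598 D4598))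
theorem Q3422 : ∀ i, i < 3422 → P i := stepQ 3421 Q3421 (allL N3421 (tt N2515 F5545) (tt N4560 (iv F7427)) (tt N4599 D4599) (tt N2514 (iv D3421)) (tt N4600 D4600) (tt N4595 (iv F7486)))
theorem Q3423 : ∀ i, i < 3423 → P i := stepQ 3422 Q3422 (allL N3422 (tt N4599 (iv F7490)) (tt N4601 D4601) (tt N2515 (iv D3422)) (tt N4602 D4602) (tt N4603 D4603) (tt N4596 (iv F7487)))
theorem Q3424 : ∀ i, i < 3424 → P i := stepQ 3423 Q3423 (allL N3423 (tt N4600 (iv F7492)) (tt N2517 F5546) (tt N4603 (iv F7497)) (tt N2520 F5547) (tt N2515 (iv D3423)) (tt N4604 D4604))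
theorem Q3425 : ∀ i, i < 3425 → P i := stepQ 3424 Q3424 (allL N3424 (tt N4605 D4605) (tt N2516 (iv D3424)) (tt N4601 (iv F7494)) (tt N4553 (iv F7409)) (tt N4606 D4606) (tt N4555 (iv F7415)))
theorem Q3426 : ∀ i, i < 3426 → P i := stepQ 3425 Q3425 (allL N3425 (tt N4564 (iv F7432)) (tt N4606 (iv F7500)) (tt N2517 F5548) (tt N4607 D4607) (tt N2516 (iv D3425)) (tt N4608 D4608))
theorem Q3427 : ∀ i, i < 3427 → P i := stepQ 3426 Q3426 (allL N3426 (tt N4565 (iv F7434)) (tt N4604 (iv F7498)) (tt N4608 (iv F7501)) (tt N2523 F5549) (tt N4598 (iv F7489)) (tt N2517 (iv D3426)))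
theorem Q3428 : ∀ i, i < 3428 → P i := stepQ 3427 Q3427 (allL N3427 (tt N2519 F5550) (tt N4609 D4609) (tt N2518 (iv D3427)) (tt N2519 F5551) (tt N4610 D4610) (tt N4544 (iv F7389)))
theorem Q3429 : ∀ i, i < 3429 → P i := stepQ 3428 Q3428 (allL N3428 (tt N2520 F5552) (tt N4566 (iv F7437)) (tt N4610 (iv F7507)) (tt N4600 (iv F7493)) (tt N2518 (iv D3428)) (tt N4611 D4611))
theorem Q3430 : ∀ i, i < 3430 → P i := stepQ 3429 Q3429 (allL N3429 (tt N3916 (iv F6388)) (tt N2519 (iv D3429)) (tt N2521 F5553) (tt N4609 (iv F7504)) (tt N4612 D4612) (tt N2573 F5554))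
theorem Q3431 : ∀ i, i < 3431 → P i := stepQ 3430 Q3430 (allL N3430 (tt N4610 (iv F7506)) (tt N4612 (iv F7509)) (tt N2520 F5555) (tt N4613 D4613) (tt N2519 (iv D3430)) (tt N4614 D4614))
theorem Q3432 : ∀ i, i < 3432 → P i := stepQ 3431 Q3431 (allL N3431 (tt N4611 (iv F7508)) (tt N2523 F5556) (tt N4614 (iv F7511)) (tt N4604 (iv F7499)) (tt N4547 (iv F7395)) (tt N2520 (iv D3431)))
theorem Q3433 : ∀ i, i < 3433 → P i := stepQ 3432 Q3432 (allL N3432 (tt N3917 (iv F6392)) (tt N2522 F5557) (tt N4612 (iv F7510)) (tt N4615 D4615) (tt N2521 (iv D3432)) (tt N4616 D4616))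
theorem Q3434 : ∀ i, i < 3434 → P i := stepQ 3433 Q3433 (allL N3433 (tt N2561 F5558) (tt N4615 (iv F7512)) (tt N4617 D4617) (tt N2522 (iv D3433)) (tt N2540 F5559) (tt N4618 D4618))
theorem Q3435 : ∀ i, i < 3435 → P i := stepQ 3434 Q3434 (allL N3434 (tt N2562 F5560) (tt N4616 (iv F7514)) (tt N2523 F5561) (tt N4618 (iv F7519)) (tt N2575 F5562) (tt N2522 (iv D3434)))
theorem Q3436 : ∀ i, i < 3436 → P i := stepQ 3435 Q3435 (allL N3435 (tt N2526 F5563) (tt N4619 D4619) (tt N2524 (iv D3435)) (tt N4620 D4620) (tt N3418 F5564) (tt N3371 F5565))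
theorem Q3437 : ∀ i, i < 3437 → P i := stepQ 3436 Q3436 (allL N3436 (tt N4620 (iv F7525)) (tt N3370 F5566) (tt N4621 D4621) (tt N2526 (iv D3436)) (tt N4622 D4622) (tt N3372 F5567))
theorem Q3438 : ∀ i, i < 3438 → P i := stepQ 3437 Q3437 (allL N3437 (tt N2531 F5568) (tt N4623 D4623) (tt N2527 (iv D3437)) (tt N4624 D4624) (tt N4519 (iv F7337)) (tt N4625 D4625))
theorem Q3439 : ∀ i, i < 3439 → P i := stepQ 3438 Q3438 (allL N3438 (tt N2532 F5569) (tt N2537 F5570) (tt N4625 (iv F7535)) (tt N2528 F5571) (tt N4626 D4626) (tt N2527 (iv D3438)))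
theorem Q3440 : ∀ i, i < 3440 → P i := stepQ 3439 Q3439 (allL N3439 (tt N4519 (iv F7336)) (tt N4627 D4627) (tt N2529 (iv D3439)) (tt N4628 D4628) (tt N2531 F5572) (tt N4629 D4629))
theorem Q3441 : ∀ i, i < 3441 → P i := stepQ 3440 Q3440 (allL N3440 (tt N4520 (iv F7338)) (tt N2534 F5573) (tt N4629 (iv F7542)) (tt N2530 F5574) (tt N4630 D4630) (tt N2529 (iv D3440)))
theorem Q3442 : ∀ i, i < 3442 → P i := stepQ 3441 Q3441 (allL N3441 (tt N4631 D4631) (tt N2531 (iv D3441)) (tt N2535 F5575) (tt N4632 D4632) (tt N4627 (iv F7541)) (tt N2589 (iv F5576)))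
theorem Q3443 : ∀ i, i < 3443 → P i := stepQ 3442 Q3442 (allL N3442 (tt N4624 (iv F7531)) (tt N4632 (iv F7549)) (tt N4633 D4633) (tt N2531 (iv D3442)) (tt N4634 D4634) (tt N4635 D4635))
theorem Q3444 : ∀ i, i < 3444 → P i := stepQ 3443 Q3443 (allL N3443 (tt N4625 (iv F7534)) (tt N2589 F5577) (tt N2532 F5578) (tt N4635 (iv F7558)) (tt N4636 D4636) (tt N2531 (iv D3443)))
theorem Q3445 : ∀ i, i < 3445 → P i := stepQ 3444 Q3444 (allL N3444 (tt N4626 (iv F7537)) (tt N2536 F5579) (tt N4636 (iv F7560)) (tt N4626 (iv F7539)) (tt N2532 (iv D3444)) (tt N4630 (iv F7544)))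
theorem Q3446 : ∀ i, i < 3446 → P i := stepQ 3445 Q3445 (allL N3445 (tt N4637 D4637) (tt N2533 (iv D3445)) (tt N4627 (iv F7540)) (tt N4638 D4638) (tt N2535 F5580) (tt N4639 D4639))
theorem Q3447 : ∀ i, i < 3447 → P i := stepQ 3446 Q3446 (allL N3446 (tt N2552 F5581) (tt N4638 (iv F7563)) (tt N4640 D4640) (tt N2533 (iv D3446)) (tt N2593 F5582) (tt N4641 D4641))
theorem Q3448 : ∀ i, i < 3448 → P i := stepQ 3447 Q3447 (allL N3447 (tt N2553 F5583) (tt N4639 (iv F7565)) (tt N2534 F5584) (tt N4641 (iv F7573)) (tt N2592 F5585) (tt N2533 (iv D3447)))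
theorem Q3449 : ∀ i, i < 3449 → P i := stepQ 3448 Q3448 (allL N3448 (tt N2554 F5586) (tt N4630 (iv F7543)) (tt N2592 F5587) (tt N4524 (iv F7347)) (tt N2534 (iv D3448)) (tt N2536 F5588))
theorem Q3450 : ∀ i, i < 3450 → P i := stepQ 3449 Q3449 (allL N3449 (tt N2535 (iv D3449)) (tt N2555 F5589) (tt N4631 (iv F7545)) (tt N2588 F5590) (tt N4637 (iv F7562)) (tt N2587 F5591))
theorem Q3451 : ∀ i, i < 3451 → P i := stepQ 3450 Q3450 (allL N3450 (tt N2546 F5592) (tt N4626 (iv F7538)) (tt N4642 D4642) (tt N2536 (iv D3450)) (tt N2537 F5593) (tt N4524 (iv F7348)))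
theorem Q3452 : ∀ i, i < 3452 → P i := stepQ 3451 Q3451 (allL N3451 (tt N2545 F5594) (tt N4643 D4643) (tt N2537 (iv D3451)) (tt N2560 F5595) (tt N4642 (iv F7575)) (tt N2538 F5596))
theorem Q3453 : ∀ i, i < 3453 → P i := stepQ 3452 Q3452 (allL N3452 (tt N4644 D4644) (tt N2538 (iv D3452)) (tt N4623 (iv F7530)) (tt N3069 F5597) (tt N4521 (iv F7341)) (tt N4643 (iv F7577)))
theorem Q3454 : ∀ i, i < 3454 → P i := stepQ 3453 Q3453 (allL N3453 (tt N3918 (iv F6394)) (tt N2540 F5598) (tt N4645 D4645) (tt N2539 (iv D3453)) (tt N4615 (iv F7513)) (tt N3056 F5599))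
theorem Q3455 : ∀ i, i < 3455 → P i := stepQ 3454 Q3454 (allL N3454 (tt N2560 F5600) (tt N4646 D4646) (tt N2540 (iv D3454)) (tt N2545 F5601) (tt N4617 (iv F7517)) (tt N2544 F5602))
theorem Q3456 : ∀ i, i < 3456 → P i := stepQ 3455 Q3455 (allL N3455 (tt N4647 D4647) (tt N2541 (iv D3455)) (tt N2551 F5603) (tt N4648 D4648) (tt N2543 F5604) (tt N4649 D4649))
theorem Q3457 : ∀ i, i < 3457 → P i := stepQ 3456 Q3456 (allL N3456 (tt N4522 (iv F7342)) (tt N4648 (iv F7585)) (tt N4530 (iv F7357)) (tt N2541 (iv D3456)) (tt N4650 D4650) (tt N4528 F7353))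
theorem Q3458 : ∀ i, i < 3458 → P i := stepQ 3457 Q3457 (allL N3457 (tt N4523 (iv F7344)) (tt N4649 (iv F7586)) (tt N2542 F5605) (tt N4528 (iv F7352)) (tt N4651 D4651) (tt N2541 (iv D3457)))
theorem Q3459 : ∀ i, i < 3459 → P i := stepQ 3458 Q3458 (allL N3458 (tt N4524 (iv F7346)) (tt N2554 F5606) (tt N4651 (iv F7590)) (tt N2554 F5607) (tt N2542 (iv D3458)) (tt N2546 F5608))
theorem Q3460 : ∀ i, i < 3460 → P i := stepQ 3459 Q3459 (allL N3459 (tt N2543 (iv D3459)) (tt N4644 (iv F7578)) (tt N2555 F5609) (tt N4652 D4652) (tt N4647 (iv F7584)) (tt N4653 D4653))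
theorem Q3461 : ∀ i, i < 3461 → P i := stepQ 3460 Q3460 (allL N3460 (tt N4652 (iv F7592)) (tt N2544 F5610) (tt N4654 D4654) (tt N2543 (iv D3460)) (tt N4655 D4655) (tt N4646 (iv F7582)))
theorem Q3462 : ∀ i, i < 3462 → P i := stepQ 3461 Q3461 (allL N3461 (tt N4653 (iv F7594)) (tt N2545 F5611) (tt N2557 F5612) (tt N4646 (iv F7581)) (tt N4656 D4656) (tt N2543 (iv D3461)))
theorem Q3463 : ∀ i, i < 3463 → P i := stepQ 3462 Q3462 (allL N3462 (tt N3068 F5613) (tt N4655 (iv F7597)) (tt N2991 F5614) (tt N4650 (iv F7589)) (tt N2544 (iv D3462)) (tt N4657 D4657))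
theorem Q3464 : ∀ i, i < 3464 → P i := stepQ 3463 Q3463 (allL N3463 (tt N4642 (iv F7574)) (tt N4656 (iv F7598)) (tt N2546 F5615) (tt N4658 D4658) (tt N2545 (iv D3463)) (tt N4651 (iv F7591)))
theorem Q3465 : ∀ i, i < 3465 → P i := stepQ 3464 Q3464 (allL N3464 (tt N4490 (iv F7271)) (tt N4659 D4659) (tt N2547 (iv D3464)) (tt N4660 D4660) (tt N4488 (iv F7267)) (tt N4661 D4661))
theorem Q3466 : ∀ i, i < 3466 → P i := stepQ 3465 Q3465 (allL N3465 (tt N4491 (iv F7273)) (tt N2550 F5616) (tt N4661 (iv F7603)) (tt N2548 F5617) (tt N4662 D4662) (tt N2547 (iv D3465)))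
theorem Q3467 : ∀ i, i < 3467 → P i := stepQ 3466 Q3466 (allL N3466 (tt N4663 D4663) (tt N2549 (iv D3466)) (tt N4659 (iv F7602)) (tt N4664 D4664) (tt N4503 (iv F7300)) (tt N4665 D4665))
theorem Q3468 : ∀ i, i < 3468 → P i := stepQ 3467 Q3467 (allL N3467 (tt N4511 (iv F7321)) (tt N4664 (iv F7605)) (tt N4641 (iv F7572)) (tt N2549 (iv D3467)) (tt N4666 D4666) (tt N4640 F7570))
theorem Q3469 : ∀ i, i < 3469 → P i := stepQ 3468 Q3468 (allL N3468 (tt N4512 (iv F7324)) (tt N4665 (iv F7606)) (tt N2550 F5618) (tt N4640 (iv F7568)) (tt N4667 D4667) (tt N2549 (iv D3468)))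
theorem Q3470 : ∀ i, i < 3470 → P i := stepQ 3469 Q3469 (allL N3469 (tt N4513 (iv F7327)) (tt N4662 (iv F7604)) (tt N4667 (iv F7607)) (tt N4499 (iv F7289)) (tt N2550 (iv D3469)) (tt N4501 (iv F7296)))
theorem Q3471 : ∀ i, i < 3471 → P i := stepQ 3470 Q3470 (allL N3470 (tt N2551 (iv D3470)) (tt N4637 (iv F7561)) (tt N4647 (iv F7583)) (tt N4668 D4668) (tt N2555 F5619) (tt N4669 D4669))
theorem Q3472 : ∀ i, i < 3472 → P i := stepQ 3471 Q3471 (allL N3471 (tt N4668 (iv F7608)) (tt N2552 F5620) (tt N4670 D4670) (tt N2551 (iv D3471)) (tt N4671 D4671) (tt N4672 D4672))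
theorem Q3473 : ∀ i, i < 3473 → P i := stepQ 3472 Q3472 (allL N3472 (tt N4669 (iv F7609)) (tt N2553 F5621) (tt N4649 (iv F7587)) (tt N4672 (iv F7613)) (tt N4673 D4673) (tt N2551 (iv D3472)))
theorem Q3474 : ∀ i, i < 3474 → P i := stepQ 3473 Q3473 (allL N3473 (tt N4640 (iv F7567)) (tt N4674 D4674) (tt N2552 (iv D3473)) (tt N4512 (iv F7326)) (tt N4675 D4675) (tt N4511 F7323))
theorem Q3475 : ∀ i, i < 3475 → P i := stepQ 3474 Q3474 (allL N3474 (tt N2593 F5622) (tt N4671 (iv F7610)) (tt N4675 (iv F7617)) (tt N2558 F5623) (tt N2552 (iv D3474)) (tt N4676 D4676))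
theorem Q3476 : ∀ i, i < 3476 → P i := stepQ 3475 Q3475 (allL N3475 (tt N4641 (iv F7571)) (tt N4672 (iv F7612)) (tt N4511 (iv F7322)) (tt N2553 F5624) (tt N4677 D4677) (tt N2552 (iv D3475)))
theorem Q3477 : ∀ i, i < 3477 → P i := stepQ 3476 Q3476 (allL N3476 (tt N2592 F5625) (tt N4673 (iv F7614)) (tt N2554 F5626) (tt N4678 D4678) (tt N2553 (iv D3476)) (tt N2559 F5627))
theorem Q3478 : ∀ i, i < 3478 → P i := stepQ 3477 Q3477 (allL N3477 (tt N2556 F5628) (tt N2588 F5629) (tt N4679 D4679) (tt N2555 (iv D3477)) (tt N4680 D4680) (tt N2571 (iv F5630)))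
theorem Q3479 : ∀ i, i < 3479 → P i := stepQ 3478 Q3478 (allL N3478 (tt N2557 F5631) (tt N2587 F5632) (tt N4653 (iv F7595)) (tt N2571 F5633) (tt N4681 D4681) (tt N2555 (iv D3478)))
theorem Q3480 : ∀ i, i < 3480 → P i := stepQ 3479 Q3479 (allL N3479 (tt N4679 (iv F7625)) (tt N2565 F5634) (tt N2556 (iv D3479)) (tt N4682 D4682) (tt N4683 D4683) (tt N2563 F5635))
theorem Q3481 : ∀ i, i < 3481 → P i := stepQ 3480 Q3480 (allL N3480 (tt N4680 (iv F7628)) (tt N2558 F5636) (tt N4683 (iv F7635)) (tt N4671 (iv F7611)) (tt N2556 (iv D3480)) (tt N4684 D4684))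
theorem Q3482 : ∀ i, i < 3482 → P i := stepQ 3481 Q3481 (allL N3481 (tt N4681 (iv F7630)) (tt N2559 F5637) (tt N4656 (iv F7599)) (tt N4685 D4685) (tt N2557 (iv D3481)) (tt N4673 (iv F7615)))
theorem Q3483 : ∀ i, i < 3483 → P i := stepQ 3482 Q3482 (allL N3482 (tt N2586 F5638) (tt N4684 (iv F7637)) (tt N2570 F5639) (tt N4676 (iv F7622)) (tt N2569 F5640) (tt N2558 (iv D3482)))
theorem Q3484 : ∀ i, i < 3484 → P i := stepQ 3483 Q3483 (allL N3483 (tt N2584 F5641) (tt N4685 (iv F7640)) (tt N4686 D4686) (tt N2559 (iv D3483)) (tt N2568 F5642) (tt N4678 (iv F7624)))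
theorem Q3485 : ∀ i, i < 3485 → P i := stepQ 3484 Q3484 (allL N3484 (tt N4687 D4687) (tt N2560 (iv D3484)) (tt N3927 (iv F6415)) (tt N4643 (iv F7576)) (tt N4688 D4688) (tt N3069 F5643))
theorem Q3486 : ∀ i, i < 3486 → P i := stepQ 3485 Q3485 (allL N3485 (tt N4617 (iv F7516)) (tt N4688 (iv F7645)) (tt N2561 F5644) (tt N4689 D4689) (tt N2560 (iv D3485)) (tt N4690 D4690))
theorem Q3487 : ∀ i, i < 3487 → P i := stepQ 3486 Q3486 (allL N3486 (tt N4618 (iv F7518)) (tt N3926 (iv F6412)) (tt N4690 (iv F7646)) (tt N2562 F5645) (tt N3067 F5646) (tt N2561 (iv D3486)))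
theorem Q3488 : ∀ i, i < 3488 → P i := stepQ 3487 Q3487 (allL N3487 (tt N2563 (iv D3487)) (tt N2926 F5647) (tt N2571 F5648) (tt N4691 D4691) (tt N3304 F5649) (tt N4679 (iv F7627)))
theorem Q3489 : ∀ i, i < 3489 → P i := stepQ 3488 Q3488 (allL N3488 (tt N4691 (iv F7648)) (tt N2564 F5650) (tt N4692 D4692) (tt N2563 (iv D3488)) (tt N4693 D4693) (tt N4682 (iv F7633)))
theorem Q3490 : ∀ i, i < 3490 → P i := stepQ 3489 Q3489 (allL N3489 (tt N2837 F5651) (tt N4694 D4694) (tt N2564 (iv D3489)) (tt N2617 F5652) (tt N4695 D4695) (tt N2619 (iv F5653)))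
theorem Q3491 : ∀ i, i < 3491 → P i := stepQ 3490 Q3490 (allL N3490 (tt N2928 F5654) (tt N4693 (iv F7650)) (tt N4695 (iv F7655)) (tt N3307 F5655) (tt N2564 (iv D3490)) (tt N4696 D4696))
theorem Q3492 : ∀ i, i < 3492 → P i := stepQ 3491 Q3491 (allL N3491 (tt N2835 F5656) (tt N4682 (iv F7632)) (tt N2619 F5657) (tt N2565 F5658) (tt N4697 D4697) (tt N2564 (iv D3491)))
theorem Q3493 : ∀ i, i < 3493 → P i := stepQ 3492 Q3492 (allL N3492 (tt N2924 F5659) (tt N4683 (iv F7634)) (tt N2566 F5660) (tt N4698 D4698) (tt N2565 (iv D3492)) (tt N3308 F5661))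
theorem Q3494 : ∀ i, i < 3494 → P i := stepQ 3493 Q3493 (allL N3493 (tt N2567 (iv D3493)) (tt N2580 F5662) (tt N3304 F5663) (tt N4699 D4699) (tt N2571 F5664) (tt N4700 D4700))
theorem Q3495 : ∀ i, i < 3495 → P i := stepQ 3494 Q3494 (allL N3494 (tt N4699 (iv F7662)) (tt N2568 F5665) (tt N4701 D4701) (tt N2567 (iv D3494)) (tt N4685 (iv F7641)) (tt N4702 D4702))
theorem Q3496 : ∀ i, i < 3496 → P i := stepQ 3495 Q3495 (allL N3495 (tt N4700 (iv F7664)) (tt N2569 F5666) (tt N3306 F5667) (tt N4702 (iv F7668)) (tt N4684 (iv F7639)) (tt N2567 (iv D3495)))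
theorem Q3497 : ∀ i, i < 3497 → P i := stepQ 3496 Q3496 (allL N3496 (tt N2583 F5668) (tt N4703 D4703) (tt N2568 (iv D3496)) (tt N2578 F5669) (tt N4686 (iv F7643)) (tt N2577 (iv F5670)))
theorem Q3498 : ∀ i, i < 3498 → P i := stepQ 3497 Q3497 (allL N3497 (tt N2585 F5671) (tt N4702 (iv F7667)) (tt N2577 F5672) (tt N2569 F5673) (tt N4704 D4704) (tt N2568 (iv D3497)))
theorem Q3499 : ∀ i, i < 3499 → P i := stepQ 3498 Q3498 (allL N3498 (tt N2573 F5674) (tt N3900 (iv F6356)) (tt N2572 (iv D3498)) (tt N3900 (iv F6358)) (tt N4705 D4705) (tt N3916 (iv F6391)))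
theorem Q3500 : ∀ i, i < 3500 → P i := stepQ 3499 Q3499 (allL N3499 (tt N2574 F5675) (tt N2594 F5676) (tt N4705 (iv F7674)) (tt N3052 F5677) (tt N2572 (iv D3499)) (tt N4706 D4706))
theorem Q3501 : ∀ i, i < 3501 → P i := stepQ 3500 Q3500 (allL N3500 (tt N3900 (iv F6355)) (tt N4544 (iv F7387)) (tt N3898 (iv F6352)) (tt N2573 (iv D3500)) (tt N4707 D4707) (tt N4609 (iv F7505)))
theorem Q3502 : ∀ i, i < 3502 → P i := stepQ 3501 Q3501 (allL N3501 (tt N4705 (iv F7673)) (tt N4546 (iv F7392)) (tt N2574 F5678) (tt N4708 D4708) (tt N2573 (iv D3501)) (tt N4709 D4709))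
theorem Q3503 : ∀ i, i < 3503 → P i := stepQ 3502 Q3502 (allL N3502 (tt N4706 (iv F7675)) (tt N2575 F5679) (tt N4709 (iv F7678)) (tt N3055 F5680) (tt N4616 (iv F7515)) (tt N2574 (iv D3502)))
theorem Q3504 : ∀ i, i < 3504 → P i := stepQ 3503 Q3503 (allL N3503 (tt N2576 (iv D3503)) (tt N4568 (iv F7440)) (tt N3291 F5681) (tt N4710 D4710) (tt N4554 (iv F7413)) (tt N4711 D4711))
theorem Q3505 : ∀ i, i < 3505 → P i := stepQ 3504 Q3504 (allL N3504 (tt N4710 (iv F7679)) (tt N2577 F5682) (tt N4712 D4712) (tt N2576 (iv D3504)) (tt N4713 D4713) (tt N4703 (iv F7670)))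
theorem Q3506 : ∀ i, i < 3506 → P i := stepQ 3505 Q3505 (allL N3505 (tt N4711 (iv F7680)) (tt N2578 F5683) (tt N3293 F5684) (tt N4703 (iv F7669)) (tt N4714 D4714) (tt N2576 (iv D3505)))
theorem Q3507 : ∀ i, i < 3507 → P i := stepQ 3506 Q3506 (allL N3506 (tt N4571 (iv F7448)) (tt N4713 (iv F7682)) (tt N4704 (iv F7672)) (tt N4556 (iv F7418)) (tt N2577 (iv D3506)) (tt N4715 D4715))
theorem Q3508 : ∀ i, i < 3508 → P i := stepQ 3507 Q3507 (allL N3507 (tt N4572 (iv F7451)) (tt N4714 (iv F7683)) (tt N2579 F5685) (tt N4716 D4716) (tt N2578 (iv D3507)) (tt N4552 (iv F7407)))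
theorem Q3509 : ∀ i, i < 3509 → P i := stepQ 3508 Q3508 (allL N3508 (tt N2581 F5686) (tt N4699 (iv F7663)) (tt N4717 D4717) (tt N2580 (iv D3508)) (tt N4718 D4718) (tt N4719 D4719))
theorem Q3510 : ∀ i, i < 3510 → P i := stepQ 3509 Q3509 (allL N3509 (tt N2582 F5687) (tt N4700 (iv F7665)) (tt N3019 F5688) (tt N4719 (iv F7690)) (tt N4720 D4720) (tt N2580 (iv D3509)))
theorem Q3511 : ∀ i, i < 3511 → P i := stepQ 3510 Q3510 (allL N3510 (tt N4717 (iv F7685)) (tt N4721 D4721) (tt N2581 (iv D3510)) (tt N4722 D4722) (tt N4723 D4723) (tt N4724 D4724))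
theorem Q3512 : ∀ i, i < 3512 → P i := stepQ 3511 Q3511 (allL N3511 (tt N4718 (iv F7687)) (tt N2584 F5689) (tt N4723 (iv F7697)) (tt N2590 F5690) (tt N2581 (iv D3511)) (tt N4725 D4725))
theorem Q3513 : ∀ i, i < 3513 → P i := stepQ 3512 Q3512 (allL N3512 (tt N4719 (iv F7689)) (tt N2585 F5691) (tt N4724 (iv F7698)) (tt N2582 F5692) (tt N4726 D4726) (tt N2581 (iv D3512)))
theorem Q3514 : ∀ i, i < 3514 → P i := stepQ 3513 Q3513 (allL N3513 (tt N4720 (iv F7691)) (tt N2586 F5693) (tt N3018 F5694) (tt N4727 D4727) (tt N2582 (iv D3513)) (tt N2591 F5695))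
theorem Q3515 : ∀ i, i < 3515 → P i := stepQ 3514 Q3514 (allL N3514 (tt N4728 D4728) (tt N2583 (iv D3514)) (tt N4721 (iv F7694)) (tt N4570 (iv F7447)) (tt N4729 D4729) (tt N4569 F7444))
theorem Q3516 : ∀ i, i < 3516 → P i := stepQ 3515 Q3515 (allL N3515 (tt N4686 (iv F7642)) (tt N4729 (iv F7704)) (tt N2584 F5696) (tt N4730 D4730) (tt N2583 (iv D3515)) (tt N4731 D4731))
theorem Q3517 : ∀ i, i < 3517 → P i := stepQ 3516 Q3516 (allL N3516 (tt N4678 (iv F7623)) (tt N4725 (iv F7699)) (tt N4731 (iv F7705)) (tt N2592 F5697) (tt N4732 D4732) (tt N2584 (iv D3516)))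
theorem Q3518 : ∀ i, i < 3518 → P i := stepQ 3517 Q3517 (allL N3517 (tt N4704 (iv F7671)) (tt N4726 (iv F7701)) (tt N4571 (iv F7449)) (tt N4733 D4733) (tt N2585 (iv D3517)) (tt N4732 (iv F7706)))
theorem Q3519 : ∀ i, i < 3519 → P i := stepQ 3518 Q3518 (allL N3518 (tt N4676 (iv F7620)) (tt N4727 (iv F7702)) (tt N4734 D4734) (tt N2586 (iv D3518)) (tt N4733 (iv F7707)) (tt N2593 F5698))
theorem Q3520 : ∀ i, i < 3520 → P i := stepQ 3519 Q3519 (allL N3519 (tt N2589 F5699) (tt N4735 D4735) (tt N2587 (iv D3519)) (tt N4736 D4736) (tt N4737 D4737) (tt N4631 (iv F7546)))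
theorem Q3521 : ∀ i, i < 3521 → P i := stepQ 3520 Q3520 (allL N3520 (tt N2590 F5700) (tt N4681 (iv F7631)) (tt N4737 (iv F7715)) (tt N4718 (iv F7688)) (tt N2587 (iv D3520)) (tt N4738 D4738))
theorem Q3522 : ∀ i, i < 3522 → P i := stepQ 3521 Q3521 (allL N3521 (tt N2591 F5701) (tt N4680 (iv F7629)) (tt N3025 F5702) (tt N4739 D4739) (tt N2588 (iv D3521)) (tt N4720 (iv F7693)))
theorem Q3523 : ∀ i, i < 3523 → P i := stepQ 3522 Q3522 (allL N3522 (tt N4736 (iv F7711)) (tt N4635 (iv F7556)) (tt N4740 D4740) (tt N2589 (iv D3522)) (tt N4741 D4741) (tt N4632 (iv F7550)))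
theorem Q3524 : ∀ i, i < 3524 → P i := stepQ 3523 Q3523 (allL N3523 (tt N4737 (iv F7714)) (tt N4636 (iv F7559)) (tt N2590 F5703) (tt N4742 D4742) (tt N2589 (iv D3523)) (tt N4743 D4743))
theorem Q3525 : ∀ i, i < 3525 → P i := stepQ 3524 Q3524 (allL N3524 (tt N4738 (iv F7716)) (tt N2592 F5704) (tt N4743 (iv F7721)) (tt N4725 (iv F7700)) (tt N4639 (iv F7566)) (tt N2590 (iv D3524)))
theorem Q3526 : ∀ i, i < 3526 → P i := stepQ 3525 Q3525 (allL N3525 (tt N4739 (iv F7717)) (tt N2593 F5705) (tt N4744 D4744) (tt N2591 (iv D3525)) (tt N4638 (iv F7564)) (tt N4727 (iv F7703)))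
theorem Q3527 : ∀ i, i < 3527 → P i := stepQ 3526 Q3526 (allL N3526 (tt N4675 (iv F7616)) (tt N4745 D4745) (tt N2593 (iv D3526)) (tt N4746 D4746) (tt N4640 (iv F7569)) (tt N4734 (iv F7710)))
theorem Q3528 : ∀ i, i < 3528 → P i := stepQ 3527 Q3527 (allL N3527 (tt N2597 F5706) (tt N4706 (iv F7676)) (tt N3905 (iv F6367)) (tt N3057 F5707) (tt N3920 (iv F6401)) (tt N2594 (iv D3527)))
theorem Q3529 : ∀ i, i < 3529 → P i := stepQ 3528 Q3528 (allL N3528 (tt N2595 (iv D3528)) (tt N3898 (iv F6350)) (tt N2598 F5708) (tt N3894 (iv F6342)) (tt N4747 D4747) (tt N3921 (iv F6405)))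
theorem Q3530 : ∀ i, i < 3530 → P i := stepQ 3529 Q3529 (allL N3529 (tt N4747 (iv F7725)) (tt N2596 F5709) (tt N2599 F5710) (tt N4748 D4748) (tt N2595 (iv D3529)) (tt N4749 D4749))
theorem Q3531 : ∀ i, i < 3531 → P i := stepQ 3530 Q3530 (allL N3530 (tt N3904 (iv F6364)) (tt N4748 (iv F7727)) (tt N4750 D4750) (tt N2596 (iv D3530)) (tt N3896 (iv F6346)) (tt N4751 D4751))
theorem Q3532 : ∀ i, i < 3532 → P i := stepQ 3531 Q3531 (allL N3531 (tt N3905 (iv F6366)) (tt N4749 (iv F7728)) (tt N2597 F5711) (tt N4751 (iv F7730)) (tt N3924 (iv F6409)) (tt N2596 (iv D3531)))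
theorem Q3533 : ∀ i, i < 3533 → P i := stepQ 3532 Q3532 (allL N3532 (tt N2599 F5712) (tt N4545 (iv F7391)) (tt N4747 (iv F7726)) (tt N4752 D4752) (tt N2598 (iv D3532)) (tt N4753 D4753))
theorem Q3534 : ∀ i, i < 3534 → P i := stepQ 3533 Q3533 (allL N3533 (tt N4752 (iv F7731)) (tt N2600 F5713) (tt N4754 D4754) (tt N2599 (iv D3533)) (tt N4508 (iv F7314)) (tt N4755 D4755))
theorem Q3535 : ∀ i, i < 3535 → P i := stepQ 3534 Q3534 (allL N3534 (tt N4753 (iv F7732)) (tt N2601 F5714) (tt N4749 (iv F7729)) (tt N4755 (iv F7734)) (tt N4567 (iv F7439)) (tt N2599 (iv D3534)))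
theorem Q3536 : ∀ i, i < 3536 → P i := stepQ 3535 Q3535 (allL N3535 (tt N4542 (iv F7379)) (tt N4756 D4756) (tt N2600 (iv D3535)) (tt N4757 D4757) (tt N4509 (iv F7317)) (tt N4758 D4758))
theorem Q3537 : ∀ i, i < 3537 → P i := stepQ 3536 Q3536 (allL N3536 (tt N4543 (iv F7383)) (tt N4755 (iv F7733)) (tt N4758 (iv F7739)) (tt N2601 F5715) (tt N4759 D4759) (tt N2600 (iv D3536)))
theorem Q3538 : ∀ i, i < 3538 → P i := stepQ 3537 Q3537 (allL N3537 (tt N2602 (iv D3537)) (tt N2610 F5716) (tt N2630 F5717) (tt N4270 (iv F6987)) (tt N3851 (iv F6282)) (tt N2745 (iv F5718)))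
theorem Q3539 : ∀ i, i < 3539 → P i := stepQ 3538 Q3538 (allL N3538 (tt N4270 (iv F6985)) (tt N2603 F5719) (tt N3151 (iv F5720)) (tt N2602 (iv D3538)) (tt N4760 D4760) (tt N2919 (iv F5721)))
theorem Q3540 : ∀ i, i < 3540 → P i := stepQ 3539 Q3539 (allL N3539 (tt N2745 F5722) (tt N2604 F5723) (tt N2632 F5724) (tt N2919 F5725) (tt N4761 D4761) (tt N2602 (iv D3539)))
theorem Q3541 : ∀ i, i < 3541 → P i := stepQ 3540 Q3540 (allL N3540 (tt N2613 F5726) (tt N4760 (iv F7741)) (tt N2922 F5727) (tt N3855 (iv F6290)) (tt N2603 (iv D3540)) (tt N4762 D4762))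
theorem Q3542 : ∀ i, i < 3542 → P i := stepQ 3541 Q3541 (allL N3541 (tt N2615 F5728) (tt N4761 (iv F7744)) (tt N2605 F5729) (tt N4763 D4763) (tt N2604 (iv D3541)) (tt N3856 (iv F6293)))
theorem Q3543 : ∀ i, i < 3543 → P i := stepQ 3542 Q3542 (allL N3542 (tt N2606 (iv D3542)) (tt N3851 (iv F6280)) (tt N2620 F5730) (tt N4764 D4764) (tt N2610 F5731) (tt N4765 D4765))
theorem Q3544 : ∀ i, i < 3544 → P i := stepQ 3543 Q3543 (allL N3543 (tt N4764 (iv F7751)) (tt N2607 F5732) (tt N4766 D4766) (tt N2606 (iv D3543)) (tt N4767 D4767) (tt N4768 D4768))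
theorem Q3545 : ∀ i, i < 3545 → P i := stepQ 3544 Q3544 (allL N3544 (tt N4765 (iv F7752)) (tt N2608 F5733) (tt N2622 F5734) (tt N4768 (iv F7758)) (tt N2753 F5735) (tt N2606 (iv D3544)))
theorem Q3546 : ∀ i, i < 3546 → P i := stepQ 3545 Q3545 (allL N3545 (tt N3854 (iv F6286)) (tt N4768 (iv F7757)) (tt N2607 (iv D3545)) (tt N2608 F5736) (tt N4769 D4769) (tt N2607 (iv F5737)))
theorem Q3547 : ∀ i, i < 3547 → P i := stepQ 3546 Q3546 (allL N3546 (tt N3855 (iv F6289)) (tt N4767 (iv F7755)) (tt N4769 (iv F7759)) (tt N2613 F5738) (tt N2607 (iv D3546)) (tt N4770 D4770))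
theorem Q3548 : ∀ i, i < 3548 → P i := stepQ 3547 Q3547 (allL N3547 (tt N3856 (iv F6291)) (tt N2753 F5739) (tt N2609 F5740) (tt N4771 D4771) (tt N2608 (iv D3547)) (tt N2615 F5741))
theorem Q3549 : ∀ i, i < 3549 → P i := stepQ 3548 Q3548 (allL N3548 (tt N4271 (iv F6989)) (tt N2613 F5742) (tt N4267 (iv F6981)) (tt N4767 (iv F7756)) (tt N2611 (iv D3548)) (tt N4772 D4772))
theorem Q3550 : ∀ i, i < 3550 → P i := stepQ 3549 Q3549 (allL N3549 (tt N3145 F5743) (tt N2612 (iv D3549)) (tt N4265 (iv F6977)) (tt N2906 F5744) (tt N4773 D4773) (tt N2905 F5745))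
theorem Q3551 : ∀ i, i < 3551 → P i := stepQ 3550 Q3550 (allL N3550 (tt N2922 F5746) (tt N4773 (iv F7766)) (tt N2613 F5747) (tt N4774 D4774) (tt N2612 (iv D3550)) (tt N4775 D4775))
theorem Q3552 : ∀ i, i < 3552 → P i := stepQ 3551 Q3551 (allL N3551 (tt N4762 (iv F7746)) (tt N4772 (iv F7763)) (tt N4775 (iv F7770)) (tt N4770 (iv F7760)) (tt N4776 D4776) (tt N2613 (iv D3551)))
theorem Q3553 : ∀ i, i < 3553 → P i := stepQ 3552 Q3552 (allL N3552 (tt N2920 F5748) (tt N2751 F5749) (tt N2907 F5750) (tt N4777 D4777) (tt N2614 (iv D3552)) (tt N4776 (iv F7775)))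
theorem Q3554 : ∀ i, i < 3554 → P i := stepQ 3553 Q3553 (allL N3553 (tt N4763 (iv F7749)) (tt N2752 F5751) (tt N4778 D4778) (tt N2615 (iv D3553)) (tt N4777 (iv F7778)) (tt N4771 (iv F7762)))
theorem Q3555 : ∀ i, i < 3555 → P i := stepQ 3554 Q3554 (allL N3554 (tt N2838 F5752) (tt N4779 D4779) (tt N2616 (iv D3554)) (tt N4780 D4780) (tt N2617 F5753) (tt N3606 (iv F5855)))
theorem Q3556 : ∀ i, i < 3556 → P i := stepQ 3555 Q3555 (allL N3555 (tt N4781 D4781) (tt N2617 (iv D3555)) (tt N2626 F5754) (tt N4694 (iv F7652)) (tt N4779 (iv F7780)) (tt N2618 F5755))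
theorem Q3557 : ∀ i, i < 3557 → P i := stepQ 3556 Q3556 (allL N3556 (tt N2618 (iv D3556)) (tt N2833 F5756) (tt N2627 F5757) (tt N4782 D4782) (tt N3601 (iv F5847)) (tt N4781 (iv F7784)))
theorem Q3558 : ∀ i, i < 3558 → P i := stepQ 3557 Q3557 (allL N3557 (tt N4782 (iv F7785)) (tt N2619 F5758) (tt N4783 D4783) (tt N2618 (iv D3557)) (tt N4784 D4784) (tt N4694 (iv F7653)))
theorem Q3559 : ∀ i, i < 3559 → P i := stepQ 3558 Q3558 (allL N3558 (tt N2836 F5759) (tt N4784 (iv F7787)) (tt N4697 (iv F7659)) (tt N3605 (iv F5853)) (tt N2619 (iv D3558)) (tt N4785 D4785))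
theorem Q3560 : ∀ i, i < 3560 → P i := stepQ 3559 Q3559 (allL N3559 (tt N2621 F5760) (tt N2660 F5761) (tt N4786 D4786) (tt N2620 (iv D3559)) (tt N2749 F5762) (tt N4787 D4787))
theorem Q3561 : ∀ i, i < 3561 → P i := stepQ 3560 Q3560 (allL N3560 (tt N2622 F5763) (tt N2661 F5764) (tt N4765 (iv F7753)) (tt N4787 (iv F7793)) (tt N2748 F5765) (tt N2620 (iv D3560)))
theorem Q3562 : ∀ i, i < 3562 → P i := stepQ 3561 Q3561 (allL N3561 (tt N4786 (iv F7789)) (tt N4788 D4788) (tt N2621 (iv D3561)) (tt N4789 D4789) (tt N2754 F5766) (tt N4790 D4790))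
theorem Q3563 : ∀ i, i < 3563 → P i := stepQ 3562 Q3562 (allL N3562 (tt N4787 (iv F7791)) (tt N2624 F5767) (tt N4790 (iv F7798)) (tt N2622 F5768) (tt N4791 D4791) (tt N2621 (iv D3562)))
theorem Q3564 : ∀ i, i < 3564 → P i := stepQ 3563 Q3563 (allL N3563 (tt N4792 D4792) (tt N2623 (iv D3563)) (tt N4788 (iv F7794)) (tt N2657 F5769) (tt N2755 F5770) (tt N2656 F5771))
theorem Q3565 : ∀ i, i < 3565 → P i := stepQ 3564 Q3564 (allL N3564 (tt N2669 F5772) (tt N4791 (iv F7799)) (tt N2658 F5773) (tt N2742 F5774) (tt N2624 (iv D3564)) (tt N2743 F5775))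
theorem Q3566 : ∀ i, i < 3566 → P i := stepQ 3565 Q3565 (allL N3565 (tt N4793 D4793) (tt N2625 (iv D3565)) (tt N4779 (iv F7779)) (tt N4794 D4794) (tt N2626 F5776) (tt N3611 (iv F5861)))
theorem Q3567 : ∀ i, i < 3567 → P i := stepQ 3566 Q3566 (allL N3566 (tt N2684 F5777) (tt N4794 (iv F7808)) (tt N3251 (iv F5779)) (tt N2625 (iv D3566)) (tt N2692 F5778) (tt N3613 (iv F5866)))
theorem Q3568 : ∀ i, i < 3568 → P i := stepQ 3567 Q3567 (allL N3567 (tt N2626 (iv D3567)) (tt N2685 F5780) (tt N4781 (iv F7783)) (tt N2690 F5781) (tt N4793 (iv F7807)) (tt N2627 F5782))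
theorem Q3569 : ∀ i, i < 3569 → P i := stepQ 3568 Q3568 (allL N3568 (tt N4795 D4795) (tt N2628 (iv D3568)) (tt N2629 F5783) (tt N4796 D4796) (tt N3737 (iv F6094)) (tt N2687 F5784))
theorem Q3570 : ∀ i, i < 3570 → P i := stepQ 3569 Q3569 (allL N3569 (tt N4400 (iv F7183)) (tt N4796 (iv F7814)) (tt N4797 D4797) (tt N2628 (iv D3569)) (tt N4798 D4798) (tt N4334 (iv F7087)))
theorem Q3571 : ∀ i, i < 3571 → P i := stepQ 3570 Q3570 (allL N3570 (tt N2629 (iv D3570)) (tt N2690 F5785) (tt N4795 (iv F7810)) (tt N2685 F5786) (tt N3741 (iv F6100)) (tt N2686 F5787))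
theorem Q3572 : ∀ i, i < 3572 → P i := stepQ 3571 Q3571 (allL N3571 (tt N2631 F5788) (tt N2640 F5789) (tt N3258 (iv F5790)) (tt N2630 (iv D3571)) (tt N4799 D4799) (tt N2704 (iv F5791)))
theorem Q3573 : ∀ i, i < 3573 → P i := stepQ 3572 Q3572 (allL N3572 (tt N2632 F5792) (tt N2641 F5793) (tt N2745 F5794) (tt N2704 F5795) (tt N4800 D4800) (tt N2630 (iv D3572)))
theorem Q3574 : ∀ i, i < 3574 → P i := stepQ 3573 Q3573 (allL N3573 (tt N4799 (iv F7820)) (tt N2633 F5796) (tt N3259 F5797) (tt N3860 (iv F6299)) (tt N2631 (iv D3573)) (tt N4801 D4801))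
theorem Q3575 : ∀ i, i < 3575 → P i := stepQ 3574 Q3574 (allL N3574 (tt N4800 (iv F7823)) (tt N2634 F5798) (tt N4761 (iv F7745)) (tt N4802 D4802) (tt N2632 (iv D3574)) (tt N3861 (iv F6301)))
theorem Q3576 : ∀ i, i < 3576 → P i := stepQ 3575 Q3575 (allL N3575 (tt N2648 F5799) (tt N4801 (iv F7826)) (tt N2708 F5800) (tt N3862 (iv F6303)) (tt N2707 F5801) (tt N2633 (iv D3575)))
theorem Q3577 : ∀ i, i < 3577 → P i := stepQ 3576 Q3576 (allL N3576 (tt N2650 F5802) (tt N4802 (iv F7829)) (tt N4803 D4803) (tt N2634 (iv D3576)) (tt N2706 F5803) (tt N3863 (iv F6305)))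
theorem Q3578 : ∀ i, i < 3578 → P i := stepQ 3577 Q3577 (allL N3577 (tt N2636 F5804) (tt N3857 (iv F6295)) (tt N4804 D4804) (tt N2635 (iv D3577)) (tt N4805 D4805) (tt N3875 (iv F6324)))
theorem Q3579 : ∀ i, i < 3579 → P i := stepQ 3578 Q3578 (allL N3578 (tt N2637 F5805) (tt N3858 (iv F6297)) (tt N2661 F5806) (tt N3875 (iv F6323)) (tt N4806 D4806) (tt N2635 (iv D3578)))
theorem Q3580 : ∀ i, i < 3580 → P i := stepQ 3579 Q3579 (allL N3579 (tt N4804 (iv F7835)) (tt N3871 (iv F6316)) (tt N2636 (iv D3579)) (tt N4807 D4807) (tt N4808 D4808) (tt N3868 F6314))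
theorem Q3581 : ∀ i, i < 3581 → P i := stepQ 3580 Q3580 (allL N3580 (tt N4805 (iv F7836)) (tt N2638 F5807) (tt N4808 (iv F7841)) (tt N2643 F5808) (tt N2636 (iv D3580)) (tt N4809 D4809))
theorem Q3582 : ∀ i, i < 3582 → P i := stepQ 3581 Q3581 (allL N3581 (tt N4806 (iv F7838)) (tt N2639 F5809) (tt N2665 F5810) (tt N4810 D4810) (tt N2637 (iv D3581)) (tt N2645 F5811))
theorem Q3583 : ∀ i, i < 3583 → P i := stepQ 3582 Q3582 (allL N3582 (tt N3862 (iv F6302)) (tt N4809 (iv F7842)) (tt N3879 (iv F6329)) (tt N2648 F5812) (tt N3878 (iv F6328)) (tt N2638 (iv D3582)))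
theorem Q3584 : ∀ i, i < 3584 → P i := stepQ 3583 Q3583 (allL N3583 (tt N3863 (iv F6304)) (tt N4810 (iv F7844)) (tt N4811 D4811) (tt N2639 (iv D3583)) (tt N3877 (iv F6326)) (tt N2650 F5813))
theorem Q3585 : ∀ i, i < 3585 → P i := stepQ 3584 Q3584 (allL N3584 (tt N2642 F5814) (tt N4812 D4812) (tt N2640 (iv D3584)) (tt N2712 F5815) (tt N4813 D4813) (tt N4814 D4814))
theorem Q3586 : ∀ i, i < 3586 → P i := stepQ 3585 Q3585 (allL N3585 (tt N2643 F5816) (tt N4799 (iv F7821)) (tt N4813 (iv F7854)) (tt N4805 (iv F7837)) (tt N2640 (iv D3585)) (tt N4815 D4815))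
theorem Q3587 : ∀ i, i < 3587 → P i := stepQ 3586 Q3586 (allL N3586 (tt N2644 F5817) (tt N2704 F5818) (tt N4814 (iv F7857)) (tt N2641 F5819) (tt N4816 D4816) (tt N2640 (iv D3586)))
theorem Q3588 : ∀ i, i < 3588 → P i := stepQ 3587 Q3587 (allL N3587 (tt N2645 F5820) (tt N4800 (iv F7824)) (tt N2678 F5821) (tt N4817 D4817) (tt N2641 (iv D3587)) (tt N4806 (iv F7840)))
theorem Q3589 : ∀ i, i < 3589 → P i := stepQ 3588 Q3588 (allL N3588 (tt N3255 (iv F5823)) (tt N2642 (iv D3588)) (tt N2646 F5822) (tt N4818 D4818) (tt N4819 D4819) (tt N2695 (iv F5824)))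
theorem Q3590 : ∀ i, i < 3590 → P i := stepQ 3589 Q3589 (allL N3589 (tt N2712 F5825) (tt N4818 (iv F7864)) (tt N2711 F5826) (tt N2642 (iv D3589)) (tt N4820 D4820) (tt N4821 D4821))
theorem Q3591 : ∀ i, i < 3591 → P i := stepQ 3590 Q3590 (allL N3590 (tt N4813 (iv F7853)) (tt N4819 (iv F7868)) (tt N2643 F5827) (tt N4822 D4822) (tt N2642 (iv D3590)) (tt N4823 D4823))
theorem Q3592 : ∀ i, i < 3592 → P i := stepQ 3591 Q3591 (allL N3591 (tt N4814 (iv F7855)) (tt N2695 F5828) (tt N2644 F5829) (tt N4821 (iv F7875)) (tt N4824 D4824) (tt N2642 (iv D3591)))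
theorem Q3593 : ∀ i, i < 3593 → P i := stepQ 3592 Q3592 (allL N3592 (tt N4815 (iv F7859)) (tt N2648 F5830) (tt N4823 (iv F7876)) (tt N4809 (iv F7843)) (tt N4825 D4825) (tt N2643 (iv D3592)))
theorem Q3594 : ∀ i, i < 3594 → P i := stepQ 3593 Q3593 (allL N3593 (tt N4816 (iv F7860)) (tt N2649 F5831) (tt N4824 (iv F7878)) (tt N4826 D4826) (tt N2644 (iv D3593)) (tt N4825 (iv F7880)))
theorem Q3595 : ∀ i, i < 3595 → P i := stepQ 3594 Q3594 (allL N3594 (tt N4817 (iv F7862)) (tt N2650 F5832) (tt N4827 D4827) (tt N2645 (iv D3594)) (tt N4826 (iv F7882)) (tt N4810 (iv F7845)))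
theorem Q3596 : ∀ i, i < 3596 → P i := stepQ 3595 Q3595 (allL N3595 (tt N3256 F5833) (tt N2647 F5834) (tt N4819 (iv F7869)) (tt N4828 D4828) (tt N2646 (iv D3595)) (tt N4829 D4829))
theorem Q3597 : ∀ i, i < 3597 → P i := stepQ 3596 Q3596 (allL N3596 (tt N2709 F5835) (tt N4828 (iv F7884)) (tt N2796 (iv F5837)) (tt N2647 (iv D3596)) (tt N2699 F5836) (tt N3915 (iv F6387)))
theorem Q3598 : ∀ i, i < 3598 → P i := stepQ 3597 Q3597 (allL N3597 (tt N2708 F5838) (tt N4829 (iv F7887)) (tt N2648 F5839) (tt N3915 (iv F6386)) (tt N2698 F5840) (tt N2647 (iv D3597)))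
theorem Q3599 : ∀ i, i < 3599 → P i := stepQ 3598 Q3598 (allL N3598 (tt N2707 F5841) (tt N4825 (iv F7879)) (tt N2698 F5842) (tt N4830 D4830) (tt N2648 (iv D3598)) (tt N2649 F5843))
theorem Q3600 : ∀ i, i < 3600 → P i := stepQ 3599 Q3599 (allL N3599 (tt N2706 F5844) (tt N4826 (iv F7881)) (tt N4831 D4831) (tt N2649 (iv D3599)) (tt N2650 F5845) (tt N4830 (iv F7891)))
theorem Q3601 : ∀ i, i < 3601 → P i := stepQ 3600 Q3600 (allL N3600 (tt N4803 (iv F7831)) (tt N4832 D4832) (tt N2650 (iv D3600)) (tt N4833 D4833) (tt N4831 (iv F7894)) (tt N4811 (iv F7848)))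
theorem Q3602 : ∀ i, i < 3602 → P i := stepQ 3601 Q3601 (allL N3601 (tt N2651 (iv D3601)) (tt N3823 (iv F6239)) (tt N2655 F5846) (tt N4834 D4834) (tt N3556 F5847) (tt N4835 D4835))
theorem Q3603 : ∀ i, i < 3603 → P i := stepQ 3602 Q3602 (allL N3602 (tt N4834 (iv F7899)) (tt N2652 F5848) (tt N4836 D4836) (tt N2651 (iv D3602)) (tt N4837 D4837) (tt N4838 D4838))
theorem Q3604 : ∀ i, i < 3604 → P i := stepQ 3603 Q3603 (allL N3603 (tt N4835 (iv F7900)) (tt N2653 F5849) (tt N2657 F5850) (tt N4838 (iv F7905)) (tt N4839 D4839) (tt N2651 (iv D3603)))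
theorem Q3605 : ∀ i, i < 3605 → P i := stepQ 3604 Q3604 (allL N3604 (tt N3826 (iv F6245)) (tt N4838 (iv F7904)) (tt N2652 (iv D3604)) (tt N2653 F5851) (tt N4840 D4840) (tt N2652 (iv F5852)))
theorem Q3606 : ∀ i, i < 3606 → P i := stepQ 3605 Q3605 (allL N3605 (tt N3827 (iv F6248)) (tt N4837 (iv F7902)) (tt N4840 (iv F7909)) (tt N3558 F5853) (tt N2652 (iv D3605)) (tt N4841 D4841))
theorem Q3607 : ∀ i, i < 3607 → P i := stepQ 3606 Q3606 (allL N3606 (tt N3828 (iv F6250)) (tt N4839 (iv F7906)) (tt N2654 F5854) (tt N4842 D4842) (tt N2653 (iv D3606)) (tt N3554 F5855))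
theorem Q3608 : ∀ i, i < 3608 → P i := stepQ 3607 Q3607 (allL N3607 (tt N2656 F5856) (tt N3633 (iv F5908)) (tt N4843 D4843) (tt N2655 (iv D3607)) (tt N4844 D4844) (tt N4792 (iv F7805)))
theorem Q3609 : ∀ i, i < 3609 → P i := stepQ 3608 Q3608 (allL N3608 (tt N2657 F5857) (tt N3632 (iv F5903)) (tt N4835 (iv F7901)) (tt N4792 (iv F7803)) (tt N4845 D4845) (tt N2655 (iv D3608)))
theorem Q3610 : ∀ i, i < 3610 → P i := stepQ 3609 Q3609 (allL N3609 (tt N4843 (iv F7912)) (tt N4790 (iv F7797)) (tt N2656 (iv D3609)) (tt N4846 D4846) (tt N4847 D4847) (tt N4788 F7796))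
theorem Q3611 : ∀ i, i < 3611 → P i := stepQ 3610 Q3610 (allL N3610 (tt N4844 (iv F7913)) (tt N2658 F5858) (tt N4847 (iv F7917)) (tt N3253 F5859) (tt N2656 (iv D3610)) (tt N4848 D4848))
theorem Q3612 : ∀ i, i < 3612 → P i := stepQ 3611 Q3611 (allL N3611 (tt N4845 (iv F7915)) (tt N2659 F5860) (tt N4839 (iv F7907)) (tt N4849 D4849) (tt N2657 (iv D3611)) (tt N3565 F5861))
theorem Q3613 : ∀ i, i < 3613 → P i := stepQ 3612 Q3612 (allL N3612 (tt N3636 (iv F5914)) (tt N4848 (iv F7918)) (tt N2743 F5862) (tt N3252 F5863) (tt N2744 F5864) (tt N2658 (iv D3612)))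
theorem Q3614 : ∀ i, i < 3614 → P i := stepQ 3613 Q3613 (allL N3613 (tt N3631 (iv F5899)) (tt N4849 (iv F7921)) (tt N3644 (iv F5936)) (tt N2659 (iv D3613)) (tt N2756 F5865) (tt N3566 F5866))
theorem Q3615 : ∀ i, i < 3615 → P i := stepQ 3614 Q3614 (allL N3614 (tt N2662 F5867) (tt N4850 D4850) (tt N2660 (iv D3614)) (tt N4851 D4851) (tt N4852 D4852) (tt N4853 D4853))
theorem Q3616 : ∀ i, i < 3616 → P i := stepQ 3615 Q3615 (allL N3615 (tt N2663 F5868) (tt N2749 F5869) (tt N4852 (iv F7926)) (tt N2677 F5870) (tt N2660 (iv D3615)) (tt N4854 D4854))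
theorem Q3617 : ∀ i, i < 3617 → P i := stepQ 3616 Q3616 (allL N3616 (tt N2664 F5871) (tt N4787 (iv F7792)) (tt N4853 (iv F7928)) (tt N2661 F5872) (tt N4855 D4855) (tt N2660 (iv D3616)))
theorem Q3618 : ∀ i, i < 3618 → P i := stepQ 3617 Q3617 (allL N3617 (tt N2665 F5873) (tt N2748 F5874) (tt N4806 (iv F7839)) (tt N4856 D4856) (tt N2661 (iv D3617)) (tt N2678 F5875))
theorem Q3619 : ∀ i, i < 3619 → P i := stepQ 3618 Q3618 (allL N3618 (tt N4857 D4857) (tt N2662 (iv D3618)) (tt N2666 F5876) (tt N4858 D4858) (tt N4859 D4859) (tt N3634 (iv F5911)))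
theorem Q3620 : ∀ i, i < 3620 → P i := stepQ 3619 Q3619 (allL N3619 (tt N4851 (iv F7924)) (tt N4858 (iv F7937)) (tt N4860 D4860) (tt N2662 (iv D3619)) (tt N4861 D4861) (tt N4862 D4862))
theorem Q3621 : ∀ i, i < 3621 → P i := stepQ 3620 Q3620 (allL N3620 (tt N4852 (iv F7925)) (tt N4859 (iv F7938)) (tt N2663 F5877) (tt N4863 D4863) (tt N2662 (iv D3620)) (tt N4864 D4864))
theorem Q3622 : ∀ i, i < 3622 → P i := stepQ 3621 Q3621 (allL N3621 (tt N4853 (iv F7927)) (tt N3634 (iv F5910)) (tt N2664 F5878) (tt N4862 (iv F7940)) (tt N4865 D4865) (tt N2662 (iv D3621)))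
theorem Q3623 : ∀ i, i < 3623 → P i := stepQ 3622 Q3622 (allL N3622 (tt N4854 (iv F7929)) (tt N2668 F5879) (tt N4864 (iv F7941)) (tt N2680 F5880) (tt N4866 D4866) (tt N2663 (iv D3622)))
theorem Q3624 : ∀ i, i < 3624 → P i := stepQ 3623 Q3623 (allL N3623 (tt N4855 (iv F7932)) (tt N2669 F5881) (tt N4865 (iv F7942)) (tt N4867 D4867) (tt N2664 (iv D3623)) (tt N4866 (iv F7945)))
theorem Q3625 : ∀ i, i < 3625 → P i := stepQ 3624 Q3624 (allL N3624 (tt N4856 (iv F7933)) (tt N2670 F5882) (tt N4868 D4868) (tt N2665 (iv D3624)) (tt N4867 (iv F7947)) (tt N2681 F5883))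
theorem Q3626 : ∀ i, i < 3626 → P i := stepQ 3625 Q3625 (allL N3625 (tt N2666 (iv D3625)) (tt N4792 (iv F7802)) (tt N4857 (iv F7936)) (tt N3632 (iv F5905)) (tt N4869 D4869) (tt N3633 (iv F5909)))
theorem Q3627 : ∀ i, i < 3627 → P i := stepQ 3626 Q3626 (allL N3626 (tt N4869 (iv F7950)) (tt N2667 F5884) (tt N4859 (iv F7939)) (tt N4151 (iv F6771)) (tt N2666 (iv D3626)) (tt N4236 (iv F6948)))
theorem Q3628 : ∀ i, i < 3628 → P i := stepQ 3627 Q3627 (allL N3627 (tt N2743 F5885) (tt N4866 (iv F7943)) (tt N3636 (iv F5915)) (tt N2714 F5886) (tt N2668 (iv D3627)) (tt N2669 F5887))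
theorem Q3629 : ∀ i, i < 3629 → P i := stepQ 3628 Q3628 (allL N3628 (tt N2742 F5888) (tt N4867 (iv F7946)) (tt N2725 F5889) (tt N2669 (iv D3628)) (tt N2670 F5890) (tt N2714 F5891))
theorem Q3630 : ∀ i, i < 3630 → P i := stepQ 3629 Q3629 (allL N3629 (tt N2741 F5892) (tt N4870 D4870) (tt N2670 (iv D3629)) (tt N3251 F5895) (tt N2725 F5893) (tt N2682 F5894))
theorem Q3631 : ∀ i, i < 3631 → P i := stepQ 3630 Q3630 (allL N3630 (tt N4871 D4871) (tt N2671 (iv D3630)) (tt N2863 F5896) (tt N4872 D4872) (tt N2672 F5897) (tt N2683 F5898))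
theorem Q3632 : ∀ i, i < 3632 → P i := stepQ 3631 Q3631 (allL N3631 (tt N3613 F5899) (tt N4872 (iv F7959)) (tt N2740 F5900) (tt N2671 (iv D3631)) (tt N3078 F5901) (tt N2684 F5902))
theorem Q3633 : ∀ i, i < 3633 → P i := stepQ 3632 Q3632 (allL N3632 (tt N2672 (iv D3632)) (tt N3608 F5903) (tt N2859 F5904) (tt N3625 F5905) (tt N4871 (iv F7957)) (tt N2673 F5906))
theorem Q3634 : ∀ i, i < 3634 → P i := stepQ 3633 Q3633 (allL N3633 (tt N2674 F5907) (tt N3607 F5908) (tt N4873 D4873) (tt N2673 (iv D3633)) (tt N4874 D4874) (tt N3625 F5909))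
theorem Q3635 : ∀ i, i < 3635 → P i := stepQ 3634 Q3634 (allL N3634 (tt N4873 (iv F7962)) (tt N3621 F5910) (tt N2674 (iv D3634)) (tt N4875 D4875) (tt N4876 D4876) (tt N3618 F5911))
theorem Q3636 : ∀ i, i < 3636 → P i := stepQ 3635 Q3635 (allL N3635 (tt N4874 (iv F7964)) (tt N2675 F5912) (tt N4876 (iv F7970)) (tt N2688 F5913) (tt N2674 (iv D3635)) (tt N4877 D4877))
theorem Q3637 : ∀ i, i < 3637 → P i := stepQ 3636 Q3636 (allL N3636 (tt N3612 F5914) (tt N4877 (iv F7971)) (tt N3627 F5915) (tt N2689 F5916) (tt N3144 F5917) (tt N2675 (iv D3636)))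
theorem Q3638 : ∀ i, i < 3638 → P i := stepQ 3637 Q3637 (allL N3637 (tt N2679 F5918) (tt N2729 F5919) (tt N4821 (iv F7874)) (tt N2676 (iv D3637)) (tt N4878 D4878) (tt N2711 F5920))
theorem Q3639 : ∀ i, i < 3639 → P i := stepQ 3638 Q3638 (allL N3638 (tt N2680 F5921) (tt N2730 F5922) (tt N2677 F5923) (tt N4854 (iv F7931)) (tt N2676 (iv D3638)) (tt N2677 F5924))
theorem Q3640 : ∀ i, i < 3640 → P i := stepQ 3639 Q3639 (allL N3639 (tt N2681 F5925) (tt N2728 F5926) (tt N4820 (iv F7871)) (tt N2678 (iv D3639)) (tt N2711 F5927) (tt N4856 (iv F7935)))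
theorem Q3641 : ∀ i, i < 3641 → P i := stepQ 3640 Q3640 (allL N3640 (tt N4821 (iv F7872)) (tt N2722 F5928) (tt N2679 (iv D3640)) (tt N4814 (iv F7858)) (tt N4879 D4879) (tt N2712 F5929))
theorem Q3642 : ∀ i, i < 3642 → P i := stepQ 3641 Q3641 (allL N3641 (tt N4878 (iv F7974)) (tt N2714 F5930) (tt N4879 (iv F7977)) (tt N4866 (iv F7944)) (tt N2679 (iv D3641)) (tt N4867 (iv F7948)))
theorem Q3643 : ∀ i, i < 3643 → P i := stepQ 3642 Q3642 (allL N3642 (tt N4820 (iv F7870)) (tt N4880 D4880) (tt N2681 (iv D3642)) (tt N4881 D4881) (tt N2712 F5931) (tt N4868 (iv F7949)))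
theorem Q3644 : ∀ i, i < 3644 → P i := stepQ 3643 Q3643 (allL N3643 (tt N4882 D4882) (tt N2682 (iv D3643)) (tt N4880 (iv F7978)) (tt N4883 D4883) (tt N2713 F5932) (tt N4870 (iv F7954)))
theorem Q3645 : ∀ i, i < 3645 → P i := stepQ 3644 Q3644 (allL N3644 (tt N2740 F5933) (tt N4883 (iv F7982)) (tt N3613 F5936) (tt N2682 (iv D3644)) (tt N2726 F5934) (tt N3251 F5935))
theorem Q3646 : ∀ i, i < 3646 → P i := stepQ 3645 Q3645 (allL N3645 (tt N2683 (iv D3645)) (tt N4793 (iv F7806)) (tt N2871 F5937) (tt N4884 D4884) (tt N2685 F5938) (tt N4871 (iv F7958)))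
theorem Q3647 : ∀ i, i < 3647 → P i := stepQ 3646 Q3646 (allL N3646 (tt N4884 (iv F7985)) (tt N2684 F5939) (tt N4885 D4885) (tt N2683 (iv D3646)) (tt N3742 (iv F6102)) (tt N4872 (iv F7961)))
theorem Q3648 : ∀ i, i < 3648 → P i := stepQ 3647 Q3647 (allL N3647 (tt N3251 F5940) (tt N4886 D4886) (tt N2684 (iv D3647)) (tt N2741 F5941) (tt N3141 F5942) (tt N2740 F5943))
theorem Q3649 : ∀ i, i < 3649 → P i := stepQ 3648 Q3648 (allL N3648 (tt N2687 F5944) (tt N4887 D4887) (tt N2686 (iv D3648)) (tt N4888 D4888) (tt N4889 D4889) (tt N4795 (iv F7811)))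
theorem Q3650 : ∀ i, i < 3650 → P i := stepQ 3649 Q3649 (allL N3649 (tt N2688 F5945) (tt N4376 (iv F7148)) (tt N4889 (iv F7993)) (tt N4874 (iv F7966)) (tt N2686 (iv D3649)) (tt N4890 D4890))
theorem Q3651 : ∀ i, i < 3651 → P i := stepQ 3650 Q3650 (allL N3650 (tt N4888 (iv F7989)) (tt N4334 (iv F7086)) (tt N4891 D4891) (tt N2687 (iv D3650)) (tt N4892 D4892) (tt N4796 (iv F7815)))
theorem Q3652 : ∀ i, i < 3652 → P i := stepQ 3651 Q3651 (allL N3651 (tt N4889 (iv F7992)) (tt N4233 (iv F6942)) (tt N2688 F5946) (tt N4893 D4893) (tt N2687 (iv D3651)) (tt N4894 D4894))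
theorem Q3653 : ∀ i, i < 3653 → P i := stepQ 3652 Q3652 (allL N3652 (tt N4890 (iv F7994)) (tt N2689 F5947) (tt N4894 (iv F7998)) (tt N4877 (iv F7972)) (tt N3743 (iv F6104)) (tt N2688 (iv D3652)))
theorem Q3654 : ∀ i, i < 3654 → P i := stepQ 3653 Q3653 (allL N3653 (tt N2691 F5948) (tt N3741 (iv F6099)) (tt N4409 (iv F7193)) (tt N4895 D4895) (tt N2690 (iv D3653)) (tt N4896 D4896))
theorem Q3655 : ∀ i, i < 3655 → P i := stepQ 3654 Q3654 (allL N3654 (tt N4895 (iv F7999)) (tt N2692 F5949) (tt N4897 D4897) (tt N2691 (iv D3654)) (tt N4794 (iv F7809)) (tt N3250 (iv F5950)))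
theorem Q3656 : ∀ i, i < 3656 → P i := stepQ 3655 Q3655 (allL N3655 (tt N4896 (iv F8001)) (tt N2693 F5951) (tt N4411 (iv F7197)) (tt N3250 F5952) (tt N4375 (iv F7146)) (tt N2691 (iv D3655)))
theorem Q3657 : ∀ i, i < 3657 → P i := stepQ 3656 Q3656 (allL N3656 (tt N2695 F5953) (tt N3231 F5954) (tt N2694 (iv D3656)) (tt N4898 D4898) (tt N4899 D4899) (tt N3255 F5955))
theorem Q3658 : ∀ i, i < 3658 → P i := stepQ 3657 Q3657 (allL N3657 (tt N2696 F5956) (tt N2700 F5957) (tt N4899 (iv F8011)) (tt N2845 F5958) (tt N2694 (iv D3657)) (tt N4900 D4900))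
theorem Q3659 : ∀ i, i < 3659 → P i := stepQ 3658 Q3658 (allL N3658 (tt N4898 (iv F8005)) (tt N4821 (iv F7873)) (tt N4384 (iv F7158)) (tt N2695 (iv D3658)) (tt N4901 D4901) (tt N4818 (iv F7865)))
theorem Q3660 : ∀ i, i < 3660 → P i := stepQ 3659 Q3659 (allL N3659 (tt N4899 (iv F8009)) (tt N4824 (iv F7877)) (tt N2696 F5959) (tt N4902 D4902) (tt N2695 (iv D3659)) (tt N4903 D4903))
theorem Q3661 : ∀ i, i < 3661 → P i := stepQ 3660 Q3660 (allL N3660 (tt N4900 (iv F8012)) (tt N2698 F5960) (tt N4903 (iv F8016)) (tt N2848 F5961) (tt N4829 (iv F7888)) (tt N2696 (iv D3660)))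
theorem Q3662 : ∀ i, i < 3662 → P i := stepQ 3661 Q3661 (allL N3661 (tt N3070 F5962) (tt N2699 F5963) (tt N4904 D4904) (tt N2697 (iv D3661)) (tt N4828 (iv F7885)) (tt N2787 F5964))
theorem Q3663 : ∀ i, i < 3663 → P i := stepQ 3662 Q3662 (allL N3662 (tt N2703 F5965) (tt N4900 (iv F8013)) (tt N3236 F5966) (tt N2879 F5967) (tt N3257 F5968) (tt N2700 (iv D3662)))
theorem Q3664 : ∀ i, i < 3664 → P i := stepQ 3663 Q3663 (allL N3663 (tt N2701 (iv D3663)) (tt N3229 F5969) (tt N2704 F5970) (tt N3220 F5971) (tt N4905 D4905) (tt N3258 F5972))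
theorem Q3665 : ∀ i, i < 3665 → P i := stepQ 3664 Q3664 (allL N3664 (tt N4905 (iv F8020)) (tt N2702 F5973) (tt N2705 F5974) (tt N4906 D4906) (tt N2701 (iv D3664)) (tt N4907 D4907))
theorem Q3666 : ∀ i, i < 3666 → P i := stepQ 3665 Q3665 (allL N3665 (tt N3235 F5975) (tt N4906 (iv F8023)) (tt N4908 D4908) (tt N2702 (iv D3665)) (tt N3223 F5976) (tt N4909 D4909))
theorem Q3667 : ∀ i, i < 3667 → P i := stepQ 3666 Q3666 (allL N3666 (tt N3236 F5977) (tt N4907 (iv F8025)) (tt N2703 F5978) (tt N4909 (iv F8031)) (tt N3261 F5979) (tt N2702 (iv D3666)))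
theorem Q3668 : ∀ i, i < 3668 → P i := stepQ 3667 Q3667 (allL N3667 (tt N2705 F5980) (tt N4816 (iv F7861)) (tt N4905 (iv F8022)) (tt N4910 D4910) (tt N2704 (iv D3667)) (tt N4911 D4911))
theorem Q3669 : ∀ i, i < 3669 → P i := stepQ 3668 Q3668 (allL N3668 (tt N4910 (iv F8032)) (tt N2706 F5981) (tt N4912 D4912) (tt N2705 (iv D3668)) (tt N4802 (iv F7830)) (tt N4913 D4913))
theorem Q3670 : ∀ i, i < 3670 → P i := stepQ 3669 Q3669 (allL N3669 (tt N4911 (iv F8033)) (tt N2707 F5982) (tt N4907 (iv F8026)) (tt N4913 (iv F8035)) (tt N4801 (iv F7828)) (tt N2705 (iv D3669)))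
theorem Q3671 : ∀ i, i < 3671 → P i := stepQ 3670 Q3670 (allL N3670 (tt N4831 (iv F7892)) (tt N4914 D4914) (tt N2706 (iv D3670)) (tt N3816 (iv F6228)) (tt N4803 (iv F7832)) (tt N3815 F6226))
theorem Q3672 : ∀ i, i < 3672 → P i := stepQ 3671 Q3671 (allL N3671 (tt N4830 (iv F7889)) (tt N4913 (iv F8034)) (tt N3815 (iv F6225)) (tt N2707 F5983) (tt N4915 D4915) (tt N2706 (iv D3671)))
theorem Q3673 : ∀ i, i < 3673 → P i := stepQ 3672 Q3672 (allL N3672 (tt N3915 (iv F6384)) (tt N3074 F5984) (tt N4916 D4916) (tt N2708 (iv D3672)) (tt N2823 F5985) (tt N2709 F5986))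
theorem Q3674 : ∀ i, i < 3674 → P i := stepQ 3673 Q3673 (allL N3673 (tt N2796 F5987) (tt N4917 D4917) (tt N2709 (iv D3673)) (tt N3788 (iv F6176)) (tt N2710 F5988) (tt N4916 (iv F8038)))
theorem Q3675 : ∀ i, i < 3675 → P i := stepQ 3674 Q3674 (allL N3674 (tt N4918 D4918) (tt N2710 (iv D3674)) (tt N3072 F5989) (tt N2785 F5990) (tt N4917 (iv F8040)) (tt N2821 F5991))
theorem Q3676 : ∀ i, i < 3676 → P i := stepQ 3675 Q3675 (allL N3675 (tt N4919 D4919) (tt N2712 (iv D3675)) (tt N2713 F5992) (tt N4812 (iv F7851)) (tt N4880 (iv F7979)) (tt N2722 F5993))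
theorem Q3677 : ∀ i, i < 3677 → P i := stepQ 3676 Q3676 (allL N3676 (tt N2713 (iv D3676)) (tt N2738 F5994) (tt N4919 (iv F8046)) (tt N2721 F5995) (tt N4882 (iv F7981)) (tt N2720 F5996))
theorem Q3678 : ∀ i, i < 3678 → P i := stepQ 3677 Q3677 (allL N3677 (tt N2718 F5997) (tt N2999 F5998) (tt N4920 D4920) (tt N2715 (iv D3677)) (tt N2996 F5999) (tt N4921 D4921))
theorem Q3679 : ∀ i, i < 3679 → P i := stepQ 3678 Q3678 (allL N3678 (tt N2719 F6000) (tt N3286 F6001) (tt N2716 F6002) (tt N4921 (iv F8053)) (tt N3728 (iv F6084)) (tt N2715 (iv D3678)))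
theorem Q3680 : ∀ i, i < 3680 → P i := stepQ 3679 Q3679 (allL N3679 (tt N2996 F6003) (tt N3045 F6004) (tt N4922 D4922) (tt N2717 (iv D3679)) (tt N2718 F6005) (tt N4923 D4923))
theorem Q3681 : ∀ i, i < 3681 → P i := stepQ 3680 Q3680 (allL N3680 (tt N2997 F6006) (tt N3046 F6007) (tt N3003 F6008) (tt N4923 (iv F8058)) (tt N3196 F6009) (tt N2717 (iv D3680)))
theorem Q3682 : ∀ i, i < 3682 → P i := stepQ 3681 Q3681 (allL N3681 (tt N4920 (iv F8049)) (tt N4924 D4924) (tt N2718 (iv D3681)) (tt N4925 D4925) (tt N4922 (iv F8055)) (tt N4926 D4926))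
theorem Q3683 : ∀ i, i < 3683 → P i := stepQ 3682 Q3682 (allL N3682 (tt N4921 (iv F8051)) (tt N3279 F6010) (tt N4926 (iv F8060)) (tt N2719 F6011) (tt N4927 D4927) (tt N2718 (iv D3682)))
theorem Q3684 : ∀ i, i < 3684 → P i := stepQ 3683 Q3683 (allL N3683 (tt N2722 F6012) (tt N4898 (iv F8006)) (tt N2720 (iv D3683)) (tt N3231 F6013) (tt N4928 D4928) (tt N4919 (iv F8048)))
theorem Q3685 : ∀ i, i < 3685 → P i := stepQ 3684 Q3684 (allL N3684 (tt N2723 F6014) (tt N3075 F6015) (tt N4928 (iv F8063)) (tt N3114 F6016) (tt N2720 (iv D3684)) (tt N4929 D4929))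
theorem Q3686 : ∀ i, i < 3686 → P i := stepQ 3685 Q3685 (allL N3685 (tt N2724 F6017) (tt N3023 F6018) (tt N3115 F6019) (tt N4930 D4930) (tt N2721 (iv D3685)) (tt N3115 F6020))
theorem Q3687 : ∀ i, i < 3687 → P i := stepQ 3686 Q3686 (allL N3686 (tt N3231 F6021) (tt N4814 (iv F7856)) (tt N3229 F6022) (tt N2722 (iv D3686)) (tt N4931 D4931) (tt N4812 F7852))
theorem Q3688 : ∀ i, i < 3688 → P i := stepQ 3687 Q3687 (allL N3687 (tt N4928 (iv F8062)) (tt N4879 (iv F7976)) (tt N2723 F6023) (tt N4932 D4932) (tt N2722 (iv D3687)) (tt N4933 D4933))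
theorem Q3689 : ∀ i, i < 3689 → P i := stepQ 3688 Q3688 (allL N3688 (tt N4929 (iv F8064)) (tt N2725 F6024) (tt N4933 (iv F8072)) (tt N3118 F6025) (tt N4870 (iv F7953)) (tt N2723 (iv D3688)))
theorem Q3690 : ∀ i, i < 3690 → P i := stepQ 3689 Q3689 (allL N3689 (tt N4930 (iv F8067)) (tt N2726 F6026) (tt N4934 D4934) (tt N2724 (iv D3689)) (tt N4883 (iv F7983)) (tt N3119 F6027))
theorem Q3691 : ∀ i, i < 3691 → P i := stepQ 3690 Q3690 (allL N3690 (tt N3053 (iv F6029)) (tt N2727 (iv D3690)) (tt N4818 (iv F7866)) (tt N3051 F6028) (tt N4935 D4935) (tt N4384 (iv F7159)))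
theorem Q3692 : ∀ i, i < 3692 → P i := stepQ 3691 Q3691 (allL N3691 (tt N2733 F6030) (tt N4935 (iv F8075)) (tt N2728 F6031) (tt N4936 D4936) (tt N2727 (iv D3691)) (tt N4937 D4937))
theorem Q3693 : ∀ i, i < 3693 → P i := stepQ 3692 Q3692 (allL N3692 (tt N2734 F6032) (tt N4384 (iv F7157)) (tt N2729 F6033) (tt N4158 (iv F6795)) (tt N4938 D4938) (tt N2727 (iv D3692)))
theorem Q3694 : ∀ i, i < 3694 → P i := stepQ 3693 Q3693 (allL N3693 (tt N2735 F6034) (tt N4856 (iv F7934)) (tt N4937 (iv F8078)) (tt N2748 F6035) (tt N4939 D4939) (tt N2728 (iv D3693)))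
theorem Q3695 : ∀ i, i < 3695 → P i := stepQ 3694 Q3694 (allL N3694 (tt N2736 F6036) (tt N4878 (iv F7975)) (tt N4938 (iv F8080)) (tt N4940 D4940) (tt N2729 (iv D3694)) (tt N4939 (iv F8082)))
theorem Q3696 : ∀ i, i < 3696 → P i := stepQ 3695 Q3695 (allL N3695 (tt N2737 F6037) (tt N4854 (iv F7930)) (tt N4941 D4941) (tt N2730 (iv D3695)) (tt N4940 (iv F8084)) (tt N2749 F6038))
theorem Q3697 : ∀ i, i < 3697 → P i := stepQ 3696 Q3696 (allL N3696 (tt N2731 (iv D3696)) (tt N3053 F6039) (tt N2738 F6040) (tt N2986 (iv F6042)) (tt N4942 D4942) (tt N2984 F6041))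
theorem Q3698 : ∀ i, i < 3698 → P i := stepQ 3697 Q3697 (allL N3697 (tt N2986 F6043) (tt N2732 F6044) (tt N2981 F6045) (tt N2731 (iv D3697)) (tt N4943 D4943) (tt N2979 F6046))
theorem Q3699 : ∀ i, i < 3699 → P i := stepQ 3698 Q3698 (allL N3698 (tt N4942 (iv F8087)) (tt N2733 F6047) (tt N2739 F6048) (tt N4944 D4944) (tt N2731 (iv D3698)) (tt N4945 D4945))
theorem Q3700 : ∀ i, i < 3700 → P i := stepQ 3699 Q3699 (allL N3699 (tt N4291 (iv F7023)) (tt N4943 (iv F8091)) (tt N4288 (iv F7019)) (tt N4946 D4946) (tt N2732 (iv D3699)) (tt N4947 D4947))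
theorem Q3701 : ∀ i, i < 3701 → P i := stepQ 3700 Q3700 (allL N3700 (tt N4158 (iv F6793)) (tt N2979 F6049) (tt N4155 (iv F6785)) (tt N2734 F6050) (tt N4948 D4948) (tt N2732 (iv D3700)))
theorem Q3702 : ∀ i, i < 3702 → P i := stepQ 3701 Q3701 (allL N3701 (tt N4936 (iv F8076)) (tt N4944 (iv F8093)) (tt N4949 D4949) (tt N2733 (iv D3701)) (tt N4946 (iv F8097)) (tt N4950 D4950))
theorem Q3703 : ∀ i, i < 3703 → P i := stepQ 3702 Q3702 (allL N3702 (tt N4937 (iv F8077)) (tt N4945 (iv F8094)) (tt N2735 F6051) (tt N4950 (iv F8099)) (tt N4951 D4951) (tt N2733 (iv D3702)))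
theorem Q3704 : ∀ i, i < 3704 → P i := stepQ 3703 Q3703 (allL N3703 (tt N4938 (iv F8079)) (tt N3076 F6052) (tt N2736 F6053) (tt N4952 D4952) (tt N2734 (iv D3703)) (tt N4951 (iv F8102)))
theorem Q3705 : ∀ i, i < 3705 → P i := stepQ 3704 Q3704 (allL N3704 (tt N4939 (iv F8081)) (tt N2742 F6054) (tt N4951 (iv F8101)) (tt N4791 (iv F7800)) (tt N2735 (iv D3704)) (tt N2736 F6055))
theorem Q3706 : ∀ i, i < 3706 → P i := stepQ 3705 Q3705 (allL N3705 (tt N4940 (iv F8083)) (tt N2743 F6056) (tt N4953 D4953) (tt N2736 (iv D3705)) (tt N2737 F6057) (tt N4791 (iv F7801)))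
theorem Q3707 : ∀ i, i < 3707 → P i := stepQ 3706 Q3706 (allL N3706 (tt N4941 (iv F8085)) (tt N4954 D4954) (tt N2737 (iv D3706)) (tt N4955 D4955) (tt N4953 (iv F8104)) (tt N2754 F6058))
theorem Q3708 : ∀ i, i < 3708 → P i := stepQ 3707 Q3707 (allL N3707 (tt N2739 F6059) (tt N4882 (iv F7980)) (tt N4942 (iv F8089)) (tt N4956 D4956) (tt N2738 (iv D3707)) (tt N4957 D4957))
theorem Q3709 : ∀ i, i < 3709 → P i := stepQ 3708 Q3708 (allL N3708 (tt N4956 (iv F8108)) (tt N2740 F6060) (tt N4958 D4958) (tt N2739 (iv D3708)) (tt N3024 F6061) (tt N4886 (iv F7988)))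
theorem Q3710 : ∀ i, i < 3710 → P i := stepQ 3709 Q3709 (allL N3709 (tt N4957 (iv F8110)) (tt N2741 F6062) (tt N4945 (iv F8095)) (tt N4886 (iv F7986)) (tt N3077 F6063) (tt N2739 (iv D3709)))
theorem Q3711 : ∀ i, i < 3711 → P i := stepQ 3710 Q3710 (allL N3710 (tt N4959 D4959) (tt N2744 (iv D3710)) (tt N4954 (iv F8105)) (tt N4206 (iv F6890)) (tt N4848 (iv F7920)) (tt N2755 F6064))
theorem Q3712 : ∀ i, i < 3712 → P i := stepQ 3711 Q3711 (allL N3711 (tt N2919 F6065) (tt N2746 F6066) (tt N4178 (iv F6839)) (tt N2745 (iv D3711)) (tt N4960 D4960) (tt N4270 (iv F6988)))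
theorem Q3713 : ∀ i, i < 3713 → P i := stepQ 3712 Q3712 (allL N3712 (tt N4761 (iv F7743)) (tt N2747 F6067) (tt N4800 (iv F7825)) (tt N4961 D4961) (tt N2745 (iv D3712)) (tt N4962 D4962))
theorem Q3714 : ∀ i, i < 3714 → P i := stepQ 3713 Q3713 (allL N3713 (tt N2751 F6068) (tt N4960 (iv F8115)) (tt N4175 (iv F6833)) (tt N4963 D4963) (tt N2746 (iv D3713)) (tt N4964 D4964))
theorem Q3715 : ∀ i, i < 3715 → P i := stepQ 3714 Q3714 (allL N3714 (tt N2752 F6069) (tt N4961 (iv F8116)) (tt N4965 D4965) (tt N2747 (iv D3714)) (tt N4963 (iv F8119)) (tt N4966 D4966))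
theorem Q3716 : ∀ i, i < 3716 → P i := stepQ 3715 Q3715 (allL N3715 (tt N2753 F6070) (tt N4962 (iv F8117)) (tt N2748 F6071) (tt N4966 (iv F8123)) (tt N4765 (iv F7754)) (tt N2747 (iv D3715)))
theorem Q3717 : ∀ i, i < 3717 → P i := stepQ 3716 Q3716 (allL N3716 (tt N2754 F6072) (tt N4967 D4967) (tt N2749 (iv D3716)) (tt N4968 D4968) (tt N4786 (iv F7790)) (tt N4941 (iv F8086)))
theorem Q3718 : ∀ i, i < 3718 → P i := stepQ 3717 Q3717 (allL N3717 (tt N4169 (iv F6820)) (tt N2750 (iv D3717)) (tt N2905 F6073) (tt N4168 F6819) (tt N4969 D4969) (tt N4265 (iv F6978)))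
theorem Q3719 : ∀ i, i < 3719 → P i := stepQ 3718 Q3718 (allL N3718 (tt N4175 (iv F6831)) (tt N4969 (iv F8125)) (tt N2751 F6074) (tt N4970 D4970) (tt N2750 (iv D3718)) (tt N4971 D4971))
theorem Q3720 : ∀ i, i < 3720 → P i := stepQ 3719 Q3719 (allL N3719 (tt N4963 (iv F8118)) (tt N4777 (iv F7777)) (tt N4972 D4972) (tt N2751 (iv D3719)) (tt N2752 F6075) (tt N4973 D4973))
theorem Q3721 : ∀ i, i < 3721 → P i := stepQ 3720 Q3720 (allL N3720 (tt N4964 (iv F8120)) (tt N4776 (iv F7773)) (tt N4971 (iv F8127)) (tt N4973 (iv F8129)) (tt N4772 (iv F7764)) (tt N2751 (iv D3720)))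
theorem Q3722 : ∀ i, i < 3722 → P i := stepQ 3721 Q3721 (allL N3721 (tt N4965 (iv F8121)) (tt N4974 D4974) (tt N2752 (iv D3721)) (tt N4975 D4975) (tt N4972 (iv F8128)) (tt N4976 D4976))
theorem Q3723 : ∀ i, i < 3723 → P i := stepQ 3722 Q3722 (allL N3722 (tt N4966 (iv F8122)) (tt N4771 (iv F7761)) (tt N4976 (iv F8130)) (tt N2753 F6076) (tt N4977 D4977) (tt N2752 (iv D3722)))
theorem Q3724 : ∀ i, i < 3724 → P i := stepQ 3723 Q3723 (allL N3723 (tt N4978 D4978) (tt N2754 (iv D3723)) (tt N2755 F6077) (tt N4979 D4979) (tt N4788 (iv F7795)) (tt N4954 (iv F8106)))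
theorem Q3725 : ∀ i, i < 3725 → P i := stepQ 3724 Q3724 (allL N3724 (tt N4968 (iv F8124)) (tt N4979 (iv F8132)) (tt N4980 D4980) (tt N2754 (iv D3724)) (tt N4981 D4981) (tt N4955 (iv F8107)))
theorem Q3726 : ∀ i, i < 3726 → P i := stepQ 3725 Q3725 (allL N3725 (tt N2755 (iv D3725)) (tt N4869 (iv F7951)) (tt N4978 (iv F8131)) (tt N4982 D4982) (tt N4792 (iv F7804)) (tt N4959 (iv F8113)))
theorem Q3727 : ∀ i, i < 3727 → P i := stepQ 3726 Q3726 (allL N3726 (tt N4982 (iv F8133)) (tt N2756 F6078) (tt N4983 D4983) (tt N2755 (iv D3726)) (tt N4849 (iv F7922)) (tt N4206 (iv F6892)))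
theorem Q3728 : ∀ i, i < 3728 → P i := stepQ 3727 Q3727 (allL N3727 (tt N2758 F6079) (tt N3300 F6080) (tt N4984 D4984) (tt N2757 (iv D3727)) (tt N4191 (iv F6861)) (tt N4985 D4985))
theorem Q3729 : ∀ i, i < 3729 → P i := stepQ 3728 Q3728 (allL N3728 (tt N2759 F6081) (tt N3301 F6082) (tt N2763 F6083) (tt N4985 (iv F8138)) (tt N3678 F6084) (tt N2757 (iv D3728)))
theorem Q3730 : ∀ i, i < 3730 → P i := stepQ 3729 Q3729 (allL N3729 (tt N4984 (iv F8135)) (tt N4986 D4986) (tt N2758 (iv D3729)) (tt N4987 D4987) (tt N4305 (iv F7044)) (tt N4988 D4988))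
theorem Q3731 : ∀ i, i < 3731 → P i := stepQ 3730 Q3730 (allL N3730 (tt N4985 (iv F8136)) (tt N2761 F6085) (tt N4988 (iv F8140)) (tt N2759 F6086) (tt N4989 D4989) (tt N2758 (iv D3730)))
theorem Q3732 : ∀ i, i < 3732 → P i := stepQ 3731 Q3731 (allL N3731 (tt N4990 D4990) (tt N2760 (iv D3731)) (tt N4986 (iv F8139)) (tt N4991 D4991) (tt N4307 (iv F7047)) (tt N4992 D4992))
theorem Q3733 : ∀ i, i < 3733 → P i := stepQ 3732 Q3732 (allL N3732 (tt N4316 (iv F7060)) (tt N4991 (iv F8143)) (tt N4340 (iv F7098)) (tt N2760 (iv D3732)) (tt N4993 D4993) (tt N4339 F7096))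
theorem Q3734 : ∀ i, i < 3734 → P i := stepQ 3733 Q3733 (allL N3733 (tt N4317 (iv F7063)) (tt N4992 (iv F8144)) (tt N2761 F6087) (tt N4339 (iv F7095)) (tt N4994 D4994) (tt N2760 (iv D3733)))
theorem Q3735 : ∀ i, i < 3735 → P i := stepQ 3734 Q3734 (allL N3734 (tt N4318 (iv F7066)) (tt N4989 (iv F8141)) (tt N4994 (iv F8145)) (tt N4408 (iv F7192)) (tt N2761 (iv D3734)) (tt N4308 (iv F7049)))
theorem Q3736 : ∀ i, i < 3736 → P i := stepQ 3735 Q3735 (allL N3735 (tt N2764 F6088) (tt N4995 D4995) (tt N2762 (iv D3735)) (tt N4996 D4996) (tt N3274 F6089) (tt N4997 D4997))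
theorem Q3737 : ∀ i, i < 3737 → P i := stepQ 3736 Q3736 (allL N3736 (tt N2765 F6090) (tt N3276 F6091) (tt N4997 (iv F8150)) (tt N2763 F6092) (tt N4998 D4998) (tt N2762 (iv D3736)))
theorem Q3738 : ∀ i, i < 3738 → P i := stepQ 3737 Q3737 (allL N3737 (tt N4999 D4999) (tt N2764 (iv D3737)) (tt N2766 F6093) (tt N5000 D5000) (tt N3568 F6094) (tt N5001 D5001))
theorem Q3739 : ∀ i, i < 3739 → P i := stepQ 3738 Q3738 (allL N3738 (tt N4996 (iv F8148)) (tt N5000 (iv F8157)) (tt N5002 D5002) (tt N2764 (iv D3738)) (tt N5003 D5003) (tt N5004 D5004))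
theorem Q3740 : ∀ i, i < 3740 → P i := stepQ 3739 Q3739 (allL N3739 (tt N4997 (iv F8149)) (tt N5001 (iv F8158)) (tt N2765 F6095) (tt N5004 (iv F8162)) (tt N5005 D5005) (tt N2764 (iv D3739)))
theorem Q3741 : ∀ i, i < 3741 → P i := stepQ 3740 Q3740 (allL N3740 (tt N4998 (iv F8151)) (tt N2769 F6096) (tt N5005 (iv F8164)) (tt N3140 F6097) (tt N2765 (iv D3740)) (tt N3139 F6098))
theorem Q3742 : ∀ i, i < 3742 → P i := stepQ 3741 Q3741 (allL N3741 (tt N2766 (iv D3741)) (tt N3653 F6099) (tt N4999 (iv F8155)) (tt N5006 D5006) (tt N3570 F6100) (tt N5007 D5007))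
theorem Q3743 : ∀ i, i < 3743 → P i := stepQ 3742 Q3742 (allL N3742 (tt N5006 (iv F8166)) (tt N2767 F6101) (tt N5008 D5008) (tt N2766 (iv D3742)) (tt N3646 F6102) (tt N4234 (iv F6946)))
theorem Q3744 : ∀ i, i < 3744 → P i := stepQ 3743 Q3743 (allL N3743 (tt N5007 (iv F8169)) (tt N2768 F6103) (tt N5001 (iv F8159)) (tt N4234 (iv F6944)) (tt N3652 F6104) (tt N2766 (iv D3743)))
theorem Q3745 : ∀ i, i < 3745 → P i := stepQ 3744 Q3744 (allL N3744 (tt N5009 D5009) (tt N2770 (iv D3744)) (tt N2785 F6105) (tt N5010 D5010) (tt N3781 (iv F6163)) (tt N5011 D5011))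
theorem Q3746 : ∀ i, i < 3746 → P i := stepQ 3745 Q3745 (allL N3745 (tt N2775 F6106) (tt N5010 (iv F8176)) (tt N4635 (iv F7557)) (tt N2770 (iv D3745)) (tt N5012 D5012) (tt N4633 F7554))
theorem Q3747 : ∀ i, i < 3747 → P i := stepQ 3746 Q3746 (allL N3746 (tt N2776 F6107) (tt N5011 (iv F8178)) (tt N2771 F6108) (tt N4633 (iv F7553)) (tt N5013 D5013) (tt N2770 (iv D3746)))
theorem Q3748 : ∀ i, i < 3748 → P i := stepQ 3747 Q3747 (allL N3747 (tt N2777 F6109) (tt N2783 F6110) (tt N5013 (iv F8182)) (tt N2777 F6111) (tt N2771 (iv D3747)) (tt N3784 (iv F6170)))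
theorem Q3749 : ∀ i, i < 3749 → P i := stepQ 3748 Q3748 (allL N3748 (tt N5014 D5014) (tt N2772 (iv D3748)) (tt N2778 F6112) (tt N5015 D5015) (tt N2774 F6113) (tt N5016 D5016))
theorem Q3750 : ∀ i, i < 3750 → P i := stepQ 3749 Q3749 (allL N3749 (tt N3782 (iv F6164)) (tt N5015 (iv F8185)) (tt N5017 D5017) (tt N2772 (iv D3749)) (tt N5018 D5018) (tt N5017 F8190))
theorem Q3751 : ∀ i, i < 3751 → P i := stepQ 3750 Q3750 (allL N3750 (tt N3783 (iv F6165)) (tt N5016 (iv F8186)) (tt N2773 F6114) (tt N5017 (iv F8189)) (tt N5019 D5019) (tt N2772 (iv D3750)))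
theorem Q3752 : ∀ i, i < 3752 → P i := stepQ 3751 Q3751 (allL N3751 (tt N3784 (iv F6167)) (tt N2781 F6115) (tt N5019 (iv F8193)) (tt N3784 (iv F6169)) (tt N2773 (iv D3751)) (tt N2777 F6116))
theorem Q3753 : ∀ i, i < 3753 → P i := stepQ 3752 Q3752 (allL N3752 (tt N2774 (iv D3752)) (tt N5009 (iv F8173)) (tt N2782 F6117) (tt N4891 (iv F7996)) (tt N5014 (iv F8184)) (tt N2869 F6118))
theorem Q3754 : ∀ i, i < 3754 → P i := stepQ 3753 Q3753 (allL N3753 (tt N4891 (iv F7995)) (tt N2775 F6119) (tt N4888 (iv F7990)) (tt N2774 (iv D3753)) (tt N5020 D5020) (tt N2872 F6120))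
theorem Q3755 : ∀ i, i < 3755 → P i := stepQ 3754 Q3754 (allL N3754 (tt N4635 (iv F7555)) (tt N5021 D5021) (tt N2775 (iv D3754)) (tt N4625 (iv F7536)) (tt N5022 D5022) (tt N4624 F7533))
theorem Q3756 : ∀ i, i < 3756 → P i := stepQ 3755 Q3755 (allL N3755 (tt N5012 (iv F8180)) (tt N5020 (iv F8195)) (tt N5022 (iv F8196)) (tt N5018 (iv F8191)) (tt N2775 (iv D3755)) (tt N5023 D5023))
theorem Q3757 : ∀ i, i < 3757 → P i := stepQ 3756 Q3756 (allL N3756 (tt N4633 (iv F7552)) (tt N2872 F6121) (tt N4624 (iv F7532)) (tt N2776 F6122) (tt N5024 D5024) (tt N2775 (iv D3756)))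
theorem Q3758 : ∀ i, i < 3758 → P i := stepQ 3757 Q3757 (allL N3757 (tt N5013 (iv F8181)) (tt N2873 F6123) (tt N2777 F6124) (tt N5025 D5025) (tt N2776 (iv D3757)) (tt N5019 (iv F8194)))
theorem Q3759 : ∀ i, i < 3759 → P i := stepQ 3758 Q3758 (allL N3758 (tt N2778 (iv D3758)) (tt N2804 F6125) (tt N5014 (iv F8183)) (tt N5026 D5026) (tt N2782 F6126) (tt N5027 D5027))
theorem Q3760 : ∀ i, i < 3760 → P i := stepQ 3759 Q3759 (allL N3759 (tt N5026 (iv F8199)) (tt N2779 F6127) (tt N5028 D5028) (tt N2778 (iv D3759)) (tt N2875 F6128) (tt N5029 D5029))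
theorem Q3761 : ∀ i, i < 3761 → P i := stepQ 3760 Q3760 (allL N3760 (tt N5027 (iv F8202)) (tt N2780 F6129) (tt N5016 (iv F8187)) (tt N5029 (iv F8207)) (tt N2874 F6130) (tt N2778 (iv D3760)))
theorem Q3762 : ∀ i, i < 3762 → P i := stepQ 3761 Q3761 (allL N3761 (tt N2807 F6131) (tt N5030 D5030) (tt N2779 (iv D3761)) (tt N2802 F6132) (tt N2876 F6133) (tt N2801 (iv F6134)))
theorem Q3763 : ∀ i, i < 3763 → P i := stepQ 3762 Q3762 (allL N3762 (tt N2809 F6135) (tt N5029 (iv F8206)) (tt N2801 F6136) (tt N2780 F6137) (tt N5031 D5031) (tt N2779 (iv D3762)))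
theorem Q3764 : ∀ i, i < 3764 → P i := stepQ 3763 Q3763 (allL N3763 (tt N2797 F6138) (tt N5032 D5032) (tt N2783 (iv D3763)) (tt N5033 D5033) (tt N2784 F6139) (tt N3789 (iv F6179)))
theorem Q3765 : ∀ i, i < 3765 → P i := stepQ 3764 Q3764 (allL N3764 (tt N5034 D5034) (tt N2784 (iv D3764)) (tt N5011 (iv F8179)) (tt N2821 F6140) (tt N5032 (iv F8215)) (tt N2785 F6141))
theorem Q3766 : ∀ i, i < 3766 → P i := stepQ 3765 Q3765 (allL N3765 (tt N2785 (iv D3765)) (tt N2793 F6142) (tt N5009 (iv F8174)) (tt N4918 (iv F8043)) (tt N3785 (iv F6172)) (tt N5034 (iv F8222)))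
theorem Q3767 : ∀ i, i < 3767 → P i := stepQ 3766 Q3766 (allL N3766 (tt N2787 F6143) (tt N2818 F6144) (tt N5035 D5035) (tt N2786 (iv D3766)) (tt N3908 (iv F6371)) (tt N3070 F6145))
theorem Q3768 : ∀ i, i < 3768 → P i := stepQ 3767 Q3767 (allL N3767 (tt N5035 (iv F8223)) (tt N5036 D5036) (tt N2787 (iv D3767)) (tt N5037 D5037) (tt N3910 (iv F6375)) (tt N4904 (iv F8019)))
theorem Q3769 : ∀ i, i < 3769 → P i := stepQ 3768 Q3768 (allL N3768 (tt N5038 D5038) (tt N2788 (iv D3768)) (tt N5036 (iv F8226)) (tt N2795 F6146) (tt N3912 (iv F6378)) (tt N2794 F6147))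
theorem Q3770 : ∀ i, i < 3770 → P i := stepQ 3769 Q3769 (allL N3769 (tt N2789 (iv D3769)) (tt N3785 (iv F6171)) (tt N2804 F6148) (tt N5039 D5039) (tt N2793 F6149) (tt N5040 D5040))
theorem Q3771 : ∀ i, i < 3771 → P i := stepQ 3770 Q3770 (allL N3770 (tt N5039 (iv F8231)) (tt N2790 F6150) (tt N5041 D5041) (tt N2789 (iv D3770)) (tt N5042 D5042) (tt N3796 (iv F6189)))
theorem Q3772 : ∀ i, i < 3772 → P i := stepQ 3771 Q3771 (allL N3771 (tt N5040 (iv F8232)) (tt N2791 F6151) (tt N2806 F6152) (tt N3796 (iv F6188)) (tt N5043 D5043) (tt N2789 (iv D3771)))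
theorem Q3773 : ∀ i, i < 3773 → P i := stepQ 3772 Q3772 (allL N3772 (tt N3788 (iv F6175)) (tt N5042 (iv F8234)) (tt N3799 (iv F6194)) (tt N2796 F6153) (tt N2790 (iv D3772)) (tt N5044 D5044))
theorem Q3774 : ∀ i, i < 3774 → P i := stepQ 3773 Q3773 (allL N3773 (tt N3789 (iv F6177)) (tt N5043 (iv F8236)) (tt N2792 F6154) (tt N5045 D5045) (tt N2791 (iv D3773)) (tt N2797 F6155))
theorem Q3775 : ∀ i, i < 3775 → P i := stepQ 3774 Q3774 (allL N3774 (tt N2794 F6156) (tt N4918 (iv F8041)) (tt N5046 D5046) (tt N2793 (iv D3774)) (tt N5047 D5047) (tt N5038 (iv F8230)))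
theorem Q3776 : ∀ i, i < 3776 → P i := stepQ 3775 Q3775 (allL N3775 (tt N2795 F6157) (tt N5034 (iv F8219)) (tt N2812 F6158) (tt N5038 (iv F8229)) (tt N5048 D5048) (tt N2793 (iv D3775)))
theorem Q3777 : ∀ i, i < 3777 → P i := stepQ 3776 Q3776 (allL N3776 (tt N5046 (iv F8244)) (tt N4904 (iv F8018)) (tt N2794 (iv D3776)) (tt N5049 D5049) (tt N5050 D5050) (tt N5036 (iv F8227)))
theorem Q3778 : ∀ i, i < 3778 → P i := stepQ 3777 Q3777 (allL N3777 (tt N5047 (iv F8246)) (tt N2796 F6159) (tt N5050 (iv F8251)) (tt N5042 (iv F8235)) (tt N2794 (iv D3777)) (tt N5051 D5051))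
theorem Q3779 : ∀ i, i < 3779 → P i := stepQ 3778 Q3778 (allL N3778 (tt N5048 (iv F8247)) (tt N2797 F6160) (tt N2815 F6161) (tt N5052 D5052) (tt N2795 (iv D3778)) (tt N5043 (iv F8238)))
theorem Q3780 : ∀ i, i < 3780 → P i := stepQ 3779 Q3779 (allL N3779 (tt N4916 (iv F8036)) (tt N5051 (iv F8252)) (tt N3915 (iv F6385)) (tt N5044 (iv F8239)) (tt N3914 (iv F6383)) (tt N2796 (iv D3779)))
theorem Q3781 : ∀ i, i < 3781 → P i := stepQ 3780 Q3780 (allL N3780 (tt N5033 (iv F8216)) (tt N5052 (iv F8253)) (tt N5053 D5053) (tt N2797 (iv D3780)) (tt N3913 (iv F6380)) (tt N5045 (iv F8242)))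
theorem Q3782 : ∀ i, i < 3782 → P i := stepQ 3781 Q3781 (allL N3781 (tt N5054 D5054) (tt N2798 (iv D3781)) (tt N2800 F6162) (tt N5055 D5055) (tt N3744 F6163) (tt N5056 D5056))
theorem Q3783 : ∀ i, i < 3783 → P i := stepQ 3782 Q3782 (allL N3782 (tt N3749 F6164) (tt N5055 (iv F8261)) (tt N5057 D5057) (tt N2798 (iv D3782)) (tt N5058 D5058) (tt N5057 F8266))
theorem Q3784 : ∀ i, i < 3784 → P i := stepQ 3783 Q3783 (allL N3783 (tt N3750 F6165) (tt N5056 (iv F8262)) (tt N2799 F6166) (tt N5057 (iv F8265)) (tt N5059 D5059) (tt N2798 (iv D3783)))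
theorem Q3785 : ∀ i, i < 3785 → P i := stepQ 3784 Q3784 (allL N3784 (tt N3751 F6167) (tt N2803 F6168) (tt N5059 (iv F8270)) (tt N3751 F6169) (tt N2799 (iv D3784)) (tt N3747 F6170))
theorem Q3786 : ∀ i, i < 3786 → P i := stepQ 3785 Q3785 (allL N3785 (tt N2800 (iv D3785)) (tt N3769 F6171) (tt N5054 (iv F8259)) (tt N5060 D5060) (tt N3765 F6172) (tt N5061 D5061))
theorem Q3787 : ∀ i, i < 3787 → P i := stepQ 3786 Q3786 (allL N3786 (tt N5060 (iv F8272)) (tt N2801 F6173) (tt N5062 D5062) (tt N2800 (iv D3786)) (tt N5063 D5063) (tt N5030 (iv F8210)))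
theorem Q3788 : ∀ i, i < 3788 → P i := stepQ 3787 Q3787 (allL N3787 (tt N5061 (iv F8274)) (tt N2802 F6174) (tt N5056 (iv F8263)) (tt N5030 (iv F8208)) (tt N5064 D5064) (tt N2800 (iv D3787)))
theorem Q3789 : ∀ i, i < 3789 → P i := stepQ 3788 Q3788 (allL N3788 (tt N3772 F6175) (tt N5063 (iv F8276)) (tt N5031 (iv F8212)) (tt N3673 F6176) (tt N2801 (iv D3788)) (tt N5065 D5065))
theorem Q3790 : ∀ i, i < 3790 → P i := stepQ 3789 Q3789 (allL N3789 (tt N3773 F6177) (tt N5064 (iv F8278)) (tt N2803 F6178) (tt N5066 D5066) (tt N2802 (iv D3789)) (tt N3763 F6179))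
theorem Q3791 : ∀ i, i < 3791 → P i := stepQ 3790 Q3790 (allL N3790 (tt N2805 F6180) (tt N5026 (iv F8200)) (tt N5067 D5067) (tt N2804 (iv D3790)) (tt N5068 D5068) (tt N5069 D5069))
theorem Q3792 : ∀ i, i < 3792 → P i := stepQ 3791 Q3791 (allL N3791 (tt N2806 F6181) (tt N5027 (iv F8203)) (tt N5040 (iv F8233)) (tt N5069 (iv F8292)) (tt N5070 D5070) (tt N2804 (iv D3791)))
theorem Q3793 : ∀ i, i < 3793 → P i := stepQ 3792 Q3792 (allL N3792 (tt N5067 (iv F8287)) (tt N5071 D5071) (tt N2805 (iv D3792)) (tt N5072 D5072) (tt N5073 D5073) (tt N5074 D5074))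
theorem Q3794 : ∀ i, i < 3794 → P i := stepQ 3793 Q3793 (allL N3793 (tt N5068 (iv F8288)) (tt N2808 F6182) (tt N5073 (iv F8298)) (tt N2814 F6183) (tt N2805 (iv D3793)) (tt N5075 D5075))
theorem Q3795 : ∀ i, i < 3795 → P i := stepQ 3794 Q3794 (allL N3794 (tt N5069 (iv F8291)) (tt N2809 F6184) (tt N5074 (iv F8300)) (tt N2806 F6185) (tt N5076 D5076) (tt N2805 (iv D3794)))
theorem Q3796 : ∀ i, i < 3796 → P i := stepQ 3795 Q3795 (allL N3795 (tt N5070 (iv F8293)) (tt N2810 F6186) (tt N5043 (iv F8237)) (tt N5077 D5077) (tt N2806 (iv D3795)) (tt N2815 F6187))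
theorem Q3797 : ∀ i, i < 3797 → P i := stepQ 3796 Q3796 (allL N3796 (tt N5078 D5078) (tt N2807 (iv D3796)) (tt N5071 (iv F8296)) (tt N3771 F6188) (tt N5079 D5079) (tt N3770 F6189))
theorem Q3798 : ∀ i, i < 3798 → P i := stepQ 3797 Q3797 (allL N3797 (tt N2876 F6190) (tt N5079 (iv F8308)) (tt N2808 F6191) (tt N4811 (iv F7847)) (tt N2807 (iv D3797)) (tt N4833 (iv F7898)))
theorem Q3799 : ∀ i, i < 3799 → P i := stepQ 3798 Q3798 (allL N3798 (tt N2868 F6192) (tt N5075 (iv F8301)) (tt N4833 (iv F7897)) (tt N2816 F6193) (tt N5080 D5080) (tt N2808 (iv D3798)))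
theorem Q3800 : ∀ i, i < 3800 → P i := stepQ 3799 Q3799 (allL N3799 (tt N5031 (iv F8211)) (tt N5076 (iv F8303)) (tt N3772 F6194) (tt N5081 D5081) (tt N2809 (iv D3799)) (tt N5080 (iv F8312)))
theorem Q3801 : ∀ i, i < 3801 → P i := stepQ 3800 Q3800 (allL N3800 (tt N2866 F6195) (tt N5077 (iv F8304)) (tt N5082 D5082) (tt N2810 (iv D3800)) (tt N5081 (iv F8315)) (tt N2817 F6196))
theorem Q3802 : ∀ i, i < 3802 → P i := stepQ 3801 Q3801 (allL N3801 (tt N2813 F6197) (tt N4781 (iv F7782)) (tt N2811 (iv D3801)) (tt N5083 D5083) (tt N5084 D5084) (tt N2833 F6198))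
theorem Q3803 : ∀ i, i < 3803 → P i := stepQ 3802 Q3802 (allL N3802 (tt N2814 F6199) (tt N2871 F6200) (tt N5084 (iv F8324)) (tt N5068 (iv F8290)) (tt N2811 (iv D3802)) (tt N5085 D5085))
theorem Q3804 : ∀ i, i < 3804 → P i := stepQ 3803 Q3803 (allL N3803 (tt N2815 F6201) (tt N2870 F6202) (tt N5048 (iv F8248)) (tt N5086 D5086) (tt N2812 (iv D3803)) (tt N5070 (iv F8295)))
theorem Q3805 : ∀ i, i < 3805 → P i := stepQ 3804 Q3804 (allL N3804 (tt N5083 (iv F8321)) (tt N2837 F6203) (tt N5087 D5087) (tt N2813 (iv D3804)) (tt N5088 D5088) (tt N2834 F6204))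
theorem Q3806 : ∀ i, i < 3806 → P i := stepQ 3805 Q3805 (allL N3805 (tt N5084 (iv F8323)) (tt N2838 F6205) (tt N2814 F6206) (tt N5089 D5089) (tt N2813 (iv D3805)) (tt N5090 D5090))
theorem Q3807 : ∀ i, i < 3807 → P i := stepQ 3806 Q3806 (allL N3806 (tt N5085 (iv F8325)) (tt N2816 F6207) (tt N5090 (iv F8336)) (tt N5075 (iv F8302)) (tt N2841 F6208) (tt N2814 (iv D3806)))
theorem Q3808 : ∀ i, i < 3808 → P i := stepQ 3807 Q3807 (allL N3807 (tt N5086 (iv F8328)) (tt N2817 F6209) (tt N5091 D5091) (tt N2815 (iv D3807)) (tt N2840 F6210) (tt N5077 (iv F8305)))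
theorem Q3809 : ∀ i, i < 3809 → P i := stepQ 3808 Q3808 (allL N3808 (tt N2865 F6211) (tt N5092 D5092) (tt N2817 (iv D3808)) (tt N5093 D5093) (tt N2842 F6212) (tt N5082 (iv F8320)))
theorem Q3810 : ∀ i, i < 3810 → P i := stepQ 3809 Q3809 (allL N3809 (tt N2820 F6213) (tt N3908 (iv F6370)) (tt N3041 F6214) (tt N2825 F6215) (tt N2818 (iv D3809)) (tt N5094 D5094))
theorem Q3811 : ∀ i, i < 3811 → P i := stepQ 3810 Q3810 (allL N3810 (tt N5095 D5095) (tt N2819 (iv D3810)) (tt N2821 F6216) (tt N3035 F6217) (tt N5096 D5096) (tt N3072 F6218))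
theorem Q3812 : ∀ i, i < 3812 → P i := stepQ 3811 Q3811 (allL N3811 (tt N3041 F6219) (tt N5096 (iv F8352)) (tt N2820 F6220) (tt N5097 D5097) (tt N2819 (iv D3811)) (tt N5098 D5098))
theorem Q3813 : ∀ i, i < 3813 → P i := stepQ 3812 Q3812 (allL N3812 (tt N5094 (iv F8344)) (tt N2823 F6221) (tt N5098 (iv F8357)) (tt N2828 F6222) (tt N3074 F6223) (tt N2820 (iv D3812)))
theorem Q3814 : ∀ i, i < 3814 → P i := stepQ 3813 Q3813 (allL N3813 (tt N2821 (iv D3813)) (tt N5038 (iv F8228)) (tt N5095 (iv F8349)) (tt N5034 (iv F8221)) (tt N5099 D5099) (tt N4918 (iv F8044)))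
theorem Q3815 : ∀ i, i < 3815 → P i := stepQ 3814 Q3814 (allL N3814 (tt N5099 (iv F8359)) (tt N2822 F6224) (tt N5096 (iv F8353)) (tt N5100 D5100) (tt N2821 (iv D3814)) (tt N5101 D5101))
theorem Q3816 : ∀ i, i < 3816 → P i := stepQ 3815 Q3815 (allL N3815 (tt N3913 (iv F6379)) (tt N5100 (iv F8360)) (tt N3671 F6225) (tt N2822 (iv D3815)) (tt N5033 (iv F8217)) (tt N3670 (iv F6226)))
theorem Q3817 : ∀ i, i < 3817 → P i := stepQ 3816 Q3816 (allL N3816 (tt N3914 (iv F6381)) (tt N5101 (iv F8362)) (tt N2823 F6227) (tt N3670 F6228) (tt N4916 (iv F8037)) (tt N2822 (iv D3816)))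
theorem Q3818 : ∀ i, i < 3818 → P i := stepQ 3817 Q3817 (allL N3817 (tt N3843 (iv F6269)) (tt N2824 (iv D3817)) (tt N3894 (iv F6341)) (tt N2895 F6229) (tt N5102 D5102) (tt N2877 F6230))
theorem Q3819 : ∀ i, i < 3819 → P i := stepQ 3818 Q3818 (allL N3818 (tt N2827 F6231) (tt N5102 (iv F8364)) (tt N2825 F6232) (tt N5103 D5103) (tt N2824 (iv D3818)) (tt N5104 D5104))
theorem Q3820 : ∀ i, i < 3820 → P i := stepQ 3819 Q3819 (allL N3819 (tt N2828 F6233) (tt N3909 (iv F6373)) (tt N5104 (iv F8368)) (tt N5094 (iv F8346)) (tt N2879 F6234) (tt N2825 (iv D3819)))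
theorem Q3821 : ∀ i, i < 3821 → P i := stepQ 3820 Q3820 (allL N3820 (tt N2896 F6235) (tt N3848 (iv F6276)) (tt N2893 F6236) (tt N5105 D5105) (tt N2826 (iv D3820)) (tt N5106 D5106))
theorem Q3822 : ∀ i, i < 3822 → P i := stepQ 3821 Q3821 (allL N3821 (tt N5103 (iv F8365)) (tt N3849 (iv F6277)) (tt N5107 D5107) (tt N2827 (iv D3821)) (tt N5105 (iv F8371)) (tt N5108 D5108))
theorem Q3823 : ∀ i, i < 3823 → P i := stepQ 3822 Q3822 (allL N3822 (tt N5104 (iv F8367)) (tt N3850 (iv F6278)) (tt N2828 F6237) (tt N5108 (iv F8375)) (tt N2885 F6238) (tt N2827 (iv D3822)))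
theorem Q3824 : ∀ i, i < 3824 → P i := stepQ 3823 Q3823 (allL N3823 (tt N2829 (iv D3823)) (tt N3601 F6239) (tt N2839 F6240) (tt N5109 D5109) (tt N2833 F6241) (tt N5110 D5110))
theorem Q3825 : ∀ i, i < 3825 → P i := stepQ 3824 Q3824 (allL N3824 (tt N5109 (iv F8376)) (tt N2830 F6242) (tt N5111 D5111) (tt N2829 (iv D3824)) (tt N5112 D5112) (tt N5113 D5113))
theorem Q3826 : ∀ i, i < 3826 → P i := stepQ 3825 Q3825 (allL N3825 (tt N5110 (iv F8378)) (tt N2831 F6243) (tt N2841 F6244) (tt N5113 (iv F8384)) (tt N5090 (iv F8337)) (tt N2829 (iv D3825)))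
theorem Q3827 : ∀ i, i < 3827 → P i := stepQ 3826 Q3826 (allL N3826 (tt N3604 F6245) (tt N5113 (iv F8383)) (tt N2830 (iv D3826)) (tt N2831 F6246) (tt N5114 D5114) (tt N2830 (iv F6247)))
theorem Q3828 : ∀ i, i < 3828 → P i := stepQ 3827 Q3827 (allL N3827 (tt N3605 F6248) (tt N5112 (iv F8381)) (tt N5114 (iv F8386)) (tt N2836 F6249) (tt N2830 (iv D3827)) (tt N5115 D5115))
theorem Q3829 : ∀ i, i < 3829 → P i := stepQ 3828 Q3828 (allL N3828 (tt N3606 F6250) (tt N5090 (iv F8335)) (tt N2832 F6251) (tt N5116 D5116) (tt N2831 (iv D3828)) (tt N2838 F6252))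
theorem Q3830 : ∀ i, i < 3830 → P i := stepQ 3829 Q3829 (allL N3829 (tt N2834 F6253) (tt N4782 (iv F7786)) (tt N5049 (iv F8250)) (tt N2833 (iv D3829)) (tt N5117 D5117) (tt N5083 (iv F8322)))
theorem Q3831 : ∀ i, i < 3831 → P i := stepQ 3830 Q3830 (allL N3830 (tt N5049 (iv F8249)) (tt N5118 D5118) (tt N2834 (iv D3830)) (tt N5046 (iv F8245)) (tt N5119 D5119) (tt N5087 (iv F8332)))
theorem Q3832 : ∀ i, i < 3832 → P i := stepQ 3831 Q3831 (allL N3831 (tt N5117 (iv F8391)) (tt N2836 F6254) (tt N5119 (iv F8394)) (tt N5112 (iv F8382)) (tt N2834 (iv D3831)) (tt N5120 D5120))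
theorem Q3833 : ∀ i, i < 3833 → P i := stepQ 3832 Q3832 (allL N3832 (tt N5121 D5121) (tt N2835 (iv D3832)) (tt N5118 (iv F8392)) (tt N2925 F6255) (tt N5122 D5122) (tt N2927 F6256))
theorem Q3834 : ∀ i, i < 3834 → P i := stepQ 3833 Q3833 (allL N3833 (tt N4697 (iv F7658)) (tt N5122 (iv F8398)) (tt N2836 F6257) (tt N5123 D5123) (tt N2835 (iv D3833)) (tt N5124 D5124))
theorem Q3835 : ∀ i, i < 3835 → P i := stepQ 3834 Q3834 (allL N3834 (tt N4785 (iv F7788)) (tt N5120 (iv F8395)) (tt N5124 (iv F8400)) (tt N5115 (iv F8388)) (tt N5125 D5125) (tt N2836 (iv D3834)))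
theorem Q3836 : ∀ i, i < 3836 → P i := stepQ 3835 Q3835 (allL N3835 (tt N4695 (iv F7654)) (tt N5088 (iv F8333)) (tt N2928 F6258) (tt N5126 D5126) (tt N2837 (iv D3835)) (tt N5125 (iv F8403)))
theorem Q3837 : ∀ i, i < 3837 → P i := stepQ 3836 Q3836 (allL N3836 (tt N4780 (iv F7781)) (tt N5089 (iv F8334)) (tt N5127 D5127) (tt N2838 (iv D3836)) (tt N5126 (iv F8404)) (tt N5116 (iv F8390)))
theorem Q3838 : ∀ i, i < 3838 → P i := stepQ 3837 Q3837 (allL N3837 (tt N2840 F6259) (tt N2858 F6260) (tt N5128 D5128) (tt N2839 (iv D3837)) (tt N5086 (iv F8330)) (tt N5129 D5129))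
theorem Q3839 : ∀ i, i < 3839 → P i := stepQ 3838 Q3838 (allL N3838 (tt N2841 F6261) (tt N2859 F6262) (tt N5110 (iv F8380)) (tt N5129 (iv F8408)) (tt N5085 (iv F8327)) (tt N2839 (iv D3838)))
theorem Q3840 : ∀ i, i < 3840 → P i := stepQ 3839 Q3839 (allL N3839 (tt N5128 (iv F8405)) (tt N5130 D5130) (tt N2840 (iv D3839)) (tt N5131 D5131) (tt N5091 (iv F8338)) (tt N5132 D5132))
theorem Q3841 : ∀ i, i < 3841 → P i := stepQ 3840 Q3840 (allL N3840 (tt N5129 (iv F8406)) (tt N2843 F6263) (tt N5132 (iv F8412)) (tt N2841 F6264) (tt N5133 D5133) (tt N2840 (iv D3840)))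
theorem Q3842 : ∀ i, i < 3842 → P i := stepQ 3841 Q3841 (allL N3841 (tt N5134 D5134) (tt N2842 (iv D3841)) (tt N5130 (iv F8409)) (tt N2855 F6265) (tt N5092 (iv F8339)) (tt N2854 F6266))
theorem Q3843 : ∀ i, i < 3843 → P i := stepQ 3842 Q3842 (allL N3842 (tt N2867 F6267) (tt N5133 (iv F8413)) (tt N2856 F6268) (tt N5080 (iv F8311)) (tt N2843 (iv D3842)) (tt N5081 (iv F8316)))
theorem Q3844 : ∀ i, i < 3844 → P i := stepQ 3843 Q3843 (allL N3843 (tt N3817 F6269) (tt N2844 (iv D3843)) (tt N2877 F6270) (tt N3921 (iv F6404)) (tt N5135 D5135) (tt N3894 (iv F6343)))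
theorem Q3845 : ∀ i, i < 3845 → P i := stepQ 3844 Q3844 (allL N3844 (tt N2846 F6271) (tt N3921 (iv F6402)) (tt N4609 (iv F7503)) (tt N2844 (iv D3844)) (tt N5136 D5136) (tt N3898 (iv F6351)))
theorem Q3846 : ∀ i, i < 3846 → P i := stepQ 3845 Q3845 (allL N3845 (tt N2847 F6272) (tt N5135 (iv F8418)) (tt N2845 F6273) (tt N5137 D5137) (tt N2844 (iv D3845)) (tt N5138 D5138))
theorem Q3847 : ∀ i, i < 3847 → P i := stepQ 3846 Q3846 (allL N3846 (tt N2848 F6274) (tt N2879 F6275) (tt N5138 (iv F8423)) (tt N4900 (iv F8014)) (tt N3909 (iv F6374)) (tt N2845 (iv D3846)))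
theorem Q3848 : ∀ i, i < 3848 → P i := stepQ 3847 Q3847 (allL N3847 (tt N4609 (iv F7502)) (tt N3916 (iv F6389)) (tt N2846 (iv D3847)) (tt N3916 (iv F6390)) (tt N5139 D5139) (tt N3900 (iv F6357)))
theorem Q3849 : ∀ i, i < 3849 → P i := stepQ 3848 Q3848 (allL N3848 (tt N5136 (iv F8420)) (tt N3820 F6276) (tt N5139 (iv F8424)) (tt N5140 D5140) (tt N2846 (iv D3848)) (tt N5141 D5141))
theorem Q3850 : ∀ i, i < 3850 → P i := stepQ 3849 Q3849 (allL N3849 (tt N5137 (iv F8421)) (tt N3821 F6277) (tt N5142 D5142) (tt N2847 (iv D3849)) (tt N5140 (iv F8426)) (tt N5143 D5143))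
theorem Q3851 : ∀ i, i < 3851 → P i := stepQ 3850 Q3850 (allL N3850 (tt N5138 (iv F8422)) (tt N3822 F6278) (tt N2848 F6279) (tt N5143 (iv F8429)) (tt N3903 (iv F6363)) (tt N2847 (iv D3850)))
theorem Q3852 : ∀ i, i < 3852 → P i := stepQ 3851 Q3851 (allL N3851 (tt N2849 (iv D3851)) (tt N3542 F6280) (tt N2853 F6281) (tt N5144 D5144) (tt N3537 F6282) (tt N5145 D5145))
theorem Q3853 : ∀ i, i < 3853 → P i := stepQ 3852 Q3852 (allL N3852 (tt N5144 (iv F8430)) (tt N2850 F6283) (tt N5146 D5146) (tt N2849 (iv D3852)) (tt N5147 D5147) (tt N5148 D5148))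
theorem Q3854 : ∀ i, i < 3854 → P i := stepQ 3853 Q3853 (allL N3853 (tt N5145 (iv F8432)) (tt N2851 F6284) (tt N2855 F6285) (tt N5148 (iv F8439)) (tt N5149 D5149) (tt N2849 (iv D3853)))
theorem Q3855 : ∀ i, i < 3855 → P i := stepQ 3854 Q3854 (allL N3854 (tt N3545 F6286) (tt N5148 (iv F8438)) (tt N2850 (iv D3854)) (tt N2851 F6287) (tt N5150 D5150) (tt N2850 (iv F6288)))
theorem Q3856 : ∀ i, i < 3856 → P i := stepQ 3855 Q3855 (allL N3855 (tt N3546 F6289) (tt N5147 (iv F8436)) (tt N5150 (iv F8445)) (tt N3540 F6290) (tt N2850 (iv D3855)) (tt N5151 D5151))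
theorem Q3857 : ∀ i, i < 3857 → P i := stepQ 3856 Q3856 (allL N3856 (tt N3547 F6291) (tt N5149 (iv F8441)) (tt N2852 F6292) (tt N5152 D5152) (tt N2851 (iv D3856)) (tt N3541 F6293))
theorem Q3858 : ∀ i, i < 3858 → P i := stepQ 3857 Q3857 (allL N3857 (tt N2854 F6294) (tt N3577 F6295) (tt N5153 D5153) (tt N2853 (iv D3857)) (tt N5154 D5154) (tt N5134 (iv F8416)))
theorem Q3859 : ∀ i, i < 3859 → P i := stepQ 3858 Q3858 (allL N3858 (tt N2855 F6296) (tt N3578 F6297) (tt N5145 (iv F8434)) (tt N5134 (iv F8415)) (tt N5155 D5155) (tt N2853 (iv D3858)))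
theorem Q3860 : ∀ i, i < 3860 → P i := stepQ 3859 Q3859 (allL N3859 (tt N5153 (iv F8450)) (tt N5132 (iv F8411)) (tt N2854 (iv D3859)) (tt N5156 D5156) (tt N5157 D5157) (tt N5130 F8410))
theorem Q3861 : ∀ i, i < 3861 → P i := stepQ 3860 Q3860 (allL N3860 (tt N5154 (iv F8451)) (tt N2856 F6298) (tt N5157 (iv F8458)) (tt N3573 F6299) (tt N2854 (iv D3860)) (tt N5158 D5158))
theorem Q3862 : ∀ i, i < 3862 → P i := stepQ 3861 Q3861 (allL N3861 (tt N5155 (iv F8454)) (tt N2857 F6300) (tt N5149 (iv F8442)) (tt N5159 D5159) (tt N2855 (iv D3861)) (tt N3574 F6301))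
theorem Q3863 : ∀ i, i < 3863 → P i := stepQ 3862 Q3862 (allL N3862 (tt N3582 F6302) (tt N5158 (iv F8459)) (tt N5081 (iv F8314)) (tt N3575 F6303) (tt N5082 (iv F8319)) (tt N2856 (iv D3862)))
theorem Q3864 : ∀ i, i < 3864 → P i := stepQ 3863 Q3863 (allL N3863 (tt N3583 F6304) (tt N5159 (iv F8461)) (tt N3893 (iv F6339)) (tt N2857 (iv D3863)) (tt N5093 (iv F8342)) (tt N3576 F6305))
theorem Q3865 : ∀ i, i < 3865 → P i := stepQ 3864 Q3864 (allL N3864 (tt N2860 F6306) (tt N5160 D5160) (tt N2858 (iv D3864)) (tt N5161 D5161) (tt N5162 D5162) (tt N5163 D5163))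
theorem Q3866 : ∀ i, i < 3866 → P i := stepQ 3865 Q3865 (allL N3865 (tt N2861 F6307) (tt N5086 (iv F8329)) (tt N5162 (iv F8466)) (tt N2870 F6308) (tt N2858 (iv D3865)) (tt N5164 D5164))
theorem Q3867 : ∀ i, i < 3867 → P i := stepQ 3866 Q3866 (allL N3866 (tt N2862 F6309) (tt N5129 (iv F8407)) (tt N5163 (iv F8468)) (tt N2859 F6310) (tt N5165 D5165) (tt N2858 (iv D3866)))
theorem Q3868 : ∀ i, i < 3868 → P i := stepQ 3867 Q3867 (allL N3867 (tt N2863 F6311) (tt N5085 (iv F8326)) (tt N4871 (iv F7956)) (tt N5166 D5166) (tt N2859 (iv D3867)) (tt N2871 F6312))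
theorem Q3869 : ∀ i, i < 3869 → P i := stepQ 3868 Q3868 (allL N3868 (tt N5167 D5167) (tt N2860 (iv D3868)) (tt N2864 F6313) (tt N5168 D5168) (tt N5169 D5169) (tt N3579 (iv F6314)))
theorem Q3870 : ∀ i, i < 3870 → P i := stepQ 3869 Q3869 (allL N3869 (tt N5161 (iv F8463)) (tt N5168 (iv F8478)) (tt N5170 D5170) (tt N2860 (iv D3869)) (tt N5171 D5171) (tt N5172 D5172))
theorem Q3871 : ∀ i, i < 3871 → P i := stepQ 3870 Q3870 (allL N3870 (tt N5162 (iv F8465)) (tt N5169 (iv F8481)) (tt N2861 F6315) (tt N5173 D5173) (tt N2860 (iv D3870)) (tt N5174 D5174))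
theorem Q3872 : ∀ i, i < 3872 → P i := stepQ 3871 Q3871 (allL N3871 (tt N5163 (iv F8467)) (tt N3579 F6316) (tt N2862 F6317) (tt N5172 (iv F8486)) (tt N5175 D5175) (tt N2860 (iv D3871)))
theorem Q3873 : ∀ i, i < 3873 → P i := stepQ 3872 Q3872 (allL N3872 (tt N5164 (iv F8469)) (tt N2866 F6318) (tt N5174 (iv F8487)) (tt N2874 F6319) (tt N5176 D5176) (tt N2861 (iv D3872)))
theorem Q3874 : ∀ i, i < 3874 → P i := stepQ 3873 Q3873 (allL N3873 (tt N5165 (iv F8471)) (tt N2867 F6320) (tt N5175 (iv F8489)) (tt N5177 D5177) (tt N2862 (iv D3873)) (tt N5176 (iv F8491)))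
theorem Q3875 : ∀ i, i < 3875 → P i := stepQ 3874 Q3874 (allL N3874 (tt N5166 (iv F8472)) (tt N2868 F6321) (tt N5178 D5178) (tt N2863 (iv D3874)) (tt N5177 (iv F8493)) (tt N2875 F6322))
theorem Q3876 : ∀ i, i < 3876 → P i := stepQ 3875 Q3875 (allL N3875 (tt N2864 (iv D3875)) (tt N5134 (iv F8414)) (tt N5167 (iv F8474)) (tt N3578 F6323) (tt N5179 D5179) (tt N3577 F6324))
theorem Q3877 : ∀ i, i < 3877 → P i := stepQ 3876 Q3876 (allL N3876 (tt N5179 (iv F8495)) (tt N2865 F6325) (tt N5169 (iv F8482)) (tt N5180 D5180) (tt N2864 (iv D3876)) (tt N5181 D5181))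
theorem Q3878 : ∀ i, i < 3878 → P i := stepQ 3877 Q3877 (allL N3877 (tt N5093 (iv F8340)) (tt N5180 (iv F8496)) (tt N5045 (iv F8243)) (tt N2865 (iv D3877)) (tt N3583 F6326) (tt N5053 (iv F8256)))
theorem Q3879 : ∀ i, i < 3879 → P i := stepQ 3878 Q3878 (allL N3878 (tt N5082 (iv F8317)) (tt N5181 (iv F8498)) (tt N2866 F6327) (tt N5053 (iv F8257)) (tt N3582 F6328) (tt N2865 (iv D3878)))
theorem Q3880 : ∀ i, i < 3880 → P i := stepQ 3879 Q3879 (allL N3879 (tt N5081 (iv F8313)) (tt N5176 (iv F8490)) (tt N3582 F6329) (tt N5031 (iv F8213)) (tt N2866 (iv D3879)) (tt N2867 F6330))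
theorem Q3881 : ∀ i, i < 3881 → P i := stepQ 3880 Q3880 (allL N3880 (tt N5080 (iv F8309)) (tt N5177 (iv F8492)) (tt N5065 (iv F8281)) (tt N2867 (iv D3880)) (tt N2868 F6331) (tt N5031 (iv F8214)))
theorem Q3882 : ∀ i, i < 3882 → P i := stepQ 3881 Q3881 (allL N3881 (tt N4833 (iv F7896)) (tt N5182 D5182) (tt N2868 (iv D3881)) (tt N4803 (iv F7834)) (tt N5065 (iv F8283)) (tt N2876 F6332))
theorem Q3883 : ∀ i, i < 3883 → P i := stepQ 3882 Q3882 (allL N3882 (tt N5011 (iv F8177)) (tt N2869 (iv D3882)) (tt N5034 (iv F8220)) (tt N5183 D5183) (tt N5184 D5184) (tt N5009 F8175))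
theorem Q3884 : ∀ i, i < 3884 → P i := stepQ 3883 Q3883 (allL N3883 (tt N2872 F6333) (tt N5183 (iv F8501)) (tt N4796 (iv F7816)) (tt N2869 (iv D3883)) (tt N5185 D5185) (tt N4891 (iv F7997)))
theorem Q3885 : ∀ i, i < 3885 → P i := stepQ 3884 Q3884 (allL N3884 (tt N2873 F6334) (tt N5184 (iv F8502)) (tt N2870 F6335) (tt N5186 D5186) (tt N2869 (iv D3884)) (tt N5187 D5187))
theorem Q3886 : ∀ i, i < 3886 → P i := stepQ 3885 Q3885 (allL N3885 (tt N2874 F6336) (tt N5070 (iv F8294)) (tt N5187 (iv F8506)) (tt N5164 (iv F8470)) (tt N5027 (iv F8204)) (tt N2870 (iv D3885)))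
theorem Q3887 : ∀ i, i < 3887 → P i := stepQ 3886 Q3886 (allL N3886 (tt N2875 F6337) (tt N5068 (iv F8289)) (tt N5188 D5188) (tt N2871 (iv D3886)) (tt N5026 (iv F8201)) (tt N5166 (iv F8473)))
theorem Q3888 : ∀ i, i < 3888 → P i := stepQ 3887 Q3887 (allL N3887 (tt N4796 (iv F7813)) (tt N5189 D5189) (tt N2872 (iv D3887)) (tt N4795 F7812) (tt N5190 D5190) (tt N4888 (iv F7991)))
theorem Q3889 : ∀ i, i < 3889 → P i := stepQ 3888 Q3888 (allL N3888 (tt N5185 (iv F8503)) (tt N5024 (iv F8197)) (tt N5190 (iv F8508)) (tt N5191 D5191) (tt N2872 (iv D3888)) (tt N5192 D5192))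
theorem Q3890 : ∀ i, i < 3890 → P i := stepQ 3889 Q3889 (allL N3889 (tt N5186 (iv F8504)) (tt N5025 (iv F8198)) (tt N5193 D5193) (tt N2873 (iv D3889)) (tt N5191 (iv F8509)) (tt N5194 D5194))
theorem Q3891 : ∀ i, i < 3891 → P i := stepQ 3890 Q3890 (allL N3890 (tt N5187 (iv F8505)) (tt N5019 (iv F8192)) (tt N2874 F6338) (tt N5194 (iv F8510)) (tt N5016 (iv F8188)) (tt N2873 (iv D3890)))
theorem Q3892 : ∀ i, i < 3892 → P i := stepQ 3891 Q3891 (allL N3891 (tt N5188 (iv F8507)) (tt N5195 D5195) (tt N2875 (iv D3891)) (tt N5196 D5196) (tt N5028 (iv F8205)) (tt N5178 (iv F8494)))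
theorem Q3893 : ∀ i, i < 3893 → P i := stepQ 3892 Q3892 (allL N3892 (tt N5197 D5197) (tt N2876 (iv D3892)) (tt N5195 (iv F8511)) (tt N5198 D5198) (tt N5030 (iv F8209)) (tt N5182 (iv F8500)))
theorem Q3894 : ∀ i, i < 3894 → P i := stepQ 3893 Q3893 (allL N3893 (tt N4811 (iv F7846)) (tt N5198 (iv F8512)) (tt N3863 F6339) (tt N2876 (iv D3893)) (tt N5066 (iv F8285)) (tt N4803 (iv F7833)))
theorem Q3895 : ∀ i, i < 3895 → P i := stepQ 3894 Q3894 (allL N3894 (tt N2877 (iv D3894)) (tt N2880 F6340) (tt N3817 F6341) (tt N3528 F6342) (tt N5199 D5199) (tt N3843 F6343))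
theorem Q3896 : ∀ i, i < 3896 → P i := stepQ 3895 Q3895 (allL N3895 (tt N5199 (iv F8513)) (tt N2878 F6344) (tt N5135 (iv F8419)) (tt N5200 D5200) (tt N2877 (iv D3895)) (tt N5201 D5201))
theorem Q3897 : ∀ i, i < 3897 → P i := stepQ 3896 Q3896 (allL N3896 (tt N2884 F6345) (tt N5200 (iv F8516)) (tt N5202 D5202) (tt N2878 (iv D3896)) (tt N3530 F6346) (tt N5203 D5203))
theorem Q3898 : ∀ i, i < 3898 → P i := stepQ 3897 Q3897 (allL N3897 (tt N2885 F6347) (tt N5201 (iv F8518)) (tt N2879 F6348) (tt N5203 (iv F8522)) (tt N5104 (iv F8369)) (tt N2878 (iv D3897)))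
theorem Q3899 : ∀ i, i < 3899 → P i := stepQ 3898 Q3898 (allL N3898 (tt N2881 F6349) (tt N3528 F6350) (tt N3500 F6352) (tt N2880 (iv D3898)) (tt N5204 D5204) (tt N3844 F6351))
theorem Q3900 : ∀ i, i < 3900 → P i := stepQ 3899 Q3899 (allL N3899 (tt N2882 F6353) (tt N5199 (iv F8514)) (tt N2886 F6354) (tt N5205 D5205) (tt N2880 (iv D3899)) (tt N5206 D5206))
theorem Q3901 : ∀ i, i < 3901 → P i := stepQ 3900 Q3900 (allL N3900 (tt N3500 F6355) (tt N3498 F6356) (tt N2881 (iv D3900)) (tt N3498 F6358) (tt N5207 D5207) (tt N3847 F6357))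
theorem Q3902 : ∀ i, i < 3902 → P i := stepQ 3901 Q3901 (allL N3901 (tt N5204 (iv F8523)) (tt N2883 F6359) (tt N5207 (iv F8532)) (tt N5208 D5208) (tt N2881 (iv D3901)) (tt N5209 D5209))
theorem Q3903 : ∀ i, i < 3903 → P i := stepQ 3902 Q3902 (allL N3902 (tt N5205 (iv F8526)) (tt N2884 F6360) (tt N5210 D5210) (tt N2882 (iv D3902)) (tt N5208 (iv F8534)) (tt N5211 D5211))
theorem Q3904 : ∀ i, i < 3904 → P i := stepQ 3903 Q3903 (allL N3903 (tt N5206 (iv F8527)) (tt N2885 F6361) (tt N2888 F6362) (tt N5211 (iv F8538)) (tt N3850 F6363) (tt N2882 (iv D3903)))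
theorem Q3905 : ∀ i, i < 3905 → P i := stepQ 3904 Q3904 (allL N3904 (tt N3530 F6364) (tt N5208 (iv F8533)) (tt N5212 D5212) (tt N2883 (iv D3904)) (tt N2884 F6365) (tt N5213 D5213))
theorem Q3906 : ∀ i, i < 3906 → P i := stepQ 3905 Q3905 (allL N3905 (tt N3531 F6366) (tt N5209 (iv F8535)) (tt N3527 F6367) (tt N5213 (iv F8542)) (tt N5106 (iv F8374)) (tt N2883 (iv D3905)))
theorem Q3907 : ∀ i, i < 3907 → P i := stepQ 3906 Q3906 (allL N3906 (tt N5202 (iv F8519)) (tt N5214 D5214) (tt N2884 (iv D3906)) (tt N5215 D5215) (tt N5212 (iv F8540)) (tt N5216 D5216))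
theorem Q3908 : ∀ i, i < 3908 → P i := stepQ 3907 Q3907 (allL N3907 (tt N5203 (iv F8521)) (tt N5211 (iv F8537)) (tt N5216 (iv F8545)) (tt N2885 F6368) (tt N5217 D5217) (tt N2884 (iv D3907)))
theorem Q3909 : ∀ i, i < 3909 → P i := stepQ 3908 Q3908 (allL N3908 (tt N2887 F6369) (tt N3809 F6370) (tt N5218 D5218) (tt N2886 (iv D3908)) (tt N3766 F6371) (tt N5219 D5219))
theorem Q3910 : ∀ i, i < 3910 → P i := stepQ 3909 Q3909 (allL N3909 (tt N2888 F6372) (tt N3819 F6373) (tt N5206 (iv F8528)) (tt N5219 (iv F8551)) (tt N3846 F6374) (tt N2886 (iv D3909)))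
theorem Q3911 : ∀ i, i < 3911 → P i := stepQ 3910 Q3910 (allL N3910 (tt N5218 (iv F8547)) (tt N5220 D5220) (tt N2887 (iv D3910)) (tt N5221 D5221) (tt N3767 F6375) (tt N5222 D5222))
theorem Q3912 : ∀ i, i < 3912 → P i := stepQ 3911 Q3911 (allL N3911 (tt N5219 (iv F8549)) (tt N2890 F6376) (tt N5222 (iv F8554)) (tt N2888 F6377) (tt N5223 D5223) (tt N2887 (iv D3911)))
theorem Q3913 : ∀ i, i < 3913 → P i := stepQ 3912 Q3912 (allL N3912 (tt N5224 D5224) (tt N2889 (iv D3912)) (tt N5220 (iv F8552)) (tt N5225 D5225) (tt N3768 F6378) (tt N5226 D5226))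
theorem Q3914 : ∀ i, i < 3914 → P i := stepQ 3913 Q3913 (allL N3913 (tt N3815 F6379) (tt N5225 (iv F8560)) (tt N4830 (iv F7890)) (tt N2889 (iv D3913)) (tt N3780 F6380) (tt N4831 (iv F7895)))
theorem Q3915 : ∀ i, i < 3915 → P i := stepQ 3914 Q3914 (allL N3914 (tt N3816 F6381) (tt N5226 (iv F8562)) (tt N2890 F6382) (tt N4831 (iv F7893)) (tt N3779 F6383) (tt N2889 (iv D3914)))
theorem Q3916 : ∀ i, i < 3916 → P i := stepQ 3915 Q3915 (allL N3915 (tt N3672 F6384) (tt N5223 (iv F8555)) (tt N3779 F6385) (tt N3597 F6386) (tt N2890 (iv D3915)) (tt N3596 F6387))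
theorem Q3917 : ∀ i, i < 3917 → P i := stepQ 3916 Q3916 (allL N3916 (tt N3429 F6388) (tt N3847 F6389) (tt N2891 (iv D3916)) (tt N3847 F6390) (tt N5227 D5227) (tt N3498 F6391))
theorem Q3918 : ∀ i, i < 3918 → P i := stepQ 3917 Q3917 (allL N3917 (tt N3432 F6392) (tt N2893 F6393) (tt N5227 (iv F8566)) (tt N5228 D5228) (tt N2891 (iv D3917)) (tt N5229 D5229))
theorem Q3919 : ∀ i, i < 3919 → P i := stepQ 3918 Q3918 (allL N3918 (tt N3453 F6394) (tt N2894 F6395) (tt N5230 D5230) (tt N2892 (iv D3918)) (tt N5228 (iv F8569)) (tt N3264 F6396))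
theorem Q3920 : ∀ i, i < 3920 → P i := stepQ 3919 Q3919 (allL N3919 (tt N2897 F6397) (tt N5228 (iv F8568)) (tt N3285 (iv F6399)) (tt N2893 (iv D3919)) (tt N2894 F6398) (tt N5231 D5231))
theorem Q3921 : ∀ i, i < 3921 → P i := stepQ 3920 Q3920 (allL N3920 (tt N2898 F6400) (tt N5229 (iv F8571)) (tt N5106 (iv F8373)) (tt N5231 (iv F8578)) (tt N3527 F6401) (tt N2893 (iv D3920)))
theorem Q3922 : ∀ i, i < 3922 → P i := stepQ 3921 Q3921 (allL N3921 (tt N2895 (iv D3921)) (tt N3844 F6402) (tt N3394 F6403) (tt N3843 F6404) (tt N5232 D5232) (tt N3528 F6405))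
theorem Q3923 : ∀ i, i < 3923 → P i := stepQ 3922 Q3922 (allL N3922 (tt N5232 (iv F8580)) (tt N2896 F6406) (tt N3395 F6407) (tt N5233 D5233) (tt N2895 (iv D3922)) (tt N5234 D5234))
theorem Q3924 : ∀ i, i < 3924 → P i := stepQ 3923 Q3923 (allL N3923 (tt N5105 (iv F8370)) (tt N5233 (iv F8583)) (tt N5235 D5235) (tt N2896 (iv D3923)) (tt N5103 (iv F8366)) (tt N5236 D5236))
theorem Q3925 : ∀ i, i < 3925 → P i := stepQ 3924 Q3924 (allL N3924 (tt N5106 (iv F8372)) (tt N5234 (iv F8584)) (tt N2898 F6408) (tt N5236 (iv F8587)) (tt N3531 F6409) (tt N2896 (iv D3924)))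
theorem Q3926 : ∀ i, i < 3926 → P i := stepQ 3925 Q3925 (allL N3925 (tt N3285 F6410) (tt N5237 D5237) (tt N2897 (iv D3925)) (tt N5238 D5238) (tt N2899 F6411) (tt N5239 D5239))
theorem Q3927 : ∀ i, i < 3927 → P i := stepQ 3926 Q3926 (allL N3926 (tt N5231 (iv F8576)) (tt N3486 F6412) (tt N5239 (iv F8593)) (tt N2898 F6413) (tt N3272 F6414) (tt N2897 (iv D3926)))
theorem Q3928 : ∀ i, i < 3928 → P i := stepQ 3927 Q3927 (allL N3927 (tt N5240 D5240) (tt N2899 (iv D3927)) (tt N3484 F6415) (tt N3277 F6416) (tt N5237 (iv F8589)) (tt N3273 F6417))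
theorem Q3929 : ∀ i, i < 3929 → P i := stepQ 3928 Q3928 (allL N3928 (tt N2900 (iv D3928)) (tt N2909 F6418) (tt N2946 F6419) (tt N5241 D5241) (tt N2904 F6420) (tt N5242 D5242))
theorem Q3930 : ∀ i, i < 3930 → P i := stepQ 3929 Q3929 (allL N3929 (tt N5241 (iv F8599)) (tt N2901 F6421) (tt N5243 D5243) (tt N2900 (iv D3929)) (tt N5244 D5244) (tt N3315 (iv F6422)))
theorem Q3931 : ∀ i, i < 3931 → P i := stepQ 3930 Q3930 (allL N3930 (tt N5242 (iv F8602)) (tt N2902 F6423) (tt N2948 F6424) (tt N3315 F6425) (tt N5245 D5245) (tt N2900 (iv D3930)))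
theorem Q3932 : ∀ i, i < 3932 → P i := stepQ 3931 Q3931 (allL N3931 (tt N2913 F6426) (tt N5244 (iv F8609)) (tt N3318 F6427) (tt N2907 F6428) (tt N2901 (iv D3931)) (tt N5246 D5246))
theorem Q3933 : ∀ i, i < 3933 → P i := stepQ 3932 Q3932 (allL N3932 (tt N2915 F6429) (tt N5245 (iv F8612)) (tt N2903 F6430) (tt N5247 D5247) (tt N2902 (iv D3932)) (tt N2908 F6431))

end Cfsg.Agent.Helper17.ONS1TC
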